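import Cfsg.Agent.Lib.Lie.GTwoFourMult.Ternary
import Cfsg.Agent.Lib.Lie.GTwoFourMult.Objects
import Cfsg.Agent.Lib.Lie.GTwoFourHallJanko.Data

/-!
Checks of the matrices of the double cover of the group of type G2 over four elements.
-/

set_option autoImplicit false
set_option maxRecDepth 100000
set_option maxHeartbeats 0
set_option Elab.async false

namespace Cfsg.Agent.Lie.GTwoFourMult

open Cfsg.Agent.Lie PermCover
open Cfsg.Agent.Lie.PermNine (pg)

/-- The identity matrix, packed. -/
def oneN : ℕ := 0x800000400000200000100000080000040000020000010000008000004000002000001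

/-- Minus the identity, packed. -/
def negN : ℕ := 0x800000400000200000100000080000040000020000010000008000004000002000001000

/-- A point of the pair of generators. -/
def pairP (s : ℕ) : ℕ := (pairE.getD s (0, 0, [])).1

/-- A lift carries a structure to the image. -/
def carryJ (i : ℕ) : Bool :=
  matOK (objN.getD i 0) && [0, 1].all fun s => Nat.blt (pg (pairP s) i) 416 &&
    prodEq (liftN.getD s 0) (objN.getD i 0) (objN.getD (pg (pairP s) i) 0) (liftN.getD s 0)

theorem carry0 : ((List.range 52).all fun i => carryJ (Nat.add 0 i)) = true := by decide +kernel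

theorem carry1 : ((List.range 52).all fun i => carryJ (Nat.add 52 i)) = true := by decide +kernel

theorem carry2 : ((List.range 52).all fun i => carryJ (Nat.add 104 i)) = true := by decide +kernel

theorem carry3 : ((List.range 52).all fun i => carryJ (Nat.add 156 i)) = true := by decide +kernel

theorem carry4 : ((List.range 52).all fun i => carryJ (Nat.add 208 i)) = true := by decide +kernel

theorem carry5 : ((List.range 52).all fun i => carryJ (Nat.add 260 i)) = true := by decide +kernel

theorem carry6 : ((List.range 52).all fun i => carryJ (Nat.add 312 i)) = true := by decide +kernel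

theorem carry7 : ((List.range 52).all fun i => carryJ (Nat.add 364 i)) = true := by decide +kernel

theorem carry_all : ∀ i < 416, carryJ i = true := by
  intro i hi
  by_cases h0 : i < 52
  · have := List.all_eq_true.1 carry0 (i - 0) (List.mem_range.2 (by omega)); rwa [show Nat.add 0 (i - 0) = i from Nat.add_sub_cancel' (by omega)] at this
  by_cases h1 : i < 104
  · have := List.all_eq_true.1 carry1 (i - 52) (List.mem_range.2 (by omega)); rwa [show Nat.add 52 (i - 52) = i from Nat.add_sub_cancel' (by omega)] at this
  by_cases h2 : i < 156
  · have := List.all_eq_true.1 carry2 (i - 104) (List.mem_range.2 (by omega)); rwa [show Nat.add 104 (i - 104) = i from Nat.add_sub_cancel' (by omega)] at this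
  by_cases h3 : i < 208
  · have := List.all_eq_true.1 carry3 (i - 156) (List.mem_range.2 (by omega)); rwa [show Nat.add 156 (i - 156) = i from Nat.add_sub_cancel' (by omega)] at this
  by_cases h4 : i < 260
  · have := List.all_eq_true.1 carry4 (i - 208) (List.mem_range.2 (by omega)); rwa [show Nat.add 208 (i - 208) = i from Nat.add_sub_cancel' (by omega)] at this
  by_cases h5 : i < 312
  · have := List.all_eq_true.1 carry5 (i - 260) (List.mem_range.2 (by omega)); rwa [show Nat.add 260 (i - 260) = i from Nat.add_sub_cancel' (by omega)] at this
  by_cases h6 : i < 364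
  · have := List.all_eq_true.1 carry6 (i - 312) (List.mem_range.2 (by omega)); rwa [show Nat.add 312 (i - 312) = i from Nat.add_sub_cancel' (by omega)] at this
  have := List.all_eq_true.1 carry7 (i - 364) (List.mem_range.2 (by omega)); rwa [show Nat.add 364 (i - 364) = i from Nat.add_sub_cancel' (by omega)] at this

theorem basics : matOK oneN = true ∧ matOK negN = true ∧ ([0, 1].all fun s => matOK (liftN.getD s 0) && matOK (liftI.getD s 0) &&
    prodIs (liftN.getD s 0) (liftI.getD s 0) oneN && prodIs (liftI.getD s 0) (liftN.getD s 0) oneN) = true := by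
  decide +kernel

theorem mat_one : (∀ i j : Fin 12, rv (rowM oneN i) j = if i = j then 1 else 0) ∧
    ∀ i j : Fin 12, rv (rowM negN i) j = if i = j then -1 else 0 := by decide +kernel

theorem pair_ok : pairE.all (elemOK 416 Cfsg.Agent.Lie.GTwoFourHallJanko.baseP) = true ∧ pairE.length = 2 := by
  decide +kernel

theorem base_words : ∀ s : Fin 6, (baseW.getD s []).all (fun q => Nat.blt q 2) = true ∧
    (List.range 416).all (fun k => Nat.beq (pg (Cfsg.Agent.Lie.GTwoFourHallJanko.baseP.getD s 0) k)
      (imgW pairE (baseW.getD s []) k)) = true := by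
  decide +kernel

/-- The products along the word. -/
def chainOK (i : ℕ) : Bool :=
  matOK (negC.getD i 0) && prodIs (liftN.getD (negW.getD (negW.length - 1 - i) 0) 0) (negC.getD i 0) (negC.getD (i + 1) 0)

theorem neg_chain : ((List.range negW.length).all chainOK && Nat.beq (negC.getD 0 0) oneN &&
    Nat.beq (negC.getD negW.length 0) negN && negW.all (fun q => Nat.blt q 2)) = true := by
  decide +kernel

theorem neg_word : (List.range 416).all (fun k => Nat.beq (imgW pairE negW k) k) = true := by decide +kernel

theorem neg_period : negW = (negW.take 6) ++ (negW.take 6) ++ (negW.take 6) ++ (negW.take 6) ++ (negW.take 6) ++ (negW.take 6) := by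
  decide +kernel

/-- A sum of commutators with the four structures. -/
def commOK4 (e : ℕ × List (ℕ × ℕ)) : Bool :=
  (e.2.all fun p => Nat.blt p.1 4) && commIs (e.2.map fun p => (objN.getD (fourB.getD p.1 0) 0, p.2)) e.1

theorem comm_all : commC.all commOK4 = true ∧ commC.length = 144 ∧ (∀ t : Fin 4, fourB.getD t 0 < 416) := by decide +kernel

theorem comm_targets : ∀ i j : Fin 12, ∀ a b : Fin 12,
    rv (rowM (commC.getD (12 * (i : ℕ) + j) (0, [])).1 a) b = (if a = j ∧ b = i then 1 else 0) - (if i = j ∧ a = 0 ∧ b = 0 then 1 else 0) := by
  decide +kernel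

end Cfsg.Agent.Lie.GTwoFourMult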