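import Cfsg.Agent.Lib.Lie.PermCover
import Cfsg.Agent.Lib.Lie.GTwoFourHallJanko.Data

/-!
A central table on a Sylow 5-subgroup of the group of type G2 over four elements (generated).
-/

set_option autoImplicit false
set_option maxRecDepth 100000
set_option maxHeartbeats 0
set_option Elab.async false

namespace Cfsg.Agent.Lie.GTwoFourMult

open Cfsg.Agent.Lie PermCover
open Cfsg.Agent.Lie.GTwoFourHallJanko (baseP baseB)

/-- the code of the identity -/
def fiveOne : ℕ := 206695825920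

/-- generators of the subgroup -/
def fiveGens : List Elem := [(0x7f0391d42b0076d308af106099f039d03f0d7a3ce6f145fd32c71652919985a2ca83087d025000a673ace264e5aed62dce39cb5689546720814c41aac4755797cac92f85741c20160f134586e8eb916ac1be60e0d303c59132b66d1580d3f8ca7d0b2a21890f65f37bea9f3d2ba3cc04fb45cf3b2857be714873be5612eda1acf12b9ae27accfc2f320ec0fc7ab6cecd549b4323818ddb0d34a9176e8034d030d111cc1f05ea8b599b1aa4560e4510153c56f26523daae03dce23002b019d88c305ccdfcd44e688edfa1a4c3706ee1045430025691a5bea68d8718ebe74db1874ba40ca4b7126408d8cf7617088714b5c9172478c71bb4160160139232154e71f2898a7c97c0bd46d6511db7291798a491a266ba0d553c2948a307905c99a949c82af043e3f26c22637906da06ba2cb6a614214e9c0fb10b090391c38a53b975e1feab10170fc9588a32d21f9345329dcd997212becb90ca5ad476db14a80d9dd6a6ce793ac9cc5b50bae1d7dbf1229b339ac2c262b0be798d1e150d0e412715e040b748361fe2277cb2b27089b4ef4c913e3912bb4a65a9c18b0941d120a55d5e0de25c311123bdbda14935e8c0047a43617377720254a62dade69ee457527146155140d018ca8aea358b48d5adeb8890f20000,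 0xca14a72fb0e859e70f420da64b13c301109f918ea120c044d65a7c43c643d81ab2756ee57916cb957138f6024a0e4685d159d329a8fd02dd564da85bfb333b90ca56952c4bd8679b38e5eef2b0b9988376b4019037048c5c16e6a08d4b38a6c0bd40d7361ed277197e71897ea62e680a833a3ae77ac6994af182c5e55f54b39cd2442b3520dd3831a89aac814298de305e142b6c66f82696a558622058c1f80e20803c977202a2b0966398b1555e9950734a080122e7ddb284650a6d640a8996d8fc725d8e2d219d660cf2f04db63132186f15aba12dd08d708b18aea35d3ce846559b6e4a11f38dde95685be4185381d879266e944d56c6ca2ab0c3c5b7046831c02a580424542b27a9718ad4f89bd8e45074f2a63f0c81b830f080883cbf82a54a90a124d44ea2eb5c32c3437122b80e479f6755afa649dc72299a07e9272555b9120d4126f010ea2881495399c96f7925e9359840a1d723cd14a3c5c511be42a00bf4c2e9eb3da249e2cce3061306c29fd397c690ca9d76329e3c2bcd3159f6ca5a7fe1828cda3a3f2c1b3f271f802775a60d1c74ad6d64e7bb5a3622869fc315d2a13d0d051dab1c946599111649c8d7f34de4b3b23a3429d8020902a931336192678d11251db582e7c9d36fb7f8a085f200, [0, 1, 0, 1, 0, 2, 5, 1, 0,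 2, 3, 4, 3, 2, 5, 3, 2, 1, 0, 3, 2, 3, 4, 3, 5, 1, 2, 1, 0, 3, 4, 1, 0, 1, 3, 5, 1, 5, 3, 4, 2, 3, 2, 1, 0, 1, 2, 1, 4, 3, 2, 1, 0, 1, 2, 3, 4, 3, 2, 3, 5, 1, 0, 1, 2, 3, 0, 1, 2, 3, 1, 0, 1, 0, 2, 1, 3, 2, 3, 2]),
  (0x6a4e4ed75ab5351263269612aa1164120b1985c18b6538d8da5f164f296234f729aa82bc385528b8ead0f5d8aa3664910116a990e313a36442168ce51103691f4df28a6a1c371983401ca8f318f3a8ee741d5e16e9abbb80f0cd33be8fb9643b61baac813c9715f265baf930209d5db08ccdca4b7abf5316b482586a7a9b69816ce275789b1b38930f0108b2b4b538340a028db2c073030ed746975321794c76cab44c1f30d0f7d954c12717e046ad0475459f35cddc47f281720a7f2289640456b1c9016d82ba094fc6b920e234a770c8106dc51804a4aecf3bdccbb04ceef33483989cecc5802dc6374a09030685eafc9ec9a8108c35799151b39518944b8909f3def6966211114b1b7d84beada01bf134ab13fc8b989d249565e4880b0ac5a5bd9e36495d9b260f0d9cdd3580248438167732ac67f151a4b4f49548d8f5e2387c907a435723f884bda9d75d7162dc901bee5c1a230942574d260bd600497984f14e8510cc60fd0f3221c93b836b002baca318c65195cd1f6d5228109177caa73f6cb04603a2d8a8ee66b3373e1f93c8555708b9bb30a8549062ca064e230a53a439b1e71f4e3327d7d7f673c218fe144400cd19736dac8528164079a8e5480f1410e744019a985586df6f128f6cbadaa0ae00,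 0x24b7c1d6b7f85276a83953181654cddadcf614df253613b1955a7c8cc354239b03c20c59124dce7415cce1b356a98df38ef294e9fc5b59d08a0487a1ead16c96a6a229c46aad6447a2210f07e01decae946266c757e0584a04c7c20a335364fab06934aedbefb6ab18d702af7caee623c6d29f3d28b30ae00d820b0eb940c486e451c4da1e26fc8449e72eb433e124e63ed6e2413c5ba72046266208610b83df0a1e86176c421c78ecdd3c6be3b239218d1ce86955080c03d85d38963e5d278d48833d193a226f23e7b793cd692a646ab770675689ddcf520401e92e40d169834a8c066e79f979b039048088ea0d402239905e4295540b7048d8d71a6509597806e1b47145aabc66b10200c968d395b81614852de09402745930c4f7198f284e1361c5b21985522b0f3dae32acf2e29946bc28c0e2e56922d73375a59fc304d72bead35f463b69b0e02a005551ace767d584b57ae37f570fe3b777660914cca789ca972cc3598b0958a922cbdc6a242d9600c8e14c2c63857c17648c32f4399818d081418bd52b61631a7ef27ed9ef5262155de6ea6862a0b203114d7e6183bec89932c22c5c1f964a9dcce383d41e0d4117c8a914bcc818cd8a240151f331bee96d4c46ce23369479b725088765c930aa89c400, [3, 4, 3, 1, 2, 1, 3, 2, 3,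 4, 1, 2, 3, 4, 5, 2, 1, 0, 1, 3, 5, 1, 2, 3, 2, 1, 0, 1, 5, 3, 4, 0, 1, 0, 1, 2, 3, 2, 1, 0, 1, 0, 4, 3, 5, 1, 5, 0, 1, 2, 3, 2, 1, 5, 3, 2, 3, 4, 3, 2, 3, 5, 1, 2, 3, 2, 1, 0, 5])]

def fiveElt : Janko.Tree (ℕ) :=
  (.node (.node (.node (.node (.node (.leaf 206695825920) (.leaf 6735204549632)) (.node (.leaf 25110297863680) (.leaf 19605266524672))) (.node (.node (.leaf 1104347436544) (.leaf 14746544794624)) (.leaf 12281386414080))) (.node (.node (.node (.leaf 1462881600512) (.leaf 1595650768384)) (.leaf 18853848547328)) (.node (.node (.leaf 844953340416) (.leaf 7505927301632)) (.leaf 23872948710912)))) (.node (.node (.node (.node (.leaf 19017989747200) (.leaf 3460030737408)) (.leaf 19679244628480)) (.node (.node (.leaf 699568811520) (.leaf 5712317683712)) (.leaf 5502326833664))) (.node (.node (.node (.leaf 27245430074368) (.leaf 12833037030400)) (.leaf 3521254565888)) (.node (.node (.leaf 24301806835200) (.leaf 1721631708160)) (.leaf 17017408639488)))))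

def fiveNext : Janko.Tree (ℕ) :=
  (.node (.node (.node (.node (.node (.node (.leaf 1) (.leaf 19)) (.node (.leaf 12) (.leaf 14))) (.node (.node (.leaf 7) (.leaf 22)) (.leaf 16))) (.node (.node (.node (.leaf 4) (.leaf 21)) (.leaf 0)) (.node (.node (.leaf 10) (.leaf 9)) (.leaf 18)))) (.node (.node (.node (.node (.leaf 3) (.leaf 20)) (.leaf 13)) (.node (.node (.leaf 8) (.leaf 23)) (.leaf 17))) (.node (.node (.node (.leaf 6) (.leaf 5)) (.leaf 15)) (.node (.node (.leaf 11) (.leaf 24)) (.leaf 2))))) (.node (.node (.node (.node (.node (.leaf 2) (.leaf 20)) (.node (.leaf 13) (.leaf 10))) (.node (.node (.leaf 8) (.leaf 23)) (.leaf 17))) (.node (.node (.node (.leaf 5) (.leaf 1)) (.leaf 15)) (.node (.node (.leaf 11) (.leaf 24)) (.leaf 0)))) (.node (.node (.node (.node (.leaf 4) (.leaf 21)) (.leaf 14)) (.node (.node (.leaf 9) (.leaf 3)) (.leaf 18))) (.node (.node (.node (.leaf 7) (.leaf 22)) (.leaf 16)) (.node (.node (.leaf 12) (.leaf 6)) (.leaf 19))))))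

def fiveWord : Janko.Tree (ℕ) :=
  (.node (.node (.node (.node (.node (.leaf 1) (.leaf 1048593)) (.node (.leaf 4113) (.leaf 4294971665))) (.node (.node (.leaf 257) (.leaf 16777489)) (.leaf 65553))) (.node (.node (.node (.leaf 17) (.leaf 1052945)) (.leaf 65536)) (.node (.node (.leaf 4096) (.leaf 268435729)) (.leaf 69905)))) (.node (.node (.node (.node (.leaf 16) (.leaf 1048849)) (.leaf 4369)) (.node (.node (.leaf 273) (.leaf 16781585)) (.leaf 65809))) (.node (.node (.node (.leaf 256) (.leaf 16777233)) (.leaf 65537)) (.node (.node (.leaf 4097) (.leaf 268439825)) (.leaf 1048577)))))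

def fivePar : Janko.Tree (ℕ) :=
  (.node (.node (.node (.node (.node (.leaf 0) (.leaf 177)) (.node (.leaf 65) (.leaf 353))) (.node (.node (.leaf 17) (.leaf 257)) (.leaf 113))) (.node (.node (.node (.leaf 1) (.leaf 209)) (.leaf 96)) (.node (.node (.leaf 48) (.leaf 305)) (.leaf 145)))) (.node (.node (.node (.node (.leaf 0) (.leaf 193)) (.leaf 81)) (.node (.node (.leaf 33) (.leaf 273)) (.leaf 129))) (.node (.node (.node (.leaf 16) (.leaf 241)) (.leaf 97)) (.node (.node (.leaf 49) (.leaf 321)) (.leaf 161)))))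

def fiveL : Janko.Tree (List ℤ) :=
  (.node (.node (.node (.node (.node (.node (.leaf []) (.leaf [3, 3, -3])) (.node (.leaf [3, 3, -3]) (.leaf [-28, -29, 29]))) (.node (.node (.leaf [-1, -1, 1]) (.leaf [7, 7, -7])) (.leaf [3, 3, -3]))) (.node (.node (.node (.leaf [-1, -1, 1]) (.leaf [11, 11, -11])) (.node (.leaf [1]) (.leaf [0, 0, 1]))) (.node (.node (.leaf []) (.leaf [-12, -13, 13])) (.leaf [-4, -4, 4])))) (.node (.node (.node (.node (.leaf []) (.leaf [7, 7, -7])) (.node (.leaf [-8, -8, 8]) (.leaf [1, 0, 0]))) (.node (.node (.leaf [3, 3, -3]) (.leaf [11, 11, -11])) (.leaf [7, 7, -7]))) (.node (.node (.node (.leaf []) (.leaf [-11, -12, 12])) (.node (.leaf [-1, -1, 1]) (.leaf [8, 8, -7]))) (.node (.node (.leaf [-1, -1, 1]) (.leaf [11, 11, -11])) (.leaf [0, -1, 1]))))) (.node (.node (.node (.node (.node (.leaf []) (.leaf [])) (.node (.leaf []) (.leaf [0, 1]))) (.node (.node (.leaf []) (.leaf [])) (.leaf []))) (.node (.node (.node (.leaf []) (.leaf [0, 1]))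 (.node (.leaf []) (.leaf [4, 4, -3]))) (.node (.node (.leaf []) (.leaf [])) (.leaf [0, 1])))) (.node (.node (.node (.node (.leaf []) (.leaf [])) (.node (.leaf []) (.leaf [0, 1, 0]))) (.node (.node (.leaf []) (.leaf [0, 1])) (.leaf []))) (.node (.node (.node (.leaf []) (.leaf [])) (.node (.leaf []) (.leaf [-3, -3, 4]))) (.node (.node (.leaf []) (.leaf [0, 1])) (.leaf []))))))

def fiveKind : Janko.Tree (ℕ) :=
  (.node (.node (.node (.node (.node (.node (.leaf 0) (.leaf 3)) (.node (.leaf 3) (.leaf 3))) (.node (.node (.leaf 3) (.leaf 3)) (.leaf 3))) (.node (.node (.node (.leaf 3) (.leaf 3)) (.node (.leaf 3) (.leaf 2))) (.node (.node (.leaf 0) (.leaf 3)) (.leaf 3)))) (.node (.node (.node (.node (.leaf 0) (.leaf 3)) (.node (.leaf 3) (.leaf 2))) (.node (.node (.leaf 3) (.leaf 3)) (.leaf 3))) (.node (.node (.node (.leaf 0) (.leaf 3)) (.node (.leaf 3) (.leaf 3))) (.node (.node (.leaf 3) (.leaf 3)) (.leaf 3))))) (.node (.node (.node (.node (.node (.leaf 0) (.leaf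 0)) (.node (.leaf 0) (.leaf 3))) (.node (.node (.leaf 0) (.leaf 0)) (.leaf 0))) (.node (.node (.node (.leaf 0) (.leaf 3)) (.node (.leaf 0) (.leaf 3))) (.node (.node (.leaf 0) (.leaf 0)) (.leaf 3)))) (.node (.node (.node (.node (.leaf 0) (.leaf 0)) (.node (.leaf 0) (.leaf 2))) (.node (.node (.leaf 0) (.leaf 3)) (.leaf 0))) (.node (.node (.node (.leaf 0) (.leaf 0)) (.node (.leaf 0) (.leaf 3))) (.node (.node (.leaf 0) (.leaf 3)) (.leaf 0))))))

def fiveRank : Janko.Tree (ℕ) :=
  (.node (.node (.node (.node (.node (.node (.leaf 0) (.leaf 39)) (.node (.leaf 53) (.leaf 46))) (.node (.node (.leaf 35) (.leaf 41)) (.leaf 52))) (.node (.node (.node (.leaf 36) (.leaf 45)) (.node (.leaf 25) (.leaf 32))) (.node (.node (.leaf 9) (.leaf 50)) (.leaf 47)))) (.node (.node (.node (.node (.leaf 2) (.leaf 48)) (.node (.leaf 51) (.leaf 24))) (.node (.node (.leaf 55) (.leaf 44)) (.leaf 49))) (.node (.node (.node (.leaf 5) (.leaf 54)) (.node (.leaf 33) (.leaf 42))) (.node (.node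 (.leaf 34) (.leaf 43)) (.leaf 38))))) (.node (.node (.node (.node (.node (.leaf 1) (.leaf 19)) (.node (.leaf 12) (.leaf 27))) (.node (.node (.leaf 7) (.leaf 22)) (.leaf 16))) (.node (.node (.node (.leaf 4) (.leaf 30)) (.node (.leaf 14) (.leaf 40))) (.node (.node (.leaf 10) (.leaf 23)) (.leaf 31)))) (.node (.node (.node (.node (.leaf 3) (.leaf 20)) (.node (.leaf 13) (.leaf 26))) (.node (.node (.leaf 8) (.leaf 29)) (.leaf 17))) (.node (.node (.node (.leaf 6) (.leaf 21)) (.node (.leaf 15) (.leaf 37))) (.node (.node (.leaf 11) (.leaf 28)) (.leaf 18))))))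

def fiveVia : Janko.Tree (ℕ × ℕ) :=
  (.node (.node (.node (.node (.node (.node (.leaf (0, 0)) (.leaf (2, 15))) (.node (.leaf (5, 17)) (.leaf (3, 18)))) (.node (.node (.leaf (2, 3)) (.leaf (3, 15))) (.leaf (5, 20)))) (.node (.node (.node (.leaf (2, 1)) (.leaf (4, 7))) (.node (.leaf (0, 10)) (.leaf (2, 0)))) (.node (.node (.leaf (0, 0)) (.leaf (4, 13))) (.leaf (5, 24))))) (.node (.node (.node (.node (.leaf (0, 0)) (.leaf (5, 23))) (.node (.leaf (5, 22)) (.leaf (0, 0)))) (.node (.node (.leaf (5, 19)) (.leaf (4, 11))) (.leaf (5, 21)))) (.node (.node (.node (.leaf (0, 0)) (.leaf (5, 8))) (.node (.leaf (2, 10)) (.leaf (4, 10)))) (.node (.node (.leaf (2, 6)) (.leaf (4, 15))) (.leaf (5, 15)))))) (.node (.node (.node (.node (.node (.leaf (0, 0)) (.leaf (0, 0))) (.node (.leaf (0, 0)) (.leaf (1, 24)))) (.node (.node (.leaf (0, 0)) (.leaf (0, 0))) (.leaf (0, 0)))) (.node (.node (.node (.leaf (0, 0)) (.leaf (1, 18))) (.node (.leaf (0, 0)) (.leaf (3, 10)))) (.node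 (.node (.leaf (0, 0)) (.leaf (0, 0))) (.leaf (1, 14))))) (.node (.node (.node (.node (.leaf (0, 0)) (.leaf (0, 0))) (.node (.leaf (0, 0)) (.leaf (1, 0)))) (.node (.node (.leaf (0, 0)) (.leaf (1, 21))) (.leaf (0, 0)))) (.node (.node (.node (.leaf (0, 0)) (.leaf (0, 0))) (.node (.leaf (0, 0)) (.leaf (5, 2)))) (.node (.node (.leaf (0, 0)) (.leaf (1, 23))) (.leaf (0, 0)))))))

def fiveOrd : Janko.Tree (ℕ) :=
  (.node (.node (.node (.node (.node (.leaf 0) (.leaf 15)) (.node (.leaf 11) (.leaf 3))) (.node (.node (.leaf 2) (.leaf 9)) (.leaf 22))) (.node (.node (.node (.leaf 6) (.leaf 1)) (.leaf 21)) (.node (.node (.leaf 23) (.leaf 7)) (.leaf 19)))) (.node (.node (.node (.node (.leaf 5) (.leaf 10)) (.leaf 13)) (.node (.node (.leaf 18) (.leaf 14)) (.leaf 12))) (.node (.node (.node (.leaf 4) (.leaf 24)) (.leaf 16)) (.node (.node (.leaf 17) (.leaf 8)) (.leaf 20)))))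

def fiveRels : List (List ℕ) := [[0, 0, 0, 0, 0],
  [1, 1, 1, 1, 1],
  [0, 0, 0, 0, 1, 0, 1, 1, 1, 1],
  [0, 0, 0, 0, 1, 1, 0, 1, 1, 1],
  [0, 0, 0, 0, 1, 1, 1, 0, 1, 1],
  [0, 0, 0, 0, 1, 1, 1, 1, 0, 1]]

/-- the certificate -/
def fiveCert : CentralLocal.Cert :=
  { act := actB baseB fiveGens, one := fiveOne, N := 25, k := 2, q := 0, rels := fiveRels, P := 3,
    elt := fiveElt, next := fiveNext, word := fiveWord, par := fivePar, L := fiveL, kind := fiveKind, rank := fiveRank,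
    via := fiveVia, pv := [50, 51, 52] }

theorem five_edges0 : ((List.range 25).all fun i => fiveCert.edgeCheck (Nat.add 0 i)) = true := by decide +kernel

theorem five_edges : ∀ i < 25, fiveCert.edgeCheck i = true := by
  intro i hi
  have := List.all_eq_true.1 five_edges0 (i - 0) (List.mem_range.2 (by omega)); rwa [show Nat.add 0 (i - 0) = i from Nat.add_sub_cancel' (by omega)] at this


theorem five_tree0 : ((List.range 25).all fun i => fiveCert.treeCheck (Nat.add 0 i)) = true := by decide +kernel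

theorem five_tree : ∀ i < 25, fiveCert.treeCheck i = true := by
  intro i hi
  have := List.all_eq_true.1 five_tree0 (i - 0) (List.mem_range.2 (by omega)); rwa [show Nat.add 0 (i - 0) = i from Nat.add_sub_cancel' (by omega)] at this


theorem five_vars0 : ((List.range 56).all fun i => fiveCert.varCheck (Nat.add 0 i)) = true := by decide +kernel

theorem five_vars : ∀ i < 56, fiveCert.varCheck i = true := by
  intro i hi
  have := List.all_eq_true.1 five_vars0 (i - 0) (List.mem_range.2 (by omega)); rwa [show Nat.add 0 (i - 0) = i from Nat.add_sub_cancel' (by omega)] at this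


theorem five_ord0 : ((List.range 25).all fun i => fiveCert.ordCheck fiveOrd (Nat.add 0 i)) = true := by decide +kernel

theorem five_ord : ∀ i < 25, fiveCert.ordCheck fiveOrd i = true := by
  intro i hi
  have := List.all_eq_true.1 five_ord0 (i - 0) (List.mem_range.2 (by omega)); rwa [show Nat.add 0 (i - 0) = i from Nat.add_sub_cancel' (by omega)] at this


theorem five_rels : (fiveCert.rels.all fun w => fiveCert.relCheck w) = true := by decide +kernel

theorem five_valid : fiveCert.Valid where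
  npos := Nat.succ_pos _
  kpos := Nat.succ_pos _
  edges := five_edges
  tree := five_tree
  rels := List.all_eq_true.1 five_rels
  vars := five_vars

/-- the lattice -/
def fiveLat : CentralBound.Lat :=
  { basis := [[-1, -1, 1]],
    compl := [[1, 0, 0], [0, 1, 0]],
    counts := [[5, 0], [0, 5]],
    piv := [0, 1],
    coord := [([0], [1, 0]),
      ([0], [0, 1]),
      ([1], [1, 1])],
    gens := [],
    ord := [],
    red := [([], ([(2, 0)], []), [1])],
    kill := [] }

/-- conjugate commuting pairs -/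
def fiveSpecs : List Spec := [(([0], [1], [0], [0, 0, 0, 1, 1, 1, 1]), (0xc0530cb2fafb31d4f1873a122e5bc8b1c0bab2154dd482c149044d0cc782d7bb8bac4f9f399f8f638c25eb26b161b45246b009530770124b694b909129b8c67dabe3f8f3f841ec1ecd9f181099a555be6c8e352b5548248c344f210f8bf9e195b4c78c60814b859a150d1e3f0731226e628be6013894a394f5b5f81e5730ce012dcda98c526f28429389618a92191821b2e190f575abbca017141c9292a9eaadfe4563e5cc4f526226b86a0ab9161532b8dcf139889f5fafcb39be74f45658618f809af730a28d121da0bc1665a596454f329066d9d88391ac9d0f36971cb038d60636057562b3a6ec1151a4c059a659a4443487da1493ebb8228f5d998e9e4b433e42d8b31d8aa36bc5c0bef105b30b852f78908092619a87ca6c567bc00c980500cbc352d9812aa011a593315675d72a0da0cd911211839e148d8ec8a4e5d3d624cc14b1df9fd5ebea0dbb0132388b4debfc583a707d6348d58ba42194475da073a77a4c35509aa6a7509454d9d6898b81b4f1d7252e2a7719a849b110b92da952ee341b6203c04d3dc240a05387a445baf84b7c810c538c81352c6c8b592b81f926aad95b17c08cc736f4bb2640aa53580e2d90dd470f248c6160e8079dada16216cfd20d77627c86c2992868d2e4f336e600,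 0xc0530cb2fafb31d4f1873a122e5bc8b1c0bab2154dd482c149044d0cc782d7bb8bac4f9f399f8f638c25eb26b161b45246b009530770124b694b909129b8c67dabe3f8f3f841ec1ecd9f181099a555be6c8e352b5548248c344f210f8bf9e195b4c78c60814b859a150d1e3f0731226e628be6013894a394f5b5f81e5730ce012dcda98c526f28429389618a92191821b2e190f575abbca017141c9292a9eaadfe4563e5cc4f526226b86a0ab9161532b8dcf139889f5fafcb39be74f45658618f809af730a28d121da0bc1665a596454f329066d9d88391ac9d0f36971cb038d60636057562b3a6ec1151a4c059a659a4443487da1493ebb8228f5d998e9e4b433e42d8b31d8aa36bc5c0bef105b30b852f78908092619a87ca6c567bc00c980500cbc352d9812aa011a593315675d72a0da0cd911211839e148d8ec8a4e5d3d624cc14b1df9fd5ebea0dbb0132388b4debfc583a707d6348d58ba42194475da073a77a4c35509aa6a7509454d9d6898b81b4f1d7252e2a7719a849b110b92da952ee341b6203c04d3dc240a05387a445baf84b7c810c538c81352c6c8b592b81f926aad95b17c08cc736f4bb2640aa53580e2d90dd470f248c6160e8079dada16216cfd20d77627c86c2992868d2e4f336e600, [2, 4, 3, 2, 1, 5, 4, 2, 1,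 0, 3, 2, 1, 0, 2, 3, 4, 3, 2, 1, 0, 3, 2, 1, 0, 1, 5, 4, 0, 1, 2, 3, 4, 5, 1, 2, 3, 4, 1, 4, 5, 2, 1, 5, 0, 1, 2, 3, 2, 1, 5, 3, 2, 3, 4, 3, 2, 3, 5, 1, 2, 3, 2, 1, 0, 5, 3, 2, 3, 1, 2, 0, 1, 0, 1, 3, 2, 1, 0, 3, 2, 1, 0, 1, 2]))]

theorem five_gens : fiveGens.all (elemOK 416 baseP) = true ∧ fiveSpecs.all (specOK 416 baseP baseB fiveCert fiveGens) = true := by decide +kernel

theorem five_lat : CentralBound.latOK fiveCert (fiveSpecs.map extOf) (5 ^ 2) fiveLat = true := by decide +kernel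

end Cfsg.Agent.Lie.GTwoFourMult
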