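import Cfsg.Agent.Lib.Lie.PermCover
import Cfsg.Agent.Lib.Lie.GTwoFourHallJanko.Data

/-!
A central table on a Sylow 3-subgroup of the group of type G2 over four elements (generated).
-/

set_option autoImplicit false
set_option maxRecDepth 100000
set_option maxHeartbeats 0
set_option Elab.async false

namespace Cfsg.Agent.Lie.GTwoFourMult

open Cfsg.Agent.Lie PermCover
open Cfsg.Agent.Lie.GTwoFourHallJanko (baseP baseB)

/-- the code of the identity -/
def threeOne : ℕ := 206695825920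

/-- generators of the subgroup -/
def threeGens : List Elem := [(0x38259e0d3cc54070567dc6d28b06c86716d2a1a4eeb8ca288810a119b3c084b459de4d73705f2cf3fc52dcd76e2356d7392960d48e6a3284aef404e3262e846660ad8bc550313285910a8a13603cbdfaf75b3a83b4e0e2c5a027793298f57868bd9d4a7615f22e82e6053165bf67c4a3444a5d244cb437d4d4bccc69196907c3121807d5771c4d81d0a470e2117a57445c4c8161814c79ac78984a13c2c88d1c95063cbd268fe5db55c47d5922a8d1d1428d2b839ecb9c8af63484ec5b77c09dd24641451002ac1130b122a23f0f20c406e9b5983ab87461ae641f83e80a9006d8489b0e5384db7ac45321982777dc4d5040a872e5f28b45d4e820870281af47b5a8471a495ed3216812eb8d0cc56ec25f3538a1f278f3379014a7a7b4c5cedc4f8c8266ece678e88061269b61a9497c2e31ab5bee0a2804419a5905548e7375992189417c0901d63b2368ea6db32b61f61b042a393e1e5ae31190aa34fd711b1691c4f708deff499cd7d078f3f8fde2bf82e6cc82ea888e9f2a2aa0a2cd40fc4e3e4e345b4cef5c3494a5353328060a7aa98c43331311428a974c565a01a43ad7cabaf0af2d27cd189fe6920dec1b6ac239876ac0f656e8716ba76f3720b5e18609ad42072d18230182cbbb0b4b0edc9e747a00,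 0x9f268049b2b09e679b630a434c501dd28ade2e4a5738cc8ded96e77490dda1f8059a852c30cfd997e112f42a12b681f1a19c0050d08d475e08d65370826137be9de807b3e344e8732f0ae54dfbb03dc8efa623c76ca56218a79a28d51cab69a520c02f894171720c7c99016cbe1c1fea966b08bed442570810d1c4794517ad3f863739094127161460484f492d7df4e824c6a0871cb4c8d86db493464ab253b2268a3ac92972e5a9c95c0e71c40ae0b93bd9b68b12c32b2ddcbcad5a7fac28c890e5453cb39d7bbd40947175586744508798efd59424c77f9b3495ea04a9eb26d80bc66144cce6401951c352513670453ad4f3a6bed608108a5c120a2c0b56f6485b0eeb1fbd55d76c441c1ea5947e388ec1c1658c68c81e4d54ada81233103e4fc542d6b69a5ac3419d67a0395c74e5af2d75194d531c1c1a76f1602c6c1682e93968982d9a610aa5e2921f18c13e4f29942b54319f53a70f0d6bcdc04847228fede551d099c0ce4948967437c1991005a36609eeb68105e55d321225138c24457082b8ddc6cee67c8c46a62d370026f0eb841b993119ee53cc3a79203da51500d141557a3703a80de7a7e2962872c92586eab5373253251c4884cd6354edb974c1979f443628ea1c2189adaf97f856cbc06000,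 [0, 1, 2, 3, 4, 0, 1, 2, 3, 1, 2, 1, 0, 1, 2, 3, 4, 3, 5, 4, 1, 2, 3, 2, 1, 4, 5, 0, 1, 2, 5, 1, 0, 1, 3, 2, 5, 1, 2, 0, 5, 3, 4, 2, 3, 2, 1, 0, 1, 2, 1, 4, 3, 2, 1, 0, 1, 2, 3, 4, 3, 2, 3, 5]),
  (0xce9d88b9c2d669cc3f579a72a56684766d53a74e6e18c6fd832c2a0533d4e04a79eed98a1ab30517d39a86358db1448d504113f4eb78b7dd5a322b5bcd0d3893af2be42630c80f80a12dc2e40a3a09c0038f912390951a8ab1507438aac499a52863483a25ab90065596825eb3809401db8ce85cf46a4d7230d0f30660b1240e9777b95a44bf289fd02cc84c1606428b3202422a93f042295da94588ce307a66b4fe44cde9663a4804b8386b4bb3cbabf37a02511f384c3636ebe8aef8c9b498f6840c827a676cb94796149bd50f83af0391f7f8ce3e2014532b0f8886db68a6a53c0b07b0e698713cf721cb4d10314ab990c4753f330c90cb082a265fafb1125675d11a4f73ae0c020391b2639b5550e8d025965eaab40fe2d3ea4c845c56f16c5b53a9c4dbe6ec984bab52a94493acdab5772382569794308e2531232e64c6ac46d4803f82266fb919e99a50b2416775b960c068f0c21ba54ab8f5bb127938650cb57453a6e4902a49a15542dac1fe584d19a99297794a88d75b44c9b2476cbcaa4a878333f4dc31dc834562965064b38c18721bc3cf9c83b605de16b317e385b07bd2f4497c138cdb8cb11a1442a8c29f430f684068173c8c05a655909ae72579276641b15618dcd71b760180a6fa88d8ba00,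 0x22c173f9c586681cc5556272a667b8466aa3710baf18c53600d2bd1b90c3e6f7448e45607240ef828960ac217019266dcba42986778db79a93d81b5a0518f49fc9684777e5ddd98ab2b9e31453a444295132535525cc845c0750c1e3c885586d2a1748adab480515757e8326938d9e2183aceb1d68876466d4b3e8556331254199c73959b4a928b3979784c3ddb242f2ab9af2555045e5c617514581919275d904e123b52688a18976a81b160e8ed74662b203442cc42e4c63e3e934f868071d538b522d407029a3c96074931cc54f5be65dc358a539fd59c5c09f6256db69de9f2841d073769bdadb93c32ecf37e1250d88c97ad8c7ec805b0a64335faf8556696c1024b6af13d20a8182ae605acbb292cde362be3820c2b7db0a4a9d4af53d52b453a9c4d95e24984bd192a9475a4e546072a3972869018e1edc74da445241ed69e6803fc6c3cddc11e8d0d72167ae347bdacc7667021b922b204dd72ccd78158cb1f8621dfab594d0003092de6c7c587ce50925f6c94a00785c03c9a841e122992f44c573b5667d90835ccc3fdaaed1a4b873080500afe711358a927217ce45ad650e21977d13b01102911dcc42b453cce78d21c069861dae85982e009a363b1a89b981a460ce1e3c7eb08180b84ac4fa1400,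 [0, 1, 2, 3, 4, 3, 2, 3, 1, 2, 3, 2, 5, 1, 2, 3, 4, 5, 4, 0, 1, 2, 3, 2, 1, 0, 4, 5, 1, 2, 3, 2, 1, 0, 3, 2, 3, 1, 2, 0, 1, 0, 1, 3, 2, 1, 0, 3, 2, 1, 0, 1, 2]),
  (0x621c192fa240e453132f535b71136866af532b1cee58c5c39c8854b127ed317ae0059cb71a4f510dcbd0b9826136341c811c44f30afd2c0d60f2dce2b6e37d7f9ca92d5c0aaeb15e18bae8f4c77e3d5250790e1739851a24f0212019a1183c3655ba1a6ccf8aaa62d42c26b52cbce6f8d0fdbe5828bf47cc8cf04024f2cd655918c2b375d845411f2416767852ed393690468168d75054675b87a0232c0aa3ddc523c240c87257dc407f96749dccf9278c085f8b926083b22a15af3f9a48870fb7ca36461ca88c6666351b007adb4549091cc7113650f75527b7acaf4a508ebb3403a1e5ccc90bd9ad2a6c58c78a047ac0ae9a99db09cf9ba238d6464bb68be307e475c10049d11550586028d12f9366c6cacc3d002476432da1a41c811f1cd4a58b22cd39591726163280a9101c062a24af07014293b9aaf00968689d57b27835392c9d13bd4fd5f2e949daec41bc14e535098eea205126d3237bcdfeac4b5a2097e8bb3278319742981c2c5a8128993aced69d1730b8b5bf6128971313f58d0e9eae37c51901b528f40c4907a107530b7109f069bbda8766a8aac8f88a4a5ecf4629cca5dc250683270e55f0a8b79e4646ee0d2c4a5609783a1363d1c94565873284b2cfee35d0c820c701a9185526ba05fc00,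 0x7c880af6b573e1dd543042294e24cc11e4a3ad286798c80248377355d2ee30fa63fac693354ded0f4175ecd6181bca8e2c32a636d21d9d0edd2c67d0db0a889218dbb2e6761ca0eb3e581b3838c1582561c89a5c113c8011d85b24a0b2d5c4fb6eca95aebcdd0b6253ee50aa2651afd724616056259ec8116d863841da3c58356d9394db405413422be18ff883f1a71f9b05574140f47a2aefc22746646cc247290a8bbc54ab3a148c1f4db6a0d68198740928b8b3806e0bb85e71883989348fcdc9f55e0676ad8a4f278af46e0e55c5394497506444bab928b7a937ccaafa8ecf01b46c8a04e0710f769a60660d4074bf3a45044b4b99f08816f3143288d0a8a9102eab8bc029a8067928c896ca48122d4acb12d6b2f03ad108606a99bce6ccc3189012137320da4d5fa04342f5bb9def2665b0a381f320c2a57d6b29cbe3e3b9980516069f5ea31708b66351832a10c17c7599c99e23caf2777608d070b182d392f35390b2f05e5ee5cf64e10d0e7f6f64e3e8b883a1e89f586fb142c5934168819b513013589868e9494f84c9c84cd1a8f73556362b6dd7f8c82abebc80de8a49e9608b33383fb8c50e66d4a6a0709dba9faf622523246129a62348da0aa6e8091fa3c4e268eaca65336b9051c8903a5b0400,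 [5, 4, 1, 2, 3, 2, 1, 4, 5, 1, 2, 1, 0, 1, 2, 3, 0, 1, 2, 5, 1, 0, 1, 3, 2, 5, 1, 0, 5, 4, 1, 2, 3, 2, 1, 4, 5])]

def threeElt : Janko.Tree (ℕ) :=
  (.node (.node (.node (.node (.node (.leaf 206695825920) (.leaf 16227371382272)) (.node (.leaf 24294433900032) (.leaf 9988132199424))) (.node (.node (.leaf 27725867022848) (.leaf 19260252407296)) (.leaf 10530343126016))) (.node (.node (.node (.leaf 23691659973632) (.leaf 5535068725248)) (.node (.leaf 14820087036928) (.leaf 8268175491584))) (.node (.node (.leaf 22520826263552) (.leaf 14301722379776)) (.leaf 18843160725504)))) (.node (.node (.node (.node (.leaf 14964400087040) (.leaf 7987231345152)) (.node (.leaf 23888045722624) (.leaf 20519258819584))) (.node (.node (.leaf 16428145107968) (.leaf 1598580463616)) (.leaf 5726158022144))) (.node (.node (.node (.leaf 499463685120) (.leaf 25728639364608)) (.leaf 16983885982208)) (.node (.node (.leaf 23173376031232) (.leaf 7531412091904))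 (.leaf 24031594091520)))))

def threeNext : Janko.Tree (ℕ) :=
  (.node (.node (.node (.node (.node (.node (.node (.leaf 1) (.leaf 15)) (.leaf 0)) (.node (.node (.leaf 13) (.leaf 7)) (.leaf 6))) (.node (.node (.node (.leaf 8) (.leaf 10)) (.leaf 1)) (.node (.leaf 17) (.leaf 2)))) (.node (.node (.node (.node (.leaf 5) (.leaf 19)) (.leaf 8)) (.node (.leaf 15) (.leaf 6))) (.node (.node (.node (.leaf 0) (.leaf 23)) (.leaf 24)) (.node (.leaf 17) (.leaf 23))))) (.node (.node (.node (.node (.node (.leaf 3) (.leaf 7)) (.leaf 22)) (.node (.leaf 14) (.leaf 26))) (.node (.node (.node (.leaf 8) (.leaf 11)) (.leaf 16)) (.node (.leaf 18) (.leaf 12)))) (.node (.node (.node (.node (.leaf 5) (.leaf 24)) (.leaf 23)) (.node (.leaf 0) (.leaf 15))) (.node (.node (.node (.leaf 12) (.leaf 20)) (.leaf 20)) (.node (.leaf 21) (.leaf 5)))))) (.node (.node (.node (.node (.node (.node (.leaf 2) (.leaf 13)) (.leaf 2)) (.node (.leaf 9) (.leaf 3))) (.node (.node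 (.node (.leaf 9) (.leaf 25)) (.leaf 17)) (.node (.leaf 16) (.leaf 3)))) (.node (.node (.node (.node (.leaf 6) (.leaf 26)) (.leaf 14)) (.node (.leaf 13) (.leaf 21))) (.node (.node (.node (.leaf 11) (.leaf 22)) (.leaf 25)) (.node (.leaf 20) (.leaf 21))))) (.node (.node (.node (.node (.node (.leaf 4) (.leaf 4)) (.leaf 14)) (.node (.leaf 9) (.leaf 12))) (.node (.node (.node (.leaf 10) (.leaf 18)) (.leaf 19)) (.node (.leaf 19) (.leaf 25)))) (.node (.node (.node (.node (.leaf 7) (.leaf 4)) (.leaf 22)) (.node (.leaf 16) (.leaf 26))) (.node (.node (.node (.leaf 11) (.leaf 10)) (.leaf 1)) (.node (.leaf 18) (.leaf 24)))))))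

def threeWord : Janko.Tree (ℕ) :=
  (.node (.node (.node (.node (.node (.leaf 1) (.leaf 4370)) (.node (.leaf 274) (.leaf 66050))) (.node (.node (.leaf 256) (.leaf 4610)) (.leaf 4098))) (.node (.node (.node (.leaf 17) (.leaf 4386)) (.node (.leaf 290) (.leaf 69922))) (.node (.node (.leaf 258) (.leaf 65553)) (.leaf 4128)))) (.node (.node (.node (.node (.leaf 16) (.leaf 4384)) (.node (.leaf 288) (.leaf 66080))) (.node (.node (.leaf 257) (.leaf 4640)) (.leaf 4113))) (.node (.node (.node (.leaf 18) (.leaf 4608)) (.leaf 4097)) (.node (.node (.leaf 273) (.leaf 65570)) (.leaf 4130)))))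

def threePar : Janko.Tree (ℕ) :=
  (.node (.node (.node (.node (.node (.leaf 0) (.leaf 114)) (.node (.leaf 34) (.leaf 226))) (.node (.node (.leaf 16) (.leaf 146)) (.leaf 66))) (.node (.node (.node (.leaf 1) (.leaf 130)) (.node (.leaf 50) (.leaf 258))) (.node (.node (.leaf 18) (.leaf 177)) (.leaf 96)))) (.node (.node (.node (.node (.leaf 0) (.leaf 128)) (.node (.leaf 48) (.leaf 240))) (.node (.node (.leaf 17) (.leaf 160)) (.leaf 81))) (.node (.node (.node (.leaf 2) (.leaf 144)) (.leaf 65)) (.node (.node (.leaf 33) (.leaf 194)) (.leaf 98)))))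

def threeL : Janko.Tree (List ℤ) :=
  (.node (.node (.node (.node (.node (.node (.node (.leaf []) (.leaf [0, 0, 0, 0, -1, 0, 1])) (.node (.leaf [0, 0, 1]) (.leaf [-15, -19, 6, 20, -6, -1, 2]))) (.node (.node (.leaf []) (.leaf [0, 0, 1])) (.leaf [-32, -40, 18, 44, -20, -6, 8]))) (.node (.node (.node (.leaf []) (.leaf [0, 0, -1, 0, 1])) (.leaf [0, 1])) (.node (.node (.leaf []) (.leaf [0, -1, -1, 0, 0, 2])) (.leaf [0, 0, 1])))) (.node (.node (.node (.node (.leaf []) (.leaf [-8, -9, 3, 10, -4, -1, 2])) (.node (.leaf [7, 6, -3, -7, 5, 2, -4]) (.leaf [-4, -4, 2, 5, -2, -1, 2]))) (.node (.node (.leaf []) (.leaf [0, 0, 0, 1, 0, 0, 0])) (.leaf [8, 7, -1, -7, 3, 2, -4]))) (.node (.node (.node (.leaf [1]) (.leaf [33, 45, -18, -47, 19, 4, -5])) (.leaf [])) (.node (.node (.leaf [-29, -34, 14, 37, -17, -6, 9]) (.leaf [31, 39, -18, -43, 18, 6, -5])) (.leaf [-1, 0, -1, 0, 1]))))) (.node (.node (.node (.node (.node (.leaf []) (.leaf [-1, -2,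 0, 2])) (.node (.leaf []) (.leaf [-2, -2, 2, 3, -2, -1, 2]))) (.node (.node (.leaf []) (.leaf [0, 1, 0, 0, 0, 0, 0])) (.leaf []))) (.node (.node (.node (.leaf [0, -1, -1, 0, 0, 1]) (.leaf [18, 25, -11, -27, 13, 3, -4])) (.leaf [-6, -6, 3, 7, -4, -3, 4])) (.node (.node (.leaf []) (.leaf [30, 40, -16, -42, 18, 4, -5])) (.leaf [-37, -44, 20, 49, -22, -8, 10])))) (.node (.node (.node (.node (.leaf [-1, -1, 0, 1]) (.leaf [-30, -41, 16, 43, -17, -3, 4])) (.leaf [])) (.node (.node (.leaf [0, 1]) (.leaf [0, 0, 0, 0, 1, 0, 0])) (.leaf [-1, -2, -1, 1, -1, 1, 1]))) (.node (.node (.node (.leaf []) (.leaf [-2, -2, 2, 3, -3, -1, 2])) (.leaf [-9, -10, 4, 11, -6, -2, 4])) (.node (.node (.leaf []) (.leaf [-1, -1, 0, 1, 0, 0, 1])) (.leaf [3, 4, -2, -5, 3, 1, -1])))))) (.node (.node (.node (.node (.node (.node (.leaf []) (.leaf [-15, -16, 9, 18, -10, -5, 7])) (.node (.leaf [0, -1, 0, 1]) (.leaf [-5, -5, 2, 6, -2, -1, 2]))) (.node (.node (.leaf [0,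 0, 0, 0, -1, 0, 1]) (.leaf [1, 0, 0, 0, 0, 0, 0])) (.leaf [0, 0, -1, 0, 0, 1]))) (.node (.node (.node (.leaf []) (.leaf [0, -2, -1, 1, 1, 2, -2])) (.leaf [-5, -5, 0, 5, -1, 0, 1])) (.node (.node (.leaf [0, -1, -1, 0, 0, 1]) (.leaf [0, 0, 0, 0, 0, 0, 1])) (.leaf [1])))) (.node (.node (.node (.node (.leaf []) (.leaf [-5, -7, 2, 7, -2, -1, 1])) (.leaf [45, 53, -25, -59, 28, 11, -14])) (.node (.node (.leaf [1, 1, 0, -1]) (.leaf [-1, -1, 0, 2])) (.leaf [-1, 0, 1, 1, -1, -1, 1]))) (.node (.node (.node (.leaf []) (.leaf [-9, -10, 6, 11, -6, -3, 4])) (.leaf [])) (.node (.node (.leaf []) (.leaf [0, -1, 1, 1, -1, 0, 1])) (.leaf [12, 15, -7, -16, 9, 3, -5]))))) (.node (.node (.node (.node (.node (.leaf []) (.leaf [0, 1])) (.node (.leaf [12, 12, -6, -14, 7, 4, -5]) (.leaf [4, 5, -2, -5, 3, 1, -1]))) (.node (.node (.leaf [15, 19, -10, -21, 11, 4, -5]) (.leaf [0, 0, 1, 0, 0, 0, 0])) (.leaf [9, 11, -3, -11, 4, 1, -2]))) (.node (.node (.node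 (.leaf []) (.leaf [17, 28, -11, -28, 10, -1, 2])) (.leaf [16, 24, -10, -25, 8, 1, 1])) (.node (.node (.leaf []) (.leaf [1, 0, 1, 0, -1, 0, 1])) (.leaf [-13, -22, 10, 23, -7, 0, -3])))) (.node (.node (.node (.node (.leaf []) (.leaf [0, 0, 1])) (.leaf [1, 1, 0, -1])) (.node (.node (.leaf []) (.leaf [0, 0, 0, 0, 0, 1, 0])) (.leaf [0, 1, 1, 0, 0, -1]))) (.node (.node (.node (.leaf [-1, -1, 0, 1]) (.leaf [0, -1, -2, 0, 0, 2])) (.leaf [0, 0, 1])) (.node (.node (.leaf [0, 1, 1, 0, 0, -1]) (.leaf [5, 6, -2, -6, 3, 1, -1])) (.leaf [1, 0, 1, 0, -1])))))))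

def threeKind : Janko.Tree (ℕ) :=
  (.node (.node (.node (.node (.node (.node (.node (.leaf 0) (.leaf 3)) (.node (.leaf 3) (.leaf 3))) (.node (.node (.leaf 0) (.leaf 3)) (.leaf 3))) (.node (.node (.node (.leaf 0) (.leaf 3)) (.leaf 3)) (.node (.node (.leaf 0) (.leaf 3)) (.leaf 3)))) (.node (.node (.node (.node (.leaf 0) (.leaf 3)) (.node (.leaf 3) (.leaf 3))) (.node (.node (.leaf 0) (.leaf 2)) (.leaf 3))) (.node (.node (.node (.leaf 3) (.leaf 3)) (.leaf 0)) (.node (.node (.leaf 3) (.leaf 3)) (.leaf 3))))) (.node (.node (.node (.node (.node (.leaf 0) (.leaf 3)) (.node (.leaf 0) (.leaf 3))) (.node (.node (.leaf 0) (.leaf 2)) (.leaf 0))) (.node (.node (.node (.leaf 3) (.leaf 3)) (.leaf 3)) (.node (.node (.leaf 0) (.leaf 3)) (.leaf 3)))) (.node (.node (.node (.node (.leaf 3) (.leaf 3)) (.leaf 0)) (.node (.node (.leaf 3) (.leaf 2)) (.leaf 3))) (.node (.node (.node (.leaf 0) (.leaf 3)) (.leaf 3)) (.node (.node (.leaf 0) (.leaf 3)) (.leaf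 3)))))) (.node (.node (.node (.node (.node (.node (.leaf 0) (.leaf 3)) (.node (.leaf 3) (.leaf 3))) (.node (.node (.leaf 3) (.leaf 2)) (.leaf 3))) (.node (.node (.node (.leaf 0) (.leaf 3)) (.leaf 3)) (.node (.node (.leaf 3) (.leaf 2)) (.leaf 3)))) (.node (.node (.node (.node (.leaf 0) (.leaf 3)) (.leaf 3)) (.node (.node (.leaf 3) (.leaf 3)) (.leaf 3))) (.node (.node (.node (.leaf 0) (.leaf 3)) (.leaf 0)) (.node (.node (.leaf 0) (.leaf 3)) (.leaf 3))))) (.node (.node (.node (.node (.node (.leaf 0) (.leaf 3)) (.node (.leaf 3) (.leaf 3))) (.node (.node (.leaf 3) (.leaf 2)) (.leaf 3))) (.node (.node (.node (.leaf 0) (.leaf 3)) (.leaf 3)) (.node (.node (.leaf 0) (.leaf 3)) (.leaf 3)))) (.node (.node (.node (.node (.leaf 0) (.leaf 3)) (.leaf 3)) (.node (.node (.leaf 0) (.leaf 2)) (.leaf 3))) (.node (.node (.node (.leaf 3) (.leaf 3)) (.leaf 3)) (.node (.node (.leaf 3) (.leaf 3)) (.leaf 3)))))))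

def threeRank : Janko.Tree (ℕ) :=
  (.node (.node (.node (.node (.node (.node (.node (.leaf 0) (.leaf 60)) (.node (.leaf 38) (.leaf 88))) (.node (.node (.leaf 12) (.leaf 34)) (.leaf 87))) (.node (.node (.node (.leaf 7) (.leaf 48)) (.leaf 31)) (.node (.node (.leaf 16) (.leaf 54)) (.leaf 36)))) (.node (.node (.node (.node (.leaf 4) (.leaf 94)) (.node (.leaf 79) (.leaf 69))) (.node (.node (.leaf 14) (.leaf 39)) (.leaf 83))) (.node (.node (.node (.leaf 28) (.leaf 90)) (.leaf 23)) (.node (.node (.leaf 85) (.leaf 99)) (.leaf 50))))) (.node (.node (.node (.node (.node (.leaf 2) (.leaf 45)) (.node (.leaf 21) (.leaf 67))) (.node (.node (.leaf 13) (.leaf 29)) (.leaf 25))) (.node (.node (.node (.leaf 53) (.leaf 86)) (.leaf 82)) (.node (.node (.leaf 17) (.leaf 100)) (.leaf 97)))) (.node (.node (.node (.node (.leaf 41) (.leaf 89)) (.leaf 22)) (.node (.node (.leaf 32) (.leaf 47)) (.leaf 64))) (.node (.node (.node (.leaf 11) (.leaf 68)) (.leaf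 78)) (.node (.node (.leaf 20) (.leaf 63)) (.leaf 73)))))) (.node (.node (.node (.node (.node (.node (.leaf 1) (.leaf 80)) (.node (.leaf 43) (.leaf 71))) (.node (.node (.leaf 62) (.leaf 26)) (.leaf 55))) (.node (.node (.node (.leaf 8) (.leaf 91)) (.leaf 70)) (.node (.node (.leaf 52) (.leaf 59)) (.leaf 27)))) (.node (.node (.node (.node (.leaf 5) (.leaf 72)) (.leaf 96)) (.node (.node (.leaf 46) (.leaf 42)) (.leaf 66))) (.node (.node (.node (.leaf 10) (.leaf 95)) (.leaf 24)) (.node (.node (.leaf 19) (.leaf 65)) (.leaf 77))))) (.node (.node (.node (.node (.node (.leaf 3) (.leaf 30)) (.node (.leaf 81) (.leaf 74))) (.node (.node (.leaf 84) (.leaf 33)) (.leaf 75))) (.node (.node (.node (.leaf 9) (.leaf 92)) (.leaf 98)) (.node (.node (.leaf 18) (.leaf 61)) (.leaf 93)))) (.node (.node (.node (.node (.leaf 6) (.leaf 35)) (.leaf 44)) (.node (.node (.leaf 15) (.leaf 51)) (.leaf 56))) (.node (.node (.node (.leaf 40) (.leaf 57)) (.leaf 37))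 (.node (.node (.leaf 58) (.leaf 76)) (.leaf 49)))))))

def threeVia : Janko.Tree (ℕ × ℕ) :=
  (.node (.node (.node (.node (.node (.node (.node (.leaf (0, 0)) (.leaf (8, 24))) (.node (.leaf (2, 10)) (.leaf (15, 5)))) (.node (.node (.leaf (0, 0)) (.leaf (2, 26))) (.leaf (19, 14)))) (.node (.node (.node (.leaf (0, 0)) (.leaf (5, 24))) (.leaf (1, 13))) (.node (.node (.leaf (0, 0)) (.leaf (7, 3))) (.leaf (2, 18))))) (.node (.node (.node (.node (.leaf (0, 0)) (.leaf (19, 25))) (.node (.leaf (19, 12)) (.leaf (19, 26)))) (.node (.node (.leaf (0, 0)) (.leaf (3, 0))) (.leaf (17, 6)))) (.node (.node (.node (.leaf (0, 4)) (.leaf (16, 14))) (.leaf (0, 0))) (.node (.node (.leaf (19, 4)) (.leaf (11, 19))) (.leaf (5, 20)))))) (.node (.node (.node (.node (.node (.leaf (0, 0)) (.leaf (4, 13))) (.node (.leaf (0, 0)) (.leaf (17, 5)))) (.node (.node (.leaf (0, 0)) (.leaf (1, 0))) (.leaf (0, 0)))) (.node (.node (.node (.leaf (6, 2)) (.leaf (19, 11)))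 (.leaf (18, 2))) (.node (.node (.leaf (0, 0)) (.leaf (9, 2))) (.leaf (19, 7))))) (.node (.node (.node (.node (.leaf (3, 1)) (.leaf (15, 26))) (.leaf (0, 0))) (.node (.node (.leaf (1, 7)) (.leaf (4, 0))) (.leaf (13, 24)))) (.node (.node (.node (.leaf (0, 0)) (.leaf (17, 26))) (.leaf (18, 21))) (.node (.node (.leaf (0, 0)) (.leaf (13, 4))) (.leaf (19, 23))))))) (.node (.node (.node (.node (.node (.node (.leaf (0, 0)) (.leaf (19, 17))) (.node (.leaf (4, 11)) (.leaf (16, 21)))) (.node (.node (.leaf (10, 9)) (.leaf (0, 0))) (.leaf (7, 16)))) (.node (.node (.node (.leaf (0, 0)) (.leaf (19, 16))) (.leaf (19, 21))) (.node (.node (.leaf (6, 7)) (.leaf (6, 0))) (.leaf (0, 19))))) (.node (.node (.node (.node (.leaf (0, 0)) (.leaf (16, 20))) (.leaf (17, 14))) (.node (.node (.leaf (4, 22)) (.leaf (4, 2))) (.leaf (12, 21)))) (.node (.node (.node (.leaf (0, 0)) (.leaf (19, 19))) (.leaf (0, 0))) (.node (.node (.leaf (0, 0)) (.leaf (12, 1))) (.leaf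 (14, 23)))))) (.node (.node (.node (.node (.node (.leaf (0, 0)) (.leaf (1, 22))) (.node (.leaf (19, 24)) (.leaf (18, 1)))) (.node (.node (.leaf (18, 9)) (.leaf (2, 0))) (.leaf (18, 22)))) (.node (.node (.node (.leaf (0, 0)) (.leaf (19, 8))) (.leaf (19, 2))) (.node (.node (.leaf (0, 0)) (.leaf (10, 1))) (.leaf (18, 3))))) (.node (.node (.node (.node (.leaf (0, 0)) (.leaf (2, 23))) (.leaf (3, 11))) (.node (.node (.leaf (0, 0)) (.leaf (5, 0))) (.leaf (6, 16)))) (.node (.node (.node (.leaf (3, 4)) (.leaf (7, 18))) (.leaf (2, 15))) (.node (.node (.leaf (7, 26)) (.leaf (14, 4))) (.leaf (0, 24))))))))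

def threeOrd : Janko.Tree (ℕ) :=
  (.node (.node (.node (.node (.node (.leaf 0) (.leaf 14)) (.node (.leaf 24) (.leaf 8))) (.node (.node (.leaf 13) (.leaf 7)) (.leaf 1))) (.node (.node (.node (.leaf 21) (.leaf 25)) (.node (.leaf 22) (.leaf 4))) (.node (.node (.leaf 17) (.leaf 9)) (.leaf 5)))) (.node (.node (.node (.node (.leaf 3) (.leaf 20)) (.node (.leaf 12) (.leaf 19))) (.node (.node (.leaf 23) (.leaf 2)) (.leaf 16))) (.node (.node (.node (.leaf 18) (.leaf 6)) (.leaf 10)) (.node (.node (.leaf 26) (.leaf 15)) (.leaf 11)))))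

def threeRels : List (List ℕ) := [[0, 0, 0],
  [1, 1, 1],
  [2, 2, 2],
  [0, 0, 1, 0, 1, 1],
  [0, 0, 1, 1, 0, 1],
  [0, 2, 0, 2, 0, 2],
  [1, 1, 2, 1, 2, 2],
  [1, 1, 2, 2, 1, 2],
  [0, 0, 1, 2, 2, 0, 2],
  [0, 0, 2, 1, 2, 0, 2],
  [0, 0, 2, 2, 0, 1, 2],
  [0, 0, 2, 2, 0, 2, 1],
  [0, 0, 2, 2, 1, 0, 2],
  [0, 1, 0, 2, 2, 0, 2],
  [0, 0, 1, 1, 2, 0, 2, 2],
  [0, 0, 1, 2, 0, 1, 2, 2],
  [0, 0, 2, 0, 1, 1, 2, 2],
  [0, 0, 2, 0, 2, 1, 2, 1],
  [0, 0, 2, 0, 2, 2, 1, 1],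
  [0, 0, 2, 1, 1, 0, 2, 2]]

/-- the certificate -/
def threeCert : CentralLocal.Cert :=
  { act := actB baseB threeGens, one := threeOne, N := 27, k := 3, q := 0, rels := threeRels, P := 7,
    elt := threeElt, next := threeNext, word := threeWord, par := threePar, L := threeL, kind := threeKind, rank := threeRank,
    via := threeVia, pv := [81, 82, 83, 84, 86, 87, 89] }

theorem three_edges0 : ((List.range 27).all fun i => threeCert.edgeCheck (Nat.add 0 i)) = true := by decide +kernel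

theorem three_edges : ∀ i < 27, threeCert.edgeCheck i = true := by
  intro i hi
  have := List.all_eq_true.1 three_edges0 (i - 0) (List.mem_range.2 (by omega)); rwa [show Nat.add 0 (i - 0) = i from Nat.add_sub_cancel' (by omega)] at this


theorem three_tree0 : ((List.range 27).all fun i => threeCert.treeCheck (Nat.add 0 i)) = true := by decide +kernel

theorem three_tree : ∀ i < 27, threeCert.treeCheck i = true := by
  intro i hi
  have := List.all_eq_true.1 three_tree0 (i - 0) (List.mem_range.2 (by omega)); rwa [show Nat.add 0 (i - 0) = i from Nat.add_sub_cancel' (by omega)] at this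


theorem three_vars0 : ((List.range 101).all fun i => threeCert.varCheck (Nat.add 0 i)) = true := by decide +kernel

theorem three_vars : ∀ i < 101, threeCert.varCheck i = true := by
  intro i hi
  have := List.all_eq_true.1 three_vars0 (i - 0) (List.mem_range.2 (by omega)); rwa [show Nat.add 0 (i - 0) = i from Nat.add_sub_cancel' (by omega)] at this


theorem three_ord0 : ((List.range 27).all fun i => threeCert.ordCheck threeOrd (Nat.add 0 i)) = true := by decide +kernel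

theorem three_ord : ∀ i < 27, threeCert.ordCheck threeOrd i = true := by
  intro i hi
  have := List.all_eq_true.1 three_ord0 (i - 0) (List.mem_range.2 (by omega)); rwa [show Nat.add 0 (i - 0) = i from Nat.add_sub_cancel' (by omega)] at this


theorem three_rels : (threeCert.rels.all fun w => threeCert.relCheck w) = true := by decide +kernel

theorem three_valid : threeCert.Valid where
  npos := Nat.succ_pos _
  kpos := Nat.succ_pos _
  edges := three_edges
  tree := three_tree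
  rels := List.all_eq_true.1 three_rels
  vars := three_vars

/-- the lattice -/
def threeLat : CentralBound.Lat :=
  { basis := [[2, 0, 3, 1, 0, 0, -3],
      [-1, 0, -1, 0, 1, 0, 0],
      [3, 0, 2, 0, 0, 1, -3],
      [3, 1, 3, 0, 0, 0, -3]],
    compl := [[1, 0, 0, 0, 0, 0, 0], [-1, 0, 0, 0, 0, 0, 1], [0, 0, 1, 0, 0, 0, 0]],
    counts := [[3, 0, 0], [0, 1, 3], [0, 0, 3]],
    piv := [0, 1, 2],
    coord := [([0, 0, 0, 0], [1, 0, 0]),
      ([0, 0, 0, 1], [0, 3, -3]),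
      ([0, 0, 0, 0], [0, 0, 1]),
      ([1, 0, 0, 0], [1, 3, -3]),
      ([0, 1, 0, 0], [1, 0, 1]),
      ([0, 0, 1, 0], [0, 3, -2]),
      ([0, 0, 0, 0], [1, 1, 0])],
    gens := [],
    ord := [],
    red := [([], ([(-11, 0), (6, 1)], [(8, (0, 6)), (-9, (0, 20))]), [1, 0, 0, -1]),
      ([], ([(11, 0), (-13, 1)], [(-13, (0, 6))]), [-4, 1, 0, 4]),
      ([], ([(2, 1), (4, 0)], [(3, (0, 6)), (-5, (0, 20))]), [1, 0, 0, -1]),
      ([], ([(3, 0), (6, 1)], [(8, (0, 6)), (-9, (0, 20))]), [2, 0, 0, -2])],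
    kill := [] }

/-- conjugate commuting pairs -/
def threeSpecs : List Spec := [(([0], [1], [0], [1, 1]), (0x78324e0da0654196d11283900325330ddf1e71b910a00ac1ab3234ad52d670a0ba8acf6e2a5b24d40b855439731fd30e61109249c22232cb0b53f20a58850ba1232f8b150661717514060a2d0abba71d91bb31d7aab35af26c27aec51d4072184e1c9d322a1ee6d83df72b7eb2e75f6a1880146a315a94db2cf046430523c39d67178033c9fb01afb32d2ce8bc9d7c784cb78162a8434a134492b6f2954601550ecd971830d0f9b87cd996c7ced911d910422c91cb9e526f17f8b5020dc5b05dd49a3141bb3ea2911064f703941f189e092ad292e464d02ea8c68b36326a6c80a5c1b8b0890524cb36df86bd11581998b1345747cf53cf9ba2fd464a4bbe87686b464ac0740ed6d087676d0cf7154435969796537311051800db19c04d99527c4fac05e523d5a892942c0825141ac851164ca6dbf14776ba260cfc89d9172bb021895a1a1086e363ea934e18e898b11fd1fc692ebc020088e40ae565edcc631b5dd1d1223939d724b940f0ab21c9195f3a79d89d861ae5ae554fa38992b2d6a82ac2371d198cef59a4c0dd93b6aa8de3d5bdc5f18941114bee797b15a83c0b5fe574e8e1c4fa5ecd1218c1e4e234b79e391faf41534a61742b8052aa739a460032f6198a4fe568244604385b485845d9ae7d4f8c,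 0x10827ca46889f13627fc228315202eab13283d64e6007ba3470a997c34bad56bcc5981217502856535075592c3355ec0c3bc17c757b476007f7e2926a4abbc0a8a7e866e15892b9939c69e535b61d278badb96f5140a9edbf9a280b11f76c3059e81327bcddf185959d297cb63c18ce783160292d85d44064365b48ee4219c3c996e16945c895915f62e609840c0c6d3a642082b3eb79c4e891c05614e43990153b865259e79b4612331ba1a25500b2f02650177d9d652889eaf98839a284088ce2bca9f99fc8bd5665530d36b4781a1a5d58ec7b5ae2eb68479e2aa8b6726aa545ab896313d46b315c9a4922126ccaaf3d05ab0946476c9015ed1361486ab52420650b611d81e6eadc2972c89e2c9b1026baa0f9434600e4db0d360e0a79634fb1690236d3263e1a5fda89a987edca00d463994456648b3514af88af31ab5768ddf3950687852a058a6dfd20462d25cb8ba87c559d1e9068909a9e2836e12291adf4734208a90e1a8a008e310db5ba9764032257f9b272baf276189b690393013226319686ceea5da6d6d9bb9f078305e91cb6082419e738807e5270a74eb81f4ca0c4701d5fa813b2ee6375c0fe96850916f793f200235ec18bc3892a55cee90274e59f19b8e9294733a64ae7483531c0df8c, [1,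 0, 2, 1, 3, 4, 5, 0, 1, 0, 5, 1, 2, 5, 1, 0, 1, 5, 3, 1, 2, 5, 3, 4, 2, 1, 2, 3, 2, 1, 5, 1, 0, 4, 1, 2, 3, 2, 1, 0, 5, 4, 1, 2, 3, 2, 1, 4, 5, 3, 2, 3, 1, 2, 0, 1, 0, 1, 3, 2, 1, 0, 3, 2, 1, 0, 1, 2])),
  (([0], [1], [2, 0, 0], [1]), (0xb3dfa4e2307aff02ca4b3f32a566bb3e8b792e28ac18c5c6118c47b141304b3249aa0a6f49838107e3c87e058a71b65434b43621158010de9a39e3d5f1ab08222a6d461644640e0479cc0068b36cbef6f78f9796f118d3f9a13a2ad5280df08d2134db950fa41362d2062c45ab438d33931e6a2e3863d70819255642ccbcc7a346c68295d87816a6e763824ba9d9b544323d886e7b2b788d58882030e0c1f94c941db23d63b7f2b852b431592e607347330695359986054c93801a716f281ad9c1bbe9472c25a3b765d613aaec674c98db0f8eb8ac26787327855e08f80cace8190b9b076ea16c793c785d00a1599482c27aa096b1286f15296ea62ca834d13559f434a8e858d3c404cc6ba64b1356e6dff323151abc843dad8169c083870b8961db49a41525a1de980696434959ddc624b47d89e52838039084ee600f6d2cb1a12050134bd7d5e67b7670bb187eb32189166dc04488182f932870e0aec6016e651f1571a8997aa825e7dc08202938fa7f7a19b16edadc87235dc1e625029833894d4e3b82a7f26ba5c936f257078e23ab9849850bbbb5124856b451f3784a548dcab53c3d6b1b4741dca60b5a30cb2491e5c5c09a48bd3f8ea8a75472ca097f0cac62c88b0376c0c9a542763e87272c9cdeb200,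 0x2f5b24c7a574e9984e0f3c72a6601cd0a33297861678c2ade141728a845438a27e17337086679e76aacdbb20301bcaa46431d90924727c1ed3ce611d950a9acfcc6370f34e1dd98d3f2a4a13629c240318324fd794e608b82ebf5b1224ee8ba404374a77aab232062820274d22aed92e149d4278f90151201047fab1cf5ead3b58e146d51d1a4dce91162200f838a545abb4a1b251454ec4789cd05c63258246a917154f974751c335c5681312f038682de5b68b56d48ef96478186265ac47a1c57af90188dd4ca20a8077235164b88e40c4a8abb929445da6469dc67a4486ec0bc98ced2365f026db51c93d4e67642661f9639be241ec64f8e60487cd1b8c3307533e0d8baaa985290c241d6eca3e8fd5e10164cecc6015925869b0ae3aeac80cb442ca420d24da983fe5d282fbf8d4e8cb6e09e5c22ae5c57a70365cc68a84617285162c5f0b2e553daef6d023c89d6d9700107afbc00b6b6d67b60a7b2c3e158431f9daaec82409558f38f6150d2c0d85e529eb9894ade4f76f9693ab42fc470682c446681678ea25393589d190d296a8f00b38064b4c6837482a106f0d075a6c0353f4988147189e124ce1c6deb5bd0fa206b7a255b0fe6bca1bd0a400ea96a3cddf92f1452918397db0be8b760aeb38d000,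 [2, 4, 3, 2, 0, 1, 0, 1, 2, 1, 3, 2, 4, 5, 1, 2, 3, 4, 1, 2, 4, 3, 2, 3, 4, 1, 2, 3, 2, 3, 4, 3, 5, 1, 2, 3, 4, 5, 1, 0, 1, 2, 5, 1, 0, 5, 3, 4, 2, 3, 2, 1, 0, 1, 2, 1, 4, 3, 2, 1, 0, 1, 2, 3, 4, 3, 2, 3, 5, 3, 2, 3, 1, 2, 0, 1, 0, 1, 3, 2, 1, 0, 3, 2, 1, 0, 1, 2]))]

theorem three_gens : threeGens.all (elemOK 416 baseP) = true ∧ threeSpecs.all (specOK 416 baseP baseB threeCert threeGens) = true := by decide +kernel

theorem three_lat : CentralBound.latOK threeCert (threeSpecs.map extOf) (3 ^ 3) threeLat = true := by decide +kernel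

end Cfsg.Agent.Lie.GTwoFourMult
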