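import Cfsg.Agent.Lib.Lie.CoverAssemble
import Cfsg.Agent.Lib.Lie.GTwoFourHallJanko.Main
import Cfsg.Agent.Lib.Lie.GTwoFourMult.Checks
import Cfsg.Agent.Lib.Lie.GTwoFourMult.Two
import Cfsg.Agent.Lib.Lie.GTwoFourMult.Three
import Cfsg.Agent.Lib.Lie.GTwoFourMult.Five

/-!
The Schur multiplier of the group of type G2 over four elements has order two.
-/

set_option autoImplicit false
set_option maxRecDepth 100000
set_option maxHeartbeats 1000000
set_option Elab.async false

noncomputable section

namespace Cfsg.Agent.Lie.GTwoFourMult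

open Cfsg Cfsg.Agent.Lie PermCover
open Cfsg.Agent.Lie.PermNine (Rep pg)
open Cfsg.Agent.Lie.GTwoFourHallJanko (baseP baseB)

universe u

/-- The base points. -/
def baseF : List (Fin 416) := [0, 1, 2, 4, 3]

theorem baseF_val : baseF.map Fin.val = baseB := by decide +kernel

/-- The matrices. -/
abbrev MatT : Type := Matrix (Fin 12) (Fin 12) (ZMod 3)

/-- A structure. -/
def strJ (i : Fin 416) : MatT := mat (objN.getD i 0)

theorem strJ_ok (i : Fin 416) : matOK (objN.getD i 0) = true := by
  have := carry_all i i.2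
  simp only [carryJ, Bool.and_eq_true] at this
  exact this.1

theorem mat_oneN : mat oneN = 1 := by
  ext i j
  show rv (rowM oneN i) j = _
  rw [mat_one.1, Matrix.one_apply]

theorem mat_negN : mat negN = -1 := by
  ext i j
  show rv (rowM negN i) j = _
  rw [mat_one.2, Matrix.neg_apply, Matrix.one_apply]
  split <;> simp

/-- A matrix commuting with all the structures is scalar. -/
theorem scalar_of_comm {A : MatT} (hA : ∀ i : Fin 416, A * strJ i = strJ i * A) : A = A 0 0 • (1 : MatT) := by
  obtain ⟨hall, hlen, hfour⟩ := comm_all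
  have key : ∀ i j : Fin 12, A i j = if i = j then A 0 0 else 0 := by
    intro i j
    have hk : 12 * (i : ℕ) + j < commC.length := by rw [hlen]; omega
    have hmem : commC.getD (12 * (i : ℕ) + j) (0, []) ∈ commC := by
      rw [List.getD_eq_getElem _ _ hk]; exact List.getElem_mem _
    have he := List.all_eq_true.1 hall _ hmem
    simp only [commOK4, Bool.and_eq_true, List.all_eq_true, Nat.blt_eq] at he
    have ht := trace_commIs he.2 (A := A) fun p hp => by
      obtain ⟨q, hq, rfl⟩ := List.mem_map.1 hp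
      exact hA ⟨fourB.getD q.1 0, hfour ⟨q.1, he.1 q hq⟩⟩
    rw [Matrix.trace] at ht
    simp only [Matrix.diag, Matrix.mul_apply] at ht
    have hT : ∀ a b : Fin 12, mat (commC.getD (12 * (i : ℕ) + j) (0, [])).1 a b =
        (if a = j ∧ b = i then 1 else 0) - (if i = j ∧ a = 0 ∧ b = 0 then 1 else 0) := comm_targets i j
    simp only [hT, sub_mul, ite_mul, one_mul, zero_mul, Finset.sum_sub_distrib, ite_and] at ht
    simp only [Finset.sum_ite_eq', Finset.mem_univ, if_true, Finset.sum_ite_irrel, Finset.sum_const_zero] at ht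
    split_ifs at ht ⊢ with h
    · exact sub_eq_zero.1 ht
    · rwa [sub_zero] at ht
  ext i j
  rw [key, Matrix.smul_apply, Matrix.one_apply, smul_eq_mul]
  split_ifs <;> simp

section

variable {G : Type u} [Group G] [Finite G] (φ : G →* Equiv.Perm (Fin 416)) (hb : ∀ p ∈ baseP, ∃ g, Rep φ g p)
  (hcard : Nat.card G = 251596800)

include hb hcard

theorem fix_base (g : G) (hg : ∀ b ∈ baseF, φ g b = b) : g = 1 := by
  refine fix_one_of_chain GTwoFourHallJanko.chainX_ok (GTwoFourHallJanko.chain_reps φ hb)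
    (by rw [GTwoFourHallJanko.chainX_size, hcard]) (by rw [GTwoFourHallJanko.chainX_size]; norm_num)
    fun k hk => hg k ?_
  rw [GTwoFourHallJanko.chainX_base, ← baseF_val, List.mem_map] at hk
  obtain ⟨b, hb', e⟩ := hk
  exact Fin.ext e ▸ hb'

omit hb hcard in
/-- The model. -/
def model (φ : G →* Equiv.Perm (Fin 416)) (hb : ∀ p ∈ baseP, ∃ g, Rep φ g p) (hcard : Nat.card G = 251596800) :
    Model G 416 where
  n_le := by norm_num
  φ := φ
  inj := GTwoFourHallJanko.injective φ hb hcard
  base := baseP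
  base_rep := hb
  B := baseF
  B_fix := fix_base φ hb hcard

theorem gens_exist : ∃ xs : Fin 2 → G, Subgroup.closure (Set.range xs) = ⊤ ∧ ∀ s : Fin 2, Rep φ (xs s) (pairP s) := by
  have hinj := GTwoFourHallJanko.injective φ hb hcard
  have hx : ∀ s : Fin 2, ∃ g, Rep φ g (pairP s) := fun s => by
    have hs : (s : ℕ) < pairE.length := by rw [pair_ok.2]; exact s.2
    refine GTwoFourHallJanko.word_rep φ hb (e := pairE.getD s (0, 0, [])) (List.all_eq_true.1 pair_ok.1 _ ?_)
    rw [List.getD_eq_getElem _ _ hs]; exact List.getElem_mem _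
  choose xs hxs using hx
  refine ⟨xs, ?_, hxs⟩
  obtain ⟨K, hK⟩ : ∃ K, K = Subgroup.closure (Set.range xs) := ⟨_, rfl⟩
  rw [← hK]
  have hw : ∀ w : List ℕ, w.all (fun q => Nat.blt q 2) = true →
      ∃ g ∈ K, ∀ k : Fin 416, (φ g k : ℕ) = imgW pairE w k := by
    intro w
    induction w with
    | nil => exact fun _ => ⟨1, one_mem _, fun k => by rw [map_one]; rfl⟩
    | cons s w ih =>
      intro h
      simp only [List.all_cons, Bool.and_eq_true, Nat.blt_eq] at h
      obtain ⟨g, hgK, hg⟩ := ih h.2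
      refine ⟨xs ⟨s, h.1⟩ * g, mul_mem (hK ▸ Subgroup.subset_closure ⟨_, rfl⟩) hgK, fun k => ?_⟩
      rw [map_mul, Equiv.Perm.mul_apply, hxs ⟨s, h.1⟩, hg]
      rfl
  have hlen : baseP.length = 6 := by decide +kernel
  have hbase : ∀ p ∈ baseP, ∃ g ∈ K, Rep φ g p := fun p hp => by
    obtain ⟨t, ht, rfl⟩ := List.getElem_of_mem hp
    obtain ⟨h1, h2⟩ := base_words ⟨t, hlen ▸ ht⟩
    obtain ⟨g, hgK, hg⟩ := hw _ h1
    refine ⟨g, hgK, fun k => ?_⟩
    have := Nat.eq_of_beq_eq_true (List.all_eq_true.1 h2 k (List.mem_range.2 k.2))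
    rw [List.getD_eq_getElem _ _ ht] at this
    rw [hg, this]
  have hword : ∀ w : List ℕ, (∀ s ∈ w, s < baseP.length) → ∃ g ∈ K, ∀ k : Fin 416, (φ g k : ℕ) = imgP baseP w k := by
    intro w
    induction w with
    | nil => exact fun _ => ⟨1, one_mem _, fun k => by rw [map_one]; rfl⟩
    | cons s w ih =>
      intro h
      simp only [List.mem_cons, forall_eq_or_imp] at h
      obtain ⟨g, hgK, hg⟩ := ih h.2
      obtain ⟨u, huK, hu⟩ := hbase (baseP.getD s 0) (by rw [List.getD_eq_getElem _ _ h.1]; exact List.getElem_mem _)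
      refine ⟨u * g, mul_mem huK hgK, fun k => ?_⟩
      rw [map_mul, Equiv.Perm.mul_apply, hu, hg]
      rfl
  refine (Subgroup.eq_top_iff' K).2 (PermNine.chain_mem hinj GTwoFourHallJanko.chainX_ok
    (fun l hl => ⟨(GTwoFourHallJanko.chain_reps φ hb l hl).1, ?_⟩)
    (by rw [GTwoFourHallJanko.chainX_size, hcard]))
  obtain ⟨l, hl', rfl⟩ := List.mem_map.1 hl
  intro p hp
  obtain ⟨e, he, rfl⟩ := List.mem_map.1 hp
  have h := List.all_eq_true.1 (List.all_eq_true.1 GTwoFourHallJanko.chainE_ok l hl') e he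
  simp only [elemOK, Bool.and_eq_true, List.all_eq_true, Nat.blt_eq, List.mem_range, Nat.beq_eq] at h
  obtain ⟨g, hgK, hg⟩ := hword e.2.2 h.1
  exact ⟨g, hgK, fun k => (hg k).trans (h.2 k k.2).1.symm⟩

omit hb hcard in
/-- The group of compatible pairs. -/
def fibre : Subgroup (MatTˣ × G) where
  carrier := {x | ∀ i : Fin 416, (x.1 : MatT) * strJ i = strJ (φ x.2 i) * (x.1 : MatT)}
  one_mem' := fun i => by simp
  mul_mem' := fun {x y} hx hy i => by
    simp only [Prod.fst_mul, Prod.snd_mul, Units.val_mul, map_mul, Equiv.Perm.mul_apply]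
    rw [Matrix.mul_assoc, hy i, ← Matrix.mul_assoc, hx, Matrix.mul_assoc]
  inv_mem' := fun {x} hx i => by
    simp only [Prod.fst_inv, Prod.snd_inv, map_inv]
    have h := hx ((φ x.2)⁻¹ i)
    rw [show φ x.2 ((φ x.2)⁻¹ i) = i from Equiv.apply_symm_apply _ _] at h
    have h2 := congrArg (fun z : MatT => (↑x.1⁻¹ : MatT) * z * (↑x.1⁻¹ : MatT)) h
    simp only [← Matrix.mul_assoc, Units.inv_mul, Matrix.one_mul] at h2
    simp only [Matrix.mul_assoc, Units.mul_inv, Matrix.mul_one] at h2
    exact h2.symm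

theorem cover_exists (hperf : commutator G = ⊤) : ∃ (E : Type u) (_ : Group E) (_ : Finite E) (π : E →* G),
    Cfsg.IsStemExtension π ∧ Nonempty (π.ker ≃* Multiplicative (ZMod 2)) := by
  obtain ⟨xs, htop, hxs⟩ := gens_exist φ hb hcard
  obtain ⟨hone, hneg, hl⟩ : matOK oneN = true ∧ matOK negN = true ∧ _ := basics
  simp only [List.all_cons, List.all_nil, Bool.and_true, Bool.and_eq_true] at hl
  have hlift : ∀ s : Fin 2, ((matOK (liftN.getD s 0) = true ∧ matOK (liftI.getD s 0) = true) ∧
      prodIs (liftN.getD s 0) (liftI.getD s 0) oneN = true) ∧ prodIs (liftI.getD s 0) (liftN.getD s 0) oneN = true := by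
    intro s
    fin_cases s
    exacts [hl.1, hl.2]
  let U : Fin 2 → MatTˣ := fun s =>
    { val := mat (liftN.getD s 0)
      inv := mat (liftI.getD s 0)
      val_inv := (prodIs_spec (hlift s).1.1.2 (hlift s).1.2).trans mat_oneN
      inv_val := (prodIs_spec (hlift s).1.1.1 (hlift s).2).trans mat_oneN }
  have hgen : ∀ s : Fin 2, ((U s, xs s) : MatTˣ × G) ∈ fibre φ := fun s i => by
    have h := carry_all i i.2
    simp only [carryJ, Bool.and_eq_true, List.all_eq_true] at h
    have hs := h.2 (s : ℕ) (by revert s; decide)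
    simp only [Bool.and_eq_true, Nat.blt_eq] at hs
    have e := prodEq_spec h.1 (hlift s).1.1.1 hs.2
    show mat (liftN.getD s 0) * strJ i = strJ (φ (xs s) i) * mat (liftN.getD s 0)
    rw [show strJ (φ (xs s) i) = mat (objN.getD (pg (pairP s) i) 0) by rw [strJ, hxs s]]
    exact e
  obtain ⟨π, hπ⟩ : ∃ π : fibre φ →* G, ∀ x : fibre φ, π x = x.1.2 :=
    ⟨(MonoidHom.snd MatTˣ G).comp (fibre φ).subtype, fun _ => rfl⟩
  have hsurj : Function.Surjective π := by
    rw [← MonoidHom.range_eq_top, eq_top_iff, ← htop, Subgroup.closure_le]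
    rintro _ ⟨s, rfl⟩
    exact ⟨⟨_, hgen s⟩, hπ _⟩
  have hz : ((-1, 1) : MatTˣ × G) ∈ fibre φ := fun i => by simp
  obtain ⟨z, hzdef⟩ : ∃ z : fibre φ, z = ⟨_, hz⟩ := ⟨_, rfl⟩
  have hsq : z ^ 2 = 1 := by
    rw [hzdef]
    exact Subtype.ext (Prod.ext neg_one_sq (one_pow 2))
  have hne : z ≠ 1 := fun h => by
    have h' : ((-1 : MatTˣ) : MatT) 0 0 = ((1 : MatTˣ) : MatT) 0 0 := by
      rw [hzdef] at h
      exact congrArg (fun y : fibre φ => (y.1.1 : MatT) 0 0) h
    rw [Units.val_neg, Units.val_one, Matrix.neg_apply, Matrix.one_apply_eq] at h'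
    exact absurd h' (by decide)
  have hzc : ∀ y : fibre φ, y * z = z * y := fun y => by
    subst hzdef
    exact Subtype.ext (Prod.ext (by simp) (by simp))
  have hker : ∀ x : fibre φ, π x = 1 → x = 1 ∨ x = z := by
    intro x hx
    rw [hπ] at hx
    have hA := scalar_of_comm (A := (x.1.1 : MatT)) fun i => by
      have := x.2 i
      rwa [hx, map_one] at this
    have key : ∀ c : ZMod 3, c = 0 ∨ c = 1 ∨ c = -1 := by decide
    rcases key ((x.1.1 : MatT) 0 0) with h | h | h <;> rw [h] at hA
    · rw [zero_smul] at hA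
      exact absurd hA (Units.ne_zero _)
    · exact Or.inl (Subtype.ext (Prod.ext (Units.ext (by rw [hA, one_smul]; rfl)) hx))
    · subst hzdef
      exact Or.inr (Subtype.ext (Prod.ext (Units.ext (by rw [hA, neg_one_smul, Units.val_neg, Units.val_one])) hx))
  have hcentral : π.ker ≤ Subgroup.center (fibre φ) := fun x hx => by
    rcases hker x hx with rfl | rfl
    exacts [one_mem _, Subgroup.mem_center_iff.2 hzc]
  have hz1 : π z = 1 := by rw [hπ, hzdef]
  -- minus one as a sixth power
  let gE : ℕ → fibre φ := fun s => ⟨_, hgen ⟨s % 2, Nat.mod_lt _ two_pos⟩⟩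
  let lift : List ℕ → fibre φ := fun w => (w.map gE).prod
  have hlift2 : ∀ w : List ℕ, w.all (fun q => Nat.blt q 2) = true →
      ∀ k : Fin 416, (φ (lift w).1.2 k : ℕ) = imgW pairE w k := by
    intro w
    induction w with
    | nil => exact fun _ k => by rw [show (lift []).1.2 = 1 from rfl, map_one]; rfl
    | cons s w ih =>
      intro h k
      simp only [List.all_cons, Bool.and_eq_true, Nat.blt_eq] at h
      rw [show (lift (s :: w)).1.2 = xs ⟨s % 2, Nat.mod_lt _ two_pos⟩ * (lift w).1.2 from rfl, map_mul,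
        Equiv.Perm.mul_apply, hxs, ih h.2]
      simp only [Nat.mod_eq_of_lt h.1]
      rfl
  have hnc := neg_chain
  simp only [Bool.and_eq_true, List.all_eq_true, List.mem_range, Nat.beq_eq, Nat.blt_eq] at hnc
  obtain ⟨⟨⟨hsteps, h0⟩, hend⟩, hlt⟩ := hnc
  have hchain : ∀ i ≤ negW.length, ((lift (negW.drop (negW.length - i))).1.1 : MatT) = mat (negC.getD i 0) := by
    intro i
    induction i with
    | zero => exact fun _ => by rw [Nat.sub_zero, List.drop_length, h0, mat_oneN]; rfl
    | succ i ih =>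
      intro hi
      have hs := hsteps i (by omega)
      simp only [chainOK, Bool.and_eq_true] at hs
      have hd : negW.drop (negW.length - (i + 1)) =
          negW.getD (negW.length - 1 - i) 0 :: negW.drop (negW.length - i) := by
        rw [List.drop_eq_getElem_cons (by omega), List.getD_eq_getElem _ _ (by omega)]
        congr 1
        · congr 1; omega
        · congr 1; omega
      rw [hd]
      show mat (liftN.getD (negW.getD (negW.length - 1 - i) 0 % 2) 0) *
        ((lift (negW.drop (negW.length - i))).1.1 : MatT) = _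
      have hq : negW.getD (negW.length - 1 - i) 0 < 2 := hlt _ (by
        rw [List.getD_eq_getElem _ _ (by omega : negW.length - 1 - i < negW.length)]; exact List.getElem_mem _)
      rw [ih (by omega), Nat.mod_eq_of_lt hq, prodIs_spec hs.1 hs.2]
  have hzw : lift negW = z := by
    have h1 : ((lift negW).1.1 : MatT) = -1 := by
      have := hchain negW.length le_rfl
      rwa [Nat.sub_self, List.drop_zero, hend, mat_negN] at this
    subst hzdef
    refine Subtype.ext (Prod.ext (Units.ext (by rw [h1, Units.val_neg, Units.val_one]))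
      (GTwoFourHallJanko.injective φ hb hcard (Equiv.ext fun k => Fin.ext ?_)))
    rw [hlift2 negW (List.all_eq_true.2 fun q hq => Nat.blt_eq ▸ (hlt q hq : q < 2)) k, map_one]
    exact Nat.eq_of_beq_eq_true (List.all_eq_true.1 neg_word k (List.mem_range.2 k.2))
  obtain ⟨v, hv⟩ : ∃ v, v = lift (negW.take 6) := ⟨_, rfl⟩
  have hpow : v ^ 6 = z := by
    rw [← hzw, neg_period]
    simp only [lift, List.map_append, List.prod_append, hv, pow_succ, pow_zero, one_mul]
  have hcomm : z ∈ commutator (fibre φ) := by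
    have hmap : (commutator (fibre φ)).map π = ⊤ := by
      rw [commutator_def, Subgroup.map_commutator, Subgroup.map_top_of_surjective π hsurj, ← commutator_def, hperf]
    obtain ⟨c, hc, hcv⟩ : π v ∈ (commutator (fibre φ)).map π := hmap ▸ Subgroup.mem_top _
    have hd : π (v⁻¹ * c) = 1 := by rw [map_mul, map_inv, hcv, inv_mul_cancel]
    have h6 : (v⁻¹ * c) ^ 6 = 1 := by
      rcases hker _ hd with h | h <;> rw [h]
      · exact one_pow _
      · rw [show (6 : ℕ) = 2 * 3 from rfl, pow_mul, hsq, one_pow]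
    have hcv2 : Commute v (v⁻¹ * c) := Subgroup.mem_center_iff.1 (hcentral hd) v
    have : c ^ 6 = z := by
      rw [show c = v * (v⁻¹ * c) by rw [mul_inv_cancel_left], hcv2.mul_pow, h6, mul_one, hpow]
    exact this ▸ pow_mem hc 6
  have hst : Cfsg.IsStemExtension π := by
    refine ⟨hsurj, hcentral, fun x hx => ?_⟩
    rcases hker x hx with rfl | rfl
    exacts [one_mem _, hcomm]
  let f : Multiplicative (ZMod 2) →* π.ker := MonoidHom.mk'
    (fun v => ⟨z ^ (Multiplicative.toAdd v).val, by rw [MonoidHom.mem_ker, map_pow, hz1, one_pow]⟩)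
    fun a b => Subtype.ext (show z ^ _ = z ^ _ * z ^ _ by
      rw [← pow_add, toAdd_mul, ZMod.val_add]
      exact (pow_eq_pow_mod _ hsq).symm)
  have hfb : Function.Bijective f := by
    constructor
    · intro v w h
      have h1 := congrArg (fun x : π.ker => (x : fibre φ)) h
      have key : ∀ a b : ZMod 2, z ^ a.val = z ^ b.val → a = b := by
        intro a b hab
        fin_cases a <;> fin_cases b
        · rfl
        · exact absurd ((pow_one z).symm.trans (hab.symm.trans (pow_zero z))) hne
        · exact absurd ((pow_one z).symm.trans (hab.trans (pow_zero z))) hne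
        · rfl
      exact Multiplicative.toAdd.injective (key _ _ h1)
    · intro x
      rcases hker x.1 x.2 with h | h
      · exact ⟨Multiplicative.ofAdd 0, Subtype.ext (h.symm ▸ pow_zero z)⟩
      · exact ⟨Multiplicative.ofAdd 1, Subtype.ext (h.symm ▸ pow_one z)⟩
  exact ⟨fibre φ, inferInstance, inferInstance, π, hst, ⟨(MulEquiv.ofBijective f hfb).symm⟩⟩

/-- The multiplier. -/
theorem multiplier (hperf : commutator G = ⊤) : Cfsg.HasCyclicSchurMultiplier G 2 := by
  have hB : (model φ hb hcard).B.map Fin.val = baseB := baseF_val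
  refine CoverUniversal.hasSchur_of hperf (cover_exists φ hb hcard hperf) fun Γ _ _ σ hσ => ?_
  have h2 : 2 ^ (Nat.card σ.ker).factorization 2 ≤ 2 :=
    ((model φ hb hcard).part_le twoCert twoGens two_gens.1 rfl (by rw [hB]; rfl)
      (by rw [hB]; decide +kernel) two_valid twoOrd two_ord twoSpecs (by rw [hB]; exact two_gens.2)
      (e := 12) twoLat two_lat Nat.prime_two (m := 61425) (by rw [hcard]; norm_num) (by decide)
      (by rw [hcard]; decide +kernel) hσ).trans (by decide +kernel)
  have h3 : 3 ^ (Nat.card σ.ker).factorization 3 ≤ 1 :=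
    ((model φ hb hcard).part_le threeCert threeGens three_gens.1 rfl (by rw [hB]; rfl)
      (by rw [hB]; decide +kernel) three_valid threeOrd three_ord threeSpecs (by rw [hB]; exact three_gens.2)
      (e := 3) threeLat three_lat Nat.prime_three (m := 9318400) (by rw [hcard]; norm_num) (by decide)
      (by rw [hcard]; decide +kernel) hσ).trans (by decide +kernel)
  have h5 : 5 ^ (Nat.card σ.ker).factorization 5 ≤ 1 :=
    ((model φ hb hcard).part_le fiveCert fiveGens five_gens.1 rfl (by rw [hB]; rfl)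
      (by rw [hB]; decide +kernel) five_valid fiveOrd five_ord fiveSpecs (by rw [hB]; exact five_gens.2)
      (e := 2) fiveLat five_lat (by norm_num : Nat.Prime 5) (m := 10063872) (by rw [hcard]; norm_num) (by decide)
      (by rw [hcard]; decide +kernel) hσ).trans (by decide +kernel)
  have hprimes : ∀ r : ℕ, r.Prime → r ∣ Nat.card σ.ker → r = 2 ∨ r = 3 := by
    intro r hr hd
    by_contra hne
    haveI : Fact r.Prime := ⟨hr⟩
    by_cases hr5 : r = 5
    · subst hr5
      have h1 : 1 ≤ (Nat.card σ.ker).factorization 5 := hr.factorization_pos_of_dvd Nat.card_pos.ne' hd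
      have := Nat.pow_le_pow_right (by norm_num : 0 < 5) h1
      omega
    obtain ⟨w, hw⟩ := exists_prime_orderOf_dvd_card' r hd
    have hno : ¬ r ^ 2 ∣ Nat.card G := fun h => by
      rw [hcard, show (251596800 : ℕ) = 2 ^ 12 * 3 ^ 3 * 5 ^ 2 * 7 * 13 by norm_num] at h
      have hdvd : r ∣ 2 ^ 12 * 3 ^ 3 * 5 ^ 2 * 7 * 13 := (dvd_pow_self r two_ne_zero).trans h
      simp only [hr.dvd_mul] at hdvd
      have key : ∀ p : ℕ, p.Prime → r ∣ p → r = p := fun p hp e => (Nat.prime_dvd_prime_iff_eq hr hp).1 e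
      rcases hdvd with (((e | e) | e) | e) | e
      · exact hne (Or.inl (key 2 Nat.prime_two (hr.dvd_of_dvd_pow e)))
      · exact hne (Or.inr (key 3 Nat.prime_three (hr.dvd_of_dvd_pow e)))
      · exact hr5 (key 5 (by norm_num) (hr.dvd_of_dvd_pow e))
      · obtain rfl := key 7 (by norm_num) e
        norm_num at h
      · obtain rfl := key 13 (by norm_num) e
        norm_num at h
    have h1 : w = 1 := CentralTable.ker_no_torsion hσ hr hno w (hw ▸ pow_orderOf_eq_one w)
    rw [h1, orderOf_one] at hw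
    exact hr.one_lt.ne hw
  rw [CoverUniversal.eq_two_parts Nat.card_pos.ne' Nat.prime_two Nat.prime_three (by norm_num) hprimes]
  calc 2 ^ (Nat.card σ.ker).factorization 2 * 3 ^ (Nat.card σ.ker).factorization 3 ≤ 2 * 1 := Nat.mul_le_mul h2 h3
    _ = _ := by simp

end

end Cfsg.Agent.Lie.GTwoFourMult
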