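import Mathlib

/-!
Rows over the field of three elements as pairs of bit masks, and products of twelve by twelve matrices given by such rows.
-/

set_option autoImplicit false

namespace Cfsg.Agent.Lie.GTwoFourMult

/-- One entry from its two bits. -/
def tv (a b : Bool) : ZMod 3 := cond a 1 (cond b 2 0)

/-- An entry of a row. -/
def rv (r : ℕ × ℕ) (j : ℕ) : ZMod 3 := tv (r.1.testBit j) (r.2.testBit j)

/-- No bit is set in both masks. -/
def Dis (r : ℕ × ℕ) : Prop := ∀ j, ¬ (r.1.testBit j = true ∧ r.2.testBit j = true)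

/-- The sum of rows. -/
def radd (a b : ℕ × ℕ) : ℕ × ℕ :=
  let t := (a.1 ||| b.2) ^^^ (a.2 ||| b.1)
  ((a.2 ||| b.2) ^^^ t, (a.1 ||| b.1) ^^^ t)

theorem bit_add : ∀ a1 a2 b1 b2 : Bool, ¬ (a1 = true ∧ a2 = true) → ¬ (b1 = true ∧ b2 = true) →
    tv ((a2 || b2) ^^ ((a1 || b2) ^^ (a2 || b1))) ((a1 || b1) ^^ ((a1 || b2) ^^ (a2 || b1))) = tv a1 a2 + tv b1 b2 ∧
    ¬ (((a2 || b2) ^^ ((a1 || b2) ^^ (a2 || b1))) = true ∧ ((a1 || b1) ^^ ((a1 || b2) ^^ (a2 || b1))) = true) := by
  decide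

theorem radd_spec {a b : ℕ × ℕ} (ha : Dis a) (hb : Dis b) :
    Dis (radd a b) ∧ ∀ j, rv (radd a b) j = rv a j + rv b j := by
  refine ⟨fun j => ?_, fun j => ?_⟩
  · simp only [radd, Nat.testBit_xor, Nat.testBit_or]
    exact (bit_add _ _ _ _ (ha j) (hb j)).2
  · simp only [rv, radd, Nat.testBit_xor, Nat.testBit_or]
    exact (bit_add _ _ _ _ (ha j) (hb j)).1

theorem swap_spec {a : ℕ × ℕ} (ha : Dis a) : Dis (a.2, a.1) ∧ ∀ j, rv (a.2, a.1) j = 2 * rv a j := by
  refine ⟨fun j h => ha j ⟨h.2, h.1⟩, fun j => ?_⟩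
  have key : ∀ x y : Bool, ¬ (x = true ∧ y = true) → tv y x = 2 * tv x y := by decide
  exact key _ _ (ha j)

/-- A row combination over a list of indices. -/
def combL (a : ℕ × ℕ) (B : ℕ → ℕ × ℕ) : List ℕ → ℕ × ℕ
  | [] => (0, 0)
  | k :: l => cond (a.1.testBit k) (radd (B k) (combL a B l))
      (cond (a.2.testBit k) (radd ((B k).2, (B k).1) (combL a B l)) (combL a B l))

theorem combL_spec (a : ℕ × ℕ) (B : ℕ → ℕ × ℕ) : ∀ l : List ℕ, (∀ k ∈ l, Dis (B k)) →
    Dis (combL a B l) ∧ ∀ j, rv (combL a B l) j = (l.map fun k => rv a k * rv (B k) j).sum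
  | [], _ => ⟨fun j h => by simp [combL] at h, fun j => by simp [combL, rv, tv]⟩
  | k :: l, h => by
    simp only [List.mem_cons, forall_eq_or_imp] at h
    obtain ⟨hd, hv⟩ := combL_spec a B l h.2
    simp only [combL, List.map_cons, List.sum_cons]
    cases h1 : a.1.testBit k
    · cases h2 : a.2.testBit k
      · exact ⟨hd, fun j => by simp [rv, tv, h1, h2] at *; exact hv j⟩
      · obtain ⟨s1, s2⟩ := swap_spec h.1
        obtain ⟨r1, r2⟩ := radd_spec s1 hd
        refine ⟨r1, fun j => ?_⟩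
        simp only [cond_false, cond_true, r2, s2, hv]
        simp [rv, tv, h1, h2]
    · obtain ⟨r1, r2⟩ := radd_spec h.1 hd
      refine ⟨r1, fun j => ?_⟩
      simp only [cond_true, r2, hv]
      simp [rv, tv, h1]

/-- The indices. -/
def idxL : List ℕ := [0, 1, 2, 3, 4, 5, 6, 7, 8, 9, 10, 11]

/-- A row of a packed matrix: twelve bits for ones, twelve for twos. -/
def rowM (M : ℕ) (i : ℕ) : ℕ × ℕ := ((M >>> (24 * i)) &&& 4095, (M >>> (24 * i + 12)) &&& 4095)

/-- All rows are well formed. -/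
def matOK (M : ℕ) : Bool := idxL.all fun i => Nat.beq ((rowM M i).1 &&& (rowM M i).2) 0

/-- The matrix. -/
def mat (M : ℕ) : Matrix (Fin 12) (Fin 12) (ZMod 3) := Matrix.of fun i j => rv (rowM M i) j

theorem dis_row {M : ℕ} (h : matOK M = true) {i : ℕ} (hi : i ∈ idxL) : Dis (rowM M i) := fun j hj => by
  have e := Nat.eq_of_beq_eq_true (List.all_eq_true.1 h i hi)
  have := congrArg (fun x : ℕ => x.testBit j) e
  rw [Nat.testBit_and, hj.1, hj.2, Nat.zero_testBit] at this
  exact Bool.noConfusion this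

theorem mem_idxL (i : Fin 12) : (i : ℕ) ∈ idxL := by revert i; decide

theorem sum_idxL {M : Type*} [AddCommMonoid M] (f : ℕ → M) : (idxL.map f).sum = ∑ k : Fin 12, f k := by
  rw [show idxL = List.range 12 from rfl, Finset.sum_fin_eq_sum_range, Finset.sum_eq_multiset_sum,
    Finset.range_val, Multiset.range, Multiset.map_coe, Multiset.sum_coe]
  exact congrArg List.sum (List.map_congr_left fun k hk => by rw [dif_pos (List.mem_range.1 hk)])

/-- A row of a product. -/
def mulRow (A B i : ℕ) : ℕ × ℕ := combL (rowM A i) (rowM B) idxL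

theorem mulRow_spec {A B : ℕ} (hB : matOK B = true) (i j : Fin 12) :
    Dis (mulRow A B i) ∧ rv (mulRow A B i) j = (mat A * mat B) i j := by
  obtain ⟨h1, h2⟩ := combL_spec (rowM A i) (rowM B) idxL fun k hk => dis_row hB hk
  refine ⟨h1, ?_⟩
  rw [mulRow, h2, sum_idxL, Matrix.mul_apply]
  rfl

/-- Two products agree. -/
def prodEq (A B C D : ℕ) : Bool :=
  idxL.all fun i => Nat.beq (mulRow A B i).1 (mulRow C D i).1 && Nat.beq (mulRow A B i).2 (mulRow C D i).2

theorem prodEq_spec {A B C D : ℕ} (hB : matOK B = true) (hD : matOK D = true) (h : prodEq A B C D = true) :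
    mat A * mat B = mat C * mat D := by
  ext i j
  have e := List.all_eq_true.1 h i (mem_idxL i)
  simp only [Bool.and_eq_true, Nat.beq_eq] at e
  rw [← (mulRow_spec hB i j).2, ← (mulRow_spec hD i j).2, Prod.ext e.1 e.2]

/-- A product is a given matrix. -/
def prodIs (A B C : ℕ) : Bool :=
  idxL.all fun i => Nat.beq (mulRow A B i).1 (rowM C i).1 && Nat.beq (mulRow A B i).2 (rowM C i).2

theorem prodIs_spec {A B C : ℕ} (hB : matOK B = true) (h : prodIs A B C = true) : mat A * mat B = mat C := by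
  ext i j
  have e := List.all_eq_true.1 h i (mem_idxL i)
  simp only [Bool.and_eq_true, Nat.beq_eq] at e
  rw [← (mulRow_spec hB i j).2, Prod.ext e.1 e.2]
  rfl

/-- The row of a sum of commutators. -/
def commRow : List (ℕ × ℕ) → ℕ → ℕ × ℕ
  | [], _ => (0, 0)
  | (J, D) :: l, i => radd (mulRow J D i) (radd (((mulRow D J i).2, (mulRow D J i).1)) (commRow l i))

/-- A sum of commutators is a given matrix. -/
def commIs (l : List (ℕ × ℕ)) (T : ℕ) : Bool :=
  (l.all fun p => matOK p.1 && matOK p.2) &&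
    idxL.all fun i => Nat.beq (commRow l i).1 (rowM T i).1 && Nat.beq (commRow l i).2 (rowM T i).2

theorem commRow_spec : ∀ l : List (ℕ × ℕ), (∀ p ∈ l, matOK p.1 = true ∧ matOK p.2 = true) → ∀ i j : Fin 12,
    Dis (commRow l i) ∧
      rv (commRow l i) j = (l.map fun p => mat p.1 * mat p.2 - mat p.2 * mat p.1).sum i j
  | [], _, i, j => ⟨fun k h => by simp [commRow] at h, by simp [commRow, rv, tv]⟩
  | (J, D) :: l, h, i, j => by
    simp only [List.mem_cons, forall_eq_or_imp] at h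
    obtain ⟨r1, r2⟩ := commRow_spec l h.2 i j
    obtain ⟨a1, a2⟩ := mulRow_spec (A := J) h.1.2 i j
    obtain ⟨b1, b2⟩ := mulRow_spec (A := D) h.1.1 i j
    obtain ⟨s1, s2⟩ := swap_spec b1
    obtain ⟨u1, u2⟩ := radd_spec s1 r1
    obtain ⟨v1, v2⟩ := radd_spec a1 u1
    refine ⟨v1, ?_⟩
    show rv (radd (mulRow J D i) (radd (((mulRow D J i).2, (mulRow D J i).1)) (commRow l i))) j = _
    rw [v2, u2, s2, r2, a2, b2, List.map_cons, List.sum_cons, Matrix.add_apply, Matrix.sub_apply]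
    have key : ∀ x y z : ZMod 3, x + (2 * y + z) = x - y + z := by decide
    exact key _ _ _

/-- Commuting with the first matrices kills the trace against a sum of commutators. -/
theorem trace_commIs {l : List (ℕ × ℕ)} {T : ℕ} (h : commIs l T = true) {A : Matrix (Fin 12) (Fin 12) (ZMod 3)}
    (hA : ∀ p ∈ l, A * mat p.1 = mat p.1 * A) : Matrix.trace (mat T * A) = 0 := by
  simp only [commIs, Bool.and_eq_true, List.all_eq_true, Nat.beq_eq] at h
  have e : mat T = (l.map fun p => mat p.1 * mat p.2 - mat p.2 * mat p.1).sum := by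
    ext i j
    obtain ⟨-, h2⟩ := commRow_spec l (fun p hp => h.1 p hp) i j
    rw [← h2, Prod.ext (h.2 i (mem_idxL i)).1 (h.2 i (mem_idxL i)).2]
    rfl
  rw [e]
  clear e h
  induction l with
  | nil => simp
  | cons p l ih =>
    simp only [List.mem_cons, forall_eq_or_imp] at hA
    rw [List.map_cons, List.sum_cons, Matrix.add_mul, Matrix.trace_add, ih hA.2, add_zero, Matrix.sub_mul,
      Matrix.trace_sub, sub_eq_zero, Matrix.mul_assoc (mat p.2), ← hA.1, ← Matrix.mul_assoc,
      Matrix.trace_mul_cycle (mat p.2) A (mat p.1)]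

end Cfsg.Agent.Lie.GTwoFourMult
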