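import Cfsg.Agent.Lib.Lie.PermCover
import Cfsg.Agent.Lib.Lie.GTwoFourHallJanko.Data

/-!
The certificate of a central table on a Sylow 2-subgroup of the group of type G2 over four elements (generated).
-/

set_option autoImplicit false
set_option maxRecDepth 100000
set_option maxHeartbeats 0
set_option Elab.async false

namespace Cfsg.Agent.Lie.GTwoFourMult

open Cfsg.Agent.Lie PermCover
open Cfsg.Agent.Lie.GTwoFourHallJanko (baseP baseB)

/-- the code of the identity -/
def twoOne : ℕ := 206695825920

/-- generators of the subgroup -/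
def twoGens : List Elem := [(0x69b09431f775d7320ecbb3cf62f13a59d0d46d5f9e635c588c304f6db1adb4f4415de85c326385cb16cb9ef3509541b34f810255746a86abb0a512d50c7af68da25af055021a5c221f0343e4b0e0c04d415ed5a16b42fd082578c24d1568762271ab339ed195ec1b554ab001492fe8f2d0b4e94c43688e8b34ea43f262b312d867800155de528f7881e4b240caece099ce0ed5a6db38ca2c4c23464bc387d921bc4087a12df0caa928caea16ddac842818a170932e8d1c13289ba52f74645a00d81c68124e9f5ce6dda5034c21f591bd3983cb62b3401efd4144554a2c3e3ef605b29f69390cfb2e6ee2cb1f986726920148f7336198b4b66e7a88369f136ae47915c5df011bb915354982caf82ca2dba3aaca6b756a8e2a4e4c4c9453733b63782793b4a0a1e640857ce4ae477804fd228c942a0f4900628ecd83a6589310e41b7ca4ca05b39ac09caa35346f4a1d4ec1d01b30e3213c06e386c1e5c1d6132ab1e137f0ba940460a9c55ff802ddae6a33c138ccea720a06d8ecc41397d18ae42843125e45c14449c410a7101fd7ed26b8f4d857145bb0318fe2c468215aca5f60eb01ccac2b02c9d665e08c55809373aeb94e95b3706a478931cec529b34544223170e62bc8b3f914f824933d5b0f239986812c, 0x69b09431f775d7320ecbb3cf62f13a59d0d46d5f9e635c588c30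4f6db1adb4f4415de85c326385cb16cb9ef3509541b34f810255746a86abb0a512d50c7af68da25af055021a5c221f0343e4b0e0c04d415ed5a16b42fd082578c24d1568762271ab339ed195ec1b554ab001492fe8f2d0b4e94c43688e8b34ea43f262b312d867800155de528f7881e4b240caece099ce0ed5a6db38ca2c4c23464bc387d921bc4087a12df0caa928caea16ddac842818a170932e8d1c13289ba52f74645a00d81c68124e9f5ce6dda5034c21f591bd3983cb62b3401efd4144554a2c3e3ef605b29f69390cfb2e6ee2cb1f986726920148f7336198b4b66e7a88369f136ae47915c5df011bb915354982caf82ca2dba3aaca6b756a8e2a4e4c4c9453733b63782793b4a0a1e640857ce4ae477804fd228c942a0f4900628ecd83a6589310e41b7ca4ca05b39ac09caa35346f4a1d4ec1d01b30e3213c06e386c1e5c1d6132ab1e137f0ba940460a9c55ff802ddae6a33c138ccea720a06d8ecc41397d18ae42843125e45c14449c410a7101fd7ed26b8f4d857145bb0318fe2c468215aca5f60eb01ccac2b02c9d665e08c55809373aeb94e95b3706a478931cec529b34544223170e62bc8b3f914f824933d5b0f239986812c, [0, 1, 2, 3, 4, 5, 2, 3, 4, 3, 4, 0, 2, 1, 3, 2, 3, 4, 1, 0, 1, 0, 5, 0, 1, 2, 3, 2, 1, 0, 4, 1, 2, 3, 2, 1, 0, 5, 0, 1, 2, 3, 2, 1, 5, 0,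 1, 2, 3, 2, 1, 5, 3, 2, 3, 4, 3, 2, 3, 5, 1, 2, 3, 2, 1, 0, 5]),
  (0xc1d8b3a5b4fbeb33398ee58df1cb93f466ee114dd5b7451ce288140ec270a46cf910acbe70aaef97d3f21af2cb8fd5eab8c1764c963a95ab9aa5dad54e75609557cb06a80e789568b31b5e745455ae471abb1c2eb48b53b2a237a7bb5ea3286861535457c6eb98918c9648f1619ee4c0a1fda7318ac71ac2edb4c990e624488213057b7d9d0e8003cf68541acc2d4aa4bba072f94a35618ca60597808da7b92504e433b8a96119132b0cb383ac42aba591dac700341ff24e33e668520c89bda9abfaea2e80e073e429d52620d91c6977a9c13107e43afef0131f53ad49a45090b030b4adadc4bb5984634da107c95bc429921b44c644aeb9fb443c8f7a6008e52264100cb60cae024b48440e0cd8a3dbb1a55bf142920e734624320c594c4e4dcd8f5ba6e67a5a672d69a69985a498c25e39603a4c02b7956d8e3c94de8eace0d4463d287f5edbcfb9f1b0820f334090a4e989c83f56caa72bc7a9b591d0ff879dc6b3268151ae8d17c5ad843ce2504365966055862512f08aaa169d140bbb8d8624d95ee10a3822e004f2239db353c88105c12038a83a8ca34c8d3286922fdcc9e1046009f21350b7d8b302063cb23b38b070e036420d6f4a9a8020b88142d6182c3c2a00af88bcf1cb2e93ae41b150e0a88416, 0xc1d8b3a5b4fbe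b33398ee58df1cb93f466ee114dd5b7451ce288140ec270a46cf910acbe70aaef97d3f21af2cb8fd5eab8c1764c963a95ab9aa5dad54e75609557cb06a80e789568b31b5e745455ae471abb1c2eb48b53b2a237a7bb5ea3286861535457c6eb98918c9648f1619ee4c0a1fda7318ac71ac2edb4c990e624488213057b7d9d0e8003cf68541acc2d4aa4bba072f94a35618ca60597808da7b92504e433b8a96119132b0cb383ac42aba591dac700341ff24e33e668520c89bda9abfaea2e80e073e429d52620d91c6977a9c13107e43afef0131f53ad49a45090b030b4adadc4bb5984634da107c95bc429921b44c644aeb9fb443c8f7a6008e52264100cb60cae024b48440e0cd8a3dbb1a55bf142920e734624320c594c4e4dcd8f5ba6e67a5a672d69a69985a498c25e39603a4c02b7956d8e3c94de8eace0d4463d287f5edbcfb9f1b0820f334090a4e989c83f56caa72bc7a9b591d0ff879dc6b3268151ae8d17c5ad843ce2504365966055862512f08aaa169d140bbb8d8624d95ee10a3822e004f2239db353c88105c12038a83a8ca34c8d3286922fdcc9e1046009f21350b7d8b302063cb23b38b070e036420d6f4a9a8020b88142d6182c3c2a00af88bcf1cb2e93ae41b150e0a88416, [1, 0, 4, 0, 1, 2, 3, 4, 5, 1, 2, 3, 4, 1, 4, 5, 2, 5, 4, 1, 2, 3, 2, 1, 4, 5]),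
  (0x51810183c8e66857353ad71f8471ab52566e113e026b51f2a5e1041d5b700feab3030385bf902faa20b93472489fdd9a4b9a545549676b2cb0c71a347a1f68b829d08e6a4c06bb602dd7ac396639c272ff7760cfc077e8a1c861a7a52709810dcec6af4ddae66d8a1a148a99bb99028f3974beb34d5f2973030a2cc8b41f9d4ee592dc8998492416ad0112819c88ee0169da9019b0aba9ce698bb46e51429ba576efb4926168c8694156ec788349d8849a1ec41aac612a7950c008c58e2f8e0cae19e21a0f898855d11084146a24d98cd912d5171931e85268378ba054bb69d144625bcbd928fdd62cdf259f4e85c6595d7481ad9c8f4d72a2e163825fcdcf8bc88b26e8c25ba8719260b5b982b0a420c6c3d8482b14a8b329a6d71cfdf16c95208951e31a3882814c6db95414e818711a114e8dd230c091ac3aed813ca8565573ad911d235559cbd3db142056909132ecd3531ad95a37e401267451ce3000364a9eb3e153e6a0557bb55baccafcc4320e651e0c0c389b807f0a21416f4e2678ca1d78ca1fe82760313d3f7e28e2d599c1de1ef2f6472b72634919293934178b24e2ecc98c0752118993d2913e3e969a9806d12920f400b2fbbdace373dc6a2d2079079620d9d05aa8db25aa10db99e14bea4068, 0x51810183c8e66857353ad71f8471ab52566e113e026b51f2a5e1041d5b700feab3030385bf902f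aa20b93472489fdd9a4b9a545549676b2cb0c71a347a1f68b829d08e6a4c06bb602dd7ac396639c272ff7760cfc077e8a1c861a7a52709810dcec6af4ddae66d8a1a148a99bb99028f3974beb34d5f2973030a2cc8b41f9d4ee592dc8998492416ad0112819c88ee0169da9019b0aba9ce698bb46e51429ba576efb4926168c8694156ec788349d8849a1ec41aac612a7950c008c58e2f8e0cae19e21a0f898855d11084146a24d98cd912d5171931e85268378ba054bb69d144625bcbd928fdd62cdf259f4e85c6595d7481ad9c8f4d72a2e163825fcdcf8bc88b26e8c25ba8719260b5b982b0a420c6c3d8482b14a8b329a6d71cfdf16c95208951e31a3882814c6db95414e818711a114e8dd230c091ac3aed813ca8565573ad911d235559cbd3db142056909132ecd3531ad95a37e401267451ce3000364a9eb3e153e6a0557bb55baccafcc4320e651e0c0c389b807f0a21416f4e2678ca1d78ca1fe82760313d3f7e28e2d599c1de1ef2f6472b72634919293934178b24e2ecc98c0752118993d2913e3e969a9806d12920f400b2fbbdace373dc6a2d2079079620d9d05aa8db25aa10db99e14bea4068, [1, 4, 3, 2, 3, 2, 1, 0, 1, 3, 0, 1, 2, 3, 2, 0, 1, 4, 3, 2, 3, 5, 1, 5, 1, 0, 1, 0, 2, 1, 3, 2, 3, 5, 4, 0, 1, 2, 3, 2, 1, 0, 1, 2, 3, 2, 1, 4, 5]),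
  (0xbe10d164869a3cf40395806650ac646a585b7e134a74d622847f277439cb83806b3b08b532456bf9c798d51a87729d98e72ac17828d67fda408bb9ca5c4b4f3e42e4b6a66426a022ba9d5fb45c8038cd6f8ebed149b2a4d56d5d70a71e4334e8a54154839264c45b6511c0babe9fde3762c99d257aba2dc50e203b69ae6d15d5e8789001b83c4799c11a81bb3a21d6a4a54da1b526821184ddbfe76da34220c25aab465de606053b2e922657be63d5c08b7efd3a083d9667b31509bc06811bd7056782a681978b3353f6561e682d562006316d507a24f085a0e0deeca1563c9ca30e47df03291cff1415904b8fb01941328f615809c355b58b186c209f21a996b09cf6c793b23be324274c02683e648f5b890721f8470577021b24f01176719ec3957255a16a52e31c5451a20194f0be0779ca4f21f99c71e40b0651602312449ab43a318b828e86bb02b2e114408dd1c0934e1b229ac0cc704c5cc148d55e41af1a2467698cee9139d89f53787565808060da1646138c6e234b67906a2574ca9a543c7502ef17bb9659b7850bb4a5ed828c895ce33420824f44c08677532d12a9108b739aaabd5f090722e7ae56521f2c3b22496284329ca5c6b20be4b1d994d8aa7f1c074955fdcecc2cc403242b9cde7d6913, 0x12822d7c01ba9186b78108448f5c274e35b6d22c2f9372b4658074f9c881816f1b4de868bc067f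9f224e12045874f2bf370510d3279ac0ae2b435e592dc5691825d8b75c979907bbe9a2a10462270b573973a05348184709b61b406718bd2847e122d64a5ab94296be9bef1692fd748e18c02d6a12e47aa4b193e54dd0d1eb3a2391cb92442cbc4516ca84698e80acf6b416ae98296496a853fbbefc7800074a2954696e3a1ab3652c42ca3a21512648bdd98b2b783ebb8fab1760cd56ebf84634bdd367af35b29cc61e9091d6787c30aaeeab1c4d29f41813e630ad20cc94a3c98dc1c925cd8f8cb1b27e09dd63853715e16bab08d98b75c64ae590589c5066b650008f59b54700017e95586c7838e5047a88041e4978592831206c21f154976a4e974eaa1c09633b5070189a41ce4c0accd1d6f30fced55c522bc2f9c11a338d8ee589f2a99b677e66514e130ddabc7d2fdd0a60e7b4aa60113e1a4e6379d564257f313eca90c0adc94585c80be761f263d13d53c69a8761b523671cca0a0ba8d9c941928913cf2d09ce7c4ac15c48098344b843b306f514a6351011249091360897b6e953563422d22654d8064c0104a502d79231528e61fba5a1715d8d606ff71d6b0606231f8e8a699be1136dcc28f2d2b, [5, 1, 0, 1, 2, 3, 4, 5, 1, 0, 1, 0, 2, 1, 3, 2, 3, 4, 3, 2, 3, 1, 2, 0, 3, 5, 1, 2, 3, 4, 0, 1, 2, 4, 3, 2, 1, 2, 3, 2, 3, 4, 3, 5, 2, 1, 3, 2, 3, 4, 2, 1, 5, 3, 4,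 2, 3, 2, 1, 0, 1, 2, 1, 4, 3, 2, 1, 0, 1, 2, 3, 4, 3, 2, 3, 5])]

def twoElt0 : Janko.Tree (ℕ) :=
  (.node (.node (.node (.node (.node (.node (.node (.leaf 206695825920) (.leaf 15087309579892)) (.node (.leaf 27194170452179) (.leaf 13910030452005))) (.node (.node (.leaf 1755753307851) (.leaf 27333178352415)) (.node (.leaf 23726952452128) (.leaf 25701891854104)))) (.node (.node (.node (.leaf 11460915574348) (.leaf 7807192469696)) (.node (.leaf 2492576189481) (.leaf 5372475907779))) (.node (.node (.leaf 23102391232536) (.leaf 1632166556322)) (.node (.leaf 6089223472473) (.leaf 13198879700480))))) (.node (.node (.node (.node (.leaf 5397446298450) (.leaf 17783772588388)) (.node (.leaf 13020541653188) (.leaf 26613122702869))) (.node (.node (.leaf 15767456983275) (.leaf 3079314163821)) (.node (.leaf 27172863776451) (.leaf 5254797213719)))) (.node (.node (.node (.leaf 19882719409478) (.leaf 9878182331485)) (.node (.leaf 22840452736531) (.leaf 22773595645977))) (.node (.node (.leaf 2837505577242) (.leaf 234266709895))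 (.node (.leaf 28187695292058) (.leaf 25041947274523)))))) (.node (.node (.node (.node (.node (.leaf 24990488222336) (.leaf 10973933636346)) (.node (.leaf 23897913296944) (.leaf 16340696250242))) (.node (.node (.leaf 23607362981400) (.leaf 11500688150870)) (.node (.leaf 12316152029746) (.leaf 4766036021032)))) (.node (.node (.node (.leaf 2289248413817) (.leaf 15858373643816)) (.node (.leaf 8212196811556) (.leaf 27303151288407))) (.node (.node (.leaf 25505334916371) (.leaf 24877064203538)) (.node (.leaf 4086547762402) (.leaf 11703807472877))))) (.node (.node (.node (.node (.leaf 11221323944054) (.leaf 10945115098011)) (.node (.leaf 9839244834003) (.leaf 22841515836069))) (.node (.node (.leaf 179215698503) (.leaf 20096487170)) (.node (.leaf 9810402206337) (.leaf 20143897436701)))) (.node (.node (.node (.leaf 10220467691173) (.leaf 15426493517712)) (.node (.leaf 17433767534104) (.leaf 14436410199861))) (.node (.node (.leaf 4469251270428) (.leaf 8821651052419)) (.node (.leaf 17536172531304) (.leaf 26147969303067)))))))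 (.node (.node (.node (.node (.node (.node (.leaf 3352679176968) (.leaf 1703459763866)) (.node (.leaf 8230574068587) (.leaf 594453748429))) (.node (.node (.leaf 5525017125725) (.leaf 20805558290823)) (.node (.leaf 13202755070248) (.leaf 26187448602347)))) (.node (.node (.node (.leaf 10794243809053) (.leaf 12356378069621)) (.node (.leaf 5530448693302) (.leaf 24020329783140))) (.node (.node (.leaf 11431816367959) (.leaf 1563166117454)) (.node (.leaf 3216545845468) (.leaf 27679340792546))))) (.node (.node (.node (.node (.leaf 10385282476195) (.leaf 16355856783088)) (.node (.leaf 20393322181739) (.leaf 2166900484396))) (.node (.node (.leaf 8203718464300) (.leaf 636473087698)) (.node (.leaf 7171667957634) (.leaf 11914057389943)))) (.node (.node (.node (.leaf 21184311330973) (.leaf 15355111890628)) (.node (.leaf 22780640766205) (.leaf 21771014452851))) (.node (.node (.leaf 7925719663853) (.leaf 15425666453672)) (.node (.leaf 5136841806638) (.leaf 4012342023882)))))) (.node (.node (.node (.node (.node (.leaf 23465509945737)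 (.leaf 12148125489902)) (.node (.leaf 12218875923787) (.leaf 27505849804832))) (.node (.node (.leaf 5045188192013) (.leaf 15556662104849)) (.node (.leaf 20365856244805) (.leaf 25544592097512)))) (.node (.node (.node (.leaf 7405283679901) (.leaf 671397056222)) (.node (.leaf 11391924722324) (.leaf 2498641427059))) (.node (.node (.leaf 4174798165804) (.leaf 14200454072721)) (.node (.leaf 26920101274218) (.leaf 4797165370090))))) (.node (.node (.node (.node (.leaf 14587280570064) (.leaf 22149173976869)) (.node (.leaf 18530244326662) (.leaf 3996120860787))) (.node (.node (.leaf 12876610219275) (.leaf 12625696935179)) (.node (.leaf 3510016501977) (.leaf 20084834077332)))) (.node (.node (.node (.leaf 17147743791242) (.leaf 28345388929181)) (.node (.leaf 8906691202631) (.leaf 3057017098366))) (.node (.node (.leaf 10356971482312) (.leaf 24584215331652)) (.node (.leaf 3182656358647) (.leaf 20067707870839))))))))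

def twoElt1 : Janko.Tree (ℕ) :=
  (.node (.node (.node (.node (.node (.node (.node (.leaf 7935246106924) (.leaf 4330992789677)) (.node (.leaf 28542899674843) (.leaf 25857215816602))) (.node (.node (.leaf 14531950196798) (.leaf 23992175036507)) (.node (.leaf 2311978389871) (.leaf 906987179746)))) (.node (.node (.node (.leaf 9152126558060) (.leaf 25014789768365)) (.node (.leaf 4106066892412) (.leaf 9350556580554))) (.node (.node (.leaf 21945989805684) (.leaf 23232431148941)) (.node (.leaf 22870490238216) (.leaf 19554064696682))))) (.node (.node (.node (.node (.leaf 11558458904373) (.leaf 5568746753664)) (.node (.leaf 16410807536161) (.leaf 16341955950595))) (.node (.node (.leaf 13287593975528) (.leaf 6032730782227)) (.node (.leaf 28364834257039) (.leaf 1540435896127)))) (.node (.node (.node (.leaf 27195012374132) (.leaf 23333698545832)) (.node (.leaf 28545186568077) (.leaf 6856208296031))) (.node (.node (.leaf 13952491022550) (.leaf 14812455003777)) (.node (.leaf 16110970300608) (.leaf 22091509184602)))))) (.node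 (.node (.node (.node (.node (.leaf 10194837704458) (.leaf 5662486487767)) (.node (.leaf 3831176236744) (.leaf 2843088184042))) (.node (.node (.leaf 4883804486468) (.leaf 16525593585864)) (.node (.leaf 655073415364) (.leaf 8987041481105)))) (.node (.node (.node (.leaf 5499231823615) (.leaf 2908984605431)) (.node (.leaf 10615705731204) (.leaf 7999524343545))) (.node (.node (.leaf 19764420370317) (.leaf 17435706439950)) (.node (.leaf 1325712540362) (.leaf 6290016921660))))) (.node (.node (.node (.node (.leaf 23899851217541) (.leaf 5367244410520)) (.node (.leaf 26128760048026) (.leaf 1582977083394))) (.node (.node (.leaf 6836621094012) (.leaf 24541907772240)) (.node (.leaf 990736813756) (.leaf 5231314878640)))) (.node (.node (.node (.leaf 1718614059294) (.leaf 24024912590117)) (.node (.leaf 3334190685014) (.leaf 9805876780616))) (.node (.node (.leaf 26144415981285) (.leaf 13968091197954)) (.node (.leaf 3811741444463) (.leaf 11137800359457))))))) (.node (.node (.node (.node (.node (.node (.leaf 21518214580477) (.leaf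 23571660171038)) (.node (.leaf 376079024278) (.leaf 7202274715689))) (.node (.node (.leaf 18168543023920) (.leaf 20186453770889)) (.node (.leaf 23552798855872) (.leaf 16359969427857)))) (.node (.node (.node (.leaf 6415373121141) (.leaf 25637157725080)) (.node (.leaf 27765162380930) (.leaf 13470717740399))) (.node (.node (.leaf 28081733651527) (.leaf 5731846139260)) (.node (.leaf 20710117091397) (.leaf 23830391818566))))) (.node (.node (.node (.node (.leaf 3517057251351) (.leaf 3073586094781)) (.node (.leaf 6094829800734) (.leaf 16063870959902))) (.node (.node (.leaf 23721866518092) (.leaf 22090064235016)) (.node (.leaf 14868942000857) (.leaf 28274793422622)))) (.node (.node (.node (.leaf 4511476908312) (.leaf 18161954820897)) (.node (.leaf 14800804810322) (.leaf 19586716012342))) (.node (.node (.leaf 6193434738836) (.leaf 7309823708823)) (.node (.leaf 21282056399252) (.leaf 14184828571816)))))) (.node (.node (.node (.node (.node (.leaf 7053605117793) (.leaf 14120407968044)) (.node (.leaf 5726759813708) (.leaf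 930610602512))) (.node (.node (.leaf 3301047210127) (.leaf 26544375701256)) (.node (.leaf 19594117005375) (.leaf 2183193962639)))) (.node (.node (.node (.leaf 2644263138399) (.leaf 14508458352438)) (.node (.leaf 23442022367545) (.leaf 21728063039810))) (.node (.node (.leaf 9399325835357) (.leaf 24585812575011)) (.node (.leaf 10414364922727) (.leaf 16511409498126))))) (.node (.node (.node (.node (.leaf 16388560457998) (.leaf 16252342054210)) (.node (.leaf 23676072047420) (.leaf 13693903779495))) (.node (.node (.leaf 13894898713658) (.leaf 5380171042838)) (.node (.leaf 21258698844202) (.leaf 6404529082021)))) (.node (.node (.node (.leaf 14504568983947) (.leaf 1634044294925)) (.node (.leaf 1564982982287) (.leaf 14896644250244))) (.node (.node (.leaf 4926820003192) (.leaf 6707531866654)) (.node (.leaf 740635082752) (.leaf 4791643568982))))))))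

def twoElt2 : Janko.Tree (ℕ) :=
  (.node (.node (.node (.node (.node (.node (.node (.leaf 1961334703126) (.leaf 17304250125176)) (.node (.leaf 14897535540074) (.leaf 18324126818909))) (.node (.node (.leaf 24965180064874) (.leaf 21742798082620)) (.node (.leaf 18878161564491) (.leaf 7583457173097)))) (.node (.node (.node (.leaf 260313003884) (.leaf 5759351212225)) (.node (.leaf 13199450387286) (.leaf 4007226285609))) (.node (.node (.leaf 1969452907145) (.leaf 21312049154582)) (.node (.leaf 25240091071075) (.leaf 1490664716946))))) (.node (.node (.node (.node (.leaf 22426996302509) (.leaf 13225157293372)) (.node (.leaf 20802337918544) (.leaf 8642329860652))) (.node (.node (.leaf 20454928459891) (.leaf 16218630685888)) (.node (.leaf 14515144335140) (.leaf 22083852315011)))) (.node (.node (.node (.leaf 11233441790343) (.leaf 17001801223735)) (.node (.leaf 15280044585602) (.leaf 18577292821720))) (.node (.node (.leaf 14751223943390) (.leaf 7387509696773)) (.node (.leaf 7517106967095) (.leaf 24490189000538)))))) (.node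 (.node (.node (.node (.node (.leaf 3237032660700) (.leaf 19669110884440)) (.node (.leaf 1727034859283) (.leaf 2783319517234))) (.node (.node (.leaf 2779883146028) (.leaf 18813641378172)) (.node (.leaf 25792804479777) (.leaf 22274194686174)))) (.node (.node (.node (.leaf 7220825067370) (.leaf 24653918272316)) (.node (.leaf 3260426578128) (.leaf 14949871390538))) (.node (.node (.leaf 7285888143091) (.leaf 3349864547654)) (.node (.leaf 1467633018908) (.leaf 26136399315746))))) (.node (.node (.node (.node (.leaf 23442418649438) (.leaf 11170359051414)) (.node (.leaf 21971529007197) (.leaf 23278772290267))) (.node (.node (.leaf 15068313552936) (.leaf 25657104312540)) (.node (.leaf 10413825790058) (.leaf 972452968521)))) (.node (.node (.node (.leaf 22316668358859) (.leaf 7527702552445)) (.node (.leaf 27814909067464) (.leaf 3816749620738))) (.node (.node (.leaf 18022519023809) (.leaf 3730882725161)) (.node (.leaf 2921877817376) (.leaf 18284686960724))))))) (.node (.node (.node (.node (.node (.node (.leaf 24586374523130)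 (.leaf 2753552996883)) (.node (.leaf 11219272896078) (.leaf 23641114893922))) (.node (.node (.leaf 2111570870304) (.leaf 20763678427172)) (.node (.leaf 23809477407901) (.leaf 8545998387451)))) (.node (.node (.node (.leaf 19294411133680) (.leaf 16108421583194)) (.node (.leaf 20779889725335) (.leaf 24574807970012))) (.node (.node (.leaf 23761202718844) (.leaf 32088131719)) (.node (.leaf 3522696580667) (.leaf 1878204254955))))) (.node (.node (.node (.node (.leaf 24558436016848) (.leaf 20447405812044)) (.node (.leaf 16319410503740) (.leaf 8048834673271))) (.node (.node (.leaf 2292671316642) (.leaf 25313496432648)) (.node (.leaf 15169042178583) (.leaf 22283841087561)))) (.node (.node (.node (.leaf 22206742170332) (.leaf 20438292103995)) (.node (.leaf 27177181948225) (.leaf 3713287678343))) (.node (.node (.leaf 11254264401674) (.leaf 20523117278320)) (.node (.leaf 7388555545384) (.leaf 696242004871)))))) (.node (.node (.node (.node (.node (.leaf 9463571163144) (.leaf 12147798596172)) (.node (.leaf 8347993891494) (.leaf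 10607280147566))) (.node (.node (.leaf 7727253062948) (.leaf 3487616545320)) (.node (.leaf 6080630303803) (.leaf 15163545657225)))) (.node (.node (.node (.leaf 20022208796522) (.leaf 157528917005)) (.node (.leaf 11716808709722) (.leaf 18811789771548))) (.node (.node (.leaf 28337979974257) (.leaf 19411407839052)) (.node (.leaf 18029305821701) (.leaf 24703225170262))))) (.node (.node (.node (.node (.leaf 23846476243764) (.leaf 2792970958856)) (.node (.leaf 17224057003877) (.leaf 20533894347459))) (.node (.node (.leaf 21560571472152) (.leaf 8025605167679)) (.node (.leaf 21679214596503) (.leaf 13902977525858)))) (.node (.node (.node (.leaf 15100892942239) (.leaf 25035606068928)) (.node (.leaf 15772347402478) (.leaf 7985019490093))) (.node (.node (.leaf 5645361296951) (.leaf 19253895804966)) (.node (.leaf 25822711680685) (.leaf 9324703620666))))))))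

def twoElt3 : Janko.Tree (ℕ) :=
  (.node (.node (.node (.node (.node (.node (.node (.leaf 2873130369128) (.leaf 18810408419452)) (.node (.leaf 13957262626329) (.leaf 8714294557343))) (.node (.node (.leaf 10224629019706) (.leaf 26096971186556)) (.node (.leaf 18836340346778) (.leaf 2223508895274)))) (.node (.node (.node (.leaf 20981056737349) (.leaf 2493906685784)) (.node (.leaf 10212424158957) (.leaf 8957984148299))) (.node (.node (.leaf 21532162843265) (.leaf 9510700919912)) (.node (.leaf 28016481492763) (.leaf 1950805266203))))) (.node (.node (.node (.node (.leaf 5667888161303) (.leaf 16098436355736)) (.node (.leaf 23624958993186) (.leaf 17404723803961))) (.node (.node (.leaf 22100868960885) (.leaf 11727058072810)) (.node (.leaf 14732012038347) (.leaf 23640043460459)))) (.node (.node (.node (.leaf 4298397869705) (.leaf 17001098782879)) (.node (.leaf 16328355825866) (.leaf 4314063588515))) (.node (.node (.leaf 4271027163341) (.leaf 23446024975577)) (.node (.leaf 28292769833655) (.leaf 25222476553755)))))) (.node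 (.node (.node (.node (.node (.leaf 1877115047704) (.leaf 13770545795716)) (.node (.leaf 14116106743048) (.leaf 25726621422313))) (.node (.node (.leaf 1977400851330) (.leaf 17161939672771)) (.node (.leaf 22299635821969) (.leaf 11168128844066)))) (.node (.node (.node (.leaf 8940679080259) (.leaf 18014939203834)) (.node (.leaf 10043387185922) (.leaf 8359236443758))) (.node (.node (.leaf 12604331681616) (.leaf 13788077537476)) (.node (.leaf 5386262634025) (.leaf 28574040345942))))) (.node (.node (.node (.node (.leaf 671922170015) (.leaf 28571008846199)) (.node (.leaf 12146245210696) (.leaf 1512453597079))) (.node (.node (.leaf 23102127243621) (.leaf 13778464171575)) (.node (.leaf 17138545600856) (.leaf 5619514756208)))) (.node (.node (.node (.leaf 16534432807496) (.leaf 7980475243327)) (.node (.leaf 3282255904863) (.leaf 1755322431703))) (.node (.node (.leaf 13273229297691) (.leaf 26562925105188)) (.node (.leaf 25227215344174) (.leaf 5617117244531))))))) (.node (.node (.node (.node (.node (.node (.leaf 6688821307534)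 (.leaf 12883502172316)) (.node (.leaf 15778715143805) (.leaf 21759526863040))) (.node (.node (.leaf 1343492728925) (.leaf 2177887013612)) (.node (.leaf 12990450962813) (.leaf 7998938294272)))) (.node (.node (.node (.leaf 17124718108191) (.leaf 25019163423443)) (.node (.leaf 24032115576437) (.leaf 13469850043772))) (.node (.node (.leaf 24977711658024) (.leaf 6428159847443)) (.node (.leaf 8150822293247) (.leaf 37192807197))))) (.node (.node (.node (.node (.leaf 2148321470562) (.leaf 28276996794681)) (.node (.leaf 9354946691210) (.leaf 17123869237104))) (.node (.node (.leaf 18860235154132) (.leaf 7243022150694)) (.node (.leaf 12190772397429) (.leaf 4130336826971)))) (.node (.node (.node (.leaf 23347536236115) (.leaf 16497411783184)) (.node (.leaf 19981592007173) (.leaf 7194347386651))) (.node (.node (.leaf 15758431489756) (.leaf 1670896051901)) (.node (.leaf 2616073467401) (.leaf 16726224351881)))))) (.node (.node (.node (.node (.node (.leaf 25662996090574) (.leaf 653004674835)) (.node (.leaf 10968376357481) (.leaf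 4503350955720))) (.node (.node (.leaf 10730647931083) (.leaf 16107803771527)) (.node (.leaf 15076235578949) (.leaf 20145202345794)))) (.node (.node (.node (.leaf 6218107662896) (.leaf 374289761520)) (.node (.leaf 4681619596191) (.leaf 24718028911255))) (.node (.node (.leaf 4960204243267) (.leaf 27057565674712)) (.node (.leaf 13445619420035) (.leaf 22682754429511))))) (.node (.node (.node (.node (.leaf 25807526224512) (.leaf 8956592031124)) (.node (.leaf 18841763973316) (.leaf 14823693373052))) (.node (.node (.leaf 11440802139874) (.leaf 9811600779390)) (.node (.leaf 23141116677815) (.leaf 9314943141183)))) (.node (.node (.node (.leaf 24907558588632) (.leaf 8886510325561)) (.node (.leaf 13270025503391) (.leaf 14893366419131))) (.node (.node (.leaf 12939361556065) (.leaf 966878460638)) (.node (.leaf 14544562720787) (.leaf 2773494184155))))))))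

def twoElt4 : Janko.Tree (ℕ) :=
  (.node (.node (.node (.node (.node (.node (.node (.leaf 28086578916651) (.leaf 3764948189526)) (.node (.leaf 4980715202743) (.leaf 8614727202697))) (.node (.node (.leaf 20996665053543) (.leaf 7154034119338)) (.node (.leaf 985117845636) (.leaf 3197624324463)))) (.node (.node (.node (.leaf 7288996133439) (.leaf 21219721180465)) (.node (.leaf 20982230803092) (.leaf 6417528914783))) (.node (.node (.leaf 15080656565616) (.leaf 8573436430635)) (.node (.leaf 7814302663208) (.leaf 14480771254288))))) (.node (.node (.node (.node (.leaf 15567994140962) (.leaf 11898807994668)) (.node (.leaf 21724355224422) (.leaf 10833723956843))) (.node (.node (.leaf 20363752863042) (.leaf 587536928541)) (.node (.leaf 15533101967205) (.leaf 22988871897178)))) (.node (.node (.node (.leaf 15789198588033) (.leaf 1561790425331)) (.node (.leaf 12875408081597) (.leaf 9516602567771))) (.node (.node (.leaf 4305319268439) (.leaf 14760088269868)) (.node (.leaf 10460769173814) (.leaf 8591632918245)))))) (.node (.node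 (.node (.node (.node (.leaf 10775700589755) (.leaf 8227654631660)) (.node (.leaf 8639687821342) (.leaf 21727728795677))) (.node (.node (.leaf 2842405202038) (.leaf 22779035257009)) (.node (.leaf 12189473216217) (.leaf 24654487637868)))) (.node (.node (.node (.leaf 19884714849581) (.leaf 7246248094879)) (.node (.leaf 23533157173302) (.leaf 16181191424027))) (.node (.node (.leaf 7972298516516) (.leaf 18946873025293)) (.node (.leaf 25310267851057) (.leaf 550659296905))))) (.node (.node (.node (.node (.leaf 17271575636192) (.leaf 25748628125508)) (.node (.leaf 1108554694729) (.leaf 4348036688157))) (.node (.node (.leaf 9759077830158) (.leaf 2105772769377)) (.node (.leaf 18366176268833) (.leaf 21276093685579)))) (.node (.node (.node (.leaf 20621093167685) (.leaf 23618502614704)) (.node (.leaf 10070243710685) (.leaf 21352803645524))) (.node (.node (.leaf 14959852064984) (.leaf 15200600822390)) (.node (.leaf 27589497156938) (.leaf 7177526665038))))))) (.node (.node (.node (.node (.node (.node (.leaf 13477647109394)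 (.leaf 4019050342687)) (.node (.leaf 28555156597818) (.leaf 10494356522218))) (.node (.node (.leaf 21260380933955) (.leaf 9299835609600)) (.node (.leaf 20392551048095) (.leaf 27490296401601)))) (.node (.node (.node (.leaf 22728167232083) (.leaf 15211440540379)) (.node (.leaf 19423692458186) (.leaf 21015085009031))) (.node (.node (.leaf 7610774261857) (.leaf 19250520918039)) (.node (.leaf 27969669713629) (.leaf 10825543651498))))) (.node (.node (.node (.node (.leaf 24949965478708) (.leaf 27540957597976)) (.node (.leaf 6237958200097) (.leaf 15099291895923))) (.node (.node (.leaf 18590792757765) (.leaf 12995107376750)) (.node (.leaf 9347466734633) (.leaf 1700645340395)))) (.node (.node (.node (.leaf 19695536083324) (.leaf 26135038004932)) (.node (.leaf 24623256264579) (.leaf 2799585399082))) (.node (.node (.leaf 9534893758095) (.leaf 14885188575120)) (.node (.leaf 20039352652027) (.leaf 24038542846315)))))) (.node (.node (.node (.node (.node (.leaf 22766251937296) (.leaf 6267094261302)) (.node (.leaf 5413315666565)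 (.leaf 1144817887262))) (.node (.node (.leaf 19484142473111) (.leaf 11731980077354)) (.node (.leaf 12187653508667) (.leaf 2208037886809)))) (.node (.node (.node (.leaf 6210863313439) (.leaf 12119362336155)) (.node (.leaf 26556347190935) (.leaf 1357946636499))) (.node (.node (.leaf 654070942494) (.leaf 15857918189193)) (.node (.leaf 2283059929838) (.leaf 27151319181599))))) (.node (.node (.node (.node (.leaf 24682949642506) (.leaf 17782883110034)) (.node (.leaf 12331494936369) (.leaf 5803100235606))) (.node (.node (.leaf 5103997069514) (.leaf 11553486031997)) (.node (.leaf 8145477734036) (.leaf 13285576794839)))) (.node (.node (.node (.leaf 27565538577205) (.leaf 1557141039194)) (.node (.leaf 20412206508035) (.leaf 560153516631))) (.node (.node (.leaf 27582568936277) (.leaf 21257056499387)) (.node (.leaf 14727651397143) (.leaf 9181432684379))))))))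

def twoElt5 : Janko.Tree (ℕ) :=
  (.node (.node (.node (.node (.node (.node (.node (.leaf 20978153153111) (.leaf 8126952279574)) (.node (.leaf 4744100865846) (.leaf 26563509588723))) (.node (.node (.leaf 3238860311673) (.leaf 13905802403391)) (.node (.leaf 22702974145234) (.leaf 26118187408203)))) (.node (.node (.node (.leaf 6554931356219) (.leaf 28365877065826)) (.node (.leaf 22456692499290) (.leaf 27813408091257))) (.node (.node (.leaf 12187849870349) (.leaf 21347775981720)) (.node (.leaf 2182589047414) (.leaf 11158629068157))))) (.node (.node (.node (.node (.leaf 6829872702028) (.leaf 13304743146257)) (.node (.leaf 710150382487) (.leaf 234807886699))) (.node (.node (.leaf 9099100643040) (.leaf 16727512977029)) (.node (.leaf 5069749780494) (.leaf 12194425948348)))) (.node (.node (.node (.leaf 7927210041892) (.leaf 22112121150244)) (.node (.leaf 19965245207278) (.leaf 2835541561151))) (.node (.node (.leaf 24652886389316) (.leaf 15584095811986)) (.node (.leaf 20377489583419) (.leaf 14740489775128)))))) (.node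 (.node (.node (.node (.node (.leaf 27489424910562) (.leaf 6840618715544)) (.node (.leaf 26069542671981) (.leaf 24259662188358))) (.node (.node (.leaf 28079375420179) (.leaf 19638282256520)) (.node (.leaf 6011518230407) (.leaf 4779433682725)))) (.node (.node (.node (.leaf 24545500768586) (.leaf 8955194021769)) (.node (.leaf 986580098631) (.leaf 15943827645084))) (.node (.node (.leaf 14912731742989) (.leaf 15217702217808)) (.node (.leaf 7946963157082) (.leaf 9502042794120))))) (.node (.node (.node (.node (.leaf 12996679191945) (.leaf 22290698896494)) (.node (.leaf 602074136605) (.leaf 3411966974704))) (.node (.node (.leaf 8164556306975) (.leaf 4894400332029)) (.node (.leaf 20601278585680) (.leaf 8803240641399)))) (.node (.node (.node (.leaf 18928890182146) (.leaf 25495798157051)) (.node (.leaf 13781120671297) (.leaf 14755935977817))) (.node (.node (.leaf 25886132959920) (.leaf 22796888530679)) (.node (.leaf 27971289177610) (.leaf 15998371670290))))))) (.node (.node (.node (.node (.node (.node (.leaf 20993951400627)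 (.leaf 25253336658707)) (.node (.leaf 14867847317663) (.leaf 20628507607213))) (.node (.node (.leaf 7523745140289) (.leaf 2303323661033)) (.node (.leaf 13243802585385) (.leaf 25499715142036)))) (.node (.node (.node (.leaf 24497504391005) (.leaf 11185466527594)) (.node (.leaf 22866177819432) (.leaf 8525947624209))) (.node (.node (.leaf 2089068299514) (.leaf 11564875671273)) (.node (.leaf 24107414009506) (.leaf 6436198972170))))) (.node (.node (.node (.node (.leaf 7747885630615) (.leaf 6577355678281)) (.node (.leaf 10624637683736) (.leaf 18052155368307))) (.node (.node (.leaf 19691501870916) (.leaf 8233240148343)) (.node (.leaf 28541340169808) (.leaf 18873376967030)))) (.node (.node (.node (.leaf 24469468221063) (.leaf 18059950193421)) (.node (.leaf 28226601956124) (.leaf 12876129166115))) (.node (.node (.leaf 28545984965924) (.leaf 919422118108)) (.node (.leaf 6212862796647) (.leaf 2474452619111)))))) (.node (.node (.node (.node (.node (.leaf 16203241651011) (.leaf 3169749689116)) (.node (.leaf 22247228990981)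 (.leaf 9506262247204))) (.node (.node (.leaf 10330886050135) (.leaf 5756061567243)) (.node (.leaf 9374449741021) (.leaf 1143697211491)))) (.node (.node (.node (.leaf 23824484616435) (.leaf 4168471956717)) (.node (.leaf 8141033200415) (.leaf 13222199635090))) (.node (.node (.leaf 17255717572128) (.leaf 2207653198710)) (.node (.leaf 18566630628124) (.leaf 20557474847386))))) (.node (.node (.node (.node (.leaf 7037543092823) (.leaf 12309465260805)) (.node (.leaf 8121608402087) (.leaf 24052371722108))) (.node (.node (.leaf 10496998838353) (.leaf 15786787645749)) (.node (.leaf 6129639785785) (.leaf 3812960767829)))) (.node (.node (.node (.leaf 22867095980095) (.leaf 22103666481815)) (.node (.leaf 22067594543405) (.leaf 19933965660748))) (.node (.node (.leaf 22828455186271) (.leaf 2634329777769)) (.node (.leaf 7216384119163) (.leaf 24645751950646))))))))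

def twoElt6 : Janko.Tree (ℕ) :=
  (.node (.node (.node (.node (.node (.node (.node (.leaf 7302337868589) (.leaf 11236904176128)) (.node (.leaf 12602323144568) (.leaf 6059961788604))) (.node (.node (.leaf 10195229308196) (.leaf 21768311509848)) (.node (.leaf 7580724117880) (.leaf 10313251512016)))) (.node (.node (.node (.leaf 22249870085355) (.leaf 23435787767697)) (.node (.leaf 19469277073042) (.leaf 7389525315146))) (.node (.node (.leaf 5043994382235) (.leaf 929955578592)) (.node (.leaf 25065447830151) (.leaf 27295196939679))))) (.node (.node (.node (.node (.leaf 15355453480721) (.leaf 989463655054)) (.node (.leaf 16707434946176) (.leaf 9303210069738))) (.node (.node (.leaf 1654509424395) (.leaf 23127002386782)) (.node (.leaf 6305046631967) (.leaf 5620472889759)))) (.node (.node (.node (.leaf 7592129979149) (.leaf 19731516268060)) (.node (.leaf 4010215596846) (.leaf 24554498101373))) (.node (.node (.leaf 6289112337088) (.leaf 5042106951507)) (.node (.leaf 20359035169911) (.leaf 4795117156138)))))) (.node (.node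 (.node (.node (.node (.leaf 20515745526986) (.leaf 15353099424601)) (.node (.leaf 4978874420116) (.leaf 582284639003))) (.node (.node (.leaf 25340145657973) (.leaf 6426504022252)) (.node (.leaf 9322385805617) (.leaf 5095683700874)))) (.node (.node (.node (.leaf 6666361071726) (.leaf 19905180114675)) (.node (.leaf 27650822083341) (.leaf 19291491377040))) (.node (.node (.leaf 9786285711219) (.leaf 14302646454484)) (.node (.leaf 7240418104942) (.leaf 6435121481864))))) (.node (.node (.node (.node (.leaf 256100944964) (.leaf 2083137090760)) (.node (.leaf 571282178352) (.leaf 25891964738103))) (.node (.node (.leaf 20002075987176) (.leaf 12150237465455)) (.node (.leaf 159103454923) (.leaf 22179224686828)))) (.node (.node (.node (.leaf 8539208507095) (.leaf 2894849276630)) (.node (.leaf 18935178246306) (.leaf 1598593512150))) (.node (.node (.leaf 28339881304775) (.leaf 17204372169419)) (.node (.leaf 16239510687405) (.leaf 7818190521244))))))) (.node (.node (.node (.node (.node (.node (.leaf 17963872314920) (.leaf 22799318337660))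 (.node (.leaf 14114101736135) (.leaf 18791100263617))) (.node (.node (.leaf 10487158967181) (.leaf 23740359555296)) (.node (.leaf 10796110811906) (.leaf 2505004972696)))) (.node (.node (.node (.leaf 5385024530736) (.leaf 23859304935977)) (.node (.leaf 14605043722328) (.leaf 1893239460558))) (.node (.node (.leaf 20118344124579) (.leaf 15575310442026)) (.node (.leaf 17435096355690) (.leaf 15572495864720))))) (.node (.node (.node (.node (.leaf 10751253497921) (.leaf 17437603500875)) (.node (.leaf 12612916570241) (.leaf 19979477815897))) (.node (.node (.leaf 2030141740624) (.leaf 19478662734501)) (.node (.leaf 15291329060368) (.leaf 8966473348246)))) (.node (.node (.node (.leaf 19884445927716) (.leaf 13264563824673)) (.node (.leaf 14458472628745) (.leaf 6826203472538))) (.node (.node (.leaf 14895701952715) (.leaf 15155681954194)) (.node (.leaf 6185395086082) (.leaf 4353629186394)))))) (.node (.node (.node (.node (.node (.leaf 14811896572060) (.leaf 26214203677193)) (.node (.leaf 20738027468973) (.leaf 28560535150376)))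 (.node (.node (.leaf 4904646092851) (.leaf 27303302293040)) (.node (.leaf 10596413492819) (.leaf 20942020808511)))) (.node (.node (.node (.leaf 22403092579169) (.leaf 7986812715355)) (.node (.leaf 18917957243291) (.leaf 10813669554484))) (.node (.node (.leaf 13020958724155) (.leaf 3191728332465)) (.node (.leaf 22450296786947) (.leaf 20176751447668))))) (.node (.node (.node (.node (.leaf 5048678121692) (.leaf 27609667810945)) (.node (.leaf 9140252743266) (.leaf 14592860055557))) (.node (.node (.leaf 8049185806941) (.leaf 28206093868777)) (.node (.leaf 10175208835162) (.leaf 16310978295415)))) (.node (.node (.node (.leaf 14785037563106) (.leaf 20354592703775)) (.node (.leaf 20346207658828) (.leaf 26122034913041))) (.node (.node (.leaf 28047975287669) (.leaf 5740933360949)) (.node (.leaf 3823811858808) (.leaf 4694633438975))))))))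

def twoElt7 : Janko.Tree (ℕ) :=
  (.node (.node (.node (.node (.node (.node (.node (.leaf 6573066937233) (.leaf 4309653597363)) (.node (.leaf 8124281222497) (.leaf 16249965009514))) (.node (.node (.leaf 3275124788447) (.leaf 10453958934820)) (.node (.leaf 3418022404811) (.leaf 16510754840297)))) (.node (.node (.node (.leaf 19662453778712) (.leaf 15311233916624)) (.node (.leaf 5679248678662) (.leaf 23824667285109))) (.node (.node (.leaf 16033156868161) (.leaf 20028460796656)) (.node (.leaf 5712344113911) (.leaf 20571620527480))))) (.node (.node (.node (.node (.leaf 14550633386860) (.leaf 14844304818910)) (.node (.leaf 9792661760343) (.leaf 16721610634495))) (.node (.node (.leaf 25519364417826) (.leaf 23672449758474)) (.node (.leaf 4034803804330) (.leaf 19286735370305)))) (.node (.node (.node (.leaf 227673770218) (.leaf 15143814226479)) (.node (.leaf 26049943080701) (.leaf 20996811213168))) (.node (.node (.leaf 26218732080749) (.leaf 5690513586854)) (.node (.leaf 13249794618970) (.leaf 18505543389367)))))) (.node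 (.node (.node (.node (.node (.leaf 4041349089290) (.leaf 19497371205995)) (.node (.leaf 15979443858843) (.leaf 21649074514283))) (.node (.node (.leaf 7234292191606) (.leaf 18178531282547)) (.node (.leaf 2504515128938) (.leaf 24003096504007)))) (.node (.node (.node (.leaf 21010803327822) (.leaf 19666216859657)) (.node (.leaf 15787532935894) (.leaf 11526968086074))) (.node (.node (.leaf 1015519295547) (.leaf 19569797123417)) (.node (.leaf 15823470944112) (.leaf 23652141462870))))) (.node (.node (.node (.node (.leaf 7337687033974) (.leaf 11363563081276)) (.node (.leaf 20925285558024) (.leaf 4705024292686))) (.node (.node (.leaf 6138751789355) (.leaf 20437758004790)) (.node (.leaf 6807983350344) (.leaf 20668153217229)))) (.node (.node (.node (.leaf 23543958835796) (.leaf 27588625774286)) (.node (.leaf 15236735613325) (.leaf 25888258039329))) (.node (.node (.leaf 2298430041137) (.leaf 28201107403336)) (.node (.leaf 1892841065303) (.leaf 3473794958625))))))) (.node (.node (.node (.node (.node (.node (.leaf 19472379969933)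 (.leaf 19626877624150)) (.node (.leaf 12118989885154) (.leaf 15123058385731))) (.node (.node (.leaf 26632244617901) (.leaf 15325293372306)) (.node (.leaf 28199779991928) (.leaf 2913662140933)))) (.node (.node (.node (.leaf 11586707294752) (.leaf 7407087290978)) (.node (.leaf 26200184033981) (.leaf 27515869127509))) (.node (.node (.leaf 19678621077200) (.leaf 15360112331153)) (.node (.leaf 23865722875135) (.leaf 18922387974169))))) (.node (.node (.node (.node (.leaf 19264179091275) (.leaf 15953330309411)) (.node (.leaf 6171666566506) (.leaf 18518049387851))) (.node (.node (.leaf 10975456080400) (.leaf 19609525001802)) (.node (.leaf 18830017783863) (.leaf 14961115923121)))) (.node (.node (.node (.leaf 1682242961631) (.leaf 11183920284859)) (.node (.leaf 2089651169006) (.leaf 4382582276234))) (.node (.node (.leaf 24153426137261) (.leaf 11250371322687)) (.node (.leaf 23795622873107) (.leaf 3374450475708)))))) (.node (.node (.node (.node (.node (.leaf 27153248979584) (.leaf 20562528600280)) (.node (.leaf 6540734396993)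 (.leaf 19723318617757))) (.node (.node (.leaf 5656516599653) (.leaf 2666849798986)) (.node (.leaf 12606737123889) (.leaf 19860562062655)))) (.node (.node (.node (.leaf 12940826222416) (.leaf 16381304936309)) (.node (.leaf 21697403740969) (.leaf 28212705658130))) (.node (.node (.leaf 24672739921427) (.leaf 707252032136)) (.node (.leaf 9768560922745) (.leaf 26226373467777))))) (.node (.node (.node (.node (.leaf 21329131180613) (.leaf 22856714985221)) (.node (.leaf 28018539055299) (.leaf 11895606346627))) (.node (.node (.leaf 15445466106179) (.leaf 27145059527000)) (.node (.leaf 3992908999071) (.leaf 16734419814611)))) (.node (.node (.node (.leaf 9112755980511) (.leaf 20160413182290)) (.node (.leaf 9093730418739) (.leaf 14962863050803))) (.node (.node (.leaf 24034658619144) (.leaf 9049081963)) (.node (.leaf 12588359518817) (.leaf 24070530611029))))))))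

def twoElt8 : Janko.Tree (ℕ) :=
  (.node (.node (.node (.node (.node (.node (.node (.leaf 23858353408315) (.leaf 12144570048206)) (.node (.leaf 20771286113909) (.leaf 23646685499172))) (.node (.node (.leaf 7728688152810) (.leaf 20642435359370)) (.node (.leaf 23005813948682) (.leaf 15405553633476)))) (.node (.node (.node (.leaf 24498638841459) (.leaf 14124881622626)) (.node (.leaf 7041967368387) (.leaf 22450161928514))) (.node (.node (.leaf 1994477954797) (.leaf 4514494579821)) (.node (.leaf 8687332725480) (.leaf 5264601547875))))) (.node (.node (.node (.node (.leaf 15082101241053) (.leaf 15131923526331)) (.node (.leaf 26208733336066) (.leaf 11890898278252))) (.node (.node (.leaf 19775478720058) (.leaf 9330579898511)) (.node (.leaf 8345691885083) (.leaf 13708141428739)))) (.node (.node (.node (.leaf 7328426401516) (.leaf 20152839841813)) (.node (.leaf 15950123116626) (.leaf 22412960286761))) (.node (.node (.leaf 25235394257584) (.leaf 8352420410913)) (.node (.leaf 10823526815566) (.leaf 23091397676917)))))) (.node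 (.node (.node (.node (.node (.leaf 24704804979443) (.leaf 9103525722188)) (.node (.leaf 16064050790433) (.leaf 14211683093142))) (.node (.node (.leaf 23340151902459) (.leaf 17766960728294)) (.node (.leaf 2278115938399) (.leaf 23304539645975)))) (.node (.node (.node (.leaf 27186111012554) (.leaf 24511836095792)) (.node (.leaf 1977620513112) (.leaf 18369649445047))) (.node (.node (.leaf 11570433910426) (.leaf 23351519250999)) (.node (.leaf 11531773458788) (.leaf 21720665251507))))) (.node (.node (.node (.node (.leaf 6556946949907) (.leaf 14005635271896)) (.node (.leaf 20453851037718) (.leaf 22957542269745))) (.node (.node (.leaf 3802540412441) (.leaf 2499444346754)) (.node (.leaf 24147936095585) (.leaf 20165817393792)))) (.node (.node (.node (.leaf 15856845809966) (.leaf 14962132155221)) (.node (.leaf 17972306120214) (.leaf 28363750205520))) (.node (.node (.leaf 17235446233981) (.leaf 16113311801925)) (.node (.leaf 3036353530080) (.leaf 4336496149155))))))) (.node (.node (.node (.node (.node (.node (.leaf 14331413305019)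 (.leaf 24157724814503)) (.node (.leaf 2088227870290) (.leaf 9859068463114))) (.node (.node (.leaf 16314636276352) (.leaf 18142485817693)) (.node (.leaf 17409007052398) (.leaf 28018762179132)))) (.node (.node (.node (.leaf 24693033743953) (.leaf 23484131331846)) (.node (.leaf 25550567391606) (.leaf 20088804772439))) (.node (.node (.leaf 47618039604) (.leaf 8873880488677)) (.node (.leaf 14783680126626) (.leaf 15219921804086))))) (.node (.node (.node (.node (.leaf 11455096723211) (.leaf 14822269886160)) (.node (.leaf 10219569283845) (.leaf 25269719309879))) (.node (.node (.leaf 24099483628238) (.leaf 16244393456280)) (.node (.leaf 6186468410538) (.leaf 9176294961956)))) (.node (.node (.node (.leaf 13444456226538) (.leaf 18933447803106)) (.node (.leaf 25782226803203) (.leaf 23668121441792))) (.node (.node (.leaf 14112408023959) (.leaf 13471456991050)) (.node (.leaf 22420591579986) (.leaf 26563071096860)))))) (.node (.node (.node (.node (.node (.leaf 13427759392804) (.leaf 23689463233223)) (.node (.leaf 17438282168083)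 (.leaf 28299310053786))) (.node (.node (.leaf 12970065825294) (.leaf 9848584824432)) (.node (.leaf 6152615046467) (.leaf 23520804156976)))) (.node (.node (.node (.leaf 3532775384949) (.leaf 14845828402958)) (.node (.leaf 20753873004106) (.leaf 13899340982362))) (.node (.node (.leaf 19929530139978) (.leaf 28343087229064)) (.node (.leaf 12345014128718) (.leaf 6052564183262))))) (.node (.node (.node (.node (.leaf 26869905679018) (.leaf 28551104509701)) (.node (.leaf 24103168062291) (.leaf 13730699720764))) (.node (.node (.leaf 1973878103645) (.leaf 12855260825816)) (.node (.leaf 11363028995871) (.leaf 26092386424546)))) (.node (.node (.node (.leaf 16223106052891) (.leaf 19999071087663)) (.node (.leaf 1680348651013) (.leaf 19931089901436))) (.node (.node (.leaf 7774368472630) (.leaf 10813467691866)) (.node (.leaf 21333711146849) (.leaf 16104700078109))))))))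

def twoElt9 : Janko.Tree (ℕ) :=
  (.node (.node (.node (.node (.node (.node (.node (.leaf 10082730155699) (.leaf 2117212386832)) (.node (.leaf 5140826732802) (.leaf 22314807361909))) (.node (.node (.leaf 19492883683944) (.leaf 1547438786955)) (.node (.leaf 5655078266608) (.leaf 17026163755278)))) (.node (.node (.node (.leaf 15406754828155) (.leaf 4697771747636)) (.node (.leaf 23546812596639) (.leaf 24986983429403))) (.node (.node (.leaf 7522530494679) (.leaf 1147061027166)) (.node (.leaf 4710208200307) (.leaf 9807853687034))))) (.node (.node (.node (.node (.leaf 24902044049058) (.leaf 9419320058449)) (.node (.leaf 11163660809315) (.leaf 1358905034973))) (.node (.node (.leaf 1118264535262) (.leaf 27657346108430)) (.node (.leaf 1738066103855) (.leaf 11202973493635)))) (.node (.node (.node (.leaf 6553216837676) (.leaf 23115256434203)) (.node (.leaf 13950693239108) (.leaf 24152628940188))) (.node (.node (.leaf 18360481897006) (.leaf 14533115514632)) (.node (.leaf 2848543859563) (.leaf 7514771775355)))))) (.node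 (.node (.node (.node (.node (.leaf 8327691345550) (.leaf 5072107445865)) (.node (.leaf 8087790058299) (.leaf 6757208718236))) (.node (.node (.leaf 3278834578167) (.leaf 4701547500390)) (.node (.leaf 23648579176566) (.leaf 1463177970274)))) (.node (.node (.node (.leaf 11213681637672) (.leaf 15440853898765)) (.node (.leaf 20394134638784) (.leaf 20584345147115))) (.node (.node (.leaf 10389037168832) (.leaf 16998452334775)) (.node (.leaf 2898860357737) (.leaf 10495041124388))))) (.node (.node (.node (.node (.leaf 24966850022966) (.leaf 4754292176071)) (.node (.leaf 2636191405821) (.leaf 10605562052655))) (.node (.node (.leaf 1750971490137) (.leaf 11920613199005)) (.node (.leaf 620093539374) (.leaf 7312906912647)))) (.node (.node (.node (.leaf 11517907341386) (.leaf 4897748723947)) (.node (.leaf 14316652925227) (.leaf 26890847231846))) (.node (.node (.leaf 12338556146212) (.leaf 27676582163100)) (.node (.leaf 17555569672435) (.leaf 16243316524340))))))) (.node (.node (.node (.node (.node (.node (.leaf 10394724045405)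 (.leaf 667532428330)) (.node (.leaf 25785152702583) (.leaf 11930365407807))) (.node (.node (.leaf 19960827904343) (.leaf 25014502632488)) (.node (.leaf 3346137528667) (.leaf 22092296654438)))) (.node (.node (.node (.leaf 22405070917725) (.leaf 27177493817759)) (.node (.leaf 3058234745582) (.leaf 23878192500796))) (.node (.node (.leaf 12301413289623) (.leaf 23734812598872)) (.node (.leaf 7385940922669) (.leaf 14478630076513))))) (.node (.node (.node (.node (.leaf 5120869048093) (.leaf 18783105073375)) (.node (.leaf 13275209703122) (.leaf 6721329978066))) (.node (.node (.leaf 353985186171) (.leaf 18328411964226)) (.node (.leaf 27657789349784) (.leaf 7522984501109)))) (.node (.node (.node (.leaf 23320757283218) (.leaf 27318239571146)) (.node (.leaf 5392665848142) (.leaf 9794696777430))) (.node (.node (.leaf 12127992696663) (.leaf 3830398934544)) (.node (.leaf 20496489123412) (.leaf 19595426707754)))))) (.node (.node (.node (.node (.node (.leaf 25791378098207) (.leaf 23484934262653)) (.node (.leaf 4082524645041)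 (.leaf 2026152133238))) (.node (.node (.leaf 19912884112946) (.leaf 10604433018467)) (.node (.leaf 10194964842797) (.leaf 20778202304199)))) (.node (.node (.node (.leaf 987610046362) (.leaf 13726759719220)) (.node (.leaf 4789324164397) (.leaf 20098652748065))) (.node (.node (.leaf 18535486472443) (.leaf 25794607485343)) (.node (.leaf 26902661509966) (.leaf 25889293624874))))) (.node (.node (.node (.node (.leaf 914897911934) (.leaf 19778153380582)) (.node (.leaf 3807029766418) (.leaf 2151935993946))) (.node (.node (.leaf 28062300678467) (.leaf 4013789109897)) (.node (.leaf 19707860265371) (.leaf 11419887957301)))) (.node (.node (.node (.leaf 7816101171284) (.leaf 8186671422189)) (.node (.leaf 25531468123910) (.leaf 8602581338280))) (.node (.node (.leaf 20918153924378) (.leaf 6417030786374)) (.node (.leaf 8623251784230) (.leaf 16270754320077))))))))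

def twoElt10 : Janko.Tree (ℕ) :=
  (.node (.node (.node (.node (.node (.node (.node (.leaf 14826016172265) (.leaf 646571561283)) (.node (.leaf 24017652573764) (.leaf 20640590625321))) (.node (.node (.leaf 10318263699823) (.leaf 7195887244191)) (.node (.leaf 10634157631862) (.leaf 2914279166261)))) (.node (.node (.node (.leaf 27677666614856) (.leaf 17575869317182)) (.node (.leaf 26630011371807) (.leaf 7271021711433))) (.node (.node (.leaf 10445898737900) (.leaf 8989044804109)) (.node (.leaf 28321064001419) (.leaf 11566451165970))))) (.node (.node (.node (.node (.leaf 11363507598657) (.leaf 3542419138441)) (.node (.leaf 22306926982376) (.leaf 243886591814))) (.node (.node (.leaf 22229770397826) (.leaf 21947033673256)) (.node (.leaf 23762371509020) (.leaf 14088304742263)))) (.node (.node (.node (.leaf 24963218223931) (.leaf 16385859159084)) (.node (.leaf 4792948884268) (.leaf 14094702628433))) (.node (.node (.leaf 19632788279304) (.leaf 9437560531187)) (.node (.leaf 17953774898836) (.leaf 2179989934182)))))) (.node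 (.node (.node (.node (.node (.leaf 17966835863685) (.leaf 19261486895929)) (.node (.leaf 28090736725091) (.leaf 23457845121236))) (.node (.node (.leaf 16986407078483) (.leaf 22183325835001)) (.node (.leaf 4786351338903) (.leaf 385369327663)))) (.node (.node (.node (.leaf 4261516044061) (.leaf 24027344013416)) (.node (.leaf 15401808186412) (.leaf 26086649729552))) (.node (.node (.leaf 20522624720453) (.leaf 1480874921782)) (.node (.leaf 21350702321685) (.leaf 23576043151147))))) (.node (.node (.node (.node (.leaf 10225968520847) (.leaf 4135530088795)) (.node (.leaf 5598807432962) (.leaf 19862387253111))) (.node (.node (.leaf 21356260177619) (.leaf 26082023856796)) (.node (.leaf 23462009669008) (.leaf 2172230337627)))) (.node (.node (.node (.leaf 2904953360584) (.leaf 2793544113035)) (.node (.leaf 5676981116446) (.leaf 6786756746925))) (.node (.node (.leaf 26914059358510) (.leaf 24019637260074)) (.node (.leaf 9834007520822) (.leaf 2251913167407))))))) (.node (.node (.node (.node (.node (.node (.leaf 6769110344536)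 (.leaf 17197941394974)) (.node (.leaf 236817894920) (.leaf 27981218662715))) (.node (.node (.leaf 14966268525280) (.leaf 4099239091959)) (.node (.leaf 13744756123286) (.leaf 19432114375817)))) (.node (.node (.node (.leaf 5686628377411) (.leaf 4285485813535)) (.node (.leaf 2486588555566) (.leaf 25811616436562))) (.node (.node (.leaf 8529817673547) (.leaf 142194658514)) (.node (.leaf 7596533172350) (.leaf 16182392390443))))) (.node (.node (.node (.node (.leaf 2648610477693) (.leaf 3746500591880)) (.node (.leaf 22145741623050) (.leaf 14302322000089))) (.node (.node (.leaf 18024522318677) (.leaf 23683670558748)) (.node (.leaf 1973172077914) (.leaf 12325670620988)))) (.node (.node (.node (.leaf 18913226276896) (.leaf 16501770698987)) (.node (.leaf 53208584541) (.leaf 8133425926488))) (.node (.node (.leaf 2087726650931) (.leaf 24283504284168)) (.node (.leaf 13282900181914) (.leaf 4976396502278)))))) (.node (.node (.node (.node (.node (.leaf 14432717246221) (.leaf 11909993897508)) (.node (.leaf 8918339332477) (.leaf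 174773668584))) (.node (.node (.leaf 6698300159534) (.leaf 7591684635290)) (.node (.leaf 11133104892951) (.leaf 9159762286088)))) (.node (.node (.node (.leaf 2142685649642) (.leaf 13300579885756)) (.node (.leaf 4081894851635) (.leaf 22096219398998))) (.node (.node (.leaf 24602168208614) (.leaf 14521419173718)) (.node (.leaf 24082910901345) (.leaf 5991285431816))))) (.node (.node (.node (.node (.leaf 20526108280157) (.leaf 23830179170667)) (.node (.leaf 8092480009395) (.leaf 3483542649523))) (.node (.node (.leaf 21014901202442) (.leaf 24125876899743)) (.node (.leaf 930701461880) (.leaf 28063122626081)))) (.node (.node (.node (.leaf 20923251325689) (.leaf 23760460924953)) (.node (.leaf 19746983160195) (.leaf 5728053242186))) (.node (.node (.leaf 15583780174551) (.leaf 15415939861337)) (.node (.leaf 26077255860591) (.leaf 17559061914210))))))))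

def twoElt11 : Janko.Tree (ℕ) :=
  (.node (.node (.node (.node (.node (.node (.node (.leaf 1469208408595) (.leaf 10332687465116)) (.node (.leaf 13756519594358) (.leaf 11513893235039))) (.node (.node (.leaf 4923855644704) (.leaf 20529959276147)) (.node (.leaf 13039609516433) (.leaf 2660360622883)))) (.node (.node (.node (.leaf 24030612895397) (.leaf 25532140132069)) (.node (.leaf 11592540449107) (.leaf 9140528877147))) (.node (.node (.leaf 12961152840600) (.leaf 19860806061704)) (.node (.leaf 6771120878192) (.leaf 18587203426818))))) (.node (.node (.node (.node (.leaf 5820148913946) (.leaf 2162446588646)) (.node (.leaf 5992184623729) (.leaf 9378795189385))) (.node (.node (.leaf 8796925854289) (.leaf 577191359143)) (.node (.leaf 3541910513735) (.leaf 9391099509582)))) (.node (.node (.node (.leaf 10226156521472) (.leaf 14726045664485)) (.node (.leaf 6265891371357) (.leaf 26138165033341))) (.node (.node (.leaf 5064200120474) (.leaf 25666936898384)) (.node (.leaf 19458043960113) (.leaf 23258263756644)))))) (.node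 (.node (.node (.node (.node (.leaf 15815851805516) (.leaf 12904710947096)) (.node (.leaf 6101488281979) (.leaf 18530861484654))) (.node (.node (.leaf 1473719193088) (.leaf 27988912345805)) (.node (.leaf 15346140012382) (.leaf 8575385623440)))) (.node (.node (.node (.leaf 15792390191192) (.leaf 10066380980991)) (.node (.leaf 7318814589476) (.leaf 9122534526573))) (.node (.node (.leaf 20029932742715) (.leaf 21957130143863)) (.node (.leaf 16749665095338) (.leaf 3556317332151))))) (.node (.node (.node (.node (.leaf 3267201939033) (.leaf 22791473510556)) (.node (.leaf 22320595511670) (.leaf 4059762354414))) (.node (.node (.leaf 4041230294663) (.leaf 4342967898240)) (.node (.leaf 19951400350940) (.leaf 729104618266)))) (.node (.node (.node (.leaf 4108560009742) (.leaf 578449575594)) (.node (.leaf 7014720481408) (.leaf 24054272527998))) (.node (.node (.leaf 9428183027493) (.leaf 21200126028999)) (.node (.leaf 22770864011394) (.leaf 350746447630))))))) (.node (.node (.node (.node (.node (.node (.leaf 18017180860783)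 (.leaf 28185339648689)) (.node (.leaf 7305973337897) (.leaf 23626381631369))) (.node (.node (.leaf 25875709258121) (.leaf 27062256177495)) (.node (.leaf 15191702526621) (.leaf 17548358461787)))) (.node (.node (.node (.leaf 15535927124545) (.leaf 26596862234420)) (.node (.leaf 8966048675089) (.leaf 7046792907397))) (.node (.node (.leaf 23524825970461) (.leaf 14816584552312)) (.node (.leaf 1860200189121) (.leaf 4974385696280))))) (.node (.node (.node (.node (.leaf 20034734164690) (.leaf 344174138924)) (.node (.leaf 15446664170713) (.leaf 26229853422792))) (.node (.node (.leaf 26638701141674) (.leaf 7406193643611)) (.node (.leaf 11159154921882) (.leaf 14500667360402)))) (.node (.node (.node (.leaf 8541227869742) (.leaf 28296629610216)) (.node (.leaf 15962932456671) (.leaf 23690296778276))) (.node (.node (.leaf 666080021349) (.leaf 19929280583294)) (.node (.leaf 20457392007261) (.leaf 8693228954382)))))) (.node (.node (.node (.node (.node (.leaf 23782232821482) (.leaf 23595689971366)) (.node (.leaf 17948236340127)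 (.leaf 23120842494251))) (.node (.node (.leaf 16336516710570) (.leaf 24725756988735)) (.node (.leaf 361611957802) (.leaf 17758271870500)))) (.node (.node (.node (.leaf 18604269128801) (.leaf 20435766880362)) (.node (.leaf 1686485370199) (.leaf 9120053733390))) (.node (.node (.leaf 28225733021377) (.leaf 3025298611717)) (.node (.leaf 20915152375089) (.leaf 18503525371667))))) (.node (.node (.node (.node (.leaf 20024856358267) (.leaf 8196373778751)) (.node (.leaf 2848170797403) (.leaf 18535257819159))) (.node (.node (.leaf 7612100775748) (.leaf 20423244140199)) (.node (.leaf 9488047962698) (.leaf 5781437172840)))) (.node (.node (.node (.leaf 2224618922747) (.leaf 19706940133427)) (.node (.leaf 1132865424909) (.leaf 27012046268537))) (.node (.node (.leaf 6295289236052) (.leaf 7312347909995)) (.node (.leaf 4984986174795) (.leaf 8851583576229))))))))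

def twoElt12 : Janko.Tree (ℕ) :=
  (.node (.node (.node (.node (.node (.node (.node (.leaf 17158770346239) (.leaf 15280166772548)) (.node (.leaf 15810277270274) (.leaf 2912336219657))) (.node (.node (.leaf 5686343591982) (.leaf 25330549645914)) (.node (.leaf 8912517934295) (.leaf 14174958815931)))) (.node (.node (.node (.leaf 10063721277469) (.leaf 3748210850179)) (.node (.leaf 23804323562340) (.leaf 18323582568782))) (.node (.node (.leaf 13000357267624) (.leaf 27557070727357)) (.node (.leaf 19864684152997) (.leaf 8947110806760))))) (.node (.node (.node (.node (.leaf 17276030497651) (.leaf 14205303017006)) (.node (.leaf 7513192915678) (.leaf 14125248372460))) (.node (.node (.leaf 21203402972753) (.leaf 3755605655633)) (.node (.leaf 14508808899215) (.leaf 17232159171231)))) (.node (.node (.node (.leaf 3242494107369) (.leaf 15309833073857)) (.node (.leaf 4123993990972) (.leaf 13310460796460))) (.node (.node (.leaf 6126403227713) (.leaf 19885464051564)) (.node (.leaf 14335602528303) (.leaf 22136753611615))))))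 (.node (.node (.node (.node (.node (.leaf 12617571257907) (.leaf 13890340405322)) (.node (.leaf 1006841929529) (.leaf 24624527724379))) (.node (.node (.leaf 12972167433921) (.leaf 19639202365759)) (.node (.leaf 8840313178405) (.leaf 7495159505810)))) (.node (.node (.node (.leaf 14102816962056) (.leaf 21221064875520)) (.node (.leaf 4892677115548) (.leaf 633818936462))) (.node (.node (.leaf 24963882027229) (.leaf 3305698071130)) (.node (.leaf 20090451484546) (.leaf 21260928811688))))) (.node (.node (.node (.node (.leaf 1888330227484) (.leaf 28222563962236)) (.node (.leaf 20734573584024) (.leaf 23456068236334))) (.node (.node (.leaf 7358308427826) (.leaf 7147682467978)) (.node (.leaf 18533192503698) (.leaf 21660248868235)))) (.node (.node (.node (.leaf 13203136448663) (.leaf 12993300156091)) (.node (.leaf 6718715596491) (.leaf 17165317956385))) (.node (.node (.leaf 19274365012156) (.leaf 1545222376988)) (.node (.leaf 20393940641482) (.leaf 1332350288551))))))) (.node (.node (.node (.node (.node (.node (.leaf 10767952719031)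 (.leaf 16122289262679)) (.node (.leaf 6573617216038) (.leaf 2158917092371))) (.node (.node (.leaf 28321476414195) (.leaf 20640763774284)) (.node (.leaf 2862731254565) (.leaf 8710887695229)))) (.node (.node (.node (.leaf 6852927162530) (.leaf 189061271105)) (.node (.leaf 14349261162718) (.leaf 914989125169))) (.node (.node (.leaf 4491137666685) (.leaf 23112429775051)) (.node (.leaf 10762198601609) (.leaf 2008253806380))))) (.node (.node (.node (.node (.leaf 6234459736432) (.leaf 14472852923042)) (.node (.leaf 16711283996060) (.leaf 8671278702190))) (.node (.node (.leaf 5041395427664) (.leaf 27019166173309)) (.node (.leaf 27306010534493) (.leaf 11142986560916)))) (.node (.node (.node (.leaf 1661689561418) (.leaf 16308185110131)) (.node (.leaf 25731784396618) (.leaf 7770058686751))) (.node (.node (.leaf 16405247207590) (.leaf 14347088068652)) (.node (.leaf 20115088315018) (.leaf 2830186987846)))))) (.node (.node (.node (.node (.node (.leaf 21172770983660) (.leaf 18863698307222)) (.node (.leaf 17989885254476) (.leaf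 15376789190822))) (.node (.node (.leaf 1772090980891) (.leaf 7729483735939)) (.node (.leaf 11933204913762) (.leaf 17417044654760)))) (.node (.node (.node (.leaf 14157919440426) (.leaf 21948136362273)) (.node (.leaf 22302433834055) (.leaf 14478830932298))) (.node (.node (.leaf 14468866772696) (.leaf 8368510809862)) (.node (.leaf 20721744308562) (.leaf 5539490565853))))) (.node (.node (.node (.node (.leaf 10619980557480) (.leaf 23007787911708)) (.node (.leaf 6766595558507) (.leaf 14727445574698))) (.node (.node (.leaf 25341670886975) (.leaf 21948988542505)) (.node (.leaf 8547869582036) (.leaf 14743147152526)))) (.node (.node (.node (.leaf 6237742305102) (.leaf 20712632766267)) (.node (.leaf 22249546337389) (.leaf 15830217566320))) (.node (.node (.leaf 8677338243883) (.leaf 4364989669066)) (.node (.leaf 15998505337099) (.leaf 23237579114598))))))))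

def twoElt13 : Janko.Tree (ℕ) :=
  (.node (.node (.node (.node (.node (.node (.node (.leaf 22698926644791) (.leaf 6692400345886)) (.node (.leaf 18379213497206) (.leaf 13217145291628))) (.node (.node (.leaf 12954913099082) (.leaf 26595284673382)) (.node (.leaf 15413163890308) (.leaf 24550899920098)))) (.node (.node (.node (.leaf 21197747521594) (.leaf 17422643629744)) (.node (.leaf 1880295813786) (.leaf 24307025941211))) (.node (.node (.leaf 20396606332762) (.leaf 14930197090030)) (.node (.leaf 21354414342775) (.leaf 2663702950963))))) (.node (.node (.node (.node (.leaf 25738331894541) (.leaf 23281362970999)) (.node (.leaf 7182448976589) (.leaf 25530527269079))) (.node (.node (.leaf 16299144951901) (.leaf 19469156892921)) (.node (.leaf 9468044787780) (.leaf 9441169018669)))) (.node (.node (.node (.leaf 1870747246304) (.leaf 14193482207259)) (.node (.leaf 26169048217979) (.leaf 16164405747545))) (.node (.node (.leaf 3480223387786) (.leaf 6678143064659)) (.node (.leaf 25800503667875) (.leaf 5809749177918))))))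 (.node (.node (.node (.node (.node (.leaf 16159491143902) (.leaf 16046223691481)) (.node (.leaf 10381401601643) (.leaf 6674429633207))) (.node (.node (.leaf 8199260016936) (.leaf 946851954783)) (.node (.leaf 13982625595642) (.leaf 8691227458458)))) (.node (.node (.node (.leaf 5784891194153) (.leaf 19973887008361)) (.node (.leaf 5687393286680) (.leaf 16407554257975))) (.node (.node (.leaf 10315076210338) (.leaf 21511689821850)) (.node (.leaf 10620568348745) (.leaf 8190257444981))))) (.node (.node (.node (.node (.leaf 10745157265758) (.leaf 6412472775999)) (.node (.leaf 16752295151938) (.leaf 24696384467749))) (.node (.node (.leaf 11363239463064) (.leaf 6815659213020)) (.node (.leaf 24637206842661) (.leaf 11214855803255)))) (.node (.node (.node (.leaf 26197462709498) (.leaf 16699645365927)) (.node (.leaf 16319860179677) (.leaf 24903083298830))) (.node (.node (.leaf 5138466635882) (.leaf 11735218392733)) (.node (.leaf 28197748234840) (.leaf 22289443868517))))))) (.node (.node (.node (.node (.node (.node (.leaf 1659697706832)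 (.leaf 13987435534853)) (.node (.leaf 10764978389323) (.leaf 26921745152522))) (.node (.node (.leaf 25307428021133) (.leaf 18802254104627)) (.node (.leaf 17960123109186) (.leaf 12593726394267)))) (.node (.node (.node (.leaf 15331637695251) (.leaf 348863205187)) (.node (.leaf 17778616906489) (.leaf 19911508832998))) (.node (.node (.leaf 11176788263122) (.leaf 6831882054936)) (.node (.leaf 27510551259352) (.leaf 13500112865992))))) (.node (.node (.node (.node (.leaf 6209188530497) (.leaf 23090286988842)) (.node (.leaf 54164812810) (.leaf 25241605414550))) (.node (.node (.leaf 23728241978494) (.leaf 11452702165625)) (.node (.leaf 28269825842761) (.leaf 11893731570322)))) (.node (.node (.node (.leaf 23549726987786) (.leaf 3385282343437)) (.node (.leaf 20773336671974) (.leaf 28014070106693))) (.node (.node (.leaf 23348141454369) (.leaf 2911736041081)) (.node (.leaf 22111219499403) (.leaf 6848533669985)))))) (.node (.node (.node (.node (.node (.leaf 18853906953772) (.leaf 22427477738096)) (.node (.leaf 388839656580)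 (.leaf 18189511473285))) (.node (.node (.leaf 8327434238511) (.leaf 9779702573151)) (.node (.leaf 17410395299366) (.leaf 7819447150711)))) (.node (.node (.node (.leaf 19407484380835) (.leaf 23298405732185)) (.node (.leaf 16521288683644) (.leaf 13970072699953))) (.node (.node (.leaf 24172986792770) (.leaf 17552119796611)) (.node (.leaf 3553718698526) (.leaf 16042347876050))))) (.node (.node (.node (.node (.leaf 4504099829481) (.leaf 10583655993145)) (.node (.leaf 28571492312971) (.leaf 27990330870631))) (.node (.node (.leaf 24472798776635) (.leaf 5360728238388)) (.node (.leaf 1694581804083) (.leaf 5119840626710)))) (.node (.node (.node (.leaf 22407839108656) (.leaf 10464083216986)) (.node (.leaf 8837915833448) (.leaf 25726000116353))) (.node (.node (.leaf 8645460646499) (.leaf 20653261478702)) (.node (.leaf 11387747380509) (.leaf 6144138095812))))))))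

def twoElt14 : Janko.Tree (ℕ) :=
  (.node (.node (.node (.node (.node (.node (.node (.leaf 1014319652394) (.leaf 11216577994259)) (.node (.leaf 17156384530242) (.leaf 26216654333781))) (.node (.node (.leaf 7045964628490) (.leaf 9368866054861)) (.node (.leaf 5653035310760) (.leaf 11434844328856)))) (.node (.node (.node (.leaf 18849228918431) (.leaf 10811967475772)) (.node (.leaf 27524323607056) (.leaf 3448604816432))) (.node (.node (.leaf 20390997237597) (.leaf 5267987532550)) (.node (.leaf 21221264672911) (.leaf 20035184138085))))) (.node (.node (.node (.node (.leaf 12200674150699) (.leaf 11245982748964)) (.node (.leaf 15170696683381) (.leaf 2489255346260))) (.node (.node (.leaf 10198598968945) (.leaf 8137546819113)) (.node (.leaf 6703548293009) (.leaf 22178412564741)))) (.node (.node (.node (.leaf 10740267429266) (.leaf 18879881502255)) (.node (.leaf 8370555615767) (.leaf 23252054311567))) (.node (.node (.leaf 11715655840360) (.leaf 2613027432307)) (.node (.leaf 14441507850242) (.leaf 18372415906685)))))) (.node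 (.node (.node (.node (.node (.leaf 15994477798018) (.leaf 163556894743)) (.node (.leaf 14524131584236) (.leaf 4156507237625))) (.node (.node (.leaf 22953948644509) (.leaf 24060430549245)) (.node (.leaf 14182344724208) (.leaf 11226132605210)))) (.node (.node (.node (.leaf 16196813120038) (.leaf 24612014471047)) (.node (.leaf 7056954919711) (.leaf 11919170940170))) (.node (.node (.leaf 8877168751978) (.leaf 13401143732224)) (.node (.leaf 15752164673769) (.leaf 2798721056925))))) (.node (.node (.node (.node (.leaf 27496852621321) (.leaf 20928092784648)) (.node (.leaf 9786773475040) (.leaf 27009249185368))) (.node (.node (.leaf 19706734972605) (.leaf 4005788948135)) (.node (.leaf 27565118037742) (.leaf 6747136302797)))) (.node (.node (.node (.leaf 3036042578194) (.leaf 9813809854985)) (.node (.leaf 1718846056779) (.leaf 26884630748759))) (.node (.node (.leaf 24263296454436) (.leaf 10797558832861)) (.node (.leaf 13521465924285) (.leaf 13934543143210))))))) (.node (.node (.node (.node (.node (.node (.leaf 25514982282894)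 (.leaf 14732557422256)) (.node (.leaf 27501351800587) (.leaf 4492897653572))) (.node (.node (.leaf 938049921666) (.leaf 27332985521490)) (.node (.leaf 19538034495664) (.leaf 20182334256681)))) (.node (.node (.node (.leaf 27170855229243) (.leaf 12144312098643)) (.node (.leaf 18151039344514) (.leaf 27585150747841))) (.node (.node (.leaf 27314183895920) (.leaf 20030302365892)) (.node (.leaf 20506490332994) (.leaf 19278018720300))))) (.node (.node (.node (.node (.leaf 23813448532762) (.leaf 15308874219755)) (.node (.leaf 6000211957329) (.leaf 19609942232733))) (.node (.node (.leaf 10308541426702) (.leaf 11498924825201)) (.node (.leaf 16300175102493) (.leaf 16088991130115)))) (.node (.node (.node (.leaf 23571364472651) (.leaf 20726498610825)) (.node (.leaf 1337848150103) (.leaf 2114495866498))) (.node (.node (.leaf 7237104399705) (.leaf 6746872380159)) (.node (.leaf 17936377341723) (.leaf 16406060142651)))))) (.node (.node (.node (.node (.node (.leaf 11449352426208) (.leaf 1768805719711)) (.node (.leaf 27007575917186)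 (.leaf 1771180030754))) (.node (.node (.leaf 10333466222364) (.leaf 24695034689371)) (.node (.leaf 22183125094726) (.leaf 9305184735588)))) (.node (.node (.node (.leaf 23259771742572) (.leaf 17004380039206)) (.node (.leaf 20665572412456) (.leaf 19609401069372))) (.node (.node (.leaf 14164826669215) (.leaf 20738701429552)) (.node (.leaf 7030999127659) (.leaf 17207971964633))))) (.node (.node (.node (.node (.leaf 1128184190519) (.leaf 27806927861832)) (.node (.leaf 19727758483006) (.leaf 19619597422406))) (.node (.node (.leaf 7238259144073) (.leaf 7171177275233)) (.node (.leaf 4059225804119) (.leaf 19709414258921)))) (.node (.node (.node (.leaf 12942036514481) (.leaf 13965364199548)) (.node (.leaf 21198108193811) (.leaf 5267458978926))) (.node (.node (.leaf 26526555246811) (.leaf 7177842320221)) (.node (.leaf 8053778943498) (.leaf 22248838438808))))))))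

def twoElt15 : Janko.Tree (ℕ) :=
  (.node (.node (.node (.node (.node (.node (.node (.leaf 21537888349551) (.leaf 937614985546)) (.node (.leaf 16173527572208) (.leaf 2506853210982))) (.node (.node (.leaf 5053899699435) (.leaf 28551531071807)) (.node (.leaf 7051368567642) (.leaf 18767609332329)))) (.node (.node (.node (.leaf 19541237466469) (.leaf 9195346611263)) (.node (.leaf 20502900481674) (.leaf 13914639264040))) (.node (.node (.leaf 13195836861553) (.leaf 9146807750460)) (.node (.leaf 4479466184281) (.leaf 13513781697096))))) (.node (.node (.node (.node (.leaf 922015498966) (.leaf 25864650100436)) (.node (.leaf 9451843971134) (.leaf 19424149917058))) (.node (.node (.leaf 1750070638915) (.leaf 12313196780100)) (.node (.leaf 2646915320600) (.leaf 4314709785299)))) (.node (.node (.node (.leaf 27500207323475) (.leaf 25876273980999)) (.node (.leaf 24074777677535) (.leaf 4136831639183))) (.node (.node (.leaf 18334915922776) (.leaf 3471550208856)) (.node (.leaf 23799721456889) (.leaf 20687081531498)))))) (.node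 (.node (.node (.node (.node (.leaf 19283286793915) (.leaf 6423803163716)) (.node (.leaf 24883591384860) (.leaf 8563014803306))) (.node (.node (.leaf 10620213217690) (.leaf 23109836935241)) (.node (.leaf 24570192629842) (.leaf 11518125805075)))) (.node (.node (.node (.leaf 19732857713777) (.leaf 28020104505633)) (.node (.leaf 13683800571973) (.leaf 20147478898698))) (.node (.node (.leaf 12944826734129) (.leaf 14431634326249)) (.node (.leaf 27540025379152) (.leaf 584287161859))))) (.node (.node (.node (.node (.leaf 20511697932080) (.leaf 1542891337001)) (.node (.leaf 14189135492109) (.leaf 1328424586030))) (.node (.node (.leaf 22793803620054) (.leaf 8680294408082)) (.node (.leaf 28003419040046) (.leaf 21698175492666)))) (.node (.node (.node (.leaf 2521635304115) (.leaf 11717910546549)) (.node (.leaf 8352794776437) (.leaf 21185604037700))) (.node (.node (.leaf 3460467429445) (.leaf 6396211515023)) (.node (.leaf 18523297288054) (.leaf 23239554276944))))))) (.node (.node (.node (.node (.node (.node (.leaf 19766689963638)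 (.leaf 4284919746108)) (.node (.leaf 20483107879709) (.leaf 13451909565971))) (.node (.node (.leaf 19907498559784) (.leaf 26063357496570)) (.node (.leaf 9853560349244) (.leaf 8914834205073)))) (.node (.node (.node (.leaf 28549657217105) (.leaf 22272311709470)) (.node (.leaf 16133788350147) (.leaf 22209963525202))) (.node (.node (.leaf 20657638112065) (.leaf 12600510867725)) (.node (.leaf 4027654954811) (.leaf 5108279430911))))) (.node (.node (.node (.node (.leaf 22447820152575) (.leaf 14129295686539)) (.node (.leaf 20689275668801) (.leaf 23127143911612))) (.node (.node (.leaf 5741527181562) (.leaf 19909885337178)) (.node (.leaf 8002472153352) (.leaf 1539298971254)))) (.node (.node (.node (.leaf 25750806888715) (.leaf 20649175362614)) (.node (.leaf 23852832951895) (.leaf 12131886204157))) (.node (.node (.leaf 13503573300959) (.leaf 3509492201360)) (.node (.leaf 20633883979086) (.leaf 2220655208848)))))) (.node (.node (.node (.node (.node (.leaf 28049916707218) (.leaf 21700112570958)) (.node (.leaf 22722215797286)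 (.leaf 3558811186961))) (.node (.node (.leaf 2251265226311) (.leaf 5061788868437)) (.node (.leaf 551415713301) (.leaf 10470942868558)))) (.node (.node (.node (.leaf 18144374906589) (.leaf 1453542438152)) (.node (.leaf 20184560992605) (.leaf 20098207103278))) (.node (.node (.leaf 26075310745312) (.leaf 13909409325587)) (.node (.leaf 23622335959694) (.leaf 24290102893158))))) (.node (.node (.node (.node (.leaf 1475193776245) (.leaf 22714679898841)) (.node (.leaf 28266463517413) (.leaf 8084344442901))) (.node (.node (.leaf 23348330198302) (.leaf 27606252101250)) (.node (.leaf 18520113057490) (.leaf 23481083003959)))) (.node (.node (.node (.leaf 23525111628499) (.leaf 24588502334081)) (.node (.leaf 1767016313399) (.leaf 25018621906254))) (.node (.node (.leaf 23688490857355) (.leaf 20571455393480)) (.node (.leaf 10381886639728) (.leaf 11375970561219))))))))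

def twoElt16 : Janko.Tree (ℕ) :=
  (.node (.node (.node (.node (.node (.node (.node (.leaf 21286772193681) (.leaf 9447083187942)) (.node (.leaf 24903914826861) (.leaf 21760592488816))) (.node (.node (.leaf 22777208588568) (.leaf 18384620094118)) (.node (.leaf 11380633112396) (.leaf 5979476066866)))) (.node (.node (.node (.leaf 4888156848142) (.leaf 1356510416415)) (.node (.leaf 22222973474715) (.leaf 24001172037200))) (.node (.node (.leaf 10842442479920) (.leaf 22220788557833)) (.node (.leaf 9424989752090) (.leaf 1624745287244))))) (.node (.node (.node (.node (.leaf 9395528114008) (.leaf 3827161266926)) (.node (.leaf 9370315890282) (.leaf 1615137171740))) (.node (.node (.leaf 15150856380003) (.leaf 3752690818879)) (.node (.leaf 20004517613243) (.leaf 25036579553340)))) (.node (.node (.node (.leaf 12588051880695) (.leaf 26889385968643)) (.node (.leaf 18046455779051) (.leaf 8568819071179))) (.node (.node (.leaf 1856295030639) (.leaf 5001036844405)) (.node (.leaf 21218799732955) (.leaf 1122465615519)))))) (.node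 (.node (.node (.node (.node (.leaf 7908026755153) (.leaf 17185128147317)) (.node (.leaf 10628105129233) (.leaf 18380591806035))) (.node (.node (.leaf 27800396900661) (.leaf 8156564873757)) (.node (.leaf 19392467701569) (.leaf 671700914199)))) (.node (.node (.node (.leaf 18598434327584) (.leaf 699593556319)) (.node (.leaf 8208278652220) (.leaf 599445359937))) (.node (.node (.leaf 18575962969721) (.leaf 18881573051273)) (.node (.leaf 15146981262027) (.leaf 21690864799890))))) (.node (.node (.node (.node (.leaf 23822240882472) (.leaf 5223501300807)) (.node (.leaf 6305788016280) (.leaf 18395621570421))) (.node (.node (.leaf 14794762905294) (.leaf 1585323784019)) (.node (.leaf 6693880684220) (.leaf 20147252658534)))) (.node (.node (.node (.leaf 4760320161398) (.leaf 16059364741494)) (.node (.leaf 10320555950330) (.leaf 22245395694901))) (.node (.node (.leaf 3214038142687) (.leaf 7545890840108)) (.node (.leaf 5523656576814) (.leaf 7770629040276))))))) (.node (.node (.node (.node (.node (.node (.leaf 11597173831170)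 (.leaf 4287222157138)) (.node (.leaf 24486828071762) (.leaf 19959288202520))) (.node (.node (.leaf 1670794550872) (.leaf 16060720238320)) (.node (.leaf 17010919511814) (.leaf 20465288034160)))) (.node (.node (.node (.leaf 14867775173513) (.leaf 4147905116004)) (.node (.leaf 12323837382718) (.leaf 24511749966967))) (.node (.node (.leaf 1537922916122) (.leaf 6125056576545)) (.node (.leaf 8343136080777) (.leaf 17302048496467))))) (.node (.node (.node (.node (.leaf 12942311254387) (.leaf 20588867395161)) (.node (.leaf 27583090340676) (.leaf 5786005540454))) (.node (.node (.leaf 10954464988946) (.leaf 21327388233550)) (.node (.leaf 14936559227133) (.leaf 16239308665975)))) (.node (.node (.node (.leaf 21766637393693) (.leaf 18779125713026)) (.node (.leaf 10057415403712) (.leaf 18510011599633))) (.node (.node (.leaf 8977700177958) (.leaf 14526408135466)) (.node (.leaf 7181348410928) (.leaf 10958551407233)))))) (.node (.node (.node (.node (.node (.leaf 23709090243411) (.leaf 22837577820507)) (.node (.leaf 17262168584912)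 (.leaf 21267309791297))) (.node (.node (.leaf 7714567983759) (.leaf 20710657107971)) (.node (.leaf 10979573783246) (.leaf 10774407430332)))) (.node (.node (.node (.leaf 2117078375074) (.leaf 22700453266116)) (.node (.leaf 24534543969312) (.leaf 22059816247882))) (.node (.node (.leaf 11702405732083) (.leaf 20394389932287)) (.node (.leaf 8548631896744) (.leaf 22977055399526))))) (.node (.node (.node (.node (.leaf 5397882429250) (.leaf 3395939205655)) (.node (.leaf 26922827795667) (.leaf 16517581377106))) (.node (.node (.leaf 3267530626592) (.leaf 14933703964880)) (.node (.leaf 5522398515056) (.leaf 17300804433263)))) (.node (.node (.node (.leaf 996611287402) (.leaf 2142953442053)) (.node (.leaf 15171180823291) (.leaf 25290432145783))) (.node (.node (.leaf 16093042871199) (.leaf 18157314933068)) (.node (.leaf 17162703771190) (.leaf 4354839451504))))))))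

def twoElt17 : Janko.Tree (ℕ) :=
  (.node (.node (.node (.node (.node (.node (.node (.leaf 7390218978711) (.leaf 3068995211457)) (.node (.leaf 17407524649310) (.leaf 11713010032519))) (.node (.node (.leaf 3460362220147) (.leaf 6850801713277)) (.node (.leaf 371683954900) (.leaf 15173938159150)))) (.node (.node (.node (.leaf 9860177669151) (.leaf 27795559458865)) (.node (.leaf 8820493464301) (.leaf 22839240838956))) (.node (.node (.leaf 28203634164768) (.leaf 24496713929063)) (.node (.leaf 16503011457348) (.leaf 3518271327959))))) (.node (.node (.node (.node (.leaf 7593663867929) (.leaf 24279515827035)) (.node (.leaf 23547348171111) (.leaf 14761565440215))) (.node (.node (.leaf 27627731193567) (.leaf 20935461871455)) (.node (.leaf 6116914005075) (.leaf 23624021565979)))) (.node (.node (.node (.leaf 7984164026604) (.leaf 17206454780489)) (.node (.leaf 26647631395382) (.leaf 15333049081573))) (.node (.node (.leaf 15964631818067) (.leaf 5030151868154)) (.node (.leaf 18880727429994) (.leaf 24171851550346)))))) (.node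 (.node (.node (.node (.node (.leaf 24927782047337) (.leaf 3756125763664)) (.node (.leaf 7062578651986) (.leaf 25669611753593))) (.node (.node (.leaf 6541057039905) (.leaf 8157897876272)) (.node (.leaf 27060935189333) (.leaf 11525207632115)))) (.node (.node (.node (.leaf 13968726707567) (.leaf 1147210078096)) (.node (.leaf 20510501388458) (.leaf 15207100158839))) (.node (.node (.leaf 21192214917710) (.leaf 23854353370465)) (.node (.leaf 20172089944133) (.leaf 18385303167867))))) (.node (.node (.node (.node (.leaf 22433159859997) (.leaf 7229137424572)) (.node (.leaf 27525046002400) (.leaf 19612501905982))) (.node (.node (.leaf 27188394637517) (.leaf 5589303854167)) (.node (.leaf 17205455120276) (.leaf 22153238447303)))) (.node (.node (.node (.leaf 21748684361861) (.leaf 21947658886819)) (.node (.leaf 2227125281690) (.leaf 19705353408537))) (.node (.node (.leaf 6099618660581) (.leaf 10498244611783)) (.node (.leaf 7791388170050) (.leaf 19396982640432))))))) (.node (.node (.node (.node (.node (.node (.leaf 6098881648227)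 (.leaf 9075764054427)) (.node (.leaf 7251179685918) (.leaf 8350669070913))) (.node (.node (.leaf 4106686668477) (.leaf 8070792636225)) (.node (.leaf 1452164030339) (.leaf 3560216901679)))) (.node (.node (.node (.leaf 4164943169900) (.leaf 14484264051491)) (.node (.leaf 16226486483572) (.leaf 1875433853569))) (.node (.node (.leaf 7184235968255) (.leaf 10203830944336)) (.node (.leaf 16173409427992) (.leaf 34580893205))))) (.node (.node (.node (.node (.leaf 2305497686633) (.leaf 23658210342450)) (.node (.leaf 17005797067818) (.leaf 16022061617199))) (.node (.node (.leaf 5392212863155) (.leaf 5545249661588)) (.node (.leaf 12146915243384) (.leaf 11157013178583)))) (.node (.node (.node (.leaf 26151166775850) (.leaf 1495379047502)) (.node (.leaf 14828806960237) (.leaf 2293850909931))) (.node (.node (.leaf 19884833583880) (.leaf 3799638871799)) (.node (.leaf 20559831015089) (.leaf 17533891416361)))))) (.node (.node (.node (.node (.node (.leaf 25000802140509) (.leaf 14604124052309)) (.node (.leaf 21944206964278) (.leaf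 21679977359757))) (.node (.node (.leaf 4903392520572) (.leaf 20343463241550)) (.node (.leaf 247925655834) (.leaf 7729929195883)))) (.node (.node (.node (.leaf 2919163662350) (.leaf 3409144525345)) (.node (.leaf 28209505200290) (.leaf 16112867161631))) (.node (.node (.leaf 17135857991767) (.leaf 19610659295744)) (.node (.leaf 2801022419095) (.leaf 15097312259209))))) (.node (.node (.node (.node (.leaf 11597298293472) (.leaf 23002042179140)) (.node (.leaf 21188575645571) (.leaf 25066246914386))) (.node (.node (.leaf 16989058582587) (.leaf 18029008773788)) (.node (.leaf 24582590730366) (.leaf 18036666548306)))) (.node (.node (.node (.leaf 7591285899385) (.leaf 22997000381064)) (.node (.leaf 27669998116541) (.leaf 2292052845245))) (.node (.node (.leaf 27655932890840) (.leaf 7991498641291)) (.node (.leaf 15076994002306) (.leaf 27039320674578))))))))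

def twoElt18 : Janko.Tree (ℕ) :=
  (.node (.node (.node (.node (.node (.node (.node (.leaf 20961144754050) (.leaf 12113315007192)) (.node (.leaf 3300207133800) (.leaf 8669064092173))) (.node (.node (.leaf 12591063447112) (.leaf 24172104945484)) (.node (.leaf 137976621437) (.leaf 12328254935717)))) (.node (.node (.node (.leaf 27798276030489) (.leaf 10498617662253)) (.node (.leaf 16322090059892) (.leaf 14575659279948))) (.node (.node (.leaf 19568731703479) (.leaf 15414716959625)) (.node (.leaf 4508585664177) (.leaf 21276201848393))))) (.node (.node (.node (.node (.leaf 3411502348471) (.leaf 13452664520806)) (.node (.leaf 15278716257401) (.leaf 15283799036504))) (.node (.node (.leaf 20190288062747) (.leaf 23231980522574)) (.node (.leaf 3436581694599) (.leaf 26531052293736)))) (.node (.node (.node (.leaf 14944235600156) (.leaf 24064516256817)) (.node (.leaf 356229726411) (.leaf 10196553602858))) (.node (.node (.leaf 19246165341982) (.leaf 28082277099790)) (.node (.leaf 23847360998812) (.leaf 24682713663844))))))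 (.node (.node (.node (.node (.node (.leaf 17421689182937) (.leaf 19409566328330)) (.node (.leaf 9108151426901) (.leaf 2866542731854))) (.node (.node (.leaf 3257928420889) (.leaf 9191977519368)) (.node (.leaf 15832111321446) (.leaf 1152667779143)))) (.node (.node (.node (.leaf 14739336744779) (.leaf 13891670554760)) (.node (.leaf 22434696298785) (.leaf 1618341037070))) (.node (.node (.leaf 1600630064348) (.leaf 11438076093968)) (.node (.leaf 10816350425887) (.leaf 2867255476389))))) (.node (.node (.node (.node (.leaf 12929617442392) (.leaf 9144420682854)) (.node (.leaf 28541568312936) (.leaf 11683174944314))) (.node (.node (.leaf 18778419047549) (.leaf 4981141425806)) (.node (.leaf 1630583758345) (.leaf 17762915267229)))) (.node (.node (.node (.leaf 8659494429534) (.leaf 5735812565200)) (.node (.leaf 19542993735703) (.leaf 18584922522750))) (.node (.node (.leaf 23794994157084) (.leaf 13231954368136)) (.node (.leaf 22229295603424) (.leaf 25332958265563))))))) (.node (.node (.node (.node (.node (.node (.leaf 23785618317019)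 (.leaf 8641263698497)) (.node (.leaf 23328023554224) (.leaf 2231931001619))) (.node (.node (.leaf 8893436996982) (.leaf 9115744471045)) (.node (.leaf 21956018661734) (.leaf 7802712930325)))) (.node (.node (.node (.leaf 8534867664443) (.leaf 14004229003865)) (.node (.leaf 28543520905055) (.leaf 1559546388229))) (.node (.node (.leaf 20560695890803) (.leaf 4493419844437)) (.node (.leaf 15987103107396) (.leaf 11690921065279))))) (.node (.node (.node (.node (.leaf 1733363080921) (.leaf 18369712121531)) (.node (.leaf 52366767267) (.leaf 15379908966424))) (.node (.node (.leaf 3072723182416) (.leaf 734731018033)) (.node (.leaf 3213518522465) (.leaf 895066319115)))) (.node (.node (.node (.leaf 13290956055441) (.leaf 15442174290171)) (.node (.leaf 17112045545730) (.leaf 13978167299804))) (.node (.node (.leaf 14759431405651) (.leaf 21287543322341)) (.node (.leaf 18179218300627) (.leaf 8960137271097)))))) (.node (.node (.node (.node (.node (.leaf 6089063436698) (.leaf 13936851335450)) (.node (.leaf 16184687500871) (.leaf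 22852104039721))) (.node (.node (.leaf 9881035043975) (.leaf 25021054455585)) (.node (.leaf 13039333049377) (.leaf 19539123145433)))) (.node (.node (.node (.leaf 17221783916200) (.leaf 16362359623458)) (.node (.leaf 6415830483853) (.leaf 4728368564829))) (.node (.node (.leaf 22722661481361) (.leaf 6059750752311)) (.node (.leaf 9852939086896) (.leaf 12354279463570))))) (.node (.node (.node (.node (.leaf 15831025147527) (.leaf 10352694780622)) (.node (.leaf 4501340055042) (.leaf 20942368411204))) (.node (.node (.leaf 3409040014020) (.leaf 21738376859935)) (.node (.leaf 11224031070782) (.leaf 376891183394)))) (.node (.node (.node (.leaf 3404970517151) (.leaf 9359430857628)) (.node (.leaf 20156434442599) (.leaf 26233461048587))) (.node (.node (.leaf 22128270862417) (.leaf 19773782529701)) (.node (.leaf 24928742672473) (.leaf 14137178344599))))))))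

def twoElt19 : Janko.Tree (ℕ) :=
  (.node (.node (.node (.node (.node (.node (.node (.leaf 6187220340426) (.leaf 27056761070304)) (.node (.leaf 25244481217403) (.leaf 6262106531947))) (.node (.node (.leaf 4357420421149) (.leaf 6741727514231)) (.node (.leaf 14793423822707) (.leaf 6721402386019)))) (.node (.node (.node (.leaf 6535474734937) (.leaf 20913444256413)) (.node (.leaf 12853049233643) (.leaf 26203747673762))) (.node (.node (.leaf 4902091489881) (.leaf 27659743170378)) (.node (.leaf 16291760449623) (.leaf 10941776622718))))) (.node (.node (.node (.node (.leaf 22977231750454) (.leaf 7944482972379)) (.node (.leaf 15257361220831) (.leaf 14180995921028))) (.node (.node (.leaf 28293665169028) (.leaf 2092672316541)) (.node (.leaf 4998610964368) (.leaf 7789836151170)))) (.node (.node (.node (.leaf 9793764450905) (.leaf 17164073183292)) (.node (.leaf 27054428597299) (.leaf 24721126215266))) (.node (.node (.leaf 7929349116772) (.leaf 6082925579621)) (.node (.leaf 238640510839) (.leaf 13433257714474)))))) (.node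 (.node (.node (.node (.node (.leaf 3335112298887) (.leaf 19933409738978)) (.node (.leaf 6303143082342) (.leaf 2020309991964))) (.node (.node (.leaf 10065227196731) (.leaf 28020448793110)) (.node (.leaf 2229630494907) (.leaf 591576070696)))) (.node (.node (.node (.leaf 25687818152203) (.leaf 26890982788923)) (.node (.leaf 18517698166950) (.leaf 4717152913545))) (.node (.node (.leaf 2923403874684) (.leaf 23729866104476)) (.node (.leaf 15202404941915) (.leaf 8595176874672))))) (.node (.node (.node (.node (.leaf 8200328075850) (.leaf 24307938222948)) (.node (.leaf 5068082024245) (.leaf 18329319891815))) (.node (.node (.leaf 3752740553977) (.leaf 26229691288190)) (.node (.leaf 14295336692987) (.leaf 14913806798569)))) (.node (.node (.node (.leaf 6302517438597) (.leaf 9329503010914)) (.node (.leaf 4910106704792) (.leaf 4900768714316))) (.node (.node (.leaf 6131388154256) (.leaf 18898413609649)) (.node (.leaf 5749009453165) (.leaf 11913230449478))))))) (.node (.node (.node (.node (.node (.node (.leaf 11451694423821)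 (.leaf 26556764888813)) (.node (.leaf 3230711769104) (.leaf 7699070914957))) (.node (.node (.leaf 24928886634734) (.leaf 26530429174147)) (.node (.leaf 3323019301063) (.leaf 2034821893778)))) (.node (.node (.node (.leaf 18373014716952) (.leaf 18330164596884)) (.node (.leaf 10407750306509) (.leaf 17537111528016))) (.node (.node (.leaf 5553051028765) (.leaf 1130568971474)) (.node (.leaf 24912034924673) (.leaf 10819603095088))))) (.node (.node (.node (.node (.leaf 21672781162887) (.leaf 8660348919586)) (.node (.leaf 24695802040113) (.leaf 17279254096163))) (.node (.node (.leaf 17554126678134) (.leaf 8160247942819)) (.node (.leaf 586968806241) (.leaf 2094948509785)))) (.node (.node (.node (.leaf 24095987761277) (.leaf 23991757481984)) (.node (.leaf 22678019507062) (.leaf 25656738319923))) (.node (.node (.leaf 15553385888315) (.leaf 2281402994881)) (.node (.leaf 24701368354896) (.leaf 20806796987411)))))) (.node (.node (.node (.node (.node (.leaf 9104272133634) (.leaf 13768817119019)) (.node (.leaf 6560495253142)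 (.leaf 28354322043227))) (.node (.node (.leaf 23331506654096) (.leaf 18304979998371)) (.node (.leaf 25742888236306) (.leaf 9862511200668)))) (.node (.node (.node (.leaf 11254431649943) (.leaf 5039221208407)) (.node (.leaf 18291834046817) (.leaf 7527738247491))) (.node (.node (.leaf 20049720393755) (.leaf 12208121741499)) (.node (.leaf 8843639994219) (.leaf 709965767311))))) (.node (.node (.node (.node (.leaf 11497688709170) (.leaf 27677500743415)) (.node (.leaf 24516538686012) (.leaf 5578675077452))) (.node (.node (.leaf 20703229938465) (.leaf 9496871395116)) (.node (.leaf 4308298574964) (.leaf 20602769788028)))) (.node (.node (.node (.leaf 23004736798798) (.leaf 26636374323875)) (.node (.leaf 28295324426782) (.leaf 8008702453979))) (.node (.node (.leaf 2766838697585) (.leaf 14890995988779)) (.node (.leaf 25798434040842) (.leaf 11135047110680))))))))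

def twoElt20 : Janko.Tree (ℕ) :=
  (.node (.node (.node (.node (.node (.node (.node (.leaf 7614654478924) (.leaf 22181784445683)) (.node (.leaf 18393332472552) (.leaf 4128426253989))) (.node (.node (.leaf 20778052647482) (.leaf 10378300772019)) (.node (.leaf 23107757313580) (.leaf 27648181030526)))) (.node (.node (.node (.leaf 10035528242899) (.leaf 1113098161830)) (.node (.leaf 13932963488651) (.leaf 25550459152596))) (.node (.node (.leaf 9874493251220) (.leaf 24007980224230)) (.node (.leaf 19984244121429) (.leaf 3055804877014))))) (.node (.node (.node (.node (.leaf 27032276969848) (.leaf 7577900278449)) (.node (.leaf 28319570628330) (.leaf 8702908210830))) (.node (.node (.leaf 23624286865481) (.leaf 10951153251544)) (.node (.leaf 16049449865106) (.leaf 25853903889147)))) (.node (.node (.node (.leaf 969221082647) (.leaf 15054903086730)) (.node (.leaf 22687798081381) (.leaf 5980261919978))) (.node (.node (.leaf 15377646565226) (.leaf 1700911223510)) (.node (.leaf 14830220910294) (.leaf 17139764074100)))))) (.node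 (.node (.node (.node (.node (.leaf 27763517162072) (.leaf 18536903085641)) (.node (.leaf 21269900298406) (.leaf 15582818049849))) (.node (.node (.leaf 13788634438548) (.leaf 5803463834422)) (.node (.leaf 3185857433867) (.leaf 9303785672754)))) (.node (.node (.node (.leaf 7701299061530) (.leaf 7321642693706)) (.node (.leaf 5549920239749) (.leaf 3185953607292))) (.node (.node (.leaf 6743583509639) (.leaf 18949168565855)) (.node (.leaf 27307678575728) (.leaf 14345030375062))))) (.node (.node (.node (.node (.leaf 23005489652304) (.leaf 3215254217321)) (.node (.leaf 9071571511496) (.leaf 16226882706090))) (.node (.node (.leaf 11380490073129) (.leaf 24087462435536)) (.node (.leaf 6763160044903) (.leaf 2916881010512)))) (.node (.node (.node (.leaf 26144048156510) (.leaf 27060279838825)) (.node (.leaf 9851234345810) (.leaf 23876714271052))) (.node (.node (.leaf 23274892242213) (.leaf 15238308309128)) (.node (.leaf 9287514886248) (.leaf 4750658062386))))))) (.node (.node (.node (.node (.node (.node (.leaf 23720852371670)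 (.leaf 1625779505746)) (.node (.leaf 17023667948590) (.leaf 12613400028828))) (.node (.node (.leaf 17973059552558) (.leaf 27496471767091)) (.node (.leaf 21542131896546) (.leaf 21545772854354)))) (.node (.node (.node (.leaf 25663443166020) (.leaf 5590599938667)) (.node (.leaf 19759087168907) (.leaf 20350033856675))) (.node (.node (.leaf 1136854398192) (.leaf 9507601211231)) (.node (.leaf 3313848713477) (.leaf 6423016977948))))) (.node (.node (.node (.node (.leaf 6816819928664) (.leaf 2854896032314)) (.node (.leaf 23511070754983) (.leaf 5725330607705))) (.node (.node (.leaf 14318117753182) (.leaf 6003083857145)) (.node (.leaf 7183342964994) (.leaf 16703606657046)))) (.node (.node (.node (.leaf 392677065938) (.leaf 2225169576710)) (.node (.leaf 990159658747) (.leaf 16273370676065))) (.node (.node (.leaf 25871086680875) (.leaf 5415746308629)) (.node (.leaf 23526397978797) (.leaf 4167921961159)))))) (.node (.node (.node (.node (.node (.leaf 16236494622813) (.leaf 2070659750614)) (.node (.leaf 24877351506173) (.leaf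 14160945825968))) (.node (.node (.leaf 17006703055250) (.leaf 8110520559325)) (.node (.leaf 20771944942918) (.leaf 23595552448210)))) (.node (.node (.node (.leaf 25852169948855) (.leaf 12608147109660)) (.node (.leaf 1903179936592) (.leaf 15210020528904))) (.node (.node (.leaf 24172840722224) (.leaf 20049613439159)) (.node (.leaf 20066719012464) (.leaf 17577617515304))))) (.node (.node (.node (.node (.leaf 2939667527869) (.leaf 10611431779355)) (.node (.leaf 7820943210834) (.leaf 6416462407465))) (.node (.node (.leaf 4091024861260) (.leaf 13729322579658)) (.node (.leaf 15303253532374) (.leaf 26092280368539)))) (.node (.node (.node (.leaf 5247009827012) (.leaf 24952336944752)) (.node (.leaf 23598166807190) (.leaf 16059186695397))) (.node (.node (.leaf 19561026851139) (.leaf 18032616727112)) (.node (.leaf 7057136981825) (.leaf 12313501535095))))))))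

def twoElt21 : Janko.Tree (ℕ) :=
  (.node (.node (.node (.node (.node (.node (.node (.leaf 25336379228476) (.leaf 9371448435287)) (.node (.leaf 19608088809637) (.leaf 26136174680862))) (.node (.node (.leaf 14300780597093) (.leaf 17962366537323)) (.node (.leaf 5817155627044) (.leaf 12903528006352)))) (.node (.node (.node (.leaf 21974467104391) (.leaf 600547167877)) (.node (.leaf 8058881347754) (.leaf 2511285803693))) (.node (.node (.leaf 23349058506790) (.leaf 10085402975856)) (.node (.leaf 18785208809741) (.leaf 17386665830030))))) (.node (.node (.node (.node (.leaf 17299352751713) (.leaf 7319834631816)) (.node (.leaf 4972509047186) (.leaf 1633532399378))) (.node (.node (.leaf 11504781364827) (.leaf 10352088664159)) (.node (.leaf 9079613178072) (.leaf 24305689104384)))) (.node (.node (.node (.leaf 11577862151064) (.leaf 23309525602196)) (.node (.leaf 17268678104590) (.leaf 20431167465727))) (.node (.node (.leaf 18774050934833) (.leaf 27507819807304)) (.node (.leaf 11460684887790) (.leaf 19534327262273))))))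 (.node (.node (.node (.node (.node (.leaf 3243436749603) (.leaf 24632665209435)) (.node (.leaf 4344646631557) (.leaf 23480867309641))) (.node (.node (.leaf 2075210057115) (.leaf 17273029560956)) (.node (.leaf 732512817210) (.leaf 11911527662316)))) (.node (.node (.node (.leaf 10746894388807) (.leaf 17754420848922)) (.node (.leaf 19401660055555) (.leaf 5139389393063))) (.node (.node (.leaf 8986769836283) (.leaf 15223585148562)) (.node (.leaf 21715930879607) (.leaf 5256021748948))))) (.node (.node (.node (.node (.leaf 10634414952340) (.leaf 20807412775716)) (.node (.leaf 15549303463699) (.leaf 14875922708656))) (.node (.node (.leaf 8210936696930) (.leaf 25710153718377)) (.node (.leaf 26870929458434) (.leaf 4269657181439)))) (.node (.node (.node (.leaf 20502714650152) (.leaf 22140109619591)) (.node (.leaf 23333165280329) (.leaf 4096354714719))) (.node (.node (.leaf 4172183186589) (.leaf 2859482419336)) (.node (.leaf 12859221885339) (.leaf 6011134049073))))))) (.node (.node (.node (.node (.node (.node (.leaf 24975831762264)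 (.leaf 4695890218817)) (.node (.leaf 1443735273992) (.leaf 21355426920576))) (.node (.node (.leaf 27171581602050) (.leaf 14581222438141)) (.node (.leaf 18854668492311) (.leaf 5116264226423)))) (.node (.node (.node (.leaf 8695228216048) (.leaf 22077621308069)) (.node (.leaf 28268176476336) (.leaf 720577138518))) (.node (.node (.leaf 10843134528173) (.leaf 27662425862889)) (.node (.leaf 27800059951475) (.leaf 15394052378300))))) (.node (.node (.node (.node (.leaf 26067722725155) (.leaf 6281539444391)) (.node (.leaf 7749505749602) (.leaf 10928007506328))) (.node (.node (.leaf 7998041132837) (.leaf 13239444482267)) (.node (.leaf 23684786059844) (.leaf 24309316980328)))) (.node (.node (.node (.leaf 26625144728944) (.leaf 1319331057347)) (.node (.leaf 21562628159735) (.leaf 18304116275003))) (.node (.node (.leaf 8639869477572) (.leaf 3043750776927)) (.node (.leaf 7740846088087) (.leaf 8711629804076)))))) (.node (.node (.node (.node (.node (.leaf 182221187240) (.leaf 20099472757080)) (.node (.leaf 17436014705364) (.leaf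 19409994620476))) (.node (.node (.leaf 1445581688613) (.leaf 24107300968976)) (.node (.leaf 5816625548379) (.leaf 13042086742570)))) (.node (.node (.node (.leaf 3831954570064) (.leaf 16162657506021)) (.node (.leaf 16132708583603) (.leaf 11710364999176))) (.node (.node (.leaf 627073525798) (.leaf 6168465539214)) (.node (.leaf 13971597074076) (.leaf 6140435638562))))) (.node (.node (.node (.node (.leaf 3788594602584) (.leaf 13022504627403)) (.node (.leaf 3488241513787) (.leaf 4685580372483))) (.node (.node (.leaf 17960558039043) (.leaf 21560842707545)) (.node (.leaf 12883044251854) (.leaf 11364254508711)))) (.node (.node (.node (.leaf 9172227893328) (.leaf 20983831744119)) (.node (.leaf 11528429797751) (.leaf 25657936056188))) (.node (.node (.leaf 12325111631517) (.leaf 13438019709093)) (.node (.leaf 5052153241412) (.leaf 6098062617870))))))))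

def twoElt22 : Janko.Tree (ℕ) :=
  (.node (.node (.node (.node (.node (.node (.node (.leaf 24514882594456) (.leaf 28364697607981)) (.node (.leaf 6147059912907) (.leaf 20487440318570))) (.node (.node (.leaf 6737000795679) (.leaf 2212632277861)) (.node (.leaf 9370728215050) (.leaf 4008511922996)))) (.node (.node (.node (.leaf 3307157487666) (.leaf 22286800457793)) (.node (.leaf 15437873188891) (.leaf 21725744543242))) (.node (.node (.leaf 1493929971290) (.leaf 18876742317800)) (.node (.leaf 25051626505574) (.leaf 14618220724498))))) (.node (.node (.node (.node (.leaf 15858983151969) (.leaf 6564937295971)) (.node (.leaf 6854536866159) (.leaf 4705408595635))) (.node (.node (.leaf 1957134693710) (.leaf 7010235449971)) (.node (.leaf 15561234736653) (.leaf 12338017276147)))) (.node (.node (.node (.leaf 10379148857682) (.leaf 14156828413813)) (.node (.leaf 15849735101983) (.leaf 2518098267357))) (.node (.node (.leaf 3761609302829) (.leaf 22214453794680)) (.node (.leaf 24995980567043) (.leaf 14099859798632)))))) (.node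 (.node (.node (.node (.node (.leaf 10037807145804) (.leaf 14181089545943)) (.node (.leaf 152828526862) (.leaf 24142093327901))) (.node (.node (.leaf 20070791989400) (.leaf 165520756453)) (.node (.leaf 28317125873974) (.leaf 13428415172491)))) (.node (.node (.node (.leaf 15063131361106) (.leaf 12875053533260)) (.node (.leaf 22817371219761) (.leaf 16182013370073))) (.node (.node (.leaf 2624953619191) (.leaf 5644007891644)) (.node (.leaf 26066254863877) (.leaf 15394808277158))))) (.node (.node (.node (.node (.leaf 27815922530978) (.leaf 23987892336424)) (.node (.leaf 5034512125535) (.leaf 14122060295246))) (.node (.node (.leaf 362354986246) (.leaf 12216313712324)) (.node (.leaf 4522225323317) (.leaf 6744949035092)))) (.node (.node (.node (.leaf 18586843559671) (.leaf 26561344323697)) (.node (.leaf 17002366015307) (.leaf 17991371476016))) (.node (.node (.leaf 21355343460061) (.leaf 19448507172182)) (.node (.leaf 13904020914413) (.leaf 9518944395050))))))) (.node (.node (.node (.node (.node (.node (.leaf 6142663890664)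 (.leaf 708725808956)) (.node (.leaf 23827732129343) (.leaf 21243002462058))) (.node (.node (.leaf 14845040398198) (.leaf 7608805181522)) (.node (.leaf 23871265366720) (.leaf 10469738899812)))) (.node (.node (.node (.leaf 2842023551788) (.leaf 8067602899758)) (.node (.leaf 22424036351603) (.leaf 16754370056538))) (.node (.node (.leaf 9831639322752) (.leaf 15765379482114)) (.node (.leaf 3260847070874) (.leaf 18054242191481))))) (.node (.node (.node (.node (.leaf 4376898484556) (.leaf 15974018442099)) (.node (.leaf 26639204185283) (.leaf 13975634084961))) (.node (.node (.leaf 14936501260026) (.leaf 8065108545436)) (.node (.leaf 6827948025965) (.leaf 18035130247293)))) (.node (.node (.node (.leaf 26614485429569) (.leaf 24515729034963)) (.node (.leaf 21259859682899) (.leaf 2158375396133))) (.node (.node (.leaf 25273545808417) (.leaf 17571154944658)) (.node (.leaf 26647409888896) (.leaf 26548460208327)))))) (.node (.node (.node (.node (.node (.leaf 23125324614711) (.leaf 27612005960287)) (.node (.leaf 3299114410653)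 (.leaf 2211733747742))) (.node (.node (.leaf 27767995115736) (.leaf 7915389206586)) (.node (.leaf 15854508593052) (.leaf 2156897952505)))) (.node (.node (.node (.leaf 24305560357494) (.leaf 15995290927297)) (.node (.leaf 3049720995597) (.leaf 2270260302091))) (.node (.node (.leaf 26904973692226) (.leaf 10207674275446)) (.node (.leaf 8849328256755) (.leaf 49046434499))))) (.node (.node (.node (.node (.leaf 1770936340369) (.leaf 8890389637303)) (.node (.leaf 6687360682254) (.leaf 26526321381169))) (.node (.node (.leaf 7331912430385) (.leaf 24538117497628)) (.node (.leaf 5591882040525) (.leaf 12895816956081)))) (.node (.node (.node (.leaf 21530763245909) (.leaf 10361355518282)) (.node (.leaf 1950229728797) (.leaf 17201436598022))) (.node (.node (.leaf 3030791098136) (.leaf 20660576868893)) (.node (.leaf 12974770507032) (.leaf 5793977378914))))))))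

def twoElt23 : Janko.Tree (ℕ) :=
  (.node (.node (.node (.node (.node (.node (.node (.leaf 7241139001105) (.leaf 4965866678673)) (.node (.leaf 11709737939547) (.leaf 21966298186087))) (.node (.node (.leaf 14956910776345) (.leaf 2773259291499)) (.node (.leaf 6844991267344) (.leaf 22769117564690)))) (.node (.node (.node (.leaf 1929386266264) (.leaf 12164996826387)) (.node (.leaf 24989427697705) (.leaf 18765721559876))) (.node (.node (.leaf 21966842673567) (.leaf 19568550299675)) (.node (.leaf 18286509818736) (.leaf 3214576060757))))) (.node (.node (.node (.node (.leaf 2248728557736) (.leaf 14871459369876)) (.node (.leaf 12892455768096) (.leaf 27563649551969))) (.node (.node (.leaf 9508143011547) (.leaf 7940056570694)) (.node (.leaf 6273561302665) (.leaf 17957311613107)))) (.node (.node (.node (.leaf 10353238506114) (.leaf 19430207262249)) (.node (.leaf 1314350472744) (.leaf 22087544705883))) (.node (.node (.leaf 7731125084988) (.leaf 8837992100618)) (.node (.leaf 14096537898281) (.leaf 23671667504776)))))) (.node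 (.node (.node (.node (.node (.leaf 13752941697578) (.leaf 26075695455832)) (.node (.leaf 15099502412084) (.leaf 18538740664701))) (.node (.node (.leaf 22709589849613) (.leaf 16379558366750)) (.node (.leaf 25811761836912) (.leaf 17525915422282)))) (.node (.node (.node (.leaf 12214149517342) (.leaf 5619230183220)) (.node (.leaf 21353037736348) (.leaf 18607161840366))) (.node (.node (.leaf 17780405788160) (.leaf 21653761567016)) (.node (.leaf 5132980412011) (.leaf 9515427604530))))) (.node (.node (.node (.node (.leaf 6541949099732) (.leaf 22839595018321)) (.node (.leaf 6298173090013) (.leaf 12119477617789))) (.node (.node (.leaf 3513738987558) (.leaf 9367551643425)) (.node (.leaf 25890102706903) (.leaf 5502304931011)))) (.node (.node (.node (.leaf 28540104214596) (.leaf 20623028282911)) (.node (.leaf 1492866866738) (.leaf 7061612913258))) (.node (.node (.leaf 15369193261103) (.leaf 13447949543775)) (.node (.leaf 22165041877308) (.leaf 16317188417684))))))) (.node (.node (.node (.node (.node (.node (.leaf 1616217279027)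 (.leaf 1101212428667)) (.node (.leaf 10604275188011) (.leaf 21666655143213))) (.node (.node (.leaf 13682352475970) (.leaf 23897023263553)) (.node (.leaf 14828113658049) (.leaf 22180599696974)))) (.node (.node (.node (.leaf 23743889754312) (.leaf 17745032906826)) (.node (.leaf 12920874428521) (.leaf 22832917196086))) (.node (.node (.leaf 22772825591639) (.leaf 25536681833845)) (.node (.leaf 13771355558686) (.leaf 3486815825003))))) (.node (.node (.node (.node (.leaf 22155077387377) (.leaf 28061873639062)) (.node (.leaf 11499192805384) (.leaf 4759642647857))) (.node (.node (.leaf 9784756145917) (.leaf 17760648208247)) (.node (.leaf 8616011731813) (.leaf 14724705194014)))) (.node (.node (.node (.leaf 4177307973402) (.leaf 5387528588963)) (.node (.leaf 7365381765120) (.leaf 18928531758601))) (.node (.node (.leaf 23488791744802) (.leaf 7404546789916)) (.node (.leaf 5411678130381) (.leaf 9868810159242)))))) (.node (.node (.node (.node (.node (.leaf 5808989667957) (.leaf 26922203352624)) (.node (.leaf 5730353545882)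 (.leaf 15539702374292))) (.node (.node (.leaf 6578064694797) (.leaf 8060282234736)) (.node (.leaf 24614197700959) (.leaf 20729291644828)))) (.node (.node (.node (.leaf 11484842328182) (.leaf 19264495084059)) (.node (.leaf 15770148668275) (.leaf 24156115192842))) (.node (.node (.leaf 8880168727909) (.leaf 11137303347475)) (.node (.leaf 20090980439905) (.leaf 11735785879427))))) (.node (.node (.node (.node (.leaf 12620376595235) (.leaf 15443987959438)) (.node (.leaf 13519854342732) (.leaf 8158614556778))) (.node (.node (.leaf 15853018843754) (.leaf 6715458062686)) (.node (.leaf 16133324014121) (.leaf 3369715722469)))) (.node (.node (.node (.leaf 19276001370914) (.leaf 7708961292518)) (.node (.leaf 9530805221966) (.leaf 3763791210796))) (.node (.node (.leaf 13318378528339) (.leaf 17760291479130)) (.node (.leaf 27678421175516) (.leaf 9150048634958))))))))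

def twoElt24 : Janko.Tree (ℕ) :=
  (.node (.node (.node (.node (.node (.node (.node (.leaf 23318897774312) (.leaf 26645780312831)) (.node (.leaf 18300859222588) (.leaf 10420804827165))) (.node (.node (.leaf 8709954679641) (.leaf 28227198419355)) (.node (.leaf 20002652720750) (.leaf 9465401347675)))) (.node (.node (.node (.leaf 21531968830141) (.leaf 6015913642381)) (.node (.leaf 5247427507387) (.leaf 27607265857056))) (.node (.node (.leaf 3322874880663) (.leaf 4930717876865)) (.node (.leaf 28060543291558) (.leaf 4079186451970))))) (.node (.node (.node (.node (.leaf 3188517692137) (.leaf 623797472980)) (.node (.leaf 13768333539161) (.leaf 7265549975594))) (.node (.node (.leaf 13684180863024) (.leaf 7339915770470)) (.node (.leaf 4091853834945) (.leaf 15171739584802)))) (.node (.node (.node (.leaf 12964058792245) (.leaf 28366572784479)) (.node (.leaf 24479486052519) (.leaf 1480306275142))) (.node (.node (.leaf 376560058641) (.leaf 1736722456468)) (.node (.leaf 16170744178209) (.leaf 13724240465776)))))) (.node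 (.node (.node (.node (.node (.leaf 18950821646191) (.leaf 11706809267948)) (.node (.leaf 5800491902730) (.leaf 5539355008927))) (.node (.node (.leaf 3417194003294) (.leaf 10970597727753)) (.node (.leaf 14522573556615) (.leaf 26078044393227)))) (.node (.node (.node (.leaf 4982390401200) (.leaf 13246517310555)) (.node (.leaf 4371131702900) (.leaf 7905245138534))) (.node (.node (.leaf 27196589783062) (.leaf 16065794845082)) (.node (.leaf 3816904364362) (.leaf 2028445519164))))) (.node (.node (.node (.node (.leaf 3283921483269) (.leaf 14613850118980)) (.node (.leaf 26604841039234) (.leaf 15290239063919))) (.node (.node (.leaf 20574525035216) (.leaf 14880613413586)) (.node (.leaf 6693254148740) (.leaf 2786507654374)))) (.node (.node (.node (.leaf 10411234820994) (.leaf 5225110345299)) (.node (.leaf 27804479683363) (.leaf 19416217421936))) (.node (.node (.leaf 18146734538773) (.leaf 23807542060646)) (.node (.leaf 14552229132531) (.leaf 24035514217623))))))) (.node (.node (.node (.node (.node (.node (.leaf 23242484615281)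 (.leaf 18037395808844)) (.node (.leaf 27799909248250) (.leaf 6209475015832))) (.node (.node (.leaf 13493792224992) (.leaf 173960482359)) (.node (.leaf 11416504011487) (.leaf 1959723155477)))) (.node (.node (.node (.leaf 24653806515748) (.leaf 4699590071133)) (.node (.leaf 8182853722934) (.leaf 45237571732))) (.node (.node (.leaf 25038657265285) (.leaf 4080524891898)) (.node (.leaf 15236999823379) (.leaf 8637600162603))))) (.node (.node (.node (.node (.leaf 16233108435999) (.leaf 11589099605245)) (.node (.leaf 2920805302990) (.leaf 5137515053394))) (.node (.node (.leaf 997668462320) (.leaf 25725555259094)) (.node (.leaf 26067379706601) (.leaf 3535748046468)))) (.node (.node (.node (.leaf 16323800241919) (.leaf 11569577670333)) (.node (.leaf 4008763025541) (.leaf 27291985664816))) (.node (.node (.leaf 24157864497510) (.leaf 14619328800265)) (.node (.leaf 26161103844213) (.leaf 19630286616657)))))) (.node (.node (.node (.node (.node (.leaf 22782719299144) (.leaf 5275612358715)) (.node (.leaf 49940635328) (.leaf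 5688418449006))) (.node (.node (.leaf 10057785976969) (.leaf 13912342896327)) (.node (.leaf 18378731448208) (.leaf 23269129211454)))) (.node (.node (.node (.leaf 6765179077765) (.leaf 7950349254953)) (.node (.leaf 13316090094139) (.leaf 16130066172016))) (.node (.node (.leaf 14306303112505) (.leaf 11916571782486)) (.node (.leaf 13991874174800) (.leaf 6399555435245))))) (.node (.node (.node (.node (.leaf 21324745085260) (.leaf 4928779237378)) (.node (.leaf 18582336017026) (.leaf 6258188695203))) (.node (.node (.leaf 12603102219871) (.leaf 13476226503177)) (.node (.leaf 13284501711110) (.leaf 20736108135028)))) (.node (.node (.node (.leaf 5110117706086) (.leaf 3792200968274)) (.node (.leaf 13675724892365) (.leaf 25851186683405))) (.node (.node (.leaf 1857072287612) (.leaf 25848863545966)) (.node (.leaf 15790887577980) (.leaf 3715622928412))))))))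

def twoElt25 : Janko.Tree (ℕ) :=
  (.node (.node (.node (.node (.node (.node (.node (.leaf 3262724603955) (.leaf 19947369897634)) (.node (.leaf 15984896073305) (.leaf 28276274411679))) (.node (.node (.leaf 4709492608723) (.leaf 28568585391338)) (.node (.leaf 12625386294472) (.leaf 9071845576289)))) (.node (.node (.node (.leaf 1867790196226) (.leaf 13777197076349)) (.node (.leaf 7263088625954) (.leaf 4717667017560))) (.node (.node (.leaf 1942805126943) (.leaf 9835496971798)) (.node (.leaf 24979670229637) (.leaf 26558608081178))))) (.node (.node (.node (.node (.leaf 688878790773) (.leaf 10332384911877)) (.node (.leaf 20099019611859) (.leaf 26923411602083))) (.node (.node (.leaf 13502341788337) (.leaf 1908871416857)) (.node (.leaf 8891441516425) (.leaf 4783579221723)))) (.node (.node (.node (.leaf 18566884789003) (.leaf 23274746956874)) (.node (.leaf 24476857796961) (.leaf 27582088381465))) (.node (.node (.leaf 6084694282264) (.leaf 12946658636512)) (.node (.leaf 25669704747080) (.leaf 1327300962325)))))) (.node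 (.node (.node (.node (.node (.leaf 15208675184535) (.leaf 22679088271250)) (.node (.leaf 17286305978076) (.leaf 4273314569812))) (.node (.node (.leaf 22952916738664) (.leaf 19569244524182)) (.node (.leaf 14734047727117) (.leaf 28338471210726)))) (.node (.node (.node (.leaf 5041034993168) (.leaf 16118127826844)) (.node (.leaf 5603607316617) (.leaf 2010911643492))) (.node (.node (.leaf 4275917135662) (.leaf 670912837008)) (.node (.leaf 24307668783334) (.leaf 15567196521339))))) (.node (.node (.node (.node (.leaf 10083838038701) (.leaf 25536845712934)) (.node (.leaf 181647854867) (.leaf 25058599635330))) (.node (.node (.leaf 7817617637634) (.leaf 16536910346531)) (.node (.leaf 24310244827884) (.leaf 23253320150167)))) (.node (.node (.node (.leaf 28268644100371) (.leaf 19540660342545)) (.node (.leaf 6554402774711) (.leaf 24143268575851))) (.node (.node (.leaf 3554623201054) (.leaf 21187292913499)) (.node (.leaf 24924001319248) (.leaf 19416118911834))))))) (.node (.node (.node (.node (.node (.node (.leaf 4135786514839)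 (.leaf 10722672545512)) (.node (.leaf 6565750453902) (.leaf 22973972943148))) (.node (.node (.leaf 18390064927245) (.leaf 2280111372889)) (.node (.leaf 28090503696145) (.leaf 28052915110056)))) (.node (.node (.node (.leaf 2045286185765) (.leaf 25751108616392)) (.node (.leaf 22959503807367) (.leaf 6002942489190))) (.node (.node (.leaf 11177800935774) (.leaf 13207718933226)) (.node (.leaf 1127585320779) (.leaf 16245901438163))))) (.node (.node (.node (.node (.leaf 2775419916652) (.leaf 6100218554580)) (.node (.leaf 24627115023922) (.leaf 17211992595086))) (.node (.node (.leaf 11593904967250) (.leaf 17298306670318)) (.node (.leaf 4950246428570) (.leaf 20396407165217)))) (.node (.node (.node (.leaf 19937718476659) (.leaf 938650008270)) (.node (.leaf 24678963236247) (.leaf 25044954750467))) (.node (.node (.leaf 23510700163416) (.leaf 3189708099666)) (.node (.leaf 9312753279550) (.leaf 20436312916675)))))) (.node (.node (.node (.node (.node (.leaf 16153830128201) (.leaf 11416084520577)) (.node (.leaf 668186349949)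 (.leaf 19676743012552))) (.node (.node (.leaf 21952525322525) (.leaf 5534077586973)) (.node (.leaf 250927515885) (.leaf 21344839699302)))) (.node (.node (.node (.leaf 13432426742167) (.leaf 2850049392676)) (.node (.leaf 20451443466944) (.leaf 20916759780982))) (.node (.node (.leaf 18554808735512) (.leaf 17419001158215)) (.node (.leaf 3729549008497) (.leaf 16173974160253))))) (.node (.node (.node (.node (.leaf 13490494540413) (.leaf 20571888189566)) (.node (.leaf 14209706770470) (.leaf 4174472320574))) (.node (.node (.leaf 16499840257662) (.leaf 18037812495095)) (.node (.leaf 6762631193109) (.leaf 7302954002730)))) (.node (.node (.node (.leaf 18292944867501) (.leaf 2315283233619)) (.node (.leaf 19775642565384) (.leaf 25314856439495))) (.node (.node (.leaf 20447023150727) (.leaf 20927253204836)) (.node (.leaf 1974966576775) (.leaf 9443190509114))))))))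

def twoElt26 : Janko.Tree (ℕ) :=
  (.node (.node (.node (.node (.node (.node (.node (.leaf 17015637937963) (.leaf 26118736917075)) (.node (.leaf 7930791957042) (.leaf 8631692157790))) (.node (.node (.leaf 4347383813767) (.leaf 13453518824300)) (.node (.leaf 6123192330270) (.leaf 4725279377439)))) (.node (.node (.node (.leaf 8865648365155) (.leaf 20066968736159)) (.node (.leaf 9167133291066) (.leaf 25722774785903))) (.node (.node (.leaf 21516345420187) (.leaf 27789264946003)) (.node (.leaf 21559204281040) (.leaf 6118531962439))))) (.node (.node (.node (.node (.leaf 28341070663797) (.leaf 23451418241434)) (.node (.leaf 14586592925493) (.leaf 23105052770666))) (.node (.node (.leaf 19749117400872) (.leaf 20512995960531)) (.node (.leaf 9464247852810) (.leaf 4352029141040)))) (.node (.node (.node (.leaf 1632954316056) (.leaf 4356756734616)) (.node (.leaf 5409834835771) (.leaf 3075011121051))) (.node (.node (.leaf 9099577134963) (.leaf 23583213002472)) (.node (.leaf 4274241932869) (.leaf 8970067455006)))))) (.node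 (.node (.node (.node (.node (.leaf 2824637156977) (.leaf 25862834841810)) (.node (.leaf 23733128407263) (.leaf 8645583386322))) (.node (.node (.leaf 14610466374780) (.leaf 2034629769879)) (.node (.leaf 3056153038973) (.leaf 7247647637550)))) (.node (.node (.node (.leaf 16037681991214) (.leaf 11903866587487)) (.node (.leaf 27020372479617) (.leaf 25735685115608))) (.node (.node (.leaf 15762819393585) (.leaf 25817329061031)) (.node (.leaf 13425014054478) (.leaf 5824707901325))))) (.node (.node (.node (.node (.leaf 13749160074918) (.leaf 3046433219280)) (.node (.leaf 16387368986875) (.leaf 4793268437566))) (.node (.node (.leaf 26093745181289) (.leaf 25545667939972)) (.node (.leaf 16036543205032) (.leaf 17764190820231)))) (.node (.node (.node (.leaf 8603577717510) (.leaf 23056748148)) (.node (.leaf 10046618309268) (.leaf 26906635178013))) (.node (.node (.leaf 14500432980324) (.leaf 18874383752053)) (.node (.leaf 11339625031347) (.leaf 22852267018386))))))) (.node (.node (.node (.node (.node (.node (.leaf 21303620797213)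 (.leaf 25525572086059)) (.node (.leaf 13759226656496) (.leaf 944177340930))) (.node (.node (.leaf 25644789809261) (.leaf 18606537914264)) (.node (.leaf 23752997769451) (.leaf 25316175569638)))) (.node (.node (.node (.leaf 15567867273894) (.leaf 14181821714270)) (.node (.leaf 10607511371789) (.leaf 15277435426520))) (.node (.node (.leaf 5227407296671) (.leaf 7542803308131)) (.node (.leaf 10745833597143) (.leaf 22283180256432))))) (.node (.node (.node (.node (.leaf 19566303267923) (.leaf 19737797293158)) (.node (.leaf 20548817151735) (.leaf 28022348789360))) (.node (.node (.leaf 10392016860993) (.leaf 1652297219)) (.node (.leaf 15996112200194) (.leaf 1338640211619)))) (.node (.node (.node (.leaf 1880127020835) (.leaf 15148887402853)) (.node (.leaf 8349578691422) (.leaf 1682591076093))) (.node (.node (.leaf 984808586130) (.leaf 724413637222)) (.node (.leaf 16699404488298) (.leaf 25220660781764)))))) (.node (.node (.node (.node (.node (.leaf 27175292668445) (.leaf 9162423970053)) (.node (.leaf 13009501456940) (.leaf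 13752569592350))) (.node (.node (.leaf 3316522521485) (.leaf 27787098499298)) (.node (.leaf 14779422769177) (.leaf 11180073959454)))) (.node (.node (.node (.leaf 23315952381278) (.leaf 19503211233573)) (.node (.leaf 27312744200925) (.leaf 243392918326))) (.node (.node (.leaf 5272380721318) (.leaf 22132955638058)) (.node (.leaf 26581247375724) (.leaf 2003218544479))))) (.node (.node (.node (.node (.leaf 8984349060318) (.leaf 7803072976425)) (.node (.leaf 19391246909698) (.leaf 17143256744282))) (.node (.node (.leaf 22061427363396) (.leaf 10752828014854)) (.node (.leaf 21328632844803) (.leaf 14616055330675)))) (.node (.node (.node (.leaf 24310322584471) (.leaf 21668206381924)) (.node (.leaf 18596098902781) (.leaf 27197449516956))) (.node (.node (.leaf 20547991136152) (.leaf 6137521023023)) (.node (.leaf 19662792690003) (.leaf 25267591346939))))))))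

def twoElt27 : Janko.Tree (ℕ) :=
  (.node (.node (.node (.node (.node (.node (.node (.leaf 1496348260977) (.leaf 14921135376433)) (.node (.leaf 15378641139332) (.leaf 14457209622021))) (.node (.node (.leaf 21702234245682) (.leaf 25794642784989)) (.node (.leaf 4475848379487) (.leaf 5522341076818)))) (.node (.node (.node (.leaf 1567457097435) (.leaf 9289800458025)) (.node (.leaf 18311470462601) (.leaf 28001754538666))) (.node (.node (.leaf 13442238648105) (.leaf 6563942490671)) (.node (.leaf 19243066810126) (.leaf 20906120398946))))) (.node (.node (.node (.node (.leaf 25792508353282) (.leaf 185114068100)) (.node (.leaf 24690378670682) (.leaf 8158869092912))) (.node (.node (.leaf 18578628751960) (.leaf 1924737427051)) (.node (.leaf 8916101769243) (.leaf 26574761595743)))) (.node (.node (.node (.leaf 2901580794082) (.leaf 21661985661557)) (.node (.leaf 11596235368654) (.leaf 19888521031063))) (.node (.node (.leaf 16267555279135) (.leaf 19688305667169)) (.node (.leaf 15072535406433) (.leaf 11911153744685)))))) (.node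 (.node (.node (.node (.node (.leaf 17985807469599) (.leaf 8592417515281)) (.node (.leaf 2647874768619) (.leaf 25244791110347))) (.node (.node (.leaf 16367630513381) (.leaf 12199876825310)) (.node (.leaf 8317566717662) (.leaf 23898098260839)))) (.node (.node (.node (.leaf 2025769838600) (.leaf 13288993797008)) (.node (.leaf 574289497456) (.leaf 19482205497372))) (.node (.node (.leaf 26626591703109) (.leaf 12217460080705)) (.node (.leaf 25791484563149) (.leaf 15357813535278))))) (.node (.node (.node (.node (.leaf 2086035601001) (.leaf 2501963845378)) (.node (.leaf 10927303649527) (.leaf 4907213466954))) (.node (.node (.leaf 5000100200644) (.leaf 19775967897836)) (.node (.leaf 8073527856986) (.leaf 10473437597724)))) (.node (.node (.node (.leaf 14483513033047) (.leaf 2042612043147)) (.node (.leaf 21946382772246) (.leaf 5621807467574))) (.node (.node (.leaf 24995197239642) (.leaf 11408265340624)) (.node (.leaf 25746399320947) (.leaf 724536037669))))))) (.node (.node (.node (.node (.node (.node (.leaf 9533033324149)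 (.leaf 1744592515694)) (.node (.leaf 20116073127745) (.leaf 9440073361627))) (.node (.node (.leaf 15778583318939) (.leaf 19427981451798)) (.node (.leaf 18947524180376) (.leaf 18183789518384)))) (.node (.node (.node (.leaf 28199442861182) (.leaf 18305427740200)) (.node (.leaf 20972068445979) (.leaf 12852192554204))) (.node (.node (.leaf 9167743311603) (.leaf 28259045738875)) (.node (.leaf 8808511141259) (.leaf 20657812571196))))) (.node (.node (.node (.node (.leaf 9383164867869) (.leaf 27518834741372)) (.node (.leaf 6805722848897) (.leaf 24080469037724))) (.node (.node (.leaf 11527696060201) (.leaf 22103163844908)) (.node (.leaf 11390328409693) (.leaf 8061662360692)))) (.node (.node (.node (.leaf 27535303948377) (.leaf 22289994515729)) (.node (.leaf 16150700386054) (.leaf 26649925941872))) (.node (.node (.leaf 22729859955388) (.leaf 3747359582351)) (.node (.leaf 11907185134650) (.leaf 15293116412942)))))) (.node (.node (.node (.node (.node (.leaf 20984158388528) (.leaf 258561886469)) (.node (.leaf 27058307072668)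 (.leaf 16399426818224))) (.node (.node (.leaf 1934519530550) (.leaf 20786166668862)) (.node (.leaf 7402977861271) (.leaf 12188137717870)))) (.node (.node (.node (.leaf 18516151783129) (.leaf 14342651587750)) (.node (.leaf 12874897089186) (.leaf 20699905083499))) (.node (.node (.leaf 17204573535099) (.leaf 224214201129)) (.node (.leaf 10840301147827) (.leaf 19266315039331))))) (.node (.node (.node (.node (.leaf 19913401567481) (.leaf 3443145576294)) (.node (.leaf 5551663497575) (.leaf 4039187792020))) (.node (.node (.leaf 10334513074450) (.leaf 19771587243324)) (.node (.leaf 7011055446100) (.leaf 21524528056334)))) (.node (.node (.node (.leaf 3458964423808) (.leaf 6213353374741)) (.node (.leaf 19466353238536) (.leaf 12120673587996))) (.node (.node (.leaf 15054289001306) (.leaf 3489474566677)) (.node (.leaf 8229836980580) (.leaf 20927987408682))))))))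

def twoElt28 : Janko.Tree (ℕ) :=
  (.node (.node (.node (.node (.node (.node (.node (.leaf 9520696620095) (.leaf 25865934078787)) (.node (.leaf 18782124708066) (.leaf 25257396689670))) (.node (.node (.leaf 5600829975704) (.leaf 13693214351260)) (.node (.leaf 1126982756399) (.leaf 708873981704)))) (.node (.node (.node (.leaf 17253324577549) (.leaf 25244965876537)) (.node (.leaf 24258837418335) (.leaf 16525991285016))) (.node (.node (.leaf 14459141820792) (.leaf 10048429220373)) (.node (.leaf 5113866982196) (.leaf 16382650778841))))) (.node (.node (.node (.node (.leaf 14547556533316) (.leaf 4131817147658)) (.node (.leaf 7021771923278) (.leaf 27993591854945))) (.node (.node (.leaf 19484876768330) (.leaf 10056004797211)) (.node (.leaf 16544904658993) (.leaf 18179307780383)))) (.node (.node (.node (.leaf 6760558572234) (.leaf 5592958710594)) (.node (.leaf 27159554242088) (.leaf 7997032507454))) (.node (.node (.leaf 169959663643) (.leaf 8202521445681)) (.node (.leaf 12197851862574) (.leaf 27334563227451)))))) (.node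 (.node (.node (.node (.node (.leaf 19471971658092) (.leaf 25250707627742)) (.node (.leaf 18166448039990) (.leaf 25326543889162))) (.node (.node (.leaf 23901236251764) (.leaf 5728492752993)) (.node (.leaf 17578930376953) (.leaf 16494306090734)))) (.node (.node (.node (.leaf 11452209001554) (.leaf 23504581859099)) (.node (.leaf 19498365194988) (.leaf 10332835418008))) (.node (.node (.leaf 189877862459) (.leaf 6029386657005)) (.node (.leaf 23848123535206) (.leaf 18142781918730))))) (.node (.node (.node (.node (.leaf 20118997930629) (.leaf 24585156026889)) (.node (.leaf 15262850585265) (.leaf 2066896480433))) (.node (.node (.leaf 11347359318305) (.leaf 23503723047258)) (.node (.leaf 17777166797937) (.leaf 13420385275641)))) (.node (.node (.node (.leaf 25243067016054) (.leaf 15581875536560)) (.node (.leaf 3329605668927) (.leaf 18923918024528))) (.node (.node (.leaf 10172139726482) (.leaf 4958144858723)) (.node (.leaf 912016925338) (.leaf 10976356769356))))))) (.node (.node (.node (.node (.node (.node (.leaf 8572502108400)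 (.leaf 26190772477709)) (.node (.leaf 22727095590550) (.leaf 27314544466516))) (.node (.node (.leaf 7990148239597) (.leaf 22428099908117)) (.node (.leaf 15211807553899) (.leaf 19499171549957)))) (.node (.node (.node (.leaf 23469857066628) (.leaf 2155065544772)) (.node (.leaf 7903333329194) (.leaf 2230058121998))) (.node (.node (.leaf 10412314757981) (.leaf 10471448251967)) (.node (.leaf 21717043732080) (.leaf 11511743404743))))) (.node (.node (.node (.node (.leaf 4997498948848) (.leaf 22211730186012)) (.node (.leaf 15105068915222) (.leaf 9311625767276))) (.node (.node (.leaf 2891492233080) (.leaf 4066822889251)) (.node (.leaf 3794974663507) (.leaf 4491614127330)))) (.node (.node (.node (.leaf 20505798935700) (.leaf 10743225667417)) (.node (.leaf 15975494625623) (.leaf 22320704536788))) (.node (.node (.leaf 7596915121853) (.leaf 26577077276452)) (.node (.leaf 1323674380647) (.leaf 9095460817102)))))) (.node (.node (.node (.node (.node (.leaf 7950418871560) (.leaf 20997227254378)) (.node (.leaf 22686510211608)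 (.leaf 19528970832430))) (.node (.node (.leaf 21551170543234) (.leaf 19412190137940)) (.node (.leaf 23433883953217) (.leaf 26132088752379)))) (.node (.node (.node (.leaf 2299846633848) (.leaf 7706937821777)) (.node (.leaf 1608695041585) (.leaf 8826726591551))) (.node (.node (.leaf 28196690028885) (.leaf 13003364583826)) (.node (.leaf 15228778744356) (.leaf 5118617866011))))) (.node (.node (.node (.node (.leaf 27568928027871) (.leaf 10478297832027)) (.node (.leaf 23248826165062) (.leaf 7376001598566))) (.node (.node (.leaf 14617542428024) (.leaf 11570988355196)) (.node (.leaf 6694431362811) (.leaf 2005533895047)))) (.node (.node (.node (.leaf 3208707393879) (.leaf 6030838286398)) (.node (.leaf 25344245783337) (.leaf 21279555631292))) (.node (.node (.leaf 16020662013070) (.leaf 17524369318468)) (.node (.leaf 4889521862672) (.leaf 15172442382921))))))))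

def twoElt29 : Janko.Tree (ℕ) :=
  (.node (.node (.node (.node (.node (.node (.node (.leaf 13703869567278) (.leaf 7513404499818)) (.node (.leaf 3737483141723) (.leaf 25302356136323))) (.node (.node (.leaf 27019436230845) (.leaf 8315963179790)) (.node (.leaf 9535502251154) (.leaf 10738908941462)))) (.node (.node (.node (.leaf 5726497792726) (.leaf 28002139131499)) (.node (.leaf 3485949131431) (.leaf 7538003779155))) (.node (.node (.leaf 21216919630410) (.leaf 21934146762922)) (.node (.leaf 18281048402048) (.leaf 22800277848373))))) (.node (.node (.node (.node (.leaf 14741571193206) (.leaf 24646353856909)) (.node (.leaf 24900757184291) (.leaf 24089633592144))) (.node (.node (.leaf 25317368860752) (.leaf 3320033228918)) (.node (.leaf 28272346424876) (.leaf 27297011614054)))) (.node (.node (.node (.leaf 2643418232450) (.leaf 11251278257755)) (.node (.leaf 4272962828935) (.leaf 17988065036404))) (.node (.node (.leaf 23145394883984) (.leaf 16520137859790)) (.node (.leaf 24585258564184) (.leaf 13014059396120))))))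 (.node (.node (.node (.node (.node (.leaf 14347753583699) (.leaf 25299144694521)) (.node (.leaf 8144503200325) (.leaf 14338972881111))) (.node (.node (.leaf 25819792952499) (.leaf 5725206743324)) (.node (.leaf 24926448167135) (.leaf 5507942320462)))) (.node (.node (.node (.leaf 5106856714049) (.leaf 14843973993362)) (.node (.leaf 11383994080093) (.leaf 8093608467082))) (.node (.node (.leaf 366325678104) (.leaf 9301497309212)) (.node (.leaf 251459947719) (.leaf 22867234561818))))) (.node (.node (.node (.node (.leaf 22699037167394) (.leaf 2138896196471)) (.node (.leaf 14089958284936) (.leaf 6031499330184))) (.node (.node (.leaf 15097178505408) (.leaf 15834175705437)) (.node (.leaf 4673553049904) (.leaf 27325793455256)))) (.node (.node (.node (.leaf 16040227442903) (.leaf 7741870607146)) (.node (.leaf 1960708149038) (.leaf 1649889928776))) (.node (.node (.leaf 3258439472914) (.leaf 16053433700731)) (.node (.leaf 9353044594368) (.leaf 17257209306754))))))) (.node (.node (.node (.node (.node (.node (.leaf 7936048893508)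 (.leaf 8557813918041)) (.node (.leaf 3388783114452) (.leaf 9141359828843))) (.node (.node (.leaf 18942652229885) (.leaf 6276449659050)) (.node (.leaf 5687975503673) (.leaf 2754056120581)))) (.node (.node (.node (.leaf 14476417083517) (.leaf 16746517443458)) (.node (.leaf 7610465783587) (.leaf 1330154736436))) (.node (.node (.leaf 6767404552496) (.leaf 13020151827769)) (.node (.leaf 10477841856677) (.leaf 26206579362684))))) (.node (.node (.node (.node (.leaf 4018222039213) (.leaf 8846094018703)) (.node (.leaf 19659066793880) (.leaf 23581182265403))) (.node (.node (.leaf 24621643148362) (.leaf 1353386125644)) (.node (.leaf 8066220592989) (.leaf 27306132131099)))) (.node (.node (.node (.leaf 22219147872793) (.leaf 8528436815459)) (.node (.leaf 19243898855286) (.leaf 16527228854789))) (.node (.node (.leaf 3382567843732) (.leaf 23616063053358)) (.node (.leaf 1625266418809) (.leaf 7796000385111)))))) (.node (.node (.node (.node (.node (.leaf 6232307810326) (.leaf 7299627054310)) (.node (.leaf 15857795851039) (.leaf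 5375427207818))) (.node (.node (.leaf 17027801451321) (.leaf 22868073270502)) (.node (.leaf 9426941395090) (.leaf 738525194615)))) (.node (.node (.node (.leaf 5517625419676) (.leaf 8362734203434)) (.node (.leaf 23264940943149) (.leaf 8846840376422))) (.node (.node (.leaf 16125610855082) (.leaf 25721082843802)) (.node (.leaf 22764892850445) (.leaf 5274294064985))))) (.node (.node (.node (.node (.leaf 14964350339307) (.leaf 21285096548050)) (.node (.leaf 7796377296551) (.leaf 12184931156378))) (.node (.node (.leaf 10804358629788) (.leaf 23790593642326)) (.node (.leaf 925851876017) (.leaf 7539504026222)))) (.node (.node (.node (.leaf 15325074219742) (.leaf 20185644158666)) (.node (.leaf 19998196043814) (.leaf 4339740358762))) (.node (.node (.leaf 28227890990606) (.leaf 5599245764893)) (.node (.leaf 12961086283420) (.leaf 11523858720933))))))))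

def twoElt30 : Janko.Tree (ℕ) :=
  (.node (.node (.node (.node (.node (.node (.node (.leaf 13518784842801) (.leaf 8019000080645)) (.node (.leaf 7720937382726) (.leaf 12095246198486))) (.node (.node (.leaf 20154861486623) (.leaf 17579056144198)) (.node (.leaf 27635590269549) (.leaf 20583672090237)))) (.node (.node (.node (.leaf 28106723160) (.leaf 21174243336043)) (.node (.leaf 3161685156361) (.leaf 7168398633095))) (.node (.node (.leaf 227854126893) (.leaf 1856032116345)) (.node (.leaf 24290489176330) (.leaf 22228948328008))))) (.node (.node (.node (.node (.leaf 9807162517601) (.leaf 26186878573186)) (.node (.leaf 22249334269529) (.leaf 7355418808045))) (.node (.node (.leaf 20047115996564) (.leaf 28068195282108)) (.node (.leaf 4519132037241) (.leaf 8983551295869)))) (.node (.node (.node (.leaf 17782031031889) (.leaf 10401478345264)) (.node (.leaf 15784485511927) (.leaf 20462084718797))) (.node (.node (.leaf 5821484237610) (.leaf 22060595685658)) (.node (.leaf 13484411664163) (.leaf 20774815571756)))))) (.node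 (.node (.node (.node (.node (.leaf 11239060595263) (.leaf 24146132756163)) (.node (.leaf 9326190691391) (.leaf 5241354750596))) (.node (.node (.leaf 24671953505828) (.leaf 14577162420273)) (.node (.leaf 20713198846518) (.leaf 25650389585585)))) (.node (.node (.node (.leaf 1013656138390) (.leaf 15136280883941)) (.node (.leaf 5796799581809) (.leaf 18164700850292))) (.node (.node (.leaf 12097150674756) (.leaf 2274893759384)) (.node (.leaf 28088914188062) (.leaf 19629749207120))))) (.node (.node (.node (.node (.leaf 3368892852497) (.leaf 7729132707474)) (.node (.leaf 13976706822845) (.leaf 5798533568261))) (.node (.node (.leaf 2043696539370) (.leaf 12881570122037)) (.node (.leaf 25722586493984) (.leaf 18798212473752)))) (.node (.node (.node (.leaf 8077413638740) (.leaf 18805152942234)) (.node (.leaf 21533665169457) (.leaf 15289072038409))) (.node (.node (.leaf 10732949094779) (.leaf 1998132219455)) (.node (.leaf 27054360840412) (.leaf 13712947502744))))))) (.node (.node (.node (.node (.node (.node (.leaf 6240219454144)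 (.leaf 15741487583455)) (.node (.leaf 14620162037343) (.leaf 17217209522838))) (.node (.node (.leaf 1684897418322) (.leaf 24162511621725)) (.node (.leaf 21699068975882) (.leaf 9284244213478)))) (.node (.node (.node (.leaf 24143509481346) (.leaf 23117171674899)) (.node (.leaf 27804571274906) (.leaf 7196523528320))) (.node (.node (.leaf 18006957231648) (.leaf 13196613162732)) (.node (.leaf 20618285049463) (.leaf 2496944279235))))) (.node (.node (.node (.node (.leaf 11394326085760) (.leaf 24881217573173)) (.node (.leaf 4061632554584) (.leaf 6215806317683))) (.node (.node (.leaf 18392304978132) (.leaf 22159836217640)) (.node (.leaf 28051118428319) (.leaf 20445344162388)))) (.node (.node (.node (.leaf 8831758108982) (.leaf 14463628388545)) (.node (.leaf 7958212664124) (.leaf 21757145768470))) (.node (.node (.leaf 22978389971752) (.leaf 8539901921661)) (.node (.leaf 6032111848740) (.leaf 20922832145709)))))) (.node (.node (.node (.node (.node (.leaf 7586543512829) (.leaf 2661338947411)) (.node (.leaf 23523585341509)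 (.leaf 19541106790670))) (.node (.node (.leaf 8869538074790) (.leaf 14610323043595)) (.node (.leaf 25687969382674) (.leaf 13294988298462)))) (.node (.node (.node (.leaf 7268535799329) (.leaf 2219032445841)) (.node (.leaf 24053518585465) (.leaf 3736914897259))) (.node (.node (.leaf 18356781835022) (.leaf 20800990436892)) (.node (.leaf 25676582881651) (.leaf 15375727145704))))) (.node (.node (.node (.node (.leaf 26887312716342) (.leaf 7406405204319)) (.node (.leaf 25024230721731) (.leaf 10955083519513))) (.node (.node (.leaf 16754459123489) (.leaf 11458778273480)) (.node (.leaf 15120751224845) (.leaf 12931631054930)))) (.node (.node (.node (.leaf 2661024636622) (.leaf 17437304557435)) (.node (.leaf 13726475970909) (.leaf 18934394458335))) (.node (.node (.leaf 6412560918167) (.leaf 2616636903021)) (.node (.leaf 9126426622106) (.leaf 17560006987501))))))))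

def twoElt31 : Janko.Tree (ℕ) :=
  (.node (.node (.node (.node (.node (.node (.node (.leaf 21941517750576) (.leaf 18951087750003)) (.node (.leaf 11382913108251) (.leaf 3179183693518))) (.node (.node (.leaf 17227538589779) (.leaf 2522988491380)) (.node (.leaf 25543954147516) (.leaf 23662524763897)))) (.node (.node (.node (.leaf 11737770654615) (.leaf 4489474553500)) (.node (.leaf 13888498444685) (.leaf 27653820224339))) (.node (.node (.leaf 14801323068979) (.leaf 8914478993567)) (.node (.leaf 3438395788887) (.leaf 24513157825565))))) (.node (.node (.node (.node (.leaf 11596464033530) (.leaf 8021445083253)) (.node (.leaf 20717148747924) (.leaf 3549430679576))) (.node (.node (.leaf 13716973242754) (.leaf 6068931172244)) (.node (.leaf 7525009614468) (.leaf 6016341415771)))) (.node (.node (.node (.leaf 28285591707459) (.leaf 13437642377808)) (.node (.leaf 25683163025658) (.leaf 17752672571275))) (.node (.node (.leaf 21012862632244) (.leaf 8912359295630)) (.node (.leaf 20985489757004) (.leaf 20903402184589)))))) (.node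 (.node (.node (.node (.node (.leaf 7381091717713) (.leaf 14108980586558)) (.node (.leaf 10979344027185) (.leaf 18879099298472))) (.node (.node (.leaf 7062812534815) (.leaf 16167069913787)) (.node (.leaf 13914279412076) (.leaf 13785668418231)))) (.node (.node (.node (.leaf 21261749846740) (.leaf 9459369894428)) (.node (.leaf 17129882116912) (.leaf 7199231475796))) (.node (.node (.leaf 22318294401264) (.leaf 8817752708658)) (.node (.leaf 24981680763511) (.leaf 10202580650289))))) (.node (.node (.node (.node (.leaf 22989642828652) (.leaf 21696626680667)) (.node (.leaf 25681363731182) (.leaf 17148481456411))) (.node (.node (.leaf 10951907645121) (.leaf 17963250648148)) (.node (.leaf 23716814551657) (.leaf 9872160231732)))) (.node (.node (.node (.leaf 9770540628713) (.leaf 26164229673543)) (.node (.leaf 16996720053807) (.leaf 5608045387623))) (.node (.node (.leaf 22435133292846) (.leaf 13474293166681)) (.node (.leaf 17281089893756) (.leaf 15840036612385))))))) (.node (.node (.node (.node (.node (.node (.leaf 7560009814125)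 (.leaf 7541773831718)) (.node (.leaf 16364233722730) (.leaf 20786589617925))) (.node (.node (.leaf 23538644288321) (.leaf 15309178306669)) (.node (.leaf 37727637345) (.leaf 25059176107210)))) (.node (.node (.node (.leaf 18512994520620) (.leaf 1561522997564)) (.node (.leaf 10088707689098) (.leaf 2776163190026))) (.node (.node (.leaf 1667321139874) (.leaf 10842213533736)) (.node (.leaf 18815906658309) (.leaf 4791370860931))))) (.node (.node (.node (.node (.leaf 19702812192087) (.leaf 8339397096340)) (.node (.leaf 1330373376346) (.leaf 27578181183560))) (.node (.node (.leaf 20598425687895) (.leaf 16729500290919)) (.node (.leaf 6070301394313) (.leaf 20634562350195)))) (.node (.node (.node (.leaf 16287399674475) (.leaf 17010308320997)) (.node (.leaf 24899197249660) (.leaf 28296922815163))) (.node (.node (.leaf 10409534466088) (.leaf 2755955003199)) (.node (.leaf 12325578772714) (.leaf 19939068572697)))))) (.node (.node (.node (.node (.node (.leaf 24505919639810) (.leaf 14317967544094)) (.node (.leaf 15967826487422)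 (.leaf 3780117538925))) (.node (.node (.leaf 1538428636746) (.leaf 26214628160636)) (.node (.leaf 22796159566204) (.leaf 3402829683513)))) (.node (.node (.node (.leaf 8938841712910) (.leaf 19516956028314)) (.node (.leaf 20919398852174) (.leaf 15234685657837))) (.node (.node (.leaf 8690811820901) (.leaf 24653201224511)) (.node (.leaf 17228902433339) (.leaf 1524202042678))))) (.node (.node (.node (.node (.leaf 5250740071714) (.leaf 16724383633075)) (.node (.leaf 5745682157395) (.leaf 13696657176920))) (.node (.node (.leaf 24292497985334) (.leaf 23741525077087)) (.node (.leaf 9470028974728) (.leaf 13013506884894)))) (.node (.node (.node (.leaf 18193312917709) (.leaf 5668362348776)) (.node (.leaf 8219412041841) (.leaf 3385994852057))) (.node (.node (.leaf 9490477770489) (.leaf 17782513471080)) (.node (.leaf 6306403461258) (.leaf 13247041241947))))))))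

def twoElt : Janko.Tree (ℕ) := (.node (.node (.node (.node (.node twoElt0 twoElt16) (.node twoElt8 twoElt24)) (.node (.node twoElt4 twoElt20) (.node twoElt12 twoElt28))) (.node (.node (.node twoElt2 twoElt18) (.node twoElt10 twoElt26)) (.node (.node twoElt6 twoElt22) (.node twoElt14 twoElt30)))) (.node (.node (.node (.node twoElt1 twoElt17) (.node twoElt9 twoElt25)) (.node (.node twoElt5 twoElt21) (.node twoElt13 twoElt29))) (.node (.node (.node twoElt3 twoElt19) (.node twoElt11 twoElt27)) (.node (.node twoElt7 twoElt23) (.node twoElt15 twoElt31)))))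

def twoNext0 : Janko.Tree (ℕ) :=
  (.node (.node (.node (.node (.node (.node (.node (.leaf 1) (.leaf 3546)) (.node (.leaf 2345) (.leaf 1612))) (.node (.node (.leaf 171) (.leaf 1196)) (.node (.leaf 2958) (.leaf 2104)))) (.node (.node (.node (.leaf 738) (.leaf 1000)) (.node (.leaf 1647) (.leaf 1975))) (.node (.node (.leaf 555) (.leaf 2765)) (.node (.leaf 727) (.leaf 3575))))) (.node (.node (.node (.node (.leaf 240) (.leaf 3645)) (.node (.leaf 430) (.leaf 1700))) (.node (.node (.leaf 219) (.leaf 3579)) (.node (.leaf 721) (.leaf 3963)))) (.node (.node (.node (.leaf 1054) (.leaf 2928)) (.node (.leaf 2004) (.leaf 1950))) (.node (.node (.leaf 1495) (.leaf 2195)) (.node (.leaf 3153) (.leaf 3551)))))) (.node (.node (.node (.node (.node (.leaf 19) (.leaf 3591)) (.node (.leaf 1706) (.leaf 1811))) (.node (.node (.leaf 197) (.leaf 3300)) (.node (.leaf 1001) (.leaf 3955)))) (.node (.node (.node (.leaf 907) (.leaf 1036)) (.node (.leaf 518) (.leaf 2365))) (.node (.node (.leaf 491) (.leaf 3870)) (.node (.leaf 807) (.leaf 3455)))))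 (.node (.node (.node (.node (.leaf 59) (.leaf 3676)) (.node (.leaf 1572) (.leaf 2515))) (.node (.node (.leaf 1744) (.leaf 1390)) (.node (.leaf 697) (.leaf 3942)))) (.node (.node (.node (.leaf 725) (.leaf 1141)) (.node (.leaf 2834) (.leaf 2354))) (.node (.node (.leaf 2003) (.leaf 2386)) (.node (.leaf 2851) (.leaf 3707))))))) (.node (.node (.node (.node (.node (.node (.leaf 107) (.leaf 3563)) (.node (.leaf 1766) (.leaf 3902))) (.node (.node (.leaf 184) (.leaf 3341)) (.node (.leaf 3003) (.leaf 2260)))) (.node (.node (.node (.leaf 821) (.leaf 3449)) (.node (.leaf 2690) (.leaf 2544))) (.node (.node (.leaf 280) (.leaf 2159)) (.node (.leaf 3347) (.leaf 3590))))) (.node (.node (.node (.node (.leaf 480) (.leaf 3097)) (.node (.leaf 1583) (.leaf 2483))) (.node (.node (.leaf 395) (.leaf 3472)) (.node (.leaf 1454) (.leaf 4009)))) (.node (.node (.node (.leaf 590) (.leaf 3331)) (.node (.leaf 568) (.leaf 2672))) (.node (.node (.leaf 1657) (.leaf 3861)) (.node (.leaf 1395) (.leaf 3125)))))) (.node (.node (.node (.node (.node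 (.leaf 307) (.leaf 3482)) (.node (.leaf 2468) (.leaf 3834))) (.node (.node (.leaf 1537) (.leaf 1324)) (.node (.leaf 3112) (.leaf 2430)))) (.node (.node (.node (.leaf 981) (.leaf 3365)) (.node (.leaf 2579) (.leaf 3919))) (.node (.node (.leaf 1463) (.leaf 1800)) (.node (.leaf 772) (.leaf 3612))))) (.node (.node (.node (.node (.leaf 69) (.leaf 980)) (.node (.leaf 476) (.leaf 1786))) (.node (.node (.leaf 1812) (.leaf 3813)) (.node (.leaf 1099) (.leaf 4064)))) (.node (.node (.node (.leaf 160) (.leaf 3175)) (.node (.leaf 2902) (.leaf 2056))) (.node (.node (.leaf 2291) (.leaf 1591)) (.node (.leaf 3243) (.leaf 3808))))))))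

def twoNext1 : Janko.Tree (ℕ) :=
  (.node (.node (.node (.node (.node (.node (.node (.leaf 2) (.leaf 849)) (.node (.leaf 371) (.leaf 2729))) (.node (.node (.leaf 1030) (.leaf 3744)) (.node (.leaf 843) (.leaf 2155)))) (.node (.node (.node (.leaf 79) (.leaf 3681)) (.node (.leaf 490) (.leaf 2499))) (.node (.node (.leaf 1880) (.leaf 1462)) (.node (.leaf 2913) (.leaf 2841))))) (.node (.node (.node (.node (.leaf 401) (.leaf 3319)) (.node (.leaf 2505) (.leaf 2280))) (.node (.node (.leaf 1601) (.leaf 2825)) (.node (.leaf 2983) (.leaf 2782)))) (.node (.node (.node (.leaf 1055) (.leaf 3085)) (.node (.leaf 2658) (.leaf 3975))) (.node (.node (.leaf 1731) (.leaf 1526)) (.node (.leaf 3134) (.leaf 3049)))))) (.node (.node (.node (.node (.node (.leaf 208) (.leaf 3176)) (.node (.leaf 1565) (.leaf 2289))) (.node (.node (.leaf 1452) (.leaf 3564)) (.node (.leaf 3056) (.leaf 2177)))) (.node (.node (.node (.leaf 908) (.leaf 3663)) (.node (.leaf 2036) (.leaf 2180))) (.node (.node (.leaf 2016) (.leaf 1493)) (.node (.leaf 3388) (.leaf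 3677))))) (.node (.node (.node (.node (.leaf 565) (.leaf 3097)) (.node (.leaf 460) (.leaf 4039))) (.node (.node (.leaf 244) (.leaf 3759)) (.node (.leaf 3233) (.leaf 2517)))) (.node (.node (.node (.leaf 1188) (.leaf 3676)) (.node (.leaf 2835) (.leaf 2020))) (.node (.node (.leaf 2239) (.leaf 1572)) (.node (.leaf 817) (.leaf 3243))))))) (.node (.node (.node (.node (.node (.node (.leaf 9) (.leaf 1084)) (.node (.leaf 1551) (.leaf 2683))) (.node (.node (.leaf 880) (.leaf 1221)) (.node (.leaf 822) (.leaf 2468)))) (.node (.node (.node (.leaf 89) (.leaf 3181)) (.node (.leaf 2691) (.leaf 1978))) (.node (.node (.leaf 1469) (.leaf 2522)) (.node (.leaf 3348) (.leaf 2881))))) (.node (.node (.node (.node (.leaf 481) (.leaf 1233)) (.node (.leaf 446) (.leaf 4029))) (.node (.node (.leaf 229) (.leaf 1351)) (.node (.leaf 3068) (.leaf 2560)))) (.node (.node (.node (.leaf 136) (.leaf 1115)) (.node (.leaf 1740) (.leaf 2738))) (.node (.node (.leaf 327) (.leaf 3937)) (.node (.leaf 2986) (.leaf 3164)))))) (.node (.node (.node (.node (.node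 (.leaf 308) (.leaf 2980)) (.node (.leaf 2469) (.leaf 4014))) (.node (.node (.leaf 1538) (.leaf 1272)) (.node (.leaf 651) (.leaf 2260)))) (.node (.node (.node (.leaf 982) (.leaf 1059)) (.node (.leaf 2735) (.leaf 1899))) (.node (.node (.leaf 2069) (.leaf 1511)) (.node (.leaf 3417) (.leaf 3547))))) (.node (.node (.node (.node (.leaf 656) (.leaf 3683)) (.node (.leaf 2628) (.leaf 1860))) (.node (.node (.leaf 255) (.leaf 3182)) (.node (.leaf 3263) (.leaf 3969)))) (.node (.node (.node (.leaf 1259) (.leaf 1239)) (.node (.leaf 718) (.leaf 2103))) (.node (.node (.leaf 2292) (.leaf 1727)) (.node (.leaf 832) (.leaf 3625))))))))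

def twoNext2 : Janko.Tree (ℕ) :=
  (.node (.node (.node (.node (.node (.node (.node (.leaf 3) (.leaf 1331)) (.node (.leaf 2346) (.leaf 3946))) (.node (.node (.leaf 1046) (.leaf 3428)) (.node (.leaf 2893) (.leaf 2773)))) (.node (.node (.node (.leaf 739) (.leaf 3289)) (.node (.leaf 1508) (.leaf 2783))) (.node (.node (.leaf 1788) (.leaf 2563)) (.node (.leaf 1100) (.leaf 3730))))) (.node (.node (.node (.node (.leaf 38) (.leaf 3646)) (.node (.leaf 454) (.leaf 2396))) (.node (.node (.leaf 407) (.leaf 1310)) (.node (.leaf 3161) (.leaf 3929)))) (.node (.node (.node (.leaf 1056) (.leaf 3022)) (.node (.leaf 550) (.leaf 2617))) (.node (.node (.leaf 391) (.leaf 2228)) (.node (.leaf 785) (.leaf 3634)))))) (.node (.node (.node (.node (.node (.leaf 209) (.leaf 1266)) (.node (.leaf 2409) (.leaf 2013))) (.node (.node (.leaf 1242) (.leaf 1444)) (.node (.leaf 639) (.leaf 2437)))) (.node (.node (.node (.leaf 100) (.leaf 1072)) (.node (.leaf 559) (.leaf 1857))) (.node (.node (.leaf 292) (.leaf 3822)) (.node (.leaf 756) (.leaf 2919)))))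 (.node (.node (.node (.node (.leaf 471) (.leaf 960)) (.node (.leaf 1874) (.leaf 1924))) (.node (.node (.leaf 1745) (.leaf 3358)) (.node (.leaf 1089) (.leaf 3908)))) (.node (.node (.node (.leaf 147) (.leaf 3192)) (.node (.leaf 584) (.leaf 2337))) (.node (.node (.leaf 2240) (.leaf 2087)) (.node (.leaf 3496) (.leaf 3706))))))) (.node (.node (.node (.node (.node (.node (.leaf 108) (.leaf 869)) (.node (.leaf 384) (.leaf 3942))) (.node (.node (.leaf 1395) (.leaf 3791)) (.node (.leaf 3004) (.leaf 2206)))) (.node (.node (.node (.leaf 822) (.leaf 3267)) (.node (.leaf 505) (.leaf 1881))) (.node (.node (.leaf 1941) (.leaf 2277)) (.node (.leaf 2923) (.leaf 3346))))) (.node (.node (.node (.node (.leaf 482) (.leaf 3115)) (.node (.leaf 1964) (.leaf 4030))) (.node (.node (.leaf 324) (.leaf 3753)) (.node (.leaf 1144) (.leaf 2704)))) (.node (.node (.node (.leaf 609) (.leaf 3165)) (.node (.leaf 2553) (.leaf 1978))) (.node (.node (.leaf 2197) (.leaf 1550)) (.node (.leaf 1269) (.leaf 3534)))))) (.node (.node (.node (.node (.node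 (.leaf 309) (.leaf 937)) (.node (.leaf 2470) (.leaf 2666))) (.node (.node (.leaf 409) (.leaf 1304)) (.node (.leaf 1083) (.leaf 2287)))) (.node (.node (.node (.leaf 932) (.leaf 1164)) (.node (.leaf 2736) (.leaf 2411))) (.node (.node (.leaf 2070) (.leaf 3896)) (.node (.leaf 3296) (.leaf 2974))))) (.node (.node (.node (.node (.leaf 657) (.leaf 3690)) (.node (.leaf 569) (.leaf 1888))) (.node (.node (.leaf 1813) (.leaf 2863)) (.node (.leaf 710) (.leaf 2673)))) (.node (.node (.node (.leaf 1260) (.leaf 3471)) (.node (.leaf 596) (.leaf 3863))) (.node (.node (.leaf 388) (.leaf 1685)) (.node (.leaf 2997) (.leaf 3769))))))))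

def twoNext3 : Janko.Tree (ℕ) :=
  (.node (.node (.node (.node (.node (.node (.node (.leaf 4) (.leaf 812)) (.node (.leaf 571) (.leaf 2490))) (.node (.node (.leaf 65) (.leaf 3526)) (.node (.leaf 62) (.leaf 465)))) (.node (.node (.node (.leaf 740) (.leaf 3252)) (.node (.leaf 2663) (.leaf 253))) (.node (.node (.leaf 1881) (.leaf 538)) (.node (.leaf 3305) (.leaf 711))))) (.node (.node (.node (.node (.leaf 402) (.leaf 2889)) (.node (.leaf 2506) (.leaf 2311))) (.node (.node (.leaf 1602) (.leaf 1222)) (.node (.leaf 640) (.leaf 2565)))) (.node (.node (.node (.leaf 1057) (.leaf 1393)) (.node (.leaf 2508) (.leaf 2737))) (.node (.node (.leaf 2137) (.leaf 1726)) (.node (.leaf 3448) (.leaf 3375)))))) (.node (.node (.node (.node (.node (.leaf 210) (.leaf 653)) (.node (.leaf 36) (.leaf 1718))) (.node (.node (.leaf 1453) (.leaf 1044)) (.node (.leaf 1141) (.leaf 450)))) (.node (.node (.node (.leaf 909) (.leaf 3594)) (.node (.leaf 1752) (.leaf 3856))) (.node (.node (.leaf 2017) (.leaf 3871)) (.node (.leaf 3389) (.leaf 3685)))))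 (.node (.node (.node (.node (.leaf 566) (.leaf 3201)) (.node (.leaf 2584) (.leaf 3997))) (.node (.node (.leaf 329) (.leaf 1210)) (.node (.leaf 3234) (.leaf 2543)))) (.node (.node (.node (.leaf 1189) (.leaf 3479)) (.node (.leaf 2836) (.leaf 2096))) (.node (.node (.leaf 2241) (.leaf 3944)) (.node (.leaf 3240) (.leaf 933))))))) (.node (.node (.node (.node (.node (.node (.leaf 109) (.leaf 3564)) (.node (.leaf 1744) (.leaf 1941))) (.node (.node (.leaf 1396) (.leaf 878)) (.node (.leaf 1046) (.leaf 2412)))) (.node (.node (.node (.leaf 823) (.leaf 1041)) (.node (.leaf 1835) (.leaf 1763))) (.node (.node (.leaf 1952) (.leaf 2125)) (.node (.leaf 3349) (.leaf 3430))))) (.node (.node (.node (.node (.leaf 483) (.leaf 3665)) (.node (.leaf 2542) (.leaf 2430))) (.node (.node (.leaf 1678) (.leaf 3484)) (.node (.leaf 3199) (.leaf 383)))) (.node (.node (.node (.leaf 1120) (.leaf 3487)) (.node (.leaf 544) (.leaf 2669))) (.node (.node (.leaf 2198) (.leaf 2533)) (.node (.leaf 3103) (.leaf 2981)))))) (.node (.node (.node (.node (.node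 (.leaf 310) (.leaf 3297)) (.node (.leaf 2463) (.leaf 1590))) (.node (.node (.leaf 209) (.leaf 652)) (.node (.leaf 1417) (.leaf 4002)))) (.node (.node (.node (.leaf 810) (.leaf 3393)) (.node (.leaf 2080) (.leaf 353))) (.node (.node (.leaf 2071) (.leaf 2518)) (.node (.leaf 1123) (.leaf 1388))))) (.node (.node (.node (.node (.leaf 658) (.leaf 1250)) (.node (.leaf 2629) (.leaf 2637))) (.node (.node (.leaf 1814) (.leaf 3705)) (.node (.leaf 3264) (.leaf 2046)))) (.node (.node (.node (.leaf 682) (.leaf 3589)) (.node (.leaf 589) (.leaf 2507))) (.node (.node (.leaf 2) (.leaf 2273)) (.node (.leaf 3478) (.leaf 3609))))))))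

def twoNext4 : Janko.Tree (ℕ) :=
  (.node (.node (.node (.node (.node (.node (.node (.leaf 0) (.leaf 3268)) (.node (.leaf 1624) (.leaf 3976))) (.node (.node (.leaf 1330) (.leaf 3786)) (.node (.leaf 608) (.leaf 2772)))) (.node (.node (.node (.leaf 741) (.leaf 3069)) (.node (.leaf 2375) (.leaf 1974))) (.node (.node (.leaf 268) (.leaf 2068)) (.node (.leaf 3206) (.leaf 3443))))) (.node (.node (.node (.node (.leaf 403) (.leaf 3647)) (.node (.leaf 1709) (.leaf 2476))) (.node (.node (.leaf 1603) (.leaf 3730)) (.node (.leaf 666) (.leaf 3920)))) (.node (.node (.node (.leaf 122) (.leaf 1081)) (.node (.leaf 2008) (.leaf 2768))) (.node (.node (.leaf 317) (.leaf 1615)) (.node (.leaf 1116) (.leaf 3715)))))) (.node (.node (.node (.node (.node (.leaf 211) (.leaf 887)) (.node (.leaf 400) (.leaf 2415))) (.node (.node (.leaf 588) (.leaf 1243)) (.node (.leaf 810) (.leaf 3966)))) (.node (.node (.node (.leaf 116) (.leaf 3055)) (.node (.leaf 2589) (.leaf 2650))) (.node (.node (.leaf 556) (.leaf 1549)) (.node (.leaf 3390) (.leaf 3091)))))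 (.node (.node (.node (.node (.leaf 279) (.leaf 1124)) (.node (.leaf 1699) (.leaf 4013))) (.node (.node (.leaf 1746) (.leaf 2859)) (.node (.leaf 801) (.leaf 3886)))) (.node (.node (.node (.leaf 843) (.leaf 3510)) (.node (.leaf 2813) (.leaf 3850))) (.node (.node (.leaf 343) (.leaf 3881)) (.node (.leaf 2863) (.leaf 4092))))))) (.node (.node (.node (.node (.node (.node (.leaf 110) (.leaf 870)) (.node (.leaf 2397) (.leaf 3993))) (.node (.node (.leaf 1397) (.leaf 3792)) (.node (.leaf 1348) (.leaf 2475)))) (.node (.node (.node (.leaf 691) (.leaf 1021)) (.node (.leaf 519) (.leaf 1917))) (.node (.node (.leaf 1729) (.leaf 1810)) (.node (.leaf 3350) (.leaf 2882))))) (.node (.node (.node (.node (.leaf 49) (.leaf 937)) (.node (.leaf 1826) (.leaf 1919))) (.node (.node (.leaf 1679) (.leaf 3499)) (.node (.leaf 681) (.leaf 4014)))) (.node (.node (.node (.leaf 1121) (.leaf 3448)) (.node (.leaf 2543) (.leaf 1979))) (.node (.node (.leaf 1887) (.leaf 2141)) (.node (.leaf 3066) (.leaf 3220)))))) (.node (.node (.node (.node (.node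 (.leaf 29) (.leaf 2894)) (.node (.leaf 417) (.leaf 2450))) (.node (.node (.leaf 208) (.leaf 3476)) (.node (.leaf 3113) (.leaf 2262)))) (.node (.node (.node (.leaf 112) (.leaf 1060)) (.node (.leaf 2576) (.leaf 1900))) (.node (.node (.leaf 2072) (.leaf 1658)) (.node (.leaf 3295) (.leaf 3253))))) (.node (.node (.node (.node (.leaf 659) (.leaf 3611)) (.node (.leaf 1509) (.leaf 1787))) (.node (.node (.leaf 446) (.leaf 1434)) (.node (.leaf 711) (.leaf 4074)))) (.node (.node (.node (.leaf 1261) (.leaf 1174)) (.node (.leaf 2903) (.leaf 4043))) (.node (.node (.leaf 359) (.leaf 2646)) (.node (.leaf 1418) (.leaf 3381))))))))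

def twoNext5 : Janko.Tree (ℕ) :=
  (.node (.node (.node (.node (.node (.node (.node (.leaf 5) (.leaf 3185)) (.node (.leaf 2347) (.leaf 1613))) (.node (.node (.leaf 1331) (.leaf 1196)) (.node (.leaf 711) (.leaf 4043)))) (.node (.node (.node (.leaf 742) (.leaf 1394)) (.node (.leaf 491) (.leaf 2204))) (.node (.node (.leaf 1882) (.leaf 1990)) (.node (.leaf 3306) (.leaf 2842))))) (.node (.node (.node (.node (.leaf 404) (.leaf 3648)) (.node (.leaf 443) (.leaf 2284))) (.node (.node (.leaf 219) (.leaf 1390)) (.node (.leaf 902) (.leaf 3958)))) (.node (.node (.node (.leaf 1058) (.leaf 3533)) (.node (.leaf 551) (.leaf 1932))) (.node (.node (.leaf 2138) (.leaf 2061)) (.node (.leaf 3003) (.leaf 3808)))))) (.node (.node (.node (.node (.node (.leaf 19) (.leaf 995)) (.node (.leaf 2441) (.leaf 2032))) (.node (.node (.leaf 197) (.leaf 1302)) (.node (.leaf 640) (.leaf 2605)))) (.node (.node (.node (.leaf 910) (.leaf 1241)) (.node (.leaf 2290) (.leaf 1859))) (.node (.node (.leaf 2018) (.leaf 3872)) (.node (.leaf 3391) (.leaf 2920)))))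 (.node (.node (.node (.node (.leaf 59) (.leaf 3554)) (.node (.leaf 461) (.leaf 1761))) (.node (.node (.leaf 1747) (.leaf 2930)) (.node (.leaf 697) (.leaf 2792)))) (.node (.node (.node (.leaf 1190) (.leaf 1229)) (.node (.leaf 2837) (.leaf 2125))) (.node (.node (.leaf 2150) (.leaf 3945)) (.node (.leaf 3179) (.leaf 3252))))))) (.node (.node (.node (.node (.node (.node (.leaf 111) (.leaf 3565)) (.node (.leaf 2012) (.leaf 1628))) (.node (.node (.leaf 969) (.leaf 3793)) (.node (.leaf 624) (.leaf 2612)))) (.node (.node (.node (.leaf 824) (.leaf 1377)) (.node (.leaf 2521) (.leaf 3882))) (.node (.node (.leaf 280) (.leaf 3845)) (.node (.leaf 741) (.leaf 3337))))) (.node (.node (.node (.node (.leaf 484) (.leaf 3666)) (.node (.leaf 2543) (.leaf 1728))) (.node (.node (.leaf 1680) (.leaf 3439)) (.node (.leaf 1219) (.leaf 4016)))) (.node (.node (.node (.leaf 1122) (.leaf 3602)) (.node (.leaf 1744) (.leaf 2333))) (.node (.node (.leaf 1766) (.leaf 2486)) (.node (.leaf 3216) (.leaf 3435)))))) (.node (.node (.node (.node (.node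 (.leaf 211) (.leaf 900)) (.node (.leaf 2471) (.leaf 2219))) (.node (.node (.leaf 1456) (.leaf 3222)) (.node (.leaf 3114) (.leaf 2304)))) (.node (.node (.node (.leaf 983) (.leaf 1101)) (.node (.leaf 2337) (.leaf 4059))) (.node (.node (.leaf 305) (.leaf 1792)) (.node (.leaf 2992) (.leaf 2976))))) (.node (.node (.node (.node (.leaf 69) (.leaf 980)) (.node (.leaf 2130) (.leaf 2064))) (.node (.node (.leaf 1815) (.leaf 3619)) (.node (.leaf 3265) (.leaf 2674)))) (.node (.node (.node (.leaf 160) (.leaf 3780)) (.node (.leaf 1144) (.leaf 2056))) (.node (.node (.leaf 2293) (.leaf 1591)) (.node (.leaf 3518) (.leaf 3779))))))))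

def twoNext6 : Janko.Tree (ℕ) :=
  (.node (.node (.node (.node (.node (.node (.node (.leaf 6) (.leaf 3547)) (.node (.leaf 371) (.leaf 1721))) (.node (.node (.leaf 1332) (.leaf 1308)) (.node (.leaf 719) (.leaf 2104)))) (.node (.node (.node (.leaf 183) (.leaf 1000)) (.node (.leaf 561) (.leaf 1811))) (.node (.node (.leaf 1883) (.leaf 2082)) (.node (.leaf 778) (.leaf 3745))))) (.node (.node (.node (.node (.leaf 405) (.leaf 3268)) (.node (.leaf 430) (.leaf 1700))) (.node (.node (.leaf 1604) (.leaf 1311)) (.node (.leaf 981) (.leaf 4084)))) (.node (.node (.node (.leaf 899) (.leaf 3692)) (.node (.leaf 2062) (.leaf 2369))) (.node (.node (.leaf 337) (.leaf 3885)) (.node (.leaf 3215) (.leaf 3255)))))) (.node (.node (.node (.node (.node (.leaf 212) (.leaf 3592)) (.node (.leaf 1728) (.leaf 1649))) (.node (.node (.leaf 630) (.leaf 1370)) (.node (.leaf 777) (.leaf 3882)))) (.node (.node (.node (.leaf 911) (.leaf 3457)) (.node (.leaf 2582) (.leaf 2312))) (.node (.node (.leaf 2019) (.leaf 1493)) (.node (.leaf 3392) (.leaf 3465)))))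 (.node (.node (.node (.node (.leaf 567) (.leaf 1132)) (.node (.leaf 1707) (.leaf 2607))) (.node (.node (.leaf 244) (.leaf 3609)) (.node (.leaf 3078) (.leaf 2524)))) (.node (.node (.node (.leaf 1191) (.leaf 2986)) (.node (.leaf 1265) (.leaf 2022))) (.node (.node (.leaf 2242) (.leaf 1613)) (.node (.leaf 3497) (.leaf 3589))))))) (.node (.node (.node (.node (.node (.node (.leaf 112) (.leaf 1087)) (.node (.leaf 2398) (.leaf 2746))) (.node (.node (.leaf 184) (.leaf 1221)) (.node (.leaf 1240) (.leaf 3914)))) (.node (.node (.node (.leaf 89) (.leaf 3520)) (.node (.leaf 2505) (.leaf 1940))) (.node (.node (.leaf 1953) (.leaf 1478)) (.node (.leaf 815) (.leaf 3697))))) (.node (.node (.node (.node (.leaf 235) (.leaf 3412)) (.node (.leaf 496) (.leaf 1937))) (.node (.node (.leaf 1588) (.leaf 3653)) (.node (.leaf 1162) (.leaf 3841)))) (.node (.node (.node (.leaf 1123) (.leaf 3760)) (.node (.leaf 568) (.leaf 4075))) (.node (.node (.leaf 327) (.leaf 2195)) (.node (.leaf 801) (.leaf 3561)))))) (.node (.node (.node (.node (.node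 (.leaf 234) (.leaf 3554)) (.node (.leaf 2472) (.leaf 3894))) (.node (.node (.leaf 416) (.leaf 2878)) (.node (.leaf 651) (.leaf 2323)))) (.node (.node (.node (.leaf 854) (.leaf 3058)) (.node (.leaf 536) (.leaf 2693))) (.node (.node (.leaf 1485) (.leaf 1511)) (.node (.leaf 772) (.leaf 3278))))) (.node (.node (.node (.node (.leaf 660) (.leaf 3181)) (.node (.leaf 1993) (.leaf 1884))) (.node (.node (.leaf 1605) (.leaf 3735)) (.node (.leaf 1098) (.leaf 3880)))) (.node (.node (.node (.leaf 1262) (.leaf 3672)) (.node (.leaf 1013) (.leaf 4045))) (.node (.node (.leaf 2286) (.leaf 2441)) (.node (.leaf 910) (.leaf 3714))))))))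

def twoNext7 : Janko.Tree (ℕ) :=
  (.node (.node (.node (.node (.node (.node (.node (.leaf 7) (.leaf 1134)) (.node (.leaf 2348) (.leaf 3936))) (.node (.node (.leaf 1333) (.leaf 925)) (.node (.leaf 2959) (.leaf 2347)))) (.node (.node (.node (.leaf 743) (.leaf 650)) (.node (.leaf 1980) (.leaf 1739))) (.node (.node (.leaf 317) (.leaf 1490)) (.node (.leaf 1146) (.leaf 3638))))) (.node (.node (.node (.node (.leaf 406) (.leaf 1214)) (.node (.leaf 243) (.leaf 2117))) (.node (.node (.leaf 1605) (.leaf 1304)) (.node (.leaf 1217) (.leaf 3949)))) (.node (.node (.node (.leaf 1059) (.leaf 792)) (.node (.leaf 2126) (.leaf 1785))) (.node (.node (.leaf 1815) (.leaf 2549)) (.node (.leaf 787) (.leaf 983)))))) (.node (.node (.node (.node (.node (.leaf 213) (.leaf 758)) (.node (.leaf 2053) (.leaf 3939))) (.node (.node (.leaf 644) (.leaf 3764)) (.node (.leaf 3057) (.leaf 1913)))) (.node (.node (.node (.leaf 912) (.leaf 136)) (.node (.leaf 340) (.leaf 474))) (.node (.node (.leaf 2020) (.leaf 2561)) (.node (.leaf 3387) (.leaf 2965)))))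 (.node (.node (.node (.node (.leaf 568) (.leaf 3559)) (.node (.leaf 2585) (.leaf 4040))) (.node (.node (.leaf 1748) (.leaf 3508)) (.node (.leaf 3032) (.leaf 2680)))) (.node (.node (.node (.leaf 1192) (.leaf 707)) (.node (.leaf 2838) (.leaf 2742))) (.node (.node (.leaf 2243) (.leaf 2675)) (.node (.leaf 3498) (.leaf 3668))))))) (.node (.node (.node (.node (.node (.node (.leaf 113) (.leaf 3135)) (.node (.leaf 2399) (.leaf 1880))) (.node (.node (.leaf 1398) (.leaf 3597)) (.node (.leaf 1049) (.leaf 2734)))) (.node (.node (.node (.leaf 825) (.leaf 3545)) (.node (.leaf 1994) (.leaf 2791))) (.node (.node (.leaf 1954) (.leaf 3846)) (.node (.leaf 3351) (.leaf 3613))))) (.node (.node (.node (.node (.leaf 485) (.leaf 3667)) (.node (.leaf 2544) (.leaf 2277))) (.node (.node (.leaf 19) (.leaf 3180)) (.node (.leaf 3092) (.leaf 2171)))) (.node (.node (.node (.leaf 1124) (.leaf 2923)) (.node (.leaf 2172) (.leaf 2081))) (.node (.node (.leaf 1846) (.leaf 322)) (.node (.leaf 3470) (.leaf 1380)))))) (.node (.node (.node (.node (.node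 (.leaf 311) (.leaf 3617)) (.node (.leaf 2473) (.leaf 2072))) (.node (.node (.leaf 1539) (.leaf 3024)) (.node (.leaf 3115) (.leaf 1489)))) (.node (.node (.node (.leaf 984) (.leaf 3745)) (.node (.leaf 1929) (.leaf 3849))) (.node (.node (.leaf 2073) (.leaf 3897)) (.node (.leaf 1181) (.leaf 3382))))) (.node (.node (.node (.node (.leaf 661) (.leaf 805)) (.node (.leaf 46) (.leaf 339))) (.node (.node (.leaf 1790) (.leaf 3795)) (.node (.leaf 3266) (.leaf 4083)))) (.node (.node (.node (.leaf 1263) (.leaf 3268)) (.node (.leaf 2904) (.leaf 439))) (.node (.node (.leaf 1632) (.leaf 333)) (.node (.leaf 1004) (.leaf 1162))))))))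

def twoNext8 : Janko.Tree (ℕ) :=
  (.node (.node (.node (.node (.node (.node (.node (.leaf 8) (.leaf 3548)) (.node (.leaf 2349) (.leaf 3887))) (.node (.node (.leaf 172) (.leaf 3451)) (.node (.leaf 731) (.leaf 3874)))) (.node (.node (.node (.leaf 80) (.leaf 3118)) (.node (.leaf 2052) (.leaf 1866))) (.node (.node (.leaf 1884) (.leaf 1839)) (.node (.leaf 3307) (.leaf 3461))))) (.node (.node (.node (.node (.leaf 209) (.leaf 918)) (.node (.leaf 1753) (.leaf 2094))) (.node (.node (.leaf 1508) (.leaf 1312)) (.node (.leaf 933) (.leaf 3991)))) (.node (.node (.node (.leaf 663) (.leaf 3679)) (.node (.leaf 2217) (.leaf 2610))) (.node (.node (.leaf 2139) (.leaf 2352)) (.node (.leaf 786) (.leaf 3542)))))) (.node (.node (.node (.node (.node (.leaf 214) (.leaf 1386)) (.node (.leaf 1956) (.leaf 2389))) (.node (.node (.leaf 855) (.leaf 1244)) (.node (.leaf 2978) (.leaf 2181)))) (.node (.node (.node (.leaf 101) (.leaf 3725)) (.node (.leaf 2682) (.leaf 2762))) (.node (.node (.leaf 557) (.leaf 3873)) (.node (.leaf 1259) (.leaf 2931)))))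 (.node (.node (.node (.node (.leaf 569) (.leaf 2982)) (.node (.leaf 2379) (.leaf 2517))) (.node (.node (.leaf 1749) (.leaf 1393)) (.node (.leaf 3235) (.leaf 3818)))) (.node (.node (.node (.leaf 1193) (.leaf 3196)) (.node (.leaf 585) (.leaf 2023))) (.node (.node (.leaf 2244) (.leaf 1573)) (.node (.leaf 818) (.leaf 3413))))))) (.node (.node (.node (.node (.node (.node (.leaf 10) (.leaf 3071)) (.node (.leaf 1527) (.leaf 2357))) (.node (.node (.leaf 1399) (.leaf 2986)) (.node (.leaf 1142) (.leaf 2147)))) (.node (.node (.node (.leaf 826) (.leaf 3643)) (.node (.leaf 506) (.leaf 1832))) (.node (.node (.leaf 1955) (.leaf 2604)) (.node (.leaf 1185) (.leaf 3586))))) (.node (.node (.node (.node (.leaf 486) (.leaf 1017)) (.node (.leaf 447) (.leaf 1764))) (.node (.node (.leaf 230) (.leaf 1355)) (.node (.leaf 1161) (.leaf 2470)))) (.node (.node (.node (.leaf 137) (.leaf 1224)) (.node (.leaf 2791) (.leaf 2741))) (.node (.node (.leaf 1771) (.leaf 1602)) (.node (.leaf 3471) (.leaf 3737)))))) (.node (.node (.node (.node (.node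 (.leaf 312) (.leaf 1014)) (.node (.leaf 2285) (.leaf 1672))) (.node (.node (.leaf 422) (.leaf 1274)) (.node (.leaf 985) (.leaf 4083)))) (.node (.node (.node (.leaf 655) (.leaf 2807)) (.node (.leaf 1596) (.leaf 2623))) (.node (.node (.leaf 335) (.leaf 1682)) (.node (.leaf 3418) (.leaf 3030))))) (.node (.node (.node (.node (.leaf 662) (.leaf 3691)) (.node (.leaf 477) (.leaf 1883))) (.node (.node (.leaf 256) (.leaf 3038)) (.node (.leaf 3267) (.leaf 4075)))) (.node (.node (.node (.leaf 1264) (.leaf 3547)) (.node (.leaf 597) (.leaf 3928))) (.node (.node (.leaf 2294) (.leaf 3965)) (.node (.leaf 1071) (.leaf 3383))))))))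

def twoNext9 : Janko.Tree (ℕ) :=
  (.node (.node (.node (.node (.node (.node (.node (.leaf 0) (.leaf 3472)) (.node (.leaf 2350) (.leaf 1631))) (.node (.node (.leaf 1292) (.leaf 2919)) (.node (.leaf 608) (.leaf 2105)))) (.node (.node (.node (.leaf 744) (.leaf 3706)) (.node (.leaf 2664) (.leaf 2141))) (.node (.node (.leaf 1885) (.leaf 1463)) (.node (.leaf 728) (.leaf 3542))))) (.node (.node (.node (.node (.leaf 39) (.leaf 3112)) (.node (.leaf 2507) (.leaf 1702))) (.node (.node (.leaf 1606) (.leaf 3470)) (.node (.leaf 698) (.leaf 2330)))) (.node (.node (.node (.leaf 122) (.leaf 3548)) (.node (.leaf 2139) (.leaf 2524))) (.node (.node (.leaf 317) (.leaf 1866)) (.node (.leaf 3229) (.leaf 3051)))))) (.node (.node (.node (.node (.node (.leaf 215) (.leaf 887)) (.node (.leaf 400) (.leaf 2749))) (.node (.node (.leaf 1454) (.leaf 3742)) (.node (.leaf 3058) (.leaf 2732)))) (.node (.node (.node (.leaf 913) (.leaf 3447)) (.node (.leaf 2198) (.leaf 3883))) (.node (.node (.leaf 293) (.leaf 2716)) (.node (.leaf 757) (.leaf 3570)))))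 (.node (.node (.node (.node (.leaf 570) (.leaf 1143)) (.node (.leaf 2586) (.leaf 4041))) (.node (.node (.leaf 1518) (.leaf 3146)) (.node (.leaf 986) (.leaf 3850)))) (.node (.node (.node (.leaf 148) (.leaf 3301)) (.node (.leaf 2839) (.leaf 2221))) (.node (.node (.leaf 343) (.leaf 2659)) (.node (.leaf 860) (.leaf 3810))))))) (.node (.node (.node (.node (.node (.node (.leaf 114) (.leaf 1431)) (.node (.leaf 385) (.leaf 2684))) (.node (.node (.leaf 1400) (.leaf 1222)) (.node (.leaf 844) (.leaf 2645)))) (.node (.node (.node (.leaf 110) (.leaf 3454)) (.node (.leaf 2692) (.leaf 2233))) (.node (.node (.leaf 1956) (.leaf 2255)) (.node (.leaf 3352) (.leaf 2883))))) (.node (.node (.node (.node (.leaf 49) (.leaf 3668)) (.node (.leaf 2545) (.leaf 2258))) (.node (.node (.leaf 1681) (.leaf 1414)) (.node (.leaf 1178) (.leaf 4081)))) (.node (.node (.node (.leaf 1085) (.leaf 1118)) (.node (.leaf 2190) (.leaf 4072))) (.node (.node (.leaf 328) (.leaf 3938)) (.node (.leaf 3125) (.leaf 3140)))))) (.node (.node (.node (.node (.node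 (.leaf 29) (.leaf 3555)) (.node (.leaf 417) (.leaf 2059))) (.node (.node (.leaf 575) (.leaf 1408)) (.node (.leaf 1392) (.leaf 2264)))) (.node (.node (.node (.leaf 112) (.leaf 3623)) (.node (.leaf 2737) (.leaf 2275))) (.node (.node (.leaf 1670) (.leaf 2225)) (.node (.leaf 773) (.leaf 2978))))) (.node (.node (.node (.node (.leaf 663) (.leaf 3279)) (.node (.leaf 1997) (.leaf 2667))) (.node (.node (.leaf 1816) (.leaf 1434)) (.node (.leaf 3268) (.leaf 4034)))) (.node (.node (.node (.leaf 1265) (.leaf 3023)) (.node (.leaf 2905) (.leaf 2241))) (.node (.node (.leaf 359) (.leaf 1592)) (.node (.leaf 833) (.leaf 3632))))))))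

def twoNext10 : Janko.Tree (ℕ) :=
  (.node (.node (.node (.node (.node (.node (.node (.leaf 9) (.leaf 3549)) (.node (.leaf 2351) (.leaf 3948))) (.node (.node (.leaf 1334) (.leaf 1196)) (.node (.leaf 1096) (.leaf 2212)))) (.node (.node (.node (.leaf 90) (.leaf 3027)) (.node (.leaf 2611) (.leaf 2448))) (.node (.node (.leaf 268) (.leaf 2010)) (.node (.leaf 3308) (.leaf 3419))))) (.node (.node (.node (.node (.leaf 201) (.leaf 3077)) (.node (.leaf 1598) (.leaf 2188))) (.node (.node (.leaf 1607) (.leaf 1326)) (.node (.leaf 666) (.leaf 4065)))) (.node (.node (.node (.leaf 1060) (.leaf 1081)) (.node (.leaf 2222) (.leaf 2037))) (.node (.node (.leaf 2140) (.leaf 1527)) (.node (.leaf 3404) (.leaf 3564)))))) (.node (.node (.node (.node (.node (.leaf 216) (.leaf 3533)) (.node (.leaf 1681) (.leaf 2457))) (.node (.node (.leaf 1405) (.leaf 1403)) (.node (.leaf 2891) (.leaf 2183)))) (.node (.node (.node (.leaf 914) (.leaf 3665)) (.node (.leaf 519) (.leaf 2230))) (.node (.node (.leaf 1470) (.leaf 2334)) (.node (.leaf 1286) (.leaf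 3651))))) (.node (.node (.node (.node (.leaf 466) (.leaf 961)) (.node (.leaf 2587) (.leaf 1905))) (.node (.node (.leaf 406) (.leaf 3099)) (.node (.leaf 3236) (.leaf 4085)))) (.node (.node (.node (.leaf 934) (.leaf 1145)) (.node (.leaf 2840) (.leaf 3849))) (.node (.node (.leaf 1789) (.leaf 2154)) (.node (.leaf 3494) (.leaf 3799))))))) (.node (.node (.node (.node (.node (.node (.leaf 115) (.leaf 2817)) (.node (.leaf 2280) (.leaf 1628))) (.node (.node (.leaf 1293) (.leaf 1383)) (.node (.leaf 624) (.leaf 3997)))) (.node (.node (.node (.leaf 750) (.leaf 3544)) (.node (.leaf 2459) (.leaf 2610))) (.node (.node (.leaf 280) (.leaf 1716)) (.node (.leaf 843) (.leaf 3502))))) (.node (.node (.node (.node (.leaf 487) (.leaf 3622)) (.node (.leaf 2546) (.leaf 2383))) (.node (.node (.leaf 1663) (.leaf 3277)) (.node (.leaf 681) (.leaf 2408)))) (.node (.node (.node (.leaf 1125) (.leaf 1322)) (.node (.leaf 1946) (.leaf 1979))) (.node (.node (.leaf 1701) (.leaf 1551)) (.node (.leaf 3173) (.leaf 3282)))))) (.node (.node (.node (.node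 (.node (.leaf 313) (.leaf 1063)) (.node (.leaf 2324) (.leaf 4015))) (.node (.node (.leaf 208) (.leaf 3256)) (.node (.leaf 839) (.leaf 2403)))) (.node (.node (.node (.leaf 985) (.leaf 3574)) (.node (.leaf 2738) (.leaf 2005))) (.node (.node (.leaf 305) (.leaf 2179)) (.node (.leaf 2981) (.leaf 3101))))) (.node (.node (.node (.node (.leaf 664) (.leaf 980)) (.node (.leaf 2203) (.leaf 1787))) (.node (.node (.leaf 1759) (.leaf 3466)) (.node (.leaf 1032) (.leaf 2740)))) (.node (.node (.node (.leaf 160) (.leaf 3731)) (.node (.leaf 613) (.leaf 2145))) (.node (.node (.leaf 2295) (.leaf 2723)) (.node (.leaf 1137) (.leaf 3802))))))))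

def twoNext11 : Janko.Tree (ℕ) :=
  (.node (.node (.node (.node (.node (.node (.node (.leaf 10) (.leaf 1150)) (.node (.leaf 2352) (.leaf 214))) (.node (.node (.leaf 1335) (.leaf 3521)) (.node (.leaf 678) (.leaf 2571)))) (.node (.node (.node (.leaf 745) (.leaf 3392)) (.node (.leaf 54) (.leaf 2063))) (.node (.node (.leaf 486) (.leaf 3822)) (.node (.leaf 3106) (.leaf 888))))) (.node (.node (.node (.node (.leaf 407) (.leaf 2933)) (.node (.leaf 2445) (.leaf 332))) (.node (.node (.leaf 1608) (.leaf 3763)) (.node (.leaf 659) (.leaf 509)))) (.node (.node (.node (.leaf 1061) (.leaf 3012)) (.node (.leaf 2032) (.leaf 3905))) (.node (.node (.leaf 2141) (.leaf 1904)) (.node (.leaf 3449) (.leaf 3124)))))) (.node (.node (.node (.node (.node (.leaf 217) (.leaf 91)) (.node (.leaf 395) (.leaf 351))) (.node (.node (.leaf 16) (.leaf 3718)) (.node (.leaf 676) (.leaf 2634)))) (.node (.node (.node (.leaf 915) (.leaf 3404)) (.node (.leaf 2716) (.leaf 1768))) (.node (.node (.leaf 2021) (.leaf 2156)) (.node (.leaf 3165) (.leaf 1060)))))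 (.node (.node (.node (.node (.leaf 3) (.leaf 2909)) (.node (.leaf 2220) (.leaf 3989))) (.node (.node (.leaf 1750) (.leaf 935)) (.node (.leaf 81) (.leaf 3873)))) (.node (.node (.node (.leaf 1194) (.leaf 3686)) (.node (.leaf 2841) (.leaf 2739))) (.node (.node (.leaf 2069) (.leaf 2470)) (.node (.leaf 733) (.leaf 2842))))))) (.node (.node (.node (.node (.node (.node (.leaf 116) (.leaf 3044)) (.node (.leaf 1697) (.leaf 2501))) (.node (.node (.leaf 1401) (.leaf 1273)) (.node (.leaf 1069) (.leaf 3938)))) (.node (.node (.node (.leaf 827) (.leaf 1356)) (.node (.leaf 1614) (.leaf 1990))) (.node (.node (.leaf 1957) (.leaf 3847)) (.node (.leaf 1408) (.leaf 3433))))) (.node (.node (.node (.node (.leaf 488) (.leaf 3569)) (.node (.leaf 1735) (.leaf 1898))) (.node (.node (.leaf 1682) (.leaf 1122)) (.node (.leaf 3113) (.leaf 1646)))) (.node (.node (.node (.leaf 1126) (.leaf 967)) (.node (.leaf 2110) (.leaf 1507))) (.node (.node (.leaf 2199) (.leaf 1669)) (.node (.leaf 3472) (.leaf 3075)))))) (.node (.node (.node (.node (.node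 (.leaf 314) (.leaf 2804)) (.node (.leaf 1771) (.leaf 2525))) (.node (.node (.leaf 1540) (.leaf 1178)) (.node (.leaf 3116) (.leaf 2180)))) (.node (.node (.node (.leaf 986) (.leaf 3721)) (.node (.leaf 1564) (.leaf 540))) (.node (.node (.leaf 2074) (.leaf 1521)) (.node (.leaf 3211) (.leaf 710))))) (.node (.node (.node (.node (.leaf 665) (.leaf 1108)) (.node (.leaf 2630) (.leaf 527))) (.node (.node (.leaf 1817) (.leaf 3076)) (.node (.leaf 3269) (.leaf 1520)))) (.node (.node (.node (.leaf 1266) (.leaf 1182)) (.node (.leaf 2906) (.leaf 2139))) (.node (.node (.leaf 199) (.leaf 2642)) (.node (.leaf 1272) (.leaf 3576))))))))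

def twoNext12 : Janko.Tree (ℕ) :=
  (.node (.node (.node (.node (.node (.node (.node (.leaf 11) (.leaf 3550)) (.node (.leaf 2353) (.leaf 1614))) (.node (.node (.leaf 1336) (.leaf 3751)) (.node (.leaf 2960) (.leaf 2106)))) (.node (.node (.node (.leaf 746) (.leaf 3408)) (.node (.leaf 2537) (.leaf 2464))) (.node (.node (.leaf 348) (.leaf 2062)) (.node (.leaf 3309) (.leaf 3675))))) (.node (.node (.node (.node (.leaf 282) (.leaf 3181)) (.node (.leaf 2508) (.leaf 3926))) (.node (.node (.leaf 1609) (.leaf 3444)) (.node (.leaf 3162) (.leaf 3969)))) (.node (.node (.node (.leaf 952) (.leaf 1082)) (.node (.leaf 552) (.leaf 3985))) (.node (.node (.leaf 2142) (.leaf 3921)) (.node (.leaf 3405) (.leaf 3147)))))) (.node (.node (.node (.node (.node (.leaf 20) (.leaf 3593)) (.node (.leaf 424) (.leaf 2371))) (.node (.node (.leaf 1455) (.leaf 1331)) (.node (.leaf 641) (.leaf 2184)))) (.node (.node (.node (.leaf 916) (.leaf 3139)) (.node (.leaf 2698) (.leaf 2292))) (.node (.node (.leaf 2022) (.leaf 1494)) (.node (.leaf 2996) (.leaf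 2922))))) (.node (.node (.node (.node (.leaf 60) (.leaf 2992)) (.node (.leaf 462) (.leaf 1762))) (.node (.node (.leaf 1751) (.leaf 2889)) (.node (.leaf 698) (.leaf 2674)))) (.node (.node (.node (.leaf 688) (.leaf 3635)) (.node (.leaf 2842) (.leaf 3854))) (.node (.node (.leaf 2245) (.leaf 3946)) (.node (.leaf 3159) (.leaf 3513))))))) (.node (.node (.node (.node (.node (.node (.leaf 117) (.leaf 872)) (.node (.leaf 2164) (.leaf 1630))) (.node (.node (.leaf 817) (.leaf 3344)) (.node (.leaf 3005) (.leaf 3884)))) (.node (.node (.node (.leaf 828) (.leaf 3718)) (.node (.leaf 1797) (.leaf 2628))) (.node (.node (.leaf 1958) (.leaf 1984)) (.node (.leaf 742) (.leaf 3109))))) (.node (.node (.node (.node (.leaf 267) (.leaf 940)) (.node (.leaf 2547) (.leaf 1730))) (.node (.node (.leaf 1683) (.leaf 3469)) (.node (.leaf 1217) (.leaf 2731)))) (.node (.node (.node (.leaf 1127) (.leaf 1119)) (.node (.leaf 2792) (.leaf 1980))) (.node (.node (.leaf 368) (.leaf 2603)) (.node (.leaf 802) (.leaf 3741)))))) (.node (.node (.node (.node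 (.node (.leaf 315) (.leaf 3618)) (.node (.leaf 2474) (.leaf 1799))) (.node (.node (.leaf 1541) (.leaf 3056)) (.node (.leaf 3117) (.leaf 2535)))) (.node (.node (.node (.leaf 987) (.leaf 1061)) (.node (.leaf 537) (.leaf 2701))) (.node (.node (.leaf 1937) (.leaf 1512)) (.node (.leaf 1245) (.leaf 3696))))) (.node (.node (.node (.node (.leaf 70) (.leaf 983)) (.node (.leaf 2027) (.leaf 2268))) (.node (.node (.leaf 1818) (.leaf 1435)) (.node (.leaf 3270) (.leaf 4058)))) (.node (.node (.node (.leaf 1125) (.leaf 2951)) (.node (.leaf 863) (.leaf 3826))) (.node (.node (.leaf 2296) (.leaf 1593)) (.node (.leaf 1234) (.leaf 3802))))))))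

def twoNext13 : Janko.Tree (ℕ) :=
  (.node (.node (.node (.node (.node (.node (.node (.leaf 12) (.leaf 853)) (.node (.leaf 372) (.leaf 3828))) (.node (.node (.leaf 172) (.leaf 3628)) (.node (.leaf 2961) (.leaf 3864)))) (.node (.node (.node (.leaf 80) (.leaf 1001)) (.node (.leaf 492) (.leaf 1813))) (.node (.node (.leaf 1886) (.leaf 1831)) (.node (.leaf 3310) (.leaf 3210))))) (.node (.node (.node (.node (.leaf 408) (.leaf 918)) (.node (.leaf 431) (.leaf 1705))) (.node (.node (.leaf 220) (.leaf 1312)) (.node (.leaf 796) (.leaf 4057)))) (.node (.node (.node (.leaf 1062) (.leaf 1382)) (.node (.leaf 1544) (.leaf 2223))) (.node (.node (.leaf 2143) (.leaf 1945)) (.node (.leaf 3326) (.leaf 3055)))))) (.node (.node (.node (.node (.node (.leaf 218) (.leaf 3366)) (.node (.leaf 2055) (.leaf 1903))) (.node (.node (.leaf 198) (.leaf 3461)) (.node (.leaf 1427) (.leaf 2661)))) (.node (.node (.node (.leaf 917) (.leaf 3325)) (.node (.leaf 2717) (.leaf 2335))) (.node (.node (.leaf 1519) (.leaf 3874)) (.node (.leaf 3393) (.leaf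 3515))))) (.node (.node (.node (.node (.leaf 571) (.leaf 1290)) (.node (.leaf 1697) (.leaf 3875))) (.node (.node (.leaf 245) (.leaf 1396)) (.node (.leaf 896) (.leaf 4065)))) (.node (.node (.node (.leaf 1195) (.leaf 3328)) (.node (.leaf 2843) (.leaf 2023))) (.node (.node (.leaf 2246) (.leaf 1757)) (.node (.leaf 818) (.leaf 3255))))))) (.node (.node (.node (.node (.node (.node (.leaf 10) (.leaf 3566)) (.node (.leaf 2400) (.leaf 3955))) (.node (.node (.leaf 185) (.leaf 1268)) (.node (.leaf 625) (.leaf 2785)))) (.node (.node (.node (.leaf 90) (.leaf 1022)) (.node (.leaf 2693) (.leaf 3961))) (.node (.node (.leaf 1959) (.leaf 2601)) (.node (.leaf 3071) (.leaf 3267))))) (.node (.node (.node (.node (.leaf 489) (.leaf 3253)) (.node (.leaf 2250) (.leaf 2228))) (.node (.node (.leaf 230) (.leaf 1451)) (.node (.leaf 682) (.leaf 2546)))) (.node (.node (.node (.leaf 137) (.leaf 1354)) (.node (.leaf 569) (.leaf 2590))) (.node (.node (.leaf 2200) (.leaf 3939)) (.node (.leaf 3473) (.leaf 3655)))))) (.node (.node (.node (.node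 (.node (.leaf 316) (.leaf 1438)) (.node (.leaf 2475) (.leaf 1672))) (.node (.node (.leaf 1542) (.leaf 3010)) (.node (.leaf 652) (.leaf 2272)))) (.node (.node (.node (.leaf 988) (.leaf 2822)) (.node (.leaf 2611) (.leaf 2714))) (.node (.node (.leaf 2075) (.leaf 3898)) (.node (.leaf 791) (.leaf 2979))))) (.node (.node (.node (.node (.leaf 666) (.leaf 3426)) (.node (.leaf 527) (.leaf 1788))) (.node (.node (.leaf 1819) (.leaf 3037)) (.node (.leaf 712) (.leaf 4025)))) (.node (.node (.node (.leaf 1074) (.leaf 1213)) (.node (.leaf 597) (.leaf 2146))) (.node (.node (.leaf 2113) (.leaf 2788)) (.node (.leaf 959) (.leaf 3389))))))))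

def twoNext14 : Janko.Tree (ℕ) :=
  (.node (.node (.node (.node (.node (.node (.node (.leaf 0) (.leaf 1412)) (.node (.leaf 2354) (.leaf 1660))) (.node (.node (.leaf 1337) (.leaf 2816)) (.node (.leaf 2904) (.leaf 2665)))) (.node (.node (.node (.leaf 173) (.leaf 3477)) (.node (.leaf 2545) (.leaf 1944))) (.node (.node (.leaf 311) (.leaf 1463)) (.node (.leaf 3311) (.leaf 2844))))) (.node (.node (.node (.node (.leaf 265) (.leaf 2914)) (.node (.leaf 2418) (.leaf 2413))) (.node (.node (.leaf 1610) (.leaf 3787)) (.node (.leaf 3163) (.leaf 2590)))) (.node (.node (.node (.leaf 122) (.leaf 1127)) (.node (.leaf 2069) (.leaf 2345))) (.node (.node (.leaf 385) (.leaf 1800)) (.node (.leaf 786) (.leaf 3767)))))) (.node (.node (.node (.node (.node (.leaf 219) (.leaf 887)) (.node (.leaf 401) (.leaf 1651))) (.node (.node (.leaf 1456) (.leaf 3798)) (.node (.leaf 3059) (.leaf 3906)))) (.node (.node (.node (.leaf 101) (.leaf 3130)) (.node (.leaf 2041) (.leaf 2385))) (.node (.node (.leaf 2023) (.leaf 1548)) (.node (.leaf 757) (.leaf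 3721))))) (.node (.node (.node (.node (.leaf 549) (.leaf 2983)) (.node (.leaf 1713) (.leaf 2336))) (.node (.node (.leaf 1752) (.leaf 2975)) (.node (.leaf 2990) (.leaf 4006)))) (.node (.node (.node (.leaf 148) (.leaf 3722)) (.node (.leaf 585) (.leaf 4077))) (.node (.node (.leaf 343) (.leaf 1573)) (.node (.leaf 2948) (.leaf 3581))))))) (.node (.node (.node (.node (.node (.node (.leaf 118) (.leaf 917)) (.node (.leaf 2290) (.leaf 2365))) (.node (.node (.leaf 1402) (.leaf 1223)) (.node (.leaf 3006) (.leaf 3990)))) (.node (.node (.node (.leaf 829) (.leaf 3500)) (.node (.leaf 506) (.leaf 1832))) (.node (.node (.leaf 1960) (.leaf 1479)) (.node (.leaf 3353) (.leaf 3390))))) (.node (.node (.node (.node (.leaf 490) (.leaf 2887)) (.node (.leaf 447) (.leaf 1748))) (.node (.node (.leaf 1684) (.leaf 3042)) (.node (.leaf 1193) (.leaf 2456)))) (.node (.node (.node (.leaf 1128) (.leaf 3563)) (.node (.leaf 1739) (.leaf 3889))) (.node (.node (.leaf 2201) (.leaf 2645)) (.node (.leaf 3070) (.leaf 3140)))))) (.node (.node (.node (.node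 (.node (.leaf 317) (.leaf 3357)) (.node (.leaf 417) (.leaf 4016))) (.node (.node (.leaf 1543) (.leaf 1274)) (.node (.leaf 698) (.leaf 2325)))) (.node (.node (.node (.leaf 927) (.leaf 3682)) (.node (.leaf 2739) (.leaf 4050))) (.node (.node (.leaf 2076) (.leaf 1809)) (.node (.leaf 3300) (.leaf 3621))))) (.node (.node (.node (.node (.leaf 633) (.leaf 1138)) (.node (.leaf 477) (.leaf 1998))) (.node (.node (.leaf 256) (.leaf 3813)) (.node (.leaf 3149) (.leaf 2743)))) (.node (.node (.node (.leaf 677) (.leaf 1176)) (.node (.leaf 2907) (.leaf 2491))) (.node (.node (.leaf 359) (.leaf 3944)) (.node (.leaf 833) (.leaf 3801))))))))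

def twoNext15 : Janko.Tree (ℕ) :=
  (.node (.node (.node (.node (.node (.node (.node (.leaf 13) (.leaf 3551)) (.node (.leaf 2355) (.leaf 3904))) (.node (.node (.leaf 1338) (.leaf 1379)) (.node (.leaf 734) (.leaf 2741)))) (.node (.node (.node (.leaf 747) (.leaf 2958)) (.node (.leaf 2665) (.leaf 2129))) (.node (.node (.leaf 1887) (.leaf 3823)) (.node (.leaf 3312) (.leaf 1441))))) (.node (.node (.node (.node (.leaf 260) (.leaf 614)) (.node (.leaf 532) (.leaf 4004))) (.node (.node (.leaf 1611) (.leaf 3666)) (.node (.leaf 3164) (.leaf 1567)))) (.node (.node (.node (.leaf 1063) (.leaf 3455)) (.node (.leaf 2765) (.leaf 2066))) (.node (.node (.leaf 2144) (.leaf 3922)) (.node (.leaf 3450) (.leaf 3080)))))) (.node (.node (.node (.node (.node (.leaf 220) (.leaf 816)) (.node (.leaf 2442) (.leaf 3912))) (.node (.node (.leaf 1457) (.leaf 1424)) (.node (.leaf 183) (.leaf 4066)))) (.node (.node (.node (.leaf 918) (.leaf 865)) (.node (.leaf 1461) (.leaf 4054))) (.node (.node (.leaf 2024) (.leaf 2569)) (.node (.leaf 3394) (.leaf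 3178))))) (.node (.node (.node (.node (.leaf 572) (.leaf 1110)) (.node (.leaf 2588) (.leaf 2608))) (.node (.node (.leaf 1753) (.leaf 3759)) (.node (.leaf 3237) (.leaf 459)))) (.node (.node (.node (.leaf 1196) (.leaf 3162)) (.node (.leaf 2844) (.leaf 3935))) (.node (.node (.leaf 1982) (.leaf 2111)) (.node (.leaf 3499) (.leaf 3541))))))) (.node (.node (.node (.node (.node (.node (.leaf 119) (.leaf 3567)) (.node (.leaf 1883) (.leaf 403))) (.node (.node (.leaf 1403) (.leaf 3190)) (.node (.leaf 3007) (.leaf 3896)))) (.node (.node (.node (.leaf 830) (.leaf 1296)) (.node (.leaf 2694) (.leaf 2345))) (.node (.node (.leaf 408) (.leaf 2471)) (.node (.leaf 3354) (.leaf 703))))) (.node (.node (.node (.node (.leaf 491) (.leaf 3205)) (.node (.leaf 1812) (.leaf 3894))) (.node (.node (.leaf 313) (.leaf 124)) (.node (.leaf 3031) (.leaf 1683)))) (.node (.node (.node (.leaf 634) (.leaf 3207)) (.node (.leaf 2793) (.leaf 2552))) (.node (.node (.leaf 2018) (.leaf 2368)) (.node (.leaf 3422) (.leaf 3816)))))) (.node (.node (.node (.node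 (.node (.leaf 318) (.leaf 3619)) (.node (.leaf 2476) (.leaf 2785))) (.node (.node (.leaf 1544) (.leaf 993)) (.node (.leaf 3118) (.leaf 34)))) (.node (.node (.node (.leaf 989) (.leaf 2954)) (.node (.leaf 453) (.leaf 354))) (.node (.node (.leaf 2070) (.leaf 3899)) (.node (.leaf 77) (.leaf 666))))) (.node (.node (.node (.node (.leaf 667) (.leaf 3003)) (.node (.leaf 2523) (.leaf 516))) (.node (.node (.leaf 1820) (.leaf 1301)) (.node (.leaf 767) (.leaf 2138)))) (.node (.node (.node (.leaf 1267) (.leaf 1056)) (.node (.leaf 2908) (.leaf 305))) (.node (.node (.leaf 1787) (.leaf 1935)) (.node (.leaf 3519) (.leaf 3184))))))))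

def twoNext16 : Janko.Tree (ℕ) :=
  (.node (.node (.node (.node (.node (.node (.node (.leaf 14) (.leaf 1282)) (.node (.leaf 1703) (.leaf 3973))) (.node (.node (.leaf 1339) (.leaf 3209)) (.node (.leaf 2962) (.leaf 2108)))) (.node (.node (.node (.leaf 748) (.leaf 3272)) (.node (.leaf 2549) (.leaf 2314))) (.node (.node (.leaf 1888) (.leaf 2089)) (.node (.leaf 729) (.leaf 3437))))) (.node (.node (.node (.node (.leaf 40) (.leaf 2929)) (.node (.leaf 2478) (.leaf 2318))) (.node (.node (.leaf 1492) (.leaf 3349)) (.node (.leaf 3165) (.leaf 2334)))) (.node (.node (.node (.leaf 1064) (.leaf 3185)) (.node (.leaf 553) (.leaf 2461))) (.node (.node (.leaf 318) (.leaf 3923)) (.node (.leaf 1306) (.leaf 3767)))))) (.node (.node (.node (.node (.node (.leaf 221) (.leaf 2865)) (.node (.leaf 2443) (.leaf 3832))) (.node (.node (.leaf 239) (.leaf 3363)) (.node (.leaf 1421) (.leaf 2185)))) (.node (.node (.node (.leaf 919) (.leaf 1039)) (.node (.leaf 1569) (.leaf 1862))) (.node (.node (.leaf 347) (.leaf 3824)) (.node (.leaf 758) (.leaf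 3087))))) (.node (.node (.node (.node (.leaf 573) (.leaf 962)) (.node (.leaf 2417) (.leaf 2049))) (.node (.node (.leaf 405) (.leaf 2870)) (.node (.leaf 3157) (.leaf 4077)))) (.node (.node (.node (.leaf 1197) (.leaf 1146)) (.node (.leaf 2845) (.leaf 2766))) (.node (.node (.leaf 1878) (.leaf 2511)) (.node (.leaf 3397) (.leaf 3389))))))) (.node (.node (.node (.node (.node (.node (.leaf 120) (.leaf 1367)) (.node (.leaf 2401) (.leaf 2642))) (.node (.node (.leaf 1191) (.leaf 3345)) (.node (.leaf 1216) (.leaf 2264)))) (.node (.node (.node (.leaf 166) (.leaf 3089)) (.node (.leaf 507) (.leaf 1951))) (.node (.node (.leaf 281) (.leaf 3848)) (.node (.leaf 3355) (.leaf 3022))))) (.node (.node (.node (.node (.leaf 492) (.leaf 3346)) (.node (.leaf 2548) (.leaf 2448))) (.node (.node (.leaf 1685) (.leaf 3729)) (.node (.leaf 3200) (.leaf 2516)))) (.node (.node (.node (.leaf 1129) (.leaf 1120)) (.node (.leaf 1791) (.leaf 2743))) (.node (.node (.leaf 329) (.leaf 1553)) (.node (.leaf 1090) (.leaf 3305)))))) (.node (.node (.node (.node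 (.node (.leaf 30) (.leaf 902)) (.node (.leaf 2241) (.leaf 3831))) (.node (.node (.leaf 1465) (.leaf 3409)) (.node (.leaf 3093) (.leaf 2265)))) (.node (.node (.node (.leaf 113) (.leaf 1321)) (.node (.leaf 2740) (.leaf 2570))) (.node (.node (.leaf 306) (.leaf 1618)) (.node (.leaf 774) (.leaf 3578))))) (.node (.node (.node (.node (.leaf 668) (.leaf 3007)) (.node (.leaf 1899) (.leaf 2624))) (.node (.node (.leaf 1821) (.leaf 3497)) (.node (.leaf 3234) (.leaf 4045)))) (.node (.node (.node (.leaf 1049) (.leaf 3143)) (.node (.leaf 642) (.leaf 2760))) (.node (.node (.leaf 2028) (.leaf 3957)) (.node (.leaf 1005) (.leaf 3803))))))))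

def twoNext17 : Janko.Tree (ℕ) :=
  (.node (.node (.node (.node (.node (.node (.node (.leaf 15) (.leaf 3448)) (.node (.leaf 535) (.leaf 2060))) (.node (.node (.leaf 1340) (.leaf 3379)) (.node (.leaf 1435) (.leaf 2106)))) (.node (.node (.node (.leaf 749) (.leaf 3236)) (.node (.leaf 1861) (.leaf 1814))) (.node (.node (.leaf 269) (.leaf 3824)) (.node (.leaf 3116) (.leaf 2948))))) (.node (.node (.node (.node (.leaf 409) (.leaf 3392)) (.node (.leaf 2384) (.leaf 3880))) (.node (.node (.leaf 1612) (.leaf 1314)) (.node (.leaf 667) (.leaf 4055)))) (.node (.node (.node (.leaf 868) (.leaf 1450)) (.node (.leaf 2256) (.leaf 1938))) (.node (.node (.leaf 2145) (.leaf 3844)) (.node (.leaf 3451) (.leaf 3550)))))) (.node (.node (.node (.node (.node (.leaf 20) (.leaf 1105)) (.node (.leaf 2444) (.leaf 4002))) (.node (.node (.leaf 1458) (.leaf 1248)) (.node (.leaf 3060) (.leaf 2622)))) (.node (.node (.node (.leaf 717) (.leaf 1095)) (.node (.leaf 520) (.leaf 3885))) (.node (.node (.leaf 294) (.leaf 1494)) (.node (.leaf 3296) (.leaf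 3689))))) (.node (.node (.node (.node (.leaf 60) (.leaf 3115)) (.node (.leaf 462) (.leaf 1762))) (.node (.node (.leaf 1754) (.leaf 3812)) (.node (.leaf 3238) (.leaf 2529)))) (.node (.node (.node (.leaf 1198) (.leaf 3418)) (.node (.leaf 1142) (.leaf 2343))) (.node (.node (.leaf 344) (.leaf 1574)) (.node (.leaf 3231) (.leaf 4094))))))) (.node (.node (.node (.node (.node (.node (.leaf 121) (.leaf 3568)) (.node (.leaf 437) (.leaf 1630))) (.node (.node (.leaf 1404) (.leaf 1224)) (.node (.leaf 3008) (.leaf 2647)))) (.node (.node (.node (.leaf 831) (.leaf 3430)) (.node (.leaf 2695) (.leaf 2424))) (.node (.node (.leaf 1850) (.leaf 3817)) (.node (.leaf 3246) (.leaf 2885))))) (.node (.node (.node (.node (.leaf 50) (.leaf 940)) (.node (.leaf 448) (.leaf 2308))) (.node (.node (.leaf 1686) (.leaf 1356)) (.node (.leaf 3150) (.leaf 2416)))) (.node (.node (.node (.leaf 1130) (.leaf 3616)) (.node (.leaf 2794) (.leaf 1980))) (.node (.node (.leaf 1590) (.leaf 2144)) (.node (.leaf 802) (.leaf 3382)))))) (.node (.node (.node (.node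 (.node (.leaf 319) (.leaf 1172)) (.node (.leaf 2207) (.leaf 2065))) (.node (.node (.leaf 209) (.leaf 1275)) (.node (.leaf 830) (.leaf 2748)))) (.node (.node (.node (.leaf 654) (.leaf 1061)) (.node (.leaf 537) (.leaf 1905))) (.node (.node (.leaf 388) (.leaf 3900)) (.node (.leaf 979) (.leaf 3789))))) (.node (.node (.node (.node (.leaf 70) (.leaf 3227)) (.node (.leaf 2631) (.leaf 1803))) (.node (.node (.leaf 1822) (.leaf 3043)) (.node (.leaf 3063) (.leaf 2756)))) (.node (.node (.node (.leaf 161) (.leaf 3384)) (.node (.leaf 2909) (.leaf 3998))) (.node (.node (.leaf 360) (.leaf 3856)) (.node (.leaf 3520) (.leaf 3421))))))))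

def twoNext18 : Janko.Tree (ℕ) :=
  (.node (.node (.node (.node (.node (.node (.node (.leaf 16) (.leaf 3303)) (.node (.leaf 372) (.leaf 1614))) (.node (.node (.leaf 172) (.leaf 1197)) (.node (.leaf 2963) (.leaf 3860)))) (.node (.node (.node (.leaf 80) (.leaf 2892)) (.node (.leaf 492) (.leaf 1875))) (.node (.node (.leaf 1889) (.leaf 1547)) (.node (.leaf 3313) (.leaf 3153))))) (.node (.node (.node (.node (.leaf 255) (.leaf 918)) (.node (.leaf 2509) (.leaf 4023))) (.node (.node (.leaf 220) (.leaf 3784)) (.node (.leaf 3166) (.leaf 3935)))) (.node (.node (.node (.leaf 992) (.leaf 3754)) (.node (.leaf 2051) (.leaf 2302))) (.node (.node (.leaf 328) (.leaf 1987)) (.node (.leaf 3264) (.leaf 3144)))))) (.node (.node (.node (.node (.node (.leaf 222) (.leaf 945)) (.node (.leaf 2445) (.leaf 4003))) (.node (.node (.leaf 198) (.leaf 2995)) (.node (.leaf 641) (.leaf 2734)))) (.node (.node (.node (.leaf 672) (.leaf 3719)) (.node (.leaf 551) (.leaf 3994))) (.node (.node (.leaf 1943) (.leaf 2661)) (.node (.leaf 1179) (.leaf 3776)))))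 (.node (.node (.node (.node (.leaf 574) (.leaf 3418)) (.node (.leaf 2589) (.leaf 2177))) (.node (.node (.leaf 245) (.leaf 1396)) (.node (.leaf 3239) (.leaf 3818)))) (.node (.node (.node (.leaf 1199) (.leaf 3195)) (.node (.leaf 744) (.leaf 4079))) (.node (.node (.leaf 1842) (.leaf 2127)) (.node (.leaf 818) (.leaf 3384))))))) (.node (.node (.node (.node (.node (.node (.leaf 10) (.leaf 1264)) (.node (.leaf 386) (.leaf 3933))) (.node (.node (.leaf 745) (.leaf 3071)) (.node (.leaf 806) (.leaf 2196)))) (.node (.node (.node (.leaf 832) (.leaf 1022)) (.node (.leaf 2092) (.leaf 1958))) (.node (.node (.leaf 1871) (.leaf 2021)) (.node (.leaf 742) (.leaf 3112))))) (.node (.node (.node (.node (.leaf 493) (.leaf 3586)) (.node (.leaf 2549) (.leaf 1730))) (.node (.node (.leaf 230) (.leaf 3659)) (.node (.leaf 3201) (.leaf 4061)))) (.node (.node (.node (.leaf 137) (.leaf 3761)) (.node (.leaf 2624) (.leaf 4076))) (.node (.node (.leaf 352) (.leaf 2245)) (.node (.leaf 3231) (.leaf 3141)))))) (.node (.node (.node (.node (.node (.leaf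 320) (.leaf 935)) (.node (.leaf 1581) (.leaf 1672))) (.node (.node (.leaf 239) (.leaf 3002)) (.node (.leaf 1400) (.leaf 2285)))) (.node (.node (.node (.leaf 123) (.leaf 3579)) (.node (.leaf 2741) (.leaf 2560))) (.node (.node (.leaf 2077) (.leaf 3871)) (.node (.leaf 823) (.leaf 3727))))) (.node (.node (.node (.node (.leaf 669) (.leaf 2909)) (.node (.leaf 2532) (.leaf 1891))) (.node (.node (.leaf 1823) (.leaf 1435)) (.node (.leaf 3271) (.leaf 2774)))) (.node (.node (.node (.leaf 1018) (.leaf 1252)) (.node (.leaf 1280) (.leaf 2557))) (.node (.node (.leaf 2297) (.leaf 1593)) (.node (.leaf 1043) (.leaf 3793))))))))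

def twoNext19 : Janko.Tree (ℕ) :=
  (.node (.node (.node (.node (.node (.node (.node (.leaf 17) (.leaf 641)) (.node (.leaf 1622) (.leaf 2145))) (.node (.node (.leaf 1341) (.leaf 2985)) (.node (.leaf 174) (.leaf 2307)))) (.node (.node (.node (.leaf 750) (.leaf 3707)) (.node (.leaf 2666) (.leaf 3845))) (.node (.node (.leaf 1694) (.leaf 1465)) (.node (.leaf 3046) (.leaf 3797))))) (.node (.node (.node (.node (.leaf 269) (.leaf 3649)) (.node (.leaf 2510) (.leaf 2086))) (.node (.node (.leaf 1613) (.leaf 800)) (.node (.leaf 108) (.leaf 1673)))) (.node (.node (.node (.leaf 1065) (.leaf 3037)) (.node (.leaf 2601) (.leaf 1738))) (.node (.node (.leaf 2146) (.leaf 2722)) (.node (.leaf 985) (.leaf 3722)))))) (.node (.node (.node (.node (.node (.leaf 223) (.leaf 3041)) (.node (.leaf 1943) (.leaf 1728))) (.node (.node (.leaf 1459) (.leaf 3799)) (.node (.leaf 3061) (.leaf 2058)))) (.node (.node (.node (.leaf 920) (.leaf 928)) (.node (.leaf 2422) (.leaf 422))) (.node (.node (.leaf 2025) (.leaf 3875)) (.node (.leaf 3395) (.leaf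 739))))) (.node (.node (.node (.node (.leaf 575) (.leaf 3425)) (.node (.leaf 2590) (.leaf 2603))) (.node (.node (.leaf 1755) (.leaf 3774)) (.node (.leaf 1209) (.leaf 4047)))) (.node (.node (.node (.leaf 1200) (.leaf 3689)) (.node (.leaf 738) (.leaf 2042))) (.node (.node (.leaf 2247) (.leaf 1469)) (.node (.leaf 3500) (.leaf 712))))))) (.node (.node (.node (.node (.node (.node (.leaf 122) (.leaf 143)) (.node (.leaf 2402) (.leaf 1675))) (.node (.node (.leaf 1405) (.leaf 948)) (.node (.leaf 3009) (.leaf 1455)))) (.node (.node (.node (.leaf 833) (.leaf 3719)) (.node (.leaf 2039) (.leaf 1542))) (.node (.node (.leaf 1961) (.leaf 2319)) (.node (.leaf 3356) (.leaf 100))))) (.node (.node (.node (.node (.leaf 494) (.leaf 193)) (.node (.leaf 216) (.leaf 1563))) (.node (.node (.leaf 1687) (.leaf 3492)) (.node (.leaf 872) (.leaf 4063)))) (.node (.node (.node (.leaf 1131) (.leaf 1261)) (.node (.leaf 2400) (.leaf 3858))) (.node (.node (.leaf 2202) (.leaf 2250)) (.node (.leaf 2922) (.leaf 3247)))))) (.node (.node (.node (.node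 (.node (.leaf 321) (.leaf 3620)) (.node (.leaf 554) (.leaf 4017))) (.node (.node (.leaf 1545) (.leaf 1220)) (.node (.leaf 3119) (.leaf 1927)))) (.node (.node (.node (.leaf 752) (.leaf 3720)) (.node (.leaf 2077) (.leaf 2005))) (.node (.node (.leaf 2078) (.leaf 411)) (.node (.leaf 1309) (.leaf 1351))))) (.node (.node (.node (.node (.leaf 670) (.leaf 637)) (.node (.leaf 1576) (.leaf 24))) (.node (.node (.leaf 1824) (.leaf 1331)) (.node (.leaf 2941) (.leaf 4053)))) (.node (.node (.node (.leaf 1268) (.leaf 3249)) (.node (.leaf 2910) (.leaf 256))) (.node (.node (.leaf 2298) (.leaf 366)) (.node (.leaf 748) (.leaf 3592))))))))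

def twoNext20 : Janko.Tree (ℕ) :=
  (.node (.node (.node (.node (.node (.node (.node (.leaf 18) (.leaf 1097)) (.node (.leaf 1621) (.leaf 2328))) (.node (.node (.leaf 1342) (.leaf 3452)) (.node (.leaf 611) (.leaf 2774)))) (.node (.node (.node (.leaf 751) (.leaf 3058)) (.node (.leaf 493) (.leaf 1846))) (.node (.node (.leaf 468) (.leaf 1464)) (.node (.leaf 1315) (.leaf 3601))))) (.node (.node (.node (.node (.leaf 410) (.leaf 3650)) (.node (.leaf 1610) (.leaf 1861))) (.node (.node (.leaf 1530) (.leaf 3805)) (.node (.leaf 2910) (.leaf 2527)))) (.node (.node (.node (.leaf 1066) (.leaf 3080)) (.node (.leaf 2005) (.leaf 3842))) (.node (.node (.leaf 1677) (.leaf 3924)) (.node (.leaf 2841) (.leaf 3076)))))) (.node (.node (.node (.node (.node (.leaf 224) (.leaf 3410)) (.node (.leaf 402) (.leaf 1652))) (.node (.node (.leaf 1460) (.leaf 3303)) (.node (.leaf 1006) (.leaf 4059)))) (.node (.node (.node (.leaf 102) (.leaf 3250)) (.node (.leaf 2718) (.leaf 1988))) (.node (.node (.leaf 2026) (.leaf 2136)) (.node (.leaf 3205) (.leaf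 3721))))) (.node (.node (.node (.node (.leaf 576) (.leaf 963)) (.node (.leaf 2591) (.leaf 3984))) (.node (.node (.leaf 1725) (.leaf 2969)) (.node (.leaf 700) (.leaf 4046)))) (.node (.node (.node (.leaf 149) (.leaf 3122)) (.node (.leaf 586) (.leaf 2025))) (.node (.node (.leaf 1556) (.leaf 3885)) (.node (.leaf 3501) (.leaf 3263))))))) (.node (.node (.node (.node (.node (.node (.leaf 123) (.leaf 873)) (.node (.leaf 2403) (.leaf 3875))) (.node (.node (.leaf 186) (.leaf 2961)) (.node (.leaf 3010) (.leaf 4042)))) (.node (.node (.node (.leaf 91) (.leaf 3111)) (.node (.leaf 2696) (.leaf 2400))) (.node (.node (.leaf 1870) (.leaf 3849)) (.node (.leaf 2981) (.leaf 3671))))) (.node (.node (.node (.node (.leaf 251) (.leaf 941)) (.node (.leaf 1840) (.leaf 1758))) (.node (.node (.leaf 1688) (.leaf 3474)) (.node (.leaf 1102) (.leaf 4010)))) (.node (.node (.node (.leaf 1132) (.leaf 3354)) (.node (.leaf 570) (.leaf 4031))) (.node (.node (.leaf 1666) (.leaf 1829)) (.node (.leaf 3337) (.leaf 3142)))))) (.node (.node (.node (.node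 (.node (.leaf 322) (.leaf 903)) (.node (.leaf 483) (.leaf 2190))) (.node (.node (.leaf 1521) (.leaf 2866)) (.node (.leaf 683) (.leaf 2288)))) (.node (.node (.node (.leaf 634) (.leaf 3230)) (.node (.leaf 2742) (.leaf 2704))) (.node (.node (.leaf 2079) (.leaf 1513)) (.node (.leaf 3403) (.leaf 2989))))) (.node (.node (.node (.node (.leaf 671) (.leaf 3065)) (.node (.leaf 478) (.leaf 1789))) (.node (.node (.leaf 257) (.leaf 3763)) (.node (.leaf 1108) (.leaf 2784)))) (.node (.node (.node (.leaf 1118) (.leaf 3615)) (.node (.leaf 1249) (.leaf 2123))) (.node (.node (.leaf 1977) (.leaf 1594)) (.node (.leaf 3414) (.leaf 4089))))))))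

def twoNext21 : Janko.Tree (ℕ) :=
  (.node (.node (.node (.node (.node (.node (.node (.leaf 1) (.leaf 855)) (.node (.leaf 2356) (.leaf 2360))) (.node (.node (.leaf 1127) (.leaf 3509)) (.node (.leaf 2964) (.leaf 2108)))) (.node (.node (.node (.leaf 752) (.leaf 1003)) (.node (.leaf 2119) (.leaf 3989))) (.node (.node (.leaf 1890) (.leaf 1833)) (.node (.leaf 729) (.leaf 2849))))) (.node (.node (.node (.node (.leaf 40) (.leaf 3502)) (.node (.leaf 432) (.leaf 1706))) (.node (.node (.leaf 1614) (.leaf 1315)) (.node (.leaf 3167) (.leaf 3825)))) (.node (.node (.node (.leaf 123) (.leaf 1083)) (.node (.leaf 1656) (.leaf 2627))) (.node (.node (.leaf 318) (.leaf 1530)) (.node (.leaf 3452) (.leaf 3436)))))) (.node (.node (.node (.node (.node (.leaf 225) (.leaf 888)) (.node (.leaf 466) (.leaf 3964))) (.node (.node (.leaf 1461) (.leaf 3624)) (.node (.leaf 3062) (.leaf 2460)))) (.node (.node (.node (.leaf 921) (.leaf 3351)) (.node (.leaf 2488) (.leaf 1862))) (.node (.node (.leaf 2027) (.leaf 3876)) (.node (.leaf 1284) (.leaf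 3369))))) (.node (.node (.node (.node (.leaf 577) (.leaf 1147)) (.node (.leaf 2592) (.leaf 2002))) (.node (.node (.leaf 1756) (.leaf 2940)) (.node (.leaf 3240) (.leaf 2534)))) (.node (.node (.node (.leaf 1201) (.leaf 3412)) (.node (.leaf 2846) (.leaf 2353))) (.node (.node (.leaf 2248) (.leaf 3947)) (.node (.leaf 3438) (.leaf 3338))))))) (.node (.node (.node (.node (.node (.node (.leaf 124) (.leaf 1210)) (.node (.leaf 2404) (.leaf 2328))) (.node (.node (.leaf 1406) (.leaf 2933)) (.node (.leaf 626) (.leaf 2149)))) (.node (.node (.node (.leaf 834) (.leaf 1279)) (.node (.leaf 507) (.leaf 4061))) (.node (.node (.leaf 1962) (.leaf 2182)) (.node (.leaf 3357) (.leaf 3647))))) (.node (.node (.node (.node (.leaf 495) (.leaf 989)) (.node (.leaf 2550) (.leaf 1948))) (.node (.node (.leaf 1689) (.leaf 1358)) (.node (.leaf 683) (.leaf 2419)))) (.node (.node (.node (.leaf 1067) (.leaf 1120)) (.node (.leaf 1745) (.leaf 3965))) (.node (.node (.leaf 438) (.leaf 1553)) (.node (.leaf 3474) (.leaf 4091)))))) (.node (.node (.node (.node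 (.node (.leaf 30) (.leaf 3621)) (.node (.leaf 2477) (.leaf 2615))) (.node (.node (.leaf 1546) (.leaf 3651)) (.node (.leaf 981) (.leaf 2266)))) (.node (.node (.node (.leaf 113) (.leaf 3723)) (.node (.leaf 2743) (.leaf 1906))) (.node (.node (.leaf 306) (.leaf 1774)) (.node (.leaf 3191) (.leaf 3245))))) (.node (.node (.node (.node (.leaf 672) (.leaf 984)) (.node (.leaf 2632) (.leaf 2498))) (.node (.node (.leaf 1825) (.leaf 3664)) (.node (.leaf 2910) (.leaf 3976)))) (.node (.node (.node (.leaf 1269) (.leaf 1177)) (.node (.leaf 598) (.leaf 2226))) (.node (.node (.leaf 2299) (.leaf 3966)) (.node (.leaf 1151) (.leaf 3545))))))))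

def twoNext22 : Janko.Tree (ℕ) :=
  (.node (.node (.node (.node (.node (.node (.node (.leaf 19) (.leaf 3222)) (.node (.leaf 2357) (.leaf 2178))) (.node (.node (.leaf 1075) (.leaf 1198)) (.node (.leaf 2871) (.leaf 4033)))) (.node (.node (.node (.leaf 753) (.leaf 3150)) (.node (.leaf 2548) (.leaf 2044))) (.node (.node (.leaf 1784) (.leaf 1552)) (.node (.leaf 3314) (.leaf 3467))))) (.node (.node (.node (.node (.leaf 411) (.leaf 2931)) (.node (.leaf 2511) (.leaf 4012))) (.node (.node (.leaf 1615) (.leaf 3425)) (.node (.leaf 667) (.leaf 2410)))) (.node (.node (.node (.leaf 1067) (.leaf 3648)) (.node (.leaf 553) (.leaf 1939))) (.node (.node (.leaf 375) (.leaf 3925)) (.node (.leaf 3439) (.leaf 4090)))))) (.node (.node (.node (.node (.node (.leaf 20) (.leaf 3594)) (.node (.leaf 1746) (.leaf 4004))) (.node (.node (.leaf 1462) (.leaf 1297)) (.node (.leaf 737) (.leaf 2721)))) (.node (.node (.node (.leaf 922) (.leaf 1039)) (.node (.leaf 2719) (.leaf 2075))) (.node (.node (.leaf 2028) (.leaf 3877)) (.node (.leaf 758) (.leaf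 3230))))) (.node (.node (.node (.node (.leaf 60) (.leaf 2980)) (.node (.leaf 2593) (.leaf 1836))) (.node (.node (.leaf 1757) (.leaf 2842)) (.node (.leaf 3223) (.leaf 2636)))) (.node (.node (.node (.leaf 687) (.leaf 1148)) (.node (.leaf 2847) (.leaf 2332))) (.node (.node (.leaf 344) (.leaf 1608)) (.node (.leaf 1301) (.leaf 3795))))))) (.node (.node (.node (.node (.node (.node (.leaf 125) (.leaf 946)) (.node (.leaf 2326) (.leaf 1630))) (.node (.node (.leaf 195) (.leaf 3607)) (.node (.leaf 3011) (.leaf 3939)))) (.node (.node (.node (.leaf 150) (.leaf 3093)) (.node (.leaf 2567) (.leaf 2508))) (.node (.node (.leaf 281) (.leaf 3850)) (.node (.leaf 3301) (.leaf 2885))))) (.node (.node (.node (.node (.leaf 50) (.leaf 3593)) (.node (.leaf 491) (.leaf 2063))) (.node (.node (.leaf 483) (.leaf 3687)) (.node (.leaf 930) (.leaf 2512)))) (.node (.node (.node (.leaf 1036) (.leaf 3762)) (.node (.leaf 2584) (.leaf 2605))) (.node (.node (.leaf 329) (.leaf 1890)) (.node (.leaf 3463) (.leaf 3632)))))) (.node (.node (.node (.node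 (.node (.leaf 323) (.leaf 3482)) (.node (.leaf 418) (.leaf 1954))) (.node (.node (.leaf 1506) (.leaf 2884)) (.node (.leaf 653) (.leaf 2429)))) (.node (.node (.node (.leaf 919) (.leaf 2920)) (.node (.leaf 537) (.leaf 4008))) (.node (.node (.leaf 2080) (.leaf 1546)) (.node (.leaf 774) (.leaf 3352))))) (.node (.node (.node (.node (.leaf 70) (.leaf 2848)) (.node (.leaf 2633) (.leaf 1829))) (.node (.node (.leaf 485) (.leaf 3420)) (.node (.leaf 713) (.leaf 2787)))) (.node (.node (.node (.leaf 741) (.leaf 3737)) (.node (.leaf 1418) (.leaf 2131))) (.node (.node (.leaf 2300) (.leaf 1679)) (.node (.leaf 2852) (.leaf 4093))))))))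

def twoNext23 : Janko.Tree (ℕ) :=
  (.node (.node (.node (.node (.node (.node (.node (.leaf 20) (.leaf 3139)) (.node (.leaf 2351) (.leaf 3977))) (.node (.node (.leaf 1343) (.leaf 3682)) (.node (.leaf 1262) (.leaf 1701)))) (.node (.node (.node (.leaf 11) (.leaf 3708)) (.node (.leaf 2059) (.leaf 4023))) (.node (.node (.leaf 1891) (.leaf 2539)) (.node (.leaf 2917) (.leaf 3811))))) (.node (.node (.node (.node (.leaf 412) (.leaf 1198)) (.node (.leaf 309) (.leaf 2718))) (.node (.node (.leaf 1616) (.leaf 879)) (.node (.leaf 1285) (.leaf 2194)))) (.node (.node (.node (.leaf 1068) (.leaf 1051)) (.node (.leaf 2766) (.leaf 1541))) (.node (.node (.leaf 2147) (.leaf 416)) (.node (.leaf 3437) (.leaf 3642)))))) (.node (.node (.node (.node (.node (.leaf 226) (.leaf 1260)) (.node (.leaf 1757) (.leaf 1578))) (.node (.node (.leaf 1463) (.leaf 1155)) (.node (.leaf 826) (.leaf 4045)))) (.node (.node (.node (.leaf 923) (.leaf 3575)) (.node (.leaf 208) (.leaf 1897))) (.node (.node (.leaf 2029) (.leaf 2423)) (.node (.leaf 2843) (.leaf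 951))))) (.node (.node (.node (.node (.leaf 578) (.leaf 2938)) (.node (.leaf 2169) (.leaf 1910))) (.node (.node (.leaf 1758) (.leaf 782)) (.node (.leaf 3228) (.leaf 4085)))) (.node (.node (.node (.leaf 1202) (.leaf 3381)) (.node (.leaf 2848) (.leaf 2572))) (.node (.node (.leaf 2249) (.leaf 3948)) (.node (.leaf 761) (.leaf 3546))))))) (.node (.node (.node (.node (.node (.node (.leaf 126) (.leaf 3496)) (.node (.leaf 2405) (.leaf 2799))) (.node (.node (.leaf 1407) (.leaf 3306)) (.node (.leaf 2864) (.leaf 3955)))) (.node (.node (.node (.leaf 835) (.leaf 3694)) (.node (.leaf 2293) (.leaf 296))) (.node (.node (.leaf 1963) (.leaf 2580)) (.node (.leaf 3358) (.leaf 3756))))) (.node (.node (.node (.node (.leaf 496) (.leaf 3480)) (.node (.leaf 2551) (.leaf 1558))) (.node (.node (.leaf 1581) (.leaf 1270)) (.node (.leaf 924) (.leaf 3928)))) (.node (.node (.node (.leaf 1030) (.leaf 187)) (.node (.leaf 2179) (.leaf 2339))) (.node (.node (.leaf 2203) (.leaf 551)) (.node (.leaf 85) (.leaf 3595)))))) (.node (.node (.node (.node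 (.node (.leaf 324) (.leaf 3622)) (.node (.leaf 2478) (.leaf 316))) (.node (.node (.leaf 1501) (.leaf 3741)) (.node (.leaf 3120) (.leaf 4074)))) (.node (.node (.node (.leaf 990) (.leaf 3036)) (.node (.leaf 2744) (.leaf 1765))) (.node (.node (.leaf 1569) (.leaf 2178)) (.node (.leaf 1232) (.leaf 3258))))) (.node (.node (.node (.node (.leaf 673) (.leaf 3692)) (.node (.leaf 431) (.leaf 2570))) (.node (.node (.leaf 1826) (.leaf 3370)) (.node (.leaf 3143) (.leaf 2702)))) (.node (.node (.node (.leaf 197) (.leaf 916)) (.node (.leaf 134) (.leaf 4000))) (.node (.node (.leaf 1571) (.leaf 2631)) (.node (.leaf 61) (.leaf 868))))))))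

def twoNext24 : Janko.Tree (ℕ) :=
  (.node (.node (.node (.node (.node (.node (.node (.leaf 21) (.leaf 2803)) (.node (.leaf 373) (.leaf 1675))) (.node (.node (.leaf 1344) (.leaf 1199)) (.node (.leaf 1396) (.leaf 3872)))) (.node (.node (.node (.leaf 81) (.leaf 1044)) (.node (.leaf 2667) (.leaf 2204))) (.node (.node (.leaf 1892) (.leaf 2638)) (.node (.leaf 3315) (.leaf 3815))))) (.node (.node (.node (.node (.leaf 250) (.leaf 3641)) (.node (.leaf 2473) (.leaf 1793))) (.node (.node (.leaf 1617) (.leaf 3576)) (.node (.leaf 1419) (.leaf 2339)))) (.node (.node (.node (.leaf 912) (.leaf 3187)) (.node (.leaf 2024) (.leaf 1940))) (.node (.node (.leaf 2148) (.leaf 1608)) (.node (.leaf 788) (.leaf 3709)))))) (.node (.node (.node (.node (.node (.leaf 227) (.leaf 944)) (.node (.leaf 2446) (.leaf 4005))) (.node (.node (.leaf 199) (.leaf 3379)) (.node (.leaf 1366) (.leaf 2675)))) (.node (.node (.node (.leaf 924) (.leaf 3123)) (.node (.leaf 522) (.leaf 3925))) (.node (.node (.leaf 295) (.leaf 3878)) (.node (.leaf 3396) (.leaf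 2925))))) (.node (.node (.node (.node (.leaf 61) (.leaf 1438)) (.node (.leaf 463) (.leaf 1763))) (.node (.node (.leaf 246) (.leaf 1398)) (.node (.leaf 3241) (.leaf 4047)))) (.node (.node (.node (.leaf 939) (.leaf 3614)) (.node (.leaf 1113) (.leaf 2577))) (.node (.node (.leaf 2234) (.leaf 3949)) (.node (.leaf 819) (.leaf 3500))))))) (.node (.node (.node (.node (.node (.node (.leaf 127) (.leaf 2808)) (.node (.leaf 2194) (.leaf 2060))) (.node (.node (.leaf 827) (.leaf 1225)) (.node (.leaf 2879) (.leaf 2325)))) (.node (.node (.node (.leaf 689) (.leaf 3640)) (.node (.leaf 2612) (.leaf 1834))) (.node (.node (.leaf 1964) (.leaf 1481)) (.node (.leaf 743) (.leaf 2886))))) (.node (.node (.node (.node (.leaf 292) (.leaf 3592)) (.node (.leaf 2552) (.leaf 2782))) (.node (.node (.leaf 401) (.leaf 3475)) (.node (.leaf 917) (.leaf 2599)))) (.node (.node (.node (.leaf 610) (.leaf 3746)) (.node (.leaf 2542) (.leaf 1981))) (.node (.node (.leaf 436) (.leaf 2242)) (.node (.leaf 803) (.leaf 3738)))))) (.node (.node (.node (.node (.node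 (.leaf 325) (.leaf 3412)) (.node (.leaf 432) (.leaf 1676))) (.node (.node (.leaf 210) (.leaf 3382)) (.node (.leaf 3121) (.leaf 3954)))) (.node (.node (.node (.leaf 991) (.leaf 3155)) (.node (.leaf 2745) (.leaf 1928))) (.node (.node (.leaf 2081) (.leaf 3901)) (.node (.leaf 1334) (.leaf 3776))))) (.node (.node (.node (.node (.leaf 674) (.leaf 1416)) (.node (.leaf 1853) (.leaf 1837))) (.node (.node (.leaf 1827) (.leaf 1439)) (.node (.leaf 1056) (.leaf 4055)))) (.node (.node (.node (.leaf 162) (.leaf 3699)) (.node (.leaf 626) (.leaf 2651))) (.node (.node (.leaf 361) (.leaf 1807)) (.node (.leaf 835) (.leaf 3442))))))))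

def twoNext25 : Janko.Tree (ℕ) :=
  (.node (.node (.node (.node (.node (.node (.node (.leaf 22) (.leaf 856)) (.node (.leaf 512) (.leaf 1615))) (.node (.node (.leaf 173) (.leaf 3787)) (.node (.leaf 611) (.leaf 2665)))) (.node (.node (.node (.leaf 754) (.leaf 3507)) (.node (.leaf 493) (.leaf 2024))) (.node (.node (.leaf 270) (.leaf 2403)) (.node (.leaf 3316) (.leaf 3303))))) (.node (.node (.node (.node (.leaf 413) (.leaf 2853)) (.node (.leaf 2262) (.leaf 2759))) (.node (.node (.leaf 221) (.leaf 3199)) (.node (.leaf 866) (.leaf 3903)))) (.node (.node (.node (.leaf 1069) (.leaf 1448)) (.node (.leaf 2722) (.leaf 3944))) (.node (.node (.leaf 1665) (.leaf 1937)) (.node (.leaf 3453) (.leaf 3551)))))) (.node (.node (.node (.node (.node (.leaf 228) (.leaf 3595)) (.node (.leaf 402) (.leaf 1652))) (.node (.node (.leaf 1464) (.leaf 3313)) (.node (.leaf 642) (.leaf 2193)))) (.node (.node (.node (.leaf 102) (.leaf 1373)) (.node (.leaf 2214) (.leaf 1941))) (.node (.node (.leaf 346) (.leaf 2765)) (.node (.leaf 3397) (.leaf 3728)))))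 (.node (.node (.node (.node (.leaf 579) (.leaf 963)) (.node (.leaf 2594) (.leaf 1912))) (.node (.node (.leaf 1759) (.leaf 3059)) (.node (.leaf 700) (.leaf 2535)))) (.node (.node (.node (.leaf 149) (.leaf 2858)) (.node (.leaf 586) (.leaf 2301))) (.node (.node (.leaf 1687) (.leaf 1575)) (.node (.leaf 2817) (.leaf 3786))))))) (.node (.node (.node (.node (.node (.node (.leaf 11) (.leaf 873)) (.node (.leaf 387) (.leaf 3994))) (.node (.node (.leaf 1126) (.leaf 2823)) (.node (.leaf 3012) (.leaf 4030)))) (.node (.node (.node (.leaf 836) (.leaf 1023)) (.node (.leaf 2490) (.leaf 2115))) (.node (.node (.leaf 1965) (.leaf 3851)) (.node (.leaf 3359) (.leaf 3415))))) (.node (.node (.node (.node (.leaf 497) (.leaf 1350)) (.node (.leaf 449) (.leaf 1732))) (.node (.node (.leaf 232) (.leaf 1362)) (.node (.leaf 3202) (.leaf 2526)))) (.node (.node (.node (.leaf 138) (.leaf 3763)) (.node (.leaf 2443) (.leaf 3924))) (.node (.node (.leaf 1713) (.leaf 2613)) (.node (.leaf 2934) (.leaf 3143)))))) (.node (.node (.node (.node (.node (.leaf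 326) (.leaf 961)) (.node (.leaf 550) (.leaf 1974))) (.node (.node (.leaf 1547) (.leaf 3757)) (.node (.leaf 845) (.leaf 3902)))) (.node (.node (.node (.leaf 668) (.leaf 3197)) (.node (.leaf 2435) (.leaf 2340))) (.node (.node (.leaf 523) (.leaf 1513)) (.node (.leaf 3419) (.leaf 3639))))) (.node (.node (.node (.node (.leaf 675) (.leaf 985)) (.node (.leaf 478) (.leaf 1790))) (.node (.node (.leaf 257) (.leaf 3257)) (.node (.leaf 929) (.leaf 3952)))) (.node (.node (.node (.leaf 1270) (.leaf 3781)) (.node (.leaf 2911) (.leaf 2206))) (.node (.node (.leaf 502) (.leaf 1642)) (.node (.leaf 2860) (.leaf 3730))))))))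

def twoNext26 : Janko.Tree (ℕ) :=
  (.node (.node (.node (.node (.node (.node (.node (.leaf 1) (.leaf 1234)) (.node (.leaf 530) (.leaf 1729))) (.node (.node (.leaf 958) (.leaf 3207)) (.node (.leaf 2965) (.leaf 2110)))) (.node (.node (.node (.leaf 650) (.leaf 1004)) (.node (.leaf 1858) (.leaf 3927))) (.node (.node (.leaf 1893) (.leaf 3825)) (.node (.leaf 729) (.leaf 3770))))) (.node (.node (.node (.node (.leaf 40) (.leaf 2930)) (.node (.leaf 432) (.leaf 2389))) (.node (.node (.leaf 284) (.leaf 2807)) (.node (.leaf 884) (.leaf 4040)))) (.node (.node (.node (.leaf 1070) (.leaf 3755)) (.node (.leaf 2387) (.leaf 4028))) (.node (.node (.leaf 318) (.leaf 1530)) (.node (.leaf 3433) (.leaf 3625)))))) (.node (.node (.node (.node (.node (.leaf 229) (.leaf 888)) (.node (.leaf 2447) (.leaf 2440))) (.node (.node (.leaf 1465) (.leaf 3444)) (.node (.leaf 3063) (.leaf 3895)))) (.node (.node (.node (.leaf 925) (.leaf 1360)) (.node (.leaf 2686) (.leaf 1862))) (.node (.node (.leaf 1880) (.leaf 2599)) (.node (.leaf 3398) (.leaf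 3455))))) (.node (.node (.node (.node (.leaf 580) (.leaf 3377)) (.node (.leaf 542) (.leaf 2770))) (.node (.node (.leaf 1760) (.leaf 3102)) (.node (.leaf 3014) (.leaf 2642)))) (.node (.node (.node (.leaf 1152) (.leaf 1174)) (.node (.leaf 2849) (.leaf 2026))) (.node (.node (.leaf 2250) (.leaf 1734)) (.node (.leaf 1116) (.leaf 3728))))))) (.node (.node (.node (.node (.node (.node (.leaf 128) (.leaf 3569)) (.node (.leaf 2406) (.leaf 3830))) (.node (.node (.leaf 1408) (.leaf 3636)) (.node (.leaf 626) (.leaf 2210)))) (.node (.node (.node (.leaf 91) (.leaf 3720)) (.node (.leaf 2697) (.leaf 2707))) (.node (.node (.leaf 1572) (.leaf 3848)) (.node (.leaf 751) (.leaf 3566))))) (.node (.node (.node (.node (.leaf 498) (.leaf 941)) (.node (.leaf 1561) (.leaf 4031))) (.node (.node (.leaf 1690) (.leaf 2890)) (.node (.leaf 1170) (.leaf 2421)))) (.node (.node (.node (.leaf 589) (.leaf 1120)) (.node (.leaf 570) (.leaf 1986))) (.node (.node (.leaf 450) (.leaf 1553)) (.node (.leaf 3364) (.leaf 3779)))))) (.node (.node (.node (.node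 (.node (.leaf 30) (.leaf 903)) (.node (.leaf 2479) (.leaf 2190))) (.node (.node (.leaf 1496) (.leaf 3389)) (.node (.leaf 3122) (.leaf 2269)))) (.node (.node (.node (.leaf 113) (.leaf 1062)) (.node (.leaf 2653) (.leaf 1906))) (.node (.node (.leaf 306) (.leaf 2065)) (.node (.leaf 1303) (.leaf 3104))))) (.node (.node (.node (.node (.leaf 676) (.leaf 3055)) (.node (.leaf 2634) (.leaf 2039))) (.node (.node (.leaf 1828) (.leaf 3431)) (.node (.leaf 3272) (.leaf 2775)))) (.node (.node (.node (.leaf 1271) (.leaf 1177)) (.node (.leaf 598) (.leaf 2471))) (.node (.node (.leaf 2301) (.leaf 1595)) (.node (.leaf 3521) (.leaf 3498))))))))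

def twoNext27 : Janko.Tree (ℕ) :=
  (.node (.node (.node (.node (.node (.node (.node (.leaf 23) (.leaf 3059)) (.node (.leaf 231) (.leaf 3978))) (.node (.node (.leaf 1345) (.leaf 838)) (.node (.leaf 842) (.leaf 3843)))) (.node (.node (.node (.leaf 755) (.leaf 90)) (.node (.leaf 1597) (.leaf 427))) (.node (.node (.leaf 1894) (.leaf 438)) (.node (.leaf 2966) (.leaf 3265))))) (.node (.node (.node (.node (.leaf 414) (.leaf 3335)) (.node (.leaf 2135) (.leaf 2447))) (.node (.node (.leaf 1618) (.leaf 3765)) (.node (.leaf 3168) (.leaf 3864)))) (.node (.node (.node (.leaf 1071) (.leaf 3217)) (.node (.leaf 2489) (.leaf 4073))) (.node (.node (.leaf 443) (.leaf 493)) (.node (.leaf 3254) (.leaf 3746)))))) (.node (.node (.node (.node (.node (.leaf 230) (.leaf 3063)) (.node (.leaf 1665) (.leaf 348))) (.node (.node (.leaf 1466) (.leaf 3706)) (.node (.leaf 3064) (.leaf 3863)))) (.node (.node (.node (.leaf 926) (.leaf 681)) (.node (.leaf 288) (.leaf 4068))) (.node (.node (.leaf 2030) (.leaf 2426)) (.node (.leaf 1340) (.leaf 3651)))))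 (.node (.node (.node (.node (.leaf 581) (.leaf 1224)) (.node (.leaf 51) (.leaf 464))) (.node (.node (.leaf 1624) (.leaf 3327)) (.node (.leaf 930) (.leaf 2090)))) (.node (.node (.node (.leaf 1203) (.leaf 772)) (.node (.leaf 2850) (.leaf 4080))) (.node (.node (.leaf 1976) (.leaf 3877)) (.node (.leaf 3502) (.leaf 2849))))))) (.node (.node (.node (.node (.node (.node (.leaf 129) (.leaf 1275)) (.node (.leaf 2407) (.leaf 2769))) (.node (.node (.leaf 161) (.leaf 173)) (.node (.leaf 3013) (.leaf 3853)))) (.node (.node (.node (.leaf 837) (.leaf 2984)) (.node (.leaf 542) (.leaf 1868))) (.node (.node (.leaf 1685) (.leaf 1936)) (.node (.leaf 3360) (.leaf 3033))))) (.node (.node (.node (.node (.leaf 499) (.leaf 3344)) (.node (.leaf 1805) (.leaf 1839))) (.node (.node (.leaf 1691) (.leaf 1357)) (.node (.leaf 12) (.leaf 4088)))) (.node (.node (.node (.leaf 1133) (.leaf 3600)) (.node (.leaf 1779) (.leaf 1803))) (.node (.node (.leaf 2204) (.leaf 2761)) (.node (.leaf 585) (.leaf 1147)))))) (.node (.node (.node (.node (.node (.leaf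 327) (.leaf 769)) (.node (.leaf 2480) (.leaf 1734))) (.node (.node (.leaf 1510) (.leaf 3221)) (.node (.leaf 3123) (.leaf 1775)))) (.node (.node (.node (.leaf 992) (.leaf 949)) (.node (.leaf 2746) (.leaf 2628))) (.node (.node (.leaf 2082) (.leaf 3902)) (.node (.leaf 3420) (.leaf 3462))))) (.node (.node (.node (.node (.leaf 130) (.leaf 3693)) (.node (.leaf 2482) (.leaf 2593))) (.node (.node (.leaf 1829) (.leaf 1397)) (.node (.leaf 3273) (.leaf 4013)))) (.node (.node (.node (.leaf 927) (.leaf 897)) (.node (.leaf 1246) (.leaf 303))) (.node (.node (.leaf 2302) (.leaf 2606)) (.node (.leaf 1117) (.leaf 88))))))))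

def twoNext28 : Janko.Tree (ℕ) :=
  (.node (.node (.node (.node (.node (.node (.node (.leaf 24) (.leaf 884)) (.node (.leaf 2358) (.leaf 1776))) (.node (.node (.leaf 1313) (.leaf 3752)) (.node (.leaf 2867) (.leaf 2112)))) (.node (.node (.node (.leaf 756) (.leaf 1052)) (.node (.leaf 562) (.leaf 2717))) (.node (.node (.leaf 543) (.leaf 2158)) (.node (.leaf 3171) (.leaf 3796))))) (.node (.node (.node (.node (.leaf 303) (.leaf 920)) (.node (.leaf 2488) (.leaf 1708))) (.node (.node (.leaf 1619) (.leaf 3440)) (.node (.leaf 982) (.leaf 2520)))) (.node (.node (.node (.leaf 124) (.leaf 3756)) (.node (.leaf 554) (.leaf 2172))) (.node (.node (.leaf 2149) (.leaf 2531)) (.node (.leaf 3454) (.leaf 3240)))))) (.node (.node (.node (.node (.node (.leaf 231) (.leaf 1179)) (.node (.leaf 1742) (.leaf 2532))) (.node (.node (.leaf 1467) (.leaf 3758)) (.node (.leaf 1371) (.leaf 3978)))) (.node (.node (.node (.leaf 927) (.leaf 1281)) (.node (.leaf 2707) (.leaf 2644))) (.node (.node (.leaf 1886) (.leaf 2111)) (.node (.leaf 759) (.leaf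 3434))))) (.node (.node (.node (.node (.leaf 582) (.leaf 1260)) (.node (.leaf 1983) (.leaf 2313))) (.node (.node (.leaf 1761) (.leaf 1401)) (.node (.leaf 3221) (.leaf 3958)))) (.node (.node (.node (.leaf 1204) (.leaf 1151)) (.node (.leaf 880) (.leaf 2639))) (.node (.node (.leaf 345) (.leaf 1662)) (.node (.leaf 956) (.leaf 3544))))))) (.node (.node (.node (.node (.node (.node (.leaf 72) (.leaf 2936)) (.node (.leaf 2266) (.leaf 2341))) (.node (.node (.leaf 187) (.leaf 3750)) (.node (.leaf 2955) (.leaf 2151)))) (.node (.node (.node (.leaf 838) (.leaf 3092)) (.node (.leaf 508) (.leaf 2686))) (.node (.node (.leaf 1856) (.leaf 3852)) (.node (.leaf 744) (.leaf 3251))))) (.node (.node (.node (.node (.leaf 500) (.leaf 3481)) (.node (.leaf 548) (.leaf 4026))) (.node (.node (.leaf 1692) (.leaf 3406)) (.node (.leaf 1028) (.leaf 2563)))) (.node (.node (.node (.leaf 1134) (.leaf 3736)) (.node (.leaf 571) (.leaf 4040))) (.node (.node (.leaf 330) (.leaf 1565)) (.node (.leaf 1042) (.leaf 3666)))))) (.node (.node (.node (.node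 (.node (.leaf 328) (.leaf 3623)) (.node (.leaf 419) (.leaf 2528))) (.node (.node (.leaf 1548) (.leaf 2899)) (.node (.leaf 2985) (.leaf 2270)))) (.node (.node (.node (.leaf 993) (.leaf 3176)) (.node (.leaf 2255) (.leaf 1945))) (.node (.node (.leaf 521) (.leaf 3903)) (.node (.leaf 840) (.leaf 3001))))) (.node (.node (.node (.node (.leaf 71) (.leaf 3694)) (.node (.leaf 2635) (.leaf 2629))) (.node (.node (.leaf 1830) (.leaf 1442)) (.node (.leaf 714) (.leaf 3846)))) (.node (.node (.node (.leaf 1272) (.leaf 3683)) (.node (.leaf 667) (.leaf 2135))) (.node (.node (.leaf 362) (.leaf 3899)) (.node (.leaf 3522) (.leaf 3762))))))))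

def twoNext29 : Janko.Tree (ℕ) :=
  (.node (.node (.node (.node (.node (.node (.node (.leaf 25) (.leaf 1091)) (.node (.leaf 2359) (.leaf 3979))) (.node (.node (.leaf 1068) (.leaf 1199)) (.node (.leaf 2966) (.leaf 2295)))) (.node (.node (.node (.leaf 638) (.leaf 1005)) (.node (.leaf 494) (.leaf 1817))) (.node (.node (.leaf 1895) (.leaf 2598)) (.node (.leaf 2935) (.leaf 3163))))) (.node (.node (.node (.node (.leaf 41) (.leaf 3287)) (.node (.leaf 2512) (.leaf 2378))) (.node (.node (.leaf 1620) (.leaf 1316)) (.node (.leaf 669) (.leaf 2733)))) (.node (.node (.node (.leaf 635) (.leaf 1086)) (.node (.leaf 2767) (.leaf 2678))) (.node (.node (.leaf 468) (.leaf 2038)) (.node (.leaf 788) (.leaf 3456)))))) (.node (.node (.node (.node (.node (.leaf 21) (.leaf 1285)) (.node (.leaf 2372) (.leaf 4006))) (.node (.node (.leaf 1468) (.leaf 1252)) (.node (.leaf 3065) (.leaf 4003)))) (.node (.node (.node (.leaf 928) (.leaf 2856)) (.node (.leaf 2720) (.leaf 1863))) (.node (.node (.leaf 295) (.leaf 1496)) (.node (.leaf 3399) (.leaf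 3544))))) (.node (.node (.node (.node (.leaf 127) (.leaf 2827)) (.node (.leaf 463) (.leaf 2099))) (.node (.node (.leaf 1537) (.leaf 3206)) (.node (.leaf 3242) (.leaf 2556)))) (.node (.node (.node (.leaf 1205) (.leaf 3768)) (.node (.leaf 821) (.leaf 2354))) (.node (.node (.leaf 1640) (.leaf 3950)) (.node (.leaf 1035) (.leaf 3264))))))) (.node (.node (.node (.node (.node (.node (.leaf 130) (.leaf 3258)) (.node (.leaf 2408) (.leaf 2654))) (.node (.node (.leaf 1409) (.leaf 1225)) (.node (.leaf 3014) (.leaf 2402)))) (.node (.node (.node (.leaf 839) (.leaf 3524)) (.node (.leaf 2527) (.leaf 2407))) (.node (.node (.leaf 282) (.leaf 3853)) (.node (.leaf 2819) (.leaf 2889))))) (.node (.node (.node (.node (.leaf 51) (.leaf 942)) (.node (.leaf 2553) (.leaf 1917))) (.node (.node (.leaf 1693) (.leaf 3228)) (.node (.leaf 684) (.leaf 4010)))) (.node (.node (.node (.leaf 1135) (.leaf 1121)) (.node (.leaf 2395) (.leaf 2271))) (.node (.node (.leaf 2205) (.leaf 1664)) (.node (.leaf 803) (.leaf 3375)))))) (.node (.node (.node (.node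 (.node (.leaf 329) (.leaf 904)) (.node (.leaf 517) (.leaf 2587))) (.node (.node (.leaf 210) (.leaf 3250)) (.node (.leaf 655) (.leaf 4079)))) (.node (.node (.node (.leaf 994) (.leaf 3367)) (.node (.leaf 538) (.leaf 2449))) (.node (.node (.leaf 469) (.leaf 2562)) (.node (.leaf 775) (.leaf 3093))))) (.node (.node (.node (.node (.leaf 95) (.leaf 3067)) (.node (.leaf 2636) (.leaf 3846))) (.node (.node (.leaf 1692) (.leaf 3662)) (.node (.leaf 3101) (.leaf 4056)))) (.node (.node (.node (.leaf 1273) (.leaf 3782)) (.node (.leaf 2912) (.leaf 2071))) (.node (.node (.leaf 2303) (.leaf 3967)) (.node (.leaf 3523) (.leaf 3753))))))))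

def twoNext30 : Janko.Tree (ℕ) :=
  (.node (.node (.node (.node (.node (.node (.node (.leaf 26) (.leaf 856)) (.node (.leaf 2360) (.leaf 2631))) (.node (.node (.leaf 1346) (.leaf 1317)) (.node (.leaf 611) (.leaf 4081)))) (.node (.node (.node (.leaf 81) (.leaf 1171)) (.node (.leaf 2377) (.leaf 1973))) (.node (.node (.leaf 270) (.leaf 2186)) (.node (.leaf 2900) (.leaf 3263))))) (.node (.node (.node (.node (.leaf 335) (.leaf 3650)) (.node (.leaf 2192) (.leaf 2566))) (.node (.node (.leaf 221) (.leaf 3379)) (.node (.leaf 3117) (.leaf 2372)))) (.node (.node (.node (.leaf 896) (.leaf 3658)) (.node (.leaf 2768) (.leaf 1957))) (.node (.node (.leaf 2150) (.leaf 3926)) (.node (.leaf 3318) (.leaf 3400)))))) (.node (.node (.node (.node (.node (.leaf 232) (.leaf 3480)) (.node (.leaf 402) (.leaf 1652))) (.node (.node (.leaf 1469) (.leaf 3079)) (.node (.leaf 642) (.leaf 2193)))) (.node (.node (.node (.leaf 929) (.leaf 1040)) (.node (.leaf 522) (.leaf 2382))) (.node (.node (.leaf 1634) (.leaf 2211)) (.node (.leaf 2833) (.leaf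 2925))))) (.node (.node (.node (.node (.leaf 61) (.leaf 1367)) (.node (.leaf 2595) (.leaf 1764))) (.node (.node (.leaf 246) (.leaf 3349)) (.node (.leaf 700) (.leaf 3832)))) (.node (.node (.node (.leaf 1206) (.leaf 3614)) (.node (.leaf 2851) (.leaf 2027))) (.node (.node (.leaf 2251) (.leaf 1575)) (.node (.leaf 1447) (.leaf 3637))))))) (.node (.node (.node (.node (.node (.node (.leaf 11) (.leaf 3008)) (.node (.leaf 2146) (.leaf 2349))) (.node (.node (.leaf 1348) (.leaf 2886)) (.node (.leaf 3015) (.leaf 2765)))) (.node (.node (.node (.leaf 840) (.leaf 1023)) (.node (.leaf 2687) (.leaf 1834))) (.node (.node (.leaf 1629) (.leaf 1481)) (.node (.leaf 3327) (.leaf 3252))))) (.node (.node (.node (.node (.leaf 382) (.leaf 3559)) (.node (.leaf 449) (.leaf 1732))) (.node (.node (.leaf 1694) (.leaf 2911)) (.node (.leaf 1020) (.leaf 2422)))) (.node (.node (.node (.leaf 1136) (.leaf 3558)) (.node (.leaf 1991) (.leaf 2356))) (.node (.node (.leaf 2148) (.leaf 2243)) (.node (.leaf 3123) (.leaf 3696)))))) (.node (.node (.node (.node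 (.node (.leaf 330) (.leaf 1200)) (.node (.leaf 2435) (.leaf 1676))) (.node (.node (.leaf 1549) (.leaf 2958)) (.node (.leaf 3124) (.leaf 2725)))) (.node (.node (.node (.leaf 995) (.leaf 3700)) (.node (.leaf 2594) (.leaf 2790))) (.node (.node (.leaf 557) (.leaf 3904)) (.node (.leaf 2985) (.leaf 3243))))) (.node (.node (.node (.node (.leaf 138) (.leaf 3695)) (.node (.leaf 478) (.leaf 2052))) (.node (.node (.leaf 298) (.leaf 3797)) (.node (.leaf 3225) (.leaf 2802)))) (.node (.node (.node (.leaf 162) (.leaf 3667)) (.node (.leaf 2913) (.leaf 2215))) (.node (.node (.leaf 1753) (.leaf 2764)) (.node (.leaf 835) (.leaf 3531))))))))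

def twoNext31 : Janko.Tree (ℕ) :=
  (.node (.node (.node (.node (.node (.node (.node (.leaf 27) (.leaf 3503)) (.node (.leaf 2361) (.leaf 219))) (.node (.node (.leaf 1347) (.leaf 3768)) (.node (.leaf 2967) (.leaf 2303)))) (.node (.node (.node (.leaf 74) (.leaf 3295)) (.node (.leaf 2197) (.leaf 205))) (.node (.node (.leaf 1896) (.leaf 2008)) (.node (.leaf 1402) (.leaf 3501))))) (.node (.node (.node (.node (.leaf 415) (.leaf 3150)) (.node (.leaf 2358) (.leaf 2026))) (.node (.node (.leaf 1621) (.leaf 3621)) (.node (.leaf 3169) (.leaf 4087)))) (.node (.node (.node (.leaf 801) (.leaf 3757)) (.node (.leaf 2360) (.leaf 497))) (.node (.node (.leaf 31) (.leaf 2388)) (.node (.leaf 3066) (.leaf 3489)))))) (.node (.node (.node (.node (.node (.leaf 233) (.leaf 2902)) (.node (.leaf 2448) (.leaf 4007))) (.node (.node (.leaf 1470) (.leaf 2997)) (.node (.leaf 3045) (.leaf 3976)))) (.node (.node (.node (.leaf 145) (.leaf 3485)) (.node (.leaf 1623) (.leaf 569))) (.node (.node (.leaf 1959) (.leaf 2541)) (.node (.leaf 2989) (.leaf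 3680))))) (.node (.node (.node (.node (.leaf 583) (.leaf 3549)) (.node (.leaf 319) (.leaf 3879))) (.node (.node (.leaf 1762) (.leaf 2995)) (.node (.leaf 3145) (.leaf 1742)))) (.node (.node (.node (.leaf 913) (.leaf 3731)) (.node (.leaf 2852) (.leaf 4052))) (.node (.node (.leaf 507) (.leaf 2393)) (.node (.leaf 3439) (.leaf 3302))))))) (.node (.node (.node (.node (.node (.node (.leaf 131) (.leaf 2970)) (.node (.leaf 2409) (.leaf 3995))) (.node (.node (.leaf 1410) (.leaf 3794)) (.node (.leaf 3016) (.leaf 3953)))) (.node (.node (.node (.leaf 841) (.leaf 3618)) (.node (.leaf 2698) (.leaf 2342))) (.node (.node (.leaf 1966) (.leaf 1756)) (.node (.leaf 3361) (.leaf 3384))))) (.node (.node (.node (.node (.leaf 501) (.leaf 1264)) (.node (.leaf 2554) (.leaf 3934))) (.node (.node (.leaf 440) (.leaf 3005)) (.node (.leaf 3177) (.leaf 4079)))) (.node (.node (.node (.leaf 1036) (.leaf 3260)) (.node (.leaf 2795) (.leaf 1617))) (.node (.node (.leaf 2206) (.leaf 2776)) (.node (.leaf 68) (.leaf 3453)))))) (.node (.node (.node (.node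 (.node (.leaf 331) (.leaf 3624)) (.node (.leaf 2481) (.leaf 338))) (.node (.node (.leaf 392) (.leaf 3740)) (.node (.leaf 3125) (.leaf 436)))) (.node (.node (.node (.leaf 97) (.leaf 3083)) (.node (.leaf 2417) (.leaf 4072))) (.node (.node (.leaf 1680) (.leaf 2227)) (.node (.leaf 3421) (.leaf 2891))))) (.node (.node (.node (.node (.leaf 677) (.leaf 780)) (.node (.leaf 2474) (.leaf 250))) (.node (.node (.leaf 1509) (.leaf 1399)) (.node (.leaf 3130) (.leaf 3828)))) (.node (.node (.node (.leaf 1274) (.leaf 2806)) (.node (.leaf 2914) (.leaf 1552))) (.node (.node (.leaf 1556) (.leaf 3827)) (.node (.leaf 3524) (.leaf 3105))))))))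

def twoNext32 : Janko.Tree (ℕ) :=
  (.node (.node (.node (.node (.node (.node (.node (.leaf 2) (.leaf 3552)) (.node (.leaf 374) (.leaf 2437))) (.node (.node (.leaf 945) (.leaf 1202)) (.node (.leaf 797) (.leaf 2214)))) (.node (.node (.node (.leaf 757) (.leaf 3061)) (.node (.leaf 1528) (.leaf 1960))) (.node (.node (.leaf 572) (.leaf 2653)) (.node (.leaf 2912) (.leaf 2852))))) (.node (.node (.node (.node (.leaf 232) (.leaf 3651)) (.node (.leaf 1714) (.leaf 4024))) (.node (.node (.leaf 1622) (.leaf 1317)) (.node (.leaf 3170) (.leaf 2710)))) (.node (.node (.node (.leaf 669) (.leaf 3630)) (.node (.leaf 2278) (.leaf 2620))) (.node (.node (.leaf 319) (.leaf 1869)) (.node (.leaf 3430) (.leaf 3073)))))) (.node (.node (.node (.node (.node (.leaf 39) (.leaf 889)) (.node (.leaf 2449) (.leaf 2767))) (.node (.node (.leaf 200) (.leaf 3800)) (.node (.leaf 2950) (.leaf 2198)))) (.node (.node (.node (.leaf 103) (.leaf 3735)) (.node (.leaf 2615) (.leaf 3823))) (.node (.node (.leaf 1895) (.leaf 1497)) (.node (.leaf 3294) (.leaf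 2926))))) (.node (.node (.node (.node (.leaf 584) (.leaf 3099)) (.node (.leaf 2466) (.leaf 2308))) (.node (.node (.leaf 247) (.leaf 3556)) (.node (.leaf 857) (.leaf 2557)))) (.node (.node (.node (.leaf 150) (.leaf 3672)) (.node (.leaf 749) (.leaf 2779))) (.node (.node (.leaf 346) (.leaf 3932)) (.node (.leaf 3503) (.leaf 3495))))))) (.node (.node (.node (.node (.node (.node (.leaf 132) (.leaf 3161)) (.node (.leaf 388) (.leaf 1632))) (.node (.node (.leaf 1411) (.leaf 3441)) (.node (.leaf 1302) (.leaf 2333)))) (.node (.node (.node (.leaf 92) (.leaf 1037)) (.node (.leaf 2484) (.leaf 1868))) (.node (.node (.leaf 1967) (.leaf 1482)) (.node (.leaf 3362) (.leaf 3282))))) (.node (.node (.node (.node (.leaf 502) (.leaf 3597)) (.node (.leaf 2043) (.leaf 3975))) (.node (.node (.leaf 233) (.leaf 1364)) (.node (.leaf 844) (.leaf 2567)))) (.node (.node (.node (.leaf 1091) (.leaf 1136)) (.node (.leaf 2571) (.leaf 2747))) (.node (.node (.leaf 377) (.leaf 2251)) (.node (.leaf 3336) (.leaf 3743)))))) (.node (.node (.node (.node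 (.node (.leaf 332) (.leaf 3625)) (.node (.leaf 2482) (.leaf 2407))) (.node (.node (.leaf 1491) (.leaf 3769)) (.node (.leaf 3126) (.leaf 2780)))) (.node (.node (.node (.leaf 114) (.leaf 1133)) (.node (.leaf 1822) (.leaf 1907))) (.node (.node (.leaf 2083) (.leaf 1514)) (.node (.leaf 1407) (.leaf 3183))))) (.node (.node (.node (.node (.leaf 136) (.leaf 986)) (.node (.leaf 2637) (.leaf 1902))) (.node (.node (.leaf 1831) (.leaf 1443)) (.node (.leaf 3145) (.leaf 2800)))) (.node (.node (.node (.leaf 1275) (.leaf 2968)) (.node (.leaf 2915) (.leaf 3830))) (.node (.node (.leaf 2304) (.leaf 3891)) (.node (.leaf 1414) (.leaf 3422))))))))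

def twoNext33 : Janko.Tree (ℕ) :=
  (.node (.node (.node (.node (.node (.node (.node (.leaf 28) (.leaf 3553)) (.node (.leaf 2325) (.leaf 1616))) (.node (.node (.leaf 1348) (.leaf 3743)) (.node (.leaf 1411) (.leaf 2474)))) (.node (.node (.node (.leaf 758) (.leaf 3161)) (.node (.leaf 2283) (.leaf 2426))) (.node (.node (.leaf 1897) (.leaf 1466)) (.node (.leaf 730) (.leaf 3605))))) (.node (.node (.node (.node (.leaf 416) (.leaf 3346)) (.node (.leaf 433) (.leaf 1708))) (.node (.node (.leaf 1623) (.leaf 1401)) (.node (.leaf 3171) (.leaf 2399)))) (.node (.node (.node (.leaf 1072) (.leaf 3726)) (.node (.leaf 2257) (.leaf 2701))) (.node (.node (.leaf 2151) (.leaf 1807)) (.node (.leaf 3455) (.leaf 3813)))))) (.node (.node (.node (.node (.node (.leaf 234) (.leaf 3596)) (.node (.leaf 403) (.leaf 2046))) (.node (.node (.leaf 1471) (.leaf 1253)) (.node (.leaf 3066) (.leaf 2238)))) (.node (.node (.node (.leaf 930) (.leaf 1355)) (.node (.leaf 1649) (.leaf 4031))) (.node (.node (.leaf 350) (.leaf 2009)) (.node (.leaf 759) (.leaf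 3612))))) (.node (.node (.node (.node (.leaf 585) (.leaf 965)) (.node (.leaf 2596) (.leaf 2476))) (.node (.node (.leaf 1763) (.leaf 3314)) (.node (.leaf 701) (.leaf 2750)))) (.node (.node (.node (.leaf 1207) (.leaf 2960)) (.node (.leaf 587) (.leaf 2621))) (.node (.node (.leaf 2252) (.leaf 2700)) (.node (.leaf 820) (.leaf 3788))))))) (.node (.node (.node (.node (.node (.node (.leaf 133) (.leaf 874)) (.node (.leaf 2410) (.leaf 2178))) (.node (.node (.leaf 958) (.leaf 3734)) (.node (.leaf 3017) (.leaf 2629)))) (.node (.node (.node (.leaf 842) (.leaf 3678)) (.node (.leaf 508) (.leaf 2747))) (.node (.node (.leaf 283) (.leaf 2375)) (.node (.leaf 2957) (.leaf 3204))))) (.node (.node (.node (.node (.leaf 503) (.leaf 3603)) (.node (.leaf 2555) (.leaf 1733))) (.node (.node (.leaf 1695) (.leaf 1405)) (.node (.leaf 2865) (.leaf 2609)))) (.node (.node (.node (.leaf 1137) (.leaf 3593)) (.node (.leaf 2438) (.leaf 2619))) (.node (.node (.leaf 330) (.leaf 1841)) (.node (.leaf 1372) (.leaf 3317)))))) (.node (.node (.node (.node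 (.node (.leaf 31) (.leaf 3626)) (.node (.leaf 2291) (.leaf 2112))) (.node (.node (.leaf 1550) (.leaf 1282)) (.node (.leaf 967) (.leaf 2270)))) (.node (.node (.node (.leaf 996) (.leaf 1063)) (.node (.leaf 1715) (.leaf 2355))) (.node (.node (.leaf 307) (.leaf 3905)) (.node (.leaf 3422) (.leaf 3462))))) (.node (.node (.node (.node (.leaf 678) (.leaf 3200)) (.node (.leaf 2077) (.leaf 1791))) (.node (.node (.leaf 258) (.leaf 3777)) (.node (.leaf 3274) (.leaf 4011)))) (.node (.node (.node (.leaf 1276) (.leaf 2815)) (.node (.leaf 599) (.leaf 3982))) (.node (.node (.leaf 362) (.leaf 1596)) (.node (.leaf 3334) (.leaf 3490))))))))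

def twoNext34 : Janko.Tree (ℕ) :=
  (.node (.node (.node (.node (.node (.node (.node (.leaf 29) (.leaf 3287)) (.node (.leaf 1762) (.leaf 3956))) (.node (.node (.leaf 174) (.leaf 3451)) (.node (.leaf 2865) (.leaf 2113)))) (.node (.node (.node (.leaf 759) (.leaf 3393)) (.node (.leaf 1961) (.leaf 1817))) (.node (.node (.leaf 1791) (.leaf 2648)) (.node (.leaf 2947) (.leaf 2854))))) (.node (.node (.node (.node (.leaf 41) (.leaf 920)) (.node (.leaf 461) (.leaf 1913))) (.node (.node (.leaf 1624) (.leaf 3794)) (.node (.leaf 3172) (.leaf 2342)))) (.node (.node (.node (.leaf 124) (.leaf 3142)) (.node (.leaf 554) (.leaf 1942))) (.node (.node (.leaf 2094) (.leaf 1849)) (.node (.leaf 788) (.leaf 3241)))))) (.node (.node (.node (.node (.node (.leaf 21) (.leaf 3597)) (.node (.leaf 1538) (.leaf 3972))) (.node (.node (.leaf 1472) (.leaf 3694)) (.node (.leaf 3013) (.leaf 2558)))) (.node (.node (.node (.leaf 900) (.leaf 1430)) (.node (.leaf 2379) (.leaf 3975))) (.node (.node (.leaf 295) (.leaf 3861)) (.node (.leaf 874) (.leaf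 3764))))) (.node (.node (.node (.node (.leaf 586) (.leaf 1417)) (.node (.leaf 463) (.leaf 1766))) (.node (.node (.leaf 403) (.leaf 1401)) (.node (.leaf 1419) (.leaf 2692)))) (.node (.node (.node (.leaf 749) (.leaf 1151)) (.node (.leaf 689) (.leaf 2204))) (.node (.node (.leaf 1554) (.leaf 1616)) (.node (.leaf 3001) (.leaf 3718))))))) (.node (.node (.node (.node (.node (.node (.leaf 134) (.leaf 1107)) (.node (.leaf 397) (.leaf 3876))) (.node (.node (.leaf 187) (.leaf 3508)) (.node (.leaf 627) (.leaf 2742)))) (.node (.node (.node (.leaf 748) (.leaf 3090)) (.node (.leaf 1459) (.leaf 1996))) (.node (.node (.leaf 1968) (.leaf 1578)) (.node (.leaf 3363) (.leaf 3809))))) (.node (.node (.node (.node (.leaf 51) (.leaf 943)) (.node (.leaf 499) (.leaf 3820))) (.node (.node (.leaf 435) (.leaf 3056)) (.node (.leaf 746) (.leaf 2750)))) (.node (.node (.node (.leaf 139) (.leaf 1121)) (.node (.leaf 2796) (.leaf 1984))) (.node (.node (.leaf 2207) (.leaf 1555)) (.node (.leaf 803) (.leaf 3429)))))) (.node (.node (.node (.node (.node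 (.leaf 333) (.leaf 3627)) (.node (.leaf 419) (.leaf 2431))) (.node (.node (.leaf 210) (.leaf 3048)) (.node (.leaf 655) (.leaf 2347)))) (.node (.node (.node (.leaf 171) (.leaf 3746)) (.node (.leaf 539) (.leaf 4053))) (.node (.node (.leaf 441) (.leaf 2405)) (.node (.leaf 3378) (.leaf 3043))))) (.node (.node (.node (.node (.leaf 71) (.leaf 1058)) (.node (.leaf 2638) (.leaf 1938))) (.node (.node (.leaf 1476) (.leaf 3351)) (.node (.leaf 714) (.leaf 3856)))) (.node (.node (.node (.leaf 984) (.leaf 3633)) (.node (.leaf 1113) (.leaf 2073))) (.node (.node (.leaf 2305) (.leaf 2664)) (.node (.leaf 1373) (.leaf 3626))))))))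

def twoNext35 : Janko.Tree (ℕ) :=
  (.node (.node (.node (.node (.node (.node (.node (.leaf 30) (.leaf 671)) (.node (.leaf 2362) (.leaf 2778))) (.node (.node (.leaf 1349) (.leaf 996)) (.node (.leaf 2968) (.leaf 1965)))) (.node (.node (.node (.leaf 760) (.leaf 1242)) (.node (.leaf 1594) (.leaf 1488))) (.node (.node (.leaf 282) (.leaf 294)) (.node (.leaf 3089) (.leaf 3810))))) (.node (.node (.node (.node (.leaf 417) (.leaf 3208)) (.node (.leaf 2513) (.leaf 323))) (.node (.node (.leaf 1625) (.leaf 3073)) (.node (.leaf 3173) (.leaf 2337)))) (.node (.node (.node (.leaf 1073) (.leaf 162)) (.node (.leaf 1888) (.leaf 2550))) (.node (.node (.leaf 2152) (.leaf 3927)) (.node (.leaf 3456) (.leaf 1308)))))) (.node (.node (.node (.node (.node (.leaf 235) (.leaf 1316)) (.node (.leaf 1600) (.leaf 4008))) (.node (.node (.leaf 1473) (.leaf 1201)) (.node (.leaf 3067) (.leaf 1500)))) (.node (.node (.node (.leaf 931) (.leaf 2863)) (.node (.leaf 1555) (.leaf 4069))) (.node (.node (.leaf 2031) (.leaf 2717)) (.node (.leaf 3400) (.leaf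 695))))) (.node (.node (.node (.node (.leaf 587) (.leaf 1048)) (.node (.leaf 2597) (.leaf 2107))) (.node (.node (.leaf 1764) (.leaf 3070)) (.node (.leaf 3243) (.leaf 1949)))) (.node (.node (.node (.leaf 1208) (.leaf 724)) (.node (.leaf 2853) (.leaf 4032))) (.node (.node (.leaf 2253) (.leaf 577)) (.node (.leaf 3408) (.leaf 2915))))))) (.node (.node (.node (.node (.node (.node (.leaf 92) (.leaf 3570)) (.node (.leaf 2411) (.leaf 315))) (.node (.node (.leaf 180) (.leaf 690)) (.node (.leaf 3018) (.leaf 451)))) (.node (.node (.node (.leaf 843) (.leaf 3029)) (.node (.leaf 2102) (.leaf 2120))) (.node (.node (.leaf 1969) (.leaf 2725)) (.node (.leaf 3364) (.leaf 914))))) (.node (.node (.node (.node (.leaf 504) (.leaf 1339)) (.node (.leaf 236) (.leaf 1609))) (.node (.node (.leaf 1696) (.leaf 938)) (.node (.leaf 1075) (.leaf 1549)))) (.node (.node (.node (.leaf 1138) (.leaf 808)) (.node (.leaf 2618) (.leaf 2106))) (.node (.node (.leaf 2208) (.leaf 3940)) (.node (.leaf 622) (.leaf 777)))))) (.node (.node (.node (.node (.node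 (.leaf 334) (.leaf 2871)) (.node (.leaf 2483) (.leaf 391))) (.node (.node (.leaf 1551) (.leaf 1021)) (.node (.leaf 3127) (.leaf 4037)))) (.node (.node (.node (.leaf 997) (.leaf 3747)) (.node (.leaf 2188) (.leaf 2439))) (.node (.node (.leaf 2084) (.leaf 3906)) (.node (.leaf 82) (.leaf 3702))))) (.node (.node (.node (.node (.leaf 679) (.leaf 117)) (.node (.leaf 1968) (.leaf 1945))) (.node (.node (.leaf 1832) (.leaf 3728)) (.node (.leaf 2964) (.leaf 2313)))) (.node (.node (.node (.leaf 1064) (.leaf 3755)) (.node (.leaf 2916) (.leaf 1767))) (.node (.node (.leaf 2306) (.leaf 2251)) (.node (.leaf 3193) (.leaf 2840))))))))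

def twoNext36 : Janko.Tree (ℕ) :=
  (.node (.node (.node (.node (.node (.node (.node (.leaf 31) (.leaf 858)) (.node (.leaf 2363) (.leaf 1962))) (.node (.node (.leaf 871) (.leaf 3788)) (.node (.leaf 2847) (.leaf 2115)))) (.node (.node (.node (.leaf 82) (.leaf 3271)) (.node (.leaf 495) (.leaf 1957))) (.node (.node (.leaf 271) (.leaf 2477)) (.node (.leaf 3317) (.leaf 2853))))) (.node (.node (.node (.node (.leaf 418) (.leaf 3652)) (.node (.leaf 1698) (.leaf 2564))) (.node (.node (.leaf 222) (.leaf 3420)) (.node (.leaf 670) (.leaf 3909)))) (.node (.node (.node (.leaf 1074) (.leaf 3064)) (.node (.leaf 2494) (.leaf 2346))) (.node (.node (.leaf 2153) (.leaf 2585)) (.node (.leaf 790) (.leaf 3698)))))) (.node (.node (.node (.node (.node (.leaf 236) (.leaf 3505)) (.node (.leaf 2053) (.leaf 1768))) (.node (.node (.leaf 1474) (.leaf 3411)) (.node (.leaf 643) (.leaf 3922)))) (.node (.node (.node (.leaf 932) (.leaf 1041)) (.node (.leaf 1994) (.leaf 1865))) (.node (.node (.leaf 2032) (.leaf 2755)) (.node (.leaf 3401) (.leaf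 3690))))) (.node (.node (.node (.node (.leaf 62) (.leaf 3002)) (.node (.leaf 2598) (.leaf 2239))) (.node (.node (.leaf 1533) (.leaf 3246)) (.node (.leaf 3006) (.leaf 4050)))) (.node (.node (.node (.leaf 1112) (.leaf 1335)) (.node (.leaf 2854) (.leaf 3953))) (.node (.node (.leaf 2254) (.leaf 2550)) (.node (.leaf 1394) (.leaf 3677))))))) (.node (.node (.node (.node (.node (.node (.leaf 12) (.leaf 2820)) (.node (.leaf 444) (.leaf 1633))) (.node (.node (.leaf 1412) (.leaf 1226)) (.node (.leaf 978) (.leaf 2152)))) (.node (.node (.node (.leaf 175) (.leaf 1024)) (.node (.leaf 2404) (.leaf 2715))) (.node (.node (.leaf 490) (.leaf 3853)) (.node (.leaf 1420) (.leaf 3009))))) (.node (.node (.node (.node (.leaf 505) (.leaf 1410)) (.node (.leaf 450) (.leaf 1734))) (.node (.node (.leaf 1697) (.leaf 3256)) (.node (.leaf 686) (.leaf 2431)))) (.node (.node (.node (.leaf 1139) (.leaf 1158)) (.node (.leaf 2797) (.leaf 2788))) (.node (.node (.leaf 2209) (.leaf 1639)) (.node (.leaf 2906) (.leaf 3744)))))) (.node (.node (.node (.node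 (.node (.leaf 234) (.leaf 905)) (.node (.leaf 420) (.leaf 2207))) (.node (.node (.leaf 340) (.leaf 1422)) (.node (.leaf 1360) (.leaf 3951)))) (.node (.node (.node (.leaf 998) (.leaf 1180)) (.node (.leaf 2102) (.leaf 1908))) (.node (.node (.leaf 2085) (.leaf 2714)) (.node (.leaf 1111) (.leaf 3179))))) (.node (.node (.node (.node (.leaf 680) (.leaf 3673)) (.node (.leaf 530) (.leaf 4004))) (.node (.node (.leaf 496) (.leaf 3705)) (.node (.leaf 3275) (.leaf 2805)))) (.node (.node (.node (.leaf 1277) (.leaf 1283)) (.node (.leaf 2917) (.leaf 3820))) (.node (.node (.leaf 1600) (.leaf 2590)) (.node (.leaf 3525) (.leaf 3799))))))))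

def twoNext37 : Janko.Tree (ℕ) :=
  (.node (.node (.node (.node (.node (.node (.node (.leaf 32) (.leaf 3468)) (.node (.leaf 374) (.leaf 1617))) (.node (.node (.leaf 175) (.leaf 1202)) (.node (.leaf 2969) (.leaf 2472)))) (.node (.node (.node (.leaf 761) (.leaf 1006)) (.node (.leaf 2668) (.leaf 3873))) (.node (.node (.leaf 1898) (.leaf 2688)) (.node (.leaf 3318) (.leaf 2904))))) (.node (.node (.node (.node (.leaf 419) (.leaf 1359)) (.node (.leaf 2514) (.leaf 3918))) (.node (.node (.leaf 1626) (.leaf 3692)) (.node (.leaf 760) (.leaf 2345)))) (.node (.node (.node (.leaf 1075) (.leaf 1089)) (.node (.leaf 555) (.leaf 2133))) (.node (.node (.leaf 441) (.leaf 2580)) (.node (.leaf 3322) (.leaf 3531)))))) (.node (.node (.node (.node (.node (.leaf 237) (.leaf 2838)) (.node (.leaf 2319) (.leaf 1653))) (.node (.node (.leaf 200) (.leaf 3739)) (.node (.leaf 1274) (.leaf 2783)))) (.node (.node (.node (.leaf 103) (.leaf 3517)) (.node (.leaf 2237) (.leaf 4026))) (.node (.node (.leaf 1676) (.leaf 3879)) (.node (.leaf 3178) (.leaf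 2926))))) (.node (.node (.node (.node (.leaf 107) (.leaf 1369)) (.node (.leaf 2599) (.leaf 2709))) (.node (.node (.leaf 247) (.leaf 1402)) (.node (.leaf 1399) (.leaf 3871)))) (.node (.node (.node (.leaf 150) (.leaf 1152)) (.node (.leaf 1174) (.leaf 3962))) (.node (.node (.leaf 545) (.leaf 1576)) (.node (.leaf 3054) (.leaf 3266))))))) (.node (.node (.node (.node (.node (.node (.leaf 135) (.leaf 2870)) (.node (.leaf 2234) (.leaf 3996))) (.node (.node (.leaf 1037) (.leaf 2851)) (.node (.leaf 1343) (.leaf 4064)))) (.node (.node (.node (.leaf 92) (.leaf 3721)) (.node (.leaf 2385) (.leaf 3909))) (.node (.node (.leaf 1970) (.leaf 3854)) (.node (.leaf 2821) (.leaf 3217))))) (.node (.node (.node (.node (.leaf 506) (.leaf 944)) (.node (.leaf 2164) (.leaf 1940))) (.node (.node (.leaf 233) (.leaf 3072)) (.node (.leaf 3203) (.leaf 4071)))) (.node (.node (.node (.leaf 1140) (.leaf 3406)) (.node (.leaf 572) (.leaf 3949))) (.node (.node (.leaf 566) (.leaf 1556)) (.node (.leaf 3475) (.leaf 3309)))))) (.node (.node (.node (.node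 (.node (.leaf 335) (.leaf 3573)) (.node (.leaf 2484) (.leaf 1749))) (.node (.node (.leaf 1552) (.leaf 3590)) (.node (.leaf 3128) (.leaf 3908)))) (.node (.node (.node (.leaf 159) (.leaf 3131)) (.node (.leaf 540) (.leaf 2357))) (.node (.node (.leaf 2086) (.leaf 1514)) (.node (.leaf 776) (.leaf 3009))))) (.node (.node (.node (.node (.leaf 681) (.leaf 2906)) (.node (.leaf 2639) (.leaf 4048))) (.node (.node (.leaf 1502) (.leaf 3577)) (.node (.leaf 2847) (.leaf 2852)))) (.node (.node (.node (.leaf 163) (.leaf 1180)) (.node (.leaf 2918) (.leaf 4027))) (.node (.node (.leaf 2307) (.leaf 3968)) (.node (.leaf 1171) (.leaf 3704))))))))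

def twoNext38 : Janko.Tree (ℕ) :=
  (.node (.node (.node (.node (.node (.node (.node (.leaf 2) (.leaf 2846)) (.node (.leaf 1682) (.leaf 2776))) (.node (.node (.leaf 587) (.leaf 1328)) (.node (.leaf 2834) (.leaf 2213)))) (.node (.node (.node (.leaf 131) (.leaf 3227)) (.node (.leaf 2547) (.leaf 2620))) (.node (.node (.leaf 1601) (.leaf 1466)) (.node (.leaf 3319) (.leaf 3522))))) (.node (.node (.node (.node (.leaf 420) (.leaf 3038)) (.node (.leaf 433) (.leaf 1708))) (.node (.node (.leaf 1627) (.leaf 1318)) (.node (.leaf 3066) (.leaf 3907)))) (.node (.node (.node (.leaf 1076) (.leaf 3041)) (.node (.leaf 2248) (.leaf 3905))) (.node (.node (.leaf 319) (.leaf 2779)) (.node (.leaf 3210) (.leaf 3664)))))) (.node (.node (.node (.node (.node (.leaf 238) (.leaf 889)) (.node (.leaf 1743) (.leaf 2451))) (.node (.node (.leaf 1475) (.leaf 1253)) (.node (.leaf 3068) (.leaf 2701)))) (.node (.node (.node (.leaf 933) (.leaf 1287)) (.node (.leaf 1868) (.leaf 2799))) (.node (.node (.leaf 2033) (.leaf 1497)) (.node (.leaf 2861) (.leaf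 3186))))) (.node (.node (.node (.node (.leaf 130) (.leaf 3479)) (.node (.leaf 2174) (.leaf 4042))) (.node (.node (.leaf 1765) (.leaf 3003)) (.node (.leaf 3024) (.leaf 2678)))) (.node (.node (.node (.leaf 1209) (.leaf 1313)) (.node (.leaf 2855) (.leaf 2766))) (.node (.node (.leaf 2255) (.leaf 2654)) (.node (.leaf 1249) (.leaf 3643))))))) (.node (.node (.node (.node (.node (.node (.leaf 136) (.leaf 2874)) (.node (.leaf 2412) (.leaf 2700))) (.node (.node (.leaf 1413) (.leaf 1268)) (.node (.leaf 3019) (.leaf 3974)))) (.node (.node (.node (.leaf 844) (.leaf 3459)) (.node (.leaf 508) (.leaf 2588))) (.node (.node (.leaf 283) (.leaf 3835)) (.node (.leaf 2803) (.leaf 2955))))) (.node (.node (.node (.node (.leaf 507) (.leaf 3605)) (.node (.leaf 1699) (.leaf 3976))) (.node (.node (.leaf 1698) (.leaf 1364)) (.node (.leaf 1178) (.leaf 2720)))) (.node (.node (.node (.leaf 1141) (.leaf 1454)) (.node (.leaf 1930) (.leaf 1985))) (.node (.node (.leaf 2144) (.leaf 1895)) (.node (.leaf 1288) (.leaf 3453)))))) (.node (.node (.node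 (.node (.node (.leaf 31) (.leaf 3628)) (.node (.leaf 1688) (.leaf 1677))) (.node (.node (.leaf 211) (.leaf 3587)) (.node (.leaf 3129) (.leaf 2271)))) (.node (.node (.node (.leaf 114) (.leaf 1088)) (.node (.leaf 2747) (.leaf 1926))) (.node (.node (.leaf 307) (.leaf 2513)) (.node (.leaf 3323) (.leaf 3036))))) (.node (.node (.node (.node (.leaf 682) (.leaf 986)) (.node (.leaf 479) (.leaf 1899))) (.node (.node (.leaf 548) (.leaf 3546)) (.node (.leaf 1103) (.leaf 3598)))) (.node (.node (.node (.leaf 1278) (.leaf 2827)) (.node (.leaf 599) (.leaf 4001))) (.node (.node (.leaf 362) (.leaf 1596)) (.node (.leaf 1273) (.leaf 3422))))))))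

def twoNext39 : Janko.Tree (ℕ) :=
  (.node (.node (.node (.node (.node (.node (.node (.leaf 33) (.leaf 3477)) (.node (.leaf 2016) (.leaf 3980))) (.node (.node (.leaf 994) (.leaf 3572)) (.node (.leaf 834) (.leaf 1875)))) (.node (.node (.node (.leaf 762) (.leaf 3027)) (.node (.leaf 1722) (.leaf 3838))) (.node (.node (.leaf 1899) (.leaf 1984)) (.node (.leaf 2900) (.leaf 742))))) (.node (.node (.node (.node (.leaf 421) (.leaf 947)) (.node (.leaf 2515) (.leaf 2123))) (.node (.node (.leaf 1628) (.leaf 3048)) (.node (.leaf 988) (.leaf 2183)))) (.node (.node (.node (.leaf 1077) (.leaf 974)) (.node (.leaf 2729) (.leaf 3901))) (.node (.node (.leaf 312) (.leaf 1693)) (.node (.leaf 955) (.leaf 3314)))))) (.node (.node (.node (.node (.node (.leaf 59) (.leaf 1334)) (.node (.leaf 2450) (.leaf 2015))) (.node (.node (.leaf 1476) (.leaf 3511)) (.node (.leaf 1320) (.leaf 1747)))) (.node (.node (.node (.leaf 934) (.leaf 3714)) (.node (.leaf 2354) (.leaf 2383))) (.node (.node (.leaf 2034) (.leaf 3880)) (.node (.leaf 3236) (.leaf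 727))))) (.node (.node (.node (.node (.leaf 588) (.leaf 3081)) (.node (.leaf 2600) (.leaf 2270))) (.node (.node (.leaf 1766) (.leaf 3331)) (.node (.leaf 836) (.leaf 2372)))) (.node (.node (.node (.leaf 905) (.leaf 3769)) (.node (.leaf 612) (.leaf 2648))) (.node (.node (.leaf 1645) (.leaf 1928)) (.node (.leaf 1043) (.leaf 3292))))))) (.node (.node (.node (.node (.node (.node (.leaf 137) (.leaf 3571)) (.node (.leaf 363) (.leaf 2373))) (.node (.node (.leaf 1414) (.leaf 3536)) (.node (.leaf 1251) (.leaf 2118)))) (.node (.node (.node (.leaf 845) (.leaf 2870)) (.node (.leaf 2699) (.leaf 3855))) (.node (.node (.leaf 1830) (.leaf 356)) (.node (.leaf 3365) (.leaf 3161))))) (.node (.node (.node (.node (.leaf 508) (.leaf 1226)) (.node (.leaf 2556) (.leaf 3981))) (.node (.node (.leaf 1677) (.leaf 1080)) (.node (.leaf 3204) (.leaf 2705)))) (.node (.node (.node (.leaf 1142) (.leaf 850)) (.node (.leaf 535) (.leaf 2679))) (.node (.node (.leaf 29) (.leaf 1827)) (.node (.leaf 2950) (.leaf 660)))))) (.node (.node (.node (.node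 (.node (.leaf 336) (.leaf 3461)) (.node (.leaf 2485) (.leaf 562))) (.node (.node (.leaf 1553) (.leaf 1205)) (.node (.leaf 1104) (.leaf 2454)))) (.node (.node (.node (.leaf 107) (.leaf 3678)) (.node (.leaf 2491) (.leaf 2610))) (.node (.node (.leaf 2087) (.leaf 3851)) (.node (.leaf 3326) (.leaf 3737))))) (.node (.node (.node (.node (.leaf 683) (.leaf 3308)) (.node (.leaf 2640) (.leaf 4042))) (.node (.node (.leaf 1833) (.leaf 3585)) (.node (.leaf 757) (.leaf 3256)))) (.node (.node (.node (.leaf 1279) (.leaf 3603)) (.node (.leaf 2919) (.leaf 4082))) (.node (.node (.leaf 1740) (.leaf 2242)) (.node (.leaf 1091) (.leaf 1447))))))))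

def twoNext40 : Janko.Tree (ℕ) :=
  (.node (.node (.node (.node (.node (.node (.node (.leaf 34) (.leaf 3151)) (.node (.leaf 2364) (.leaf 3889))) (.node (.node (.leaf 1350) (.leaf 3428)) (.node (.leaf 2924) (.leaf 2224)))) (.node (.node (.node (.leaf 763) (.leaf 3332)) (.node (.leaf 2546) (.leaf 1944))) (.node (.node (.leaf 501) (.leaf 1611)) (.node (.leaf 1332) (.leaf 3521))))) (.node (.node (.node (.node (.leaf 42) (.leaf 921)) (.node (.leaf 434) (.leaf 2711))) (.node (.node (.leaf 1629) (.leaf 1347)) (.node (.leaf 3070) (.leaf 3987)))) (.node (.node (.node (.leaf 125) (.leaf 1333)) (.node (.leaf 2017) (.leaf 2586))) (.node (.node (.leaf 2154) (.leaf 2205)) (.node (.leaf 3376) (.leaf 3655)))))) (.node (.node (.node (.node (.node (.leaf 22) (.leaf 890)) (.node (.leaf 404) (.leaf 1656))) (.node (.node (.leaf 1477) (.leaf 3801)) (.node (.leaf 1157) (.leaf 2199)))) (.node (.node (.node (.leaf 935) (.leaf 3116)) (.node (.leaf 2317) (.leaf 2075))) (.node (.node (.leaf 2035) (.leaf 2228)) (.node (.leaf 3330) (.leaf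 3701))))) (.node (.node (.node (.node (.leaf 589) (.leaf 2999)) (.node (.leaf 2601) (.leaf 2525))) (.node (.node (.leaf 1767) (.leaf 3394)) (.node (.leaf 702) (.leaf 2561)))) (.node (.node (.node (.leaf 1210) (.leaf 3487)) (.node (.leaf 2856) (.leaf 2029))) (.node (.node (.leaf 1947) (.leaf 2269)) (.node (.leaf 1353) (.leaf 3621))))))) (.node (.node (.node (.node (.node (.node (.leaf 138) (.leaf 3572)) (.node (.leaf 389) (.leaf 2643))) (.node (.node (.leaf 1415) (.leaf 3193)) (.node (.leaf 628) (.leaf 2299)))) (.node (.node (.node (.leaf 846) (.leaf 3465)) (.node (.leaf 1715) (.leaf 1838))) (.node (.node (.leaf 1601) (.leaf 1484)) (.node (.leaf 3366) (.leaf 3224))))) (.node (.node (.node (.node (.leaf 52) (.leaf 2873)) (.node (.leaf 2457) (.leaf 3929))) (.node (.node (.leaf 431) (.leaf 3479)) (.node (.leaf 1088) (.leaf 4030)))) (.node (.node (.node (.leaf 140) (.leaf 1123)) (.node (.leaf 2519) (.leaf 2609))) (.node (.node (.leaf 331) (.leaf 2594)) (.node (.leaf 3081) (.leaf 3749)))))) (.node (.node (.node (.node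 (.node (.leaf 337) (.leaf 906)) (.node (.leaf 524) (.leaf 1678))) (.node (.node (.leaf 1554) (.leaf 2846)) (.node (.leaf 656) (.leaf 3913)))) (.node (.node (.node (.leaf 999) (.leaf 1388)) (.node (.leaf 2114) (.leaf 3911))) (.node (.node (.leaf 2064) (.leaf 3907)) (.node (.leaf 3130) (.leaf 3011))))) (.node (.node (.node (.node (.leaf 105) (.leaf 2892)) (.node (.leaf 2641) (.leaf 4049))) (.node (.node (.leaf 259) (.leaf 3727)) (.node (.leaf 3229) (.leaf 3778)))) (.node (.node (.node (.leaf 809) (.leaf 3595)) (.node (.leaf 2920) (.leaf 2335))) (.node (.node (.leaf 533) (.leaf 1645)) (.node (.leaf 837) (.leaf 3809))))))))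

def twoNext41 : Janko.Tree (ℕ) :=
  (.node (.node (.node (.node (.node (.node (.node (.leaf 35) (.leaf 858)) (.node (.leaf 2365) (.leaf 2740))) (.node (.node (.leaf 1079) (.leaf 2925)) (.node (.leaf 613) (.leaf 2126)))) (.node (.node (.node (.leaf 82) (.leaf 1165)) (.node (.leaf 2243) (.leaf 4037))) (.node (.node (.leaf 1900) (.leaf 1855)) (.node (.leaf 3320) (.leaf 3778))))) (.node (.node (.node (.node (.leaf 422) (.leaf 1200)) (.node (.leaf 2516) (.leaf 3843))) (.node (.node (.leaf 222) (.leaf 3119)) (.node (.leaf 670) (.leaf 2346)))) (.node (.node (.node (.leaf 1078) (.leaf 1294)) (.node (.leaf 2769) (.leaf 1946))) (.node (.node (.leaf 1743) (.leaf 1534)) (.node (.leaf 790) (.leaf 3693)))))) (.node (.node (.node (.node (.node (.leaf 239) (.leaf 3598)) (.node (.leaf 1818) (.leaf 2754))) (.node (.node (.leaf 1478) (.leaf 3630)) (.node (.leaf 3069) (.leaf 2637)))) (.node (.node (.node (.leaf 936) (.leaf 3207)) (.node (.leaf 2467) (.leaf 4021))) (.node (.node (.leaf 296) (.leaf 2581)) (.node (.leaf 2946) (.leaf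 3354))))) (.node (.node (.node (.node (.leaf 62) (.leaf 1187)) (.node (.leaf 464) (.leaf 1768))) (.node (.node (.leaf 1659) (.leaf 3244)) (.node (.leaf 1247) (.leaf 4038)))) (.node (.node (.node (.leaf 924) (.leaf 3770)) (.node (.leaf 588) (.leaf 3930))) (.node (.node (.leaf 347) (.leaf 2751)) (.node (.leaf 2873) (.leaf 3541))))))) (.node (.node (.node (.node (.node (.node (.leaf 139) (.leaf 875)) (.node (.leaf 1501) (.leaf 1633))) (.node (.node (.leaf 188) (.leaf 3122)) (.node (.leaf 1293) (.leaf 2152)))) (.node (.node (.node (.leaf 847) (.leaf 3722)) (.node (.leaf 2254) (.leaf 2779))) (.node (.node (.leaf 284) (.leaf 2502)) (.node (.leaf 990) (.leaf 3361))))) (.node (.node (.node (.node (.leaf 509) (.leaf 1397)) (.node (.leaf 2557) (.leaf 1735))) (.node (.node (.leaf 1699) (.leaf 1365)) (.node (.leaf 3205) (.leaf 3932)))) (.node (.node (.node (.leaf 753) (.leaf 3592)) (.node (.leaf 2436) (.leaf 2389))) (.node (.node (.leaf 434) (.leaf 1952)) (.node (.leaf 805) (.leaf 3751)))))) (.node (.node (.node (.node (.node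 (.leaf 338) (.leaf 3512)) (.node (.leaf 420) (.leaf 1865))) (.node (.node (.leaf 1555) (.leaf 3613)) (.node (.leaf 3046) (.leaf 2358)))) (.node (.node (.node (.leaf 1000) (.leaf 1064)) (.node (.leaf 2430) (.leaf 1908))) (.node (.node (.leaf 2088) (.leaf 2031)) (.node (.leaf 777) (.leaf 3053))))) (.node (.node (.node (.node (.leaf 72) (.leaf 987)) (.node (.leaf 2642) (.leaf 1793))) (.node (.node (.leaf 1470) (.leaf 1444)) (.node (.leaf 1426) (.leaf 2805)))) (.node (.node (.node (.leaf 1280) (.leaf 2932)) (.node (.leaf 2921) (.leaf 4083))) (.node (.node (.leaf 363) (.leaf 2777)) (.node (.leaf 1004) (.leaf 3423))))))))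

def twoNext42 : Janko.Tree (ℕ) :=
  (.node (.node (.node (.node (.node (.node (.node (.leaf 36) (.leaf 3443)) (.node (.leaf 374) (.leaf 2672))) (.node (.node (.leaf 1351) (.leaf 1202)) (.node (.leaf 2917) (.leaf 2117)))) (.node (.node (.node (.leaf 764) (.leaf 1007)) (.node (.leaf 495) (.leaf 1819))) (.node (.node (.leaf 1793) (.leaf 1467)) (.node (.leaf 3321) (.leaf 2853))))) (.node (.node (.node (.node (.leaf 231) (.leaf 2823)) (.node (.leaf 1697) (.leaf 1929))) (.node (.node (.leaf 262) (.leaf 3370)) (.node (.leaf 794) (.leaf 2499)))) (.node (.node (.node (.leaf 991) (.leaf 3005)) (.node (.leaf 1509) (.leaf 2786))) (.node (.node (.leaf 1612) (.leaf 3928)) (.node (.leaf 1449) (.leaf 4091)))))) (.node (.node (.node (.node (.node (.leaf 240) (.leaf 942)) (.node (.leaf 1761) (.leaf 2767))) (.node (.node (.leaf 200) (.leaf 1254)) (.node (.leaf 643) (.leaf 2439)))) (.node (.node (.node (.leaf 103) (.leaf 3733)) (.node (.leaf 524) (.leaf 1981))) (.node (.node (.leaf 2036) (.leaf 2726)) (.node (.leaf 1055) (.leaf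 3617))))) (.node (.node (.node (.node (.leaf 590) (.leaf 966)) (.node (.leaf 538) (.leaf 2283))) (.node (.node (.leaf 1768) (.leaf 1404)) (.node (.leaf 3244) (.leaf 2705)))) (.node (.node (.node (.leaf 1211) (.leaf 3704)) (.node (.leaf 1302) (.leaf 2032))) (.node (.node (.leaf 1839) (.leaf 3951)) (.node (.leaf 821) (.leaf 3273))))))) (.node (.node (.node (.node (.node (.node (.leaf 12) (.leaf 924)) (.node (.leaf 1580) (.leaf 2358))) (.node (.node (.leaf 1416) (.leaf 3541)) (.node (.leaf 2856) (.leaf 4072)))) (.node (.node (.node (.leaf 743) (.leaf 1024)) (.node (.leaf 2466) (.leaf 2698))) (.node (.node (.leaf 1650) (.leaf 2128)) (.node (.leaf 3367) (.leaf 3649))))) (.node (.node (.node (.node (.leaf 510) (.leaf 3669)) (.node (.leaf 501) (.leaf 3966))) (.node (.node (.leaf 233) (.leaf 2998)) (.node (.leaf 2837) (.leaf 2436)))) (.node (.node (.node (.leaf 1143) (.leaf 1134)) (.node (.leaf 2798) (.leaf 4070))) (.node (.node (.leaf 442) (.leaf 2497)) (.node (.leaf 3325) (.leaf 3576)))))) (.node (.node (.node (.node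 (.node (.leaf 339) (.leaf 3010)) (.node (.leaf 2329) (.leaf 3950))) (.node (.node (.leaf 1556) (.leaf 3168)) (.node (.leaf 1421) (.leaf 2272)))) (.node (.node (.node (.leaf 1001) (.leaf 3717)) (.node (.leaf 2748) (.leaf 3903))) (.node (.node (.leaf 1864) (.leaf 1514)) (.node (.leaf 3229) (.leaf 3072))))) (.node (.node (.node (.node (.leaf 97) (.leaf 1054)) (.node (.leaf 2643) (.leaf 3821))) (.node (.node (.leaf 1704) (.leaf 3320)) (.node (.leaf 3060) (.leaf 3780)))) (.node (.node (.node (.leaf 163) (.leaf 2805)) (.node (.leaf 2922) (.leaf 2079))) (.node (.node (.leaf 500) (.leaf 1597)) (.node (.leaf 3526) (.leaf 3615))))))))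

def twoNext43 : Janko.Tree (ℕ) :=
  (.node (.node (.node (.node (.node (.node (.node (.leaf 37) (.leaf 3554)) (.node (.leaf 2366) (.leaf 1988))) (.node (.node (.leaf 1352) (.leaf 3522)) (.node (.leaf 919) (.leaf 342)))) (.node (.node (.node (.leaf 765) (.leaf 904)) (.node (.leaf 1780) (.leaf 2711))) (.node (.node (.leaf 1901) (.leaf 2316)) (.node (.leaf 961) (.leaf 3096))))) (.node (.node (.node (.node (.leaf 423) (.leaf 3345)) (.node (.leaf 2517) (.leaf 2231))) (.node (.node (.leaf 1630) (.leaf 3520)) (.node (.leaf 3128) (.leaf 225)))) (.node (.node (.node (.leaf 847) (.leaf 1207)) (.node (.leaf 1603) (.leaf 4014))) (.node (.node (.leaf 2155) (.leaf 3929)) (.node (.leaf 840) (.leaf 3684)))))) (.node (.node (.node (.node (.node (.leaf 241) (.leaf 3133)) (.node (.leaf 2343) (.leaf 1580))) (.node (.node (.leaf 1479) (.leaf 3574)) (.node (.leaf 863) (.leaf 1661)))) (.node (.node (.node (.leaf 937) (.leaf 118)) (.node (.leaf 2721) (.leaf 4070))) (.node (.node (.leaf 2037) (.leaf 2175)) (.node (.leaf 807) (.leaf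 1314))))) (.node (.node (.node (.node (.leaf 591) (.leaf 731)) (.node (.leaf 2602) (.leaf 4043))) (.node (.node (.leaf 1769) (.leaf 3271)) (.node (.leaf 1259) (.leaf 4015)))) (.node (.node (.node (.leaf 1212) (.leaf 2994)) (.node (.leaf 1067) (.leaf 4061))) (.node (.node (.leaf 1648) (.leaf 2639)) (.node (.leaf 875) (.leaf 3429))))))) (.node (.node (.node (.node (.node (.node (.leaf 140) (.leaf 3316)) (.node (.leaf 1816) (.leaf 1692))) (.node (.node (.leaf 138) (.leaf 3209)) (.node (.leaf 3020) (.leaf 3872)))) (.node (.node (.node (.leaf 6) (.leaf 3102)) (.node (.leaf 510) (.leaf 1893))) (.node (.node (.leaf 1971) (.leaf 1778)) (.node (.leaf 1361) (.leaf 3483))))) (.node (.node (.node (.node (.leaf 511) (.leaf 3468)) (.node (.leaf 1745) (.leaf 2726))) (.node (.node (.leaf 1700) (.leaf 3213)) (.node (.leaf 102) (.leaf 3861)))) (.node (.node (.node (.leaf 1144) (.leaf 766)) (.node (.leaf 1733) (.leaf 2011))) (.node (.node (.leaf 2210) (.leaf 218)) (.node (.leaf 3476) (.leaf 2920)))))) (.node (.node (.node (.node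 (.node (.leaf 330) (.leaf 944)) (.node (.leaf 2283) (.leaf 386))) (.node (.node (.leaf 1557) (.leaf 2978)) (.node (.leaf 1118) (.leaf 3926)))) (.node (.node (.node (.leaf 623) (.leaf 3385)) (.node (.leaf 2749) (.leaf 3966))) (.node (.node (.leaf 2089) (.leaf 2475)) (.node (.leaf 3423) (.leaf 890))))) (.node (.node (.node (.node (.leaf 684) (.leaf 3696)) (.node (.leaf 2638) (.leaf 2613))) (.node (.node (.leaf 1834) (.leaf 1160)) (.node (.leaf 859) (.leaf 716)))) (.node (.node (.node (.leaf 1248) (.leaf 929)) (.node (.leaf 898) (.leaf 2560))) (.node (.node (.leaf 2308) (.leaf 3969)) (.node (.leaf 3353) (.leaf 4090))))))))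

def twoNext44 : Janko.Tree (ℕ) :=
  (.node (.node (.node (.node (.node (.node (.node (.leaf 3) (.leaf 2835)) (.node (.leaf 1584) (.leaf 3981))) (.node (.node (.leaf 176) (.leaf 1448)) (.node (.leaf 2970) (.leaf 2538)))) (.node (.node (.node (.leaf 163) (.leaf 3190)) (.node (.leaf 2669) (.leaf 2300))) (.node (.node (.leaf 272) (.leaf 2668)) (.node (.leaf 732) (.leaf 3609))))) (.node (.node (.node (.node (.leaf 243) (.leaf 2836)) (.node (.leaf 2518) (.leaf 2573))) (.node (.node (.leaf 1631) (.leaf 3214)) (.node (.leaf 3078) (.leaf 2347)))) (.node (.node (.node (.leaf 672) (.leaf 1092)) (.node (.leaf 1670) (.leaf 1948))) (.node (.node (.leaf 320) (.leaf 1575)) (.node (.leaf 1203) (.leaf 3726)))))) (.node (.node (.node (.node (.node (.leaf 242) (.leaf 3557)) (.node (.leaf 1760) (.leaf 3971))) (.node (.node (.leaf 310) (.leaf 1255)) (.node (.leaf 2826) (.leaf 2200)))) (.node (.node (.node (.leaf 938) (.leaf 1218)) (.node (.leaf 2722) (.leaf 1893))) (.node (.node (.leaf 449) (.leaf 1498)) (.node (.leaf 1402) (.leaf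 2930))))) (.node (.node (.node (.node (.leaf 592) (.leaf 2984)) (.node (.leaf 1784) (.leaf 1769))) (.node (.node (.leaf 248) (.leaf 3052)) (.node (.leaf 1403) (.leaf 4052)))) (.node (.node (.node (.leaf 1213) (.leaf 3478)) (.node (.leaf 2804) (.leaf 2489))) (.node (.node (.leaf 1741) (.leaf 3952)) (.node (.leaf 943) (.leaf 3553))))))) (.node (.node (.node (.node (.node (.node (.leaf 141) (.leaf 3573)) (.node (.leaf 1532) (.leaf 3997))) (.node (.node (.leaf 768) (.leaf 2979)) (.node (.leaf 3021) (.leaf 3892)))) (.node (.node (.node (.leaf 93) (.leaf 3723)) (.node (.leaf 509) (.leaf 4062))) (.node (.node (.leaf 1972) (.leaf 2753)) (.node (.leaf 747) (.leaf 2896))))) (.node (.node (.node (.node (.leaf 512) (.leaf 3285)) (.node (.leaf 2558) (.leaf 2016))) (.node (.node (.leaf 1637) (.leaf 3747)) (.node (.leaf 1166) (.leaf 2575)))) (.node (.node (.node (.leaf 1145) (.leaf 3617)) (.node (.leaf 2799) (.leaf 2721))) (.node (.node (.leaf 454) (.leaf 1781)) (.node (.leaf 3477) (.leaf 3219)))))) (.node (.node (.node (.node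 (.node (.leaf 32) (.leaf 2877)) (.node (.leaf 2486) (.leaf 3945))) (.node (.node (.leaf 1485) (.leaf 1286)) (.node (.leaf 3059) (.leaf 2274)))) (.node (.node (.node (.leaf 115) (.leaf 3632)) (.node (.leaf 541) (.leaf 2618))) (.node (.node (.leaf 308) (.leaf 2066)) (.node (.leaf 1252) (.leaf 4090))))) (.node (.node (.node (.node (.leaf 178) (.leaf 988)) (.node (.leaf 1858) (.leaf 1794))) (.node (.node (.leaf 1835) (.leaf 3774)) (.node (.leaf 930) (.leaf 3663)))) (.node (.node (.node (.leaf 832) (.leaf 1214)) (.node (.leaf 600) (.leaf 2080))) (.node (.node (.leaf 2229) (.leaf 2572)) (.node (.leaf 1251) (.leaf 3810))))))))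

def twoNext45 : Janko.Tree (ℕ) :=
  (.node (.node (.node (.node (.node (.node (.node (.leaf 38) (.leaf 3170)) (.node (.leaf 1991) (.leaf 1618))) (.node (.node (.leaf 870) (.leaf 1203)) (.node (.leaf 614) (.leaf 2118)))) (.node (.node (.node (.leaf 766) (.leaf 1310)) (.node (.leaf 496) (.leaf 2742))) (.node (.node (.leaf 1597) (.leaf 2247)) (.node (.leaf 3300) (.leaf 2854))))) (.node (.node (.node (.node (.leaf 42) (.leaf 1277)) (.node (.leaf 2519) (.leaf 4020))) (.node (.node (.leaf 1632) (.leaf 1453)) (.node (.leaf 2828) (.leaf 2405)))) (.node (.node (.node (.leaf 125) (.leaf 1446)) (.node (.leaf 556) (.leaf 3901))) (.node (.node (.leaf 2156) (.leaf 3823)) (.node (.leaf 1334) (.leaf 3079)))))) (.node (.node (.node (.node (.node (.leaf 243) (.leaf 890)) (.node (.leaf 1777) (.leaf 2251))) (.node (.node (.leaf 1480) (.leaf 3281)) (.node (.leaf 3070) (.leaf 2745)))) (.node (.node (.node (.leaf 939) (.leaf 1042)) (.node (.leaf 2376) (.leaf 2362))) (.node (.node (.leaf 1536) (.leaf 2194)) (.node (.leaf 3344) (.leaf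 3481))))) (.node (.node (.node (.node (.leaf 593) (.leaf 3147)) (.node (.leaf 2603) (.leaf 4015))) (.node (.node (.leaf 1532) (.leaf 2903)) (.node (.leaf 702) (.leaf 2566)))) (.node (.node (.node (.leaf 151) (.leaf 1154)) (.node (.leaf 589) (.leaf 3977))) (.node (.node (.leaf 567) (.leaf 3953)) (.node (.leaf 3504) (.leaf 3585))))))) (.node (.node (.node (.node (.node (.node (.leaf 142) (.leaf 3574)) (.node (.leaf 421) (.leaf 2244))) (.node (.node (.leaf 1417) (.leaf 1227)) (.node (.leaf 3022) (.leaf 2764)))) (.node (.node (.node (.leaf 848) (.leaf 1025)) (.node (.leaf 2480) (.leaf 3917))) (.node (.node (.leaf 1973) (.leaf 1484)) (.node (.leaf 3194) (.leaf 3394))))) (.node (.node (.node (.node (.leaf 52) (.leaf 3169)) (.node (.leaf 451) (.leaf 4032))) (.node (.node (.leaf 1701) (.leaf 1367)) (.node (.leaf 687) (.leaf 2462)))) (.node (.node (.node (.leaf 140) (.leaf 1123)) (.node (.leaf 2723) (.leaf 4049))) (.node (.node (.leaf 331) (.leaf 3921)) (.node (.leaf 3260) (.leaf 3816)))))) (.node (.node (.node (.node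 (.node (.leaf 201) (.leaf 3584)) (.node (.leaf 1585) (.leaf 1985))) (.node (.node (.leaf 212) (.leaf 3298)) (.node (.leaf 3130) (.leaf 2641)))) (.node (.node (.node (.leaf 1002) (.leaf 3694)) (.node (.leaf 1459) (.leaf 4001))) (.node (.node (.leaf 2090) (.leaf 1515)) (.node (.leaf 3424) (.leaf 3013))))) (.node (.node (.node (.node (.leaf 685) (.leaf 1288)) (.node (.leaf 480) (.leaf 3869))) (.node (.node (.leaf 1836) (.leaf 3646)) (.node (.leaf 2897) (.leaf 2990)))) (.node (.node (.node (.leaf 1281) (.leaf 3631)) (.node (.leaf 2923) (.leaf 2326))) (.node (.node (.leaf 2309) (.leaf 3970)) (.node (.leaf 837) (.leaf 3769))))))))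

def twoNext46 : Janko.Tree (ℕ) :=
  (.node (.node (.node (.node (.node (.node (.node (.leaf 39) (.leaf 858)) (.node (.leaf 562) (.leaf 2133))) (.node (.node (.leaf 1342) (.leaf 3543)) (.node (.leaf 2820) (.leaf 3853)))) (.node (.node (.node (.leaf 767) (.leaf 1084)) (.node (.leaf 2232) (.leaf 3980))) (.node (.node (.leaf 408) (.leaf 2537)) (.node (.leaf 3322) (.leaf 2961))))) (.node (.node (.node (.node (.leaf 424) (.leaf 3065)) (.node (.leaf 1631) (.leaf 1710))) (.node (.node (.leaf 1633) (.leaf 3792)) (.node (.leaf 670) (.leaf 4055)))) (.node (.node (.node (.leaf 601) (.leaf 3245)) (.node (.leaf 1736) (.leaf 3845))) (.node (.node (.leaf 336) (.leaf 3881)) (.node (.leaf 790) (.leaf 3800)))))) (.node (.node (.node (.node (.node (.leaf 22) (.leaf 3599)) (.node (.leaf 404) (.leaf 1656))) (.node (.node (.leaf 521) (.leaf 3771)) (.node (.leaf 692) (.leaf 2724)))) (.node (.node (.node (.leaf 686) (.leaf 1352)) (.node (.leaf 2424) (.leaf 2268))) (.node (.node (.leaf 1826) (.leaf 1602)) (.node (.leaf 3350) (.leaf 2932)))))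 (.node (.node (.node (.node (.leaf 594) (.leaf 967)) (.node (.leaf 566) (.leaf 1774))) (.node (.node (.leaf 1749) (.leaf 3069)) (.node (.leaf 1443) (.leaf 2691)))) (.node (.node (.node (.leaf 1214) (.leaf 3407)) (.node (.leaf 1071) (.leaf 4071))) (.node (.node (.leaf 347) (.leaf 1577)) (.node (.leaf 3505) (.leaf 4092))))))) (.node (.node (.node (.node (.node (.node (.leaf 143) (.leaf 875)) (.node (.leaf 389) (.leaf 2208))) (.node (.node (.leaf 188) (.leaf 3676)) (.node (.leaf 3023) (.leaf 2152)))) (.node (.node (.node (.leaf 826) (.leaf 3688)) (.node (.leaf 2655) (.leaf 1838))) (.node (.node (.leaf 1974) (.leaf 3855)) (.node (.leaf 3292) (.leaf 3732))))) (.node (.node (.node (.node (.leaf 360) (.leaf 3601)) (.node (.leaf 2559) (.leaf 3943))) (.node (.node (.leaf 429) (.leaf 2868)) (.node (.leaf 1217) (.leaf 2438)))) (.node (.node (.node (.leaf 1146) (.leaf 3698)) (.node (.leaf 2800) (.leaf 4017))) (.node (.node (.leaf 1695) (.leaf 1812)) (.node (.leaf 3478) (.leaf 3157)))))) (.node (.node (.node (.node (.node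 (.leaf 340) (.leaf 940)) (.node (.leaf 2487) (.leaf 1678))) (.node (.node (.leaf 1558) (.leaf 3568)) (.node (.leaf 656) (.leaf 2331)))) (.node (.node (.node (.leaf 684) (.leaf 3424)) (.node (.leaf 2745) (.leaf 1949))) (.node (.node (.leaf 2091) (.leaf 1824)) (.node (.leaf 3305) (.leaf 3152))))) (.node (.node (.node (.node (.leaf 161) (.leaf 3274)) (.node (.leaf 1885) (.leaf 3921))) (.node (.node (.leaf 1837) (.leaf 3087)) (.node (.leaf 716) (.leaf 2894)))) (.node (.node (.node (.leaf 1189) (.leaf 1181)) (.node (.leaf 2924) (.leaf 2467))) (.node (.node (.leaf 2142) (.leaf 2711)) (.node (.leaf 3527) (.leaf 3489))))))))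

def twoNext47 : Janko.Tree (ℕ) :=
  (.node (.node (.node (.node (.node (.node (.node (.leaf 40) (.leaf 662)) (.node (.leaf 2367) (.leaf 3982))) (.node (.node (.leaf 1353) (.leaf 1238)) (.node (.leaf 1011) (.leaf 1970)))) (.node (.node (.node (.leaf 768) (.leaf 3709)) (.node (.leaf 2462) (.leaf 2496))) (.node (.node (.leaf 1902) (.leaf 3826)) (.node (.leaf 1429) (.leaf 3320))))) (.node (.node (.node (.node (.leaf 425) (.leaf 3587)) (.node (.leaf 2520) (.leaf 2131))) (.node (.node (.leaf 1634) (.leaf 168)) (.node (.leaf 1317) (.leaf 4031)))) (.node (.node (.node (.leaf 1079) (.leaf 3568)) (.node (.leaf 1871) (.leaf 2575))) (.node (.node (.leaf 2157) (.leaf 1736)) (.node (.leaf 3192) (.leaf 786)))))) (.node (.node (.node (.node (.node (.leaf 244) (.leaf 824)) (.node (.leaf 2364) (.leaf 4009))) (.node (.node (.leaf 1481) (.leaf 3676)) (.node (.leaf 3071) (.leaf 2670)))) (.node (.node (.node (.leaf 105) (.leaf 15)) (.node (.leaf 2723) (.leaf 4049))) (.node (.node (.leaf 2019) (.leaf 3881)) (.node (.leaf 3402) (.leaf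 3383))))) (.node (.node (.node (.node (.leaf 595) (.leaf 3677)) (.node (.leaf 2007) (.leaf 4044))) (.node (.node (.leaf 1770) (.leaf 3278)) (.node (.leaf 189) (.leaf 2767)))) (.node (.node (.node (.leaf 1215) (.leaf 2898)) (.node (.leaf 2857) (.leaf 2564))) (.node (.node (.leaf 1668) (.leaf 1699)) (.node (.leaf 1312) (.leaf 3608))))))) (.node (.node (.node (.node (.node (.node (.leaf 144) (.leaf 1327)) (.node (.leaf 382) (.leaf 3998))) (.node (.node (.leaf 1418) (.leaf 3053)) (.node (.leaf 167) (.leaf 4026)))) (.node (.node (.node (.leaf 849) (.leaf 1244)) (.node (.leaf 2700) (.leaf 2598))) (.node (.node (.leaf 1468) (.leaf 259)) (.node (.leaf 3368) (.leaf 3673))))) (.node (.node (.node (.node (.leaf 513) (.leaf 98)) (.node (.leaf 2357) (.leaf 1499))) (.node (.node (.leaf 1702) (.leaf 3659)) (.node (.leaf 3206) (.leaf 2211)))) (.node (.node (.node (.leaf 606) (.leaf 2944)) (.node (.leaf 1749) (.leaf 2265))) (.node (.node (.leaf 401) (.leaf 1671)) (.node (.leaf 674) (.leaf 1047)))))) (.node (.node (.node (.node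 (.node (.leaf 341) (.leaf 1384)) (.node (.leaf 48) (.leaf 506))) (.node (.node (.leaf 1559) (.leaf 171)) (.node (.leaf 3131) (.leaf 2414)))) (.node (.node (.node (.leaf 1003) (.leaf 177)) (.node (.leaf 456) (.leaf 4057))) (.node (.node (.leaf 2092) (.leaf 3908)) (.node (.leaf 3147) (.leaf 2929))))) (.node (.node (.node (.node (.leaf 156) (.leaf 3241)) (.node (.leaf 2416) (.leaf 1633))) (.node (.node (.leaf 1838) (.leaf 3446)) (.node (.leaf 3276) (.leaf 2888)))) (.node (.node (.node (.leaf 1282) (.leaf 1132)) (.node (.leaf 2925) (.leaf 2568))) (.node (.node (.leaf 399) (.leaf 2257)) (.node (.leaf 3528) (.leaf 921))))))))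

def twoNext48 : Janko.Tree (ℕ) :=
  (.node (.node (.node (.node (.node (.node (.node (.leaf 41) (.leaf 3110)) (.node (.leaf 2368) (.leaf 3827))) (.node (.node (.leaf 1130) (.leaf 3051)) (.node (.leaf 615) (.leaf 2227)))) (.node (.node (.node (.leaf 769) (.leaf 3026)) (.node (.leaf 1844) (.leaf 1820))) (.node (.node (.leaf 1903) (.leaf 1468)) (.node (.leaf 1205) (.leaf 2855))))) (.node (.node (.node (.node (.leaf 426) (.leaf 3628)) (.node (.leaf 2521) (.leaf 2463))) (.node (.node (.leaf 223) (.leaf 3085)) (.node (.leaf 3174) (.leaf 2608)))) (.node (.node (.node (.leaf 1080) (.leaf 3351)) (.node (.leaf 1833) (.leaf 3898))) (.node (.node (.leaf 1462) (.leaf 2428)) (.node (.leaf 3191) (.leaf 3704)))))) (.node (.node (.node (.node (.node (.leaf 245) (.leaf 2967)) (.node (.leaf 1816) (.leaf 2399))) (.node (.node (.leaf 577) (.leaf 3757)) (.node (.leaf 3072) (.leaf 2649)))) (.node (.node (.node (.leaf 104) (.leaf 3129)) (.node (.leaf 525) (.leaf 1904))) (.node (.node (.leaf 1704) (.leaf 2282)) (.node (.leaf 3368) (.leaf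 2933))))) (.node (.node (.node (.node (.leaf 63) (.leaf 3678)) (.node (.leaf 465) (.leaf 3982))) (.node (.node (.leaf 439) (.leaf 3770)) (.node (.leaf 3245) (.leaf 2569)))) (.node (.node (.node (.leaf 723) (.leaf 1155)) (.node (.leaf 2858) (.leaf 2031))) (.node (.node (.leaf 2256) (.leaf 2271)) (.node (.leaf 822) (.leaf 3423))))))) (.node (.node (.node (.node (.node (.node (.leaf 13) (.leaf 1326)) (.node (.leaf 2413) (.leaf 2378))) (.node (.node (.leaf 833) (.leaf 2850)) (.node (.leaf 629) (.leaf 2188)))) (.node (.node (.node (.leaf 850) (.leaf 2957)) (.node (.leaf 2656) (.leaf 2677))) (.node (.node (.leaf 285) (.leaf 2138)) (.node (.leaf 1148) (.leaf 3619))))) (.node (.node (.node (.node (.leaf 514) (.leaf 3506)) (.node (.leaf 2560) (.leaf 2445))) (.node (.node (.leaf 380) (.leaf 2964)) (.node (.leaf 3207) (.leaf 2439)))) (.node (.node (.node (.leaf 1147) (.leaf 3201)) (.node (.leaf 2801) (.leaf 4038))) (.node (.node (.leaf 2211) (.leaf 2524)) (.node (.leaf 806) (.leaf 3480)))))) (.node (.node (.node (.node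 (.node (.leaf 212) (.leaf 1173)) (.node (.leaf 421) (.leaf 4018))) (.node (.node (.leaf 1560) (.leaf 2827)) (.node (.leaf 1045) (.leaf 2295)))) (.node (.node (.node (.leaf 1004) (.leaf 2837)) (.node (.leaf 2410) (.leaf 1909))) (.node (.node (.leaf 2093) (.leaf 1546)) (.node (.leaf 3425) (.leaf 3284))))) (.node (.node (.node (.node (.leaf 73) (.leaf 3033)) (.node (.leaf 2247) (.leaf 3896))) (.node (.node (.leaf 260) (.leaf 2844)) (.node (.leaf 2905) (.leaf 3561)))) (.node (.node (.node (.leaf 164) (.leaf 3518)) (.node (.leaf 1103) (.leaf 4063))) (.node (.node (.leaf 364) (.leaf 2763)) (.node (.leaf 996) (.leaf 3793))))))))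

def twoNext49 : Janko.Tree (ℕ) :=
  (.node (.node (.node (.node (.node (.node (.node (.leaf 3) (.leaf 3076)) (.node (.leaf 375) (.leaf 2646))) (.node (.node (.leaf 176) (.leaf 3323)) (.node (.leaf 2971) (.leaf 2120)))) (.node (.node (.node (.leaf 83) (.leaf 1008)) (.node (.leaf 514) (.leaf 2006))) (.node (.node (.leaf 272) (.leaf 1675)) (.node (.leaf 732) (.leaf 3599))))) (.node (.node (.node (.node (.leaf 427) (.leaf 922)) (.node (.leaf 435) (.leaf 2096))) (.node (.node (.leaf 1635) (.leaf 3016)) (.node (.leaf 841) (.leaf 2584)))) (.node (.node (.node (.leaf 1081) (.leaf 1092)) (.node (.leaf 1558) (.leaf 2057))) (.node (.node (.leaf 320) (.leaf 1723)) (.node (.leaf 3457) (.leaf 3792)))))) (.node (.node (.node (.node (.node (.leaf 246) (.leaf 1395)) (.node (.leaf 405) (.leaf 3985))) (.node (.node (.leaf 1482) (.leaf 1255)) (.node (.leaf 644) (.leaf 2638)))) (.node (.node (.node (.leaf 857) (.leaf 1212)) (.node (.leaf 2724) (.leaf 1870))) (.node (.node (.leaf 1570) (.leaf 1498)) (.node (.leaf 762) (.leaf 3410)))))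 (.node (.node (.node (.node (.leaf 596) (.leaf 968)) (.node (.leaf 2322) (.leaf 1918))) (.node (.node (.leaf 248) (.leaf 3627)) (.node (.leaf 1440) (.leaf 4040)))) (.node (.node (.node (.leaf 1216) (.leaf 3539)) (.node (.leaf 2859) (.leaf 3922))) (.node (.node (.leaf 348) (.leaf 2746)) (.node (.leaf 2967) (.leaf 3800))))))) (.node (.node (.node (.node (.node (.node (.leaf 145) (.leaf 3575)) (.node (.leaf 519) (.leaf 1796))) (.node (.node (.leaf 1419) (.leaf 3600)) (.node (.leaf 1038) (.leaf 2563)))) (.node (.node (.node (.leaf 93) (.leaf 2989)) (.node (.leaf 2577) (.leaf 2349))) (.node (.node (.leaf 1627) (.leaf 2022)) (.node (.leaf 747) (.leaf 3534))))) (.node (.node (.node (.node (.leaf 515) (.leaf 946)) (.node (.leaf 2561) (.leaf 2762))) (.node (.node (.leaf 1703) (.leaf 3650)) (.node (.leaf 3208) (.leaf 2653)))) (.node (.node (.node (.leaf 1148) (.leaf 3272)) (.node (.leaf 576) (.leaf 2269))) (.node (.node (.leaf 2212) (.leaf 1559)) (.node (.leaf 3479) (.leaf 3295)))))) (.node (.node (.node (.node (.node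 (.leaf 342) (.leaf 907)) (.node (.leaf 1495) (.leaf 1679))) (.node (.node (.leaf 1561) (.leaf 1289)) (.node (.leaf 3132) (.leaf 2697)))) (.node (.node (.node (.leaf 115) (.leaf 3061)) (.node (.leaf 541) (.leaf 3973))) (.node (.node (.leaf 2094) (.leaf 1810)) (.node (.leaf 778) (.leaf 3021))))) (.node (.node (.node (.node (.leaf 686) (.leaf 3201)) (.node (.leaf 2644) (.leaf 1934))) (.node (.node (.leaf 1839) (.leaf 3804)) (.node (.leaf 1113) (.leaf 2895)))) (.node (.node (.node (.leaf 1283) (.leaf 2876)) (.node (.leaf 600) (.leaf 2624))) (.node (.node (.leaf 2026) (.leaf 1598)) (.node (.leaf 1305) (.leaf 3760))))))))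

def twoNext50 : Janko.Tree (ℕ) :=
  (.node (.node (.node (.node (.node (.node (.node (.leaf 42) (.leaf 3386)) (.node (.leaf 421) (.leaf 1718))) (.node (.node (.leaf 1354) (.leaf 1203)) (.node (.leaf 2883) (.leaf 2139)))) (.node (.node (.node (.leaf 770) (.leaf 2936)) (.node (.leaf 2551) (.leaf 2737))) (.node (.node (.leaf 1904) (.leaf 3827)) (.node (.leaf 1336) (.leaf 3414))))) (.node (.node (.node (.node (.leaf 428) (.leaf 3202)) (.node (.leaf 2400) (.leaf 1711))) (.node (.node (.leaf 1500) (.leaf 3113)) (.node (.leaf 3175) (.leaf 2348)))) (.node (.node (.node (.leaf 989) (.leaf 1244)) (.node (.leaf 556) (.leaf 1948))) (.node (.node (.leaf 2158) (.leaf 1535)) (.node (.leaf 983) (.leaf 3339)))))) (.node (.node (.node (.node (.node (.leaf 247) (.leaf 3600)) (.node (.leaf 1792) (.leaf 3900))) (.node (.node (.leaf 494) (.leaf 3781)) (.node (.leaf 906) (.leaf 2200)))) (.node (.node (.node (.leaf 693) (.leaf 1042)) (.node (.leaf 2321) (.leaf 1922))) (.node (.node (.leaf 297) (.leaf 2308)) (.node (.leaf 1353) (.leaf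 3641))))) (.node (.node (.node (.node (.leaf 597) (.leaf 1393)) (.node (.leaf 2604) (.leaf 4021))) (.node (.node (.leaf 1771) (.leaf 3047)) (.node (.leaf 702) (.leaf 2683)))) (.node (.node (.node (.leaf 1006) (.leaf 3365)) (.node (.leaf 2860) (.leaf 2579))) (.node (.node (.leaf 2257) (.leaf 3954)) (.node (.leaf 3368) (.leaf 3741))))))) (.node (.node (.node (.node (.node (.node (.leaf 146) (.leaf 1316)) (.node (.leaf 2414) (.leaf 3999))) (.node (.node (.leaf 1420) (.leaf 1228)) (.node (.leaf 1066) (.leaf 2153)))) (.node (.node (.node (.leaf 851) (.leaf 3724)) (.node (.leaf 509) (.leaf 2801))) (.node (.node (.leaf 1648) (.leaf 1484)) (.node (.leaf 3269) (.leaf 3725))))) (.node (.node (.node (.node (.leaf 516) (.leaf 3573)) (.node (.leaf 2562) (.leaf 1738))) (.node (.node (.leaf 363) (.leaf 2973)) (.node (.leaf 3209) (.leaf 2527)))) (.node (.node (.node (.leaf 140) (.leaf 1168)) (.node (.leaf 2011) (.leaf 2339))) (.node (.node (.leaf 2155) (.leaf 3931)) (.node (.leaf 1184) (.leaf 3205)))))) (.node (.node (.node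 (.node (.node (.leaf 32) (.leaf 3572)) (.node (.leaf 2241) (.leaf 2427))) (.node (.node (.leaf 1562) (.leaf 2813)) (.node (.leaf 723) (.leaf 2433)))) (.node (.node (.node (.leaf 1005) (.leaf 1065)) (.node (.leaf 2199) (.leaf 1918))) (.node (.node (.leaf 308) (.leaf 1515)) (.node (.leaf 1390) (.leaf 3074))))) (.node (.node (.node (.node (.leaf 151) (.leaf 988)) (.node (.leaf 480) (.leaf 1794))) (.node (.node (.leaf 296) (.leaf 1448)) (.node (.leaf 2940) (.leaf 3240)))) (.node (.node (.node (.leaf 1284) (.leaf 3053)) (.node (.leaf 2832) (.leaf 3970))) (.node (.node (.leaf 2310) (.leaf 2769)) (.node (.leaf 837) (.leaf 3492))))))))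

def twoNext51 : Janko.Tree (ℕ) :=
  (.node (.node (.node (.node (.node (.node (.node (.leaf 43) (.leaf 1038)) (.node (.leaf 2369) (.leaf 2048))) (.node (.node (.leaf 1355) (.leaf 621)) (.node (.leaf 2972) (.leaf 1914)))) (.node (.node (.node (.leaf 771) (.leaf 3710)) (.node (.leaf 44) (.leaf 274))) (.node (.node (.leaf 1905) (.leaf 1796)) (.node (.leaf 861) (.leaf 3490))))) (.node (.node (.node (.node (.leaf 429) (.leaf 3011)) (.node (.leaf 490) (.leaf 2647))) (.node (.node (.leaf 1636) (.leaf 1400)) (.node (.leaf 3176) (.leaf 3960)))) (.node (.node (.node (.leaf 9) (.leaf 881)) (.node (.leaf 2770) (.leaf 3946))) (.node (.node (.leaf 2159) (.leaf 2349)) (.node (.leaf 1286) (.leaf 968)))))) (.node (.node (.node (.node (.node (.leaf 248) (.leaf 3601)) (.node (.leaf 2282) (.leaf 1601))) (.node (.node (.leaf 229) (.leaf 3700)) (.node (.leaf 2963) (.leaf 2323)))) (.node (.node (.node (.leaf 940) (.leaf 142)) (.node (.leaf 2673) (.leaf 2207))) (.node (.node (.leaf 2038) (.leaf 2446)) (.node (.leaf 3403) (.leaf 3801)))))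 (.node (.node (.node (.node (.leaf 598) (.leaf 1008)) (.node (.leaf 2605) (.leaf 2425))) (.node (.node (.leaf 1772) (.leaf 3813)) (.node (.leaf 3246) (.leaf 3831)))) (.node (.node (.node (.leaf 1191) (.leaf 185)) (.node (.leaf 1112) (.leaf 1890))) (.node (.node (.leaf 2258) (.leaf 477)) (.node (.leaf 3506) (.leaf 736))))))) (.node (.node (.node (.node (.node (.node (.leaf 147) (.leaf 3539)) (.node (.leaf 2415) (.leaf 1619))) (.node (.node (.leaf 1421) (.leaf 2828)) (.node (.leaf 1428) (.leaf 3890)))) (.node (.node (.node (.leaf 852) (.leaf 1058)) (.node (.leaf 2701) (.leaf 1974))) (.node (.node (.leaf 1975) (.leaf 1822)) (.node (.leaf 3129) (.leaf 3631))))) (.node (.node (.node (.node (.leaf 517) (.leaf 1437)) (.node (.leaf 2563) (.leaf 2660))) (.node (.node (.leaf 358) (.leaf 3783)) (.node (.leaf 2816) (.leaf 2696)))) (.node (.node (.node (.leaf 1149) (.leaf 3457)) (.node (.leaf 2802) (.leaf 285))) (.node (.node (.leaf 457) (.leaf 1531)) (.node (.leaf 1106) (.leaf 1084)))))) (.node (.node (.node (.node (.node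 (.leaf 343) (.leaf 3155)) (.node (.leaf 2488) (.leaf 2359))) (.node (.node (.leaf 518) (.leaf 3043)) (.node (.leaf 853) (.leaf 4056)))) (.node (.node (.node (.leaf 1006) (.leaf 3099)) (.node (.leaf 2750) (.leaf 2346))) (.node (.node (.leaf 2095) (.leaf 3909)) (.node (.leaf 3426) (.leaf 67))))) (.node (.node (.node (.node (.leaf 165) (.leaf 3523)) (.node (.leaf 2645) (.leaf 4050))) (.node (.node (.leaf 1840) (.leaf 3436)) (.node (.leaf 3277) (.leaf 582)))) (.node (.node (.node (.leaf 594) (.leaf 917)) (.node (.leaf 2926) (.leaf 369))) (.node (.node (.leaf 287) (.leaf 2014)) (.node (.leaf 3529) (.leaf 2887))))))))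

def twoNext52 : Janko.Tree (ℕ) :=
  (.node (.node (.node (.node (.node (.node (.node (.leaf 44) (.leaf 860)) (.node (.leaf 2344) (.leaf 2700))) (.node (.node (.leaf 1356) (.leaf 3211)) (.node (.leaf 2881) (.leaf 2216)))) (.node (.node (.node (.leaf 147) (.leaf 1354)) (.node (.leaf 497) (.leaf 2592))) (.node (.node (.leaf 1906) (.leaf 3828)) (.node (.leaf 3323) (.leaf 2857))))) (.node (.node (.node (.node (.leaf 43) (.leaf 2938)) (.node (.leaf 2485) (.leaf 2582))) (.node (.node (.leaf 440) (.leaf 3427)) (.node (.leaf 901) (.leaf 2370)))) (.node (.node (.node (.leaf 126) (.leaf 3244)) (.node (.leaf 1604) (.leaf 2723))) (.node (.node (.leaf 365) (.leaf 2348)) (.node (.leaf 1295) (.leaf 3083)))))) (.node (.node (.node (.node (.node (.leaf 23) (.leaf 891)) (.node (.leaf 2451) (.leaf 2616))) (.node (.node (.leaf 202) (.leaf 1256)) (.node (.leaf 2895) (.leaf 2454)))) (.node (.node (.node (.leaf 699) (.leaf 1299)) (.node (.leaf 1689) (.leaf 1923))) (.node (.node (.leaf 2039) (.leaf 2733)) (.node (.leaf 2952) (.leaf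 2934))))) (.node (.node (.node (.node (.leaf 599) (.leaf 2998)) (.node (.leaf 2606) (.leaf 2426))) (.node (.node (.leaf 376) (.leaf 2816)) (.node (.leaf 971) (.leaf 4054)))) (.node (.node (.node (.leaf 152) (.leaf 3132)) (.node (.leaf 619) (.leaf 4078))) (.node (.node (.leaf 1815) (.leaf 1579)) (.node (.leaf 3507) (.leaf 3812))))))) (.node (.node (.node (.node (.node (.node (.leaf 148) (.leaf 876)) (.node (.leaf 2416) (.leaf 1635))) (.node (.node (.leaf 834) (.leaf 3218)) (.node (.leaf 1072) (.leaf 2192)))) (.node (.node (.node (.leaf 853) (.leaf 1026)) (.node (.leaf 1905) (.leaf 2551))) (.node (.node (.leaf 1872) (.leaf 3856)) (.node (.leaf 3302) (.leaf 3013))))) (.node (.node (.node (.node (.leaf 53) (.leaf 948)) (.node (.leaf 452) (.leaf 1740))) (.node (.node (.leaf 510) (.leaf 2893)) (.node (.leaf 1153) (.leaf 2636)))) (.node (.node (.node (.leaf 1150) (.leaf 2825)) (.node (.leaf 1881) (.leaf 1989))) (.node (.node (.leaf 2213) (.leaf 3941)) (.node (.leaf 1007) (.leaf 3265)))))) (.node (.node (.node (.node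 (.node (.leaf 344) (.leaf 1362)) (.node (.leaf 2408) (.leaf 2179))) (.node (.node (.leaf 213) (.leaf 1291)) (.node (.leaf 3050) (.leaf 4048)))) (.node (.node (.node (.leaf 909) (.leaf 1068)) (.node (.leaf 2648) (.leaf 3844))) (.node (.node (.leaf 2096) (.leaf 3910)) (.node (.leaf 977) (.leaf 3014))))) (.node (.node (.node (.node (.leaf 687) (.leaf 1122)) (.node (.leaf 481) (.leaf 1795))) (.node (.node (.leaf 1480) (.leaf 1449)) (.node (.leaf 3278) (.leaf 3509)))) (.node (.node (.node (.leaf 1285) (.leaf 3133)) (.node (.leaf 2927) (.leaf 3825))) (.node (.node (.leaf 2020) (.leaf 1599)) (.node (.leaf 3530) (.leaf 3780))))))))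

def twoNext53 : Janko.Tree (ℕ) :=
  (.node (.node (.node (.node (.node (.node (.node (.leaf 45) (.leaf 2945)) (.node (.leaf 553) (.leaf 2432))) (.node (.node (.leaf 1357) (.leaf 1330)) (.node (.leaf 2973) (.leaf 4085)))) (.node (.node (.node (.leaf 772) (.leaf 1009)) (.node (.leaf 1578) (.leaf 1820))) (.node (.node (.leaf 1907) (.leaf 1683)) (.node (.leaf 3324) (.leaf 2855))))) (.node (.node (.node (.node (.leaf 430) (.leaf 923)) (.node (.leaf 2314) (.leaf 1714))) (.node (.node (.leaf 223) (.leaf 3464)) (.node (.leaf 671) (.leaf 4062)))) (.node (.node (.node (.leaf 1082) (.leaf 1236)) (.node (.leaf 2771) (.leaf 1950))) (.node (.node (.leaf 2160) (.leaf 1832)) (.node (.leaf 1332) (.leaf 3790)))))) (.node (.node (.node (.node (.node (.leaf 249) (.leaf 3521)) (.node (.leaf 2401) (.leaf 1658))) (.node (.node (.leaf 1483) (.leaf 3658)) (.node (.leaf 3073) (.leaf 2607)))) (.node (.node (.node (.leaf 852) (.leaf 1044)) (.node (.leaf 525) (.leaf 1871))) (.node (.node (.leaf 1638) (.leaf 2231)) (.node (.leaf 763) (.leaf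 3371))))) (.node (.node (.node (.node (.leaf 63) (.leaf 1278)) (.node (.leaf 2497) (.leaf 1838))) (.node (.node (.leaf 324) (.leaf 2886)) (.node (.leaf 877) (.leaf 3940)))) (.node (.node (.node (.leaf 1217) (.leaf 2836)) (.node (.leaf 590) (.leaf 2433))) (.node (.node (.leaf 2259) (.leaf 3948)) (.node (.leaf 1250) (.leaf 3278))))))) (.node (.node (.node (.node (.node (.node (.leaf 13) (.leaf 3576)) (.node (.leaf 390) (.leaf 3928))) (.node (.node (.leaf 189) (.leaf 3649)) (.node (.leaf 629) (.leaf 2158)))) (.node (.node (.node (.leaf 854) (.leaf 3372)) (.node (.leaf 2702) (.leaf 3829))) (.node (.node (.leaf 285) (.leaf 2427)) (.node (.leaf 3195) (.leaf 3396))))) (.node (.node (.node (.node (.leaf 518) (.leaf 3522)) (.node (.leaf 2367) (.leaf 3941))) (.node (.node (.leaf 235) (.leaf 3719)) (.node (.leaf 688) (.leaf 2662)))) (.node (.node (.node (.leaf 919) (.leaf 1125)) (.node (.leaf 2699) (.leaf 4024))) (.node (.node (.leaf 2034) (.leaf 2348)) (.node (.leaf 806) (.leaf 3165)))))) (.node (.node (.node (.node (.node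 (.leaf 345) (.leaf 3030)) (.node (.leaf 2489) (.leaf 2336))) (.node (.node (.leaf 1563) (.leaf 3249)) (.node (.leaf 657) (.leaf 3978)))) (.node (.node (.node (.leaf 1007) (.leaf 1181)) (.node (.leaf 2482) (.leaf 2076))) (.node (.node (.leaf 1741) (.leaf 2570)) (.node (.leaf 3374) (.leaf 3497))))) (.node (.node (.node (.node (.leaf 73) (.leaf 3420)) (.node (.leaf 2547) (.leaf 4009))) (.node (.node (.leaf 260) (.leaf 3571)) (.node (.leaf 882) (.leaf 3733)))) (.node (.node (.node (.leaf 1286) (.leaf 1183)) (.node (.leaf 2928) (.leaf 2081))) (.node (.node (.leaf 2311) (.leaf 3946)) (.node (.leaf 3483) (.leaf 3505))))))))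

def twoNext54 : Janko.Tree (ℕ) :=
  (.node (.node (.node (.node (.node (.node (.node (.leaf 46) (.leaf 3226)) (.node (.leaf 1999) (.leaf 2518))) (.node (.node (.leaf 176) (.leaf 1204)) (.node (.leaf 615) (.leaf 2120)))) (.node (.node (.node (.leaf 83) (.leaf 1074)) (.node (.leaf 546) (.leaf 4056))) (.node (.node (.leaf 1908) (.leaf 1468)) (.node (.leaf 732) (.leaf 3595))))) (.node (.node (.node (.node (.leaf 431) (.leaf 3007)) (.node (.leaf 2522) (.leaf 2416))) (.node (.node (.leaf 1637) (.leaf 3657)) (.node (.leaf 3177) (.leaf 3884)))) (.node (.node (.node (.leaf 1064) (.leaf 1092)) (.node (.leaf 1642) (.leaf 4018))) (.node (.node (.leaf 1879) (.leaf 2366)) (.node (.leaf 791) (.leaf 3670)))))) (.node (.node (.node (.node (.node (.leaf 250) (.leaf 2838)) (.node (.leaf 2452) (.leaf 1763))) (.node (.node (.leaf 422) (.leaf 2809)) (.node (.leaf 3009) (.leaf 2202)))) (.node (.node (.node (.leaf 104) (.leaf 3120)) (.node (.leaf 2482) (.leaf 1903))) (.node (.node (.leaf 2040) (.leaf 1536)) (.node (.leaf 3388) (.leaf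 3483))))) (.node (.node (.node (.node (.leaf 600) (.leaf 3409)) (.node (.leaf 465) (.leaf 2722))) (.node (.node (.leaf 248) (.leaf 3623)) (.node (.leaf 1207) (.leaf 2575)))) (.node (.node (.node (.leaf 1160) (.leaf 1156)) (.node (.leaf 865) (.leaf 2114))) (.node (.node (.leaf 529) (.leaf 3955)) (.node (.leaf 1021) (.leaf 3553))))))) (.node (.node (.node (.node (.node (.node (.leaf 149) (.leaf 3506)) (.node (.leaf 2417) (.leaf 1671))) (.node (.node (.leaf 871) (.leaf 3493)) (.node (.leaf 1124) (.leaf 2420)))) (.node (.node (.node (.leaf 93) (.leaf 3111)) (.node (.leaf 2515) (.leaf 2043))) (.node (.node (.leaf 1976) (.leaf 1865)) (.node (.leaf 747) (.leaf 2945))))) (.node (.node (.node (.node (.leaf 259) (.leaf 3603)) (.node (.leaf 2564) (.leaf 2443))) (.node (.node (.leaf 502) (.leaf 2898)) (.node (.leaf 3198) (.leaf 4088)))) (.node (.node (.node (.leaf 683) (.leaf 2810)) (.node (.leaf 2554) (.leaf 2609))) (.node (.node (.leaf 2214) (.leaf 1559)) (.node (.leaf 3290) (.leaf 3796)))))) (.node (.node (.node (.node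 (.node (.leaf 346) (.leaf 987)) (.node (.leaf 2490) (.leaf 2273))) (.node (.node (.leaf 1564) (.leaf 2993)) (.node (.leaf 789) (.leaf 2674)))) (.node (.node (.node (.leaf 1008) (.leaf 3203)) (.node (.leaf 541) (.leaf 1909))) (.node (.node (.leaf 467) (.leaf 3911)) (.node (.leaf 883) (.leaf 3034))))) (.node (.node (.node (.node (.leaf 688) (.leaf 3684)) (.node (.leaf 1778) (.leaf 2679))) (.node (.node (.leaf 456) (.leaf 3542)) (.node (.leaf 3251) (.leaf 3306)))) (.node (.node (.node (.leaf 164) (.leaf 1366)) (.node (.leaf 2929) (.leaf 2361))) (.node (.node (.leaf 364) (.leaf 2540)) (.node (.leaf 3125) (.leaf 3523))))))))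

def twoNext55 : Janko.Tree (ℕ) :=
  (.node (.node (.node (.node (.node (.node (.node (.leaf 47) (.leaf 3294)) (.node (.leaf 2370) (.leaf 1640))) (.node (.node (.leaf 1358) (.leaf 3550)) (.node (.leaf 2974) (.leaf 4041)))) (.node (.node (.node (.leaf 773) (.leaf 3655)) (.node (.leaf 1908) (.leaf 1477))) (.node (.node (.leaf 1909) (.leaf 3829)) (.node (.leaf 2971) (.leaf 3056))))) (.node (.node (.node (.node (.leaf 432) (.leaf 3198)) (.node (.leaf 2192) (.leaf 2738))) (.node (.node (.leaf 300) (.leaf 1287)) (.node (.leaf 1237) (.leaf 2656)))) (.node (.node (.node (.leaf 1083) (.leaf 3004)) (.node (.leaf 471) (.leaf 2735))) (.node (.node (.leaf 2161) (.leaf 3930)) (.node (.leaf 3458) (.leaf 1074)))))) (.node (.node (.node (.node (.node (.leaf 251) (.leaf 3602)) (.node (.leaf 1471) (.leaf 2644))) (.node (.node (.leaf 1484) (.leaf 3200)) (.node (.leaf 3074) (.leaf 2691)))) (.node (.node (.node (.leaf 941) (.leaf 3296)) (.node (.leaf 2173) (.leaf 375))) (.node (.node (.leaf 2041) (.leaf 2548)) (.node (.leaf 1054)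 (.leaf 2807))))) (.node (.node (.node (.node (.leaf 601) (.leaf 813)) (.node (.leaf 2607) (.leaf 3854))) (.node (.node (.leaf 1773) (.leaf 3530)) (.node (.leaf 939) (.leaf 2408)))) (.node (.node (.node (.leaf 1218) (.leaf 3672)) (.node (.leaf 2861) (.leaf 3970))) (.node (.node (.leaf 2260) (.leaf 1849)) (.node (.leaf 3441) (.leaf 3782))))))) (.node (.node (.node (.node (.node (.node (.leaf 150) (.leaf 1307)) (.node (.leaf 212) (.leaf 3859))) (.node (.node (.leaf 1422) (.leaf 3315)) (.node (.leaf 159) (.leaf 1786)))) (.node (.node (.node (.leaf 855) (.leaf 3725)) (.node (.leaf 1584) (.leaf 1643))) (.node (.node (.leaf 1977) (.leaf 376)) (.node (.leaf 3369) (.leaf 856))))) (.node (.node (.node (.node (.leaf 519) (.leaf 3341)) (.node (.leaf 2297) (.leaf 2730))) (.node (.node (.leaf 1704) (.leaf 3654)) (.node (.leaf 3210) (.leaf 4018)))) (.node (.node (.node (.leaf 1151) (.leaf 3008)) (.node (.leaf 364) (.leaf 1809))) (.node (.node (.leaf 278) (.leaf 2452)) (.node (.leaf 3473) (.leaf 3798)))))) (.node (.node (.node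 (.node (.node (.leaf 347) (.leaf 686)) (.node (.leaf 1808) (.leaf 1992))) (.node (.node (.leaf 1565) (.leaf 3311)) (.node (.leaf 999) (.leaf 2652)))) (.node (.node (.node (.leaf 1009) (.leaf 2892)) (.node (.leaf 2751) (.leaf 1821))) (.node (.node (.leaf 461) (.leaf 2140)) (.node (.leaf 3186) (.leaf 1328))))) (.node (.node (.node (.node (.leaf 689) (.leaf 3697)) (.node (.leaf 2646) (.leaf 2777))) (.node (.node (.leaf 1639) (.leaf 3751)) (.node (.leaf 75) (.leaf 152)))) (.node (.node (.node (.leaf 763) (.leaf 3633)) (.node (.leaf 2930) (.leaf 1877))) (.node (.node (.leaf 2312) (.leaf 2503)) (.node (.leaf 1387) (.leaf 3788))))))))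

def twoNext56 : Janko.Tree (ℕ) :=
  (.node (.node (.node (.node (.node (.node (.node (.leaf 4) (.leaf 2819)) (.node (.leaf 406) (.leaf 1620))) (.node (.node (.leaf 1359) (.leaf 1206)) (.node (.leaf 2975) (.leaf 3835)))) (.node (.node (.node (.leaf 188) (.leaf 3204)) (.node (.leaf 2654) (.leaf 4057))) (.node (.node (.leaf 273) (.leaf 1469)) (.node (.leaf 958) (.leaf 3523))))) (.node (.node (.node (.node (.leaf 433) (.leaf 3173)) (.node (.leaf 1707) (.leaf 2699))) (.node (.node (.leaf 1535) (.leaf 3311)) (.node (.leaf 3178) (.leaf 3979)))) (.node (.node (.node (.leaf 1084) (.leaf 1094)) (.node (.leaf 2665) (.leaf 2750))) (.node (.node (.leaf 1848) (.leaf 1536)) (.node (.leaf 3254) (.leaf 3276)))))) (.node (.node (.node (.node (.node (.leaf 252) (.leaf 3603)) (.node (.leaf 1701) (.leaf 1659))) (.node (.node (.leaf 416) (.leaf 2822)) (.node (.leaf 3075) (.leaf 3927)))) (.node (.node (.node (.leaf 942) (.leaf 3131)) (.node (.leaf 2588) (.leaf 2727))) (.node (.node (.leaf 298) (.leaf 2145)) (.node (.leaf 805) (.leaf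 3794))))) (.node (.node (.node (.node (.leaf 602) (.leaf 969)) (.node (.leaf 2232) (.leaf 1773))) (.node (.node (.leaf 1774) (.leaf 3524)) (.node (.leaf 1095) (.leaf 4079)))) (.node (.node (.node (.leaf 1219) (.leaf 2812)) (.node (.leaf 2862) (.leaf 2033))) (.node (.node (.leaf 2261) (.leaf 3876)) (.node (.leaf 823) (.leaf 3781))))))) (.node (.node (.node (.node (.node (.node (.leaf 151) (.leaf 3202)) (.node (.leaf 2161) (.leaf 2306))) (.node (.node (.leaf 1423) (.leaf 1229)) (.node (.leaf 3024) (.leaf 2440)))) (.node (.node (.node (.leaf 856) (.leaf 2997)) (.node (.leaf 2092) (.leaf 1842))) (.node (.node (.leaf 1978) (.leaf 1486)) (.node (.leaf 3370) (.leaf 3777))))) (.node (.node (.node (.node (.leaf 278) (.leaf 3599)) (.node (.leaf 1914) (.leaf 2761))) (.node (.node (.leaf 1705) (.leaf 1374)) (.node (.leaf 1298) (.leaf 2631)))) (.node (.node (.node (.leaf 1152) (.leaf 1156)) (.node (.leaf 1696) (.leaf 2110))) (.node (.node (.leaf 334) (.leaf 1723)) (.node (.leaf 2833) (.leaf 3745)))))) (.node (.node (.node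 (.node (.node (.leaf 33) (.leaf 2823)) (.node (.leaf 423) (.leaf 1680))) (.node (.node (.leaf 1566) (.leaf 3419)) (.node (.leaf 1276) (.leaf 2279)))) (.node (.node (.node (.leaf 1010) (.leaf 1176)) (.node (.leaf 2752) (.leaf 3995))) (.node (.node (.leaf 309) (.leaf 3912)) (.node (.leaf 3304) (.leaf 3037))))) (.node (.node (.node (.node (.leaf 146) (.leaf 989)) (.node (.leaf 2456) (.leaf 4051))) (.node (.node (.leaf 1841) (.leaf 3279)) (.node (.leaf 718) (.leaf 2872)))) (.node (.node (.node (.leaf 625) (.leaf 1446)) (.node (.leaf 601) (.leaf 2423))) (.node (.node (.leaf 1605) (.leaf 2320)) (.node (.leaf 1117) (.leaf 3533))))))))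

def twoNext57 : Janko.Tree (ℕ) :=
  (.node (.node (.node (.node (.node (.node (.node (.leaf 48) (.leaf 1436)) (.node (.leaf 1580) (.leaf 1976))) (.node (.node (.leaf 1360) (.leaf 3321)) (.node (.leaf 616) (.leaf 2122)))) (.node (.node (.node (.leaf 774) (.leaf 3028)) (.node (.leaf 2442) (.leaf 4058))) (.node (.node (.leaf 1910) (.leaf 3830)) (.node (.leaf 733) (.leaf 2857))))) (.node (.node (.node (.node (.leaf 43) (.leaf 1442)) (.node (.leaf 2161) (.leaf 3867))) (.node (.node (.leaf 356) (.leaf 1325)) (.node (.leaf 799) (.leaf 2440)))) (.node (.node (.node (.leaf 126) (.leaf 1238)) (.node (.leaf 1750) (.leaf 2690))) (.node (.node (.leaf 321) (.leaf 3931)) (.node (.leaf 3308) (.leaf 3560)))))) (.node (.node (.node (.node (.node (.leaf 23) (.leaf 3594)) (.node (.leaf 406) (.leaf 1700))) (.node (.node (.leaf 1485) (.leaf 3660)) (.node (.leaf 645) (.leaf 2791)))) (.node (.node (.node (.leaf 943) (.leaf 3158)) (.node (.leaf 2725) (.leaf 2473))) (.node (.node (.leaf 2042) (.leaf 1499)) (.node (.leaf 3404) (.leaf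 3209))))) (.node (.node (.node (.node (.leaf 603) (.leaf 1322)) (.node (.leaf 2608) (.leaf 4045))) (.node (.node (.leaf 1504) (.leaf 3642)) (.node (.leaf 2991) (.leaf 3981)))) (.node (.node (.node (.leaf 1220) (.leaf 3572)) (.node (.leaf 2863) (.leaf 3884))) (.node (.node (.leaf 349) (.leaf 1579)) (.node (.leaf 1138) (.leaf 3283))))))) (.node (.node (.node (.node (.node (.node (.leaf 152) (.leaf 876)) (.node (.leaf 2418) (.leaf 1840))) (.node (.node (.leaf 920) (.leaf 3669)) (.node (.leaf 630) (.leaf 2634)))) (.node (.node (.node (.leaf 94) (.leaf 1026)) (.node (.leaf 2703) (.leaf 1901))) (.node (.node (.leaf 1979) (.leaf 1594)) (.node (.leaf 3277) (.leaf 2898))))) (.node (.node (.node (.node (.leaf 53) (.leaf 949)) (.node (.leaf 452) (.leaf 1828))) (.node (.node (.leaf 236) (.leaf 1430)) (.node (.leaf 1337) (.leaf 4088)))) (.node (.node (.node (.leaf 141) (.leaf 3025)) (.node (.leaf 578) (.leaf 2181))) (.node (.node (.leaf 2215) (.leaf 3819)) (.node (.leaf 3480) (.leaf 3168)))))) (.node (.node (.node (.node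 (.node (.leaf 290) (.leaf 3629)) (.node (.leaf 2491) (.leaf 2784))) (.node (.node (.leaf 213) (.leaf 1295)) (.node (.leaf 658) (.leaf 2411)))) (.node (.node (.node (.leaf 116) (.leaf 3582)) (.node (.leaf 2689) (.leaf 1989))) (.node (.node (.leaf 2097) (.leaf 3913)) (.node (.leaf 1336) (.leaf 3015))))) (.node (.node (.node (.node (.leaf 690) (.leaf 3698)) (.node (.leaf 1883) (.leaf 1795))) (.node (.node (.leaf 1842) (.leaf 3671)) (.node (.leaf 2917) (.leaf 2975)))) (.node (.node (.node (.leaf 1287) (.leaf 3732)) (.node (.leaf 706) (.leaf 2083))) (.node (.node (.leaf 2313) (.leaf 1993)) (.node (.leaf 2831) (.leaf 3711))))))))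

def twoNext58 : Janko.Tree (ℕ) :=
  (.node (.node (.node (.node (.node (.node (.node (.leaf 49) (.leaf 1409)) (.node (.leaf 376) (.leaf 2771))) (.node (.node (.leaf 1361) (.leaf 1298)) (.node (.leaf 2976) (.leaf 3817)))) (.node (.node (.node (.leaf 775) (.leaf 3699)) (.node (.leaf 497) (.leaf 1820))) (.node (.node (.leaf 1911) (.leaf 1686)) (.node (.leaf 1142) (.leaf 3768))))) (.node (.node (.node (.node (.leaf 434) (.leaf 3174)) (.node (.leaf 436) (.leaf 4025))) (.node (.node (.leaf 223) (.leaf 3317)) (.node (.leaf 3179) (.leaf 4087)))) (.node (.node (.node (.leaf 1085) (.leaf 3249)) (.node (.leaf 2103) (.leaf 3918))) (.node (.node (.leaf 2017) (.leaf 2663)) (.node (.leaf 1439) (.leaf 3159)))))) (.node (.node (.node (.node (.node (.leaf 253) (.leaf 891)) (.node (.leaf 1529) (.leaf 2309))) (.node (.node (.leaf 202) (.leaf 1256)) (.node (.leaf 3076) (.leaf 2585)))) (.node (.node (.node (.leaf 944) (.leaf 3399)) (.node (.leaf 2714) (.leaf 2129))) (.node (.node (.leaf 1847) (.leaf 3819)) (.node (.leaf 763) (.leaf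 3470))))) (.node (.node (.node (.node (.leaf 63) (.leaf 3510)) (.node (.leaf 2552) (.leaf 3937))) (.node (.node (.leaf 1471) (.leaf 3529)) (.node (.leaf 703) (.leaf 3988)))) (.node (.node (.node (.leaf 152) (.leaf 3199)) (.node (.leaf 2864) (.leaf 4000))) (.node (.node (.leaf 2262) (.leaf 2432)) (.node (.leaf 3299) (.leaf 3385))))))) (.node (.node (.node (.node (.node (.node (.leaf 13) (.leaf 904)) (.node (.leaf 390) (.leaf 2708))) (.node (.node (.leaf 1424) (.leaf 1431)) (.node (.leaf 1333) (.leaf 3919)))) (.node (.node (.node (.leaf 857) (.leaf 3503)) (.node (.leaf 2690) (.leaf 1969))) (.node (.node (.leaf 1980) (.leaf 3857)) (.node (.leaf 3371) (.leaf 3674))))) (.node (.node (.node (.node (.leaf 520) (.leaf 1410)) (.node (.leaf 2565) (.leaf 2237))) (.node (.node (.leaf 331) (.leaf 3652)) (.node (.leaf 3211) (.leaf 2455)))) (.node (.node (.node (.leaf 1153) (.leaf 3062)) (.node (.leaf 2473) (.leaf 3874))) (.node (.node (.leaf 2122) (.leaf 1731)) (.node (.leaf 2996) (.leaf 3261)))))) (.node (.node (.node (.node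 (.node (.leaf 348) (.leaf 908)) (.node (.leaf 2474) (.leaf 3957))) (.node (.node (.leaf 571) (.leaf 3577)) (.node (.leaf 3133) (.leaf 2632)))) (.node (.node (.node (.leaf 1011) (.leaf 1068)) (.node (.leaf 1900) (.leaf 1910))) (.node (.node (.leaf 2098) (.leaf 2519)) (.node (.leaf 1295) (.leaf 3178))))) (.node (.node (.node (.node (.leaf 73) (.leaf 993)) (.node (.leaf 481) (.leaf 1907))) (.node (.node (.leaf 290) (.leaf 1450)) (.node (.leaf 3275) (.leaf 2880)))) (.node (.node (.node (.leaf 588) (.leaf 1246)) (.node (.leaf 634) (.leaf 3878))) (.node (.node (.leaf 460) (.leaf 1599)) (.node (.leaf 3355) (.leaf 3536))))))))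

def twoNext59 : Janko.Tree (ℕ) :=
  (.node (.node (.node (.node (.node (.node (.node (.leaf 50) (.leaf 3555)) (.node (.leaf 2371) (.leaf 2796))) (.node (.node (.leaf 685) (.leaf 1413)) (.node (.leaf 2977) (.leaf 1879)))) (.node (.node (.node (.leaf 776) (.leaf 120)) (.node (.leaf 1831) (.leaf 3862))) (.node (.node (.leaf 1912) (.leaf 2386)) (.node (.leaf 3325) (.leaf 1102))))) (.node (.node (.node (.node (.leaf 377) (.leaf 3553)) (.node (.leaf 2394) (.leaf 2174))) (.node (.node (.leaf 1638) (.leaf 1452)) (.node (.leaf 1374) (.leaf 370)))) (.node (.node (.node (.leaf 590) (.leaf 3635)) (.node (.leaf 28) (.leaf 2431))) (.node (.node (.leaf 238) (.leaf 3932)) (.node (.leaf 3459) (.leaf 2943)))))) (.node (.node (.node (.node (.node (.leaf 254) (.leaf 94)) (.node (.leaf 1523) (.leaf 4010))) (.node (.node (.leaf 1486) (.leaf 3054)) (.node (.leaf 3077) (.leaf 2397)))) (.node (.node (.node (.leaf 945) (.leaf 195)) (.node (.leaf 52) (.leaf 2275))) (.node (.node (.leaf 2043) (.leaf 3882)) (.node (.leaf 605) (.leaf 3780)))))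 (.node (.node (.node (.node (.leaf 604) (.leaf 1363)) (.node (.leaf 2609) (.leaf 2519))) (.node (.node (.leaf 38) (.leaf 3762)) (.node (.leaf 1277) (.leaf 2745)))) (.node (.node (.node (.leaf 1221) (.leaf 3771)) (.node (.leaf 2865) (.leaf 4060))) (.node (.node (.leaf 2115) (.leaf 528)) (.node (.leaf 1436) (.leaf 4092))))))) (.node (.node (.node (.node (.node (.node (.leaf 153) (.leaf 3577)) (.node (.leaf 1884) (.leaf 240))) (.node (.node (.leaf 1425) (.leaf 3216)) (.node (.leaf 3025) (.leaf 325)))) (.node (.node (.node (.leaf 858) (.leaf 664)) (.node (.leaf 2688) (.leaf 4029))) (.node (.node (.leaf 1981) (.leaf 481)) (.node (.leaf 2961) (.leaf 3690))))) (.node (.node (.node (.node (.leaf 398) (.leaf 3532)) (.node (.leaf 2168) (.leaf 430))) (.node (.node (.leaf 1706) (.leaf 3152)) (.node (.leaf 1211) (.leaf 1491)))) (.node (.node (.node (.leaf 1154) (.leaf 1052)) (.node (.leaf 2390) (.leaf 2759))) (.node (.node (.leaf 1861) (.leaf 3824)) (.node (.leaf 697) (.leaf 3663)))))) (.node (.node (.node (.node (.node (.leaf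 349) (.leaf 1283)) (.node (.leaf 2479) (.leaf 515))) (.node (.node (.leaf 279) (.leaf 2862)) (.node (.leaf 3134) (.leaf 372)))) (.node (.node (.node (.leaf 1012) (.leaf 3444)) (.node (.leaf 484) (.leaf 1903))) (.node (.node (.leaf 2099) (.leaf 1813)) (.node (.leaf 802) (.leaf 3809))))) (.node (.node (.node (.node (.leaf 691) (.leaf 3699)) (.node (.leaf 2094) (.leaf 1524))) (.node (.node (.leaf 1) (.leaf 1089)) (.node (.leaf 3279) (.leaf 3735)))) (.node (.node (.node (.leaf 1288) (.leaf 3283)) (.node (.leaf 2931) (.leaf 4046))) (.node (.node (.leaf 549) (.leaf 373)) (.node (.leaf 3531) (.leaf 3451))))))))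

def twoNext60 : Janko.Tree (ℕ) :=
  (.node (.node (.node (.node (.node (.node (.node (.leaf 51) (.leaf 3259)) (.node (.leaf 2372) (.leaf 3908))) (.node (.node (.leaf 177) (.leaf 3755)) (.node (.leaf 664) (.leaf 2222)))) (.node (.node (.node (.leaf 777) (.leaf 2876)) (.node (.leaf 1933) (.leaf 2237))) (.node (.node (.leaf 1913) (.leaf 2322)) (.node (.leaf 3046) (.leaf 3607))))) (.node (.node (.node (.node (.leaf 435) (.leaf 925)) (.node (.leaf 1655) (.leaf 1823))) (.node (.node (.leaf 354) (.leaf 3314)) (.node (.leaf 673) (.leaf 2794)))) (.node (.node (.node (.leaf 1086) (.leaf 3247)) (.node (.leaf 558) (.leaf 1954))) (.node (.node (.leaf 349) (.leaf 1616)) (.node (.leaf 792) (.leaf 3088)))))) (.node (.node (.node (.node (.node (.leaf 255) (.leaf 3068)) (.node (.leaf 1516) (.leaf 2058))) (.node (.node (.leaf 1487) (.leaf 3527)) (.node (.leaf 2945) (.leaf 3819)))) (.node (.node (.node (.leaf 866) (.leaf 3258)) (.node (.leaf 526) (.leaf 1873))) (.node (.node (.leaf 2044) (.leaf 1613)) (.node (.leaf 764) (.leaf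 3424))))) (.node (.node (.node (.node (.leaf 605) (.leaf 1383)) (.node (.leaf 466) (.leaf 2798))) (.node (.node (.leaf 249) (.leaf 3144)) (.node (.leaf 3228) (.leaf 3967)))) (.node (.node (.node (.leaf 1222) (.leaf 3012)) (.node (.leaf 591) (.leaf 2289))) (.node (.node (.leaf 2130) (.leaf 3956)) (.node (.leaf 3100) (.leaf 3782))))))) (.node (.node (.node (.node (.node (.node (.leaf 154) (.leaf 3545)) (.node (.leaf 2018) (.leaf 3990))) (.node (.node (.leaf 624) (.leaf 3795)) (.node (.leaf 1184) (.leaf 2559)))) (.node (.node (.node (.leaf 135) (.leaf 1400)) (.node (.leaf 511) (.leaf 1843))) (.node (.node (.leaf 286) (.leaf 1985)) (.node (.leaf 2818) (.leaf 3074))))) (.node (.node (.node (.node (.leaf 297) (.leaf 3670)) (.node (.leaf 2566) (.leaf 2447))) (.node (.node (.leaf 237) (.leaf 3697)) (.node (.leaf 734) (.leaf 2459)))) (.node (.node (.node (.leaf 682) (.leaf 1144)) (.node (.leaf 579) (.leaf 1992))) (.node (.node (.leaf 1995) (.leaf 2233)) (.node (.leaf 808) (.leaf 3348)))))) (.node (.node (.node (.node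 (.node (.leaf 350) (.leaf 2848)) (.node (.leaf 2492) (.leaf 3944))) (.node (.node (.leaf 1567) (.leaf 3446)) (.node (.leaf 1280) (.leaf 4087)))) (.node (.node (.node (.leaf 893) (.leaf 3137)) (.node (.leaf 542) (.leaf 1911))) (.node (.node (.leaf 1712) (.leaf 1517)) (.node (.leaf 780) (.leaf 3689))))) (.node (.node (.node (.node (.leaf 580) (.leaf 990)) (.node (.leaf 2647) (.leaf 2702))) (.node (.node (.leaf 261) (.leaf 1451)) (.node (.leaf 3163) (.leaf 3400)))) (.node (.node (.node (.leaf 1289) (.leaf 1441)) (.node (.leaf 2932) (.leaf 2391))) (.node (.node (.leaf 1965) (.leaf 2369)) (.node (.leaf 3532) (.leaf 3790))))))))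

def twoNext61 : Janko.Tree (ℕ) :=
  (.node (.node (.node (.node (.node (.node (.node (.leaf 4) (.leaf 861)) (.node (.leaf 568) (.leaf 2705))) (.node (.node (.leaf 1251) (.leaf 1206)) (.node (.leaf 1056) (.leaf 3852)))) (.node (.node (.node (.leaf 84) (.leaf 1097)) (.node (.leaf 2670) (.leaf 1821))) (.node (.node (.leaf 273) (.leaf 2030)) (.node (.leaf 2952) (.leaf 3414))))) (.node (.node (.node (.node (.leaf 436) (.leaf 3506)) (.node (.leaf 1528) (.leaf 1717))) (.node (.node (.leaf 1639) (.leaf 1326)) (.node (.leaf 3180) (.leaf 4082)))) (.node (.node (.node (.leaf 1087) (.leaf 1246)) (.node (.leaf 2111) (.leaf 2013))) (.node (.node (.leaf 2162) (.leaf 3933)) (.node (.leaf 1303) (.leaf 3638)))))) (.node (.node (.node (.node (.node (.leaf 256) (.leaf 3289)) (.node (.leaf 2453) (.leaf 3888))) (.node (.node (.leaf 1488) (.leaf 1257)) (.node (.leaf 3078) (.leaf 2368)))) (.node (.node (.node (.leaf 105) (.leaf 1045)) (.node (.leaf 2185) (.leaf 2007))) (.node (.node (.leaf 298) (.leaf 3820)) (.node (.leaf 3405) (.leaf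 2942))))) (.node (.node (.node (.node (.leaf 606) (.leaf 2850)) (.node (.leaf 2610) (.leaf 2274))) (.node (.node (.leaf 1775) (.leaf 1415)) (.node (.leaf 906) (.leaf 4080)))) (.node (.node (.node (.leaf 1223) (.leaf 1364)) (.node (.leaf 2866) (.leaf 2033))) (.node (.node (.leaf 2263) (.leaf 2530)) (.node (.leaf 823) (.leaf 3284))))))) (.node (.node (.node (.node (.node (.node (.leaf 155) (.leaf 1245)) (.node (.leaf 1465) (.leaf 2698))) (.node (.node (.leaf 190) (.leaf 3661)) (.node (.leaf 3026) (.leaf 2539)))) (.node (.node (.node (.leaf 859) (.leaf 1370)) (.node (.leaf 2704) (.leaf 4007))) (.node (.node (.leaf 1982) (.leaf 1486)) (.node (.leaf 748) (.leaf 3765))))) (.node (.node (.node (.node (.leaf 521) (.leaf 3459)) (.node (.leaf 2567) (.leaf 2552))) (.node (.node (.leaf 1707) (.leaf 1376)) (.node (.leaf 689) (.leaf 2752)))) (.node (.node (.node (.leaf 1155) (.leaf 3476)) (.node (.leaf 2803) (.leaf 2397))) (.node (.node (.leaf 334) (.leaf 1742)) (.node (.leaf 2908) (.leaf 3275)))))) (.node (.node (.node (.node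 (.node (.leaf 33) (.leaf 1368)) (.node (.leaf 423) (.leaf 2799))) (.node (.node (.leaf 561) (.leaf 3034)) (.node (.leaf 3135) (.leaf 3832)))) (.node (.node (.node (.leaf 1013) (.leaf 3735)) (.node (.leaf 2068) (.leaf 2721))) (.node (.node (.leaf 309) (.leaf 2363)) (.node (.leaf 3139) (.leaf 3637))))) (.node (.node (.node (.node (.leaf 74) (.leaf 3549)) (.node (.leaf 2648) (.leaf 2170))) (.node (.node (.leaf 1843) (.leaf 3183)) (.node (.leaf 719) (.leaf 2955)))) (.node (.node (.node (.leaf 165) (.leaf 1185)) (.node (.leaf 835) (.leaf 3960))) (.node (.node (.leaf 365) (.leaf 3971)) (.node (.leaf 2922) (.leaf 3687))))))))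

def twoNext62 : Janko.Tree (ℕ) :=
  (.node (.node (.node (.node (.node (.node (.node (.leaf 52) (.leaf 3237)) (.node (.leaf 2373) (.leaf 2795))) (.node (.node (.leaf 1272) (.leaf 3789)) (.node (.leaf 2978) (.leaf 2123)))) (.node (.node (.node (.leaf 659) (.leaf 1010)) (.node (.leaf 1902) (.leaf 1982))) (.node (.node (.leaf 1914) (.leaf 2068)) (.node (.leaf 3326) (.leaf 2859))))) (.node (.node (.node (.node (.leaf 43) (.leaf 1173)) (.node (.leaf 2523) (.leaf 1921))) (.node (.node (.leaf 1640) (.leaf 3759)) (.node (.leaf 3045) (.leaf 3940)))) (.node (.node (.node (.leaf 126) (.leaf 1094)) (.node (.leaf 2772) (.leaf 2528))) (.node (.node (.leaf 321) (.leaf 3887)) (.node (.leaf 1205) (.leaf 3775)))))) (.node (.node (.node (.node (.node (.leaf 23) (.leaf 3012)) (.node (.leaf 1769) (.leaf 3839))) (.node (.node (.leaf 1489) (.leaf 1270)) (.node (.leaf 645) (.leaf 2205)))) (.node (.node (.node (.leaf 135) (.leaf 3234)) (.node (.leaf 2615) (.leaf 2507))) (.node (.node (.leaf 2045) (.leaf 1662)) (.node (.leaf 804) (.leaf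 3630))))) (.node (.node (.node (.node (.leaf 607) (.leaf 969)) (.node (.leaf 474) (.leaf 3996))) (.node (.node (.leaf 1537) (.leaf 3146)) (.node (.leaf 1097) (.leaf 2592)))) (.node (.node (.node (.leaf 1224) (.leaf 1157)) (.node (.leaf 2867) (.leaf 2717))) (.node (.node (.leaf 349) (.leaf 1579)) (.node (.leaf 1037) (.leaf 3391))))))) (.node (.node (.node (.node (.node (.node (.leaf 156) (.leaf 3578)) (.node (.leaf 1483) (.leaf 3930))) (.node (.node (.leaf 1344) (.leaf 3265)) (.node (.leaf 765) (.leaf 2163)))) (.node (.node (.node (.leaf 94) (.leaf 1026)) (.node (.leaf 2684) (.leaf 2002))) (.node (.node (.leaf 1825) (.leaf 2784)) (.node (.leaf 970) (.leaf 2959))))) (.node (.node (.node (.node (.leaf 53) (.leaf 3484)) (.node (.leaf 452) (.leaf 1744))) (.node (.node (.leaf 453) (.leaf 2972)) (.node (.leaf 3212) (.leaf 2703)))) (.node (.node (.node (.leaf 141) (.leaf 1126)) (.node (.leaf 2804) (.leaf 2350))) (.node (.node (.leaf 2216) (.leaf 1560)) (.node (.leaf 1183) (.leaf 3170)))))) (.node (.node (.node (.node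 (.node (.leaf 351) (.leaf 3135)) (.node (.leaf 2265) (.leaf 1680))) (.node (.node (.leaf 213) (.leaf 3538)) (.node (.leaf 658) (.leaf 2279)))) (.node (.node (.node (.leaf 116) (.leaf 1372)) (.node (.leaf 1715) (.leaf 1925))) (.node (.node (.leaf 2100) (.leaf 2328)) (.node (.leaf 3405) (.leaf 3018))))) (.node (.node (.node (.node (.leaf 612) (.leaf 3680)) (.node (.leaf 2649) (.leaf 1795))) (.node (.node (.leaf 1830) (.leaf 3401)) (.node (.leaf 3280) (.leaf 3220)))) (.node (.node (.node (.leaf 1290) (.leaf 1236)) (.node (.leaf 2933) (.leaf 4048))) (.node (.node (.leaf 2314) (.leaf 2278)) (.node (.leaf 1019) (.leaf 3524))))))))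

def twoNext63 : Janko.Tree (ℕ) :=
  (.node (.node (.node (.node (.node (.node (.node (.leaf 53) (.leaf 1290)) (.node (.leaf 2374) (.leaf 1955))) (.node (.node (.leaf 1362) (.leaf 2858)) (.node (.leaf 2899) (.leaf 4035)))) (.node (.node (.node (.leaf 778) (.leaf 2834)) (.node (.leaf 2671) (.leaf 1872))) (.node (.node (.leaf 1681) (.leaf 2295)) (.node (.leaf 1434) (.leaf 3578))))) (.node (.node (.node (.node (.leaf 437) (.leaf 3653)) (.node (.leaf 2524) (.leaf 1566))) (.node (.node (.leaf 1641) (.leaf 1128)) (.node (.leaf 3181) (.leaf 2404)))) (.node (.node (.node (.leaf 1088) (.leaf 3648)) (.node (.leaf 1716) (.leaf 1721))) (.node (.node (.leaf 1845) (.leaf 3834)) (.node (.leaf 2810) (.leaf 3599)))))) (.node (.node (.node (.node (.node (.leaf 257) (.leaf 2935)) (.node (.leaf 22) (.leaf 3986))) (.node (.node (.leaf 520) (.leaf 3141)) (.node (.leaf 3079) (.leaf 2226)))) (.node (.node (.node (.leaf 946) (.leaf 3517)) (.node (.leaf 308) (.leaf 1777))) (.node (.node (.leaf 1483) (.leaf 2055)) (.node (.leaf 2897) (.leaf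 3598))))) (.node (.node (.node (.node (.leaf 608) (.leaf 1096)) (.node (.leaf 2611) (.leaf 1781))) (.node (.node (.leaf 1776) (.leaf 3021)) (.node (.leaf 2973) (.leaf 2477)))) (.node (.node (.node (.leaf 1225) (.leaf 2825)) (.node (.leaf 2868) (.leaf 2327))) (.node (.node (.leaf 2264) (.leaf 1707)) (.node (.leaf 3438) (.leaf 2839))))))) (.node (.node (.node (.node (.node (.node (.leaf 157) (.leaf 1219)) (.node (.leaf 2419) (.leaf 2655))) (.node (.node (.leaf 1426) (.leaf 3442)) (.node (.leaf 3015) (.leaf 1535)))) (.node (.node (.node (.leaf 860) (.leaf 3726)) (.node (.leaf 2505) (.leaf 3983))) (.node (.node (.leaf 252) (.leaf 58)) (.node (.leaf 3372) (.leaf 3588))))) (.node (.node (.node (.node (.leaf 522) (.leaf 603)) (.node (.leaf 2217) (.leaf 3951))) (.node (.node (.leaf 1708) (.leaf 3658)) (.node (.leaf 3202) (.leaf 2512)))) (.node (.node (.node (.leaf 1156) (.leaf 3374)) (.node (.leaf 1271) (.leaf 1534))) (.node (.node (.leaf 565) (.leaf 2160)) (.node (.leaf 3481) (.leaf 4095)))))) (.node (.node (.node (.node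 (.node (.leaf 352) (.leaf 3583)) (.node (.leaf 1529) (.leaf 2263))) (.node (.node (.leaf 1568) (.leaf 3464)) (.node (.leaf 3035) (.leaf 1760)))) (.node (.node (.node (.leaf 1014) (.leaf 2988)) (.node (.leaf 2753) (.leaf 4028))) (.node (.node (.leaf 2101) (.leaf 2184)) (.node (.leaf 1032) (.leaf 1176))))) (.node (.node (.node (.node (.leaf 692) (.leaf 3058)) (.node (.leaf 1939) (.leaf 2772))) (.node (.node (.leaf 1844) (.leaf 1000)) (.node (.leaf 3281) (.leaf 580)))) (.node (.node (.node (.leaf 1095) (.leaf 3760)) (.node (.leaf 2934) (.leaf 445))) (.node (.node (.leaf 2315) (.leaf 2643)) (.node (.leaf 3533) (.leaf 3748))))))))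

def twoNext64 : Janko.Tree (ℕ) :=
  (.node (.node (.node (.node (.node (.node (.node (.leaf 54) (.leaf 874)) (.node (.leaf 2236) (.leaf 3983))) (.node (.node (.leaf 1271) (.leaf 1377)) (.node (.leaf 852) (.leaf 3865)))) (.node (.node (.node (.leaf 779) (.leaf 3054)) (.node (.leaf 563) (.leaf 2595))) (.node (.node (.leaf 1915) (.leaf 1471)) (.node (.leaf 1209) (.leaf 2861))))) (.node (.node (.node (.node (.leaf 438) (.leaf 3629)) (.node (.leaf 437) (.leaf 1718))) (.node (.node (.leaf 1642) (.leaf 3429)) (.node (.leaf 3182) (.leaf 2356)))) (.node (.node (.node (.leaf 1089) (.leaf 3236)) (.node (.leaf 2773) (.leaf 2720))) (.node (.node (.leaf 390) (.leaf 1539)) (.node (.leaf 1337) (.leaf 3269)))))) (.node (.node (.node (.node (.node (.leaf 258) (.leaf 2904)) (.node (.leaf 1627) (.leaf 1660))) (.node (.node (.leaf 203) (.leaf 3771)) (.node (.leaf 2959) (.leaf 2493)))) (.node (.node (.node (.leaf 922) (.leaf 3290)) (.node (.leaf 1641) (.leaf 2307))) (.node (.node (.leaf 2046) (.leaf 3883)) (.node (.leaf 813) (.leaf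 3713))))) (.node (.node (.node (.node (.leaf 609) (.leaf 972)) (.node (.leaf 467) (.leaf 2202))) (.node (.node (.leaf 1777) (.leaf 3457)) (.node (.leaf 704) (.leaf 2593)))) (.node (.node (.node (.leaf 153) (.leaf 3574)) (.node (.leaf 2869) (.leaf 2034))) (.node (.node (.leaf 2206) (.leaf 1582)) (.node (.leaf 3508) (.leaf 3693))))))) (.node (.node (.node (.node (.node (.node (.leaf 158) (.leaf 877)) (.node (.leaf 1581) (.leaf 2390))) (.node (.node (.leaf 1427) (.leaf 3724)) (.node (.leaf 1035) (.leaf 2411)))) (.node (.node (.node (.leaf 861) (.leaf 2946)) (.node (.leaf 2705) (.leaf 1930))) (.node (.node (.leaf 539) (.leaf 3858)) (.node (.leaf 1189) (.leaf 2900))))) (.node (.node (.node (.node (.leaf 523) (.leaf 3594)) (.node (.leaf 2422) (.leaf 3900))) (.node (.node (.leaf 451) (.leaf 3606)) (.node (.leaf 879) (.leaf 2737)))) (.node (.node (.node (.leaf 1126) (.leaf 1171)) (.node (.leaf 1137) (.leaf 2140))) (.node (.node (.leaf 2118) (.leaf 2243)) (.node (.leaf 1215) (.leaf 3312)))))) (.node (.node (.node (.node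 (.node (.leaf 353) (.leaf 2909)) (.node (.leaf 2472) (.leaf 1681))) (.node (.node (.leaf 559) (.leaf 3488)) (.node (.leaf 761) (.leaf 3939)))) (.node (.node (.node (.leaf 931) (.leaf 1069)) (.node (.leaf 1555) (.leaf 2695))) (.node (.node (.leaf 1479) (.leaf 2432)) (.node (.leaf 3404) (.leaf 3019))))) (.node (.node (.node (.node (.leaf 128) (.leaf 3685)) (.node (.leaf 482) (.leaf 4016))) (.node (.node (.leaf 1845) (.leaf 3816)) (.node (.leaf 3079) (.leaf 2884)))) (.node (.node (.node (.leaf 745) (.leaf 3360)) (.node (.leaf 2935) (.leaf 3833))) (.node (.node (.leaf 1970) (.leaf 2659)) (.node (.leaf 841) (.leaf 3581))))))))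

def twoNext65 : Janko.Tree (ℕ) :=
  (.node (.node (.node (.node (.node (.node (.node (.leaf 55) (.leaf 3297)) (.node (.leaf 378) (.leaf 1621))) (.node (.node (.leaf 1363) (.leaf 3120)) (.node (.leaf 617) (.leaf 2604)))) (.node (.node (.node (.leaf 780) (.leaf 1011)) (.node (.leaf 498) (.leaf 1867))) (.node (.node (.leaf 1916) (.leaf 3831)) (.node (.leaf 3327) (.leaf 3044))))) (.node (.node (.node (.node (.leaf 439) (.leaf 925)) (.node (.leaf 2352) (.leaf 1953))) (.node (.node (.leaf 224) (.leaf 1327)) (.node (.leaf 673) (.leaf 3910)))) (.node (.node (.node (.leaf 1090) (.leaf 3155)) (.node (.leaf 2774) (.leaf 2050))) (.node (.node (.leaf 2163) (.leaf 2504)) (.node (.leaf 1111) (.leaf 3482)))))) (.node (.node (.node (.node (.node (.leaf 259) (.leaf 892)) (.node (.leaf 407) (.leaf 2073))) (.node (.node (.leaf 1490) (.leaf 3802)) (.node (.leaf 3080) (.leaf 2789)))) (.node (.node (.node (.leaf 947) (.leaf 1156)) (.node (.leaf 526) (.leaf 2261))) (.node (.node (.leaf 299) (.leaf 2037)) (.node (.leaf 764) (.leaf 3738)))))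 (.node (.node (.node (.node (.leaf 64) (.leaf 1412)) (.node (.leaf 2070) (.leaf 1812))) (.node (.node (.leaf 1752) (.leaf 3126)) (.node (.leaf 1441) (.leaf 3980)))) (.node (.node (.node (.leaf 1226) (.leaf 1159)) (.node (.leaf 591) (.leaf 2288))) (.node (.node (.leaf 2265) (.leaf 2677)) (.node (.leaf 3445) (.leaf 3305))))))) (.node (.node (.node (.node (.node (.node (.leaf 14) (.leaf 3212)) (.node (.leaf 392) (.leaf 2576))) (.node (.node (.leaf 1428) (.leaf 1230)) (.node (.leaf 3027) (.leaf 4066)))) (.node (.node (.node (.leaf 862) (.leaf 1168)) (.node (.leaf 511) (.leaf 2712))) (.node (.node (.leaf 286) (.leaf 2617)) (.node (.leaf 3118) (.leaf 3151))))) (.node (.node (.node (.node (.leaf 524) (.leaf 950)) (.node (.leaf 2186) (.leaf 2579))) (.node (.node (.leaf 1709) (.leaf 3230)) (.node (.leaf 1173) (.leaf 4076)))) (.node (.node (.node (.leaf 1157) (.leaf 1323)) (.node (.leaf 609) (.leaf 1995))) (.node (.node (.leaf 2217) (.leaf 1889)) (.node (.leaf 2998) (.leaf 3745)))))) (.node (.node (.node (.node (.node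 (.leaf 354) (.leaf 909)) (.node (.leaf 2493) (.leaf 1981))) (.node (.node (.leaf 1569) (.leaf 3803)) (.node (.leaf 659) (.leaf 2614)))) (.node (.node (.node (.leaf 1015) (.leaf 3748)) (.node (.leaf 1634) (.leaf 1911))) (.node (.node (.leaf 544) (.leaf 1517)) (.node (.leaf 1429) (.leaf 3814))))) (.node (.node (.node (.node (.leaf 693) (.leaf 3536)) (.node (.leaf 2650) (.leaf 3893))) (.node (.node (.leaf 261) (.leaf 3036)) (.node (.leaf 3282) (.leaf 2820)))) (.node (.node (.node (.leaf 1291) (.leaf 3634)) (.node (.leaf 602) (.leaf 2084))) (.node (.node (.leaf 2316) (.leaf 1600)) (.node (.leaf 3137) (.leaf 3791))))))))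

def twoNext66 : Janko.Tree (ℕ) :=
  (.node (.node (.node (.node (.node (.node (.node (.leaf 4) (.leaf 3417)) (.node (.leaf 2375) (.leaf 2751))) (.node (.node (.leaf 177) (.leaf 1363)) (.node (.leaf 2821) (.leaf 2124)))) (.node (.node (.node (.leaf 84) (.leaf 3512)) (.node (.leaf 2236) (.leaf 1822))) (.node (.node (.leaf 273) (.leaf 1516)) (.node (.leaf 734) (.leaf 3816))))) (.node (.node (.node (.node (.leaf 440) (.leaf 1159)) (.node (.leaf 2476) (.leaf 3828))) (.node (.node (.leaf 1643) (.leaf 3744)) (.node (.leaf 3183) (.leaf 4038)))) (.node (.node (.node (.leaf 760) (.leaf 3330)) (.node (.leaf 558) (.leaf 2293))) (.node (.node (.leaf 2164) (.leaf 2138)) (.node (.leaf 792) (.leaf 3121)))))) (.node (.node (.node (.node (.node (.leaf 260) (.leaf 2858)) (.node (.leaf 1619) (.leaf 3947))) (.node (.node (.leaf 1491) (.leaf 3411)) (.node (.leaf 3016) (.leaf 3977)))) (.node (.node (.node (.leaf 907) (.leaf 1047)) (.node (.leaf 2374) (.leaf 1873))) (.node (.node (.leaf 345) (.leaf 2608)) (.node (.leaf 1426) (.leaf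 2942))))) (.node (.node (.node (.node (.leaf 610) (.leaf 3191)) (.node (.leaf 2578) (.leaf 1775))) (.node (.node (.leaf 249) (.leaf 1415)) (.node (.leaf 3247) (.leaf 2699)))) (.node (.node (.node (.leaf 762) (.leaf 3749)) (.node (.leaf 2870) (.leaf 4078))) (.node (.node (.leaf 2266) (.leaf 1737)) (.node (.leaf 3509) (.leaf 3567))))))) (.node (.node (.node (.node (.node (.node (.leaf 159) (.leaf 1436)) (.node (.leaf 2368) (.leaf 2381))) (.node (.node (.leaf 1429) (.leaf 2896)) (.node (.leaf 631) (.leaf 4005)))) (.node (.node (.node (.leaf 863) (.leaf 3673)) (.node (.leaf 2569) (.leaf 4063))) (.node (.node (.leaf 1983) (.leaf 1486)) (.node (.leaf 820) (.leaf 3514))))) (.node (.node (.node (.node (.leaf 525) (.leaf 3481)) (.node (.leaf 2151) (.leaf 3987))) (.node (.node (.leaf 237) (.leaf 1376)) (.node (.leaf 913) (.leaf 2465)))) (.node (.node (.node (.leaf 1158) (.leaf 1299)) (.node (.leaf 579) (.leaf 2226))) (.node (.node (.leaf 334) (.leaf 2234)) (.node (.leaf 808) (.leaf 3171)))))) (.node (.node (.node (.node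 (.node (.leaf 33) (.leaf 3025)) (.node (.leaf 423) (.leaf 1726))) (.node (.node (.leaf 1570) (.leaf 3082)) (.node (.leaf 812) (.leaf 4007)))) (.node (.node (.node (.leaf 1016) (.leaf 3213)) (.node (.leaf 2046) (.leaf 4052))) (.node (.node (.leaf 2102) (.leaf 2165)) (.node (.leaf 780) (.leaf 3474))))) (.node (.node (.node (.node (.leaf 74) (.leaf 990)) (.node (.leaf 2084) (.leaf 2067))) (.node (.node (.leaf 1846) (.leaf 1451)) (.node (.leaf 3283) (.leaf 2964)))) (.node (.node (.node (.leaf 1185) (.leaf 1407)) (.node (.leaf 861) (.leaf 2667))) (.node (.node (.leaf 365) (.leaf 2728)) (.node (.leaf 3530) (.leaf 3551))))))))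

def twoNext67 : Janko.Tree (ℕ) :=
  (.node (.node (.node (.node (.node (.node (.node (.leaf 56) (.leaf 2854)) (.node (.leaf 2376) (.leaf 1895))) (.node (.node (.leaf 1364) (.leaf 701)) (.node (.leaf 2979) (.leaf 3925)))) (.node (.node (.node (.leaf 781) (.leaf 1175)) (.node (.leaf 2672) (.leaf 2441))) (.node (.node (.leaf 1917) (.leaf 3832)) (.node (.leaf 2949) (.leaf 3052))))) (.node (.node (.node (.node (.leaf 441) (.leaf 1253)) (.node (.leaf 2381) (.leaf 2458))) (.node (.node (.leaf 1644) (.leaf 1193)) (.node (.leaf 135) (.leaf 3870)))) (.node (.node (.node (.leaf 982) (.leaf 3253)) (.node (.leaf 2775) (.leaf 228))) (.node (.node (.leaf 2165) (.leaf 2456)) (.node (.leaf 2907) (.leaf 4094)))))) (.node (.node (.node (.node (.node (.leaf 261) (.leaf 3332)) (.node (.leaf 2428) (.leaf 2205))) (.node (.node (.leaf 1492) (.leaf 3565)) (.node (.leaf 657) (.leaf 2786)))) (.node (.node (.node (.leaf 902) (.leaf 3628)) (.node (.leaf 35) (.leaf 1592))) (.node (.node (.leaf 2047) (.leaf 3884)) (.node (.leaf 3406) (.leaf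 3711))))) (.node (.node (.node (.node (.leaf 611) (.leaf 3343)) (.node (.leaf 2612) (.leaf 1655))) (.node (.node (.leaf 18) (.leaf 3738)) (.node (.leaf 3248) (.leaf 2268)))) (.node (.node (.node (.leaf 1227) (.leaf 3754)) (.node (.leaf 744) (.leaf 1900))) (.node (.node (.leaf 2267) (.leaf 2254)) (.node (.leaf 3366) (.leaf 1143))))))) (.node (.node (.node (.node (.node (.node (.leaf 160) (.leaf 3579)) (.node (.leaf 2420) (.leaf 1464))) (.node (.node (.leaf 1430) (.leaf 3734)) (.node (.leaf 3028) (.leaf 320)))) (.node (.node (.node (.leaf 864) (.leaf 1028)) (.node (.leaf 2317) (.leaf 2023))) (.node (.node (.leaf 1684) (.leaf 539)) (.node (.leaf 2803) (.leaf 3688))))) (.node (.node (.node (.node (.leaf 526) (.leaf 3114)) (.node (.leaf 2001) (.leaf 2413))) (.node (.node (.leaf 1710) (.leaf 3537)) (.node (.leaf 1373) (.leaf 2756)))) (.node (.node (.node (.leaf 1159) (.leaf 3547)) (.node (.leaf 2805) (.leaf 4024))) (.node (.node (.leaf 2218) (.leaf 1709)) (.node (.leaf 1257) (.leaf 3814)))))) (.node (.node (.node (.node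 (.node (.leaf 355) (.leaf 1152)) (.node (.leaf 2396) (.leaf 2706))) (.node (.node (.leaf 361) (.leaf 3806)) (.node (.leaf 3136) (.leaf 3952)))) (.node (.node (.node (.leaf 1017) (.leaf 1332)) (.node (.leaf 2690) (.leaf 3931))) (.node (.node (.leaf 2103) (.leaf 337)) (.node (.leaf 3427) (.leaf 713))))) (.node (.node (.node (.node (.leaf 694) (.leaf 3452)) (.node (.leaf 2240) (.leaf 1978))) (.node (.node (.leaf 1456) (.leaf 1055)) (.node (.leaf 2846) (.leaf 953)))) (.node (.node (.node (.leaf 1292) (.leaf 151)) (.node (.leaf 2936) (.leaf 2589))) (.node (.node (.leaf 2296) (.leaf 2209)) (.node (.leaf 962) (.leaf 3563))))))))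

def twoNext68 : Janko.Tree (ℕ) :=
  (.node (.node (.node (.node (.node (.node (.node (.leaf 57) (.leaf 862)) (.node (.leaf 2377) (.leaf 2340))) (.node (.node (.leaf 1365) (.leaf 3526)) (.node (.leaf 2980) (.leaf 3845)))) (.node (.node (.node (.leaf 782) (.leaf 1075)) (.node (.leaf 2006) (.leaf 2596))) (.node (.node (.leaf 1918) (.leaf 1966)) (.node (.leaf 735) (.leaf 2963))))) (.node (.node (.node (.node (.leaf 442) (.leaf 2942)) (.node (.leaf 2396) (.leaf 1719))) (.node (.node (.leaf 407) (.leaf 1328)) (.node (.leaf 3184) (.leaf 2724)))) (.node (.node (.node (.leaf 678) (.leaf 1096)) (.node (.leaf 2013) (.leaf 3994))) (.node (.node (.leaf 2166) (.leaf 2597)) (.node (.leaf 867) (.leaf 3459)))))) (.node (.node (.node (.node (.node (.leaf 262) (.leaf 2878)) (.node (.leaf 567) (.leaf 1920))) (.node (.node (.leaf 1493) (.leaf 1258)) (.node (.leaf 646) (.leaf 3930)))) (.node (.node (.node (.leaf 106) (.leaf 1085)) (.node (.leaf 2587) (.leaf 2660))) (.node (.node (.leaf 499) (.leaf 1501)) (.node (.leaf 3407) (.leaf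 2947))))) (.node (.node (.node (.node (.leaf 130) (.leaf 1138)) (.node (.leaf 2613) (.leaf 2394))) (.node (.node (.leaf 1664) (.leaf 3289)) (.node (.leaf 3249) (.leaf 4076)))) (.node (.node (.node (.leaf 1228) (.leaf 1343)) (.node (.leaf 2871) (.leaf 2748))) (.node (.node (.leaf 1901) (.leaf 2258)) (.node (.leaf 1268) (.leaf 3306))))))) (.node (.node (.node (.node (.node (.node (.leaf 161) (.leaf 3415)) (.node (.leaf 2421) (.leaf 1638))) (.node (.node (.leaf 191) (.leaf 3498)) (.node (.leaf 3029) (.leaf 2719)))) (.node (.node (.node (.leaf 95) (.leaf 1027)) (.node (.leaf 2681) (.leaf 2614))) (.node (.node (.leaf 547) (.leaf 2116)) (.node (.leaf 750) (.leaf 3082))))) (.node (.node (.node (.node (.leaf 527) (.leaf 2974)) (.node (.leaf 2163) (.leaf 1745))) (.node (.node (.leaf 294) (.leaf 3760)) (.node (.leaf 690) (.leaf 2490)))) (.node (.node (.node (.leaf 142) (.leaf 3154)) (.node (.leaf 2806) (.leaf 2121))) (.node (.node (.leaf 520) (.leaf 1561)) (.node (.leaf 851) (.leaf 3316)))))) (.node (.node (.node (.node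 (.node (.leaf 356) (.leaf 1070)) (.node (.leaf 1456) (.leaf 2436))) (.node (.node (.leaf 494) (.leaf 3807)) (.node (.leaf 1050) (.leaf 2735)))) (.node (.node (.node (.leaf 1018) (.leaf 1220)) (.node (.leaf 2754) (.leaf 2600))) (.node (.node (.leaf 472) (.leaf 2180)) (.node (.leaf 1325) (.leaf 3529))))) (.node (.node (.node (.node (.leaf 695) (.leaf 3535)) (.node (.leaf 2545) (.leaf 2460))) (.node (.node (.leaf 1847) (.leaf 1452)) (.node (.leaf 720) (.leaf 3565)))) (.node (.node (.node (.leaf 1293) (.leaf 1265)) (.node (.leaf 613) (.leaf 2419))) (.node (.node (.leaf 2201) (.leaf 2523)) (.node (.leaf 3534) (.leaf 3549))))))))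

def twoNext69 : Janko.Tree (ℕ) :=
  (.node (.node (.node (.node (.node (.node (.node (.leaf 58) (.leaf 3172)) (.node (.leaf 1566) (.leaf 2681))) (.node (.node (.leaf 1366) (.leaf 1324)) (.node (.leaf 2981) (.leaf 3834)))) (.node (.node (.node (.leaf 783) (.leaf 1012)) (.node (.leaf 2673) (.leaf 1823))) (.node (.node (.leaf 1919) (.leaf 3833)) (.node (.leaf 2834) (.leaf 3223))))) (.node (.node (.node (.node (.leaf 44) (.leaf 3654)) (.node (.leaf 2525) (.leaf 3881))) (.node (.node (.leaf 1645) (.leaf 3087)) (.node (.leaf 674) (.leaf 2361)))) (.node (.node (.node (.leaf 128) (.leaf 3431)) (.node (.leaf 2585) (.leaf 1955))) (.node (.node (.leaf 322) (.leaf 1539)) (.node (.leaf 2950) (.leaf 3148)))))) (.node (.node (.node (.node (.node (.leaf 24) (.leaf 893)) (.node (.leaf 2116) (.leaf 1660))) (.node (.node (.leaf 203) (.leaf 3691)) (.node (.leaf 3081) (.leaf 2781)))) (.node (.node (.node (.leaf 948) (.leaf 1321)) (.node (.leaf 1971) (.leaf 1874))) (.node (.node (.leaf 2048) (.leaf 1771)) (.node (.leaf 1010) (.leaf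 2987))))) (.node (.node (.node (.node (.leaf 612) (.leaf 1416)) (.node (.leaf 2208) (.leaf 2635))) (.node (.node (.leaf 1778) (.leaf 1418)) (.node (.leaf 1445) (.leaf 2593)))) (.node (.node (.node (.leaf 153) (.leaf 3670)) (.node (.leaf 2872) (.leaf 2294))) (.node (.node (.leaf 2268) (.leaf 2478)) (.node (.leaf 3510) (.leaf 3499))))))) (.node (.node (.node (.node (.node (.node (.leaf 162) (.leaf 878)) (.node (.leaf 2422) (.leaf 1694))) (.node (.node (.leaf 623) (.leaf 3752)) (.node (.leaf 1131) (.leaf 2166)))) (.node (.node (.node (.leaf 865) (.leaf 3525)) (.node (.leaf 2706) (.leaf 1847))) (.node (.node (.leaf 1984) (.leaf 1704)) (.node (.leaf 2984) (.leaf 3378))))) (.node (.node (.node (.node (.leaf 54) (.leaf 2914)) (.node (.leaf 453) (.leaf 2669))) (.node (.node (.leaf 1711) (.leaf 1378)) (.node (.leaf 934) (.leaf 2652)))) (.node (.node (.node (.leaf 1160) (.leaf 3485)) (.node (.leaf 2807) (.leaf 4077))) (.node (.node (.leaf 2010) (.leaf 2366)) (.node (.leaf 3100) (.leaf 3358)))))) (.node (.node (.node (.node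 (.node (.leaf 357) (.leaf 1166)) (.node (.leaf 424) (.leaf 2049))) (.node (.node (.leaf 1571) (.leaf 1297)) (.node (.leaf 1352) (.leaf 2780)))) (.node (.node (.node (.leaf 117) (.leaf 1182)) (.node (.leaf 543) (.leaf 1913))) (.node (.node (.leaf 310) (.leaf 2643)) (.node (.leaf 3428) (.leaf 3019))))) (.node (.node (.node (.node (.leaf 696) (.leaf 3136)) (.node (.leaf 482) (.leaf 2630))) (.node (.node (.leaf 426) (.leaf 3707)) (.node (.leaf 1099) (.leaf 3717)))) (.node (.node (.node (.leaf 166) (.leaf 1186)) (.node (.leaf 2937) (.leaf 3866))) (.node (.node (.leaf 2317) (.leaf 2487)) (.node (.leaf 3535) (.leaf 3746))))))))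

def twoNext70 : Janko.Tree (ℕ) :=
  (.node (.node (.node (.node (.node (.node (.node (.leaf 59) (.leaf 2918)) (.node (.leaf 378) (.leaf 1621))) (.node (.node (.leaf 973) (.leaf 1208)) (.node (.leaf 2982) (.leaf 2219)))) (.node (.node (.node (.leaf 784) (.leaf 1356)) (.node (.leaf 2629) (.leaf 2322))) (.node (.node (.leaf 1920) (.leaf 1863)) (.node (.leaf 2915) (.leaf 2862))))) (.node (.node (.node (.node (.leaf 443) (.leaf 3655)) (.node (.leaf 437) (.leaf 4026))) (.node (.node (.leaf 224) (.leaf 3786)) (.node (.leaf 1090) (.leaf 2647)))) (.node (.node (.node (.leaf 1091) (.leaf 1110)) (.node (.leaf 1972) (.leaf 3924))) (.node (.node (.leaf 1712) (.leaf 3851)) (.node (.leaf 3233) (.leaf 3091)))))) (.node (.node (.node (.node (.node (.leaf 263) (.leaf 3406)) (.node (.leaf 469) (.leaf 3844))) (.node (.node (.leaf 1494) (.leaf 3610)) (.node (.leaf 761) (.leaf 2370)))) (.node (.node (.node (.leaf 897) (.leaf 3395)) (.node (.leaf 526) (.leaf 2253))) (.node (.node (.leaf 1844) (.leaf 1534)) (.node (.leaf 3408) (.leaf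 3307))))) (.node (.node (.node (.node (.leaf 64) (.leaf 972)) (.node (.leaf 2614) (.leaf 1851))) (.node (.node (.leaf 1779) (.leaf 3052)) (.node (.leaf 704) (.leaf 4068)))) (.node (.node (.node (.leaf 1229) (.leaf 2921)) (.node (.leaf 591) (.leaf 2034))) (.node (.node (.leaf 350) (.leaf 2160)) (.node (.leaf 824) (.leaf 3441))))))) (.node (.node (.node (.node (.node (.node (.leaf 14) (.leaf 2806)) (.node (.leaf 2423) (.leaf 3984))) (.node (.node (.leaf 1281) (.leaf 3501)) (.node (.leaf 3030) (.leaf 2536)))) (.node (.node (.node (.leaf 866) (.leaf 3507)) (.node (.leaf 511) (.leaf 2246))) (.node (.node (.leaf 286) (.leaf 1544)) (.node (.leaf 853) (.leaf 3491))))) (.node (.node (.node (.node (.leaf 528) (.leaf 3671)) (.node (.leaf 2198) (.leaf 2446))) (.node (.node (.leaf 1480) (.leaf 3340)) (.node (.leaf 1219) (.leaf 2468)))) (.node (.node (.node (.leaf 1161) (.leaf 3644)) (.node (.leaf 2808) (.leaf 1995))) (.node (.node (.leaf 2116) (.leaf 2669)) (.node (.leaf 3374) (.leaf 3499)))))) (.node (.node (.node (.node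 (.node (.leaf 358) (.leaf 3604)) (.node (.leaf 2018) (.leaf 4019))) (.node (.node (.leaf 214) (.leaf 3808)) (.node (.leaf 3137) (.leaf 3873)))) (.node (.node (.node (.leaf 180) (.leaf 1069)) (.node (.leaf 2252) (.leaf 4049))) (.node (.node (.leaf 412) (.leaf 1517)) (.node (.leaf 3266) (.leaf 3096))))) (.node (.node (.node (.node (.leaf 697) (.leaf 2934)) (.node (.leaf 1473) (.leaf 1796))) (.node (.node (.leaf 261) (.leaf 3372)) (.node (.leaf 1106) (.leaf 2822)))) (.node (.node (.node (.leaf 1294) (.leaf 1283)) (.node (.leaf 602) (.leaf 2086))) (.node (.node (.leaf 2264) (.leaf 2143)) (.node (.leaf 841) (.leaf 3591))))))))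

def twoNext71 : Janko.Tree (ℕ) :=
  (.node (.node (.node (.node (.node (.node (.node (.leaf 60) (.leaf 3556)) (.node (.leaf 2378) (.leaf 3984))) (.node (.node (.leaf 1086) (.leaf 3790)) (.node (.leaf 971) (.leaf 2154)))) (.node (.node (.node (.leaf 785) (.leaf 822)) (.node (.leaf 49) (.leaf 1547))) (.node (.node (.leaf 1921) (.leaf 247)) (.node (.leaf 1229) (.leaf 1366))))) (.node (.node (.node (.node (.leaf 444) (.leaf 2883)) (.node (.leaf 2215) (.leaf 1860))) (.node (.node (.leaf 1574) (.leaf 3159)) (.node (.leaf 3185) (.leaf 2261)))) (.node (.node (.node (.leaf 1092) (.leaf 3049)) (.node (.leaf 2444) (.leaf 2743))) (.node (.node (.leaf 2167) (.leaf 297)) (.node (.leaf 3417) (.leaf 3086)))))) (.node (.node (.node (.node (.node (.leaf 264) (.leaf 963)) (.node (.leaf 1674) (.leaf 3985))) (.node (.node (.leaf 1495) (.leaf 141)) (.node (.leaf 3082) (.leaf 3921)))) (.node (.node (.node (.leaf 911) (.leaf 3627)) (.node (.leaf 345) (.leaf 1819))) (.node (.node (.leaf 1604) (.leaf 3885)) (.node (.leaf 3040) (.leaf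 901))))) (.node (.node (.node (.node (.leaf 613) (.leaf 3416)) (.node (.leaf 2615) (.leaf 2500))) (.node (.node (.leaf 1506) (.leaf 756)) (.node (.leaf 3023) (.leaf 2128)))) (.node (.node (.node (.leaf 1230) (.leaf 876)) (.node (.leaf 2873) (.leaf 1930))) (.node (.node (.leaf 2269) (.leaf 360)) (.node (.leaf 687) (.leaf 1350))))))) (.node (.node (.node (.node (.node (.node (.leaf 163) (.leaf 1365)) (.node (.leaf 2424) (.leaf 1527))) (.node (.node (.leaf 1431) (.leaf 1423)) (.node (.leaf 1324) (.leaf 4058)))) (.node (.node (.node (.leaf 867) (.leaf 3727)) (.node (.leaf 2707) (.leaf 4064))) (.node (.node (.leaf 1985) (.leaf 2292)) (.node (.leaf 3373) (.leaf 728))))) (.node (.node (.node (.node (.leaf 529) (.leaf 3348)) (.node (.leaf 2340) (.leaf 3954))) (.node (.node (.leaf 1712) (.leaf 1293)) (.node (.leaf 1359) (.leaf 1606)))) (.node (.node (.node (.leaf 1025) (.leaf 3242)) (.node (.leaf 123) (.leaf 4039))) (.node (.node (.leaf 2219) (.leaf 2676)) (.node (.leaf 1255) (.leaf 950)))))) (.node (.node (.node (.node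 (.node (.leaf 359) (.leaf 3630)) (.node (.leaf 2494) (.leaf 2288))) (.node (.node (.leaf 1572) (.leaf 1027)) (.node (.leaf 111) (.leaf 1729)))) (.node (.node (.node (.leaf 1019) (.leaf 2911)) (.node (.leaf 2659) (.leaf 523))) (.node (.node (.leaf 2104) (.leaf 3914)) (.node (.leaf 3126) (.leaf 3772))))) (.node (.node (.node (.node (.leaf 698) (.leaf 1090)) (.node (.leaf 2651) (.leaf 2236))) (.node (.node (.leaf 1848) (.leaf 3723)) (.node (.leaf 3284) (.leaf 1168)))) (.node (.node (.node (.leaf 1295) (.leaf 3182)) (.node (.leaf 2879) (.leaf 2658))) (.node (.node (.leaf 2318) (.leaf 3972)) (.node (.leaf 2824) (.leaf 3062))))))))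

def twoNext72 : Janko.Tree (ℕ) :=
  (.node (.node (.node (.node (.node (.node (.node (.leaf 5) (.leaf 2923)) (.node (.leaf 1959) (.leaf 2362))) (.node (.node (.leaf 1257) (.leaf 1437)) (.node (.leaf 618) (.leaf 3867)))) (.node (.node (.node (.leaf 85) (.leaf 2831)) (.node (.leaf 1710) (.leaf 2212))) (.node (.node (.leaf 1922) (.leaf 1472)) (.node (.leaf 2849) (.leaf 2864))))) (.node (.node (.node (.node (.leaf 238) (.leaf 1062)) (.node (.leaf 2526) (.leaf 2605))) (.node (.node (.leaf 1522) (.leaf 3639)) (.node (.leaf 2914) (.leaf 2689)))) (.node (.node (.node (.leaf 1093) (.leaf 3169)) (.node (.leaf 2776) (.leaf 2725))) (.node (.node (.leaf 2168) (.leaf 1540)) (.node (.leaf 793) (.leaf 3644)))))) (.node (.node (.node (.node (.node (.leaf 265) (.leaf 975)) (.node (.leaf 409) (.leaf 2481))) (.node (.node (.leaf 1496) (.leaf 3108)) (.node (.leaf 2916) (.leaf 4007)))) (.node (.node (.node (.leaf 949) (.leaf 3008)) (.node (.leaf 2157) (.leaf 2117))) (.node (.node (.leaf 300) (.leaf 1502)) (.node (.leaf 765) (.leaf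 3657))))) (.node (.node (.node (.node (.leaf 614) (.leaf 3025)) (.node (.leaf 2019) (.leaf 3880))) (.node (.node (.leaf 1780) (.leaf 3167)) (.node (.leaf 705) (.leaf 3918)))) (.node (.node (.node (.leaf 1231) (.leaf 3772)) (.node (.leaf 2874) (.leaf 4028))) (.node (.node (.leaf 1577) (.leaf 2316)) (.node (.leaf 1140) (.leaf 3785))))))) (.node (.node (.node (.node (.node (.node (.leaf 83) (.leaf 946)) (.node (.leaf 393) (.leaf 2501))) (.node (.node (.leaf 1287) (.leaf 3458)) (.node (.leaf 632) (.leaf 2298)))) (.node (.node (.node (.leaf 868) (.leaf 3520)) (.node (.leaf 513) (.leaf 2554))) (.node (.node (.leaf 1986) (.leaf 2661)) (.node (.leaf 3374) (.leaf 2901))))) (.node (.node (.node (.node (.leaf 235) (.leaf 951)) (.node (.leaf 2568) (.leaf 2373))) (.node (.node (.leaf 1713) (.leaf 3255)) (.node (.leaf 1160) (.leaf 4071)))) (.node (.node (.node (.leaf 1162) (.leaf 1128)) (.node (.leaf 959) (.leaf 2220))) (.node (.node (.leaf 2098) (.leaf 1562)) (.node (.leaf 1008) (.leaf 3180)))))) (.node (.node (.node (.node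 (.node (.leaf 360) (.leaf 2911)) (.node (.leaf 2257) (.leaf 2331))) (.node (.node (.leaf 1510) (.leaf 3779)) (.node (.leaf 660) (.leaf 3977)))) (.node (.node (.node (.leaf 1020) (.leaf 3519)) (.node (.leaf 1993) (.leaf 4070))) (.node (.node (.leaf 2105) (.leaf 3915)) (.node (.leaf 781) (.leaf 3686))))) (.node (.node (.node (.node (.leaf 75) (.leaf 3604)) (.node (.leaf 2652) (.leaf 2703))) (.node (.node (.leaf 1849) (.leaf 3703)) (.node (.leaf 2868) (.leaf 3555)))) (.node (.node (.node (.leaf 820) (.leaf 1290)) (.node (.leaf 658) (.leaf 3863))) (.node (.node (.leaf 366) (.leaf 2309)) (.node (.leaf 3536) (.leaf 3804))))))))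

def twoNext73 : Janko.Tree (ℕ) :=
  (.node (.node (.node (.node (.node (.node (.node (.leaf 61) (.leaf 3285)) (.node (.leaf 2379) (.leaf 1878))) (.node (.node (.leaf 178) (.leaf 1209)) (.node (.leaf 851) (.leaf 2465)))) (.node (.node (.node (.leaf 786) (.leaf 1228)) (.node (.leaf 499) (.leaf 2184))) (.node (.node (.leaf 274) (.leaf 1809)) (.node (.leaf 2924) (.leaf 3221))))) (.node (.node (.node (.node (.leaf 445) (.leaf 2891)) (.node (.leaf 2098) (.leaf 1719))) (.node (.node (.leaf 1646) (.leaf 1329)) (.node (.leaf 3186) (.leaf 4070)))) (.node (.node (.node (.leaf 1094) (.leaf 3443)) (.node (.leaf 1770) (.leaf 1957))) (.node (.node (.leaf 2169) (.leaf 1588)) (.node (.leaf 3460) (.leaf 3094)))))) (.node (.node (.node (.node (.node (.leaf 266) (.leaf 1249)) (.node (.leaf 2454) (.leaf 3988))) (.node (.node (.leaf 1497) (.leaf 1258)) (.node (.leaf 3083) (.leaf 2209)))) (.node (.node (.node (.leaf 106) (.leaf 1048)) (.node (.leaf 2726) (.leaf 3916))) (.node (.node (.leaf 351) (.leaf 3886)) (.node (.leaf 3409) (.leaf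 3532))))) (.node (.node (.node (.node (.leaf 615) (.leaf 3234)) (.node (.leaf 2072) (.leaf 1776))) (.node (.node (.leaf 250) (.leaf 3795)) (.node (.leaf 2994) (.leaf 2676)))) (.node (.node (.node (.leaf 1093) (.leaf 1161)) (.node (.leaf 592) (.leaf 3929))) (.node (.node (.leaf 1942) (.leaf 1583)) (.node (.leaf 3269) (.leaf 3606))))))) (.node (.node (.node (.node (.node (.node (.leaf 164) (.leaf 1170)) (.node (.leaf 483) (.leaf 2602))) (.node (.node (.leaf 191) (.leaf 1231)) (.node (.leaf 3031) (.leaf 2544)))) (.node (.node (.node (.leaf 869) (.leaf 3527)) (.node (.leaf 2573) (.leaf 3889))) (.node (.node (.leaf 1987) (.leaf 1487)) (.node (.leaf 750) (.leaf 3799))))) (.node (.node (.node (.node (.leaf 530) (.leaf 3557)) (.node (.leaf 2569) (.leaf 2663))) (.node (.node (.leaf 238) (.leaf 3488)) (.node (.leaf 3213) (.leaf 3826)))) (.node (.node (.node (.leaf 938) (.leaf 1389)) (.node (.leaf 580) (.leaf 2191))) (.node (.node (.leaf 2220) (.leaf 1746)) (.node (.leaf 809) (.leaf 3806)))))) (.node (.node (.node (.node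 (.node (.leaf 34) (.leaf 911)) (.node (.leaf 1998) (.leaf 1682))) (.node (.node (.leaf 1573) (.leaf 3809)) (.node (.leaf 787) (.leaf 2286)))) (.node (.node (.node (.leaf 1021) (.leaf 1070)) (.node (.leaf 2305) (.leaf 1914))) (.node (.node (.leaf 1773) (.leaf 2753)) (.node (.leaf 3429) (.leaf 3643))))) (.node (.node (.node (.node (.leaf 699) (.leaf 1345)) (.node (.leaf 2429) (.leaf 2760))) (.node (.node (.leaf 262) (.leaf 3709)) (.node (.leaf 721) (.leaf 3762)))) (.node (.node (.node (.leaf 1296) (.leaf 3747)) (.node (.leaf 2938) (.leaf 3906))) (.node (.node (.leaf 1873) (.leaf 1602)) (.node (.leaf 941) (.leaf 3727))))))))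

def twoNext74 : Janko.Tree (ℕ) :=
  (.node (.node (.node (.node (.node (.node (.node (.leaf 62) (.leaf 862)) (.node (.leaf 2380) (.leaf 2344))) (.node (.node (.leaf 1030) (.leaf 1232)) (.node (.leaf 968) (.leaf 3967)))) (.node (.node (.node (.leaf 787) (.leaf 3345)) (.node (.leaf 2574) (.leaf 3872))) (.node (.node (.leaf 1923) (.leaf 1545)) (.node (.leaf 735) (.leaf 2962))))) (.node (.node (.node (.node (.leaf 44) (.leaf 926)) (.node (.leaf 1702) (.leaf 4027))) (.node (.node (.leaf 1647) (.leaf 3645)) (.node (.leaf 1033) (.leaf 3840)))) (.node (.node (.node (.leaf 1095) (.leaf 3259)) (.node (.leaf 1872) (.leaf 3952))) (.node (.node (.leaf 322) (.leaf 3858)) (.node (.leaf 3304) (.leaf 3642)))))) (.node (.node (.node (.node (.node (.leaf 24) (.leaf 893)) (.node (.leaf 1777) (.leaf 2171))) (.node (.node (.leaf 203) (.leaf 3782)) (.node (.leaf 1432) (.leaf 2239)))) (.node (.node (.node (.leaf 950) (.leaf 2908)) (.node (.leaf 1887) (.leaf 2135))) (.node (.node (.leaf 1878) (.leaf 2733)) (.node (.leaf 1216) (.leaf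 3450))))) (.node (.node (.node (.node (.leaf 616) (.leaf 2938)) (.node (.leaf 2054) (.leaf 4002))) (.node (.node (.leaf 1781) (.leaf 3270)) (.node (.leaf 1093) (.leaf 2696)))) (.node (.node (.node (.leaf 194) (.leaf 3582)) (.node (.leaf 2875) (.leaf 2671))) (.node (.node (.leaf 2270) (.leaf 2099)) (.node (.leaf 3375) (.leaf 3427))))))) (.node (.node (.node (.node (.node (.node (.leaf 165) (.leaf 878)) (.node (.leaf 2317) (.leaf 1638))) (.node (.node (.leaf 1035) (.leaf 3362)) (.node (.leaf 2906) (.leaf 3968)))) (.node (.node (.node (.leaf 870) (.leaf 1027)) (.node (.leaf 2461) (.leaf 1896))) (.node (.node (.leaf 1988) (.leaf 3859)) (.node (.leaf 964) (.leaf 3709))))) (.node (.node (.node (.node (.leaf 54) (.leaf 3504)) (.node (.leaf 2570) (.leaf 1747))) (.node (.node (.leaf 1714) (.leaf 1378)) (.node (.leaf 690) (.leaf 2469)))) (.node (.node (.node (.leaf 142) (.leaf 1357)) (.node (.leaf 852) (.leaf 2093))) (.node (.node (.leaf 2085) (.leaf 2231)) (.node (.leaf 923) (.leaf 3469)))))) (.node (.node (.node (.node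 (.node (.leaf 361) (.leaf 3476)) (.node (.leaf 2275) (.leaf 3913))) (.node (.node (.leaf 1574) (.leaf 3693)) (.node (.leaf 810) (.leaf 2475)))) (.node (.node (.node (.leaf 117) (.leaf 1155)) (.node (.leaf 1848) (.leaf 2676))) (.node (.node (.leaf 2106) (.leaf 2182)) (.node (.leaf 3430) (.leaf 3020))))) (.node (.node (.node (.node (.leaf 127) (.leaf 1059)) (.node (.leaf 2112) (.leaf 1797))) (.node (.node (.leaf 1850) (.leaf 3815)) (.node (.leaf 1261) (.leaf 3736)))) (.node (.node (.node (.leaf 166) (.leaf 1186)) (.node (.leaf 1371) (.leaf 2108))) (.node (.node (.leaf 2319) (.leaf 2401)) (.node (.leaf 3537) (.leaf 3571))))))))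

def twoNext75 : Janko.Tree (ℕ) :=
  (.node (.node (.node (.node (.node (.node (.node (.leaf 63) (.leaf 3304)) (.node (.leaf 1703) (.leaf 3959))) (.node (.node (.leaf 1367) (.leaf 1319)) (.node (.leaf 2983) (.leaf 1472)))) (.node (.node (.node (.leaf 788) (.leaf 3183)) (.node (.leaf 2577) (.leaf 2557))) (.node (.node (.leaf 1924) (.leaf 2747)) (.node (.leaf 3328) (.leaf 1276))))) (.node (.node (.node (.node (.leaf 446) (.leaf 3469)) (.node (.leaf 480) (.leaf 291))) (.node (.node (.leaf 1615) (.leaf 3698)) (.node (.leaf 764) (.leaf 1922)))) (.node (.node (.node (.leaf 717) (.leaf 3390)) (.node (.leaf 1690) (.leaf 1869))) (.node (.node (.leaf 2170) (.leaf 2731)) (.node (.leaf 3363) (.leaf 2932)))))) (.node (.node (.node (.node (.node (.leaf 267) (.leaf 3604)) (.node (.leaf 2455) (.leaf 2287))) (.node (.node (.leaf 1498) (.leaf 1354)) (.node (.leaf 3084) (.leaf 3956)))) (.node (.node (.node (.leaf 669) (.leaf 3736)) (.node (.leaf 2201) (.leaf 4006))) (.node (.node (.leaf 2049) (.leaf 3887)) (.node (.leaf 719) (.leaf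 1148))))) (.node (.node (.node (.node (.leaf 607) (.leaf 3050)) (.node (.leaf 2616) (.leaf 1515))) (.node (.node (.leaf 1782) (.leaf 154)) (.node (.leaf 1368) (.leaf 1494)))) (.node (.node (.node (.leaf 910) (.leaf 3773)) (.node (.leaf 2876) (.leaf 2621))) (.node (.node (.leaf 1850) (.leaf 3957)) (.node (.leaf 1199) (.leaf 3121))))))) (.node (.node (.node (.node (.node (.node (.leaf 166) (.leaf 3286)) (.node (.leaf 1587) (.leaf 3840))) (.node (.node (.leaf 1360) (.leaf 3626)) (.node (.leaf 1446) (.leaf 2514)))) (.node (.node (.node (.leaf 871) (.leaf 3509)) (.node (.leaf 1554) (.leaf 1754))) (.node (.node (.leaf 1989) (.leaf 1859)) (.node (.leaf 886) (.leaf 2867))))) (.node (.node (.node (.node (.leaf 448) (.leaf 3652)) (.node (.leaf 2151) (.leaf 2632))) (.node (.node (.leaf 1715) (.leaf 3244)) (.node (.leaf 3214) (.leaf 2573)))) (.node (.node (.node (.leaf 1163) (.leaf 3434)) (.node (.leaf 2809) (.leaf 505))) (.node (.node (.leaf 557) (.leaf 2189)) (.node (.leaf 3482) (.leaf 3454)))))) (.node (.node (.node (.node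 (.node (.leaf 362) (.leaf 2982)) (.node (.leaf 559) (.leaf 1650))) (.node (.node (.leaf 1575) (.leaf 1125)) (.node (.leaf 3138) (.leaf 1853)))) (.node (.node (.node (.leaf 1022) (.leaf 3399)) (.node (.leaf 1642) (.leaf 1478))) (.node (.node (.leaf 335) (.leaf 1797)) (.node (.leaf 3431) (.leaf 3203))))) (.node (.node (.node (.node (.leaf 700) (.leaf 579)) (.node (.leaf 2487) (.leaf 3947))) (.node (.node (.leaf 1851) (.leaf 3497)) (.node (.leaf 3285) (.leaf 4089)))) (.node (.node (.node (.leaf 1297) (.leaf 3560)) (.node (.leaf 2913) (.leaf 1586))) (.node (.node (.leaf 1919) (.leaf 3973)) (.node (.leaf 749) (.leaf 1087))))))))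

def twoNext76 : Janko.Tree (ℕ) :=
  (.node (.node (.node (.node (.node (.node (.node (.leaf 64) (.leaf 3514)) (.node (.leaf 379) (.leaf 3905))) (.node (.node (.leaf 1368) (.leaf 1376)) (.node (.leaf 1392) (.leaf 2126)))) (.node (.node (.node (.leaf 789) (.leaf 1013)) (.node (.leaf 2381) (.leaf 1824))) (.node (.node (.leaf 408) (.leaf 2059)) (.node (.leaf 3136) (.leaf 2973))))) (.node (.node (.node (.node (.leaf 269) (.leaf 2944)) (.node (.leaf 2480) (.leaf 4011))) (.node (.node (.leaf 225) (.leaf 1351)) (.node (.leaf 675) (.leaf 4029)))) (.node (.node (.node (.leaf 129) (.leaf 1101)) (.node (.leaf 560) (.leaf 2726))) (.node (.node (.leaf 2171) (.leaf 3857)) (.node (.leaf 1340) (.leaf 3722)))))) (.node (.node (.node (.node (.node (.leaf 50) (.leaf 3605)) (.node (.leaf 1687) (.leaf 2406))) (.node (.node (.leaf 1499) (.leaf 3114)) (.node (.leaf 647) (.leaf 2267)))) (.node (.node (.node (.leaf 892) (.leaf 1212)) (.node (.leaf 2332) (.leaf 2633))) (.node (.node (.leaf 1969) (.leaf 2663)) (.node (.leaf 1047) (.leaf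 2948))))) (.node (.node (.node (.node (.leaf 65) (.leaf 3135)) (.node (.leaf 2617) (.leaf 3964))) (.node (.node (.leaf 460) (.leaf 3103)) (.node (.leaf 1237) (.leaf 2607)))) (.node (.node (.node (.leaf 1232) (.leaf 3264)) (.node (.leaf 616) (.leaf 2038))) (.node (.node (.leaf 351) (.leaf 2015)) (.node (.leaf 960) (.leaf 3310))))))) (.node (.node (.node (.node (.node (.node (.leaf 15) (.leaf 2908)) (.node (.leaf 2321) (.leaf 2374))) (.node (.node (.leaf 1296) (.leaf 3293)) (.node (.leaf 3032) (.leaf 2499)))) (.node (.node (.node (.leaf 96) (.leaf 3637)) (.node (.leaf 2627) (.leaf 2630))) (.node (.node (.leaf 1990) (.leaf 1543)) (.node (.leaf 3375) (.leaf 3048))))) (.node (.node (.node (.node (.leaf 283) (.leaf 3596)) (.node (.leaf 1931) (.leaf 3879))) (.node (.node (.leaf 289) (.leaf 3421)) (.node (.leaf 1322) (.leaf 2789)))) (.node (.node (.node (.leaf 143) (.leaf 3232)) (.node (.leaf 2810) (.leaf 1997))) (.node (.node (.leaf 2175) (.leaf 2037)) (.node (.leaf 1372) (.leaf 3765)))))) (.node (.node (.node (.node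 (.node (.leaf 363) (.leaf 1201)) (.node (.leaf 425) (.leaf 2438))) (.node (.node (.leaf 215) (.leaf 3654)) (.node (.leaf 3060) (.leaf 2534)))) (.node (.node (.node (.leaf 1023) (.leaf 3569)) (.node (.leaf 1952) (.leaf 3841))) (.node (.node (.leaf 2107) (.leaf 3906)) (.node (.leaf 3432) (.leaf 3648))))) (.node (.node (.node (.node (.leaf 139) (.leaf 992)) (.node (.leaf 2581) (.leaf 1798))) (.node (.node (.leaf 1852) (.leaf 2054)) (.node (.leaf 3158) (.leaf 3084)))) (.node (.node (.node (.leaf 849) (.leaf 1187)) (.node (.leaf 603) (.leaf 3836))) (.node (.node (.leaf 1756) (.leaf 1643)) (.node (.leaf 842) (.leaf 3682))))))))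

def twoNext77 : Janko.Tree (ℕ) :=
  (.node (.node (.node (.node (.node (.node (.node (.leaf 65) (.leaf 863)) (.node (.leaf 2297) (.leaf 1622))) (.node (.node (.leaf 179) (.leaf 3248)) (.node (.leaf 618) (.leaf 2216)))) (.node (.node (.node (.leaf 85) (.leaf 3478)) (.node (.leaf 500) (.leaf 2074))) (.node (.node (.leaf 1650) (.leaf 1472)) (.node (.leaf 3129) (.leaf 2875))))) (.node (.node (.node (.node (.leaf 447) (.leaf 927)) (.node (.leaf 2025) (.leaf 4028))) (.node (.node (.leaf 1648) (.leaf 3710)) (.node (.leaf 2829) (.leaf 2364)))) (.node (.node (.node (.leaf 1096) (.leaf 3029)) (.node (.leaf 1603) (.leaf 1961))) (.node (.node (.leaf 2172) (.leaf 1949)) (.node (.leaf 793) (.leaf 3095)))))) (.node (.node (.node (.node (.node (.leaf 268) (.leaf 894)) (.node (.leaf 2456) (.leaf 2448))) (.node (.node (.leaf 1500) (.leaf 2929)) (.node (.leaf 756) (.leaf 4019)))) (.node (.node (.node (.leaf 951) (.leaf 3038)) (.node (.leaf 528) (.leaf 4022))) (.node (.node (.leaf 1554) (.leaf 1560)) (.node (.leaf 765) (.leaf 3386)))))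 (.node (.node (.node (.node (.leaf 97) (.leaf 973)) (.node (.leaf 1589) (.leaf 4046))) (.node (.node (.leaf 1783) (.leaf 1421)) (.node (.leaf 705) (.leaf 2770)))) (.node (.node (.node (.leaf 154) (.leaf 3774)) (.node (.leaf 2877) (.leaf 2508))) (.node (.node (.leaf 1892) (.leaf 1584)) (.node (.leaf 825) (.leaf 3773))))))) (.node (.node (.node (.node (.node (.node (.leaf 167) (.leaf 3271)) (.node (.leaf 393) (.leaf 1972))) (.node (.node (.leaf 627) (.leaf 1379)) (.node (.leaf 632) (.leaf 2167)))) (.node (.node (.node (.leaf 872) (.leaf 3432)) (.node (.leaf 513) (.leaf 2564))) (.node (.node (.leaf 287) (.leaf 3860)) (.node (.leaf 751) (.leaf 2901))))) (.node (.node (.node (.node (.leaf 531) (.leaf 3672)) (.node (.leaf 2571) (.leaf 2109))) (.node (.node (.leaf 1716) (.leaf 3487)) (.node (.leaf 1384) (.leaf 2470)))) (.node (.node (.node (.leaf 1164) (.leaf 3764)) (.node (.leaf 1387) (.leaf 2310))) (.node (.node (.leaf 336) (.leaf 1562)) (.node (.leaf 1361) (.leaf 3667)))))) (.node (.node (.node (.node (.node (.leaf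 364) (.leaf 912)) (.node (.leaf 1846) (.leaf 2047))) (.node (.node (.leaf 563) (.leaf 1300)) (.node (.leaf 660) (.leaf 2392)))) (.node (.node (.node (.leaf 1024) (.leaf 3749)) (.node (.leaf 2124) (.leaf 2450))) (.node (.node (.leaf 311) (.leaf 2104)) (.node (.leaf 781) (.leaf 3107))))) (.node (.node (.node (.node (.leaf 75) (.leaf 1128)) (.node (.leaf 2197) (.leaf 4052))) (.node (.node (.leaf 1853) (.leaf 1455)) (.node (.leaf 3286) (.leaf 4090)))) (.node (.node (.node (.leaf 1298) (.leaf 1261)) (.node (.leaf 735) (.leaf 2797))) (.node (.node (.leaf 2320) (.leaf 2758)) (.node (.leaf 2811) (.leaf 3562))))))))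

def twoNext78 : Janko.Tree (ℕ) :=
  (.node (.node (.node (.node (.node (.node (.node (.leaf 5) (.leaf 3312)) (.node (.leaf 2020) (.leaf 3985))) (.node (.node (.leaf 1369) (.leaf 3532)) (.node (.leaf 2984) (.leaf 2221)))) (.node (.node (.node (.leaf 637) (.leaf 3681)) (.node (.leaf 2480) (.leaf 3901))) (.node (.node (.leaf 274) (.leaf 3834)) (.node (.leaf 3329) (.leaf 2866))))) (.node (.node (.node (.node (.leaf 448) (.leaf 2977)) (.node (.leaf 2311) (.leaf 1719))) (.node (.node (.leaf 271) (.leaf 3366)) (.node (.leaf 3064) (.leaf 2530)))) (.node (.node (.node (.leaf 712) (.leaf 3145)) (.node (.leaf 2777) (.leaf 2141))) (.node (.node (.leaf 2173) (.leaf 1540)) (.node (.leaf 3461) (.leaf 3248)))))) (.node (.node (.node (.node (.node (.leaf 269) (.leaf 3557)) (.node (.leaf 2088) (.leaf 1661))) (.node (.node (.leaf 1501) (.leaf 1258)) (.node (.leaf 1104) (.leaf 2535)))) (.node (.node (.node (.leaf 106) (.leaf 1414)) (.node (.leaf 2576) (.leaf 2640))) (.node (.node (.leaf 300) (.leaf 1502)) (.node (.leaf 3332) (.leaf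 3188))))) (.node (.node (.node (.node (.leaf 617) (.leaf 2836)) (.node (.leaf 2618) (.leaf 1776))) (.node (.node (.leaf 1644) (.leaf 3086)) (.node (.leaf 3250) (.leaf 4037)))) (.node (.node (.node (.leaf 877) (.leaf 1325)) (.node (.leaf 592) (.leaf 2682))) (.node (.node (.leaf 2107) (.leaf 2306)) (.node (.leaf 3511) (.leaf 3454))))))) (.node (.node (.node (.node (.node (.node (.leaf 168) (.leaf 3026)) (.node (.leaf 517) (.leaf 1959))) (.node (.node (.leaf 191) (.leaf 1282)) (.node (.leaf 3033) (.leaf 2399)))) (.node (.node (.node (.leaf 873) (.leaf 3677)) (.node (.leaf 2048) (.leaf 2695))) (.node (.node (.leaf 1821) (.leaf 1487)) (.node (.leaf 3193) (.leaf 3807))))) (.node (.node (.node (.node (.leaf 532) (.leaf 951)) (.node (.leaf 2572) (.leaf 1773))) (.node (.node (.leaf 1717) (.leaf 1379)) (.node (.leaf 1391) (.leaf 2713)))) (.node (.node (.node (.leaf 680) (.leaf 3765)) (.node (.leaf 1320) (.leaf 2353))) (.node (.node (.leaf 2168) (.leaf 2628)) (.node (.leaf 3164) (.leaf 3185)))))) (.node (.node (.node (.node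 (.node (.leaf 34) (.leaf 3631)) (.node (.leaf 2495) (.leaf 4020))) (.node (.node (.leaf 1576) (.leaf 3160)) (.node (.leaf 3139) (.leaf 2318)))) (.node (.node (.node (.leaf 1025) (.leaf 3415)) (.node (.leaf 544) (.leaf 2058))) (.node (.node (.leaf 1901) (.leaf 2181)) (.node (.leaf 3310) (.leaf 3021))))) (.node (.node (.node (.node (.leaf 701) (.leaf 1086)) (.node (.leaf 1654) (.leaf 2458))) (.node (.node (.leaf 1854) (.leaf 1833)) (.node (.leaf 721) (.leaf 2828)))) (.node (.node (.node (.leaf 1192) (.leaf 1289)) (.node (.leaf 2839) (.leaf 4082))) (.node (.node (.leaf 366) (.leaf 1603)) (.node (.leaf 2845) (.leaf 3708))))))))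

def twoNext79 : Janko.Tree (ℕ) :=
  (.node (.node (.node (.node (.node (.node (.node (.leaf 66) (.leaf 815)) (.node (.leaf 1717) (.leaf 2235))) (.node (.node (.leaf 1370) (.leaf 149)) (.node (.leaf 746) (.leaf 4086)))) (.node (.node (.node (.leaf 790) (.leaf 3239)) (.node (.leaf 2674) (.leaf 277))) (.node (.node (.leaf 1925) (.leaf 1874)) (.node (.leaf 133) (.leaf 619))))) (.node (.node (.node (.node (.leaf 449) (.leaf 1127)) (.node (.leaf 1458) (.leaf 3865))) (.node (.node (.leaf 1649) (.leaf 3486)) (.node (.leaf 3187) (.leaf 2003)))) (.node (.node (.node (.leaf 1097) (.leaf 3060)) (.node (.leaf 2604) (.leaf 1956))) (.node (.node (.leaf 1497) (.leaf 2595)) (.node (.leaf 2962) (.leaf 121)))))) (.node (.node (.node (.node (.node (.leaf 270) (.leaf 3606)) (.node (.leaf 206) (.leaf 1548))) (.node (.node (.leaf 1502) (.leaf 3591)) (.node (.leaf 3085) (.leaf 3817)))) (.node (.node (.node (.leaf 952) (.leaf 1119)) (.node (.leaf 2727) (.leaf 2472))) (.node (.node (.leaf 482) (.leaf 492)) (.node (.leaf 3398) (.leaf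 1062))))) (.node (.node (.node (.node (.leaf 618) (.leaf 3679)) (.node (.leaf 1960) (.leaf 1496))) (.node (.node (.leaf 1784) (.leaf 2845)) (.node (.leaf 3030) (.leaf 2010)))) (.node (.node (.node (.leaf 1233) (.leaf 3732)) (.node (.leaf 1184) (.leaf 1996))) (.node (.node (.leaf 2271) (.leaf 3958)) (.node (.leaf 3512) (.leaf 3750))))))) (.node (.node (.node (.node (.node (.node (.leaf 169) (.leaf 2874)) (.node (.leaf 2379) (.leaf 404))) (.node (.node (.leaf 1432) (.leaf 1164)) (.node (.leaf 3034) (.leaf 2531)))) (.node (.node (.node (.leaf 874) (.leaf 1342)) (.node (.leaf 563) (.leaf 3971))) (.node (.node (.leaf 1991) (.leaf 2314)) (.node (.leaf 3376) (.leaf 3607))))) (.node (.node (.node (.node (.leaf 498) (.leaf 3282)) (.node (.leaf 1560) (.leaf 495))) (.node (.node (.leaf 476) (.leaf 3418)) (.node (.leaf 2814) (.leaf 2466)))) (.node (.node (.node (.leaf 1165) (.leaf 3179)) (.node (.leaf 2811) (.leaf 2578))) (.node (.node (.leaf 1518) (.leaf 1823)) (.node (.leaf 883) (.leaf 3596)))))) (.node (.node (.node (.node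 (.node (.leaf 365) (.leaf 3267)) (.node (.leaf 1858) (.leaf 2468))) (.node (.node (.leaf 1577) (.leaf 630)) (.node (.leaf 3140) (.leaf 2252)))) (.node (.node (.node (.leaf 1026) (.leaf 991)) (.node (.leaf 1474) (.leaf 4030))) (.node (.node (.leaf 1666) (.leaf 2586)) (.node (.leaf 3078) (.leaf 3661))))) (.node (.node (.node (.node (.leaf 702) (.leaf 3022)) (.node (.leaf 530) (.leaf 561))) (.node (.node (.leaf 1855) (.leaf 2310)) (.node (.leaf 3287) (.leaf 3309)))) (.node (.node (.node (.leaf 178) (.leaf 3386)) (.node (.leaf 2939) (.leaf 2098))) (.node (.node (.leaf 1462) (.leaf 57)) (.node (.leaf 3538) (.leaf 3646))))))))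

def twoNext80 : Janko.Tree (ℕ) :=
  (.node (.node (.node (.node (.node (.node (.node (.leaf 67) (.leaf 2817)) (.node (.leaf 2310) (.leaf 2343))) (.node (.node (.leaf 767) (.leaf 1375)) (.node (.leaf 965) (.leaf 2290)))) (.node (.node (.node (.leaf 791) (.leaf 3711)) (.node (.leaf 1851) (.leaf 4015))) (.node (.node (.leaf 1926) (.leaf 2187)) (.node (.leaf 736) (.leaf 3287))))) (.node (.node (.node (.node (.leaf 45) (.leaf 1016)) (.node (.leaf 1529) (.leaf 4001))) (.node (.node (.leaf 1650) (.leaf 3517)) (.node (.leaf 3134) (.leaf 2366)))) (.node (.node (.node (.leaf 1098) (.leaf 3225)) (.node (.leaf 1850) (.leaf 2657))) (.node (.node (.leaf 323) (.leaf 2732)) (.node (.leaf 3462) (.leaf 3096)))))) (.node (.node (.node (.node (.node (.leaf 25) (.leaf 950)) (.node (.leaf 1765) (.leaf 2427))) (.node (.node (.leaf 1503) (.leaf 3399)) (.node (.leaf 3086) (.leaf 3933)))) (.node (.node (.node (.leaf 617) (.leaf 3164)) (.node (.leaf 2728) (.leaf 2150))) (.node (.node (.leaf 1552) (.leaf 3888)) (.node (.leaf 766) (.leaf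 2949))))) (.node (.node (.node (.node (.leaf 108) (.leaf 3616)) (.node (.leaf 470) (.leaf 3948))) (.node (.node (.leaf 1785) (.leaf 3585)) (.node (.leaf 1055) (.leaf 3847)))) (.node (.node (.node (.leaf 773) (.leaf 3748)) (.node (.leaf 644) (.leaf 2041))) (.node (.node (.leaf 2272) (.leaf 3959)) (.node (.leaf 1408) (.leaf 3787))))))) (.node (.node (.node (.node (.node (.node (.leaf 170) (.leaf 1211)) (.node (.leaf 2329) (.leaf 1880))) (.node (.node (.leaf 1433) (.leaf 1318)) (.node (.leaf 3035) (.leaf 2169)))) (.node (.node (.node (.leaf 875) (.leaf 3728)) (.node (.leaf 1802) (.leaf 4023))) (.node (.node (.leaf 498) (.leaf 1778)) (.node (.leaf 1292) (.leaf 3627))))) (.node (.node (.node (.node (.leaf 55) (.leaf 2890)) (.node (.leaf 455) (.leaf 1750))) (.node (.node (.leaf 1686) (.leaf 1380)) (.node (.leaf 1431) (.leaf 3996)))) (.node (.node (.node (.leaf 934) (.leaf 1320)) (.node (.leaf 581) (.leaf 2000))) (.node (.node (.leaf 2221) (.leaf 1859)) (.node (.leaf 811) (.leaf 3324)))))) (.node (.node (.node (.node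 (.node (.leaf 321) (.leaf 1059)) (.node (.leaf 2002) (.leaf 4021))) (.node (.node (.leaf 1578) (.leaf 1301)) (.node (.leaf 3141) (.leaf 2293)))) (.node (.node (.node (.leaf 118) (.leaf 3199)) (.node (.leaf 1542) (.leaf 2691))) (.node (.node (.leaf 2055) (.leaf 1519)) (.node (.leaf 3433) (.leaf 3023))))) (.node (.node (.node (.node (.leaf 703) (.leaf 3395)) (.node (.leaf 2001) (.leaf 4017))) (.node (.node (.leaf 263) (.leaf 1483)) (.node (.leaf 722) (.leaf 2829)))) (.node (.node (.node (.leaf 167) (.leaf 1188)) (.node (.leaf 2940) (.leaf 2090))) (.node (.node (.leaf 2077) (.leaf 1651)) (.node (.leaf 3327) (.leaf 4091))))))))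

def twoNext81 : Janko.Tree (ℕ) :=
  (.node (.node (.node (.node (.node (.node (.node (.leaf 68) (.leaf 1391)) (.node (.leaf 2381) (.leaf 2775))) (.node (.node (.leaf 1371) (.leaf 2953)) (.node (.leaf 2985) (.leaf 2558)))) (.node (.node (.node (.leaf 792) (.leaf 1014)) (.node (.leaf 2675) (.leaf 1824))) (.node (.node (.leaf 1927) (.leaf 2509)) (.node (.leaf 3280) (.leaf 2867))))) (.node (.node (.node (.node (.leaf 450) (.leaf 2810)) (.node (.leaf 2148) (.leaf 1720))) (.node (.node (.leaf 1651) (.leaf 1333)) (.node (.leaf 695) (.leaf 2542)))) (.node (.node (.node (.leaf 129) (.leaf 3033)) (.node (.leaf 560) (.leaf 2479))) (.node (.node (.leaf 2174) (.leaf 1541)) (.node (.leaf 3241) (.leaf 3154)))))) (.node (.node (.node (.node (.node (.leaf 271) (.leaf 3607)) (.node (.leaf 410) (.leaf 2618))) (.node (.node (.leaf 204) (.leaf 1260)) (.node (.leaf 647) (.leaf 2210)))) (.node (.node (.node (.leaf 953) (.leaf 1433)) (.node (.leaf 2511) (.leaf 2501))) (.node (.node (.leaf 333) (.leaf 1503)) (.node (.leaf 2936) (.leaf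 3494))))) (.node (.node (.node (.node (.leaf 619) (.leaf 3680)) (.node (.leaf 2445) (.leaf 4047))) (.node (.node (.leaf 251) (.leaf 2874)) (.node (.leaf 926) (.leaf 2616)))) (.node (.node (.node (.leaf 903) (.leaf 1162)) (.node (.leaf 2878) (.leaf 3927))) (.node (.node (.leaf 2273) (.leaf 2318)) (.node (.leaf 3477) (.leaf 3315))))))) (.node (.node (.node (.node (.node (.node (.leaf 171) (.leaf 3580)) (.node (.leaf 2079) (.leaf 2107))) (.node (.node (.leaf 1077) (.leaf 3617)) (.node (.leaf 2962) (.leaf 2718)))) (.node (.node (.node (.leaf 96) (.leaf 1029)) (.node (.leaf 1933) (.leaf 1851))) (.node (.node (.leaf 1992) (.leaf 1884)) (.node (.leaf 2844) (.leaf 3513))))) (.node (.node (.node (.node (.leaf 533) (.leaf 3235)) (.node (.leaf 2551) (.leaf 4033))) (.node (.node (.leaf 1718) (.leaf 3082)) (.node (.leaf 691) (.leaf 2483)))) (.node (.node (.node (.leaf 143) (.leaf 1129)) (.node (.leaf 2812) (.leaf 2457))) (.node (.node (.leaf 337) (.leaf 2078)) (.node (.leaf 3123) (.leaf 3211)))))) (.node (.node (.node (.node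 (.node (.leaf 366) (.leaf 1193)) (.node (.leaf 425) (.leaf 1685))) (.node (.node (.leaf 573) (.leaf 3794)) (.node (.leaf 3142) (.leaf 2744)))) (.node (.node (.node (.leaf 1027) (.leaf 2968)) (.node (.leaf 2755) (.leaf 1915))) (.node (.node (.leaf 312) (.leaf 2538)) (.node (.leaf 3434) (.leaf 3390))))) (.node (.node (.node (.node (.leaf 704) (.leaf 992)) (.node (.leaf 2595) (.leaf 1798))) (.node (.node (.leaf 1619) (.leaf 1690)) (.node (.leaf 3162) (.leaf 3075)))) (.node (.node (.node (.leaf 1299) (.leaf 2813)) (.node (.leaf 2941) (.leaf 2510))) (.node (.node (.leaf 2321) (.leaf 1604)) (.node (.leaf 1344) (.leaf 3740))))))))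

def twoNext82 : Janko.Tree (ℕ) :=
  (.node (.node (.node (.node (.node (.node (.node (.leaf 69) (.leaf 2831)) (.node (.leaf 379) (.leaf 1622))) (.node (.node (.leaf 179) (.leaf 1212)) (.node (.leaf 618) (.leaf 2161)))) (.node (.node (.node (.leaf 793) (.leaf 1122)) (.node (.leaf 2556) (.leaf 2137))) (.node (.node (.leaf 1928) (.leaf 2259)) (.node (.leaf 2987) (.leaf 3588))))) (.node (.node (.node (.node (.leaf 451) (.leaf 3620)) (.node (.leaf 439) (.leaf 3823))) (.node (.node (.leaf 225) (.leaf 3118)) (.node (.leaf 675) (.leaf 3883)))) (.node (.node (.node (.leaf 1099) (.leaf 1101)) (.node (.leaf 2778) (.leaf 2162))) (.node (.node (.leaf 2175) (.leaf 3824)) (.node (.leaf 3361) (.leaf 3790)))))) (.node (.node (.node (.node (.node (.leaf 272) (.leaf 894)) (.node (.leaf 1816) (.leaf 3965))) (.node (.node (.leaf 1504) (.leaf 3061)) (.node (.leaf 1398) (.leaf 2359)))) (.node (.node (.node (.leaf 107) (.leaf 1050)) (.node (.leaf 2729) (.leaf 2209))) (.node (.node (.leaf 1458) (.leaf 1799)) (.node (.leaf 1215) (.leaf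 3473))))) (.node (.node (.node (.node (.leaf 65) (.leaf 1014)) (.node (.leaf 2543) (.leaf 3932))) (.node (.node (.leaf 1786) (.leaf 1423)) (.node (.leaf 3235) (.leaf 4013)))) (.node (.node (.node (.leaf 825) (.leaf 3356)) (.node (.leaf 2879) (.leaf 4062))) (.node (.node (.leaf 2274) (.leaf 3960)) (.node (.leaf 855) (.leaf 3440))))))) (.node (.node (.node (.node (.node (.node (.leaf 15) (.leaf 879)) (.node (.leaf 393) (.leaf 1639))) (.node (.node (.leaf 1434) (.leaf 1341)) (.node (.leaf 673) (.leaf 2598)))) (.node (.node (.node (.leaf 876) (.leaf 3495)) (.node (.leaf 513) (.leaf 2330))) (.node (.node (.leaf 1840) (.leaf 2731)) (.node (.leaf 849) (.leaf 2901))))) (.node (.node (.node (.node (.leaf 369) (.leaf 2944)) (.node (.leaf 2573) (.leaf 3879))) (.node (.node (.leaf 1611) (.leaf 3810)) (.node (.leaf 2850) (.leaf 3912)))) (.node (.node (.node (.leaf 1166) (.leaf 1338)) (.node (.leaf 921) (.leaf 2600))) (.node (.node (.leaf 2071) (.leaf 1966)) (.node (.leaf 1425) (.leaf 3187)))))) (.node (.node (.node (.node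 (.node (.leaf 367) (.leaf 912)) (.node (.leaf 2042) (.leaf 3923))) (.node (.node (.leaf 215) (.leaf 3442)) (.node (.leaf 3143) (.leaf 2407)))) (.node (.node (.node (.leaf 1028) (.leaf 3629)) (.node (.leaf 2756) (.leaf 2630))) (.node (.node (.leaf 1670) (.leaf 3915)) (.node (.leaf 781) (.leaf 3080))))) (.node (.node (.node (.node (.leaf 705) (.leaf 3190)) (.node (.leaf 2601) (.leaf 1916))) (.node (.node (.leaf 1856) (.leaf 1455)) (.node (.leaf 3288) (.leaf 3216)))) (.node (.node (.node (.leaf 1002) (.leaf 1285)) (.node (.leaf 603) (.leaf 2156))) (.node (.node (.leaf 415) (.leaf 1770)) (.node (.leaf 842) (.leaf 3713))))))))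

def twoNext83 : Janko.Tree (ℕ) :=
  (.node (.node (.node (.node (.node (.node (.node (.leaf 70) (.leaf 891)) (.node (.leaf 2382) (.leaf 3883))) (.node (.node (.leaf 1231) (.leaf 1140)) (.node (.leaf 2986) (.leaf 3876)))) (.node (.node (.node (.leaf 794) (.leaf 3671)) (.node (.leaf 2398) (.leaf 4059))) (.node (.node (.leaf 1920) (.leaf 2221)) (.node (.leaf 3330) (.leaf 1371))))) (.node (.node (.node (.node (.leaf 452) (.leaf 3298)) (.node (.leaf 2527) (.leaf 2511))) (.node (.node (.leaf 1652) (.leaf 1186)) (.node (.leaf 1013) (.leaf 4065)))) (.node (.node (.node (.leaf 1078) (.leaf 2866)) (.node (.leaf 2779) (.leaf 2256))) (.node (.node (.leaf 2176) (.leaf 1863)) (.node (.leaf 3463) (.leaf 3766)))))) (.node (.node (.node (.node (.node (.leaf 273) (.leaf 3310)) (.node (.leaf 2457) (.leaf 2334))) (.node (.node (.leaf 1505) (.leaf 751)) (.node (.leaf 3087) (.leaf 2191)))) (.node (.node (.node (.leaf 954) (.leaf 3674)) (.node (.leaf 397) (.leaf 4005))) (.node (.node (.leaf 2050) (.leaf 3889)) (.node (.leaf 3410)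 (.leaf 3419))))) (.node (.node (.node (.node (.leaf 620) (.leaf 3424)) (.node (.leaf 2619) (.leaf 2057))) (.node (.node (.leaf 428) (.leaf 3491)) (.node (.leaf 3251) (.leaf 1947)))) (.node (.node (.node (.leaf 1234) (.leaf 3775)) (.node (.leaf 1445) (.leaf 1998))) (.node (.node (.leaf 271) (.leaf 503)) (.node (.leaf 3270) (.leaf 3516))))))) (.node (.node (.node (.node (.node (.node (.leaf 172) (.leaf 3581)) (.node (.leaf 1916) (.leaf 2736))) (.node (.node (.leaf 1435) (.leaf 3540)) (.node (.leaf 164) (.leaf 514)))) (.node (.node (.node (.leaf 877) (.leaf 1281)) (.node (.leaf 2443) (.leaf 2248))) (.node (.node (.leaf 1993) (.leaf 2153)) (.node (.leaf 3167) (.leaf 3761))))) (.node (.node (.node (.node (.leaf 534) (.leaf 599)) (.node (.leaf 2028) (.leaf 3996))) (.node (.node (.leaf 521) (.leaf 2830)) (.node (.leaf 2993) (.leaf 1720)))) (.node (.node (.node (.leaf 1167) (.leaf 3026)) (.node (.leaf 2813) (.leaf 2246))) (.node (.node (.leaf 1610) (.leaf 2800)) (.node (.leaf 78) (.leaf 2960)))))) (.node (.node (.node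 (.node (.node (.leaf 368) (.leaf 3632)) (.node (.leaf 293) (.leaf 4022))) (.node (.node (.leaf 1579) (.leaf 3584)) (.node (.leaf 3144) (.leaf 2683)))) (.node (.node (.node (.leaf 1029) (.leaf 2821)) (.node (.leaf 1911) (.leaf 3886))) (.node (.node (.leaf 2108) (.leaf 2401)) (.node (.leaf 3435) (.leaf 3163))))) (.node (.node (.node (.node (.leaf 706) (.leaf 610)) (.node (.leaf 2653) (.leaf 4033))) (.node (.node (.leaf 1857) (.leaf 2754)) (.node (.leaf 3235) (.leaf 3317)))) (.node (.node (.node (.leaf 1300) (.leaf 616)) (.node (.leaf 2942) (.leaf 4084))) (.node (.node (.leaf 2322) (.leaf 2546)) (.node (.leaf 1114) (.leaf 2881))))))))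

def twoNext84 : Janko.Tree (ℕ) :=
  (.node (.node (.node (.node (.node (.node (.node (.leaf 6) (.leaf 1240)) (.node (.leaf 1644) (.leaf 1636))) (.node (.node (.leaf 1002) (.leaf 1267)) (.node (.leaf 1207) (.leaf 2131)))) (.node (.node (.node (.leaf 86) (.leaf 3622)) (.node (.leaf 2676) (.leaf 2692))) (.node (.node (.leaf 275) (.leaf 2412)) (.node (.leaf 3288) (.leaf 2976))))) (.node (.node (.node (.node (.leaf 453) (.leaf 3101)) (.node (.leaf 2156) (.leaf 1735))) (.node (.node (.leaf 1653) (.leaf 3359)) (.node (.leaf 676) (.leaf 3998)))) (.node (.node (.node (.leaf 708) (.leaf 2843)) (.node (.leaf 1595) (.leaf 1963))) (.node (.node (.leaf 1702) (.leaf 3862)) (.node (.leaf 794) (.leaf 3357)))))) (.node (.node (.node (.node (.node (.leaf 274) (.leaf 3608)) (.node (.leaf 2458) (.leaf 1732))) (.node (.node (.leaf 1506) (.leaf 3511)) (.node (.leaf 1029) (.leaf 3934)))) (.node (.node (.node (.leaf 955) (.leaf 3138)) (.node (.leaf 529) (.leaf 4034))) (.node (.node (.leaf 301) (.leaf 3890)) (.node (.leaf 1183) (.leaf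 3398))))) (.node (.node (.node (.node (.leaf 621) (.leaf 974)) (.node (.leaf 1747) (.leaf 2219))) (.node (.node (.leaf 448) (.leaf 1424)) (.node (.leaf 706) (.leaf 2622)))) (.node (.node (.node (.leaf 155) (.leaf 3266)) (.node (.leaf 593) (.leaf 2042))) (.node (.node (.leaf 352) (.leaf 1585)) (.node (.leaf 1413) (.leaf 3318))))))) (.node (.node (.node (.node (.node (.node (.leaf 173) (.leaf 3353)) (.node (.leaf 2425) (.leaf 4000))) (.node (.node (.leaf 1436) (.leaf 1233)) (.node (.leaf 3036) (.leaf 2355)))) (.node (.node (.node (.leaf 878) (.leaf 3106)) (.node (.leaf 2442) (.leaf 4065))) (.node (.node (.leaf 288) (.leaf 1488)) (.node (.leaf 752) (.leaf 2937))))) (.node (.node (.node (.node (.leaf 535) (.leaf 1003)) (.node (.leaf 1804) (.leaf 3937))) (.node (.node (.leaf 313) (.leaf 3490)) (.node (.leaf 762) (.leaf 4019)))) (.node (.node (.node (.leaf 1168) (.leaf 1165)) (.node (.leaf 2814) (.leaf 3821))) (.node (.node (.leaf 338) (.leaf 2350)) (.node (.leaf 3483) (.leaf 3188)))))) (.node (.node (.node (.node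 (.node (.leaf 35) (.leaf 1083)) (.node (.leaf 2496) (.leaf 3895))) (.node (.node (.leaf 1580) (.leaf 3372)) (.node (.leaf 661) (.leaf 3914)))) (.node (.node (.node (.leaf 1030) (.leaf 1073)) (.node (.leaf 545) (.leaf 1916))) (.node (.node (.leaf 2109) (.leaf 3916)) (.node (.leaf 3436) (.leaf 3044))))) (.node (.node (.node (.node (.leaf 76) (.leaf 3700)) (.node (.leaf 2619) (.leaf 1801))) (.node (.node (.leaf 264) (.leaf 3817)) (.node (.leaf 2987) (.leaf 3798)))) (.node (.node (.node (.leaf 778) (.leaf 1284)) (.node (.leaf 926) (.leaf 2091))) (.node (.node (.leaf 2323) (.leaf 2312)) (.node (.leaf 2995) (.leaf 3768))))))))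

def twoNext85 : Janko.Tree (ℕ) :=
  (.node (.node (.node (.node (.node (.node (.node (.leaf 71) (.leaf 864)) (.node (.leaf 2383) (.leaf 3943))) (.node (.node (.leaf 180) (.leaf 2890)) (.node (.leaf 829) (.leaf 3848)))) (.node (.node (.node (.leaf 795) (.leaf 1032)) (.node (.leaf 501) (.leaf 3999))) (.node (.node (.leaf 1629) (.leaf 1473)) (.node (.leaf 3331) (.leaf 2869))))) (.node (.node (.node (.node (.leaf 454) (.leaf 1267)) (.node (.leaf 1712) (.leaf 3858))) (.node (.node (.leaf 1654) (.leaf 3273)) (.node (.leaf 3188) (.leaf 3821)))) (.node (.node (.node (.leaf 1100) (.leaf 1103)) (.node (.leaf 1904) (.leaf 2004))) (.node (.node (.leaf 323) (.leaf 3868)) (.node (.leaf 3398) (.leaf 3333)))))) (.node (.node (.node (.node (.node (.leaf 275) (.leaf 3465)) (.node (.leaf 2459) (.leaf 1662))) (.node (.node (.leaf 1507) (.leaf 3618)) (.node (.leaf 3088) (.leaf 2606)))) (.node (.node (.node (.leaf 956) (.leaf 3498)) (.node (.leaf 2730) (.leaf 1881))) (.node (.node (.leaf 2051) (.leaf 3891)) (.node (.leaf 3002) (.leaf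 3387))))) (.node (.node (.node (.node (.leaf 622) (.leaf 3408)) (.node (.leaf 470) (.leaf 2066))) (.node (.node (.leaf 1787) (.leaf 2970)) (.node (.leaf 3177) (.leaf 3990)))) (.node (.node (.node (.leaf 871) (.leaf 3776)) (.node (.leaf 2880) (.leaf 4042))) (.node (.node (.leaf 1637) (.leaf 2451)) (.node (.leaf 826) (.leaf 3775))))))) (.node (.node (.node (.node (.node (.node (.leaf 174) (.leaf 3004)) (.node (.leaf 564) (.leaf 1954))) (.node (.node (.leaf 192) (.leaf 2982)) (.node (.leaf 1235) (.leaf 3951)))) (.node (.node (.node (.leaf 879) (.leaf 3433)) (.node (.leaf 2708) (.leaf 1852))) (.node (.node (.leaf 1479) (.leaf 3861)) (.node (.leaf 3196) (.leaf 3312))))) (.node (.node (.node (.node (.leaf 536) (.leaf 3673)) (.node (.leaf 455) (.leaf 2211))) (.node (.node (.leaf 240) (.leaf 3807)) (.node (.leaf 3215) (.leaf 3887)))) (.node (.node (.node (.leaf 1060) (.leaf 3007)) (.node (.leaf 581) (.leaf 2565))) (.node (.node (.leaf 2222) (.leaf 1564)) (.node (.leaf 811) (.leaf 3402)))))) (.node (.node (.node (.node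 (.node (.leaf 369) (.leaf 2974)) (.node (.leaf 2039) (.leaf 3991))) (.node (.node (.leaf 1581) (.leaf 3024)) (.node (.leaf 3145) (.leaf 2296)))) (.node (.node (.node (.leaf 118) (.leaf 2808)) (.node (.leaf 2218) (.leaf 2000))) (.node (.node (.leaf 2110) (.leaf 2597)) (.node (.leaf 3064) (.leaf 3446))))) (.node (.node (.node (.node (.leaf 707) (.leaf 993)) (.node (.leaf 485) (.leaf 4008))) (.node (.node (.leaf 1858) (.leaf 3818)) (.node (.leaf 3166) (.leaf 3373)))) (.node (.node (.node (.leaf 1301) (.leaf 3416)) (.node (.leaf 1149) (.leaf 2153))) (.node (.node (.leaf 367) (.leaf 2412)) (.node (.leaf 2896) (.leaf 3597))))))))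

def twoNext86 : Janko.Tree (ℕ) :=
  (.node (.node (.node (.node (.node (.node (.node (.leaf 72) (.leaf 1411)) (.node (.leaf 446) (.leaf 2341))) (.node (.node (.leaf 1051) (.leaf 3197)) (.node (.leaf 795) (.leaf 2217)))) (.node (.node (.node (.leaf 155) (.leaf 3683)) (.node (.leaf 1989) (.leaf 2759))) (.node (.node (.leaf 1645) (.leaf 1706)) (.node (.leaf 736) (.leaf 2888))))) (.node (.node (.node (.node (.leaf 45) (.leaf 928)) (.node (.leaf 2191) (.leaf 1720))) (.node (.node (.leaf 1655) (.leaf 1438)) (.node (.leaf 3040) (.leaf 2378)))) (.node (.node (.node (.leaf 129) (.leaf 2937)) (.node (.leaf 560) (.leaf 2307))) (.node (.node (.leaf 2083) (.leaf 1542)) (.node (.leaf 800) (.leaf 3097)))))) (.node (.node (.node (.node (.node (.leaf 25) (.leaf 3083)) (.node (.leaf 2460) (.leaf 4011))) (.node (.node (.leaf 204) (.leaf 2979)) (.node (.leaf 3089) (.leaf 2218)))) (.node (.node (.node (.leaf 957) (.leaf 3206)) (.node (.leaf 1783) (.leaf 2299))) (.node (.node (.leaf 1841) (.leaf 3892)) (.node (.leaf 766) (.leaf 2949)))))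 (.node (.node (.node (.node (.leaf 623) (.leaf 2903)) (.node (.leaf 2520) (.leaf 3898))) (.node (.node (.leaf 251) (.leaf 3584)) (.node (.leaf 715) (.leaf 2791)))) (.node (.node (.node (.leaf 1105) (.leaf 1306)) (.node (.leaf 2881) (.leaf 2602))) (.node (.node (.leaf 1665) (.leaf 1657)) (.node (.leaf 3426) (.leaf 3432))))))) (.node (.node (.node (.node (.node (.node (.leaf 175) (.leaf 1117)) (.node (.leaf 2426) (.leaf 2029))) (.node (.node (.leaf 1437) (.leaf 3359)) (.node (.leaf 3037) (.leaf 4039)))) (.node (.node (.node (.leaf 96) (.leaf 1029)) (.node (.leaf 1582) (.leaf 3959))) (.node (.node (.leaf 1994) (.leaf 3862)) (.node (.leaf 3291) (.leaf 2902))))) (.node (.node (.node (.node (.leaf 55) (.leaf 952)) (.node (.leaf 1935) (.leaf 1750))) (.node (.node (.leaf 332) (.leaf 1380)) (.node (.leaf 691) (.leaf 2483)))) (.node (.node (.node (.leaf 1169) (.leaf 3132)) (.node (.leaf 2815) (.leaf 2000))) (.node (.node (.leaf 2134) (.leaf 2016)) (.node (.leaf 3335) (.leaf 3276)))))) (.node (.node (.node (.node (.node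 (.leaf 370) (.leaf 2928)) (.node (.leaf 425) (.leaf 2393))) (.node (.node (.leaf 1531) (.leaf 1406)) (.node (.leaf 3031) (.leaf 2493)))) (.node (.node (.node (.leaf 158) (.leaf 3750)) (.node (.leaf 2619) (.leaf 4059))) (.node (.node (.leaf 2111) (.leaf 1519)) (.node (.leaf 3437) (.leaf 3182))))) (.node (.node (.node (.node (.leaf 708) (.leaf 3472)) (.node (.leaf 1952) (.leaf 2702))) (.node (.node (.leaf 1859) (.leaf 2538)) (.node (.leaf 722) (.leaf 3705)))) (.node (.node (.node (.leaf 1194) (.leaf 1188)) (.node (.leaf 2943) (.leaf 2220))) (.node (.node (.leaf 1505) (.leaf 2644)) (.node (.leaf 3458) (.leaf 3778))))))))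

def twoNext87 : Janko.Tree (ℕ) :=
  (.node (.node (.node (.node (.node (.node (.node (.leaf 73) (.leaf 3557)) (.node (.leaf 576) (.leaf 2280))) (.node (.node (.leaf 1372) (.leaf 2812)) (.node (.leaf 789) (.leaf 3968)))) (.node (.node (.node (.leaf 796) (.leaf 110)) (.node (.leaf 2677) (.leaf 413))) (.node (.node (.leaf 32) (.leaf 3835)) (.node (.leaf 3069) (.leaf 1315))))) (.node (.node (.node (.node (.leaf 455) (.leaf 1305)) (.node (.leaf 2528) (.leaf 531))) (.node (.node (.leaf 1656) (.leaf 3640)) (.node (.leaf 3189) (.leaf 2163)))) (.node (.node (.node (.leaf 1101) (.leaf 609)) (.node (.leaf 2780) (.leaf 1537))) (.node (.node (.leaf 2177) (.leaf 1938)) (.node (.leaf 3413) (.leaf 3695)))))) (.node (.node (.node (.node (.node (.leaf 276) (.leaf 2905)) (.node (.leaf 2067) (.leaf 4012))) (.node (.node (.leaf 1508) (.leaf 1169)) (.node (.leaf 3090) (.leaf 3994)))) (.node (.node (.node (.leaf 958) (.leaf 628)) (.node (.leaf 1705) (.leaf 1620))) (.node (.node (.leaf 2052) (.leaf 2122)) (.node (.leaf 158) (.leaf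 3072))))) (.node (.node (.node (.node (.leaf 624) (.leaf 3219)) (.node (.leaf 2380) (.leaf 4020))) (.node (.node (.leaf 1788) (.leaf 3488)) (.node (.leaf 1243) (.leaf 2758)))) (.node (.node (.node (.leaf 1235) (.leaf 3724)) (.node (.leaf 2882) (.leaf 3993))) (.node (.node (.leaf 2027) (.leaf 221)) (.node (.leaf 3513) (.leaf 3566))))))) (.node (.node (.node (.node (.node (.node (.leaf 176) (.leaf 3582)) (.node (.leaf 2427) (.leaf 2114))) (.node (.node (.leaf 1438) (.leaf 1391)) (.node (.leaf 3038) (.leaf 1714)))) (.node (.node (.node (.leaf 880) (.leaf 3250)) (.node (.leaf 1885) (.leaf 1800))) (.node (.node (.leaf 1995) (.leaf 1915)) (.node (.leaf 3112) (.leaf 3625))))) (.node (.node (.node (.node (.leaf 537) (.leaf 1070)) (.node (.leaf 1460) (.leaf 447))) (.node (.node (.leaf 1719) (.leaf 908)) (.node (.leaf 832) (.leaf 2755)))) (.node (.node (.node (.leaf 1170) (.leaf 1299)) (.node (.leaf 844) (.leaf 2321))) (.node (.node (.leaf 2223) (.leaf 1647)) (.node (.leaf 696) (.leaf 3445)))))) (.node (.node (.node (.node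 (.node (.leaf 371) (.leaf 922)) (.node (.leaf 2497) (.leaf 266))) (.node (.node (.leaf 533) (.leaf 817)) (.node (.leaf 627) (.leaf 4067)))) (.node (.node (.node (.leaf 1031) (.leaf 3274)) (.node (.leaf 2757) (.leaf 2324))) (.node (.node (.leaf 1711) (.leaf 2459)) (.node (.leaf 3340) (.leaf 3791))))) (.node (.node (.node (.node (.leaf 709) (.leaf 3391)) (.node (.leaf 2654) (.leaf 1595))) (.node (.node (.leaf 405) (.leaf 394)) (.node (.leaf 3289) (.leaf 646)))) (.node (.node (.node (.leaf 1302) (.leaf 804)) (.node (.leaf 894) (.leaf 2794))) (.node (.node (.leaf 2214) (.leaf 1841)) (.node (.leaf 3336) (.leaf 3786))))))))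

def twoNext88 : Janko.Tree (ℕ) :=
  (.node (.node (.node (.node (.node (.node (.node (.leaf 74) (.leaf 2811)) (.node (.leaf 2301) (.leaf 1623))) (.node (.node (.leaf 1373) (.leaf 3213)) (.node (.leaf 859) (.leaf 2736)))) (.node (.node (.node (.leaf 174) (.leaf 1015)) (.node (.leaf 1576) (.leaf 1825))) (.node (.node (.leaf 1929) (.leaf 2071)) (.node (.leaf 1369) (.leaf 2965))))) (.node (.node (.node (.node (.leaf 456) (.leaf 3656)) (.node (.leaf 2529) (.leaf 1757))) (.node (.node (.leaf 226) (.leaf 3720)) (.node (.leaf 692) (.leaf 3999)))) (.node (.node (.node (.leaf 1038) (.leaf 3661)) (.node (.leaf 2781) (.leaf 2507))) (.node (.node (.leaf 2178) (.leaf 2009)) (.node (.leaf 3262) (.leaf 3119)))))) (.node (.node (.node (.node (.node (.leaf 277) (.leaf 895)) (.node (.leaf 1752) (.leaf 1779))) (.node (.node (.leaf 220) (.leaf 3041)) (.node (.leaf 648) (.leaf 2223)))) (.node (.node (.node (.leaf 886) (.leaf 3120)) (.node (.leaf 1606) (.leaf 2021))) (.node (.node (.leaf 311) (.leaf 1504)) (.node (.leaf 964) (.leaf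 3203))))) (.node (.node (.node (.node (.leaf 66) (.leaf 3681)) (.node (.leaf 2553) (.leaf 1882))) (.node (.node (.leaf 566) (.leaf 3589)) (.node (.leaf 3252) (.leaf 3829)))) (.node (.node (.node (.leaf 1236) (.leaf 1163)) (.node (.leaf 2883) (.leaf 3970))) (.node (.node (.leaf 1671) (.leaf 3938)) (.node (.leaf 1297) (.leaf 3789))))))) (.node (.node (.node (.node (.node (.node (.leaf 16) (.leaf 1385)) (.node (.leaf 1500) (.leaf 1640))) (.node (.node (.leaf 726) (.leaf 3377)) (.node (.leaf 635) (.leaf 2170)))) (.node (.node (.node (.leaf 587) (.leaf 1031)) (.node (.leaf 1894) (.leaf 2662))) (.node (.node (.leaf 1996) (.leaf 2756)) (.node (.leaf 3333) (.leaf 2941))))) (.node (.node (.node (.node (.leaf 538) (.leaf 3352)) (.node (.leaf 2574) (.leaf 1934))) (.node (.node (.leaf 1720) (.leaf 1381)) (.node (.leaf 3216) (.leaf 2744)))) (.node (.node (.node (.leaf 144) (.leaf 1131)) (.node (.leaf 908) (.leaf 2497))) (.node (.node (.leaf 2132) (.leaf 2253)) (.node (.leaf 3329) (.leaf 3385)))))) (.node (.node (.node (.node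 (.node (.leaf 372) (.leaf 913)) (.node (.leaf 1570) (.leaf 2315))) (.node (.node (.leaf 216) (.leaf 3450)) (.node (.leaf 1149) (.leaf 4056)))) (.node (.node (.node (.leaf 1032) (.leaf 1200)) (.node (.leaf 2758) (.leaf 2671))) (.node (.node (.leaf 342) (.leaf 3917)) (.node (.leaf 1311) (.leaf 3783))))) (.node (.node (.node (.node (.leaf 710) (.leaf 994)) (.node (.leaf 2203) (.leaf 4053))) (.node (.node (.leaf 1860) (.leaf 1457)) (.node (.leaf 1278) (.leaf 3560)))) (.node (.node (.node (.leaf 168) (.leaf 3017)) (.node (.leaf 604) (.leaf 2512))) (.node (.node (.leaf 2146) (.leaf 2522)) (.node (.leaf 3539) (.leaf 4093))))))))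

def twoNext89 : Janko.Tree (ℕ) :=
  (.node (.node (.node (.node (.node (.node (.node (.leaf 6) (.leaf 1232)) (.node (.leaf 380) (.leaf 3986))) (.node (.node (.leaf 1374) (.leaf 1214)) (.node (.leaf 1420) (.leaf 4050)))) (.node (.node (.node (.leaf 86) (.leaf 3563)) (.node (.leaf 2625) (.leaf 2102))) (.node (.node (.leaf 1930) (.leaf 2121)) (.node (.leaf 3332) (.leaf 4092))))) (.node (.node (.node (.node (.leaf 457) (.leaf 1346)) (.node (.leaf 1481) (.leaf 2657))) (.node (.node (.leaf 1657) (.leaf 2972)) (.node (.leaf 676) (.leaf 2600)))) (.node (.node (.node (.leaf 1102) (.leaf 1106)) (.node (.leaf 2734) (.leaf 2323))) (.node (.node (.leaf 2179) (.leaf 1543)) (.node (.leaf 978) (.leaf 3797)))))) (.node (.node (.node (.node (.node (.leaf 278) (.leaf 3609)) (.node (.leaf 411) (.leaf 2382))) (.node (.node (.leaf 1509) (.leaf 3084)) (.node (.leaf 3091) (.leaf 2513)))) (.node (.node (.node (.leaf 108) (.leaf 1304)) (.node (.leaf 529) (.leaf 3855))) (.node (.node (.leaf 301) (.leaf 3838)) (.node (.leaf 3090) (.leaf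 3356))))) (.node (.node (.node (.node (.leaf 186) (.leaf 1158)) (.node (.leaf 2446) (.leaf 1779))) (.node (.node (.leaf 1789) (.leaf 1424)) (.node (.leaf 1422) (.leaf 4086)))) (.node (.node (.node (.leaf 1237) (.leaf 3610)) (.node (.leaf 2884) (.leaf 3842))) (.node (.node (.leaf 352) (.leaf 2157)) (.node (.leaf 3340) (.leaf 3675))))))) (.node (.node (.node (.node (.node (.node (.leaf 177) (.leaf 3350)) (.node (.leaf 394) (.leaf 2768))) (.node (.node (.leaf 937) (.leaf 3696)) (.node (.leaf 932) (.leaf 3983)))) (.node (.node (.node (.leaf 881) (.leaf 3690)) (.node (.leaf 1931) (.leaf 4004))) (.node (.node (.leaf 1568) (.leaf 2089)) (.node (.leaf 1139) (.leaf 2907))))) (.node (.node (.node (.node (.leaf 539) (.leaf 3674)) (.node (.leaf 2575) (.leaf 1751))) (.node (.node (.leaf 1721) (.leaf 3339)) (.node (.leaf 692) (.leaf 2651)))) (.node (.node (.node (.leaf 933) (.leaf 2977)) (.node (.leaf 2816) (.leaf 2001))) (.node (.node (.leaf 2224) (.leaf 1968)) (.node (.leaf 3174) (.leaf 3411)))))) (.node (.node (.node (.node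 (.node (.leaf 373) (.leaf 3633)) (.node (.leaf 1476) (.leaf 1688))) (.node (.node (.leaf 1582) (.leaf 3463)) (.node (.leaf 661) (.leaf 2298)))) (.node (.node (.node (.leaf 1033) (.leaf 1073)) (.node (.leaf 1849) (.leaf 3957))) (.node (.node (.leaf 313) (.leaf 1958)) (.node (.leaf 782) (.leaf 3713))))) (.node (.node (.node (.node (.leaf 76) (.leaf 3537)) (.node (.leaf 486) (.leaf 1801))) (.node (.node (.leaf 264) (.leaf 2719)) (.node (.leaf 3290) (.leaf 2830)))) (.node (.node (.node (.leaf 998) (.leaf 1189)) (.node (.leaf 2944) (.leaf 2091))) (.node (.node (.leaf 2324) (.leaf 1605)) (.node (.leaf 2951) (.leaf 3798))))))))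

def twoNext90 : Janko.Tree (ℕ) :=
  (.node (.node (.node (.node (.node (.node (.node (.leaf 75) (.leaf 864)) (.node (.leaf 512) (.leaf 2710))) (.node (.node (.leaf 1375) (.leaf 1345)) (.node (.leaf 619) (.leaf 2167)))) (.node (.node (.node (.leaf 797) (.leaf 1061)) (.node (.leaf 1482) (.leaf 1867))) (.node (.node (.leaf 1931) (.leaf 2125)) (.node (.leaf 1277) (.leaf 2869))))) (.node (.node (.node (.node (.leaf 293) (.leaf 1201)) (.node (.leaf 2502) (.leaf 2053))) (.node (.node (.leaf 1498) (.leaf 3094)) (.node (.leaf 2830) (.leaf 2367)))) (.node (.node (.node (.leaf 706) (.leaf 3162)) (.node (.leaf 2376) (.leaf 1963))) (.node (.node (.leaf 2180) (.leaf 3870)) (.node (.leaf 3464) (.leaf 3619)))))) (.node (.node (.node (.node (.node (.leaf 279) (.leaf 949)) (.node (.leaf 2449) (.leaf 1687))) (.node (.node (.leaf 1510) (.leaf 3134)) (.node (.leaf 3092) (.leaf 3981)))) (.node (.node (.node (.leaf 959) (.leaf 1052)) (.node (.leaf 2541) (.leaf 3852))) (.node (.node (.leaf 353) (.leaf 3893)) (.node (.leaf 850) (.leaf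 2951))))) (.node (.node (.node (.node (.leaf 625) (.leaf 974)) (.node (.leaf 470) (.leaf 2078))) (.node (.node (.leaf 1790) (.leaf 3812)) (.node (.leaf 3253) (.leaf 2627)))) (.node (.node (.node (.leaf 1238) (.leaf 3085)) (.node (.leaf 593) (.leaf 2797))) (.node (.node (.leaf 1723) (.leaf 1585)) (.node (.leaf 3293) (.leaf 3324))))))) (.node (.node (.node (.node (.node (.node (.leaf 178) (.leaf 880)) (.node (.leaf 2428) (.leaf 1886))) (.node (.node (.leaf 1227) (.leaf 1233)) (.node (.leaf 671) (.leaf 2685)))) (.node (.node (.node (.leaf 798) (.leaf 3114)) (.node (.leaf 514) (.leaf 1852))) (.node (.node (.leaf 288) (.leaf 1488)) (.node (.leaf 752) (.leaf 3169))))) (.node (.node (.node (.node (.leaf 540) (.leaf 3394)) (.node (.leaf 455) (.leaf 1912))) (.node (.node (.leaf 1722) (.leaf 3624)) (.node (.leaf 3084) (.leaf 2489)))) (.node (.node (.node (.leaf 1150) (.leaf 1149)) (.node (.leaf 581) (.leaf 2254))) (.node (.node (.leaf 338) (.leaf 2730)) (.node (.leaf 811) (.leaf 4095)))))) (.node (.node (.node (.node (.node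 (.leaf 35) (.leaf 1210)) (.node (.leaf 1806) (.leaf 2292))) (.node (.node (.leaf 577) (.leaf 3785)) (.node (.leaf 1267) (.leaf 3867)))) (.node (.node (.node (.leaf 1034) (.leaf 3751)) (.node (.leaf 1620) (.leaf 1917))) (.node (.node (.leaf 1464) (.leaf 2289)) (.node (.leaf 3438) (.leaf 3423))))) (.node (.node (.node (.node (.leaf 711) (.leaf 3679)) (.node (.leaf 2639) (.leaf 1927))) (.node (.node (.leaf 1861) (.leaf 2097)) (.node (.leaf 1368) (.leaf 3110)))) (.node (.node (.node (.leaf 685) (.leaf 1399)) (.node (.leaf 632) (.leaf 2402))) (.node (.node (.leaf 2260) (.leaf 2478)) (.node (.leaf 1335) (.leaf 3804))))))))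

def twoNext91 : Janko.Tree (ℕ) :=
  (.node (.node (.node (.node (.node (.node (.node (.leaf 76) (.leaf 3558)) (.node (.leaf 1598) (.leaf 2121))) (.node (.node (.leaf 869) (.leaf 2878)) (.node (.leaf 2987) (.leaf 1789)))) (.node (.node (.node (.leaf 675) (.leaf 3639)) (.node (.leaf 2437) (.leaf 2787))) (.node (.node (.leaf 1932) (.leaf 3836)) (.node (.leaf 2832) (.leaf 3776))))) (.node (.node (.node (.node (.leaf 458) (.leaf 3657)) (.node (.leaf 42) (.leaf 573))) (.node (.node (.leaf 1658) (.leaf 2815)) (.node (.leaf 1265) (.leaf 2558)))) (.node (.node (.node (.leaf 1103) (.leaf 3739)) (.node (.leaf 1986) (.leaf 1679))) (.node (.node (.leaf 2181) (.leaf 1825)) (.node (.leaf 779) (.leaf 3405)))))) (.node (.node (.node (.node (.node (.leaf 280) (.leaf 3318)) (.node (.leaf 2461) (.leaf 3943))) (.node (.node (.leaf 1511) (.leaf 3789)) (.node (.leaf 3093) (.leaf 2421)))) (.node (.node (.node (.leaf 960) (.leaf 3647)) (.node (.leaf 2724) (.leaf 1804))) (.node (.node (.leaf 367) (.leaf 2712)) (.node (.leaf 3411) (.leaf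 3440))))) (.node (.node (.node (.node (.leaf 626) (.leaf 2860)) (.node (.leaf 2620) (.leaf 3868))) (.node (.node (.leaf 1791) (.leaf 3670)) (.node (.leaf 128) (.leaf 3888)))) (.node (.node (.node (.leaf 1239) (.leaf 3357)) (.node (.leaf 2885) (.leaf 3850))) (.node (.node (.leaf 263) (.leaf 2559)) (.node (.leaf 656) (.leaf 3157))))))) (.node (.node (.node (.node (.node (.node (.leaf 179) (.leaf 3220)) (.node (.leaf 1836) (.leaf 3979))) (.node (.node (.leaf 1420) (.leaf 3094)) (.node (.leaf 3039) (.leaf 3915)))) (.node (.node (.node (.leaf 882) (.leaf 680)) (.node (.leaf 2709) (.leaf 2762))) (.node (.node (.leaf 1997) (.leaf 1933)) (.node (.leaf 2837) (.leaf 1187))))) (.node (.node (.node (.node (.leaf 541) (.leaf 3117)) (.node (.leaf 2222) (.leaf 4034))) (.node (.node (.leaf 1723) (.leaf 3301)) (.node (.leaf 829) (.leaf 2574)))) (.node (.node (.node (.leaf 1171) (.leaf 3629)) (.node (.leaf 2817) (.leaf 2582))) (.node (.node (.leaf 2225) (.leaf 2332)) (.node (.leaf 3218) (.leaf 3753)))))) (.node (.node (.node (.node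 (.node (.leaf 374) (.leaf 3634)) (.node (.leaf 1538) (.leaf 1573))) (.node (.node (.leaf 1583) (.leaf 631)) (.node (.leaf 851) (.leaf 2484)))) (.node (.node (.node (.leaf 1035) (.leaf 3534)) (.node (.leaf 2692) (.leaf 2299))) (.node (.node (.leaf 2112) (.leaf 1546)) (.node (.leaf 1099) (.leaf 3401))))) (.node (.node (.node (.node (.leaf 654) (.leaf 1336)) (.node (.leaf 1653) (.leaf 3837))) (.node (.node (.leaf 1862) (.leaf 2728)) (.node (.leaf 3275) (.leaf 1278)))) (.node (.node (.node (.leaf 1303) (.leaf 793)) (.node (.leaf 2945) (.leaf 3910))) (.node (.node (.leaf 2325) (.leaf 2278)) (.node (.leaf 3371) (.leaf 584))))))))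

def twoNext92 : Janko.Tree (ℕ) :=
  (.node (.node (.node (.node (.node (.node (.node (.leaf 77) (.leaf 2838)) (.node (.leaf 1875) (.leaf 2716))) (.node (.node (.leaf 181) (.leaf 3063)) (.node (.leaf 1404) (.leaf 3855)))) (.node (.node (.node (.leaf 193) (.leaf 3708)) (.node (.leaf 2555) (.leaf 2444))) (.node (.node (.leaf 276) (.leaf 3837)) (.node (.leaf 973) (.leaf 3570))))) (.node (.node (.node (.node (.leaf 46) (.leaf 3658)) (.node (.leaf 441) (.leaf 1722))) (.node (.node (.leaf 386) (.leaf 3210)) (.node (.leaf 1107) (.leaf 2376)))) (.node (.node (.node (.leaf 657) (.leaf 3067)) (.node (.leaf 1716) (.leaf 2730))) (.node (.node (.leaf 324) (.leaf 2124)) (.node (.leaf 795) (.leaf 3714)))))) (.node (.node (.node (.node (.node (.leaf 26) (.leaf 3559)) (.node (.leaf 1897) (.leaf 1987))) (.node (.node (.leaf 205) (.leaf 1263)) (.node (.leaf 3094) (.leaf 3877)))) (.node (.node (.node (.leaf 961) (.leaf 3567)) (.node (.leaf 2084) (.leaf 2097))) (.node (.node (.leaf 578) (.leaf 1505)) (.node (.leaf 1048) (.leaf 3662)))))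 (.node (.node (.node (.node (.leaf 627) (.leaf 3260)) (.node (.leaf 2621) (.leaf 3860))) (.node (.node (.leaf 1792) (.leaf 3515)) (.node (.leaf 707) (.leaf 4073)))) (.node (.node (.node (.leaf 156) (.leaf 1450)) (.node (.leaf 896) (.leaf 3992))) (.node (.node (.leaf 2275) (.leaf 2143)) (.node (.leaf 1405) (.leaf 3814))))))) (.node (.node (.node (.node (.node (.node (.leaf 180) (.leaf 3583)) (.node (.leaf 2429) (.leaf 2367))) (.node (.node (.leaf 1105) (.leaf 1352)) (.node (.leaf 3040) (.leaf 2706)))) (.node (.node (.node (.leaf 854) (.leaf 3391)) (.node (.leaf 2505) (.leaf 4066))) (.node (.node (.leaf 1998) (.leaf 1489)) (.node (.leaf 753) (.leaf 3189))))) (.node (.node (.node (.node (.leaf 56) (.leaf 954)) (.node (.leaf 1557) (.leaf 2738))) (.node (.node (.leaf 241) (.leaf 3492)) (.node (.leaf 3217) (.leaf 3972)))) (.node (.node (.node (.leaf 716) (.leaf 3197)) (.node (.leaf 864) (.leaf 2645))) (.node (.node (.leaf 2226) (.leaf 2250)) (.node (.leaf 3328) (.leaf 3380)))))) (.node (.node (.node (.node (.node (.leaf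 375) (.leaf 1019)) (.node (.leaf 1694) (.leaf 1932))) (.node (.node (.leaf 378) (.leaf 3319)) (.node (.leaf 1167) (.leaf 2802)))) (.node (.node (.node (.leaf 119) (.leaf 3566)) (.node (.leaf 546) (.leaf 1946))) (.node (.node (.leaf 2113) (.leaf 1520)) (.node (.leaf 3439) (.leaf 3028))))) (.node (.node (.node (.node (.leaf 712) (.leaf 3692)) (.node (.leaf 528) (.leaf 2679))) (.node (.node (.leaf 1863) (.leaf 2402)) (.node (.leaf 984) (.leaf 3172)))) (.node (.node (.node (.leaf 1304) (.leaf 3373)) (.node (.leaf 1058) (.leaf 3840))) (.node (.node (.leaf 2326) (.leaf 2583)) (.node (.leaf 845) (.leaf 3695))))))))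

def twoNext93 : Janko.Tree (ℕ) :=
  (.node (.node (.node (.node (.node (.node (.node (.leaf 78) (.leaf 3559)) (.node (.leaf 381) (.leaf 3987))) (.node (.node (.leaf 1028) (.leaf 1215)) (.node (.leaf 2988) (.leaf 2132)))) (.node (.node (.node (.leaf 798) (.leaf 2809)) (.node (.leaf 1935) (.leaf 2373))) (.node (.node (.leaf 1891) (.leaf 1474)) (.node (.leaf 737) (.leaf 2871))))) (.node (.node (.node (.node (.leaf 459) (.leaf 3579)) (.node (.leaf 2168) (.leaf 3857))) (.node (.node (.leaf 226) (.leaf 1339)) (.node (.leaf 966) (.leaf 2415)))) (.node (.node (.node (.leaf 1104) (.leaf 3615)) (.node (.leaf 2082) (.leaf 1964))) (.node (.node (.leaf 429) (.leaf 1996)) (.node (.leaf 1437) (.leaf 3189)))))) (.node (.node (.node (.node (.node (.leaf 281) (.leaf 895)) (.node (.leaf 1936) (.leaf 1663))) (.node (.node (.leaf 1512) (.leaf 3620)) (.node (.leaf 648) (.leaf 2798)))) (.node (.node (.node (.leaf 962) (.leaf 3737)) (.node (.leaf 2731) (.leaf 3878))) (.node (.node (.leaf 2053) (.leaf 2763)) (.node (.leaf 767) (.leaf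 3540))))) (.node (.node (.node (.node (.leaf 66) (.leaf 975)) (.node (.leaf 2528) (.leaf 2183))) (.node (.node (.leaf 252) (.leaf 3092)) (.node (.leaf 3254) (.leaf 3890)))) (.node (.node (.node (.leaf 1240) (.leaf 1163)) (.node (.leaf 1132) (.leaf 2043))) (.node (.node (.leaf 353) (.leaf 1586)) (.node (.leaf 3407) (.leaf 3716))))))) (.node (.node (.node (.node (.node (.node (.leaf 16) (.leaf 3552)) (.node (.leaf 522) (.leaf 2458))) (.node (.node (.leaf 971) (.leaf 3173)) (.node (.leaf 3041) (.leaf 3942)))) (.node (.node (.node (.leaf 883) (.leaf 1031)) (.node (.leaf 2559) (.leaf 3895))) (.node (.node (.leaf 1999) (.leaf 3863)) (.node (.leaf 3377) (.leaf 3383))))) (.node (.node (.node (.node (.leaf 542) (.leaf 2893)) (.node (.leaf 456) (.leaf 4035))) (.node (.node (.leaf 1684) (.leaf 1381)) (.node (.leaf 3218) (.leaf 2494)))) (.node (.node (.node (.leaf 144) (.leaf 3057)) (.node (.leaf 2818) (.leaf 2495))) (.node (.node (.leaf 339) (.leaf 1786)) (.node (.leaf 3484) (.leaf 4095)))))) (.node (.node (.node (.node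 (.node (.leaf 376) (.leaf 3635)) (.node (.leaf 2242) (.leaf 1893))) (.node (.node (.leaf 216) (.leaf 1306)) (.node (.leaf 952) (.leaf 2300)))) (.node (.node (.node (.leaf 1036) (.leaf 2814)) (.node (.leaf 1737) (.leaf 2370))) (.node (.node (.leaf 2114) (.leaf 1799)) (.node (.leaf 3440) (.leaf 3160))))) (.node (.node (.node (.node (.leaf 713) (.leaf 3591)) (.node (.leaf 2655) (.leaf 2176))) (.node (.node (.leaf 1864) (.leaf 1457)) (.node (.leaf 723) (.leaf 2832)))) (.node (.node (.node (.leaf 168) (.leaf 1204)) (.node (.leaf 604) (.leaf 2092))) (.node (.node (.leaf 368) (.leaf 1764)) (.node (.leaf 1141) (.leaf 3771))))))))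

def twoNext94 : Janko.Tree (ℕ) :=
  (.node (.node (.node (.node (.node (.node (.node (.leaf 79) (.leaf 948)) (.node (.leaf 2384) (.leaf 1623))) (.node (.node (.leaf 1049) (.leaf 1276)) (.node (.leaf 2989) (.leaf 2597)))) (.node (.node (.node (.leaf 86) (.leaf 1015)) (.node (.leaf 1894) (.leaf 2792))) (.node (.node (.leaf 1933) (.leaf 1523)) (.node (.leaf 1275) (.leaf 3552))))) (.node (.node (.node (.node (.leaf 236) (.leaf 1388)) (.node (.leaf 2526) (.leaf 1733))) (.node (.node (.leaf 1659) (.leaf 3051)) (.node (.leaf 3158) (.leaf 2785)))) (.node (.node (.node (.leaf 640) (.leaf 3758)) (.node (.leaf 2606) (.leaf 2249))) (.node (.node (.leaf 357) (.leaf 3934)) (.node (.leaf 836) (.leaf 4094)))))) (.node (.node (.node (.node (.node (.leaf 282) (.leaf 3410)) (.node (.leaf 2462) (.leaf 3982))) (.node (.node (.leaf 1513) (.leaf 3729)) (.node (.leaf 3095) (.leaf 2225)))) (.node (.node (.node (.leaf 963) (.leaf 3738)) (.node (.leaf 2247) (.leaf 2419))) (.node (.node (.leaf 2004) (.leaf 2261)) (.node (.leaf 909) (.leaf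 3334))))) (.node (.node (.node (.node (.leaf 628) (.leaf 2876)) (.node (.leaf 2622) (.leaf 2056))) (.node (.node (.leaf 1533) (.leaf 3814)) (.node (.leaf 731) (.leaf 4034)))) (.node (.node (.node (.leaf 192) (.leaf 2926)) (.node (.leaf 668) (.leaf 2571))) (.node (.node (.leaf 1932) (.leaf 1653)) (.node (.leaf 827) (.leaf 3723))))))) (.node (.node (.node (.node (.node (.node (.leaf 181) (.leaf 1422)) (.node (.leaf 2430) (.leaf 3998))) (.node (.node (.leaf 193) (.leaf 1359)) (.node (.leaf 665) (.leaf 2170)))) (.node (.node (.node (.leaf 771) (.leaf 3668)) (.node (.leaf 2038) (.leaf 1853))) (.node (.node (.leaf 1892) (.leaf 1541)) (.node (.leaf 846) (.leaf 3654))))) (.node (.node (.node (.node (.leaf 257) (.leaf 2994)) (.node (.leaf 1741) (.leaf 3969))) (.node (.node (.leaf 1724) (.leaf 3811)) (.node (.leaf 3219) (.leaf 3971)))) (.node (.node (.node (.leaf 1172) (.leaf 1131)) (.node (.leaf 2819) (.leaf 2003))) (.node (.node (.leaf 2227) (.leaf 1565)) (.node (.leaf 3485) (.leaf 3204)))))) (.node (.node (.node (.node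 (.node (.leaf 377) (.leaf 3606)) (.node (.leaf 426) (.leaf 2256))) (.node (.node (.leaf 1584) (.leaf 3309)) (.node (.leaf 661) (.leaf 3899)))) (.node (.node (.node (.leaf 901) (.leaf 1073)) (.node (.leaf 2550) (.leaf 2621))) (.node (.node (.leaf 2115) (.leaf 2074)) (.node (.leaf 782) (.leaf 3381))))) (.node (.node (.node (.node (.leaf 76) (.leaf 994)) (.node (.leaf 486) (.leaf 1801))) (.node (.node (.leaf 264) (.leaf 2694)) (.node (.leaf 1365) (.leaf 3613)))) (.node (.node (.node (.leaf 1305) (.leaf 1292)) (.node (.leaf 2946) (.leaf 3995))) (.node (.node (.leaf 2327) (.leaf 1606)) (.node (.leaf 3302) (.leaf 3726))))))))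

def twoNext95 : Janko.Tree (ℕ) :=
  (.node (.node (.node (.node (.node (.node (.node (.leaf 80) (.leaf 866)) (.node (.leaf 2385) (.leaf 2353))) (.node (.node (.leaf 1376) (.leaf 3580)) (.node (.leaf 2990) (.leaf 2681)))) (.node (.node (.node (.leaf 799) (.leaf 2894)) (.node (.leaf 525) (.leaf 2460))) (.node (.node (.leaf 1934) (.leaf 2567)) (.node (.leaf 3333) (.leaf 1280))))) (.node (.node (.node (.node (.leaf 460) (.leaf 3471)) (.node (.leaf 2530) (.leaf 489))) (.node (.node (.leaf 1660) (.leaf 1139)) (.node (.leaf 69) (.leaf 2232)))) (.node (.node (.node (.leaf 635) (.leaf 2835)) (.node (.leaf 2782) (.leaf 2464))) (.node (.node (.leaf 2182) (.leaf 2719)) (.node (.leaf 1153) (.leaf 647)))))) (.node (.node (.node (.node (.node (.leaf 283) (.leaf 3610)) (.node (.leaf 1810) (.leaf 2636))) (.node (.node (.leaf 1514) (.leaf 699)) (.node (.leaf 848) (.leaf 1987)))) (.node (.node (.node (.leaf 795) (.leaf 1129)) (.node (.leaf 420) (.leaf 2229))) (.node (.node (.leaf 26) (.leaf 1543)) (.node (.leaf 3412) (.leaf 3146)))))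 (.node (.node (.node (.node (.leaf 629) (.leaf 870)) (.node (.leaf 2212) (.leaf 1528))) (.node (.node (.leaf 1793) (.leaf 1443)) (.node (.leaf 3255) (.leaf 3874)))) (.node (.node (.node (.leaf 1241) (.leaf 3352)) (.node (.leaf 2886) (.leaf 1759))) (.node (.node (.leaf 2276) (.leaf 3961)) (.node (.leaf 3257) (.leaf 3494))))))) (.node (.node (.node (.node (.node (.node (.leaf 182) (.leaf 3068)) (.node (.leaf 1973) (.leaf 222))) (.node (.node (.leaf 1439) (.leaf 943)) (.node (.leaf 5) (.leaf 3950)))) (.node (.node (.node (.leaf 125) (.leaf 1076)) (.node (.leaf 2710) (.leaf 3839))) (.node (.node (.leaf 2000) (.leaf 2384)) (.node (.leaf 3378) (.leaf 602))))) (.node (.node (.node (.node (.leaf 543) (.leaf 2999)) (.node (.leaf 2576) (.leaf 2245))) (.node (.node (.leaf 1725) (.leaf 3593)) (.node (.leaf 3212) (.leaf 1532)))) (.node (.node (.node (.leaf 1173) (.leaf 964)) (.node (.leaf 2820) (.leaf 2522))) (.node (.node (.leaf 2228) (.leaf 454)) (.node (.leaf 2829) (.leaf 892)))))) (.node (.node (.node (.node (.node (.leaf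 378) (.leaf 688)) (.node (.leaf 1876) (.leaf 1806))) (.node (.node (.leaf 1585) (.leaf 1406)) (.node (.leaf 1145) (.leaf 2626)))) (.node (.node (.node (.leaf 1037) (.leaf 3752)) (.node (.leaf 2035) (.leaf 2771))) (.node (.node (.leaf 2116) (.leaf 2596)) (.node (.leaf 1236) (.leaf 649))))) (.node (.node (.node (.node (.leaf 714) (.leaf 643)) (.node (.leaf 328) (.leaf 2773))) (.node (.node (.leaf 1865) (.leaf 3819)) (.node (.leaf 3291) (.leaf 3781)))) (.node (.node (.node (.leaf 1306) (.leaf 14)) (.node (.leaf 2947) (.leaf 434))) (.node (.node (.leaf 2328) (.leaf 1503)) (.node (.leaf 821) (.leaf 1195))))))))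

def twoNext96 : Janko.Tree (ℕ) :=
  (.node (.node (.node (.node (.node (.node (.node (.leaf 7) (.leaf 865)) (.node (.leaf 1879) (.leaf 3988))) (.node (.node (.leaf 1273) (.leaf 1247)) (.node (.leaf 620) (.leaf 2133)))) (.node (.node (.node (.leaf 800) (.leaf 3077)) (.node (.leaf 503) (.leaf 2230))) (.node (.node (.leaf 1935) (.leaf 3838)) (.node (.leaf 1100) (.leaf 2971))))) (.node (.node (.node (.node (.leaf 461) (.leaf 3659)) (.node (.leaf 2414) (.leaf 3882))) (.node (.node (.leaf 1551) (.leaf 3577)) (.node (.leaf 677) (.leaf 2471)))) (.node (.node (.node (.leaf 787) (.leaf 1262)) (.node (.leaf 2783) (.leaf 4012))) (.node (.node (.leaf 2183) (.leaf 2536)) (.node (.leaf 3338) (.leaf 3543)))))) (.node (.node (.node (.node (.node (.leaf 284) (.leaf 2885)) (.node (.leaf 457) (.leaf 3897))) (.node (.node (.leaf 1515) (.leaf 1389)) (.node (.leaf 1025) (.leaf 2504)))) (.node (.node (.node (.leaf 109) (.leaf 1053)) (.node (.leaf 531) (.leaf 1885))) (.node (.node (.leaf 302) (.leaf 2128)) (.node (.leaf 3124) (.leaf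 3554))))) (.node (.node (.node (.node (.leaf 630) (.leaf 3620)) (.node (.leaf 2069) (.leaf 1813))) (.node (.node (.leaf 411) (.leaf 1426)) (.node (.leaf 1110) (.leaf 2632)))) (.node (.node (.node (.leaf 881) (.leaf 3719)) (.node (.leaf 594) (.leaf 4039))) (.node (.node (.leaf 1783) (.leaf 1587)) (.node (.leaf 1409) (.leaf 3702))))))) (.node (.node (.node (.node (.node (.node (.leaf 183) (.leaf 3584)) (.node (.leaf 396) (.leaf 1817))) (.node (.node (.leaf 1440) (.leaf 3149)) (.node (.leaf 636) (.leaf 2342)))) (.node (.node (.node (.leaf 98) (.leaf 3610)) (.node (.leaf 515) (.leaf 1854))) (.node (.node (.leaf 540) (.leaf 3822)) (.node (.leaf 910) (.leaf 3308))))) (.node (.node (.node (.node (.leaf 544) (.leaf 1230)) (.node (.leaf 2297) (.leaf 2729))) (.node (.node (.leaf 1726) (.leaf 3766)) (.node (.leaf 694) (.leaf 4085)))) (.node (.node (.node (.leaf 653) (.leaf 1159)) (.node (.leaf 2821) (.leaf 2303))) (.node (.node (.leaf 387) (.leaf 2235)) (.node (.leaf 3325) (.leaf 3208)))))) (.node (.node (.node (.node (.node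 (.leaf 36) (.leaf 914)) (.node (.leaf 2479) (.leaf 1691))) (.node (.node (.leaf 1586) (.leaf 3453)) (.node (.leaf 3146) (.leaf 3980)))) (.node (.node (.node (.leaf 717) (.leaf 2939)) (.node (.leaf 2351) (.leaf 2465))) (.node (.node (.leaf 314) (.leaf 2087)) (.node (.leaf 796) (.leaf 4094))))) (.node (.node (.node (.node (.leaf 715) (.leaf 995)) (.node (.leaf 487) (.leaf 2047))) (.node (.node (.leaf 1724) (.leaf 2086)) (.node (.leaf 1227) (.leaf 3140)))) (.node (.node (.node (.leaf 1307) (.leaf 1190)) (.node (.leaf 1288) (.leaf 2694))) (.node (.node (.leaf 2196) (.leaf 2441)) (.node (.leaf 3292) (.leaf 4095))))))))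

def twoNext97 : Janko.Tree (ℕ) :=
  (.node (.node (.node (.node (.node (.node (.node (.leaf 81) (.leaf 1234)) (.node (.leaf 2386) (.leaf 1624))) (.node (.node (.leaf 181) (.leaf 3724)) (.node (.leaf 2899) (.leaf 2588)))) (.node (.node (.node (.leaf 801) (.leaf 3109)) (.node (.leaf 2390) (.leaf 1826))) (.node (.node (.leaf 276) (.leaf 3839)) (.node (.leaf 738) (.leaf 3587))))) (.node (.node (.node (.node (.leaf 46) (.leaf 931)) (.node (.leaf 442) (.leaf 1722))) (.node (.node (.leaf 1661) (.leaf 3376)) (.node (.leaf 3190) (.leaf 2686)))) (.node (.node (.node (.leaf 131) (.leaf 1107)) (.node (.leaf 2173) (.leaf 1966))) (.node (.node (.leaf 558) (.leaf 2420)) (.node (.leaf 3039) (.leaf 4089)))))) (.node (.node (.node (.node (.node (.leaf 26) (.leaf 3611)) (.node (.leaf 412) (.leaf 3959))) (.node (.node (.leaf 1516) (.leaf 1263)) (.node (.leaf 3096) (.leaf 2227)))) (.node (.node (.node (.leaf 964) (.leaf 3699)) (.node (.leaf 2159) (.leaf 2549))) (.node (.node (.leaf 2054) (.leaf 3849)) (.node (.leaf 768) (.leaf 3117)))))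 (.node (.node (.node (.node (.leaf 631) (.leaf 3682)) (.node (.leaf 471) (.leaf 3896))) (.node (.node (.leaf 1794) (.leaf 3102)) (.node (.leaf 720) (.leaf 4044)))) (.node (.node (.node (.leaf 156) (.leaf 1403)) (.node (.leaf 2887) (.leaf 3911))) (.node (.node (.leaf 2277) (.leaf 1887)) (.node (.leaf 828) (.leaf 3815))))))) (.node (.node (.node (.node (.node (.node (.leaf 184) (.leaf 2931)) (.node (.leaf 2431) (.leaf 1641))) (.node (.node (.leaf 1039) (.leaf 3796)) (.node (.leaf 3042) (.leaf 2171)))) (.node (.node (.node (.leaf 884) (.leaf 3077)) (.node (.leaf 1902) (.leaf 2532))) (.node (.node (.leaf 289) (.leaf 1489)) (.node (.leaf 2879) (.leaf 3288))))) (.node (.node (.node (.node (.leaf 56) (.leaf 954)) (.node (.leaf 2203) (.leaf 1753))) (.node (.node (.leaf 241) (.leaf 3700)) (.node (.leaf 3220) (.leaf 2503)))) (.node (.node (.node (.leaf 601) (.leaf 1349)) (.node (.leaf 582) (.leaf 2154))) (.node (.node (.leaf 1655) (.leaf 2398)) (.node (.leaf 3086) (.leaf 3501)))))) (.node (.node (.node (.node (.node (.leaf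 379) (.leaf 1175)) (.node (.leaf 1505) (.leaf 2045))) (.node (.node (.leaf 1587) (.leaf 1307)) (.node (.leaf 1413) (.leaf 4073)))) (.node (.node (.node (.leaf 119) (.leaf 3364)) (.node (.leaf 546) (.leaf 2052))) (.node (.node (.leaf 2117) (.leaf 1876)) (.node (.leaf 3270) (.leaf 3567))))) (.node (.node (.node (.node (.leaf 716) (.leaf 3701)) (.node (.leaf 2656) (.leaf 1802))) (.node (.node (.leaf 1673) (.leaf 2421)) (.node (.leaf 3292) (.leaf 3695)))) (.node (.node (.node (.leaf 1308) (.leaf 3247)) (.node (.leaf 1167) (.leaf 2093))) (.node (.node (.leaf 2329) (.leaf 1909)) (.node (.leaf 1145) (.leaf 3758))))))))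

def twoNext98 : Janko.Tree (ℕ) :=
  (.node (.node (.node (.node (.node (.node (.node (.leaf 82) (.leaf 953)) (.node (.leaf 381) (.leaf 3953))) (.node (.node (.leaf 1377) (.leaf 1445)) (.node (.leaf 2991) (.leaf 3962)))) (.node (.node (.node (.leaf 802) (.leaf 2927)) (.node (.leaf 2656) (.leaf 3941))) (.node (.node (.leaf 1936) (.leaf 1474)) (.node (.leaf 1108) (.leaf 2872))))) (.node (.node (.node (.node (.leaf 462) (.leaf 3660)) (.node (.leaf 2531) (.leaf 3963))) (.node (.node (.leaf 226) (.leaf 1340)) (.node (.leaf 1129) (.leaf 3826)))) (.node (.node (.node (.leaf 779) (.leaf 3747)) (.node (.leaf 1618) (.leaf 2119))) (.node (.node (.leaf 2184) (.leaf 3866)) (.node (.leaf 3331) (.leaf 3675)))))) (.node (.node (.node (.node (.node (.leaf 285) (.leaf 3612)) (.node (.leaf 2463) (.leaf 2675))) (.node (.node (.leaf 205) (.leaf 2824)) (.node (.leaf 648) (.leaf 2529)))) (.node (.node (.node (.leaf 965) (.leaf 3739)) (.node (.leaf 1782) (.leaf 3833))) (.node (.node (.leaf 2055) (.leaf 1539)) (.node (.leaf 838) (.leaf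 2954))))) (.node (.node (.node (.node (.leaf 66) (.leaf 1009)) (.node (.leaf 1569) (.leaf 1780))) (.node (.node (.leaf 252) (.leaf 3081)) (.node (.leaf 707) (.leaf 3979)))) (.node (.node (.node (.leaf 733) (.leaf 1237)) (.node (.leaf 614) (.leaf 2338))) (.node (.node (.leaf 488) (.leaf 2525)) (.node (.leaf 2811) (.leaf 3341))))))) (.node (.node (.node (.node (.node (.node (.leaf 185) (.leaf 3585)) (.node (.leaf 2296) (.leaf 1951))) (.node (.node (.leaf 1441) (.leaf 3257)) (.node (.leaf 3035) (.leaf 2716)))) (.node (.node (.node (.leaf 699) (.leaf 1031)) (.node (.leaf 1804) (.leaf 4036))) (.node (.node (.leaf 2001) (.leaf 3864)) (.node (.leaf 1394) (.leaf 2912))))) (.node (.node (.node (.node (.leaf 545) (.leaf 1291)) (.node (.leaf 2577) (.leaf 2658))) (.node (.node (.leaf 1727) (.leaf 3354)) (.node (.leaf 3221) (.leaf 3854)))) (.node (.node (.node (.leaf 144) (.leaf 2812)) (.node (.leaf 886) (.leaf 2320))) (.node (.node (.leaf 2229) (.leaf 1566)) (.node (.leaf 813) (.leaf 3452)))))) (.node (.node (.node (.node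 (.node (.leaf 380) (.leaf 947)) (.node (.leaf 1696) (.leaf 2496))) (.node (.node (.leaf 1526) (.leaf 3743)) (.node (.leaf 3147) (.leaf 2506)))) (.node (.node (.node (.leaf 1038) (.leaf 1355)) (.node (.leaf 1636) (.leaf 4057))) (.node (.node (.leaf 2118) (.leaf 2316)) (.node (.leaf 3254) (.leaf 3028))))) (.node (.node (.node (.node (.leaf 717) (.leaf 1080)) (.node (.leaf 527) (.leaf 2794))) (.node (.node (.leaf 400) (.leaf 1457)) (.node (.leaf 773) (.leaf 3783)))) (.node (.node (.node (.leaf 1309) (.leaf 1230)) (.node (.leaf 604) (.leaf 4010))) (.node (.node (.leaf 368) (.leaf 1683)) (.node (.leaf 845) (.leaf 3757))))))))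

def twoNext99 : Janko.Tree (ℕ) :=
  (.node (.node (.node (.node (.node (.node (.node (.leaf 83) (.leaf 3288)) (.node (.leaf 2286) (.leaf 1843))) (.node (.node (.leaf 1378) (.leaf 3758)) (.node (.leaf 2992) (.leaf 3878)))) (.node (.node (.node (.leaf 803) (.leaf 3712)) (.node (.leaf 1631) (.leaf 2304))) (.node (.node (.leaf 1937) (.leaf 1926)) (.node (.leaf 3334) (.leaf 3770))))) (.node (.node (.node (.node (.leaf 463) (.leaf 693)) (.node (.leaf 2532) (.leaf 2195))) (.node (.node (.leaf 1662) (.leaf 942)) (.node (.leaf 1454) (.leaf 1979)))) (.node (.node (.node (.leaf 1105) (.leaf 3467)) (.node (.leaf 2784) (.leaf 3924))) (.node (.node (.leaf 2185) (.leaf 202)) (.node (.leaf 617) (.leaf 3153)))))) (.node (.node (.node (.node (.node (.leaf 286) (.leaf 3172)) (.node (.leaf 2453) (.leaf 281))) (.node (.node (.leaf 1517) (.leaf 1298)) (.node (.leaf 3097) (.leaf 2633)))) (.node (.node (.node (.leaf 966) (.leaf 979)) (.node (.leaf 2732) (.leaf 275))) (.node (.node (.leaf 1870) (.leaf 1983)) (.node (.leaf 1381) (.leaf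 2975))))) (.node (.node (.node (.node (.leaf 632) (.leaf 3683)) (.node (.leaf 2623) (.leaf 1731))) (.node (.node (.leaf 1795) (.leaf 3321)) (.node (.leaf 139) (.leaf 1761)))) (.node (.node (.node (.leaf 1040) (.leaf 1311)) (.node (.leaf 1216) (.leaf 2697))) (.node (.node (.leaf 2266) (.leaf 2492)) (.node (.leaf 2875) (.leaf 3226))))))) (.node (.node (.node (.node (.node (.node (.leaf 186) (.leaf 3329)) (.node (.leaf 2432) (.leaf 25))) (.node (.node (.leaf 1442) (.leaf 192)) (.node (.leaf 1033) (.leaf 2216)))) (.node (.node (.node (.leaf 885) (.leaf 3548)) (.node (.leaf 2061) (.leaf 3941))) (.node (.node (.leaf 2002) (.leaf 547)) (.node (.leaf 79) (.leaf 936))))) (.node (.node (.node (.node (.leaf 546) (.leaf 828)) (.node (.leaf 2033) (.leaf 2149))) (.node (.node (.leaf 357) (.leaf 3088)) (.node (.leaf 3222) (.leaf 3933)))) (.node (.node (.node (.leaf 1174) (.leaf 959)) (.node (.leaf 2822) (.leaf 2529))) (.node (.node (.leaf 2150) (.leaf 3942)) (.node (.leaf 1330) (.leaf 3261)))))) (.node (.node (.node (.node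 (.node (.leaf 381) (.leaf 2927)) (.node (.leaf 2224) (.leaf 3833))) (.node (.node (.leaf 1588) (.leaf 1166)) (.node (.leaf 3148) (.leaf 1582)))) (.node (.node (.node (.leaf 196) (.leaf 593)) (.node (.leaf 2689) (.leaf 272))) (.node (.node (.leaf 2119) (.leaf 3852)) (.node (.leaf 1395) (.leaf 1161))))) (.node (.node (.node (.node (.leaf 718) (.leaf 3380)) (.node (.leaf 2148) (.leaf 1837))) (.node (.node (.leaf 1866) (.leaf 385)) (.node (.leaf 3293) (.leaf 722)))) (.node (.node (.node (.leaf 1310) (.leaf 3319)) (.node (.leaf 1247) (.leaf 3903))) (.node (.node (.leaf 2330) (.leaf 3974)) (.node (.leaf 2921) (.leaf 3812))))))))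

def twoNext100 : Janko.Tree (ℕ) :=
  (.node (.node (.node (.node (.node (.node (.node (.leaf 84) (.leaf 3387)) (.node (.leaf 484) (.leaf 2208))) (.node (.node (.leaf 1379) (.leaf 2953)) (.node (.leaf 2993) (.leaf 3851)))) (.node (.node (.node (.leaf 804) (.leaf 1076)) (.node (.leaf 2655) (.leaf 2101))) (.node (.node (.leaf 1938) (.leaf 1925)) (.node (.leaf 3128) (.leaf 3600))))) (.node (.node (.node (.node (.leaf 464) (.leaf 1009)) (.node (.leaf 2330) (.leaf 2452))) (.node (.node (.leaf 1663) (.leaf 1341)) (.node (.leaf 1357) (.leaf 4002)))) (.node (.node (.node (.leaf 1106) (.leaf 1194)) (.node (.leaf 564) (.leaf 2215))) (.node (.node (.leaf 2186) (.leaf 2757)) (.node (.leaf 3431) (.leaf 3105)))))) (.node (.node (.node (.node (.node (.leaf 287) (.leaf 3613)) (.node (.leaf 1478) (.leaf 2088))) (.node (.node (.leaf 1518) (.leaf 3660)) (.node (.leaf 3098) (.leaf 2281)))) (.node (.node (.node (.leaf 967) (.leaf 3740)) (.node (.leaf 1814) (.leaf 2078))) (.node (.node (.leaf 1736) (.leaf 1772)) (.node (.leaf 1453)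 (.leaf 3242))))) (.node (.node (.node (.node (.leaf 633) (.leaf 3684)) (.node (.leaf 1788) (.leaf 2769))) (.node (.node (.leaf 1796) (.leaf 3326)) (.node (.leaf 1154) (.leaf 2634)))) (.node (.node (.node (.leaf 1242) (.leaf 1164)) (.node (.leaf 2888) (.leaf 2095))) (.node (.node (.leaf 1634) (.leaf 2284)) (.node (.leaf 2966) (.leaf 3342))))))) (.node (.node (.node (.node (.node (.node (.leaf 17) (.leaf 882)) (.node (.leaf 2433) (.leaf 2380))) (.node (.node (.leaf 194) (.leaf 1235)) (.node (.leaf 3043) (.leaf 2182)))) (.node (.node (.node (.leaf 693) (.leaf 2809)) (.node (.leaf 1936) (.leaf 4022))) (.node (.node (.leaf 1790) (.leaf 2218)) (.node (.leaf 754) (.leaf 3160))))) (.node (.node (.node (.node (.leaf 414) (.leaf 2991)) (.node (.leaf 1808) (.leaf 1754))) (.node (.node (.leaf 1728) (.leaf 1382)) (.node (.leaf 3034) (.leaf 2664)))) (.node (.node (.node (.leaf 1175) (.leaf 3531)) (.node (.leaf 612) (.leaf 4035))) (.node (.node (.leaf 575) (.leaf 3943)) (.node (.leaf 997) (.leaf 3486)))))) (.node (.node (.node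 (.node (.node (.leaf 382) (.leaf 3636)) (.node (.leaf 427) (.leaf 2602))) (.node (.node (.leaf 217) (.leaf 1329)) (.node (.leaf 928) (.leaf 2793)))) (.node (.node (.node (.leaf 936) (.leaf 1077)) (.node (.leaf 2759) (.leaf 2336))) (.node (.node (.leaf 2120) (.leaf 3893)) (.node (.leaf 783) (.leaf 3674))))) (.node (.node (.node (.node (.leaf 719) (.leaf 1208)) (.node (.leaf 536) (.leaf 2302))) (.node (.node (.leaf 1648) (.leaf 2361)) (.node (.leaf 724) (.leaf 3568)))) (.node (.node (.node (.leaf 169) (.leaf 1238)) (.node (.leaf 1172) (.leaf 2712))) (.node (.node (.leaf 2210) (.leaf 2277)) (.node (.leaf 3540) (.leaf 4069))))))))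

def twoNext101 : Janko.Tree (ℕ) :=
  (.node (.node (.node (.node (.node (.node (.node (.leaf 7) (.leaf 3152)) (.node (.leaf 382) (.leaf 2240))) (.node (.node (.leaf 1380) (.leaf 1425)) (.node (.leaf 620) (.leaf 2134)))) (.node (.node (.node (.leaf 87) (.leaf 1016)) (.node (.leaf 2028) (.leaf 3865))) (.node (.node (.leaf 1939) (.leaf 3840)) (.node (.leaf 3335) (.leaf 3353))))) (.node (.node (.node (.node (.leaf 465) (.leaf 1338)) (.node (.leaf 2533) (.leaf 2523))) (.node (.node (.leaf 1467) (.leaf 3679)) (.node (.leaf 677) (.leaf 2391)))) (.node (.node (.node (.leaf 132) (.leaf 3508)) (.node (.leaf 2388) (.leaf 3915))) (.node (.node (.leaf 325) (.leaf 1545)) (.node (.leaf 2947) (.leaf 3645)))))) (.node (.node (.node (.node (.node (.leaf 288) (.leaf 3514)) (.node (.leaf 1772) (.leaf 2312))) (.node (.node (.leaf 440) (.leaf 1342)) (.node (.leaf 3099) (.leaf 2229)))) (.node (.node (.node (.leaf 109) (.leaf 1053)) (.node (.leaf 2249) (.leaf 1888))) (.node (.node (.leaf 332) (.leaf 1506)) (.node (.leaf 3413) (.leaf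 3538))))) (.node (.node (.node (.node (.leaf 634) (.leaf 976)) (.node (.leaf 2369) (.leaf 2127))) (.node (.node (.leaf 1797) (.leaf 3050)) (.node (.leaf 3256) (.leaf 3897)))) (.node (.node (.node (.leaf 1243) (.leaf 1313)) (.node (.leaf 594) (.leaf 4069))) (.node (.node (.leaf 2278) (.leaf 2452)) (.node (.leaf 2888) (.leaf 3715))))))) (.node (.node (.node (.node (.node (.node (.leaf 187) (.leaf 3586)) (.node (.leaf 396) (.leaf 1811))) (.node (.node (.leaf 1443) (.leaf 2864)) (.node (.leaf 636) (.leaf 3835)))) (.node (.node (.node (.leaf 886) (.leaf 3729)) (.node (.leaf 1710) (.leaf 1854))) (.node (.node (.leaf 2003) (.leaf 1994)) (.node (.leaf 1398) (.leaf 3801))))) (.node (.node (.node (.node (.leaf 547) (.leaf 3362)) (.node (.leaf 2578) (.leaf 2790))) (.node (.node (.leaf 1729) (.leaf 3659)) (.node (.leaf 694) (.leaf 4075)))) (.node (.node (.node (.leaf 905) (.leaf 1133)) (.node (.leaf 1071) (.leaf 3892))) (.node (.node (.leaf 340) (.leaf 1567)) (.node (.leaf 3486) (.leaf 3811)))))) (.node (.node (.node (.node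 (.node (.leaf 36) (.leaf 914)) (.node (.leaf 2040) (.leaf 1691))) (.node (.node (.leaf 377) (.leaf 3089)) (.node (.leaf 662) (.leaf 2302)))) (.node (.node (.node (.leaf 633) (.leaf 1375)) (.node (.leaf 2696) (.leaf 2267))) (.node (.node (.leaf 314) (.leaf 1521)) (.node (.leaf 3441) (.leaf 3363))))) (.node (.node (.node (.node (.leaf 77) (.leaf 1043)) (.node (.leaf 487) (.leaf 2574))) (.node (.node (.leaf 265) (.leaf 2327)) (.node (.leaf 3294) (.leaf 2833)))) (.node (.node (.node (.leaf 1311) (.leaf 1191)) (.node (.leaf 605) (.leaf 2793))) (.node (.node (.leaf 2331) (.leaf 1607)) (.node (.leaf 2939) (.leaf 3992))))))))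

def twoNext102 : Janko.Tree (ℕ) :=
  (.node (.node (.node (.node (.node (.node (.node (.leaf 85) (.leaf 3560)) (.node (.leaf 535) (.leaf 3989))) (.node (.node (.leaf 1381) (.leaf 3662)) (.node (.leaf 1190) (.leaf 2753)))) (.node (.node (.node (.leaf 805) (.leaf 1130)) (.node (.leaf 503) (.leaf 1827))) (.node (.node (.leaf 276) (.leaf 1915)) (.node (.leaf 3336) (.leaf 2873))))) (.node (.node (.node (.node (.leaf 287) (.leaf 931)) (.node (.leaf 2534) (.leaf 1767))) (.node (.node (.leaf 1591) (.leaf 3763)) (.node (.leaf 1082) (.leaf 2533)))) (.node (.node (.node (.leaf 608) (.leaf 3138)) (.node (.leaf 2781) (.leaf 2224))) (.node (.node (.leaf 1460) (.leaf 3838)) (.node (.leaf 796) (.leaf 3773)))))) (.node (.node (.node (.node (.node (.leaf 289) (.leaf 3348)) (.node (.leaf 1512) (.leaf 1664))) (.node (.node (.leaf 395) (.leaf 1263)) (.node (.leaf 3100) (.leaf 2352)))) (.node (.node (.node (.leaf 848) (.leaf 3189)) (.node (.leaf 531) (.leaf 2064))) (.node (.node (.leaf 302) (.leaf 3837)) (.node (.leaf 3360) (.leaf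 3712))))) (.node (.node (.node (.node (.leaf 635) (.leaf 1135)) (.node (.leaf 543) (.leaf 2304))) (.node (.node (.leaf 1798) (.leaf 1427)) (.node (.leaf 999) (.leaf 4067)))) (.node (.node (.node (.leaf 186) (.leaf 3519)) (.node (.leaf 2889) (.leaf 2047))) (.node (.node (.leaf 354) (.leaf 1587)) (.node (.leaf 2971) (.leaf 3448))))))) (.node (.node (.node (.node (.node (.node (.leaf 154) (.leaf 3583)) (.node (.leaf 2434) (.leaf 1641))) (.node (.node (.leaf 1248) (.leaf 3456)) (.node (.leaf 3044) (.leaf 3916)))) (.node (.node (.node (.leaf 98) (.leaf 3565)) (.node (.leaf 515) (.leaf 4046))) (.node (.node (.leaf 468) (.leaf 3865)) (.node (.leaf 2952) (.leaf 3740))))) (.node (.node (.node (.node (.leaf 56) (.leaf 954)) (.node (.leaf 457) (.leaf 2616))) (.node (.node (.leaf 241) (.leaf 1387)) (.node (.leaf 3073) (.leaf 4064)))) (.node (.node (.node (.leaf 872) (.leaf 3766)) (.node (.leaf 582) (.leaf 2298))) (.node (.node (.leaf 2072) (.leaf 1992)) (.node (.leaf 3487) (.leaf 3214)))))) (.node (.node (.node (.node (.node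 (.leaf 383) (.leaf 2814)) (.node (.leaf 2498) (.leaf 1843))) (.node (.node (.leaf 227) (.leaf 1307)) (.node (.leaf 3029) (.leaf 3829)))) (.node (.node (.node (.leaf 119) (.leaf 2939)) (.node (.leaf 2760) (.leaf 2364))) (.node (.node (.leaf 2121) (.leaf 2453)) (.node (.leaf 3208) (.leaf 3742))))) (.node (.node (.node (.node (.leaf 720) (.leaf 996)) (.node (.leaf 2025) (.leaf 1802))) (.node (.node (.leaf 1617) (.leaf 2637)) (.node (.leaf 3295) (.leaf 3416)))) (.node (.node (.node (.leaf 1312) (.leaf 1440)) (.node (.leaf 1102) (.leaf 2670))) (.node (.node (.leaf 2267) (.leaf 2187)) (.node (.leaf 1347) (.leaf 3836))))))))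

def twoNext103 : Janko.Tree (ℕ) :=
  (.node (.node (.node (.node (.node (.node (.node (.leaf 86) (.leaf 715)) (.node (.leaf 2387) (.leaf 1657))) (.node (.node (.leaf 1382) (.leaf 704)) (.node (.leaf 2818) (.leaf 2684)))) (.node (.node (.node (.leaf 806) (.leaf 3713)) (.node (.leaf 2678) (.leaf 2079))) (.node (.node (.leaf 1940) (.leaf 2790)) (.node (.leaf 2969) (.leaf 3660))))) (.node (.node (.node (.node (.leaf 466) (.leaf 770)) (.node (.leaf 2097) (.leaf 2708))) (.node (.node (.leaf 1664) (.leaf 3808)) (.node (.leaf 672) (.leaf 2326)))) (.node (.node (.node (.leaf 1107) (.leaf 3196)) (.node (.leaf 1561) (.leaf 4048))) (.node (.node (.leaf 2187) (.leaf 2036)) (.node (.leaf 3465) (.leaf 3605)))))) (.node (.node (.node (.node (.node (.leaf 290) (.leaf 3175)) (.node (.leaf 1972) (.leaf 2350))) (.node (.node (.leaf 1519) (.leaf 3803)) (.node (.leaf 3101) (.leaf 433)))) (.node (.node (.node (.leaf 175) (.leaf 625)) (.node (.leaf 1856) (.leaf 2294))) (.node (.node (.leaf 2056) (.leaf 2406)) (.node (.leaf 87) (.leaf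 3535))))) (.node (.node (.node (.node (.leaf 636) (.leaf 3612)) (.node (.leaf 2054) (.leaf 1516))) (.node (.node (.leaf 1799) (.leaf 3815)) (.node (.leaf 3194) (.leaf 3841)))) (.node (.node (.node (.leaf 0) (.leaf 741)) (.node (.leaf 2890) (.leaf 2687))) (.node (.node (.leaf 2279) (.leaf 2774)) (.node (.leaf 1433) (.leaf 3017))))))) (.node (.node (.node (.node (.node (.node (.leaf 188) (.leaf 1337)) (.node (.leaf 239) (.leaf 246))) (.node (.node (.leaf 1444) (.leaf 1269)) (.node (.leaf 95) (.leaf 1659)))) (.node (.node (.node (.leaf 887) (.leaf 3518)) (.node (.leaf 2158) (.leaf 3965))) (.node (.node (.leaf 2004) (.leaf 3866)) (.node (.leaf 3379) (.leaf 597))))) (.node (.node (.node (.node (.leaf 548) (.leaf 3510)) (.node (.leaf 2200) (.leaf 289))) (.node (.node (.leaf 1730) (.leaf 1204)) (.node (.leaf 1172) (.leaf 2093)))) (.node (.node (.node (.leaf 71) (.leaf 1240)) (.node (.leaf 2823) (.leaf 4078))) (.node (.node (.leaf 2230) (.leaf 1607)) (.node (.leaf 965) (.leaf 3505)))))) (.node (.node (.node (.node (.node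 (.leaf 384) (.leaf 3637)) (.node (.leaf 2499) (.leaf 1480))) (.node (.node (.leaf 475) (.leaf 3377)) (.node (.leaf 1098) (.leaf 2375)))) (.node (.node (.node (.leaf 1039) (.leaf 1135)) (.node (.leaf 2617) (.leaf 1999))) (.node (.node (.leaf 467) (.leaf 2262)) (.node (.leaf 1015) (.leaf 3687))))) (.node (.node (.node (.node (.leaf 721) (.leaf 3355)) (.node (.leaf 2657) (.leaf 344))) (.node (.node (.leaf 1867) (.leaf 1637)) (.node (.leaf 1136) (.leaf 3338)))) (.node (.node (.node (.leaf 1313) (.leaf 3342)) (.node (.leaf 2948) (.leaf 1487))) (.node (.node (.leaf 380) (.leaf 3975)) (.node (.leaf 2859) (.leaf 1686))))))))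

def twoNext104 : Janko.Tree (ℕ) :=
  (.node (.node (.node (.node (.node (.node (.node (.leaf 87) (.leaf 2907)) (.node (.leaf 1649) (.leaf 1625))) (.node (.node (.leaf 182) (.leaf 3466)) (.node (.leaf 2994) (.leaf 2360)))) (.node (.node (.node (.leaf 131) (.leaf 1177)) (.node (.leaf 1924) (.leaf 2469))) (.node (.node (.leaf 1941) (.leaf 1475)) (.node (.leaf 739) (.leaf 3580))))) (.node (.node (.node (.node (.leaf 47) (.leaf 3280)) (.node (.leaf 443) (.leaf 2076))) (.node (.node (.leaf 1665) (.leaf 2921)) (.node (.leaf 701) (.leaf 4006)))) (.node (.node (.node (.leaf 133) (.leaf 1109)) (.node (.leaf 2785) (.leaf 2144))) (.node (.node (.leaf 336) (.leaf 1547)) (.node (.leaf 3447) (.leaf 3473)))))) (.node (.node (.node (.node (.node (.leaf 27) (.leaf 2860)) (.node (.leaf 413) (.leaf 1667))) (.node (.node (.leaf 206) (.leaf 3393)) (.node (.leaf 3102) (.leaf 3961)))) (.node (.node (.node (.leaf 968) (.leaf 3281)) (.node (.leaf 574) (.leaf 1890))) (.node (.node (.leaf 2057) (.leaf 1961)) (.node (.leaf 3286) (.leaf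 3665))))) (.node (.node (.node (.node (.leaf 637) (.leaf 1063)) (.node (.leaf 473) (.leaf 2384))) (.node (.node (.leaf 253) (.leaf 3388)) (.node (.leaf 3257) (.leaf 4067)))) (.node (.node (.node (.leaf 157) (.leaf 3062)) (.node (.leaf 2891) (.leaf 2048))) (.node (.node (.leaf 2280) (.leaf 1721)) (.node (.leaf 829) (.leaf 3811))))))) (.node (.node (.node (.node (.node (.node (.leaf 189) (.leaf 3587)) (.node (.leaf 2435) (.leaf 1898))) (.node (.node (.leaf 1445) (.leaf 3435)) (.node (.leaf 3045) (.leaf 2173)))) (.node (.node (.node (.leaf 888) (.leaf 3090)) (.node (.leaf 1466) (.leaf 1855))) (.node (.node (.leaf 290) (.leaf 1490)) (.node (.leaf 1428) (.leaf 3468))))) (.node (.node (.node (.node (.leaf 549) (.leaf 966)) (.node (.leaf 458) (.leaf 2383))) (.node (.node (.leaf 1731) (.leaf 3775)) (.node (.leaf 3223) (.leaf 2764)))) (.node (.node (.node (.leaf 145) (.leaf 3761)) (.node (.leaf 1338) (.leaf 2067))) (.node (.node (.leaf 2231) (.leaf 2249)) (.node (.leaf 814) (.leaf 3239)))))) (.node (.node (.node (.node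 (.node (.leaf 385) (.leaf 3638)) (.node (.leaf 2500) (.leaf 2495))) (.node (.node (.leaf 357) (.leaf 1346)) (.node (.leaf 2913) (.leaf 2398)))) (.node (.node (.node (.leaf 631) (.leaf 3277)) (.node (.leaf 1867) (.leaf 2678))) (.node (.node (.leaf 2122) (.leaf 2189)) (.node (.leaf 1198) (.leaf 3484))))) (.node (.node (.node (.node (.leaf 134) (.leaf 3634)) (.node (.leaf 2658) (.leaf 2462))) (.node (.node (.leaf 1717) (.leaf 1459)) (.node (.leaf 3296) (.leaf 3168)))) (.node (.node (.node (.leaf 1314) (.leaf 3378)) (.node (.leaf 645) (.leaf 3940))) (.node (.node (.leaf 369) (.leaf 1953)) (.node (.leaf 3541) (.leaf 3947))))))))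

def twoNext105 : Janko.Tree (ℕ) :=
  (.node (.node (.node (.node (.node (.node (.node (.leaf 88) (.leaf 3347)) (.node (.leaf 1951) (.leaf 2623))) (.node (.node (.leaf 1383) (.leaf 1218)) (.node (.leaf 2995) (.leaf 2518)))) (.node (.node (.node (.leaf 807) (.leaf 3714)) (.node (.leaf 2679) (.leaf 3914))) (.node (.node (.leaf 1726) (.leaf 3841)) (.node (.leaf 1098) (.leaf 3569))))) (.node (.node (.node (.node (.leaf 467) (.leaf 1439)) (.node (.leaf 1698) (.leaf 1724))) (.node (.node (.leaf 227) (.leaf 3427)) (.node (.leaf 2804) (.leaf 3920)))) (.node (.node (.node (.leaf 1108) (.leaf 3127)) (.node (.leaf 2786) (.leaf 3984))) (.node (.node (.leaf 2188) (.leaf 2773)) (.node (.leaf 3466) (.leaf 3110)))))) (.node (.node (.node (.node (.node (.leaf 291) (.leaf 897)) (.node (.leaf 1533) (.leaf 1780))) (.node (.node (.leaf 1520) (.leaf 1264)) (.node (.leaf 649) (.leaf 2230)))) (.node (.node (.node (.leaf 838) (.leaf 3741)) (.node (.leaf 2351) (.leaf 2500))) (.node (.node (.leaf 2058) (.leaf 2281)) (.node (.leaf 769)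 (.leaf 3530))))) (.node (.node (.node (.node (.leaf 67) (.leaf 3685)) (.node (.leaf 2235) (.leaf 1782))) (.node (.node (.leaf 1800) (.leaf 3103)) (.node (.leaf 708) (.leaf 2640)))) (.node (.node (.node (.leaf 1244) (.leaf 2848)) (.node (.leaf 2892) (.leaf 3836))) (.node (.node (.leaf 1730) (.leaf 2671)) (.node (.leaf 945) (.leaf 3342))))))) (.node (.node (.node (.node (.node (.node (.leaf 17) (.leaf 3588)) (.node (.leaf 397) (.leaf 1643))) (.node (.node (.leaf 194) (.leaf 3156)) (.node (.leaf 2862) (.leaf 2766)))) (.node (.node (.node (.leaf 889) (.leaf 3403)) (.node (.leaf 2201) (.leaf 3923))) (.node (.node (.leaf 2005) (.leaf 2772)) (.node (.leaf 804) (.leaf 2915))))) (.node (.node (.node (.node (.leaf 214) (.leaf 1065)) (.node (.leaf 2085) (.leaf 2087))) (.node (.node (.leaf 1666) (.leaf 3020)) (.node (.leaf 3224) (.leaf 2506)))) (.node (.node (.node (.leaf 1176) (.leaf 1318)) (.node (.leaf 2824) (.leaf 2137))) (.node (.node (.leaf 2232) (.leaf 1877)) (.node (.leaf 3360) (.leaf 3401)))))) (.node (.node (.node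 (.node (.node (.leaf 386) (.leaf 3311)) (.node (.leaf 2044) (.leaf 1835))) (.node (.node (.leaf 217) (.leaf 3198)) (.node (.leaf 3149) (.leaf 2306)))) (.node (.node (.node (.leaf 1040) (.leaf 3336)) (.node (.leaf 2761) (.leaf 2715))) (.node (.node (.leaf 2123) (.leaf 1522)) (.node (.leaf 3442) (.leaf 3529))))) (.node (.node (.node (.node (.leaf 722) (.leaf 3702)) (.node (.leaf 1609) (.leaf 1929))) (.node (.node (.leaf 1868) (.leaf 2196)) (.node (.leaf 2999) (.leaf 3601)))) (.node (.node (.node (.leaf 169) (.leaf 3581)) (.node (.leaf 2949) (.leaf 2461))) (.node (.node (.leaf 2332) (.leaf 1608)) (.node (.leaf 846) (.leaf 3827))))))))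

def twoNext106 : Janko.Tree (ℕ) :=
  (.node (.node (.node (.node (.node (.node (.node (.leaf 7) (.leaf 2935)) (.node (.leaf 2388) (.leaf 2362))) (.node (.node (.leaf 1226) (.leaf 1374)) (.node (.leaf 620) (.leaf 2641)))) (.node (.node (.node (.leaf 87) (.leaf 3380)) (.node (.leaf 2517) (.leaf 2744))) (.node (.node (.leaf 1674) (.leaf 2757)) (.node (.leaf 1114) (.leaf 2968))))) (.node (.node (.node (.node (.leaf 57) (.leaf 3661)) (.node (.leaf 1705) (.leaf 2061))) (.node (.node (.leaf 1666) (.leaf 1358)) (.node (.leaf 678) (.leaf 2391)))) (.node (.node (.node (.leaf 730) (.leaf 3315)) (.node (.leaf 564) (.leaf 2149))) (.node (.node (.leaf 325) (.leaf 3868)) (.node (.leaf 1442) (.leaf 3396)))))) (.node (.node (.node (.node (.node (.leaf 258) (.leaf 2960)) (.node (.leaf 1818) (.leaf 2454))) (.node (.node (.leaf 1521) (.leaf 3131)) (.node (.leaf 3103) (.leaf 3886)))) (.node (.node (.node (.leaf 109) (.leaf 1053)) (.node (.leaf 2625) (.leaf 2244))) (.node (.node (.leaf 2059) (.leaf 1586)) (.node (.leaf 3294) (.leaf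 3119))))) (.node (.node (.node (.node (.leaf 638) (.leaf 976)) (.node (.leaf 576) (.leaf 1965))) (.node (.node (.leaf 410) (.leaf 1428)) (.node (.leaf 3167) (.leaf 4066)))) (.node (.node (.node (.leaf 1231) (.leaf 1165)) (.node (.leaf 662) (.leaf 2793))) (.node (.node (.leaf 2281) (.leaf 3949)) (.node (.leaf 2818) (.leaf 3803))))))) (.node (.node (.node (.node (.node (.node (.leaf 190) (.leaf 882)) (.node (.leaf 1689) (.leaf 2371))) (.node (.node (.leaf 1446) (.leaf 1235)) (.node (.leaf 636) (.leaf 3986)))) (.node (.node (.node (.leaf 890) (.leaf 3098)) (.node (.leaf 2484) (.leaf 2060))) (.node (.node (.leaf 299) (.leaf 2089)) (.node (.leaf 754) (.leaf 3285))))) (.node (.node (.node (.node (.leaf 473) (.leaf 2992)) (.node (.leaf 2166) (.leaf 1755))) (.node (.node (.leaf 1635) (.leaf 3105)) (.node (.leaf 694) (.leaf 3846)))) (.node (.node (.node (.leaf 938) (.leaf 1133)) (.node (.leaf 2825) (.leaf 3888))) (.node (.node (.leaf 2233) (.leaf 2660)) (.node (.leaf 3488) (.leaf 3217)))))) (.node (.node (.node (.node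 (.node (.leaf 387) (.leaf 3639)) (.node (.leaf 427) (.leaf 1691))) (.node (.node (.leaf 1518) (.leaf 3539)) (.node (.leaf 3039) (.leaf 4032)))) (.node (.node (.node (.leaf 1041) (.leaf 1077)) (.node (.leaf 547) (.leaf 3922))) (.node (.node (.leaf 314) (.leaf 2258)) (.node (.leaf 783) (.leaf 3608))))) (.node (.node (.node (.node (.leaf 77) (.leaf 3513)) (.node (.leaf 2659) (.leaf 1803))) (.node (.node (.leaf 464) (.leaf 2477)) (.node (.leaf 724) (.leaf 2835)))) (.node (.node (.node (.leaf 1315) (.leaf 1453)) (.node (.leaf 2950) (.leaf 2095))) (.node (.node (.leaf 484) (.leaf 1673)) (.node (.leaf 1140) (.leaf 3973))))))))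

def twoNext107 : Janko.Tree (ℕ) :=
  (.node (.node (.node (.node (.node (.node (.node (.leaf 89) (.leaf 1409)) (.node (.leaf 215) (.leaf 3990))) (.node (.node (.leaf 148) (.leaf 101)) (.node (.leaf 1383) (.leaf 426)))) (.node (.node (.node (.leaf 725) (.leaf 115)) (.node (.leaf 2377) (.leaf 2566))) (.node (.node (.leaf 1942) (.leaf 1906)) (.node (.leaf 3337) (.leaf 2903))))) (.node (.node (.node (.node (.leaf 468) (.leaf 3137)) (.node (.leaf 2535) (.leaf 2259))) (.node (.node (.leaf 1667) (.leaf 774)) (.node (.leaf 3191) (.leaf 4081)))) (.node (.node (.node (.leaf 1109) (.leaf 1427)) (.node (.leaf 2075) (.leaf 3919))) (.node (.node (.leaf 2130) (.leaf 2592)) (.node (.leaf 862) (.leaf 3010)))))) (.node (.node (.node (.node (.node (.leaf 292) (.leaf 3290)) (.node (.leaf 1958) (.leaf 2143))) (.node (.node (.leaf 1522) (.leaf 846)) (.node (.leaf 3104) (.leaf 389)))) (.node (.node (.node (.leaf 969) (.leaf 3742)) (.node (.leaf 1854) (.leaf 2562))) (.node (.node (.leaf 227) (.leaf 409)) (.node (.leaf 3414) (.leaf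 3656))))) (.node (.node (.node (.node (.leaf 639) (.leaf 3142)) (.node (.leaf 2624) (.leaf 3898))) (.node (.node (.leaf 1801) (.leaf 3787)) (.node (.leaf 809) (.leaf 2435)))) (.node (.node (.node (.leaf 1245) (.leaf 3614)) (.node (.leaf 2893) (.leaf 4016))) (.node (.node (.leaf 1923) (.leaf 3962)) (.node (.leaf 3514) (.leaf 2877))))))) (.node (.node (.node (.node (.node (.node (.leaf 191) (.leaf 1157)) (.node (.leaf 2436) (.leaf 2547))) (.node (.node (.leaf 884) (.leaf 3091)) (.node (.leaf 1188) (.leaf 2429)))) (.node (.node (.node (.leaf 797) (.leaf 3730)) (.node (.leaf 2668) (.leaf 2451))) (.node (.node (.leaf 2006) (.leaf 3867)) (.node (.leaf 3272) (.leaf 3793))))) (.node (.node (.node (.node (.leaf 550) (.leaf 3525)) (.node (.leaf 1828) (.leaf 3937))) (.node (.node (.leaf 1629) (.leaf 1018)) (.node (.leaf 3225) (.leaf 2792)))) (.node (.node (.node (.leaf 1177) (.leaf 3669)) (.node (.leaf 2819) (.leaf 2781))) (.node (.node (.leaf 1570) (.leaf 536)) (.node (.leaf 730) (.leaf 1007)))))) (.node (.node (.node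 (.node (.node (.leaf 388) (.leaf 2976)) (.node (.leaf 2274) (.leaf 2255))) (.node (.node (.leaf 1589) (.leaf 3807)) (.node (.leaf 1284) (.leaf 2331)))) (.node (.node (.node (.leaf 1042) (.leaf 615)) (.node (.leaf 410) (.leaf 1886))) (.node (.node (.leaf 2124) (.leaf 2449)) (.node (.leaf 3443) (.leaf 1130))))) (.node (.node (.node (.node (.leaf 723) (.leaf 3562)) (.node (.leaf 2291) (.leaf 2801))) (.node (.node (.leaf 301) (.leaf 2545)) (.node (.leaf 1213) (.leaf 3407)))) (.node (.node (.node (.leaf 1082) (.leaf 146)) (.node (.leaf 1419) (.leaf 2040))) (.node (.node (.leaf 2333) (.leaf 3920)) (.node (.leaf 3542) (.leaf 3911))))))))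

def twoNext108 : Janko.Tree (ℕ) :=
  (.node (.node (.node (.node (.node (.node (.node (.leaf 90) (.leaf 3402)) (.node (.leaf 383) (.leaf 2248))) (.node (.node (.leaf 816) (.leaf 1361)) (.node (.leaf 1279) (.leaf 2273)))) (.node (.node (.node (.leaf 179) (.leaf 3186)) (.node (.leaf 504) (.leaf 1828))) (.node (.node (.leaf 1943) (.leaf 2453)) (.node (.leaf 3166) (.leaf 3602))))) (.node (.node (.node (.node (.leaf 469) (.leaf 1270)) (.node (.leaf 2119) (.leaf 1755))) (.node (.node (.leaf 1511) (.leaf 3369)) (.node (.leaf 3192) (.leaf 2556)))) (.node (.node (.node (.leaf 728) (.leaf 3759)) (.node (.leaf 2787) (.leaf 1973))) (.node (.node (.leaf 381) (.leaf 3864)) (.node (.leaf 970) (.leaf 3438)))))) (.node (.node (.node (.node (.node (.leaf 293) (.leaf 898)) (.node (.leaf 1759) (.leaf 1775))) (.node (.node (.leaf 1523) (.leaf 3558)) (.node (.leaf 1104) (.leaf 3843)))) (.node (.node (.node (.leaf 836) (.leaf 3516)) (.node (.leaf 1607) (.leaf 2670))) (.node (.node (.leaf 1558) (.leaf 2074)) (.node (.leaf 3298) (.leaf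 3742))))) (.node (.node (.node (.node (.leaf 640) (.leaf 3667)) (.node (.leaf 2625) (.leaf 2045))) (.node (.node (.leaf 1538) (.leaf 3528)) (.node (.leaf 3227) (.leaf 4068)))) (.node (.node (.node (.leaf 1246) (.leaf 3057)) (.node (.leaf 595) (.leaf 2530))) (.node (.node (.leaf 355) (.leaf 1588)) (.node (.leaf 830) (.leaf 3653))))))) (.node (.node (.node (.node (.node (.node (.leaf 192) (.leaf 883)) (.node (.leaf 2165) (.leaf 2382))) (.node (.node (.leaf 1447) (.leaf 1269)) (.node (.leaf 1429) (.leaf 2338)))) (.node (.node (.node (.leaf 99) (.leaf 1033)) (.node (.leaf 516) (.leaf 2073))) (.node (.node (.leaf 550) (.leaf 3868)) (.node (.leaf 1300) (.leaf 3047))))) (.node (.node (.node (.node (.leaf 551) (.leaf 3000)) (.node (.leaf 2100) (.leaf 2063))) (.node (.node (.leaf 333) (.leaf 3496)) (.node (.leaf 2990) (.leaf 2640)))) (.node (.node (.node (.leaf 1178) (.leaf 3710)) (.node (.leaf 583) (.leaf 2775))) (.node (.node (.leaf 341) (.leaf 1568)) (.node (.leaf 3489) (.leaf 3806)))))) (.node (.node (.node (.node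 (.node (.leaf 37) (.leaf 915)) (.node (.leaf 428) (.leaf 1693))) (.node (.node (.leaf 1590) (.leaf 1308)) (.node (.leaf 3150) (.leaf 4032)))) (.node (.node (.node (.leaf 1043) (.leaf 3156)) (.node (.leaf 1739) (.leaf 2562))) (.node (.node (.leaf 2125) (.leaf 2424)) (.node (.leaf 784) (.leaf 3712))))) (.node (.node (.node (.node (.leaf 165) (.leaf 3626)) (.node (.leaf 488) (.leaf 1805))) (.node (.node (.leaf 266) (.leaf 2070)) (.node (.leaf 3297) (.leaf 3598)))) (.node (.node (.node (.leaf 1316) (.leaf 1303)) (.node (.leaf 606) (.leaf 2688))) (.node (.node (.leaf 2167) (.leaf 2455)) (.node (.leaf 1192) (.leaf 4084))))))))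

def twoNext109 : Janko.Tree (ℕ) :=
  (.node (.node (.node (.node (.node (.node (.node (.leaf 91) (.leaf 867)) (.node (.leaf 510) (.leaf 1625))) (.node (.node (.leaf 182) (.leaf 3175)) (.node (.leaf 621) (.leaf 2136)))) (.node (.node (.node (.leaf 808) (.leaf 1017)) (.node (.leaf 2680) (.leaf 3934))) (.node (.node (.leaf 277) (.leaf 1475)) (.node (.leaf 739) (.leaf 3214))))) (.node (.node (.node (.node (.leaf 47) (.leaf 1208)) (.node (.leaf 444) (.leaf 2276))) (.node (.node (.leaf 1668) (.leaf 3450)) (.node (.leaf 3193) (.leaf 2633)))) (.node (.node (.node (.leaf 1110) (.leaf 1109)) (.node (.leaf 1540) (.leaf 2029))) (.node (.node (.leaf 2189) (.leaf 1548)) (.node (.leaf 797) (.leaf 3805)))))) (.node (.node (.node (.node (.node (.leaf 27) (.leaf 1410)) (.node (.leaf 2464) (.leaf 3847))) (.node (.node (.leaf 206) (.leaf 3766)) (.node (.leaf 812) (.leaf 4054)))) (.node (.node (.node (.leaf 970) (.leaf 1447)) (.node (.leaf 532) (.leaf 1894))) (.node (.node (.leaf 303) (.leaf 3894)) (.node (.leaf 1262) (.leaf 2958)))))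 (.node (.node (.node (.node (.leaf 641) (.leaf 3449)) (.node (.leaf 473) (.leaf 3997))) (.node (.node (.leaf 253) (.leaf 3370)) (.node (.leaf 3133) (.leaf 2672)))) (.node (.node (.node (.leaf 157) (.leaf 3225)) (.node (.leaf 2894) (.leaf 3936))) (.node (.node (.leaf 2282) (.leaf 3963)) (.node (.leaf 3005) (.leaf 3425))))))) (.node (.node (.node (.node (.node (.node (.leaf 193) (.leaf 3124)) (.node (.leaf 2437) (.leaf 2409))) (.node (.node (.leaf 195) (.leaf 3496)) (.node (.leaf 637) (.leaf 3954)))) (.node (.node (.node (.leaf 891) (.leaf 2927)) (.node (.leaf 2711) (.leaf 3925))) (.node (.node (.leaf 1725) (.leaf 3859)) (.node (.leaf 3380) (.leaf 3293))))) (.node (.node (.node (.node (.leaf 57) (.leaf 1242)) (.node (.leaf 2175) (.leaf 3837))) (.node (.node (.leaf 242) (.leaf 3368)) (.node (.leaf 2956) (.leaf 4087)))) (.node (.node (.node (.leaf 1153) (.leaf 1134)) (.node (.leaf 665) (.leaf 3907))) (.node (.node (.leaf 574) (.leaf 1921)) (.node (.leaf 814) (.leaf 3561)))))) (.node (.node (.node (.node (.node (.leaf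 389) (.leaf 3640)) (.node (.leaf 2245) (.leaf 1837))) (.node (.node (.leaf 391) (.leaf 3104)) (.node (.leaf 714) (.leaf 2801)))) (.node (.node (.node (.leaf 120) (.leaf 2861)) (.node (.leaf 2520) (.leaf 1924))) (.node (.node (.leaf 315) (.leaf 2041)) (.node (.leaf 3444) (.leaf 3035))))) (.node (.node (.node (.node (.leaf 724) (.leaf 997)) (.node (.leaf 2660) (.leaf 2572))) (.node (.node (.leaf 1869) (.leaf 2035)) (.node (.leaf 725) (.leaf 3641)))) (.node (.node (.node (.leaf 1317) (.leaf 1192)) (.node (.leaf 991) (.leaf 2199))) (.node (.node (.leaf 2334) (.leaf 2279)) (.node (.leaf 3543) (.leaf 4005))))))))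

def twoNext110 : Janko.Tree (ℕ) :=
  (.node (.node (.node (.node (.node (.node (.node (.leaf 92) (.leaf 3397)) (.node (.leaf 533) (.leaf 2754))) (.node (.node (.leaf 1384) (.leaf 1218)) (.node (.leaf 1243) (.leaf 2363)))) (.node (.node (.node (.leaf 809) (.leaf 3691)) (.node (.leaf 2681) (.leaf 2030))) (.node (.node (.leaf 1557) (.leaf 1503)) (.node (.leaf 3338) (.leaf 3702))))) (.node (.node (.node (.node (.leaf 277) (.leaf 1250)) (.node (.leaf 1860) (.leaf 2313))) (.node (.node (.leaf 1669) (.leaf 1343)) (.node (.leaf 3194) (.leaf 2392)))) (.node (.node (.node (.leaf 133) (.leaf 1314)) (.node (.leaf 2788) (.leaf 3917))) (.node (.node (.leaf 1970) (.leaf 2009)) (.node (.leaf 828) (.leaf 3575)))))) (.node (.node (.node (.node (.node (.leaf 294) (.leaf 3596)) (.node (.leaf 413) (.leaf 1667))) (.node (.node (.leaf 1524) (.leaf 3710)) (.node (.leaf 649) (.leaf 3992)))) (.node (.node (.node (.leaf 971) (.leaf 3707)) (.node (.leaf 1522) (.leaf 3842))) (.node (.node (.leaf 575) (.leaf 1507)) (.node (.leaf 769) (.leaf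 2988))))) (.node (.node (.node (.node (.leaf 67) (.leaf 1017)) (.node (.leaf 1563) (.leaf 1845))) (.node (.node (.leaf 1751) (.leaf 2953)) (.node (.leaf 3258) (.leaf 4058)))) (.node (.node (.node (.leaf 1247) (.leaf 1167)) (.node (.leaf 605) (.leaf 2049))) (.node (.node (.leaf 2157) (.leaf 1592)) (.node (.leaf 1452) (.leaf 3445))))))) (.node (.node (.node (.node (.node (.node (.leaf 17) (.leaf 979)) (.node (.leaf 1632) (.leaf 2650))) (.node (.node (.leaf 622) (.leaf 1397)) (.node (.leaf 3046) (.leaf 4041)))) (.node (.node (.node (.leaf 892) (.leaf 3611)) (.node (.leaf 2555) (.leaf 1855))) (.node (.node (.leaf 2007) (.leaf 1490)) (.node (.leaf 3281) (.leaf 3703))))) (.node (.node (.node (.node (.leaf 552) (.leaf 956)) (.node (.leaf 458) (.leaf 2450))) (.node (.node (.leaf 312) (.leaf 1385)) (.node (.leaf 982) (.leaf 2635)))) (.node (.node (.node (.leaf 145) (.leaf 3555)) (.node (.leaf 2826) (.leaf 2780))) (.node (.node (.leaf 1567) (.leaf 2761)) (.node (.leaf 3490) (.leaf 3218)))))) (.node (.node (.node (.node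 (.node (.leaf 356) (.leaf 3154)) (.node (.leaf 1692) (.leaf 2500))) (.node (.node (.leaf 217) (.leaf 3788)) (.node (.leaf 663) (.leaf 2395)))) (.node (.node (.node (.leaf 1044) (.leaf 3180)) (.node (.leaf 2626) (.leaf 2568))) (.node (.node (.leaf 2126) (.leaf 2425)) (.node (.leaf 2841) (.leaf 3224))))) (.node (.node (.node (.node (.leaf 725) (.leaf 3413)) (.node (.leaf 1815) (.leaf 1897))) (.node (.node (.leaf 1870) (.leaf 2008)) (.node (.leaf 3298) (.leaf 2857)))) (.node (.node (.node (.leaf 169) (.leaf 1339)) (.node (.leaf 629) (.leaf 2404))) (.node (.node (.leaf 2031) (.leaf 3964)) (.node (.leaf 3373) (.leaf 3978))))))))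

def twoNext111 : Janko.Tree (ℕ) :=
  (.node (.node (.node (.node (.node (.node (.node (.leaf 93) (.leaf 190)) (.node (.leaf 2389) (.leaf 387))) (.node (.node (.leaf 1085) (.leaf 889)) (.node (.leaf 2996) (.leaf 204)))) (.node (.node (.node (.leaf 775) (.leaf 3527)) (.node (.leaf 2682) (.leaf 2467))) (.node (.node (.leaf 1944) (.leaf 3842)) (.node (.leaf 3339) (.leaf 873))))) (.node (.node (.node (.node (.leaf 470) (.leaf 3662)) (.node (.leaf 2536) (.leaf 1651))) (.node (.node (.leaf 1670) (.leaf 3299)) (.node (.leaf 1344) (.leaf 2498)))) (.node (.node (.node (.leaf 1111) (.leaf 600)) (.node (.leaf 472) (.leaf 2403))) (.node (.node (.leaf 2164) (.leaf 2783)) (.node (.leaf 3171) (.leaf 1323)))))) (.node (.node (.node (.node (.node (.leaf 295) (.leaf 3466)) (.node (.leaf 2465) (.leaf 2695))) (.node (.node (.leaf 1525) (.leaf 3804)) (.node (.leaf 1023) (.leaf 1950)))) (.node (.node (.node (.leaf 638) (.leaf 3743)) (.node (.leaf 2733) (.leaf 2113))) (.node (.node (.leaf 2060) (.leaf 1882)) (.node (.leaf 3415) (.leaf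 3691))))) (.node (.node (.node (.node (.leaf 642) (.leaf 854)) (.node (.leaf 1485) (.leaf 2534))) (.node (.node (.leaf 1802) (.leaf 3767)) (.node (.leaf 3259) (.leaf 3857)))) (.node (.node (.node (.leaf 857) (.leaf 2856)) (.node (.leaf 2895) (.leaf 1688))) (.node (.node (.leaf 2045) (.leaf 3964)) (.node (.leaf 3350) (.leaf 895))))))) (.node (.node (.node (.node (.node (.node (.leaf 194) (.leaf 3474)) (.node (.leaf 487) (.leaf 299))) (.node (.node (.leaf 1448) (.leaf 2869)) (.node (.leaf 3047) (.leaf 462)))) (.node (.node (.node (.leaf 893) (.leaf 592)) (.node (.leaf 2614) (.leaf 2305))) (.node (.node (.leaf 265) (.leaf 198)) (.node (.leaf 977) (.leaf 3263))))) (.node (.node (.node (.node (.leaf 553) (.leaf 3675)) (.node (.leaf 2579) (.leaf 4036))) (.node (.node (.leaf 1732) (.leaf 2855)) (.node (.leaf 831) (.leaf 435)))) (.node (.node (.node (.leaf 8) (.leaf 1010)) (.node (.leaf 2827) (.leaf 4027))) (.node (.node (.leaf 2234) (.leaf 1962)) (.node (.leaf 2826) (.leaf 3322)))))) (.node (.node (.node (.node (.node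 (.leaf 390) (.leaf 3641)) (.node (.leaf 1967) (.leaf 3900))) (.node (.node (.leaf 1591) (.leaf 3188)) (.node (.leaf 3151) (.leaf 3987)))) (.node (.node (.node (.leaf 1045) (.leaf 668)) (.node (.leaf 1798) (.leaf 2051))) (.node (.node (.leaf 2127) (.leaf 3818)) (.node (.leaf 1440) (.leaf 1254))))) (.node (.node (.node (.node (.leaf 726) (.leaf 3000)) (.node (.leaf 442) (.leaf 2012))) (.node (.node (.leaf 1526) (.leaf 3820)) (.node (.leaf 112) (.leaf 987)))) (.node (.node (.node (.leaf 1318) (.leaf 1346)) (.node (.leaf 2951) (.leaf 4062))) (.node (.node (.leaf 2335) (.leaf 224)) (.node (.leaf 3149) (.leaf 2132))))))))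

def twoNext112 : Janko.Tree (ℕ) :=
  (.node (.node (.node (.node (.node (.node (.node (.leaf 94) (.leaf 3226)) (.node (.leaf 2311) (.leaf 1999))) (.node (.node (.leaf 824) (.leaf 1358)) (.node (.leaf 957) (.leaf 3936)))) (.node (.node (.node (.leaf 88) (.leaf 1363)) (.node (.leaf 2683) (.leaf 4060))) (.node (.node (.leaf 1912) (.leaf 2796)) (.node (.leaf 3340) (.leaf 2875))))) (.node (.node (.node (.node (.leaf 471) (.leaf 3334)) (.node (.leaf 2409) (.leaf 1743))) (.node (.node (.leaf 228) (.leaf 3095)) (.node (.leaf 679) (.leaf 2393)))) (.node (.node (.node (.leaf 190) (.leaf 3313)) (.node (.leaf 565) (.leaf 3962))) (.node (.node (.leaf 326) (.leaf 3935)) (.node (.leaf 3467) (.leaf 3764)))))) (.node (.node (.node (.node (.node (.leaf 296) (.leaf 3504)) (.node (.leaf 1921) (.leaf 2388))) (.node (.node (.leaf 1526) (.leaf 1266)) (.node (.leaf 1022) (.leaf 2240)))) (.node (.node (.node (.leaf 771) (.leaf 1169)) (.node (.leaf 1971) (.leaf 2697))) (.node (.node (.leaf 2061) (.leaf 2099)) (.node (.leaf 770) (.leaf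 3016))))) (.node (.node (.node (.node (.leaf 598) (.leaf 3299)) (.node (.leaf 2626) (.leaf 2040))) (.node (.node (.leaf 1803) (.leaf 3688)) (.node (.leaf 1011) (.leaf 4082)))) (.node (.node (.node (.leaf 1248) (.leaf 2988)) (.node (.leaf 1078) (.leaf 2050))) (.node (.node (.leaf 2283) (.leaf 1589)) (.node (.leaf 1406) (.leaf 3356))))))) (.node (.node (.node (.node (.node (.node (.leaf 195) (.leaf 3588)) (.node (.leaf 398) (.leaf 2509))) (.node (.node (.leaf 776) (.leaf 3464)) (.node (.leaf 1378) (.leaf 3986)))) (.node (.node (.node (.leaf 894) (.leaf 1034)) (.node (.leaf 1939) (.leaf 2778))) (.node (.node (.leaf 291) (.leaf 2319)) (.node (.leaf 755) (.leaf 3248))))) (.node (.node (.node (.node (.leaf 270) (.leaf 1040)) (.node (.leaf 2387) (.leaf 2263))) (.node (.node (.leaf 1733) (.leaf 3537)) (.node (.leaf 760) (.leaf 2514)))) (.node (.node (.node (.leaf 1065) (.leaf 1135)) (.node (.leaf 2828) (.leaf 2395))) (.node (.node (.leaf 1991) (.leaf 1982)) (.node (.leaf 3491) (.leaf 3538)))))) (.node (.node (.node (.node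 (.node (.leaf 391) (.leaf 3463)) (.node (.leaf 1836) (.leaf 2498))) (.node (.node (.leaf 1592) (.leaf 1309)) (.node (.leaf 3152) (.leaf 2327)))) (.node (.node (.node (.leaf 684) (.leaf 2956)) (.node (.leaf 1559) (.leaf 2565))) (.node (.node (.leaf 339) (.leaf 1524)) (.node (.leaf 3445) (.leaf 3283))))) (.node (.node (.node (.node (.leaf 78) (.leaf 3339)) (.node (.leaf 1646) (.leaf 4020))) (.node (.node (.leaf 1871) (.leaf 2510)) (.node (.leaf 1241) (.leaf 3571)))) (.node (.node (.node (.leaf 1319) (.leaf 3739)) (.node (.leaf 1067) (.leaf 3866))) (.node (.node (.leaf 370) (.leaf 2127)) (.node (.leaf 847) (.leaf 4033))))))))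

def twoNext113 : Janko.Tree (ℕ) :=
  (.node (.node (.node (.node (.node (.node (.node (.leaf 8) (.leaf 3437)) (.node (.leaf 383) (.leaf 1969))) (.node (.node (.leaf 1385) (.leaf 3608)) (.node (.leaf 2997) (.leaf 3912)))) (.node (.node (.node (.leaf 810) (.leaf 1018)) (.node (.leaf 504) (.leaf 3926))) (.node (.node (.leaf 1667) (.leaf 1844)) (.node (.leaf 3341) (.leaf 2965))))) (.node (.node (.node (.node (.leaf 472) (.leaf 3329)) (.node (.leaf 2537) (.leaf 2727))) (.node (.node (.leaf 358) (.leaf 2882)) (.node (.leaf 743) (.leaf 4084)))) (.node (.node (.node (.leaf 1112) (.leaf 3653)) (.node (.leaf 2062) (.leaf 1975))) (.node (.node (.leaf 458) (.leaf 2710)) (.node (.leaf 3237) (.leaf 3113)))))) (.node (.node (.node (.node (.node (.leaf 297) (.leaf 3614)) (.node (.leaf 1983) (.leaf 4000))) (.node (.node (.leaf 1527) (.leaf 3761)) (.node (.leaf 3105) (.leaf 2496)))) (.node (.node (.node (.leaf 972) (.leaf 1054)) (.node (.leaf 1960) (.leaf 2285))) (.node (.node (.leaf 1986) (.leaf 1967)) (.node (.leaf 2868) (.leaf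 3754))))) (.node (.node (.node (.node (.leaf 643) (.leaf 977)) (.node (.leaf 474) (.leaf 1784))) (.node (.node (.leaf 1804) (.leaf 3697)) (.node (.leaf 709) (.leaf 2796)))) (.node (.node (.node (.leaf 703) (.leaf 3458)) (.node (.leaf 595) (.leaf 2434))) (.node (.node (.leaf 355) (.leaf 2800)) (.node (.leaf 1057) (.leaf 3519))))))) (.node (.node (.node (.node (.node (.node (.leaf 196) (.leaf 3589)) (.node (.leaf 2080) (.leaf 1644))) (.node (.node (.leaf 1449) (.leaf 3644)) (.node (.leaf 3048) (.leaf 2620)))) (.node (.node (.node (.leaf 99) (.leaf 3731)) (.node (.leaf 516) (.leaf 1856))) (.node (.node (.leaf 2008) (.leaf 2540)) (.node (.leaf 3381) (.leaf 2916))))) (.node (.node (.node (.node (.leaf 554) (.leaf 957)) (.node (.leaf 2380) (.leaf 1963))) (.node (.node (.leaf 1734) (.leaf 3684)) (.node (.leaf 3226) (.leaf 2589)))) (.node (.node (.node (.leaf 1179) (.leaf 1341)) (.node (.leaf 583) (.leaf 2014))) (.node (.node (.leaf 341) (.leaf 2101)) (.node (.leaf 3492) (.leaf 3219)))))) (.node (.node (.node (.node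 (.node (.leaf 37) (.leaf 915)) (.node (.leaf 428) (.leaf 1845))) (.node (.node (.leaf 1593) (.leaf 3106)) (.node (.leaf 3153) (.leaf 2687)))) (.node (.node (.node (.leaf 1046) (.leaf 1150)) (.node (.leaf 548) (.leaf 1925))) (.node (.node (.leaf 2128) (.leaf 2757)) (.node (.leaf 784) (.leaf 3141))))) (.node (.node (.node (.node (.leaf 727) (.leaf 3703)) (.node (.leaf 488) (.leaf 1805))) (.node (.node (.leaf 1872) (.leaf 1460)) (.node (.leaf 3299) (.leaf 3546)))) (.node (.node (.node (.leaf 1320) (.leaf 3783)) (.node (.leaf 715) (.leaf 2100))) (.node (.node (.leaf 479) (.leaf 1696)) (.node (.leaf 1146) (.leaf 3862))))))))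

def twoNext114 : Janko.Tree (ℕ) :=
  (.node (.node (.node (.node (.node (.node (.node (.leaf 95) (.leaf 867)) (.node (.leaf 2390) (.leaf 1625))) (.node (.node (.leaf 182) (.leaf 3369)) (.node (.leaf 621) (.leaf 2136)))) (.node (.node (.node (.leaf 646) (.leaf 3525)) (.node (.leaf 2561) (.leaf 2516))) (.node (.node (.leaf 1945) (.leaf 3843)) (.node (.leaf 3342) (.leaf 2970))))) (.node (.node (.node (.node (.leaf 47) (.leaf 3528)) (.node (.leaf 444) (.leaf 1725))) (.node (.node (.leaf 1495) (.leaf 3640)) (.node (.leaf 1147) (.leaf 3897)))) (.node (.node (.node (.leaf 881) (.leaf 1109)) (.node (.leaf 2096) (.leaf 2223))) (.node (.node (.leaf 2090) (.leaf 2735)) (.node (.leaf 3468) (.leaf 3279)))))) (.node (.node (.node (.node (.node (.leaf 27) (.leaf 898)) (.node (.leaf 1990) (.leaf 1971))) (.node (.node (.leaf 1528) (.leaf 3548)) (.node (.leaf 3106) (.leaf 2603)))) (.node (.node (.node (.leaf 110) (.leaf 3200)) (.node (.leaf 2415) (.leaf 2789))) (.node (.node (.leaf 1919) (.leaf 2386)) (.node (.leaf 3297) (.leaf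 3284))))) (.node (.node (.node (.node (.leaf 644) (.leaf 3403)) (.node (.leaf 2444) (.leaf 1835))) (.node (.node (.leaf 1805) (.leaf 3515)) (.node (.leaf 3260) (.leaf 4086)))) (.node (.node (.node (.leaf 157) (.leaf 3777)) (.node (.leaf 652) (.leaf 2652))) (.node (.node (.leaf 2284) (.leaf 3945)) (.node (.leaf 830) (.leaf 3772))))))) (.node (.node (.node (.node (.node (.node (.leaf 197) (.leaf 3570)) (.node (.leaf 2315) (.leaf 2485))) (.node (.node (.leaf 1245) (.leaf 3337)) (.node (.leaf 3049) (.leaf 2481)))) (.node (.node (.node (.leaf 895) (.leaf 3449)) (.node (.leaf 2712) (.leaf 1869))) (.node (.node (.leaf 1947) (.leaf 2263)) (.node (.leaf 3382) (.leaf 3148))))) (.node (.node (.node (.node (.leaf 555) (.leaf 1296)) (.node (.leaf 2580) (.leaf 1756))) (.node (.node (.leaf 1735) (.leaf 1386)) (.node (.leaf 695) (.leaf 4060)))) (.node (.node (.node (.leaf 1180) (.leaf 3711)) (.node (.leaf 2829) (.leaf 2397))) (.node (.node (.leaf 2235) (.leaf 1568)) (.node (.leaf 814) (.leaf 3462)))))) (.node (.node (.node (.node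 (.node (.leaf 392) (.leaf 3262)) (.node (.leaf 2501) (.leaf 1693))) (.node (.node (.leaf 1594) (.leaf 1327)) (.node (.leaf 3075) (.leaf 4083)))) (.node (.node (.node (.leaf 120) (.leaf 1078)) (.node (.leaf 2762) (.leaf 4024))) (.node (.node (.leaf 315) (.leaf 1772)) (.node (.leaf 3316) (.leaf 3067))))) (.node (.node (.node (.node (.leaf 728) (.leaf 997)) (.node (.leaf 2583) (.leaf 4054))) (.node (.node (.leaf 266) (.leaf 2488)) (.node (.leaf 768) (.leaf 4089)))) (.node (.node (.node (.leaf 1321) (.leaf 1300)) (.node (.leaf 606) (.leaf 2718))) (.node (.node (.leaf 1703) (.leaf 1609)) (.node (.leaf 3333) (.leaf 4043))))))))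

def twoNext115 : Janko.Tree (ℕ) :=
  (.node (.node (.node (.node (.node (.node (.node (.leaf 96) (.leaf 1385)) (.node (.leaf 2391) (.leaf 3991))) (.node (.node (.leaf 1386) (.leaf 3573)) (.node (.leaf 2998) (.leaf 4021)))) (.node (.node (.node (.leaf 811) (.leaf 3715)) (.node (.leaf 2329) (.leaf 2693))) (.node (.node (.leaf 1946) (.leaf 1818)) (.node (.leaf 2918) (.leaf 4093))))) (.node (.node (.node (.node (.leaf 473) (.leaf 1094)) (.node (.leaf 2538) (.leaf 2625))) (.node (.node (.leaf 524) (.leaf 3636)) (.node (.leaf 1158) (.leaf 3860)))) (.node (.node (.node (.leaf 1113) (.leaf 2872)) (.node (.leaf 2789) (.leaf 3923))) (.node (.node (.leaf 2190) (.leaf 326)) (.node (.leaf 104) (.leaf 1404)))))) (.node (.node (.node (.node (.node (.leaf 298) (.leaf 3615)) (.node (.leaf 2065) (.leaf 2239))) (.node (.node (.leaf 249) (.leaf 3132)) (.node (.leaf 3100) (.leaf 2509)))) (.node (.node (.node (.leaf 973) (.leaf 1416)) (.node (.leaf 1482) (.leaf 2715))) (.node (.node (.leaf 2062) (.leaf 3848)) (.node (.leaf 2808)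 (.leaf 3552))))) (.node (.node (.node (.node (.leaf 645) (.leaf 1329)) (.node (.leaf 2627) (.leaf 4025))) (.node (.node (.leaf 1512) (.leaf 3397)) (.node (.leaf 586) (.leaf 1467)))) (.node (.node (.node (.leaf 1249) (.leaf 3019)) (.node (.leaf 2896) (.leaf 1599))) (.node (.node (.leaf 2285) (.leaf 2309)) (.node (.leaf 3515) (.leaf 1411))))))) (.node (.node (.node (.node (.node (.node (.leaf 72) (.leaf 633)) (.node (.leaf 2438) (.leaf 2768))) (.node (.node (.leaf 1005) (.leaf 3590)) (.node (.leaf 972) (.leaf 1550)))) (.node (.node (.node (.leaf 896) (.leaf 3122)) (.node (.leaf 2213) (.leaf 2392))) (.node (.node (.leaf 2009) (.leaf 2186)) (.node (.leaf 708) (.leaf 3280))))) (.node (.node (.node (.node (.leaf 556) (.leaf 1228)) (.node (.leaf 237) (.leaf 2076))) (.node (.node (.leaf 1635) (.leaf 3428)) (.node (.leaf 3227) (.leaf 2797)))) (.node (.node (.node (.leaf 907) (.leaf 3716)) (.node (.leaf 970) (.leaf 2272))) (.node (.node (.leaf 469) (.leaf 1695)) (.node (.leaf 3493) (.leaf 3215)))))) (.node (.node (.node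 (.node (.node (.leaf 393) (.leaf 3586)) (.node (.leaf 2281) (.leaf 3913))) (.node (.node (.leaf 201) (.leaf 3359)) (.node (.leaf 3154) (.leaf 3907)))) (.node (.node (.node (.leaf 975) (.leaf 839)) (.node (.leaf 2763) (.leaf 1727))) (.node (.node (.leaf 1783) (.leaf 3918)) (.node (.leaf 3042) (.leaf 3001))))) (.node (.node (.node (.node (.leaf 729) (.leaf 2991)) (.node (.leaf 2649) (.leaf 2109))) (.node (.node (.leaf 1873) (.leaf 1889)) (.node (.leaf 3300) (.leaf 2847)))) (.node (.node (.node (.leaf 1322) (.leaf 3777)) (.node (.leaf 2952) (.leaf 4076))) (.node (.node (.leaf 2336) (.leaf 2085)) (.node (.leaf 2928) (.leaf 4051))))))))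

def twoNext116 : Janko.Tree (ℕ) :=
  (.node (.node (.node (.node (.node (.node (.node (.leaf 97) (.leaf 1012)) (.node (.leaf 2392) (.leaf 2197))) (.node (.node (.leaf 1387) (.leaf 1345)) (.node (.leaf 2983) (.leaf 2137)))) (.node (.node (.node (.leaf 812) (.leaf 3624)) (.node (.leaf 2684) (.leaf 3989))) (.node (.node (.leaf 1544) (.leaf 1476)) (.node (.leaf 740) (.leaf 3039))))) (.node (.node (.node (.node (.leaf 474) (.leaf 2954)) (.node (.leaf 445) (.leaf 1770))) (.node (.node (.leaf 392) (.leaf 3335)) (.node (.leaf 3195) (.leaf 4003)))) (.node (.node (.node (.leaf 1114) (.leaf 3460)) (.node (.leaf 2578) (.leaf 3871))) (.node (.node (.leaf 2191) (.leaf 3859)) (.node (.leaf 799) (.leaf 3115)))))) (.node (.node (.node (.node (.node (.leaf 299) (.leaf 2977)) (.node (.leaf 2030) (.leaf 1668))) (.node (.node (.leaf 207) (.leaf 2824)) (.node (.leaf 650) (.leaf 4041)))) (.node (.node (.node (.leaf 911) (.leaf 1057)) (.node (.leaf 534) (.leaf 2739))) (.node (.node (.leaf 304) (.leaf 2160)) (.node (.leaf 3416) (.leaf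 3668))))) (.node (.node (.node (.node (.leaf 68) (.leaf 3018)) (.node (.leaf 1891) (.leaf 2611))) (.node (.node (.leaf 254) (.leaf 1430)) (.node (.leaf 3222) (.leaf 2693)))) (.node (.node (.node (.leaf 1250) (.leaf 3274)) (.node (.leaf 2897) (.leaf 4081))) (.node (.node (.leaf 2286) (.leaf 3950)) (.node (.leaf 1425) (.leaf 3582))))))) (.node (.node (.node (.node (.node (.node (.leaf 198) (.leaf 885)) (.node (.leaf 2385) (.leaf 2541))) (.node (.node (.leaf 196) (.leaf 1239)) (.node (.leaf 638) (.leaf 2176)))) (.node (.node (.node (.leaf 897) (.leaf 3392)) (.node (.leaf 2713) (.leaf 4036))) (.node (.node (.leaf 2010) (.leaf 2155)) (.node (.leaf 1254) (.leaf 2918))))) (.node (.node (.node (.node (.leaf 58) (.leaf 3343)) (.node (.leaf 459) (.leaf 3839))) (.node (.node (.leaf 1690) (.leaf 3358)) (.node (.leaf 709) (.leaf 2751)))) (.node (.node (.node (.leaf 1181) (.leaf 3664)) (.node (.leaf 2830) (.leaf 2708))) (.node (.node (.leaf 1564) (.leaf 1571)) (.node (.leaf 3494) (.leaf 3731)))))) (.node (.node (.node (.node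 (.node (.leaf 394) (.leaf 3642)) (.node (.leaf 1654) (.leaf 2487))) (.node (.node (.leaf 218) (.leaf 3646)) (.node (.leaf 2943) (.leaf 3974)))) (.node (.node (.node (.leaf 923) (.leaf 1079)) (.node (.leaf 2007) (.leaf 2680))) (.node (.node (.leaf 367) (.leaf 3894)) (.node (.leaf 3361) (.leaf 3042))))) (.node (.node (.node (.node (.leaf 730) (.leaf 1046)) (.node (.leaf 489) (.leaf 1976))) (.node (.node (.leaf 1874) (.leaf 1473)) (.node (.leaf 3301) (.leaf 2839)))) (.node (.node (.node (.leaf 1323) (.leaf 3784)) (.node (.leaf 713) (.leaf 4080))) (.node (.node (.leaf 2337) (.leaf 2305)) (.node (.leaf 3291) (.leaf 4086))))))))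

def twoNext117 : Janko.Tree (ℕ) :=
  (.node (.node (.node (.node (.node (.node (.node (.leaf 98) (.leaf 1256)) (.node (.leaf 2393) (.leaf 1767))) (.node (.node (.leaf 1388) (.leaf 3772)) (.node (.leaf 1088) (.leaf 2666)))) (.node (.node (.node (.leaf 813) (.leaf 3489)) (.node (.leaf 2685) (.leaf 1829))) (.node (.node (.leaf 1947) (.leaf 2463)) (.node (.leaf 3343) (.leaf 3307))))) (.node (.node (.node (.node (.leaf 475) (.leaf 935)) (.node (.leaf 2413) (.leaf 1922))) (.node (.node (.leaf 1671) (.leaf 1347)) (.node (.leaf 679) (.leaf 2394)))) (.node (.node (.node (.leaf 134) (.leaf 3578)) (.node (.leaf 1943) (.leaf 2481))) (.node (.node (.leaf 2192) (.leaf 1549)) (.node (.leaf 2963) (.leaf 3291)))))) (.node (.node (.node (.node (.node (.leaf 300) (.leaf 3330)) (.node (.leaf 414) (.leaf 4013))) (.node (.node (.leaf 1529) (.leaf 3756)) (.node (.leaf 789) (.leaf 3904)))) (.node (.node (.node (.leaf 974) (.leaf 3503)) (.node (.leaf 2374) (.leaf 4068))) (.node (.node (.leaf 2063) (.leaf 1508)) (.node (.leaf 770) (.leaf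 2959))))) (.node (.node (.node (.node (.leaf 646) (.leaf 3500)) (.node (.leaf 2095) (.leaf 3899))) (.node (.node (.leaf 1806) (.leaf 3665)) (.node (.leaf 3011) (.leaf 3995)))) (.node (.node (.node (.leaf 158) (.leaf 1169)) (.node (.leaf 1066) (.leaf 2287))) (.node (.node (.leaf 2213) (.leaf 2787)) (.node (.leaf 3471) (.leaf 3365))))))) (.node (.node (.node (.node (.node (.node (.leaf 18) (.leaf 3251)) (.node (.leaf 418) (.leaf 1755))) (.node (.node (.leaf 628) (.leaf 3528)) (.node (.leaf 779) (.leaf 3993)))) (.node (.node (.node (.leaf 898) (.leaf 1034)) (.node (.leaf 2492) (.leaf 4067))) (.node (.node (.leaf 1557) (.leaf 1491)) (.node (.leaf 755) (.leaf 3467))))) (.node (.node (.node (.node (.leaf 557) (.leaf 1353)) (.node (.leaf 2531) (.leaf 1758))) (.node (.node (.leaf 1736) (.leaf 3138)) (.node (.leaf 827) (.leaf 4051)))) (.node (.node (.node (.leaf 146) (.leaf 1136)) (.node (.leaf 800) (.leaf 2377))) (.node (.node (.leaf 2236) (.leaf 2011)) (.node (.leaf 3184) (.leaf 3232)))))) (.node (.node (.node (.node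 (.node (.leaf 395) (.leaf 1432)) (.node (.leaf 1525) (.leaf 2406))) (.node (.node (.leaf 1595) (.leaf 1309)) (.node (.leaf 664) (.leaf 2802)))) (.node (.node (.node (.leaf 1047) (.leaf 1266)) (.node (.leaf 2728) (.leaf 1926))) (.node (.node (.leaf 2129) (.leaf 1524)) (.node (.leaf 3239) (.leaf 3493))))) (.node (.node (.node (.node (.leaf 731) (.leaf 3526)) (.node (.leaf 2187) (.leaf 2371))) (.node (.node (.leaf 1875) (.leaf 2548)) (.node (.leaf 726) (.leaf 3259)))) (.node (.node (.node (.leaf 170) (.leaf 1194)) (.node (.leaf 1114) (.leaf 2554))) (.node (.node (.leaf 370) (.leaf 1610)) (.node (.leaf 3192) (.leaf 4063))))))))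

def twoNext118 : Janko.Tree (ℕ) :=
  (.node (.node (.node (.node (.node (.node (.node (.leaf 8) (.leaf 868)) (.node (.leaf 2394) (.leaf 3938))) (.node (.node (.leaf 1389) (.leaf 1220)) (.node (.leaf 2999) (.leaf 3831)))) (.node (.node (.node (.leaf 88) (.leaf 3421)) (.node (.leaf 504) (.leaf 2147))) (.node (.node (.leaf 278) (.leaf 2035)) (.node (.leaf 819) (.leaf 2910))))) (.node (.node (.node (.node (.leaf 476) (.leaf 3663)) (.node (.leaf 2539) (.leaf 1898))) (.node (.node (.leaf 228) (.leaf 3535)) (.node (.leaf 3196) (.leaf 4044)))) (.node (.node (.node (.leaf 1115) (.leaf 1330)) (.node (.leaf 565) (.leaf 1975))) (.node (.node (.leaf 326) (.leaf 2732)) (.node (.leaf 3435) (.leaf 3618)))))) (.node (.node (.node (.node (.node (.leaf 301) (.leaf 3475)) (.node (.leaf 2101) (.leaf 2464))) (.node (.node (.leaf 1499) (.leaf 1382)) (.node (.leaf 807) (.leaf 2355)))) (.node (.node (.node (.leaf 975) (.leaf 3516)) (.node (.leaf 2024) (.leaf 2333))) (.node (.node (.leaf 1520) (.leaf 2276)) (.node (.leaf 1259) (.leaf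 3108))))) (.node (.node (.node (.node (.leaf 647) (.leaf 3686)) (.node (.leaf 572) (.leaf 2006))) (.node (.node (.leaf 472) (.leaf 1433)) (.node (.leaf 709) (.leaf 2749)))) (.node (.node (.node (.leaf 1251) (.leaf 3032)) (.node (.leaf 595) (.leaf 2050))) (.node (.node (.leaf 396) (.leaf 1589)) (.node (.leaf 3136) (.leaf 3748))))))) (.node (.node (.node (.node (.node (.node (.leaf 199) (.leaf 2877)) (.node (.leaf 398) (.leaf 1646))) (.node (.node (.leaf 1279) (.leaf 3447)) (.node (.leaf 3050) (.leaf 2706)))) (.node (.node (.node (.leaf 99) (.leaf 3107)) (.node (.leaf 2612) (.leaf 2662))) (.node (.node (.leaf 291) (.leaf 2109)) (.node (.leaf 3383) (.leaf 3347))))) (.node (.node (.node (.node (.leaf 254) (.leaf 3246)) (.node (.leaf 2238) (.leaf 4014))) (.node (.node (.leaf 243) (.leaf 3805)) (.node (.leaf 3228) (.leaf 3993)))) (.node (.node (.node (.leaf 1182) (.leaf 3701)) (.node (.leaf 583) (.leaf 2014))) (.node (.node (.leaf 341) (.leaf 2442)) (.node (.leaf 3402) (.leaf 3647)))))) (.node (.node (.node (.node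 (.node (.leaf 37) (.leaf 915)) (.node (.leaf 2486) (.leaf 2581))) (.node (.node (.leaf 275) (.leaf 3638)) (.node (.leaf 3155) (.leaf 3890)))) (.node (.node (.node (.leaf 1048) (.leaf 3685)) (.node (.leaf 578) (.leaf 4009))) (.node (.node (.leaf 2130) (.leaf 1758)) (.node (.leaf 3446) (.leaf 3156))))) (.node (.node (.node (.node (.leaf 78) (.leaf 998)) (.node (.leaf 1814) (.leaf 1962))) (.node (.node (.leaf 1583) (.leaf 2668)) (.node (.leaf 962) (.leaf 2905)))) (.node (.node (.node (.leaf 1324) (.leaf 3556)) (.node (.leaf 727) (.leaf 4035))) (.node (.node (.leaf 1997) (.leaf 2763)) (.node (.leaf 847) (.leaf 4069))))))))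

def twoNext119 : Janko.Tree (ℕ) :=
  (.node (.node (.node (.node (.node (.node (.node (.leaf 99) (.leaf 3065)) (.node (.leaf 2395) (.leaf 1627))) (.node (.node (.leaf 1390) (.leaf 3460)) (.node (.leaf 1377) (.leaf 2284)))) (.node (.node (.node (.leaf 814) (.leaf 1389)) (.node (.leaf 2686) (.leaf 3999))) (.node (.node (.leaf 1948) (.leaf 3844)) (.node (.leaf 84) (.leaf 3611))))) (.node (.node (.node (.node (.leaf 21) (.leaf 3664)) (.node (.leaf 2486) (.leaf 2798))) (.node (.node (.leaf 1672) (.leaf 3749)) (.node (.leaf 1066) (.leaf 1746)))) (.node (.node (.node (.leaf 1116) (.leaf 2980)) (.node (.leaf 1713) (.leaf 2788))) (.node (.node (.leaf 2193) (.leaf 2365)) (.node (.leaf 184) (.leaf 3800)))))) (.node (.node (.node (.node (.node (.leaf 39) (.leaf 2924)) (.node (.leaf 2244) (.leaf 1931))) (.node (.node (.leaf 1530) (.leaf 3805)) (.node (.leaf 127) (.leaf 2713)))) (.node (.node (.node (.leaf 976) (.leaf 981)) (.node (.leaf 45) (.leaf 4071))) (.node (.node (.leaf 2064) (.leaf 1751)) (.node (.leaf 998) (.leaf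 2940))))) (.node (.node (.node (.node (.leaf 648) (.leaf 3388)) (.node (.leaf 2418) (.leaf 255))) (.node (.node (.leaf 1807) (.leaf 3796)) (.node (.leaf 2884) (.leaf 55)))) (.node (.node (.node (.leaf 1252) (.leaf 3778)) (.node (.leaf 720) (.leaf 1654))) (.node (.node (.leaf 268) (.leaf 2703)) (.node (.leaf 3238) (.leaf 1348))))))) (.node (.node (.node (.node (.node (.node (.leaf 200) (.leaf 1179)) (.node (.leaf 1612) (.leaf 3893))) (.node (.node (.leaf 1450) (.leaf 1294)) (.node (.leaf 3051) (.leaf 3916)))) (.node (.node (.node (.leaf 899) (.leaf 1093)) (.node (.leaf 2714) (.leaf 3830))) (.node (.node (.leaf 284) (.leaf 2583)) (.node (.leaf 3231) (.leaf 791))))) (.node (.node (.node (.node (.leaf 558) (.leaf 114)) (.node (.leaf 2581) (.leaf 4019))) (.node (.node (.leaf 1737) (.leaf 1412)) (.node (.leaf 3229) (.leaf 2100)))) (.node (.node (.node (.leaf 1183) (.leaf 3475)) (.node (.leaf 2831) (.leaf 4003))) (.node (.node (.leaf 2237) (.leaf 2594)) (.node (.leaf 3495) (.leaf 1121)))))) (.node (.node (.node (.node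 (.node (.leaf 396) (.leaf 3224)) (.node (.leaf 2502) (.leaf 2504))) (.node (.node (.leaf 1596) (.leaf 3701)) (.node (.leaf 3156) (.leaf 4011)))) (.node (.node (.node (.leaf 1016) (.leaf 663)) (.node (.leaf 2521) (.leaf 1792))) (.node (.node (.leaf 2044) (.leaf 1852)) (.node (.leaf 819) (.leaf 3432))))) (.node (.node (.node (.node (.leaf 732) (.leaf 3704)) (.node (.leaf 2661) (.leaf 424))) (.node (.node (.leaf 1663) (.leaf 2105)) (.node (.leaf 1206) (.leaf 4091)))) (.node (.node (.node (.leaf 1325) (.leaf 3362)) (.node (.leaf 2953) (.leaf 2516))) (.node (.node (.leaf 2338) (.leaf 1774)) (.node (.leaf 1180) (.leaf 307))))))))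

def twoNext120 : Janko.Tree (ℕ) :=
  (.node (.node (.node (.node (.node (.node (.node (.leaf 100) (.leaf 3417)) (.node (.leaf 384) (.leaf 1626))) (.node (.node (.leaf 1391) (.leaf 3049)) (.node (.leaf 622) (.leaf 2502)))) (.node (.node (.node (.leaf 815) (.leaf 3716)) (.node (.leaf 2687) (.leaf 2749))) (.node (.node (.leaf 1470) (.leaf 2666)) (.node (.leaf 1384) (.leaf 2880))))) (.node (.node (.node (.node (.leaf 48) (.leaf 976)) (.node (.leaf 2238) (.leaf 2405))) (.node (.node (.leaf 1673) (.leaf 1349)) (.node (.leaf 1143) (.leaf 3931)))) (.node (.node (.node (.leaf 185) (.leaf 3322)) (.node (.leaf 2246) (.leaf 4025))) (.node (.node (.leaf 1525) (.leaf 2225)) (.node (.leaf 3456) (.leaf 3733)))))) (.node (.node (.node (.node (.node (.leaf 28) (.leaf 899)) (.node (.leaf 485) (.leaf 1819))) (.node (.node (.leaf 1531) (.leaf 1294)) (.node (.leaf 3107) (.leaf 2252)))) (.node (.node (.node (.leaf 111) (.leaf 3706)) (.node (.leaf 2734) (.leaf 4072))) (.node (.node (.leaf 2065) (.leaf 1669)) (.node (.leaf 839) (.leaf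 3669))))) (.node (.node (.node (.node (.leaf 649) (.leaf 3687)) (.node (.leaf 475) (.leaf 1864))) (.node (.node (.leaf 1711) (.leaf 3238)) (.node (.leaf 3237) (.leaf 4027)))) (.node (.node (.node (.leaf 1253) (.leaf 1170)) (.node (.leaf 2898) (.leaf 2051))) (.node (.node (.leaf 2287) (.leaf 2786)) (.node (.leaf 831) (.leaf 3371))))))) (.node (.node (.node (.node (.node (.node (.leaf 201) (.leaf 3502)) (.node (.leaf 399) (.leaf 1684))) (.node (.node (.leaf 1370) (.leaf 3797)) (.node (.leaf 639) (.leaf 2685)))) (.node (.node (.node (.leaf 900) (.leaf 3732)) (.node (.leaf 517) (.leaf 1857))) (.node (.node (.leaf 2011) (.leaf 2129)) (.node (.leaf 3384) (.leaf 3104))))) (.node (.node (.node (.node (.leaf 412) (.leaf 1182)) (.node (.leaf 2539) (.leaf 1942))) (.node (.node (.leaf 1738) (.leaf 3470)) (.node (.leaf 696) (.leaf 2795)))) (.node (.node (.node (.leaf 737) (.leaf 1417)) (.node (.leaf 798) (.leaf 2540))) (.node (.node (.leaf 1806) (.leaf 1737)) (.node (.leaf 3004) (.leaf 3754)))))) (.node (.node (.node (.node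 (.node (.leaf 397) (.leaf 2815)) (.node (.leaf 429) (.leaf 1695))) (.node (.node (.leaf 1597) (.leaf 3367)) (.node (.leaf 3015) (.leaf 2491)))) (.node (.node (.node (.leaf 121) (.leaf 3680)) (.node (.leaf 2012) (.leaf 1927))) (.node (.node (.leaf 316) (.leaf 2193)) (.node (.leaf 785) (.leaf 3649))))) (.node (.node (.node (.node (.leaf 733) (.leaf 3321)) (.node (.leaf 1782) (.leaf 2777))) (.node (.node (.leaf 1876) (.leaf 1461)) (.node (.leaf 825) (.leaf 2840)))) (.node (.node (.node (.leaf 685) (.leaf 1195)) (.node (.leaf 607) (.leaf 4061))) (.node (.node (.leaf 1628) (.leaf 1674)) (.node (.leaf 848) (.leaf 3960))))))))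

def twoNext121 : Janko.Tree (ℕ) :=
  (.node (.node (.node (.node (.node (.node (.node (.leaf 101) (.leaf 2996)) (.node (.leaf 2396) (.leaf 2776))) (.node (.node (.leaf 183) (.leaf 3491)) (.node (.leaf 1041) (.leaf 2140)))) (.node (.node (.node (.leaf 816) (.leaf 1019)) (.node (.leaf 2315) (.leaf 4017))) (.node (.node (.leaf 279) (.leaf 1477)) (.node (.leaf 740) (.leaf 3583))))) (.node (.node (.node (.node (.leaf 477) (.leaf 3558)) (.node (.leaf 2417) (.leaf 2736))) (.node (.node (.leaf 1674) (.leaf 3636)) (.node (.leaf 3121) (.leaf 2626)))) (.node (.node (.node (.leaf 1117) (.leaf 3755)) (.node (.leaf 2147) (.leaf 1977))) (.node (.node (.leaf 1748) (.leaf 2165)) (.node (.leaf 3469) (.leaf 3556)))))) (.node (.node (.node (.node (.node (.leaf 302) (.leaf 2943)) (.node (.leaf 2466) (.leaf 1781))) (.node (.node (.leaf 207) (.leaf 3111)) (.node (.leaf 3108) (.leaf 2344)))) (.node (.node (.node (.leaf 840) (.leaf 3000)) (.node (.leaf 534) (.leaf 1896))) (.node (.node (.leaf 304) (.leaf 1765)) (.node (.leaf 771) (.leaf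 3355))))) (.node (.node (.node (.node (.leaf 650) (.leaf 3688)) (.node (.leaf 2447) (.leaf 1785))) (.node (.node (.leaf 254) (.leaf 3712)) (.node (.leaf 3261) (.leaf 4018)))) (.node (.node (.node (.leaf 1254) (.leaf 3750)) (.node (.leaf 745) (.leaf 3972))) (.node (.node (.leaf 1834) (.leaf 2387)) (.node (.leaf 3516) (.leaf 3725))))))) (.node (.node (.node (.node (.node (.node (.leaf 202) (.leaf 885)) (.node (.leaf 2439) (.leaf 1920))) (.node (.node (.leaf 955) (.leaf 3652)) (.node (.leaf 3052) (.leaf 2795)))) (.node (.node (.node (.leaf 901) (.leaf 2993)) (.node (.leaf 2649) (.leaf 3956))) (.node (.node (.leaf 1636) (.leaf 1492)) (.node (.leaf 3385) (.leaf 3686))))) (.node (.node (.node (.node (.leaf 559) (.leaf 3656)) (.node (.leaf 2582) (.leaf 3935))) (.node (.node (.leaf 1739) (.leaf 3784)) (.node (.leaf 794) (.leaf 2515)))) (.node (.node (.node (.leaf 1184) (.leaf 3767)) (.node (.leaf 746) (.leaf 2017))) (.node (.node (.leaf 552) (.leaf 2015)) (.node (.leaf 815) (.leaf 3622)))))) (.node (.node (.node (.node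 (.node (.leaf 398) (.leaf 916)) (.node (.leaf 2428) (.leaf 2682))) (.node (.node (.leaf 263) (.leaf 3736)) (.node (.leaf 3157) (.leaf 2707)))) (.node (.node (.node (.leaf 1049) (.leaf 1386)) (.node (.leaf 549) (.leaf 2338))) (.node (.node (.leaf 2131) (.leaf 3919)) (.node (.leaf 3276) (.leaf 3045))))) (.node (.node (.node (.node (.leaf 734) (.leaf 3705)) (.node (.leaf 2253) (.leaf 1923))) (.node (.node (.leaf 267) (.leaf 2423)) (.node (.leaf 3302) (.leaf 2902)))) (.node (.node (.node (.leaf 1051) (.leaf 3604)) (.node (.leaf 2954) (.leaf 2414))) (.node (.node (.leaf 2339) (.leaf 1611)) (.node (.leaf 3144) (.leaf 4036))))))))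

def twoNext122 : Janko.Tree (ℕ) :=
  (.node (.node (.node (.node (.node (.node (.node (.leaf 102) (.leaf 3286)) (.node (.leaf 2282) (.leaf 2758))) (.node (.node (.leaf 1222) (.leaf 3715)) (.node (.leaf 3000) (.leaf 2503)))) (.node (.node (.node (.leaf 817) (.leaf 2882)) (.node (.leaf 2688) (.leaf 2752))) (.node (.node (.leaf 310) (.leaf 2057)) (.node (.leaf 3344) (.leaf 2966))))) (.node (.node (.node (.node (.leaf 373) (.leaf 3616)) (.node (.leaf 445) (.leaf 3909))) (.node (.node (.leaf 1675) (.leaf 3580)) (.node (.leaf 679) (.leaf 3961)))) (.node (.node (.node (.leaf 1118) (.leaf 1111)) (.node (.leaf 2709) (.leaf 2591))) (.node (.node (.leaf 2194) (.leaf 3936)) (.node (.leaf 799) (.leaf 3127)))))) (.node (.node (.node (.node (.node (.leaf 303) (.leaf 1003)) (.node (.leaf 414) (.leaf 1668))) (.node (.node (.leaf 1532) (.leaf 3017)) (.node (.leaf 3109) (.leaf 2494)))) (.node (.node (.node (.leaf 977) (.leaf 1057)) (.node (.leaf 2586) (.leaf 4073))) (.node (.node (.leaf 2066) (.leaf 3869)) (.node (.leaf 3126)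 (.leaf 2967))))) (.node (.node (.node (.node (.leaf 68) (.leaf 978)) (.node (.leaf 2542) (.leaf 1882))) (.node (.node (.leaf 1808) (.leaf 3806)) (.node (.leaf 2941) (.leaf 2782)))) (.node (.node (.node (.leaf 1255) (.leaf 1175)) (.node (.leaf 2899) (.leaf 2623))) (.node (.node (.leaf 2288) (.leaf 2185)) (.node (.leaf 3517) (.leaf 3540))))))) (.node (.node (.node (.node (.node (.node (.leaf 18) (.leaf 3590)) (.node (.leaf 2291) (.leaf 2646))) (.node (.node (.leaf 196) (.leaf 1239)) (.node (.leaf 1154) (.leaf 2176)))) (.node (.node (.node (.leaf 902) (.leaf 2957)) (.node (.leaf 523) (.leaf 3875))) (.node (.node (.leaf 2012) (.leaf 2657)) (.node (.leaf 755) (.leaf 3774))))) (.node (.node (.node (.node (.leaf 58) (.leaf 1213)) (.node (.leaf 459) (.leaf 2172))) (.node (.node (.leaf 1740) (.leaf 3752)) (.node (.leaf 3184) (.leaf 3902)))) (.node (.node (.node (.leaf 1045) (.leaf 3678)) (.node (.leaf 834) (.leaf 2303))) (.node (.node (.leaf 518) (.leaf 1571)) (.node (.leaf 3343) (.leaf 3232)))))) (.node (.node (.node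 (.node (.node (.leaf 399) (.leaf 1225)) (.node (.leaf 438) (.leaf 1709))) (.node (.node (.leaf 218) (.leaf 1350)) (.node (.leaf 2895) (.leaf 2651)))) (.node (.node (.node (.leaf 167) (.leaf 1079)) (.node (.leaf 2677) (.leaf 4051))) (.node (.node (.leaf 2132) (.leaf 3920)) (.node (.leaf 3436) (.leaf 3242))))) (.node (.node (.node (.node (.leaf 189) (.leaf 3460)) (.node (.leaf 489) (.leaf 1807))) (.node (.node (.leaf 1877) (.leaf 2169)) (.node (.leaf 726) (.leaf 2969)))) (.node (.node (.node (.leaf 170) (.leaf 3656)) (.node (.leaf 2897) (.leaf 2514))) (.node (.node (.leaf 2340) (.leaf 1955)) (.node (.leaf 1392) (.leaf 3991))))))))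

def twoNext123 : Janko.Tree (ℕ) :=
  (.node (.node (.node (.node (.node (.node (.node (.leaf 103) (.leaf 3561)) (.node (.leaf 350) (.leaf 3992))) (.node (.node (.leaf 1392) (.leaf 3245)) (.node (.leaf 784) (.leaf 2635)))) (.node (.node (.node (.leaf 818) (.leaf 3717)) (.node (.leaf 2591) (.leaf 2022))) (.node (.node (.leaf 1593) (.leaf 1964)) (.node (.leaf 596) (.leaf 3703))))) (.node (.node (.node (.node (.leaf 478) (.leaf 1137)) (.node (.leaf 2540) (.leaf 2493))) (.node (.node (.leaf 1676) (.leaf 3324)) (.node (.leaf 3197) (.leaf 2704)))) (.node (.node (.node (.leaf 753) (.leaf 2880)) (.node (.leaf 2587) (.leaf 1892))) (.node (.node (.leaf 1493) (.leaf 2599)) (.node (.leaf 1024) (.leaf 2912)))))) (.node (.node (.node (.node (.node (.leaf 304) (.leaf 3616)) (.node (.leaf 555) (.leaf 2162))) (.node (.node (.leaf 1533) (.leaf 3784)) (.node (.leaf 3110) (.leaf 2142)))) (.node (.node (.node (.leaf 978) (.leaf 3744)) (.node (.leaf 419) (.leaf 1626))) (.node (.node (.leaf 567) (.leaf 3895)) (.node (.leaf 2946) (.leaf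 3729))))) (.node (.node (.node (.node (.leaf 651) (.leaf 1100)) (.node (.leaf 2363) (.leaf 2433))) (.node (.node (.leaf 1504) (.leaf 3313)) (.node (.leaf 3107) (.leaf 2356)))) (.node (.node (.node (.leaf 1256) (.leaf 3779)) (.node (.leaf 64) (.leaf 3988))) (.node (.node (.leaf 2289) (.leaf 1689)) (.node (.leaf 3109) (.leaf 3507))))))) (.node (.node (.node (.node (.node (.node (.leaf 203) (.leaf 155)) (.node (.leaf 2440) (.leaf 3892))) (.node (.node (.leaf 759) (.leaf 3347)) (.node (.leaf 957) (.leaf 3945)))) (.node (.node (.node (.leaf 903) (.leaf 3733)) (.node (.leaf 2664) (.leaf 245))) (.node (.node (.leaf 2013) (.leaf 1562)) (.node (.leaf 3223) (.leaf 1115))))) (.node (.node (.node (.node (.leaf 560) (.leaf 1072)) (.node (.leaf 2320) (.leaf 1475))) (.node (.node (.leaf 1741) (.leaf 3014)) (.node (.leaf 3230) (.leaf 2553)))) (.node (.node (.node (.leaf 1185) (.leaf 900)) (.node (.leaf 1081) (.leaf 479))) (.node (.node (.leaf 512) (.leaf 2667)) (.node (.leaf 3166) (.leaf 3504)))))) (.node (.node (.node (.node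 (.node (.leaf 234) (.leaf 3643)) (.node (.leaf 1842) (.leaf 2300))) (.node (.node (.leaf 211) (.leaf 3792)) (.node (.leaf 3158) (.leaf 2740)))) (.node (.node (.node (.leaf 1050) (.leaf 783)) (.node (.leaf 2764) (.leaf 2410))) (.node (.node (.leaf 2133) (.leaf 2134)) (.node (.leaf 3447) (.leaf 3802))))) (.node (.node (.node (.node (.leaf 735) (.leaf 3006)) (.node (.leaf 262) (.leaf 4055))) (.node (.node (.leaf 1878) (.leaf 3821)) (.node (.leaf 3303) (.leaf 3543)))) (.node (.node (.node (.leaf 1326) (.leaf 1034)) (.node (.leaf 2955) (.leaf 2752))) (.node (.node (.leaf 2341) (.leaf 545)) (.node (.leaf 3544) (.leaf 1794))))))))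

def twoNext124 : Janko.Tree (ℕ) :=
  (.node (.node (.node (.node (.node (.node (.node (.leaf 9) (.leaf 869)) (.node (.leaf 1748) (.leaf 2771))) (.node (.node (.leaf 775) (.leaf 1221)) (.node (.leaf 623) (.leaf 2533)))) (.node (.node (.node (.leaf 89) (.leaf 3562)) (.node (.leaf 1910) (.leaf 2709))) (.node (.node (.leaf 1949) (.leaf 1545)) (.node (.leaf 3215) (.leaf 3485))))) (.node (.node (.node (.node (.leaf 479) (.leaf 3177)) (.node (.leaf 1877) (.leaf 1727))) (.node (.node (.leaf 229) (.leaf 3633)) (.node (.leaf 3198) (.leaf 4008)))) (.node (.node (.node (.leaf 1087) (.leaf 3212)) (.node (.leaf 2790) (.leaf 2506))) (.node (.node (.leaf 327) (.leaf 1550)) (.node (.leaf 3364) (.leaf 3734)))))) (.node (.node (.node (.node (.node (.leaf 305) (.leaf 3031)) (.node (.leaf 2467) (.leaf 2770))) (.node (.node (.leaf 1534) (.leaf 1305)) (.node (.leaf 651) (.leaf 2434)))) (.node (.node (.node (.leaf 979) (.leaf 3148)) (.node (.leaf 2580) (.leaf 4044))) (.node (.node (.leaf 1507) (.leaf 2162)) (.node (.leaf 929) (.leaf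 2972))))) (.node (.node (.node (.node (.leaf 652) (.leaf 3020)) (.node (.leaf 2584) (.leaf 1889))) (.node (.node (.leaf 1809) (.leaf 1432)) (.node (.leaf 1115) (.leaf 2673)))) (.node (.node (.node (.leaf 159) (.leaf 3717)) (.node (.leaf 596) (.leaf 3968))) (.node (.node (.leaf 358) (.leaf 3869)) (.node (.leaf 3027) (.leaf 3564))))))) (.node (.node (.node (.node (.node (.node (.leaf 204) (.leaf 2887)) (.node (.leaf 415) (.leaf 2259))) (.node (.node (.leaf 953) (.leaf 3426)) (.node (.leaf 3053) (.leaf 2177)))) (.node (.node (.node (.leaf 904) (.leaf 3127)) (.node (.leaf 2513) (.leaf 2359))) (.node (.node (.leaf 2014) (.leaf 1574)) (.node (.leaf 3386) (.leaf 2919))))) (.node (.node (.node (.node (.leaf 561) (.leaf 3273)) (.node (.leaf 1968) (.leaf 4037))) (.node (.node (.leaf 244) (.leaf 3773)) (.node (.leaf 3231) (.leaf 2746)))) (.node (.node (.node (.leaf 1186) (.leaf 3194)) (.node (.leaf 2832) (.leaf 2418))) (.node (.node (.leaf 1458) (.leaf 2276)) (.node (.leaf 1223) (.leaf 3493)))))) (.node (.node (.node (.node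 (.node (.leaf 38) (.leaf 947)) (.node (.leaf 2503) (.leaf 2420))) (.node (.node (.leaf 1598) (.leaf 1310)) (.node (.leaf 665) (.leaf 2324)))) (.node (.node (.node (.leaf 1051) (.leaf 3753)) (.node (.leaf 1896) (.leaf 3904))) (.node (.node (.leaf 2134) (.leaf 1661)) (.node (.leaf 3233) (.leaf 3791))))) (.node (.node (.node (.node (.leaf 79) (.leaf 3512)) (.node (.leaf 1563) (.leaf 2036))) (.node (.node (.leaf 532) (.leaf 2174)) (.node (.leaf 1444) (.leaf 3261)))) (.node (.node (.node (.leaf 1327) (.leaf 3631)) (.node (.leaf 654) (.leaf 2103))) (.node (.node (.leaf 371) (.leaf 2082)) (.node (.leaf 3320) (.leaf 4088))))))))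

def twoNext125 : Janko.Tree (ℕ) :=
  (.node (.node (.node (.node (.node (.node (.node (.leaf 104) (.leaf 1076)) (.node (.leaf 384) (.leaf 2778))) (.node (.node (.leaf 1393) (.leaf 1407)) (.node (.leaf 3001) (.leaf 2455)))) (.node (.node (.node (.leaf 819) (.leaf 3395)) (.node (.leaf 505) (.leaf 1830))) (.node (.node (.leaf 1678) (.leaf 1769)) (.node (.leaf 3345) (.leaf 3785))))) (.node (.node (.node (.node (.leaf 361) (.leaf 1124)) (.node (.leaf 2541) (.leaf 1988))) (.node (.node (.leaf 1677) (.leaf 2806)) (.node (.leaf 680) (.leaf 2568)))) (.node (.node (.node (.leaf 1119) (.leaf 2845)) (.node (.leaf 2202) (.leaf 2739))) (.node (.node (.leaf 2195) (.leaf 3822)) (.node (.leaf 1050) (.leaf 3349)))))) (.node (.node (.node (.node (.node (.leaf 231) (.leaf 899)) (.node (.leaf 415) (.leaf 1669))) (.node (.node (.leaf 1535) (.leaf 1271)) (.node (.leaf 3074) (.leaf 2713)))) (.node (.node (.node (.leaf 850) (.leaf 3720)) (.node (.leaf 2425) (.leaf 4074))) (.node (.node (.leaf 2067) (.leaf 1510)) (.node (.leaf 3032)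 (.leaf 3262))))) (.node (.node (.node (.node (.leaf 653) (.leaf 3495)) (.node (.leaf 1738) (.leaf 4012))) (.node (.node (.leaf 1523) (.leaf 3657)) (.node (.leaf 710) (.leaf 2741)))) (.node (.node (.node (.leaf 1020) (.leaf 1319)) (.node (.leaf 2900) (.leaf 3974))) (.node (.node (.leaf 1531) (.leaf 1944)) (.node (.leaf 3006) (.leaf 4093))))))) (.node (.node (.node (.node (.node (.node (.leaf 205) (.leaf 1423)) (.node (.leaf 399) (.leaf 1647))) (.node (.node (.leaf 610) (.leaf 3098)) (.node (.leaf 639) (.leaf 3877)))) (.node (.node (.node (.leaf 100) (.leaf 1197)) (.node (.leaf 1577) (.leaf 1857))) (.node (.node (.leaf 292) (.leaf 1848)) (.node (.leaf 2826) (.leaf 3718))))) (.node (.node (.node (.node (.leaf 562) (.leaf 960)) (.node (.leaf 2583) (.leaf 1760))) (.node (.node (.leaf 476) (.leaf 3018)) (.node (.leaf 3040) (.leaf 4053)))) (.node (.node (.node (.leaf 147) (.leaf 3511)) (.node (.leaf 584) (.leaf 4060))) (.node (.node (.leaf 2019) (.leaf 2485)) (.node (.leaf 1116) (.leaf 3400)))))) (.node (.node (.node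 (.node (.node (.leaf 199) (.leaf 1211)) (.node (.leaf 2021) (.leaf 2694))) (.node (.node (.leaf 1599) (.leaf 3708)) (.node (.leaf 3159) (.leaf 4078)))) (.node (.node (.node (.leaf 1052) (.leaf 1080)) (.node (.leaf 2591) (.leaf 1928))) (.node (.node (.leaf 2135) (.leaf 2142)) (.node (.leaf 785) (.leaf 3047))))) (.node (.node (.node (.node (.leaf 736) (.leaf 999)) (.node (.leaf 2341) (.leaf 1808))) (.node (.node (.leaf 1879) (.leaf 2536)) (.node (.leaf 3304) (.leaf 2840)))) (.node (.node (.node (.leaf 1328) (.leaf 1335)) (.node (.leaf 607) (.leaf 3870))) (.node (.node (.leaf 2342) (.leaf 1827)) (.node (.leaf 3187) (.leaf 4023))))))))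

def twoNext126 : Janko.Tree (ℕ) :=
  (.node (.node (.node (.node (.node (.node (.node (.leaf 105) (.leaf 3562)) (.node (.leaf 1866) (.leaf 1626))) (.node (.node (.leaf 1241) (.leaf 3486)) (.node (.leaf 955) (.leaf 4074)))) (.node (.node (.node (.leaf 153) (.leaf 1119)) (.node (.leaf 2689) (.leaf 2613))) (.node (.node (.leaf 1950) (.leaf 1477)) (.node (.leaf 740) (.leaf 2916))))) (.node (.node (.node (.node (.leaf 48) (.leaf 936)) (.node (.leaf 1967) (.leaf 1956))) (.node (.node (.leaf 1590) (.leaf 1349)) (.node (.leaf 939) (.leaf 2680)))) (.node (.node (.node (.leaf 1012) (.leaf 1112)) (.node (.leaf 1934) (.leaf 1977))) (.node (.node (.leaf 355) (.leaf 2755)) (.node (.leaf 3128) (.leaf 3116)))))) (.node (.node (.node (.node (.node (.leaf 28) (.leaf 3057)) (.node (.leaf 2335) (.leaf 1754))) (.node (.node (.leaf 207) (.leaf 1323)) (.node (.leaf 1163) (.leaf 2294)))) (.node (.node (.node (.leaf 111) (.leaf 3635)) (.node (.leaf 534) (.leaf 3958))) (.node (.node (.leaf 304) (.leaf 2727)) (.node (.leaf 1362) (.leaf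 3716))))) (.node (.node (.node (.node (.leaf 654) (.leaf 3689)) (.node (.leaf 475) (.leaf 1785))) (.node (.node (.leaf 1810) (.leaf 3328)) (.node (.leaf 738) (.leaf 3891)))) (.node (.node (.node (.leaf 1257) (.leaf 3756)) (.node (.leaf 2843) (.leaf 4080))) (.node (.node (.leaf 394) (.leaf 1658)) (.node (.leaf 831) (.leaf 3376))))))) (.node (.node (.node (.node (.node (.node (.leaf 206) (.leaf 885)) (.node (.leaf 2081) (.leaf 2159))) (.node (.node (.leaf 859) (.leaf 3550)) (.node (.leaf 3054) (.leaf 4029)))) (.node (.node (.node (.leaf 905) (.leaf 3734)) (.node (.leaf 2715) (.leaf 4047))) (.node (.node (.leaf 2015) (.leaf 1492)) (.node (.leaf 3387) (.leaf 3434))))) (.node (.node (.node (.node (.leaf 563) (.leaf 3666)) (.node (.leaf 1876) (.leaf 3847))) (.node (.node (.leaf 1742) (.leaf 3088)) (.node (.leaf 696) (.leaf 3983)))) (.node (.node (.node (.leaf 1187) (.leaf 1139)) (.node (.leaf 718) (.leaf 2521))) (.node (.node (.leaf 342) (.leaf 2189)) (.node (.leaf 816) (.leaf 3238)))))) (.node (.node (.node (.node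 (.node (.leaf 242) (.leaf 916)) (.node (.leaf 2504) (.leaf 2510))) (.node (.node (.leaf 1600) (.leaf 1319)) (.node (.leaf 674) (.leaf 2492)))) (.node (.node (.node (.leaf 121) (.leaf 3176)) (.node (.leaf 2544) (.leaf 3910))) (.node (.node (.leaf 316) (.leaf 1525)) (.node (.leaf 860) (.leaf 3602))))) (.node (.node (.node (.node (.leaf 132) (.leaf 3518)) (.node (.leaf 573) (.leaf 1831))) (.node (.node (.leaf 267) (.leaf 1461)) (.node (.leaf 776) (.leaf 3151)))) (.node (.node (.node (.leaf 1329) (.leaf 1195)) (.node (.leaf 2956) (.leaf 2105))) (.node (.node (.leaf 2343) (.leaf 2596)) (.node (.leaf 3545) (.leaf 4022))))))))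

def twoNext127 : Janko.Tree (ℕ) :=
  (.node (.node (.node (.node (.node (.node (.node (.leaf 106) (.leaf 1197)) (.node (.leaf 574) (.leaf 2760))) (.node (.node (.leaf 1394) (.leaf 170)) (.node (.leaf 3002) (.leaf 1513)))) (.node (.node (.node (.leaf 820) (.leaf 1449)) (.node (.leaf 1698) (.leaf 3891))) (.node (.node (.leaf 1951) (.leaf 2537)) (.node (.leaf 3346) (.leaf 1190))))) (.node (.node (.node (.node (.leaf 41) (.leaf 3098)) (.node (.leaf 2526) (.leaf 2685))) (.node (.node (.leaf 570) (.leaf 3681)) (.node (.leaf 1001) (.leaf 500)))) (.node (.node (.node (.leaf 798) (.leaf 3396)) (.node (.leaf 2622) (.leaf 2495))) (.node (.node (.leaf 2196) (.leaf 3917)) (.node (.leaf 956) (.leaf 3307)))))) (.node (.node (.node (.node (.node (.leaf 306) (.leaf 3195)) (.node (.leaf 552) (.leaf 2650))) (.node (.node (.leaf 1536) (.leaf 2956)) (.node (.leaf 3111) (.leaf 3967)))) (.node (.node (.node (.leaf 980) (.leaf 1002)) (.node (.leaf 2469) (.leaf 1724))) (.node (.node (.leaf 2068) (.leaf 2233)) (.node (.leaf 995) (.leaf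 3170))))) (.node (.node (.node (.node (.leaf 655) (.leaf 754)) (.node (.leaf 2088) (.leaf 3825))) (.node (.node (.leaf 1811) (.leaf 1291)) (.node (.leaf 3262) (.leaf 2091)))) (.node (.node (.node (.leaf 1258) (.leaf 3174)) (.node (.leaf 2901) (.leaf 2748))) (.node (.node (.leaf 2290) (.leaf 302)) (.node (.leaf 1289) (.leaf 3623))))))) (.node (.node (.node (.node (.node (.node (.leaf 207) (.leaf 1223)) (.node (.leaf 1864) (.leaf 4001))) (.node (.node (.leaf 1451) (.leaf 1375)) (.node (.leaf 3055) (.leaf 418)))) (.node (.node (.node (.leaf 906) (.leaf 1020)) (.node (.leaf 502) (.leaf 1953))) (.node (.node (.leaf 242) (.leaf 3869)) (.node (.leaf 1369) (.leaf 3650))))) (.node (.node (.node (.node (.leaf 564) (.leaf 932)) (.node (.leaf 2083) (.leaf 4038))) (.node (.node (.leaf 1743) (.leaf 181)) (.node (.leaf 3232) (.leaf 2166)))) (.node (.node (.node (.leaf 705) (.leaf 3409)) (.node (.leaf 2833) (.leaf 258))) (.node (.node (.leaf 2238) (.leaf 2301)) (.node (.leaf 2937) (.leaf 3323)))))) (.node (.node (.node (.node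 (.node (.leaf 400) (.leaf 3644)) (.node (.leaf 232) (.leaf 2641))) (.node (.node (.leaf 346) (.leaf 3095)) (.node (.leaf 3160) (.leaf 1907)))) (.node (.node (.node (.leaf 1053) (.leaf 3108)) (.node (.leaf 379) (.leaf 3963))) (.node (.node (.leaf 2136) (.leaf 2720)) (.node (.leaf 2851) (.leaf 3233))))) (.node (.node (.node (.node (.leaf 737) (.leaf 1415)) (.node (.leaf 2662) (.leaf 1918))) (.node (.node (.leaf 1847) (.leaf 2555)) (.node (.leaf 132) (.leaf 3645)))) (.node (.node (.node (.leaf 1321) (.leaf 3785)) (.node (.leaf 2957) (.leaf 4075))) (.node (.node (.leaf 2344) (.leaf 2434)) (.node (.leaf 3367) (.leaf 4077))))))))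

def twoNext : Janko.Tree (ℕ) := (.node (.node (.node (.node (.node (.node (.node twoNext0 twoNext64) (.node twoNext32 twoNext96)) (.node (.node twoNext16 twoNext80) (.node twoNext48 twoNext112))) (.node (.node (.node twoNext8 twoNext72) (.node twoNext40 twoNext104)) (.node (.node twoNext24 twoNext88) (.node twoNext56 twoNext120)))) (.node (.node (.node (.node twoNext4 twoNext68) (.node twoNext36 twoNext100)) (.node (.node twoNext20 twoNext84) (.node twoNext52 twoNext116))) (.node (.node (.node twoNext12 twoNext76) (.node twoNext44 twoNext108)) (.node (.node twoNext28 twoNext92) (.node twoNext60 twoNext124))))) (.node (.node (.node (.node (.node twoNext2 twoNext66) (.node twoNext34 twoNext98)) (.node (.node twoNext18 twoNext82) (.node twoNext50 twoNext114))) (.node (.node (.node twoNext10 twoNext74) (.node twoNext42 twoNext106)) (.node (.node twoNext26 twoNext90) (.node twoNext58 twoNext122)))) (.node (.node (.node (.node twoNext6 twoNext70) (.node twoNext38 twoNext102)) (.node (.node twoNext22 twoNext86) (.node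 twoNext54 twoNext118))) (.node (.node (.node twoNext14 twoNext78) (.node twoNext46 twoNext110)) (.node (.node twoNext30 twoNext94) (.node twoNext62 twoNext126)))))) (.node (.node (.node (.node (.node (.node twoNext1 twoNext65) (.node twoNext33 twoNext97)) (.node (.node twoNext17 twoNext81) (.node twoNext49 twoNext113))) (.node (.node (.node twoNext9 twoNext73) (.node twoNext41 twoNext105)) (.node (.node twoNext25 twoNext89) (.node twoNext57 twoNext121)))) (.node (.node (.node (.node twoNext5 twoNext69) (.node twoNext37 twoNext101)) (.node (.node twoNext21 twoNext85) (.node twoNext53 twoNext117))) (.node (.node (.node twoNext13 twoNext77) (.node twoNext45 twoNext109)) (.node (.node twoNext29 twoNext93) (.node twoNext61 twoNext125))))) (.node (.node (.node (.node (.node twoNext3 twoNext67) (.node twoNext35 twoNext99)) (.node (.node twoNext19 twoNext83) (.node twoNext51 twoNext115))) (.node (.node (.node twoNext11 twoNext75) (.node twoNext43 twoNext107)) (.node (.node twoNext27 twoNext91) (.node twoNext59 twoNext123))))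 (.node (.node (.node (.node twoNext7 twoNext71) (.node twoNext39 twoNext103)) (.node (.node twoNext23 twoNext87) (.node twoNext55 twoNext119))) (.node (.node (.node twoNext15 twoNext79) (.node twoNext47 twoNext111)) (.node (.node twoNext31 twoNext95) (.node twoNext63 twoNext127)))))))

def twoWord0 : Janko.Tree (ℕ) :=
  (.node (.node (.node (.node (.node (.node (.node (.leaf 1) (.leaf 271790129)) (.node (.leaf 18026545) (.leaf 4314903056))) (.node (.node (.leaf 1249808) (.leaf 305201712)) (.node (.leaf 269497123) (.leaf 4564660528)))) (.node (.node (.node (.leaf 1057569) (.leaf 288363280)) (.node (.leaf 19931937) (.leaf 4331746083))) (.node (.node (.leaf 16974387) (.leaf 4311810849)) (.node (.leaf 270733328) (.leaf 68989161521))))) (.node (.node (.node (.node (.leaf 73746) (.leaf 285413891)) (.node (.leaf 18952208) (.leaf 4328600112))) (.node (.node (.leaf 16855072) (.leaf 319824690)) (.node (.leaf 269689651) (.leaf 4613943603)))) (.node (.node (.node (.leaf 1126931) (.leaf 288563971)) (.node (.leaf 20067122)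 (.leaf 4346479395))) (.node (.node (.leaf 17834771) (.leaf 4311950081)) (.node (.leaf 271647538) (.leaf 69038310177)))))) (.node (.node (.node (.node (.node (.leaf 65824) (.leaf 285348371)) (.node (.leaf 18035491) (.leaf 4315025427))) (.node (.node (.leaf 1258272) (.leaf 305341187)) (.node (.leaf 269680946) (.leaf 4566622513)))) (.node (.node (.node (.leaf 1114882) (.leaf 288436240)) (.node (.leaf 20000784) (.leaf 4345372722))) (.node (.node (.leaf 16986162) (.leaf 4311888129)) (.node (.leaf 271585794) (.leaf 68991124018))))) (.node (.node (.node (.node (.leaf 78624) (.leaf 287383858)) (.node (.leaf 19079217) (.leaf 4329771043))) (.node (.node (.leaf 16912945) (.leaf 320942896)) (.node (.leaf 270598944) (.leaf 4851834929)))) (.node (.node (.node (.leaf 1191986) (.leaf 303174432)) (.node (.leaf 269488898) (.leaf 4348457777))) (.node (.node (.leaf 17961491) (.leaf 4314038833)) (.node (.leaf 271717153) (.leaf 69275296049))))))) (.node (.node (.node (.node (.node (.node (.leaf 4385) (.leaf 285287186)) (.node (.leaf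 18030898) (.leaf 4314963987))) (.node (.node (.leaf 1254160) (.leaf 305271345)) (.node (.leaf 269620003) (.leaf 4565705475)))) (.node (.node (.node (.leaf 1061425) (.leaf 288424451)) (.node (.leaf 19989250) (.leaf 4331811587))) (.node (.node (.leaf 16978736) (.leaf 4311822851)) (.node (.leaf 270737715) (.leaf 68990210081))))) (.node (.node (.node (.node (.leaf 77843) (.leaf 285422099)) (.node (.leaf 19071537) (.leaf 4329582883))) (.node (.node (.leaf 16855841) (.leaf 320021281)) (.node (.leaf 270537475) (.leaf 4615910179)))) (.node (.node (.node (.leaf 1183777) (.leaf 302194977)) (.node (.leaf 20128048) (.leaf 4347470594))) (.node (.node (.leaf 17838641) (.leaf 4313854482)) (.node (.leaf 271659779) (.leaf 69039501616)))))) (.node (.node (.node (.node (.node (.leaf 69651) (.leaf 285356595)) (.node (.leaf 18940435) (.leaf 4315087667))) (.node (.node (.leaf 16843571) (.leaf 318902785)) (.node (.leaf 269685297) (.leaf 4600111921)))) (.node (.node (.node (.leaf 1123091) (.leaf 288501809)) (.node (.leaf 20058627) (.leaf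 4346351665))) (.node (.node (.leaf 17829939) (.leaf 4311941937)) (.node (.leaf 271594000) (.leaf 69021667890))))) (.node (.node (.node (.node (.leaf 1053472) (.leaf 287511088)) (.node (.leaf 19084064) (.leaf 4331680032))) (.node (.node (.leaf 16921089) (.leaf 321991219)) (.node (.leaf 270610690) (.leaf 5103624978)))) (.node (.node (.node (.leaf 1245488) (.leaf 303247667)) (.node (.leaf 269496338) (.leaf 4564455984))) (.node (.node (.leaf 17969955) (.leaf 4314051120)) (.node (.leaf 271778593) (.leaf 69310029843))))))))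

def twoWord1 : Janko.Tree (ℕ) :=
  (.node (.node (.node (.node (.node (.node (.node (.leaf 16) (.leaf 271790339)) (.node (.leaf 18026546) (.leaf 4314903089))) (.node (.node (.leaf 1249811) (.leaf 305201713)) (.node (.leaf 269497136) (.leaf 4564660530)))) (.node (.node (.node (.leaf 1057571) (.leaf 288363282)) (.node (.leaf 19931953) (.leaf 4331746098))) (.node (.node (.leaf 16974608) (.leaf 4311810851)) (.node (.leaf 270733331) (.leaf 68989161985))))) (.node (.node (.node (.node (.leaf 73747) (.leaf 285413907)) (.node (.leaf 18952210) (.leaf 4328600114))) (.node (.node (.leaf 16855073) (.leaf 319827986)) (.node (.leaf 269692944) (.leaf 4613943827)))) (.node (.node (.node (.leaf 1126960) (.leaf 288563984)) (.node (.leaf 20119809) (.leaf 4346483505))) (.node (.node (.leaf 17834784) (.leaf 4311950083)) (.node (.leaf 271647539) (.leaf 69038317603)))))) (.node (.node (.node (.node (.node (.leaf 65825) (.leaf 285348400)) (.node (.leaf 18878512) (.leaf 4315025458))) (.node (.node (.leaf 1258273) (.leaf 305341200))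 (.node (.leaf 269681153) (.leaf 4566623011)))) (.node (.node (.node (.leaf 1114883) (.leaf 288436243)) (.node (.leaf 20000787) (.leaf 4345376801))) (.node (.node (.leaf 16986163) (.leaf 4311888130)) (.node (.leaf 271585795) (.leaf 68991124225))))) (.node (.node (.node (.node (.leaf 78625) (.leaf 287383859)) (.node (.leaf 19079425) (.leaf 4329771521))) (.node (.node (.leaf 16912946) (.leaf 321061123)) (.node (.leaf 270598945) (.leaf 4851897138)))) (.node (.node (.node (.leaf 1191987) (.leaf 303174435)) (.node (.leaf 269488899) (.leaf 4348510978))) (.node (.node (.leaf 17961520) (.leaf 4314038835)) (.node (.leaf 271717155) (.leaf 69275431681))))))) (.node (.node (.node (.node (.node (.node (.leaf 4387) (.leaf 285287200)) (.node (.leaf 18030899) (.leaf 4314964017))) (.node (.node (.leaf 1254162) (.leaf 305271346)) (.node (.leaf 269620017) (.leaf 4565708819)))) (.node (.node (.node (.leaf 1061426) (.leaf 288424464)) (.node (.leaf 19989251) (.leaf 4331864323))) (.node (.node (.leaf 16978737) (.leaf 4311822866)) (.node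 (.leaf 270738177) (.leaf 68990210096))))) (.node (.node (.node (.node (.leaf 77856) (.leaf 285422128)) (.node (.leaf 19071539) (.leaf 4329583105))) (.node (.node (.leaf 16855843) (.leaf 320024867)) (.node (.leaf 270537488) (.leaf 4616032771)))) (.node (.node (.node (.leaf 1183779) (.leaf 302194979)) (.node (.leaf 20128050) (.leaf 4347470608))) (.node (.node (.leaf 17838642) (.leaf 4313854483)) (.node (.leaf 271659794) (.leaf 69040353811)))))) (.node (.node (.node (.node (.node (.leaf 69664) (.leaf 285356801)) (.node (.leaf 18940464) (.leaf 4315091475))) (.node (.node (.leaf 16850960) (.leaf 318902803)) (.node (.leaf 269685298) (.leaf 4600115488)))) (.node (.node (.node (.leaf 1123104) (.leaf 288502048)) (.node (.leaf 20058642) (.leaf 4346352400))) (.node (.node (.leaf 17830401) (.leaf 4311941938)) (.node (.leaf 271594002) (.leaf 69021671713))))) (.node (.node (.node (.node (.leaf 1053473) (.leaf 287511089)) (.node (.leaf 19084067) (.leaf 4331680272))) (.node (.node (.leaf 16921091) (.leaf 321991456)) (.node (.leaf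 270610720) (.leaf 5117116721)))) (.node (.node (.node (.leaf 1245489) (.leaf 303247920)) (.node (.leaf 269496339) (.leaf 4564455985))) (.node (.node (.leaf 17969968) (.leaf 4314051121)) (.node (.leaf 271778595) (.leaf 69525843984))))))))

def twoWord2 : Janko.Tree (ℕ) :=
  (.node (.node (.node (.node (.node (.node (.node (.leaf 17) (.leaf 271790387)) (.node (.leaf 18026547) (.leaf 4314903091))) (.node (.node (.leaf 1249840) (.leaf 305201714)) (.node (.leaf 269497137) (.leaf 4564660993)))) (.node (.node (.node (.leaf 1057584) (.leaf 288363283)) (.node (.leaf 19931955) (.leaf 4331798787))) (.node (.node (.leaf 16974610) (.leaf 4311810865)) (.node (.leaf 270733345) (.leaf 68989162003))))) (.node (.node (.node (.node (.leaf 73761) (.leaf 285413936)) (.node (.leaf 18952211) (.leaf 4328600369))) (.node (.node (.leaf 16855075) (.leaf 319828000)) (.node (.leaf 269692946) (.leaf 4613943857)))) (.node (.node (.node (.leaf 1126961) (.leaf 288563986)) (.node (.leaf 20119811) (.leaf 4346490915))) (.node (.node (.leaf 17834785)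 (.leaf 4311950098)) (.node (.leaf 271654928) (.leaf 69038317617)))))) (.node (.node (.node (.node (.node (.leaf 65827) (.leaf 285348401)) (.node (.leaf 18878513) (.leaf 4315025923))) (.node (.node (.leaf 1258275) (.leaf 305344528)) (.node (.leaf 269681155) (.leaf 4566623024)))) (.node (.node (.node (.leaf 1114896) (.leaf 288436275)) (.node (.leaf 20000818) (.leaf 4345376803))) (.node (.node (.leaf 16986369) (.leaf 4311888131)) (.node (.leaf 271586049) (.leaf 68991124227))))) (.node (.node (.node (.node (.leaf 78627) (.leaf 287384322)) (.node (.leaf 19079427) (.leaf 4329771523))) (.node (.node (.leaf 16912947) (.leaf 321061648)) (.node (.leaf 270598947) (.leaf 4851905043)))) (.node (.node (.node (.leaf 1192193) (.leaf 303182082)) (.node (.leaf 269488912) (.leaf 4348511008))) (.node (.node (.leaf 17961521) (.leaf 4314039056)) (.node (.leaf 271717168) (.leaf 69276274707))))))) (.node (.node (.node (.node (.node (.node (.leaf 4400) (.leaf 285287203)) (.node (.leaf 18031361) (.leaf 4314964018))) (.node (.node (.leaf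 1254163) (.leaf 305271553)) (.node (.leaf 269620018) (.leaf 4565709104)))) (.node (.node (.node (.leaf 1061427) (.leaf 288424467)) (.node (.leaf 19989264) (.leaf 4331864368))) (.node (.node (.leaf 16978738) (.leaf 4311822867)) (.node (.leaf 270738179) (.leaf 68990210561))))) (.node (.node (.node (.node (.leaf 77857) (.leaf 285422339)) (.node (.leaf 19071760) (.leaf 4329583107))) (.node (.node (.leaf 16855856) (.leaf 320024880)) (.node (.leaf 270537490) (.leaf 4616037138)))) (.node (.node (.node (.leaf 1183792) (.leaf 302195489)) (.node (.leaf 20128051) (.leaf 4347470610))) (.node (.node (.leaf 17838849) (.leaf 4313854514)) (.node (.leaf 271659795) (.leaf 69040415025)))))) (.node (.node (.node (.node (.node (.leaf 69665) (.leaf 285356803)) (.node (.leaf 18940465) (.leaf 4315091504))) (.node (.node (.leaf 16850962) (.leaf 318902832)) (.node (.leaf 269685299) (.leaf 4600115761)))) (.node (.node (.node (.leaf 1123105) (.leaf 288502051)) (.node (.leaf 20058643) (.leaf 4346352403))) (.node (.node (.leaf 17830402) (.leaf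 4311941939)) (.node (.leaf 271594033) (.leaf 69021672225))))) (.node (.node (.node (.node (.leaf 1053475) (.leaf 287511090)) (.node (.leaf 19927056) (.leaf 4331680274))) (.node (.node (.leaf 16921104) (.leaf 321991457)) (.node (.leaf 270610723) (.leaf 5135020290)))) (.node (.node (.node (.leaf 1245490) (.leaf 303248131)) (.node (.leaf 269496352) (.leaf 4564456211))) (.node (.node (.leaf 17969969) (.leaf 4314051329)) (.node (.leaf 271778609) (.leaf 69525844256))))))))

def twoWord3 : Janko.Tree (ℕ) :=
  (.node (.node (.node (.node (.node (.node (.node (.leaf 18) (.leaf 271790593)) (.node (.leaf 18027009) (.leaf 4314903312))) (.node (.node (.leaf 1249841) (.leaf 305201715)) (.node (.leaf 269615363) (.leaf 4564661024)))) (.node (.node (.node (.leaf 1057585) (.leaf 288363297)) (.node (.leaf 19935489) (.leaf 4331798817))) (.node (.node (.leaf 16974611) (.leaf 4311810866)) (.node (.leaf 270733347) (.leaf 68989162034))))) (.node (.node (.node (.node (.leaf 73763) (.leaf 285413937)) (.node (.leaf 18952225) (.leaf 4328718593)))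 (.node (.node (.leaf 16855089) (.leaf 319828001)) (.node (.leaf 269692947) (.leaf 4614787091)))) (.node (.node (.node (.leaf 1126962) (.leaf 288567312)) (.node (.leaf 20119840) (.leaf 4346490931))) (.node (.node (.leaf 17834787) (.leaf 4311950099)) (.node (.leaf 271654930) (.leaf 69038321969)))))) (.node (.node (.node (.node (.node (.leaf 65840) (.leaf 285348402)) (.node (.leaf 18878994) (.leaf 4315025938))) (.node (.node (.leaf 16843009) (.leaf 305344531)) (.node (.leaf 269681168) (.leaf 4566627104)))) (.node (.node (.node (.leaf 1114898) (.leaf 288436515)) (.node (.leaf 20000819) (.leaf 4345377027))) (.node (.node (.leaf 16986371) (.leaf 4311888160)) (.node (.leaf 271586050) (.leaf 68991124256))))) (.node (.node (.node (.node (.leaf 78640) (.leaf 287384323)) (.node (.leaf 19079456) (.leaf 4329771568))) (.node (.node (.leaf 16913153) (.leaf 321065009)) (.node (.leaf 270598960) (.leaf 4851905283)))) (.node (.node (.node (.leaf 1192194) (.leaf 303182083)) (.node (.leaf 269488914) (.leaf 4348511009))) (.node (.node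 (.leaf 17961522) (.leaf 4314039058)) (.node (.leaf 271717169) (.leaf 69276274737))))))) (.node (.node (.node (.node (.node (.node (.leaf 4401) (.leaf 285290512)) (.node (.leaf 18031363) (.leaf 4314964272))) (.node (.node (.leaf 1254177) (.leaf 305271570)) (.node (.leaf 269627425) (.leaf 4565709107)))) (.node (.node (.node (.leaf 1061633) (.leaf 288424497)) (.node (.leaf 19989266) (.leaf 4331864370))) (.node (.node (.leaf 16978739) (.leaf 4311822898)) (.node (.leaf 270738192) (.leaf 68990210579))))) (.node (.node (.node (.node (.leaf 77859) (.leaf 287313968)) (.node (.leaf 19071762) (.leaf 4329583152))) (.node (.node (.leaf 16855857) (.leaf 320024883)) (.node (.leaf 270537505) (.leaf 4616037139)))) (.node (.node (.node (.leaf 1183793) (.leaf 303043344)) (.node (.leaf 20128513) (.leaf 4347470624))) (.node (.node (.leaf 17838851) (.leaf 4313907731)) (.node (.leaf 271659808) (.leaf 69040415026)))))) (.node (.node (.node (.node (.node (.leaf 69667) (.leaf 285356819)) (.node (.leaf 18940466) (.leaf 4315091505))) (.node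 (.node (.leaf 16850963) (.leaf 318902834)) (.node (.leaf 269685505) (.leaf 4600115763)))) (.node (.node (.node (.leaf 1123107) (.leaf 288502064)) (.node (.leaf 20058672) (.leaf 4346356003))) (.node (.node (.leaf 17830403) (.leaf 4311945232)) (.node (.leaf 271594035) (.leaf 69022523697))))) (.node (.node (.node (.node (.leaf 1053488) (.leaf 287514640)) (.node (.leaf 19927058) (.leaf 4331680305))) (.node (.node (.leaf 16921106) (.leaf 321991472)) (.node (.leaf 270610945) (.leaf 5135020562)))) (.node (.node (.node (.leaf 1245491) (.leaf 305139730)) (.node (.leaf 269496353) (.leaf 4564460339))) (.node (.node (.leaf 17969970) (.leaf 4314051344)) (.node (.leaf 271778610) (.leaf 69525963313))))))))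

def twoWord4 : Janko.Tree (ℕ) :=
  (.node (.node (.node (.node (.node (.node (.node (.leaf 19) (.leaf 271790595)) (.node (.leaf 18027010) (.leaf 4314903314))) (.node (.node (.leaf 1249842) (.leaf 305201922)) (.node (.leaf 269615395) (.leaf 4564661025)))) (.node (.node (.node (.leaf 1057586) (.leaf 288366611)) (.node (.leaf 19935490) (.leaf 4331798833))) (.node (.node (.leaf 16974625) (.leaf 4311810867)) (.node (.leaf 270733360) (.leaf 68989162243))))) (.node (.node (.node (.node (.leaf 73776) (.leaf 285413938)) (.node (.leaf 18952227) (.leaf 4328718595))) (.node (.node (.leaf 16855090) (.leaf 319828225)) (.node (.leaf 269692977) (.leaf 4614787856)))) (.node (.node (.node (.leaf 1126963) (.leaf 288567315)) (.node (.leaf 20119856) (.leaf 4346491393))) (.node (.node (.leaf 17834800) (.leaf 4311953427)) (.node (.leaf 271654931) (.leaf 69038375219)))))) (.node (.node (.node (.node (.node (.leaf 65841) (.leaf 285348403)) (.node (.leaf 18878995) (.leaf 4315025939))) (.node (.node (.leaf 16843010) (.leaf 305345025))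 (.node (.leaf 269681170) (.leaf 4566627120)))) (.node (.node (.node (.leaf 1114899) (.leaf 288436784)) (.node (.leaf 20001057) (.leaf 4345377072))) (.node (.node (.leaf 16986401) (.leaf 4311888161)) (.node (.leaf 271586064) (.leaf 68991131667))))) (.node (.node (.node (.node (.leaf 78641) (.leaf 287384336)) (.node (.leaf 19079457) (.leaf 4329771569))) (.node (.node (.leaf 16913154) (.leaf 321065010)) (.node (.leaf 270606355) (.leaf 4851966721)))) (.node (.node (.node (.leaf 1192195) (.leaf 303182112)) (.node (.leaf 269488915) (.leaf 4348511011))) (.node (.node (.leaf 17961729) (.leaf 4314039073)) (.node (.leaf 271717170) (.leaf 69276279603))))))) (.node (.node (.node (.node (.node (.node (.leaf 4402) (.leaf 285290515)) (.node (.leaf 18031378) (.leaf 4314964273))) (.node (.node (.leaf 1254179) (.leaf 305271585)) (.node (.leaf 269627427) (.leaf 4565709315)))) (.node (.node (.node (.leaf 1061635) (.leaf 288424498)) (.node (.leaf 19989280) (.leaf 4331864371))) (.node (.node (.leaf 16982032) (.leaf 4311822899)) (.node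 (.leaf 270738194) (.leaf 68990210609))))) (.node (.node (.node (.node (.leaf 77873) (.leaf 287313969)) (.node (.leaf 19071777) (.leaf 4329583154))) (.node (.node (.leaf 16855858) (.leaf 320025089)) (.node (.leaf 270537507) (.leaf 4616892673)))) (.node (.node (.node (.leaf 1183794) (.leaf 303046960)) (.node (.leaf 20128515) (.leaf 4347470625))) (.node (.node (.leaf 17838864) (.leaf 4313907760)) (.node (.leaf 271659809) (.leaf 69040415490)))))) (.node (.node (.node (.node (.node (.leaf 69680) (.leaf 285356832)) (.node (.leaf 18940467) (.leaf 4315091506))) (.node (.node (.leaf 16850977) (.leaf 318903041)) (.node (.leaf 269685507) (.leaf 4600115984)))) (.node (.node (.node (.leaf 1123120) (.leaf 288502065)) (.node (.leaf 20058673) (.leaf 4346356017))) (.node (.node (.leaf 17830448) (.leaf 4311945235)) (.node (.leaf 271594256) (.leaf 69022527779))))) (.node (.node (.node (.node (.leaf 1053489) (.leaf 287514643)) (.node (.leaf 19927059) (.leaf 4331680307))) (.node (.node (.leaf 16921107) (.leaf 321991474)) (.node (.leaf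 270610947) (.leaf 5137040161)))) (.node (.node (.node (.leaf 1245697) (.leaf 305139731)) (.node (.leaf 269496355) (.leaf 4564463875))) (.node (.node (.leaf 18022657) (.leaf 4314051346)) (.node (.leaf 271778611) (.leaf 69526033187))))))))

def twoWord5 : Janko.Tree (ℕ) :=
  (.node (.node (.node (.node (.node (.node (.node (.leaf 257) (.leaf 271790641)) (.node (.leaf 18027011) (.leaf 4314903315))) (.node (.node (.leaf 1249843) (.leaf 305201938)) (.node (.leaf 269615408) (.leaf 4565565745)))) (.node (.node (.node (.leaf 1057587) (.leaf 288366641)) (.node (.leaf 19935520) (.leaf 4331799315))) (.node (.node (.leaf 16974627) (.leaf 4311818256)) (.node (.leaf 270733361) (.leaf 68989165857))))) (.node (.node (.node (.node (.leaf 73777) (.leaf 285413939)) (.node (.leaf 18952241) (.leaf 4328718641))) (.node (.node (.leaf 16855091) (.leaf 319828257)) (.node (.leaf 269692978) (.leaf 4614787859)))) (.node (.node (.node (.leaf 1127169) (.leaf 288567345)) (.node (.leaf 20119858) (.leaf 4346491410))) (.node (.node (.leaf 17834801)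 (.leaf 4311953457)) (.node (.leaf 271654947) (.leaf 69038375699)))))) (.node (.node (.node (.node (.node (.leaf 65842) (.leaf 285348609)) (.node (.leaf 18879024) (.leaf 4315025968))) (.node (.node (.leaf 16843011) (.leaf 305345027)) (.node (.leaf 269681171) (.leaf 4566684163)))) (.node (.node (.node (.leaf 1114912) (.leaf 288436786)) (.node (.leaf 20001059) (.leaf 4345377073))) (.node (.node (.leaf 16986403) (.leaf 4311888163)) (.node (.leaf 271586066) (.leaf 68991131683))))) (.node (.node (.node (.node (.leaf 78642) (.leaf 287384352)) (.node (.leaf 19079459) (.leaf 4329771571))) (.node (.node (.leaf 16913155) (.leaf 321065475)) (.node (.leaf 270606384) (.leaf 4882236193)))) (.node (.node (.node (.leaf 1192224) (.leaf 303182354)) (.node (.leaf 269488928) (.leaf 4348518704))) (.node (.node (.leaf 17961730) (.leaf 4314039075)) (.node (.leaf 271717171) (.leaf 69276336656))))))) (.node (.node (.node (.node (.node (.node (.leaf 4403) (.leaf 285290528)) (.node (.leaf 18031379) (.leaf 4314964274))) (.node (.node (.leaf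 1254192) (.leaf 305271587)) (.node (.leaf 269627441) (.leaf 4565709569)))) (.node (.node (.node (.leaf 1061648) (.leaf 288424499)) (.node (.leaf 19989281) (.leaf 4331864883))) (.node (.node (.leaf 16982034) (.leaf 4311823123)) (.node (.leaf 270738195) (.leaf 68990210610))))) (.node (.node (.node (.node (.leaf 77874) (.leaf 287314480)) (.node (.leaf 19071779) (.leaf 4329583363))) (.node (.node (.leaf 16908547) (.leaf 320025137)) (.node (.leaf 270537521) (.leaf 4616893233)))) (.node (.node (.node (.leaf 1183795) (.leaf 303046961)) (.node (.leaf 20128528) (.leaf 4347470627))) (.node (.node (.leaf 17838866) (.leaf 4313907761)) (.node (.leaf 271659811) (.leaf 69040415504)))))) (.node (.node (.node (.node (.node (.leaf 69681) (.leaf 285356848)) (.node (.leaf 18940674) (.leaf 4315091507))) (.node (.node (.leaf 16850979) (.leaf 318910723)) (.node (.leaf 269685522) (.leaf 4600116001)))) (.node (.node (.node (.leaf 1123121) (.leaf 288502067)) (.node (.leaf 20058674) (.leaf 4346356481))) (.node (.node (.leaf 17830449) (.leaf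 4311945248)) (.node (.leaf 271594258) (.leaf 69022651168))))) (.node (.node (.node (.node (.leaf 1053490) (.leaf 287514673)) (.node (.leaf 19927088) (.leaf 4331680528))) (.node (.node (.leaf 16921136) (.leaf 322044163)) (.node (.leaf 270610962) (.leaf 5137170739)))) (.node (.node (.node (.leaf 1245699) (.leaf 305139761)) (.node (.leaf 269496369) (.leaf 4564464403))) (.node (.node (.leaf 18022659) (.leaf 4314051360)) (.node (.leaf 271781907) (.leaf 69526036787))))))))

def twoWord6 : Janko.Tree (ℕ) :=
  (.node (.node (.node (.node (.node (.node (.node (.leaf 258) (.leaf 285278465)) (.node (.leaf 18027024) (.leaf 4314903329))) (.node (.node (.leaf 1250049) (.leaf 305201952)) (.node (.leaf 269615409) (.leaf 4565566226)))) (.node (.node (.node (.leaf 1060880) (.leaf 288366850)) (.node (.leaf 19935521) (.leaf 4331802643))) (.node (.node (.leaf 16974641) (.leaf 4311818259)) (.node (.leaf 270733362) (.leaf 68989165859))))) (.node (.node (.node (.node (.leaf 73778) (.leaf 285414147)) (.node (.leaf 18952242) (.leaf 4328722451)))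 (.node (.node (.leaf 16855297) (.leaf 319828259)) (.node (.leaf 269692979) (.leaf 4614791952)))) (.node (.node (.node (.leaf 1127171) (.leaf 288567555)) (.node (.leaf 20119859) (.leaf 4346491440))) (.node (.node (.leaf 17834802) (.leaf 4311953458)) (.node (.leaf 271654960) (.leaf 69038387507)))))) (.node (.node (.node (.node (.node (.leaf 65843) (.leaf 285348610)) (.node (.leaf 18879025) (.leaf 4315025969))) (.node (.node (.leaf 16843040) (.leaf 318832899)) (.node (.leaf 269681201) (.leaf 4566684209)))) (.node (.node (.node (.leaf 1114913) (.leaf 288436787)) (.node (.leaf 20001328) (.leaf 4345377074))) (.node (.node (.leaf 16986416) (.leaf 4311888179)) (.node (.leaf 271586067) (.leaf 68991131696))))) (.node (.node (.node (.node (.leaf 1052688) (.leaf 287384353)) (.node (.leaf 19079472) (.leaf 4329775120))) (.node (.node (.leaf 16913168) (.leaf 321065520)) (.node (.leaf 270606385) (.leaf 4882243633)))) (.node (.node (.node (.leaf 1192225) (.leaf 303182387)) (.node (.leaf 269488929) (.leaf 4348519170))) (.node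 (.node (.leaf 17961731) (.leaf 4314039089)) (.node (.leaf 271724560) (.leaf 69276336659))))))) (.node (.node (.node (.node (.node (.node (.leaf 4609) (.leaf 285290529)) (.node (.leaf 18031393) (.leaf 4314964275))) (.node (.node (.leaf 1254195) (.leaf 305271600)) (.node (.leaf 269627442) (.leaf 4565709571)))) (.node (.node (.node (.leaf 1061650) (.leaf 288424705)) (.node (.leaf 19989283) (.leaf 4331868208))) (.node (.node (.leaf 16982035) (.leaf 4311823152)) (.node (.leaf 270738224) (.leaf 68990210864))))) (.node (.node (.node (.node (.leaf 77875) (.leaf 287314482)) (.node (.leaf 19071793) (.leaf 4329701681))) (.node (.node (.leaf 16908577) (.leaf 320868401)) (.node (.leaf 270537523) (.leaf 4616954626)))) (.node (.node (.node (.leaf 1184257) (.leaf 303046962)) (.node (.leaf 20128530) (.leaf 4347470640))) (.node (.node (.leaf 17838867) (.leaf 4313907762)) (.node (.leaf 271659824) (.leaf 69040415521)))))) (.node (.node (.node (.node (.node (.leaf 69682) (.leaf 285356850)) (.node (.leaf 18940675) (.leaf 4315091760)))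 (.node (.node (.leaf 16850992) (.leaf 318910771)) (.node (.leaf 269685539) (.leaf 4600169010)))) (.node (.node (.node (.leaf 1123122) (.leaf 288502290)) (.node (.leaf 20058675) (.leaf 4346356482))) (.node (.node (.leaf 17830450) (.leaf 4311945249)) (.node (.leaf 271594259) (.leaf 69022715939))))) (.node (.node (.node (.node (.leaf 1053491) (.leaf 287514913)) (.node (.leaf 19927089) (.leaf 4331680545))) (.node (.node (.leaf 16921137) (.leaf 322048560)) (.node (.leaf 270610963) (.leaf 5151666738)))) (.node (.node (.node (.leaf 1245712) (.leaf 305139762)) (.node (.leaf 269496370) (.leaf 4564464419))) (.node (.node (.leaf 18022688) (.leaf 4314894354)) (.node (.leaf 271781936) (.leaf 69526885171))))))))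

def twoWord7 : Janko.Tree (ℕ) :=
  (.node (.node (.node (.node (.node (.node (.node (.leaf 259) (.leaf 285278466)) (.node (.leaf 18027027) (.leaf 4314903331))) (.node (.node (.leaf 1250051) (.leaf 305201953)) (.node (.leaf 269615410) (.leaf 4565573936)))) (.node (.node (.node (.leaf 1060882) (.leaf 288366881)) (.node (.leaf 19935537) (.leaf 4331802673))) (.node (.node (.leaf 16974642) (.leaf 4311818275)) (.node (.leaf 270733363) (.leaf 68989165875))))) (.node (.node (.node (.node (.leaf 73985) (.leaf 285414192)) (.node (.leaf 18952243) (.leaf 4328722480))) (.node (.node (.leaf 16855298) (.leaf 319828481)) (.node (.leaf 269693217) (.leaf 4614791971)))) (.node (.node (.node (.leaf 1127184) (.leaf 288567809)) (.node (.leaf 20120336) (.leaf 4346491443))) (.node (.node (.leaf 17834803) (.leaf 4311953667)) (.node (.leaf 271654961) (.leaf 69038387731)))))) (.node (.node (.node (.node (.node (.leaf 66049) (.leaf 285348611)) (.node (.leaf 18879026) (.leaf 4315025970))) (.node (.node (.leaf 16843043) (.leaf 318832945))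 (.node (.leaf 269681202) (.leaf 4566684210)))) (.node (.node (.node (.leaf 1114915) (.leaf 288437010)) (.node (.leaf 20001330) (.leaf 4345377281))) (.node (.node (.leaf 16986417) (.leaf 4311888385)) (.node (.leaf 271586080) (.leaf 68991131698))))) (.node (.node (.node (.node (.leaf 1052690) (.leaf 287387667)) (.node (.leaf 19079473) (.leaf 4329775154))) (.node (.node (.leaf 16913170) (.leaf 321065776)) (.node (.leaf 270606386) (.leaf 4883222577)))) (.node (.node (.node (.leaf 1192227) (.leaf 303182640)) (.node (.leaf 269488931) (.leaf 4348519186))) (.node (.node (.leaf 17961744) (.leaf 4314039090)) (.node (.leaf 271724563) (.leaf 69276336689))))))) (.node (.node (.node (.node (.node (.node (.leaf 4610) (.leaf 285290531)) (.node (.leaf 18031395) (.leaf 4314964739))) (.node (.node (.leaf 1257488) (.leaf 305271601)) (.node (.leaf 269627443) (.leaf 4566552592)))) (.node (.node (.node (.leaf 1061651) (.leaf 288424706)) (.node (.leaf 19989296) (.leaf 4331868210))) (.node (.node (.leaf 16982049) (.leaf 4311823154))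 (.node (.leaf 270741520) (.leaf 68990214433))))) (.node (.node (.node (.node (.leaf 78081) (.leaf 287314689)) (.node (.leaf 19071794) (.leaf 4329701682))) (.node (.node (.leaf 16908579) (.leaf 320868883)) (.node (.leaf 270541105) (.leaf 4616954642)))) (.node (.node (.node (.leaf 1184259) (.leaf 303047425)) (.node (.leaf 20131856) (.leaf 4347470643))) (.node (.node (.leaf 17838880) (.leaf 4313907971)) (.node (.leaf 271659825) (.leaf 69040415523)))))) (.node (.node (.node (.node (.node (.leaf 69683) (.leaf 285409537)) (.node (.leaf 18940688) (.leaf 4315091762))) (.node (.node (.leaf 16850993) (.leaf 318910995)) (.node (.leaf 269685553) (.leaf 4600169248)))) (.node (.node (.node (.leaf 1123123) (.leaf 288502291)) (.node (.leaf 20058881) (.leaf 4346356483))) (.node (.node (.leaf 17830451) (.leaf 4311945251)) (.node (.leaf 271594273) (.leaf 69022720016))))) (.node (.node (.node (.node (.leaf 1056784) (.leaf 287514915)) (.node (.leaf 19927090) (.leaf 4331680547))) (.node (.node (.leaf 16921139) (.leaf 322048816)) (.node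 (.leaf 270610992) (.leaf 5151797283)))) (.node (.node (.node (.leaf 1245714) (.leaf 305140227)) (.node (.leaf 269496371) (.leaf 4564464433))) (.node (.node (.leaf 18022704) (.leaf 4314894355)) (.node (.leaf 271781938) (.leaf 69528133939))))))))

def twoWord8 : Janko.Tree (ℕ) :=
  (.node (.node (.node (.node (.node (.node (.node (.leaf 272) (.leaf 285278499)) (.node (.leaf 18027056) (.leaf 4314903345))) (.node (.node (.leaf 1250066) (.leaf 305209392)) (.node (.leaf 269615411) (.leaf 4565574402)))) (.node (.node (.node (.leaf 1060883) (.leaf 288366883)) (.node (.leaf 19935539) (.leaf 4331802674))) (.node (.node (.leaf 16974643) (.leaf 4311818289)) (.node (.leaf 270733825) (.leaf 68989166384))))) (.node (.node (.node (.node (.leaf 73986) (.leaf 285414194)) (.node (.leaf 18952449) (.leaf 4328722481))) (.node (.node (.leaf 16855299) (.leaf 319828496)) (.node (.leaf 269693219) (.leaf 4614795282)))) (.node (.node (.node (.leaf 1127186) (.leaf 288567811)) (.node (.leaf 20120338) (.leaf 4346491698))) (.node (.node (.leaf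 17838096) (.leaf 4311953699)) (.node (.leaf 271654962) (.leaf 69038449424)))))) (.node (.node (.node (.node (.node (.leaf 66050) (.leaf 285348624)) (.node (.leaf 18879233) (.leaf 4315025971))) (.node (.node (.leaf 16843056) (.leaf 318833409)) (.node (.leaf 269681203) (.leaf 4566692144)))) (.node (.node (.node (.leaf 1114928) (.leaf 288437011)) (.node (.leaf 20001331) (.leaf 4345377299))) (.node (.node (.leaf 16986418) (.leaf 4311888400)) (.node (.leaf 271586081) (.leaf 68991131952))))) (.node (.node (.node (.node (.leaf 1052691) (.leaf 287387681)) (.node (.leaf 19079474) (.leaf 4329775410))) (.node (.node (.leaf 16913184) (.leaf 321065778)) (.node (.leaf 270606625) (.leaf 4883223312)))) (.node (.node (.node (.leaf 1192240) (.leaf 303182642)) (.node (.leaf 269488945) (.leaf 4348519187))) (.node (.node (.leaf 17961760) (.leaf 4314039091)) (.node (.leaf 271724593) (.leaf 69276344339))))))) (.node (.node (.node (.node (.node (.node (.leaf 4611) (.leaf 285290545)) (.node (.leaf 18031408) (.leaf 4314964752))) (.node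 (.node (.leaf 1257490) (.leaf 305271603)) (.node (.leaf 269627650) (.leaf 4566552595)))) (.node (.node (.node (.leaf 1061664) (.leaf 288424707)) (.node (.leaf 19989297) (.leaf 4331868931))) (.node (.node (.leaf 16982065) (.leaf 4311876368)) (.node (.leaf 270741523) (.leaf 68990214435))))) (.node (.node (.node (.node (.leaf 78082) (.leaf 287314706)) (.node (.leaf 19071795) (.leaf 4329702145))) (.node (.node (.leaf 16908592) (.leaf 320868912)) (.node (.leaf 270541587) (.leaf 4616954659)))) (.node (.node (.node (.leaf 1184274) (.leaf 303047426)) (.node (.leaf 20131859) (.leaf 4347474450))) (.node (.node (.leaf 17838881) (.leaf 4313907986)) (.node (.leaf 271659826) (.leaf 69040415539)))))) (.node (.node (.node (.node (.node (.leaf 70145) (.leaf 285409539)) (.node (.leaf 18940690) (.leaf 4315091763))) (.node (.node (.leaf 16850994) (.leaf 318911281)) (.node (.leaf 269685554) (.leaf 4600169249)))) (.node (.node (.node (.leaf 1126416) (.leaf 288502321)) (.node (.leaf 20058898) (.leaf 4346356496))) (.node (.node (.leaf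 17830657) (.leaf 4311945264)) (.node (.leaf 271594275) (.leaf 69024621331))))) (.node (.node (.node (.node (.leaf 1056786) (.leaf 287514928)) (.node (.leaf 19927091) (.leaf 4331680561))) (.node (.node (.leaf 16921345) (.leaf 322056208)) (.node (.leaf 270610994) (.leaf 5153829664)))) (.node (.node (.node (.leaf 1245715) (.leaf 305140499)) (.node (.leaf 269496577) (.leaf 4564582706))) (.node (.node (.leaf 18022705) (.leaf 4314894385)) (.node (.leaf 271781939) (.leaf 69528134416))))))))

def twoWord9 : Janko.Tree (ℕ) :=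
  (.node (.node (.node (.node (.node (.node (.node (.leaf 274) (.leaf 285278512)) (.node (.leaf 18027057) (.leaf 4314956033))) (.node (.node (.leaf 1250081) (.leaf 305209393)) (.node (.leaf 269615635) (.leaf 4565574432)))) (.node (.node (.node (.leaf 1060896) (.leaf 288366897)) (.node (.leaf 19935760) (.leaf 4331803139))) (.node (.node (.leaf 16977936) (.leaf 4311818290)) (.node (.leaf 270733827) (.leaf 68989169968))))) (.node (.node (.node (.node (.leaf 73987) (.leaf 285414195)) (.node (.leaf 18952450) (.leaf 4328722482))) (.node (.node (.leaf 16855328) (.leaf 319828530)) (.node (.leaf 269693232) (.leaf 4614795521)))) (.node (.node (.node (.leaf 1127187) (.leaf 302056193)) (.node (.leaf 20120353) (.leaf 4346544931))) (.node (.node (.leaf 17838098) (.leaf 4311953715)) (.node (.leaf 271655216) (.leaf 69038453043)))))) (.node (.node (.node (.node (.node (.leaf 66051) (.leaf 285348626)) (.node (.leaf 18879235) (.leaf 4315026177))) (.node (.node (.leaf 16843057) (.leaf 318833410)) (.node (.leaf 269681424) (.leaf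 4566692147)))) (.node (.node (.node (.leaf 1114929) (.leaf 288437024)) (.node (.leaf 20001539) (.leaf 4345377328))) (.node (.node (.leaf 16986419) (.leaf 4311888402)) (.node (.leaf 271586083) (.leaf 68991131953))))) (.node (.node (.node (.node (.leaf 1052704) (.leaf 287387683)) (.node (.leaf 19079475) (.leaf 4329775411))) (.node (.node (.leaf 16913185) (.leaf 321069345)) (.node (.leaf 270606627) (.leaf 4883226915)))) (.node (.node (.node (.leaf 1192241) (.leaf 303235329)) (.node (.leaf 269488947) (.leaf 4348519203))) (.node (.node (.leaf 17961763) (.leaf 4314042401)) (.node (.leaf 271724595) (.leaf 69276344369))))))) (.node (.node (.node (.node (.node (.node (.leaf 4624) (.leaf 285290547)) (.node (.leaf 18031411) (.leaf 4314964768))) (.node (.node (.leaf 1257491) (.leaf 305278992)) (.node (.leaf 269627651) (.leaf 4566552624)))) (.node (.node (.node (.leaf 1061665) (.leaf 288424720)) (.node (.leaf 19989298) (.leaf 4331868963))) (.node (.node (.leaf 16982066) (.leaf 4311879699)) (.node (.leaf 270741555) (.leaf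 68990214915))))) (.node (.node (.node (.node (.leaf 78083) (.leaf 287314721)) (.node (.leaf 19075088) (.leaf 4329702160))) (.node (.node (.leaf 16908593) (.leaf 320868914)) (.node (.leaf 270544912) (.leaf 4617023504)))) (.node (.node (.node (.leaf 1184275) (.leaf 303047427)) (.node (.leaf 20131889) (.leaf 4347474482))) (.node (.node (.leaf 17838883) (.leaf 4313908001)) (.node (.leaf 271712515) (.leaf 69040419619)))))) (.node (.node (.node (.node (.node (.leaf 70146) (.leaf 285409568)) (.node (.leaf 18940704) (.leaf 4315095058))) (.node (.node (.leaf 16851202) (.leaf 318967827)) (.node (.leaf 269685555) (.leaf 4600176690)))) (.node (.node (.node (.leaf 1126418) (.leaf 288502323)) (.node (.leaf 20058913) (.leaf 4346356512))) (.node (.node (.leaf 17830658) (.leaf 4311945265)) (.node (.leaf 271594289) (.leaf 69024621361))))) (.node (.node (.node (.node (.leaf 1056787) (.leaf 287514930)) (.node (.leaf 19927554) (.leaf 4331733251))) (.node (.node (.leaf 16921347) (.leaf 322056211)) (.node (.leaf 270610995) (.leaf 68988965424))))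 (.node (.node (.node (.leaf 1245745) (.leaf 305140513)) (.node (.leaf 269496578) (.leaf 4564594739))) (.node (.node (.leaf 18022706) (.leaf 4314894386)) (.node (.leaf 271782419) (.leaf 69528134418))))))))

def twoWord10 : Janko.Tree (ℕ) :=
  (.node (.node (.node (.node (.node (.node (.node (.leaf 275) (.leaf 285278513)) (.node (.leaf 18027058) (.leaf 4314956035))) (.node (.node (.leaf 1250083) (.leaf 305209394)) (.node (.leaf 269615665) (.leaf 4565577746)))) (.node (.node (.node (.leaf 1060897) (.leaf 288367378)) (.node (.leaf 19935762) (.leaf 4331803154))) (.node (.node (.leaf 16977939) (.leaf 4311819010)) (.node (.leaf 270733843) (.leaf 68989169970))))) (.node (.node (.node (.node (.leaf 74016) (.leaf 285417488)) (.node (.leaf 18952480) (.leaf 4328722963))) (.node (.node (.leaf 16855329) (.leaf 319828739)) (.node (.leaf 269693233) (.leaf 4614795553)))) (.node (.node (.node (.leaf 1127200) (.leaf 302063907)) (.node (.leaf 20120355) (.leaf 4346544945))) (.node (.node (.leaf 17838099) (.leaf 4311953921)) (.node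 (.leaf 271655217) (.leaf 69038453267)))))) (.node (.node (.node (.node (.node (.leaf 66064) (.leaf 285348640)) (.node (.leaf 18879248) (.leaf 4315026224))) (.node (.node (.leaf 16843058) (.leaf 318833426)) (.node (.leaf 269681426) (.leaf 4566745392)))) (.node (.node (.node (.leaf 1114930) (.leaf 288437027)) (.node (.leaf 20001554) (.leaf 4345430323))) (.node (.node (.leaf 16986625) (.leaf 4311888403)) (.node (.leaf 271586099) (.leaf 68991132451))))) (.node (.node (.node (.node (.leaf 1052705) (.leaf 287387698)) (.node (.leaf 19079937) (.leaf 4329775905))) (.node (.node (.leaf 16913187) (.leaf 321069842)) (.node (.leaf 270606640) (.leaf 4883227408)))) (.node (.node (.node (.leaf 1192243) (.leaf 303235331)) (.node (.leaf 269492273) (.leaf 4348519216))) (.node (.node (.leaf 17961777) (.leaf 4314042403)) (.node (.leaf 271724802) (.leaf 69276406578))))))) (.node (.node (.node (.node (.node (.node (.leaf 4626) (.leaf 285290753)) (.node (.leaf 18034704) (.leaf 4314964769))) (.node (.node (.leaf 1257521) (.leaf 305278995))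 (.node (.leaf 269627680) (.leaf 4566552625)))) (.node (.node (.node (.leaf 1061667) (.leaf 288424722)) (.node (.leaf 19989299) (.leaf 4331868976))) (.node (.node (.leaf 16982273) (.leaf 4311879728)) (.node (.leaf 270741763) (.leaf 68990218259))))) (.node (.node (.node (.node (.leaf 78112) (.leaf 287314723)) (.node (.leaf 19075091) (.leaf 4329702177))) (.node (.node (.leaf 16908594) (.leaf 320869121)) (.node (.leaf 270544915) (.leaf 4617077042)))) (.node (.node (.node (.leaf 1184304) (.leaf 303047456)) (.node (.leaf 20132099) (.leaf 4347474483))) (.node (.node (.leaf 17838896) (.leaf 4313908003)) (.node (.leaf 271712545) (.leaf 69040542211)))))) (.node (.node (.node (.node (.node (.leaf 70147) (.leaf 285409584)) (.node (.leaf 18940705) (.leaf 4315095344))) (.node (.node (.leaf 16851203) (.leaf 318967843)) (.node (.leaf 269688848) (.leaf 4600177410)))) (.node (.node (.node (.leaf 1126419) (.leaf 288502529)) (.node (.leaf 20058915) (.leaf 4346356513))) (.node (.node (.leaf 17830659) (.leaf 4311945266)) (.node (.leaf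 271646977) (.leaf 69024624928))))) (.node (.node (.node (.node (.leaf 1056801) (.leaf 287515393)) (.node (.leaf 19927555) (.leaf 4331733297))) (.node (.node (.leaf 16921360) (.leaf 322056241)) (.node (.leaf 270611203) (.leaf 68988965425)))) (.node (.node (.node (.leaf 1245746) (.leaf 305140515)) (.node (.leaf 269496579) (.leaf 4564594946))) (.node (.node (.leaf 18022913) (.leaf 4314894850)) (.node (.leaf 271782448) (.leaf 69541626161))))))))

def twoWord11 : Janko.Tree (ℕ) :=
  (.node (.node (.node (.node (.node (.node (.node (.leaf 288) (.leaf 285278514)) (.node (.leaf 18027059) (.leaf 4314956081))) (.node (.node (.leaf 1250096) (.leaf 305209649)) (.node (.leaf 269615873) (.leaf 4565577761)))) (.node (.node (.node (.leaf 1060899) (.leaf 288367379)) (.node (.leaf 19935793) (.leaf 4331803155))) (.node (.node (.leaf 16977952) (.leaf 4311819011)) (.node (.leaf 270733872) (.leaf 68989170433))))) (.node (.node (.node (.node (.leaf 74017) (.leaf 285417491)) (.node (.leaf 18952483) (.leaf 4328722994))) (.node (.node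 (.leaf 16855331) (.leaf 319828771)) (.node (.leaf 269693234) (.leaf 4614795792)))) (.node (.node (.node (.leaf 1127201) (.leaf 302063920)) (.node (.leaf 20120369) (.leaf 4346548784))) (.node (.node (.leaf 17838112) (.leaf 4311953923)) (.node (.leaf 271655218) (.leaf 69038453297)))))) (.node (.node (.node (.node (.node (.leaf 66066) (.leaf 285348641)) (.node (.leaf 18879250) (.leaf 4315026226))) (.node (.node (.leaf 16843059) (.leaf 318833440)) (.node (.leaf 269681427) (.leaf 4566745872)))) (.node (.node (.node (.leaf 1114931) (.leaf 288437041)) (.node (.leaf 20001555) (.leaf 4345430803))) (.node (.node (.leaf 16986627) (.leaf 4311888432)) (.node (.leaf 271589395) (.leaf 68991132464))))) (.node (.node (.node (.node (.leaf 1052707) (.leaf 287387906)) (.node (.leaf 19079939) (.leaf 4329775920))) (.node (.node (.leaf 16913200) (.leaf 321069843)) (.node (.leaf 270606641) (.leaf 4883231233)))) (.node (.node (.node (.leaf 1192449) (.leaf 303235377)) (.node (.leaf 269492481) (.leaf 4348522547))) (.node (.node (.leaf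 17961778) (.leaf 4314042418)) (.node (.leaf 271724803) (.leaf 69276414483))))))) (.node (.node (.node (.node (.node (.node (.leaf 4627) (.leaf 285290754)) (.node (.leaf 18034706) (.leaf 4314964771))) (.node (.node (.leaf 1257522) (.leaf 305279025)) (.node (.leaf 269627683) (.leaf 4566552626)))) (.node (.node (.node (.leaf 1061680) (.leaf 288424737)) (.node (.leaf 19996688) (.leaf 4331868978))) (.node (.node (.leaf 16982275) (.leaf 4311879729)) (.node (.leaf 270741808) (.leaf 68990218544))))) (.node (.node (.node (.node (.leaf 78113) (.leaf 287314739)) (.node (.leaf 19075105) (.leaf 4329706003))) (.node (.node (.leaf 16908595) (.leaf 320872753)) (.node (.leaf 270545153) (.leaf 4617080882)))) (.node (.node (.node (.leaf 1184305) (.leaf 303047457)) (.node (.leaf 20132147) (.leaf 4347474707))) (.node (.node (.leaf 17838897) (.leaf 4313915683)) (.node (.leaf 271712547) (.leaf 69040546578)))))) (.node (.node (.node (.node (.node (.leaf 70160) (.leaf 285409587)) (.node (.leaf 18940707) (.leaf 4315095346))) (.node (.node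 (.leaf 16851233) (.leaf 318968336)) (.node (.leaf 269688850) (.leaf 4600177440)))) (.node (.node (.node (.leaf 1126432) (.leaf 288502531)) (.node (.leaf 20058928) (.leaf 4346356515))) (.node (.node (.leaf 17830672) (.leaf 4311945729)) (.node (.leaf 271646979) (.leaf 69024625201))))) (.node (.node (.node (.node (.leaf 1056803) (.leaf 287515408)) (.node (.leaf 19927809) (.leaf 4331733520))) (.node (.node (.leaf 16921363) (.leaf 322109699)) (.node (.leaf 270611218) (.leaf 68988965651)))) (.node (.node (.node (.leaf 1245747) (.leaf 305144066)) (.node (.leaf 269496608) (.leaf 4564594976))) (.node (.node (.leaf 18022915) (.leaf 4314894851)) (.node (.leaf 271782449) (.leaf 69559529730))))))))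

def twoWord12 : Janko.Tree (ℕ) :=
  (.node (.node (.node (.node (.node (.node (.node (.leaf 289) (.leaf 285278739)) (.node (.leaf 18027265) (.leaf 4314956083))) (.node (.node (.leaf 1250097) (.leaf 305209650)) (.node (.leaf 269615888) (.leaf 4565577985)))) (.node (.node (.node (.leaf 1060913) (.leaf 288367393)) (.node (.leaf 19935795) (.leaf 4331803184))) (.node (.node (.leaf 16977953) (.leaf 4311819024)) (.node (.leaf 270733873) (.leaf 68989170464))))) (.node (.node (.node (.node (.leaf 74019) (.leaf 285417505)) (.node (.leaf 18952705) (.leaf 4328723218))) (.node (.node (.leaf 16855344) (.leaf 319947011)) (.node (.leaf 269693235) (.leaf 4614795826)))) (.node (.node (.node (.leaf 1127203) (.leaf 302063921)) (.node (.leaf 20120370) (.leaf 4346548786))) (.node (.node (.leaf 17838113) (.leaf 4311953938)) (.node (.leaf 271655219) (.leaf 69039296531)))))) (.node (.node (.node (.node (.node (.leaf 66067) (.leaf 285348643)) (.node (.leaf 18879265) (.leaf 4315026227))) (.node (.node (.leaf 16843267) (.leaf 318833441))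 (.node (.leaf 269681441) (.leaf 4566745874)))) (.node (.node (.node (.leaf 1122320) (.leaf 288437042)) (.node (.leaf 20001568) (.leaf 4345434145))) (.node (.node (.leaf 16986642) (.leaf 4311888433)) (.node (.leaf 271589425) (.leaf 68991136544))))) (.node (.node (.node (.node (.leaf 1052720) (.leaf 287388161)) (.node (.leaf 19079952) (.leaf 4329779491))) (.node (.node (.leaf 16913201) (.leaf 321073171)) (.node (.leaf 270606642) (.leaf 4883350288)))) (.node (.node (.node (.leaf 1192451) (.leaf 303235600)) (.node (.leaf 269492483) (.leaf 4348523056))) (.node (.node (.leaf 17969185) (.leaf 4314042883)) (.node (.leaf 271724832) (.leaf 69276414723))))))) (.node (.node (.node (.node (.node (.node (.leaf 4656) (.leaf 285290755)) (.node (.leaf 18034707) (.leaf 4314964787))) (.node (.node (.leaf 1257523) (.leaf 305279234)) (.node (.leaf 269627696) (.leaf 4566553090)))) (.node (.node (.node (.leaf 1061681) (.leaf 288424739)) (.node (.leaf 19996690) (.leaf 4331872275))) (.node (.node (.leaf 16982304) (.leaf 4311879730))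 (.node (.leaf 270741809) (.leaf 68990218547))))) (.node (.node (.node (.node (.leaf 78115) (.leaf 287318321)) (.node (.leaf 19075107) (.leaf 4329706242))) (.node (.node (.leaf 16908819) (.leaf 320876803)) (.node (.leaf 270545155) (.leaf 4617084944)))) (.node (.node (.node (.leaf 1184306) (.leaf 303047459)) (.node (.leaf 20132353) (.leaf 4347474723))) (.node (.node (.leaf 17957123) (.leaf 4313915697)) (.node (.leaf 271712560) (.leaf 69040546579)))))) (.node (.node (.node (.node (.node (.leaf 70162) (.leaf 285409793)) (.node (.leaf 18940720) (.leaf 4315095809))) (.node (.node (.leaf 16851235) (.leaf 318972161)) (.node (.leaf 269688851) (.leaf 4600234771)))) (.node (.node (.node (.leaf 1126433) (.leaf 288502578)) (.node (.leaf 20058929) (.leaf 4346356528))) (.node (.node (.leaf 17830674) (.leaf 4311945730)) (.node (.leaf 271647025) (.leaf 69024625203))))) (.node (.node (.node (.node (.leaf 1056816) (.leaf 287515410)) (.node (.leaf 19927810) (.leaf 4331733522))) (.node (.node (.leaf 16921376) (.leaf 322109746)) (.node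 (.leaf 270611219) (.leaf 68988969779)))) (.node (.node (.node (.leaf 1245968) (.leaf 305144099)) (.node (.leaf 269496609) (.leaf 4564594979))) (.node (.node (.leaf 18022928) (.leaf 4314895105)) (.node (.leaf 271782450) (.leaf 69559530002))))))))

def twoWord13 : Janko.Tree (ℕ) :=
  (.node (.node (.node (.node (.node (.node (.node (.leaf 291) (.leaf 285278768)) (.node (.leaf 18027267) (.leaf 4314956291))) (.node (.node (.leaf 1250098) (.leaf 305210114)) (.node (.leaf 269615890) (.leaf 4565577986)))) (.node (.node (.node (.leaf 1060914) (.leaf 288367409)) (.node (.leaf 19936016) (.leaf 4331803185))) (.node (.node (.leaf 16977955) (.leaf 4311819026)) (.node (.leaf 270733874) (.leaf 68989170465))))) (.node (.node (.node (.node (.leaf 74032) (.leaf 285417521)) (.node (.leaf 18952707) (.leaf 4328726817))) (.node (.node (.leaf 16855345) (.leaf 319947043)) (.node (.leaf 269693441) (.leaf 4614796035)))) (.node (.node (.node (.leaf 1127216) (.leaf 302063922)) (.node (.leaf 20120371) (.leaf 4346553121))) (.node (.node (.leaf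 17838115) (.leaf 4311953939)) (.node (.leaf 271655682) (.leaf 69039297296)))))) (.node (.node (.node (.node (.node (.leaf 66096) (.leaf 285356048)) (.node (.leaf 18879267) (.leaf 4315033649))) (.node (.node (.leaf 16843280) (.leaf 318833456)) (.node (.leaf 269681443) (.leaf 4566749234)))) (.node (.node (.node (.leaf 1122322) (.leaf 288489761)) (.node (.leaf 20001569) (.leaf 4345434625))) (.node (.node (.leaf 16986643) (.leaf 4311888435)) (.node (.leaf 271589633) (.leaf 68991136560))))) (.node (.node (.node (.node (.leaf 1052721) (.leaf 287388163)) (.node (.leaf 19079954) (.leaf 4329779507))) (.node (.node (.leaf 16913202) (.leaf 321917443)) (.node (.leaf 270606643) (.leaf 4883362322)))) (.node (.node (.node (.leaf 1192464) (.leaf 303235634)) (.node (.leaf 269492513) (.leaf 4348523059))) (.node (.node (.leaf 17969187) (.leaf 4314042928)) (.node (.leaf 271724835) (.leaf 69276476161))))))) (.node (.node (.node (.node (.node (.node (.leaf 4657) (.leaf 285290784)) (.node (.leaf 18034737) (.leaf 4314968080))) (.node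 (.node (.leaf 1257729) (.leaf 305279235)) (.node (.leaf 269627697) (.leaf 4566556961)))) (.node (.node (.node (.leaf 1061682) (.leaf 288424752)) (.node (.leaf 19996691) (.leaf 4331873027))) (.node (.node (.leaf 16982305) (.leaf 4311880211)) (.node (.leaf 270741810) (.leaf 68990218755))))) (.node (.node (.node (.node (.leaf 78128) (.leaf 287322128)) (.node (.leaf 19075120) (.leaf 4329706272))) (.node (.node (.leaf 16908849) (.leaf 320877075)) (.node (.leaf 270545185) (.leaf 4617084947)))) (.node (.node (.node (.leaf 1184307) (.leaf 303050785)) (.node (.leaf 20132355) (.leaf 4347474736))) (.node (.node (.leaf 17957155) (.leaf 4313915698)) (.node (.leaf 271712561) (.leaf 69041402113)))))) (.node (.node (.node (.node (.node (.leaf 70163) (.leaf 285409795)) (.node (.leaf 18948115) (.leaf 4315095811))) (.node (.node (.leaf 16851248) (.leaf 318972688)) (.node (.leaf 269688865) (.leaf 4600238611)))) (.node (.node (.node (.leaf 1126435) (.leaf 288555312)) (.node (.leaf 20058930) (.leaf 4346356530))) (.node (.node (.leaf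 17830675) (.leaf 4311945731)) (.node (.leaf 271647027) (.leaf 69024625424))))) (.node (.node (.node (.node (.leaf 1056817) (.leaf 287515411)) (.node (.leaf 19927824) (.leaf 4331733552))) (.node (.node (.leaf 16921377) (.leaf 322110224)) (.node (.leaf 270611235) (.leaf 68988973315)))) (.node (.node (.node (.leaf 1245970) (.leaf 305144113)) (.node (.leaf 269496611) (.leaf 4564595201))) (.node (.node (.leaf 18022930) (.leaf 4314895120)) (.node (.leaf 271782451) (.leaf 69561549601))))))))

def twoWord14 : Janko.Tree (ℕ) :=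
  (.node (.node (.node (.node (.node (.node (.node (.leaf 304) (.leaf 285278771)) (.node (.leaf 18027282) (.leaf 4314956304))) (.node (.node (.leaf 1250099) (.leaf 305210144)) (.node (.leaf 269615905) (.leaf 4565578241)))) (.node (.node (.node (.leaf 1060915) (.leaf 288367411)) (.node (.leaf 19936018) (.leaf 4331803186))) (.node (.node (.leaf 16977968) (.leaf 4311819040)) (.node (.leaf 270734081) (.leaf 68990075185))))) (.node (.node (.node (.node (.leaf 74033) (.leaf 285417731)) (.node (.leaf 18952722) (.leaf 4328726819))) (.node (.node (.leaf 16855346) (.leaf 319947057)) (.node (.leaf 269693459) (.leaf 4614796067)))) (.node (.node (.node (.leaf 1127217) (.leaf 302064400)) (.node (.leaf 20123667) (.leaf 4346556707))) (.node (.node (.leaf 17838129) (.leaf 4311953968)) (.node (.leaf 271655683) (.leaf 69039297299)))))) (.node (.node (.node (.node (.node (.leaf 66097) (.leaf 285356050)) (.node (.leaf 18879281) (.leaf 4315033888))) (.node (.node (.leaf 16843282) (.leaf 318833458)) (.node (.leaf 269681457) (.leaf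 4566749747)))) (.node (.node (.node (.leaf 1122323) (.leaf 288489763)) (.node (.leaf 20001571) (.leaf 4345434643))) (.node (.node (.leaf 16986672) (.leaf 4311888641)) (.node (.leaf 271589634) (.leaf 68991193603))))) (.node (.node (.node (.node (.leaf 1052722) (.leaf 287388208)) (.node (.leaf 19079955) (.leaf 4329779760))) (.node (.node (.leaf 16913203) (.leaf 321917731)) (.node (.leaf 270607106) (.leaf 4883415843)))) (.node (.node (.node (.leaf 1192466) (.leaf 303235635)) (.node (.leaf 269492515) (.leaf 4348523296))) (.node (.node (.leaf 17969201) (.leaf 4314042929)) (.node (.leaf 271724848) (.leaf 69306745633))))))) (.node (.node (.node (.node (.node (.node (.leaf 4658) (.leaf 285290785)) (.node (.leaf 18034738) (.leaf 4314968083))) (.node (.node (.leaf 1257731) (.leaf 305279264)) (.node (.leaf 269627905) (.leaf 4566557491)))) (.node (.node (.node (.leaf 1114369) (.leaf 288424753)) (.node (.leaf 19996707) (.leaf 4331873040))) (.node (.node (.leaf 16982307) (.leaf 4311880240)) (.node (.leaf 270741811) (.leaf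 68990219009))))) (.node (.node (.node (.node (.leaf 78129) (.leaf 287322369)) (.node (.leaf 19075121) (.leaf 4329706275))) (.node (.node (.leaf 16909057) (.leaf 320930576)) (.node (.leaf 270545187) (.leaf 4834988082)))) (.node (.node (.node (.leaf 1184513) (.leaf 303050787)) (.node (.leaf 20132401) (.leaf 4347592963))) (.node (.node (.leaf 17957168) (.leaf 4313915699)) (.node (.leaf 271712787) (.leaf 69041402673)))))) (.node (.node (.node (.node (.node (.leaf 70192) (.leaf 285409810)) (.node (.leaf 18948144) (.leaf 4315095824))) (.node (.node (.leaf 16851249) (.leaf 318976305)) (.node (.leaf 269688881) (.leaf 4600238640)))) (.node (.node (.node (.leaf 1126449) (.leaf 288555314)) (.node (.leaf 20058931) (.leaf 4346359826))) (.node (.node (.leaf 17830688) (.leaf 4311945747)) (.node (.leaf 271647235) (.leaf 69024625441))))) (.node (.node (.node (.node (.leaf 1056818) (.leaf 287515440)) (.node (.leaf 19927826) (.leaf 4331733553))) (.node (.node (.leaf 16921379) (.leaf 322113586)) (.node (.leaf 270611248) (.leaf 68988973843))))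 (.node (.node (.node (.leaf 1245971) (.leaf 305144595)) (.node (.leaf 269496624) (.leaf 4564648193))) (.node (.node (.leaf 18022931) (.leaf 4314895122)) (.node (.leaf 271782659) (.leaf 69561680179))))))))

def twoWord15 : Janko.Tree (ℕ) :=
  (.node (.node (.node (.node (.node (.node (.node (.leaf 305) (.leaf 285278977)) (.node (.leaf 18027299) (.leaf 4314956307))) (.node (.node (.leaf 1253392) (.leaf 305210145)) (.node (.leaf 269615907) (.leaf 4565578258)))) (.node (.node (.node (.leaf 1061121) (.leaf 288370946)) (.node (.leaf 19936019) (.leaf 4331803393))) (.node (.node (.leaf 16977969) (.leaf 4311819043)) (.node (.leaf 270734083) (.leaf 68990075666))))) (.node (.node (.node (.node (.leaf 74034) (.leaf 285417760)) (.node (.leaf 18952723) (.leaf 4328727329))) (.node (.node (.leaf 16855347) (.leaf 319947313)) (.node (.leaf 269693488) (.leaf 4614914307)))) (.node (.node (.node (.leaf 1127218) (.leaf 302064402)) (.node (.leaf 20123696) (.leaf 4346556720))) (.node (.node (.leaf 17838130) (.leaf 4311954179)) (.node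 (.leaf 271655696) (.leaf 69039301392)))))) (.node (.node (.node (.node (.node (.leaf 66098) (.leaf 285356051)) (.node (.leaf 18879283) (.leaf 4315033891))) (.node (.node (.leaf 16843283) (.leaf 318840865)) (.node (.leaf 269681458) (.leaf 4566753298)))) (.node (.node (.node (.leaf 1122337) (.leaf 288489777)) (.node (.leaf 20001584) (.leaf 4345434672))) (.node (.node (.leaf 16986673) (.leaf 4311888643)) (.node (.leaf 271589664) (.leaf 68991193649))))) (.node (.node (.node (.node (.leaf 1052723) (.leaf 287388210)) (.node (.leaf 19079984) (.leaf 4329779971))) (.node (.node (.leaf 16920592) (.leaf 321925377)) (.node (.leaf 270607107) (.leaf 4884341522)))) (.node (.node (.node (.leaf 1192467) (.leaf 303235858)) (.node (.leaf 269492528) (.leaf 4348523297))) (.node (.node (.leaf 17969202) (.leaf 4314042930)) (.node (.leaf 271724849) (.leaf 69306753073))))))) (.node (.node (.node (.node (.node (.node (.leaf 4659) (.leaf 285290787)) (.node (.leaf 18034739) (.leaf 4314968115))) (.node (.node (.leaf 1257761) (.leaf 305279267))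 (.node (.leaf 269627907) (.leaf 4566561554)))) (.node (.node (.node (.leaf 1114370) (.leaf 288424754)) (.node (.leaf 19996720) (.leaf 4331876368))) (.node (.node (.leaf 16982320) (.leaf 4311880241)) (.node (.leaf 270742017) (.leaf 68990219011))))) (.node (.node (.node (.node (.leaf 78130) (.leaf 287322371)) (.node (.leaf 19075122) (.leaf 4329713922))) (.node (.node (.leaf 16909072) (.leaf 320938033)) (.node (.leaf 270545201) (.leaf 4835050256)))) (.node (.node (.node (.leaf 1184514) (.leaf 303050802)) (.node (.leaf 269488144) (.leaf 4347593488))) (.node (.node (.leaf 17957169) (.leaf 4313916162)) (.node (.leaf 271713040) (.leaf 69041464066)))))) (.node (.node (.node (.node (.node (.leaf 70193) (.leaf 285409811)) (.node (.leaf 18948145) (.leaf 4315095826))) (.node (.node (.leaf 16851250) (.leaf 318976307)) (.node (.leaf 269688882) (.leaf 4600238642)))) (.node (.node (.node (.leaf 1126450) (.leaf 288555315)) (.node (.leaf 20066320) (.leaf 4346359840))) (.node (.node (.leaf 17830689) (.leaf 4311945776)) (.node (.leaf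 271647248) (.leaf 69024678450))))) (.node (.node (.node (.node (.leaf 1057025) (.leaf 287519024)) (.node (.leaf 19927827) (.leaf 4331733554))) (.node (.node (.leaf 16921392) (.leaf 322114352)) (.node (.leaf 270729473) (.leaf 68988973859)))) (.node (.node (.node (.leaf 1245985) (.leaf 305144625)) (.node (.leaf 269496627) (.leaf 4564648195))) (.node (.node (.leaf 18022961) (.leaf 4314895123)) (.node (.leaf 271782691) (.leaf 69576176178))))))))

def twoWord16 : Janko.Tree (ℕ) :=
  (.node (.node (.node (.node (.node (.node (.node (.leaf 306) (.leaf 285278979)) (.node (.leaf 18027313) (.leaf 4314956337))) (.node (.node (.leaf 1253394) (.leaf 305213459)) (.node (.leaf 269619233) (.leaf 4565578290)))) (.node (.node (.node (.leaf 1061122) (.leaf 288370977)) (.node (.leaf 19936033) (.leaf 4331803410))) (.node (.node (.leaf 16977970) (.leaf 4311822352)) (.node (.leaf 270734098) (.leaf 68990083376))))) (.node (.node (.node (.node (.leaf 74035) (.leaf 285417761)) (.node (.leaf 18952752) (.leaf 4329575184))) (.node (.node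 (.leaf 16855553) (.leaf 319947521)) (.node (.leaf 269693489) (.leaf 4614914832)))) (.node (.node (.node (.leaf 1179907) (.leaf 302064419)) (.node (.leaf 20123698) (.leaf 4346556723))) (.node (.node (.leaf 17838131) (.leaf 4313845808)) (.node (.leaf 271655698) (.leaf 69039301411)))))) (.node (.node (.node (.node (.node (.leaf 66099) (.leaf 285356065)) (.node (.leaf 18882865) (.leaf 4315033904))) (.node (.node (.leaf 16843312) (.leaf 318840867)) (.node (.leaf 269681459) (.leaf 4566753299)))) (.node (.node (.node (.leaf 1122339) (.leaf 288490258)) (.node (.leaf 20001585) (.leaf 4345434674))) (.node (.node (.leaf 16986881) (.leaf 4311888659)) (.node (.leaf 271589665) (.leaf 68991193650))))) (.node (.node (.node (.node (.leaf 1053185) (.leaf 287506960)) (.node (.leaf 19083280) (.leaf 4331671570))) (.node (.node (.leaf 16920594) (.leaf 321925378)) (.node (.leaf 270607120) (.leaf 4884341536)))) (.node (.node (.node (.leaf 1192496) (.leaf 303235889)) (.node (.leaf 269492529) (.leaf 4348523312))) (.node (.node (.leaf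 17969203) (.leaf 4314046480)) (.node (.leaf 271724851) (.leaf 69307732017))))))) (.node (.node (.node (.node (.node (.node (.leaf 4865) (.leaf 285290800)) (.node (.leaf 18034977) (.leaf 4314968355))) (.node (.node (.leaf 1257763) (.leaf 305279281)) (.node (.leaf 269627922) (.leaf 4566561571)))) (.node (.node (.node (.leaf 1114371) (.leaf 288424755)) (.node (.leaf 19996721) (.leaf 4331876371))) (.node (.node (.leaf 16982321) (.leaf 4311880242)) (.node (.leaf 270742019) (.leaf 68991062032))))) (.node (.node (.node (.node (.leaf 78131) (.leaf 287322401)) (.node (.leaf 19075123) (.leaf 4329713923))) (.node (.node (.leaf 16909074) (.leaf 320938034)) (.node (.leaf 270545203) (.leaf 4835119666)))) (.node (.node (.node (.leaf 1184515) (.leaf 303050803)) (.node (.leaf 269488146) (.leaf 4347596849))) (.node (.node (.leaf 17957170) (.leaf 4313916163)) (.node (.leaf 271713042) (.leaf 69041464082)))))) (.node (.node (.node (.node (.node (.leaf 70194) (.leaf 285409841)) (.node (.leaf 18948146) (.leaf 4315099152))) (.node (.node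 (.leaf 16851251) (.leaf 318976531)) (.node (.leaf 269689089) (.leaf 4600246291)))) (.node (.node (.node (.leaf 1126451) (.leaf 288555792)) (.node (.leaf 20066323) (.leaf 4346359841))) (.node (.node (.leaf 17830691) (.leaf 4311945777)) (.node (.leaf 271647250) (.leaf 69024678688))))) (.node (.node (.node (.node (.leaf 1057026) (.leaf 287519026)) (.node (.leaf 19927840) (.leaf 4331733555))) (.node (.node (.leaf 16921393) (.leaf 322114354)) (.node (.leaf 270729475) (.leaf 68988973873)))) (.node (.node (.node (.leaf 1245987) (.leaf 305144627)) (.node (.leaf 269496833) (.leaf 4564648241))) (.node (.node (.leaf 18022962) (.leaf 4314895137)) (.node (.leaf 271782704) (.leaf 69576306723))))))))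

def twoWord17 : Janko.Tree (ℕ) :=
  (.node (.node (.node (.node (.node (.node (.node (.leaf 307) (.leaf 285278992)) (.node (.leaf 18027314) (.leaf 4314956338))) (.node (.node (.leaf 1253395) (.leaf 305213490)) (.node (.leaf 269619235) (.leaf 4565578291)))) (.node (.node (.node (.leaf 1061123) (.leaf 288370993)) (.node (.leaf 19936035) (.leaf 4331803425))) (.node (.node (.leaf 16977971) (.leaf 4311822355)) (.node (.leaf 270734128) (.leaf 68990083842))))) (.node (.node (.node (.node (.leaf 74497) (.leaf 285417763)) (.node (.leaf 18952754) (.leaf 4329578800))) (.node (.node (.leaf 16855554) (.leaf 319947536)) (.node (.leaf 269693697) (.leaf 4614918961)))) (.node (.node (.node (.leaf 1179937) (.leaf 302067728)) (.node (.leaf 20123699) (.leaf 4346556929))) (.node (.node (.leaf 17838337) (.leaf 4313845809)) (.node (.leaf 271655699) (.leaf 69039304722)))))) (.node (.node (.node (.node (.node (.leaf 66305) (.leaf 285356081)) (.node (.leaf 18883347) (.leaf 4315033905))) (.node (.node (.leaf 16843313) (.leaf 318840880))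 (.node (.leaf 269684752) (.leaf 4566753587)))) (.node (.node (.node (.leaf 1122352) (.leaf 288490259)) (.node (.leaf 20001586) (.leaf 4345434881))) (.node (.node (.leaf 16986883) (.leaf 4311888672)) (.node (.leaf 271589667) (.leaf 68991201584))))) (.node (.node (.node (.node (.leaf 1053186) (.leaf 287506962)) (.node (.leaf 19083283) (.leaf 4331671571))) (.node (.node (.leaf 16920595) (.leaf 321925681)) (.node (.leaf 270607122) (.leaf 4884341537)))) (.node (.node (.node (.leaf 1192497) (.leaf 303239187)) (.node (.leaf 269492530) (.leaf 4348523314))) (.node (.node (.leaf 17969410) (.leaf 4314046483)) (.node (.leaf 271725074) (.leaf 69307732752))))))) (.node (.node (.node (.node (.node (.node (.leaf 4866) (.leaf 285291009)) (.node (.leaf 18034979) (.leaf 4314968624))) (.node (.node (.leaf 1257776) (.leaf 305279283)) (.node (.leaf 269627923) (.leaf 4566614273)))) (.node (.node (.node (.leaf 1114400) (.leaf 288432144)) (.node (.leaf 19996722) (.leaf 4331876865))) (.node (.node (.leaf 16982322) (.leaf 4311880243))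 (.node (.leaf 270742064) (.leaf 68991062035))))) (.node (.node (.node (.node (.leaf 78337) (.leaf 287322403)) (.node (.leaf 19075585) (.leaf 4329713952))) (.node (.node (.leaf 16909075) (.leaf 320938289)) (.node (.leaf 270545424) (.leaf 4848751362)))) (.node (.node (.node (.leaf 1184528) (.leaf 303051011)) (.node (.leaf 269488147) (.leaf 4347596850))) (.node (.node (.leaf 17957171) (.leaf 4313916176)) (.node (.leaf 271713043) (.leaf 69041464099)))))) (.node (.node (.node (.node (.node (.leaf 70195) (.leaf 285409843)) (.node (.leaf 18948385) (.leaf 4315099155))) (.node (.node (.leaf 16851714) (.leaf 318976561)) (.node (.leaf 269689091) (.leaf 4600246579)))) (.node (.node (.node (.leaf 1126657) (.leaf 288555794)) (.node (.leaf 20066353) (.leaf 4346360065))) (.node (.node (.leaf 17830705) (.leaf 4311945778)) (.node (.leaf 271647251) (.leaf 69024678689))))) (.node (.node (.node (.node (.leaf 1057027) (.leaf 287519027)) (.node (.leaf 19927841) (.leaf 4331733762))) (.node (.node (.leaf 16921394) (.leaf 322117648))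 (.node (.leaf 270729504) (.leaf 68989092146)))) (.node (.node (.node (.leaf 1246001) (.leaf 305148161)) (.node (.leaf 269496834) (.leaf 4564648466))) (.node (.node (.leaf 18022963) (.leaf 4314898451)) (.node (.leaf 271782706) (.leaf 69578339104))))))))

def twoWord18 : Janko.Tree (ℕ) :=
  (.node (.node (.node (.node (.node (.node (.node (.leaf 4112) (.leaf 285278994)) (.node (.leaf 18027315) (.leaf 4314956339))) (.node (.node (.leaf 1253409) (.leaf 305213729)) (.node (.leaf 269619248) (.leaf 4565696771)))) (.node (.node (.node (.leaf 1061152) (.leaf 288370995)) (.node (.leaf 19936049) (.leaf 4331803427))) (.node (.node (.leaf 16978433) (.leaf 4311822368)) (.node (.leaf 270734130) (.leaf 68990083872))))) (.node (.node (.node (.node (.leaf 74498) (.leaf 285417778)) (.node (.leaf 18952755) (.leaf 4329578801))) (.node (.node (.leaf 16855555) (.leaf 319947553)) (.node (.leaf 269693699) (.leaf 4614926387)))) (.node (.node (.node (.leaf 1179939) (.leaf 302067763)) (.node (.leaf 20124179) (.leaf 4346556977))) (.node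 (.node (.leaf 17838338) (.leaf 4313846320)) (.node (.leaf 271655712) (.leaf 69039304961)))))) (.node (.node (.node (.node (.node (.leaf 66306) (.leaf 285356082)) (.node (.leaf 18886672) (.leaf 4315033907))) (.node (.node (.leaf 16843314) (.leaf 318840881)) (.node (.leaf 269684755) (.leaf 4566754049)))) (.node (.node (.node (.leaf 1122353) (.leaf 288490273)) (.node (.leaf 20054275) (.leaf 4345442563))) (.node (.node (.leaf 16986896) (.leaf 4311888688)) (.node (.leaf 271589680) (.leaf 68991201587))))) (.node (.node (.node (.node (.leaf 1053187) (.leaf 287506963)) (.node (.leaf 19083315) (.leaf 4331671601))) (.node (.node (.leaf 16920609) (.leaf 321925923)) (.node (.leaf 270607136) (.leaf 4884345619)))) (.node (.node (.node (.leaf 1192499) (.leaf 303239201)) (.node (.leaf 269492993) (.leaf 4348576003))) (.node (.node (.leaf 17969411) (.leaf 4314046513)) (.node (.leaf 271725075) (.leaf 69307736355))))))) (.node (.node (.node (.node (.node (.node (.leaf 4867) (.leaf 285291010)) (.node (.leaf 18034992) (.leaf 4314968626)))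 (.node (.node (.leaf 1257777) (.leaf 305279745)) (.node (.leaf 269627952) (.leaf 4566614275)))) (.node (.node (.node (.leaf 1114403) (.leaf 288432146)) (.node (.leaf 19996976) (.leaf 4331876867))) (.node (.node (.leaf 16982323) (.leaf 4311880449)) (.node (.leaf 270742065) (.leaf 68991062064))))) (.node (.node (.node (.node (.leaf 78338) (.leaf 287322640)) (.node (.leaf 19075587) (.leaf 4329714194))) (.node (.node (.leaf 16909089) (.leaf 320938290)) (.node (.leaf 270545426) (.leaf 4848751378)))) (.node (.node (.node (.leaf 1184530) (.leaf 303051040)) (.node (.leaf 269488161) (.leaf 4347597315))) (.node (.node (.leaf 17957395) (.leaf 4313916192)) (.node (.leaf 271713057) (.leaf 69041532944)))))) (.node (.node (.node (.node (.node (.leaf 70401) (.leaf 285410081)) (.node (.leaf 18948387) (.leaf 4315099185))) (.node (.node (.leaf 16851715) (.leaf 319819795)) (.node (.leaf 269689120) (.leaf 4600247041)))) (.node (.node (.node (.leaf 1126658) (.leaf 288555809)) (.node (.leaf 20066355) (.leaf 4346360097))) (.node (.node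 (.leaf 17830707) (.leaf 4311945779)) (.node (.leaf 271647280) (.leaf 69024686130))))) (.node (.node (.node (.node (.leaf 1057056) (.leaf 287519235)) (.node (.leaf 19927843) (.leaf 4331733778))) (.node (.node (.leaf 16974081) (.leaf 322117651)) (.node (.leaf 270729521) (.leaf 68989104179)))) (.node (.node (.node (.leaf 1246002) (.leaf 305148162)) (.node (.leaf 269496835) (.leaf 4564648723))) (.node (.node (.leaf 18023184) (.leaf 4314898481)) (.node (.leaf 271782707) (.leaf 73033515827))))))))

def twoWord19 : Janko.Tree (ℕ) :=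
  (.node (.node (.node (.node (.node (.node (.node (.leaf 4114) (.leaf 285279009)) (.node (.leaf 18030608) (.leaf 4314956545))) (.node (.node (.leaf 1253425) (.leaf 305214243)) (.node (.leaf 269619249) (.leaf 4565696800)))) (.node (.node (.node (.leaf 1061153) (.leaf 288371216)) (.node (.leaf 19988737) (.leaf 4331803440))) (.node (.node (.leaf 16978434) (.leaf 4311822369)) (.node (.leaf 270734131) (.leaf 68990087186))))) (.node (.node (.node (.node (.leaf 74499) (.leaf 285418241)) (.node (.leaf 18952963) (.leaf 4329578802))) (.node (.node (.leaf 16855568) (.leaf 319947555)) (.node (.leaf 269693712) (.leaf 4614926849)))) (.node (.node (.node (.leaf 1179952) (.leaf 302068272)) (.node (.leaf 20124208) (.leaf 4347400241))) (.node (.node (.leaf 17838339) (.leaf 4313846322)) (.node (.leaf 271655713) (.leaf 69039304993)))))) (.node (.node (.node (.node (.node (.leaf 66307) (.leaf 285356289)) (.node (.leaf 18886675) (.leaf 4315034130))) (.node (.node (.leaf 16843315) (.leaf 318840882)) (.node (.leaf 269684768) (.leaf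 4566754051)))) (.node (.node (.node (.leaf 1122354) (.leaf 288493587)) (.node (.leaf 20054305) (.leaf 4345442611))) (.node (.node (.leaf 16986898) (.leaf 4311888690)) (.node (.leaf 271589681) (.leaf 68991254832))))) (.node (.node (.node (.node (.leaf 1053200) (.leaf 287506993)) (.node (.leaf 19083523) (.leaf 4331671602))) (.node (.node (.leaf 16920611) (.leaf 321925937)) (.node (.leaf 270607137) (.leaf 4884468272)))) (.node (.node (.node (.leaf 1192705) (.leaf 303239203)) (.node (.leaf 269492994) (.leaf 4348580400))) (.node (.node (.leaf 17969440) (.leaf 4314046753)) (.node (.leaf 271725105) (.leaf 69307736848))))))) (.node (.node (.node (.node (.node (.node (.leaf 4880) (.leaf 285291011)) (.node (.leaf 18034993) (.leaf 4314968627))) (.node (.node (.leaf 1257778) (.leaf 305279747)) (.node (.leaf 269627953) (.leaf 4566614321)))) (.node (.node (.node (.leaf 1114416) (.leaf 288432147)) (.node (.leaf 19996977) (.leaf 4345364739))) (.node (.node (.leaf 16982785) (.leaf 4311880450)) (.node (.leaf 270742273) (.leaf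 68991062065))))) (.node (.node (.node (.node (.leaf 78339) (.leaf 287322642)) (.node (.leaf 19075603) (.leaf 4329714227))) (.node (.node (.leaf 16909091) (.leaf 320938754)) (.node (.leaf 270545427) (.leaf 4848751393)))) (.node (.node (.node (.leaf 1184544) (.leaf 303051043)) (.node (.leaf 269488163) (.leaf 4347597360))) (.node (.node (.leaf 17957425) (.leaf 4313916193)) (.node (.leaf 271716371) (.leaf 69041586482)))))) (.node (.node (.node (.node (.node (.leaf 70402) (.leaf 285410097)) (.node (.leaf 18948400) (.leaf 4315099395))) (.node (.node (.leaf 16851728) (.leaf 319819825)) (.node (.leaf 269689121) (.leaf 4600247043)))) (.node (.node (.node (.leaf 1126659) (.leaf 288555827)) (.node (.leaf 20066562) (.leaf 4346360099))) (.node (.node (.leaf 17834033) (.leaf 4311945987)) (.node (.leaf 271647281) (.leaf 69024686850))))) (.node (.node (.node (.node (.leaf 1057057) (.leaf 287519280)) (.node (.leaf 19927859) (.leaf 4331733792))) (.node (.node (.leaf 16974083) (.leaf 4311810305)) (.node (.leaf 270729522) (.leaf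 68989104386)))) (.node (.node (.node (.leaf 1246003) (.leaf 305148192)) (.node (.leaf 269496848) (.leaf 4564648755))) (.node (.node (.leaf 18023186) (.leaf 4314898690)) (.node (.leaf 271786000) (.leaf 73033519137))))))))

def twoWord20 : Janko.Tree (ℕ) :=
  (.node (.node (.node (.node (.node (.node (.node (.leaf 4115) (.leaf 285279011)) (.node (.leaf 18030610) (.leaf 4314956546))) (.node (.node (.leaf 1253426) (.leaf 305214258)) (.node (.leaf 269619250) (.leaf 4565697315)))) (.node (.node (.node (.leaf 1061155) (.leaf 288371249)) (.node (.leaf 19988739) (.leaf 4331803441))) (.node (.node (.leaf 16978435) (.leaf 4311822371)) (.node (.leaf 270737424) (.leaf 68990087201))))) (.node (.node (.node (.node (.leaf 74512) (.leaf 285418243)) (.node (.leaf 18952978) (.leaf 4329579265))) (.node (.node (.leaf 16855570) (.leaf 319951665)) (.node (.leaf 269693714) (.leaf 4614926896)))) (.node (.node (.node (.leaf 1179953) (.leaf 302068274)) (.node (.leaf 20124209) (.leaf 4347400723))) (.node (.node (.leaf 17838368) (.leaf 4313846529))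 (.node (.leaf 271655715) (.leaf 69039305232)))))) (.node (.node (.node (.node (.node (.leaf 66320) (.leaf 285356290)) (.node (.leaf 18886913) (.leaf 4315034131))) (.node (.node (.leaf 16843521) (.leaf 318844961)) (.node (.leaf 269684769) (.leaf 4566757425)))) (.node (.node (.node (.leaf 1122562) (.leaf 288493618)) (.node (.leaf 20054307) (.leaf 4345442835))) (.node (.node (.leaf 16986899) (.leaf 4311941377)) (.node (.leaf 271590160) (.leaf 68991255312))))) (.node (.node (.node (.node (.leaf 1053202) (.leaf 287506995)) (.node (.leaf 19083568) (.leaf 4331672067))) (.node (.node (.leaf 16920625) (.leaf 321979138)) (.node (.leaf 270607139) (.leaf 4885328689)))) (.node (.node (.node (.leaf 1192707) (.leaf 303239681)) (.node (.leaf 269492995) (.leaf 4348580656))) (.node (.node (.leaf 17969443) (.leaf 4314046755)) (.node (.leaf 271725107) (.leaf 69307740673))))))) (.node (.node (.node (.node (.node (.node (.leaf 4882) (.leaf 285291026)) (.node (.leaf 18034994) (.leaf 4314968850))) (.node (.node (.leaf 1257779) (.leaf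 305332483)) (.node (.leaf 269627955) (.leaf 4566614544)))) (.node (.node (.node (.leaf 1114417) (.leaf 288432177)) (.node (.leaf 19996978) (.leaf 4345364785))) (.node (.node (.leaf 16982787) (.leaf 4311880451)) (.node (.leaf 270742275) (.leaf 68991062066))))) (.node (.node (.node (.node (.leaf 78352) (.leaf 287322643)) (.node (.leaf 19075632) (.leaf 4329714480))) (.node (.node (.leaf 16912403) (.leaf 320938768)) (.node (.leaf 270545457) (.leaf 4848816689)))) (.node (.node (.node (.leaf 1184545) (.leaf 303051265)) (.node (.leaf 269488176) (.leaf 4347597616))) (.node (.node (.leaf 17957633) (.leaf 4313919507)) (.node (.leaf 271716400) (.leaf 69041590322)))))) (.node (.node (.node (.node (.node (.leaf 70403) (.leaf 285410098)) (.node (.leaf 18948401) (.leaf 4315099649))) (.node (.node (.leaf 16851730) (.leaf 319820560)) (.node (.leaf 269689123) (.leaf 4600311824)))) (.node (.node (.node (.leaf 1126688) (.leaf 288559635)) (.node (.leaf 20066563) (.leaf 4346360321))) (.node (.node (.leaf 17834241) (.leaf 4311946032))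 (.node (.leaf 271647282) (.leaf 69024686880))))) (.node (.node (.node (.node (.leaf 1057059) (.leaf 287519281)) (.node (.leaf 19931155) (.leaf 4331733793))) (.node (.node (.leaf 16974112) (.leaf 4311810306)) (.node (.leaf 270729744) (.leaf 68989104416)))) (.node (.node (.node (.leaf 1249296) (.leaf 305148432)) (.node (.leaf 269496850) (.leaf 4564652048))) (.node (.node (.leaf 18023187) (.leaf 4314898721)) (.node (.leaf 271786002) (.leaf 73034432771))))))))

def twoWord21 : Janko.Tree (ℕ) :=
  (.node (.node (.node (.node (.node (.node (.node (.leaf 4128) (.leaf 285279025)) (.node (.leaf 18030611) (.leaf 4314956547))) (.node (.node (.leaf 1253633) (.leaf 305266947)) (.node (.leaf 269619251) (.leaf 4565700624)))) (.node (.node (.node (.leaf 1061168) (.leaf 288371251)) (.node (.leaf 19988785) (.leaf 4331803443))) (.node (.node (.leaf 16978448) (.leaf 4311822385)) (.node (.leaf 270737426) (.leaf 68990087425))))) (.node (.node (.node (.node (.leaf 74514) (.leaf 285418258)) (.node (.leaf 18952979) (.leaf 4329579266)))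 (.node (.node (.leaf 16855571) (.leaf 319959075)) (.node (.leaf 269693728) (.leaf 4614926899)))) (.node (.node (.node (.leaf 1179954) (.leaf 302068529)) (.node (.leaf 20124210) (.leaf 4347400752))) (.node (.node (.leaf 17838369) (.leaf 4313846546)) (.node (.leaf 271655728) (.leaf 69039305266)))))) (.node (.node (.node (.node (.node (.leaf 66322) (.leaf 285356291)) (.node (.leaf 18886915) (.leaf 4315034161))) (.node (.node (.leaf 16843522) (.leaf 318844963)) (.node (.leaf 269684771) (.leaf 4597035570)))) (.node (.node (.node (.leaf 1122563) (.leaf 288494083)) (.node (.leaf 20054320) (.leaf 4345443121))) (.node (.node (.leaf 16986912) (.leaf 4311941379)) (.node (.leaf 271590162) (.leaf 68991255314))))) (.node (.node (.node (.node (.leaf 1053203) (.leaf 287507216)) (.node (.leaf 19083569) (.leaf 4331672339))) (.node (.node (.leaf 16920626) (.leaf 321979168)) (.node (.leaf 270607152) (.leaf 4885394208)))) (.node (.node (.node (.leaf 1192720) (.leaf 303239683)) (.node (.leaf 269493008) (.leaf 4348588048))) (.node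 (.node (.leaf 17969456) (.leaf 4314046768)) (.node (.leaf 271725313) (.leaf 69307859728))))))) (.node (.node (.node (.node (.node (.node (.leaf 4883) (.leaf 285291027)) (.node (.leaf 18034995) (.leaf 4314968851))) (.node (.node (.leaf 1257985) (.leaf 305332528)) (.node (.leaf 269628179) (.leaf 4566614547)))) (.node (.node (.node (.leaf 1114418) (.leaf 288432178)) (.node (.leaf 19996979) (.leaf 4345365249))) (.node (.node (.leaf 16982800) (.leaf 4311880464)) (.node (.leaf 270742288) (.leaf 68991062530))))) (.node (.node (.node (.node (.leaf 78354) (.leaf 287322674)) (.node (.leaf 19075633) (.leaf 4329714482))) (.node (.node (.leaf 16912417) (.leaf 320938770)) (.node (.leaf 270545458) (.leaf 4848816690)))) (.node (.node (.node (.leaf 1184547) (.leaf 303051267)) (.node (.leaf 269488177) (.leaf 4347597618))) (.node (.node (.leaf 17957648) (.leaf 4313919521)) (.node (.leaf 271716401) (.leaf 69041594384)))))) (.node (.node (.node (.node (.node (.leaf 70416) (.leaf 285410099)) (.node (.leaf 18948402) (.leaf 4315099651)))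 (.node (.node (.leaf 16851731) (.leaf 319820563)) (.node (.leaf 269689136) (.leaf 4600312321)))) (.node (.node (.node (.leaf 1126689) (.leaf 288559664)) (.node (.leaf 20066592) (.leaf 4346360336))) (.node (.node (.leaf 17834243) (.leaf 4311946034)) (.node (.leaf 271647283) (.leaf 69024744211))))) (.node (.node (.node (.node (.leaf 1057072) (.leaf 287519489)) (.node (.leaf 19931185) (.leaf 4331741232))) (.node (.node (.leaf 16974128) (.leaf 4311810339)) (.node (.leaf 270729746) (.leaf 68989104419)))) (.node (.node (.node (.leaf 1249299) (.leaf 305148434)) (.node (.leaf 269496851) (.leaf 4564652064))) (.node (.node (.leaf 18023201) (.leaf 4314898723)) (.node (.leaf 271786003) (.leaf 73049247777))))))))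

def twoWord22 : Janko.Tree (ℕ) :=
  (.node (.node (.node (.node (.node (.node (.node (.leaf 4129) (.leaf 285279026)) (.node (.leaf 18030625) (.leaf 4314956560))) (.node (.node (.leaf 1253635) (.leaf 305266977)) (.node (.leaf 269619730) (.leaf 4565700627)))) (.node (.node (.node (.leaf 1061169) (.leaf 288371472)) (.node (.leaf 19988787) (.leaf 4331810832))) (.node (.node (.leaf 16978451) (.leaf 4311822387)) (.node (.leaf 270737427) (.leaf 68990087426))))) (.node (.node (.node (.node (.leaf 74515) (.leaf 285418259)) (.node (.leaf 18952995) (.leaf 4329579267))) (.node (.node (.leaf 16855600) (.leaf 319959091)) (.node (.leaf 269693729) (.leaf 4614927154)))) (.node (.node (.node (.leaf 1179955) (.leaf 302186753)) (.node (.leaf 20124211) (.leaf 4347400754))) (.node (.node (.leaf 17838371) (.leaf 4313846561)) (.node (.leaf 271655731) (.leaf 69039305475)))))) (.node (.node (.node (.node (.node (.leaf 66323) (.leaf 285356320)) (.node (.leaf 18886945) (.leaf 4315034163))) (.node (.node (.leaf 16843523) (.leaf 318845187))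 (.node (.leaf 269684784) (.leaf 4597157936)))) (.node (.node (.node (.leaf 1122593) (.leaf 288494098)) (.node (.leaf 20054321) (.leaf 4345499667))) (.node (.node (.leaf 16986913) (.leaf 4311941408)) (.node (.leaf 271590163) (.leaf 68991258674))))) (.node (.node (.node (.node (.leaf 1053232) (.leaf 287507218)) (.node (.leaf 19083570) (.leaf 4331672353))) (.node (.node (.leaf 16920627) (.leaf 321979169)) (.node (.leaf 270607155) (.leaf 4885512498)))) (.node (.node (.node (.leaf 1192723) (.leaf 303239728)) (.node (.leaf 269493010) (.leaf 4348588051))) (.node (.node (.leaf 17969457) (.leaf 4314046770)) (.node (.leaf 271725315) (.leaf 69307871762))))))) (.node (.node (.node (.node (.node (.node (.leaf 4896) (.leaf 285291058)) (.node (.leaf 18035201) (.leaf 4314968864))) (.node (.node (.leaf 1257987) (.leaf 305332530)) (.node (.leaf 269628192) (.leaf 4566614576)))) (.node (.node (.node (.leaf 1114419) (.leaf 288432432)) (.node (.leaf 19997442) (.leaf 4345365250))) (.node (.node (.leaf 16982802) (.leaf 4311880466))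 (.node (.leaf 270742290) (.leaf 68991066401))))) (.node (.node (.node (.node (.leaf 78355) (.leaf 287375891)) (.node (.leaf 19075634) (.leaf 4329767169))) (.node (.node (.leaf 16912419) (.leaf 320938784)) (.node (.leaf 270598449) (.leaf 4850717458)))) (.node (.node (.node (.leaf 1184560) (.leaf 303051312)) (.node (.leaf 269488178) (.leaf 4347601185))) (.node (.node (.leaf 17957650) (.leaf 4313919523)) (.node (.leaf 271716402) (.leaf 69041594387)))))) (.node (.node (.node (.node (.node (.leaf 70418) (.leaf 285413392)) (.node (.leaf 18948403) (.leaf 4328588033))) (.node (.node (.leaf 16851744) (.leaf 319824163)) (.node (.leaf 269689137) (.leaf 4613800241)))) (.node (.node (.node (.leaf 1126691) (.leaf 288559665)) (.node (.leaf 20066595) (.leaf 4346360370))) (.node (.node (.leaf 17834273) (.leaf 4311946035)) (.node (.leaf 271647489) (.leaf 69024748051))))) (.node (.node (.node (.node (.leaf 1057073) (.leaf 287519504)) (.node (.leaf 19931393) (.leaf 4331741233))) (.node (.node (.leaf 16974129) (.leaf 4311810352))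 (.node (.leaf 270729747) (.leaf 68989104641)))) (.node (.node (.node (.leaf 1249312) (.leaf 305148465)) (.node (.leaf 269496880) (.leaf 4564652065))) (.node (.node (.leaf 18023203) (.leaf 4314898737)) (.node (.leaf 271786275) (.leaf 73051148803))))))))

def twoWord23 : Janko.Tree (ℕ) :=
  (.node (.node (.node (.node (.node (.node (.node (.leaf 4131) (.leaf 285279027)) (.node (.leaf 18030641) (.leaf 4314956562))) (.node (.node (.leaf 1253664) (.leaf 305266993)) (.node (.leaf 269619731) (.leaf 4565700641)))) (.node (.node (.node (.leaf 1061170) (.leaf 288371474)) (.node (.leaf 19988995) (.leaf 4331810835))) (.node (.node (.leaf 16978480) (.leaf 4311822593)) (.node (.leaf 270737457) (.leaf 68990087681))))) (.node (.node (.node (.node (.leaf 74528) (.leaf 285421587)) (.node (.leaf 18953008) (.leaf 4329579296))) (.node (.node (.leaf 16855601) (.leaf 319959553)) (.node (.leaf 269693731) (.leaf 4614992176)))) (.node (.node (.node (.leaf 1180179) (.leaf 302186755)) (.node (.leaf 20124419) (.leaf 4347400961))) (.node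 (.node (.leaf 17838384) (.leaf 4313846563)) (.node (.leaf 271659024) (.leaf 69039305507)))))) (.node (.node (.node (.node (.node (.leaf 66336) (.leaf 285356321)) (.node (.leaf 18886947) (.leaf 4315034369))) (.node (.node (.leaf 16843536) (.leaf 318845232)) (.node (.leaf 269684785) (.leaf 4597158450)))) (.node (.node (.node (.leaf 1122595) (.leaf 288494099)) (.node (.leaf 20054547) (.leaf 4345499683))) (.node (.node (.leaf 16986915) (.leaf 4311941424)) (.node (.leaf 271590177) (.leaf 68991259187))))) (.node (.node (.node (.node (.leaf 1053233) (.leaf 287507233)) (.node (.leaf 19083571) (.leaf 4331672355))) (.node (.node (.leaf 16920833) (.leaf 321979171)) (.node (.leaf 270610448) (.leaf 4885520403)))) (.node (.node (.node (.leaf 1192736) (.leaf 303239729)) (.node (.leaf 269493011) (.leaf 4348588081))) (.node (.node (.leaf 17969665) (.leaf 4314047233)) (.node (.leaf 271725362) (.leaf 69307925283))))))) (.node (.node (.node (.node (.node (.node (.leaf 4897) (.leaf 285291059)) (.node (.leaf 18035219) (.leaf 4314968867)))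 (.node (.node (.leaf 1258002) (.leaf 305332531)) (.node (.leaf 269628195) (.leaf 4566614578)))) (.node (.node (.node (.leaf 1114627) (.leaf 288432433)) (.node (.leaf 19997443) (.leaf 4345365266))) (.node (.node (.leaf 16982803) (.leaf 4311880480)) (.node (.leaf 270742304) (.leaf 68991066931))))) (.node (.node (.node (.node (.leaf 78384) (.leaf 287375920)) (.node (.leaf 19075841) (.leaf 4329767171))) (.node (.node (.leaf 16912432) (.leaf 320938785)) (.node (.leaf 270598675) (.leaf 4850786609)))) (.node (.node (.node (.leaf 1184561) (.leaf 303051314)) (.node (.leaf 269488179) (.leaf 4347601682))) (.node (.node (.leaf 17957665) (.leaf 4313919538)) (.node (.leaf 271716867) (.leaf 69259497522)))))) (.node (.node (.node (.node (.node (.leaf 70419) (.leaf 285413395)) (.node (.leaf 18948866) (.leaf 4328595747))) (.node (.node (.leaf 16851745) (.leaf 319824177)) (.node (.leaf 269689138) (.leaf 4613800737)))) (.node (.node (.node (.leaf 1126704) (.leaf 288559666)) (.node (.leaf 20066608) (.leaf 4346360579))) (.node (.node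 (.leaf 17834275) (.leaf 4311949328)) (.node (.leaf 271647490) (.leaf 69024748080))))) (.node (.node (.node (.node (.leaf 1057074) (.leaf 287519506)) (.node (.leaf 19931394) (.leaf 4331741234))) (.node (.node (.leaf 16974130) (.leaf 4311810353)) (.node (.leaf 270729777) (.leaf 68989157633)))) (.node (.node (.node (.leaf 1249313) (.leaf 305148467)) (.node (.leaf 269496881) (.leaf 4564652081))) (.node (.node (.leaf 18023217) (.leaf 4314899218)) (.node (.leaf 271786288) (.leaf 73603818272))))))))

def twoWord24 : Janko.Tree (ℕ) :=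
  (.node (.node (.node (.node (.node (.node (.node (.leaf 4144) (.leaf 285286416)) (.node (.leaf 18030642) (.leaf 4314956577))) (.node (.node (.leaf 1253665) (.leaf 305267475)) (.node (.leaf 269619760) (.leaf 4565700656)))) (.node (.node (.node (.leaf 1061171) (.leaf 288371475)) (.node (.leaf 19989008) (.leaf 4331810865))) (.node (.node (.leaf 16978481) (.leaf 4311822594)) (.node (.leaf 270737665) (.leaf 68990087698))))) (.node (.node (.node (.node (.leaf 74529) (.leaf 285421617)) (.node (.leaf 19071233) (.leaf 4329579297))) (.node (.node (.leaf 16855602) (.leaf 319959570)) (.node (.leaf 270536752) (.leaf 4615844371)))) (.node (.node (.node (.leaf 1180209) (.leaf 302186801)) (.node (.leaf 20124451) (.leaf 4347404593))) (.node (.node (.leaf 17838387) (.leaf 4313846579)) (.node (.leaf 271659027) (.leaf 69039423747)))))) (.node (.node (.node (.node (.node (.leaf 66337) (.leaf 285356323)) (.node (.leaf 18886961) (.leaf 4315034371))) (.node (.node (.leaf 16843538) (.leaf 318845233)) (.node (.leaf 269684786) (.leaf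 4597162273)))) (.node (.node (.node (.leaf 1122608) (.leaf 288494128)) (.node (.leaf 20054800) (.leaf 4345500176))) (.node (.node (.leaf 17829904) (.leaf 4311941427)) (.node (.leaf 271590193) (.leaf 68991262738))))) (.node (.node (.node (.node (.leaf 1053234) (.leaf 287507235)) (.node (.leaf 19083777) (.leaf 4331675906))) (.node (.node (.leaf 16920834) (.leaf 321986864)) (.node (.leaf 270610450) (.leaf 5101334544)))) (.node (.node (.node (.leaf 1192737) (.leaf 303239731)) (.node (.leaf 269493024) (.leaf 4348641539))) (.node (.node (.leaf 17969667) (.leaf 4314047248)) (.node (.leaf 271778049) (.leaf 69308850962))))))) (.node (.node (.node (.node (.node (.node (.leaf 4899) (.leaf 285291283)) (.node (.leaf 18035248) (.leaf 4314968881))) (.node (.node (.leaf 1258003) (.leaf 305333043)) (.node (.leaf 269628208) (.leaf 4566614785)))) (.node (.node (.node (.leaf 1114640) (.leaf 288432434)) (.node (.leaf 19997456) (.leaf 4345365280))) (.node (.node (.leaf 16982817) (.leaf 4311880481)) (.node (.leaf 270742307) (.leaf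 68991070994))))) (.node (.node (.node (.node (.leaf 78385) (.leaf 287375921)) (.node (.leaf 19075843) (.leaf 4329767217))) (.node (.node (.leaf 16912433) (.leaf 320938787)) (.node (.leaf 270598704) (.leaf 4850922241)))) (.node (.node (.node (.leaf 1184562) (.leaf 303051523)) (.node (.leaf 269488641) (.leaf 4347601683))) (.node (.node (.leaf 17957667) (.leaf 4313919746)) (.node (.leaf 271716882) (.leaf 69259559696)))))) (.node (.node (.node (.node (.node (.leaf 70432) (.leaf 285413408)) (.node (.leaf 18948867) (.leaf 4328595760))) (.node (.node (.leaf 16851747) (.leaf 319824641)) (.node (.leaf 269689139) (.leaf 4613808163)))) (.node (.node (.node (.leaf 1126705) (.leaf 288559667)) (.node (.leaf 20066609) (.leaf 4346360611))) (.node (.node (.leaf 17834288) (.leaf 4311949331)) (.node (.leaf 271647491) (.leaf 69024748082))))) (.node (.node (.node (.node (.leaf 1057075) (.leaf 287519520)) (.node (.leaf 19931424) (.leaf 4331741489))) (.node (.node (.leaf 16974131) (.leaf 4311810354)) (.node (.leaf 270729779) (.leaf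 68989157635)))) (.node (.node (.node (.leaf 1249315) (.leaf 305148688)) (.node (.leaf 269496882) (.leaf 4564652545))) (.node (.node (.leaf 18023218) (.leaf 4314899219)) (.node (.leaf 271786290) (.leaf 73871274019))))))))

def twoWord25 : Janko.Tree (ℕ) :=
  (.node (.node (.node (.node (.node (.node (.node (.leaf 4145) (.leaf 285286419)) (.node (.leaf 18030849) (.leaf 4314956579))) (.node (.node (.leaf 1253667) (.leaf 305270803)) (.node (.leaf 269619761) (.leaf 4565701121)))) (.node (.node (.node (.leaf 1061377) (.leaf 288371489)) (.node (.leaf 19989010) (.leaf 4331811074))) (.node (.node (.leaf 16978482) (.leaf 4311822595)) (.node (.leaf 270737667) (.leaf 68990087730))))) (.node (.node (.node (.node (.leaf 74531) (.leaf 285421618)) (.node (.leaf 19071235) (.leaf 4329579299))) (.node (.node (.leaf 16855603) (.leaf 319959600)) (.node (.leaf 270536753) (.leaf 4615905585)))) (.node (.node (.node (.leaf 1180417) (.leaf 302190611)) (.node (.leaf 20124464) (.leaf 4347408643))) (.node (.node (.leaf 17838593) (.leaf 4313850161))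 (.node (.leaf 271659058) (.leaf 69039424272)))))) (.node (.node (.node (.node (.node (.leaf 66339) (.leaf 285356339)) (.node (.leaf 18886963) (.leaf 4315034418))) (.node (.node (.leaf 16843539) (.leaf 318845234)) (.node (.leaf 269684787) (.leaf 4597162785)))) (.node (.node (.node (.leaf 1122609) (.leaf 288494129)) (.node (.leaf 20054802) (.leaf 4345504001))) (.node (.node (.leaf 17829906) (.leaf 4311941633)) (.node (.leaf 271590195) (.leaf 68991262739))))) (.node (.node (.node (.node (.leaf 1053235) (.leaf 287507249)) (.node (.leaf 19083779) (.leaf 4331675939))) (.node (.node (.leaf 16920835) (.leaf 321987330)) (.node (.leaf 270610451) (.leaf 5101334816)))) (.node (.node (.node (.leaf 1192739) (.leaf 303243280)) (.node (.leaf 269493025) (.leaf 4348641586))) (.node (.node (.leaf 17969682) (.leaf 4314047250)) (.node (.leaf 271778051) (.leaf 69308850976))))))) (.node (.node (.node (.node (.node (.node (.leaf 4912) (.leaf 285291312)) (.node (.leaf 18035249) (.leaf 4314968882))) (.node (.node (.leaf 1258032) (.leaf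 305336368)) (.node (.leaf 269628209) (.leaf 4566614787)))) (.node (.node (.node (.leaf 1114642) (.leaf 288432435)) (.node (.leaf 19997458) (.leaf 4345365281))) (.node (.node (.leaf 16982819) (.leaf 4311880483)) (.node (.leaf 271585296) (.leaf 68991071011))))) (.node (.node (.node (.node (.leaf 78386) (.leaf 287375922)) (.node (.leaf 19075858) (.leaf 4329767440))) (.node (.node (.leaf 16912434) (.leaf 320938800)) (.node (.leaf 270598705) (.leaf 4851765267)))) (.node (.node (.node (.leaf 1184563) (.leaf 303169841)) (.node (.leaf 269488642) (.leaf 4347605011))) (.node (.node (.leaf 17960993) (.leaf 4313920001)) (.node (.leaf 271716883) (.leaf 69259629106)))))) (.node (.node (.node (.node (.node (.leaf 70433) (.leaf 285413409)) (.node (.leaf 18948880) (.leaf 4328595761))) (.node (.node (.leaf 16851760) (.leaf 319824642)) (.node (.leaf 269689601) (.leaf 4613808177)))) (.node (.node (.node (.leaf 1126706) (.leaf 288559920)) (.node (.leaf 20066611) (.leaf 4346478851))) (.node (.node (.leaf 17834289) (.leaf 4311949345))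 (.node (.leaf 271647504) (.leaf 69024755731))))) (.node (.node (.node (.node (.leaf 1057537) (.leaf 288362514)) (.node (.leaf 19931425) (.leaf 4331741490))) (.node (.node (.leaf 16974337) (.leaf 4311810579)) (.node (.leaf 270730000) (.leaf 68989157681)))) (.node (.node (.node (.leaf 1249328) (.leaf 305148705)) (.node (.leaf 269497089) (.leaf 4564652563))) (.node (.node (.leaf 18023219) (.leaf 4314899233)) (.node (.leaf 271786291) (.leaf 1103825666867))))))))

def twoWord26 : Janko.Tree (ℕ) :=
  (.node (.node (.node (.node (.node (.node (.node (.leaf 4146) (.leaf 285286435)) (.node (.leaf 18030851) (.leaf 4314956592))) (.node (.node (.leaf 1253680) (.leaf 305270833)) (.node (.leaf 269619762) (.leaf 4565701139)))) (.node (.node (.node (.leaf 1061378) (.leaf 288371491)) (.node (.leaf 19989011) (.leaf 4331811075))) (.node (.node (.leaf 16978483) (.leaf 4311822624)) (.node (.leaf 270737696) (.leaf 68990087731))))) (.node (.node (.node (.node (.leaf 74544) (.leaf 285421827)) (.node (.leaf 19071264) (.leaf 4329582625)))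 (.node (.node (.leaf 16855809) (.leaf 319959603)) (.node (.leaf 270537234) (.leaf 4615905586)))) (.node (.node (.node (.leaf 1180432) (.leaf 302190640)) (.node (.leaf 20124466) (.leaf 4347408915))) (.node (.node (.leaf 17838594) (.leaf 4313853968)) (.node (.leaf 271659059) (.leaf 69039428401)))))) (.node (.node (.node (.node (.node (.leaf 66352) (.leaf 285356545)) (.node (.leaf 18887184) (.leaf 4315087152))) (.node (.node (.leaf 16843552) (.leaf 318845441)) (.node (.leaf 269685249) (.leaf 4598014257)))) (.node (.node (.node (.leaf 1122610) (.leaf 288494130)) (.node (.leaf 20054803) (.leaf 4345504528))) (.node (.node (.leaf 17829907) (.leaf 4311941635)) (.node (.leaf 271593729) (.leaf 68991263027))))) (.node (.node (.node (.node (.leaf 1053441) (.leaf 287507250)) (.node (.leaf 19083824) (.leaf 4331675953))) (.node (.node (.leaf 16920864) (.leaf 321987346)) (.node (.leaf 270610465) (.leaf 5101453873)))) (.node (.node (.node (.leaf 1192752) (.leaf 303243314)) (.node (.leaf 269493027) (.leaf 4348642064))) (.node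 (.node (.leaf 17969683) (.leaf 4314047251)) (.node (.leaf 271778080) (.leaf 69308850977))))))) (.node (.node (.node (.node (.node (.node (.leaf 4913) (.leaf 285291314)) (.node (.leaf 18035457) (.leaf 4315021601))) (.node (.node (.leaf 1258033) (.leaf 305336370)) (.node (.leaf 269628210) (.leaf 4566614816)))) (.node (.node (.node (.leaf 1114643) (.leaf 288432899)) (.node (.leaf 19997459) (.leaf 4345365296))) (.node (.node (.leaf 16982832) (.leaf 4311887888)) (.node (.leaf 271585298) (.leaf 68991123713))))) (.node (.node (.node (.node (.leaf 78387) (.leaf 287376131)) (.node (.leaf 19075888) (.leaf 4329767474))) (.node (.node (.leaf 16912435) (.leaf 320938803)) (.node (.leaf 270598706) (.leaf 4851765297)))) (.node (.node (.node (.leaf 1191952) (.leaf 303169842)) (.node (.leaf 269488643) (.leaf 4348449283))) (.node (.node (.leaf 17960995) (.leaf 4313920003)) (.node (.leaf 271716912) (.leaf 69273260802)))))) (.node (.node (.node (.node (.node (.leaf 70435) (.leaf 285413411)) (.node (.leaf 18948882) (.leaf 4328595762)))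 (.node (.node (.leaf 16851761) (.leaf 319824643)) (.node (.leaf 269689603) (.leaf 4613812529)))) (.node (.node (.node (.leaf 1126707) (.leaf 288559922)) (.node (.leaf 20066834) (.leaf 4346478883))) (.node (.node (.leaf 17834290) (.leaf 4311949361)) (.node (.leaf 271647506) (.leaf 69024756019))))) (.node (.node (.node (.node (.leaf 1057538) (.leaf 288362515)) (.node (.leaf 19931427) (.leaf 4331741954))) (.node (.node (.leaf 16974339) (.leaf 4311810608)) (.node (.leaf 270730002) (.leaf 68989157906)))) (.node (.node (.node (.leaf 1249329) (.leaf 305148707)) (.node (.leaf 269497091) (.leaf 4564652594))) (.node (.node (.leaf 18026512) (.leaf 4314899249)) (.node (.leaf 271786753) (.leaf 1103825670177))))))))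

def twoWord27 : Janko.Tree (ℕ) :=
  (.node (.node (.node (.node (.node (.node (.node (.leaf 4147) (.leaf 285286449)) (.node (.leaf 18030880) (.leaf 4314956593))) (.node (.node (.leaf 1253681) (.leaf 305270834)) (.node (.leaf 269619969) (.leaf 4565701169)))) (.node (.node (.node (.leaf 1061379) (.leaf 288371505)) (.node (.leaf 19989040) (.leaf 4331811104))) (.node (.node (.leaf 16978689) (.leaf 4311822625)) (.node (.leaf 270737697) (.leaf 68990206211))))) (.node (.node (.node (.node (.leaf 74545) (.leaf 285421859)) (.node (.leaf 19071281) (.leaf 4329582627))) (.node (.node (.leaf 16855811) (.leaf 319959858)) (.node (.leaf 270537235) (.leaf 4615906050)))) (.node (.node (.node (.leaf 1180434) (.leaf 302190641)) (.node (.leaf 20124467) (.leaf 4347462416))) (.node (.node (.leaf 17838595) (.leaf 4313854209)) (.node (.leaf 271659297) (.leaf 69039435827)))))) (.node (.node (.node (.node (.node (.leaf 66353) (.leaf 285356560)) (.node (.leaf 18887186) (.leaf 4315087154))) (.node (.node (.leaf 16843553) (.leaf 318845459))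 (.node (.leaf 269685250) (.leaf 4598018339)))) (.node (.node (.node (.leaf 1122611) (.leaf 288494131)) (.node (.leaf 20054817) (.leaf 4345508145))) (.node (.node (.leaf 17829921) (.leaf 4311941650)) (.node (.leaf 271593730) (.leaf 68991263489))))) (.node (.node (.node (.node (.leaf 1053442) (.leaf 287507251)) (.node (.leaf 19083825) (.leaf 4331676435))) (.node (.node (.leaf 16920865) (.leaf 321987347)) (.node (.leaf 270610467) (.leaf 5101523747)))) (.node (.node (.node (.leaf 1192753) (.leaf 303243570)) (.node (.leaf 269493040) (.leaf 4348645426))) (.node (.node (.leaf 17969712) (.leaf 4314047280)) (.node (.leaf 271778096) (.leaf 69308855059))))))) (.node (.node (.node (.node (.node (.node (.leaf 4914) (.leaf 285344528)) (.node (.leaf 18035459) (.leaf 4315021603))) (.node (.node (.leaf 1258241) (.leaf 305337091)) (.node (.leaf 269680897) (.leaf 4566622227)))) (.node (.node (.node (.leaf 1114672) (.leaf 288432912)) (.node (.leaf 19997472) (.leaf 4345365298))) (.node (.node (.leaf 16982835) (.leaf 4311887890))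 (.node (.leaf 271585299) (.leaf 68991123715))))) (.node (.node (.node (.node (.leaf 78593) (.leaf 287376146)) (.node (.leaf 19075890) (.leaf 4329767475))) (.node (.node (.leaf 16912897) (.leaf 320942610)) (.node (.leaf 270598707) (.leaf 4851770163)))) (.node (.node (.node (.leaf 1191954) (.leaf 303170305)) (.node (.leaf 269488688) (.leaf 4348449571))) (.node (.node (.leaf 17961008) (.leaf 4313920048)) (.node (.leaf 271716913) (.leaf 69273260818)))))) (.node (.node (.node (.node (.node (.leaf 70448) (.leaf 285413424)) (.node (.leaf 18948896) (.leaf 4328596240))) (.node (.node (.leaf 16851762) (.leaf 319824656)) (.node (.leaf 269689618) (.leaf 4613865779)))) (.node (.node (.node (.leaf 1126913) (.leaf 288559923)) (.node (.leaf 20066835) (.leaf 4346478897))) (.node (.node (.leaf 17834753) (.leaf 4311949571)) (.node (.leaf 271647520) (.leaf 69024756481))))) (.node (.node (.node (.node (.leaf 1057539) (.leaf 288362545)) (.node (.leaf 19931440) (.leaf 4331741984))) (.node (.node (.leaf 16974352) (.leaf 4311810611))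 (.node (.leaf 270730017) (.leaf 68989158163)))) (.node (.node (.node (.leaf 1249330) (.leaf 305148721)) (.node (.leaf 269497104) (.leaf 4564652803))) (.node (.node (.leaf 18026515) (.leaf 4314899251)) (.node (.leaf 271786755) (.leaf 1103826583811))))))))

def twoWord28 : Janko.Tree (ℕ) :=
  (.node (.node (.node (.node (.node (.node (.node (.leaf 4353) (.leaf 285286450)) (.node (.leaf 18030881) (.leaf 4314956594))) (.node (.node (.leaf 1253682) (.leaf 305271299)) (.node (.leaf 269619970) (.leaf 4565701170)))) (.node (.node (.node (.leaf 1061392) (.leaf 288424193)) (.node (.leaf 19989041) (.leaf 4331811107))) (.node (.node (.leaf 16978691) (.leaf 4311822627)) (.node (.leaf 270737699) (.leaf 68990206240))))) (.node (.node (.node (.node (.leaf 74546) (.leaf 285421875)) (.node (.leaf 19071282) (.leaf 4329582642))) (.node (.node (.leaf 16855824) (.leaf 320013091)) (.node (.leaf 270537264) (.leaf 4615906064)))) (.node (.node (.node (.leaf 1180435) (.leaf 302190642)) (.node (.leaf 20127760) (.leaf 4347469873))) (.node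 (.node (.leaf 17838608) (.leaf 4313854211)) (.node (.leaf 271659299) (.leaf 69039436289)))))) (.node (.node (.node (.node (.node (.leaf 66354) (.leaf 285356562)) (.node (.leaf 18887187) (.leaf 4315087155))) (.node (.node (.leaf 16843555) (.leaf 318845488)) (.node (.leaf 269685251) (.leaf 4598141728)))) (.node (.node (.node (.leaf 1123074) (.leaf 288494337)) (.node (.leaf 20058131) (.leaf 4345508147))) (.node (.node (.leaf 17829923) (.leaf 4311941651)) (.node (.leaf 271593760) (.leaf 68991263491))))) (.node (.node (.node (.node (.leaf 1053443) (.leaf 287510561)) (.node (.leaf 19084033) (.leaf 4331676465))) (.node (.node (.leaf 16920867) (.leaf 321987363)) (.node (.leaf 270610481) (.leaf 5101527347)))) (.node (.node (.node (.leaf 1192754) (.leaf 303243571)) (.node (.leaf 269493041) (.leaf 4348646192))) (.node (.node (.leaf 17969713) (.leaf 4314050864)) (.node (.leaf 271778098) (.leaf 69308977712))))))) (.node (.node (.node (.node (.node (.node (.leaf 4915) (.leaf 285347859)) (.node (.leaf 18035472) (.leaf 4315021617)))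 (.node (.node (.leaf 1258243) (.leaf 305337123)) (.node (.leaf 269680899) (.leaf 4566622243)))) (.node (.node (.node (.leaf 1114673) (.leaf 288432928)) (.node (.leaf 19997473) (.leaf 4345372705))) (.node (.node (.leaf 16986128) (.leaf 4311887891)) (.node (.leaf 271585328) (.leaf 68991123761))))) (.node (.node (.node (.node (.leaf 78595) (.leaf 287376161)) (.node (.leaf 19075891) (.leaf 4329767698))) (.node (.node (.leaf 16912899) (.leaf 320942642)) (.node (.leaf 270598914) (.leaf 4851827216)))) (.node (.node (.node (.leaf 1191955) (.leaf 303170320)) (.node (.leaf 269488689) (.leaf 4348457217))) (.node (.node (.leaf 17961009) (.leaf 4313920050)) (.node (.leaf 271716914) (.leaf 69273260833)))))) (.node (.node (.node (.node (.node (.leaf 70449) (.leaf 285413425)) (.node (.leaf 18948897) (.leaf 4328596242))) (.node (.node (.leaf 16851763) (.leaf 319824672)) (.node (.leaf 269689619) (.leaf 4613866259)))) (.node (.node (.node (.leaf 1126914) (.leaf 288563218)) (.node (.leaf 20066865) (.leaf 4346479153))) (.node (.node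 (.leaf 17834754) (.leaf 4311949600)) (.node (.leaf 271647521) (.leaf 69024756483))))) (.node (.node (.node (.node (.leaf 1057552) (.leaf 288362546)) (.node (.leaf 19931441) (.leaf 4331741985))) (.node (.node (.leaf 16974354) (.leaf 4311810817)) (.node (.leaf 270730019) (.leaf 68989158195)))) (.node (.node (.node (.leaf 1249331) (.leaf 305201411)) (.node (.leaf 269497106) (.leaf 4564656417))) (.node (.node (.leaf 18026528) (.leaf 4314902786)) (.node (.leaf 271786768) (.leaf 1103841398817))))))))

def twoWord29 : Janko.Tree (ℕ) :=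
  (.node (.node (.node (.node (.node (.node (.node (.leaf 4354) (.leaf 285287170)) (.node (.leaf 18030883) (.leaf 4314956595))) (.node (.node (.leaf 1253683) (.leaf 305271314)) (.node (.leaf 269619971) (.leaf 4565701424)))) (.node (.node (.node (.leaf 1061394) (.leaf 288424195)) (.node (.leaf 19989042) (.leaf 4331811121))) (.node (.node (.leaf 16978706) (.leaf 4311822640)) (.node (.leaf 270737712) (.leaf 68990206755))))) (.node (.node (.node (.node (.leaf 74547) (.leaf 285422081)) (.node (.leaf 19071504) (.leaf 4329582643))) (.node (.node (.leaf 16855826) (.leaf 320013105)) (.node (.leaf 270537265) (.leaf 4615906081)))) (.node (.node (.node (.leaf 1180449) (.leaf 302191123)) (.node (.leaf 20127762) (.leaf 4347469874))) (.node (.node (.leaf 17838610) (.leaf 4313854241)) (.node (.leaf 271659568) (.leaf 69039436336)))))) (.node (.node (.node (.node (.node (.leaf 66355) (.leaf 285356563)) (.node (.leaf 18887217) (.leaf 4315087632))) (.node (.node (.leaf 16843568) (.leaf 318898483)) (.node (.leaf 269685264) (.leaf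 4598206499)))) (.node (.node (.node (.leaf 1123075) (.leaf 288494384)) (.node (.leaf 20058160) (.leaf 4345508371))) (.node (.node (.leaf 17829936) (.leaf 4311941681)) (.node (.leaf 271593761) (.leaf 68991266865))))) (.node (.node (.node (.node (.leaf 1053456) (.leaf 287510563)) (.node (.leaf 19084035) (.leaf 4331676467))) (.node (.node (.leaf 16920880) (.leaf 321987376)) (.node (.leaf 270610482) (.leaf 5102375731)))) (.node (.node (.node (.leaf 1245441) (.leaf 303244065)) (.node (.leaf 269493042) (.leaf 4348646194))) (.node (.node (.leaf 17969715) (.leaf 4314050866)) (.node (.leaf 271778099) (.leaf 69309838129))))))) (.node (.node (.node (.node (.node (.node (.leaf 65793) (.leaf 285347888)) (.node (.leaf 18035474) (.leaf 4315022098))) (.node (.node (.leaf 1258256) (.leaf 305337136)) (.node (.leaf 269680928) (.leaf 4566622256)))) (.node (.node (.node (.leaf 1114674) (.leaf 288432929)) (.node (.leaf 19997475) (.leaf 4345372707))) (.node (.node (.leaf 16986130) (.leaf 4311887905)) (.node (.leaf 271585329) (.leaf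 68991123984))))) (.node (.node (.node (.node (.leaf 78608) (.leaf 287376163)) (.node (.leaf 19079184) (.leaf 4329767729))) (.node (.node (.leaf 16912914) (.leaf 320942643)) (.node (.leaf 270598915) (.leaf 4851827219)))) (.node (.node (.node (.leaf 1191969) (.leaf 303170337)) (.node (.leaf 269488690) (.leaf 4348457218))) (.node (.node (.leaf 17961010) (.leaf 4314038800)) (.node (.leaf 271716915) (.leaf 69273326129)))))) (.node (.node (.node (.node (.node (.leaf 70450) (.leaf 285413426)) (.node (.leaf 18948899) (.leaf 4328596259))) (.node (.node (.leaf 16855056) (.leaf 319824673)) (.node (.leaf 269689633) (.leaf 4613878067)))) (.node (.node (.node (.leaf 1126915) (.leaf 288563504)) (.node (.leaf 20066867) (.leaf 4346479361))) (.node (.node (.leaf 17834755) (.leaf 4311949601)) (.node (.leaf 271647523) (.leaf 69024821264))))) (.node (.node (.node (.node (.leaf 1057554) (.leaf 288363010)) (.node (.leaf 19931920) (.leaf 4331745299))) (.node (.node (.leaf 16974355) (.leaf 4311810819)) (.node (.leaf 270730033) (.leaf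 68989161488)))) (.node (.node (.node (.leaf 1249793) (.leaf 305201457)) (.node (.leaf 269497107) (.leaf 4564656419))) (.node (.node (.leaf 18026529) (.leaf 4314902817)) (.node (.leaf 271786770) (.leaf 1103843299843))))))))

def twoWord30 : Janko.Tree (ℕ) :=
  (.node (.node (.node (.node (.node (.node (.node (.leaf 4355) (.leaf 285287171)) (.node (.leaf 18030896) (.leaf 4314963984))) (.node (.node (.leaf 1254145) (.leaf 305271315)) (.node (.leaf 269619984) (.leaf 4565704993)))) (.node (.node (.node (.leaf 1061395) (.leaf 288424241)) (.node (.leaf 19989043) (.leaf 4331811123))) (.node (.node (.leaf 16978721) (.leaf 4311822849)) (.node (.leaf 270737713) (.leaf 68990210064))))) (.node (.node (.node (.node (.leaf 77840) (.leaf 285422083)) (.node (.leaf 19071506) (.leaf 4329582851))) (.node (.node (.leaf 16855827) (.leaf 320016944)) (.node (.leaf 270537266) (.leaf 4615906083)))) (.node (.node (.node (.leaf 1180451) (.leaf 302191154)) (.node (.leaf 20127763) (.leaf 4347470129))) (.node (.node (.leaf 17838611) (.leaf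 4313854243)) (.node (.leaf 271659570) (.leaf 69039436339)))))) (.node (.node (.node (.node (.node (.leaf 69648) (.leaf 285356592)) (.node (.leaf 18887218) (.leaf 4315087634))) (.node (.node (.leaf 16843569) (.leaf 318898963)) (.node (.leaf 269685267) (.leaf 4598210576)))) (.node (.node (.node (.leaf 1123088) (.leaf 288494386)) (.node (.leaf 20058161) (.leaf 4345508401))) (.node (.node (.leaf 17829937) (.leaf 4311941683)) (.node (.leaf 271593777) (.leaf 69021545010))))) (.node (.node (.node (.node (.leaf 1053458) (.leaf 287510578)) (.node (.leaf 19084048) (.leaf 4331680001))) (.node (.node (.leaf 16920881) (.leaf 321990707)) (.node (.leaf 270610483) (.leaf 5103624499)))) (.node (.node (.node (.leaf 1245443) (.leaf 303244080)) (.node (.leaf 269493043) (.leaf 4348649488))) (.node (.node (.leaf 17969939) (.leaf 4314050867)) (.node (.leaf 271778576) (.leaf 69309903648))))))) (.node (.node (.node (.node (.node (.node (.leaf 65794) (.leaf 285347889)) (.node (.leaf 18035488) (.leaf 4315022099))) (.node (.node (.leaf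 1258258) (.leaf 305337138)) (.node (.leaf 269680944) (.leaf 4566622258)))) (.node (.node (.node (.leaf 1114675) (.leaf 288432931)) (.node (.leaf 19997488) (.leaf 4345372720))) (.node (.node (.leaf 16986131) (.leaf 4311887921)) (.node (.leaf 271585330) (.leaf 68991123987))))) (.node (.node (.node (.node (.leaf 78610) (.leaf 287383843)) (.node (.leaf 19079186) (.leaf 4329771027))) (.node (.node (.leaf 16912915) (.leaf 320942867)) (.node (.leaf 270598928) (.leaf 4851827249)))) (.node (.node (.node (.leaf 1191971) (.leaf 303174163)) (.node (.leaf 269488691) (.leaf 4348457521))) (.node (.node (.leaf 17961011) (.leaf 4314038802)) (.node (.leaf 271717121) (.leaf 69273326130)))))) (.node (.node (.node (.node (.node (.leaf 70451) (.leaf 285413889)) (.node (.leaf 18948912) (.leaf 4328599568))) (.node (.node (.leaf 16855058) (.leaf 319824675)) (.node (.leaf 269689635) (.leaf 4613878291)))) (.node (.node (.node (.leaf 1126928) (.leaf 288563506)) (.node (.leaf 20067073) (.leaf 4346479376))) (.node (.node (.leaf 17834768)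 (.leaf 4311949603)) (.node (.leaf 271647536) (.leaf 69024821761))))) (.node (.node (.node (.node (.leaf 1057555) (.leaf 288363011)) (.node (.leaf 19931922) (.leaf 4331745330))) (.node (.node (.leaf 16974385) (.leaf 4311810832)) (.node (.leaf 270730034) (.leaf 68989161504)))) (.node (.node (.node (.leaf 1249794) (.leaf 305201680)) (.node (.leaf 269497120) (.leaf 4564656435))) (.node (.node (.leaf 18026531) (.leaf 4314902833)) (.node (.leaf 271790096) (.leaf 1104395969312))))))))

def twoWord31 : Janko.Tree (ℕ) :=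
  (.node (.node (.node (.node (.node (.node (.node (.leaf 4384) (.leaf 285287184)) (.node (.leaf 18030897) (.leaf 4314963986))) (.node (.node (.leaf 1254147) (.leaf 305271344)) (.node (.leaf 269620000) (.leaf 4565704995)))) (.node (.node (.node (.leaf 1061424) (.leaf 288424243)) (.node (.leaf 19989249) (.leaf 4331811585))) (.node (.node (.leaf 16978723) (.leaf 4311822850)) (.node (.leaf 270737714) (.leaf 68990210067))))) (.node (.node (.node (.node (.leaf 77842) (.leaf 285422098)) (.node (.leaf 19071507) (.leaf 4329582880))) (.node (.node (.leaf 16855840) (.leaf 320016946)) (.node (.leaf 270537473) (.leaf 4615906099)))) (.node (.node (.node (.leaf 1183763) (.leaf 302191378)) (.node (.leaf 20128035) (.leaf 4347470130))) (.node (.node (.leaf 17838640) (.leaf 4313854480)) (.node (.leaf 271659571) (.leaf 69039436594)))))) (.node (.node (.node (.node (.node (.leaf 69650) (.leaf 285356593)) (.node (.leaf 18940209) (.leaf 4315087649))) (.node (.node (.leaf 16843570) (.leaf 318902305)) (.node (.leaf 269685296) (.leaf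 4600111891)))) (.node (.node (.node (.leaf 1123090) (.leaf 288494387)) (.node (.leaf 20058162) (.leaf 4346351635))) (.node (.node (.leaf 17829938) (.leaf 4311941921)) (.node (.leaf 271593779) (.leaf 69021667376))))) (.node (.node (.node (.node (.leaf 1053459) (.leaf 287511043)) (.node (.leaf 19084050) (.leaf 4331680002))) (.node (.node (.leaf 16920883) (.leaf 321991216)) (.node (.leaf 270610689) (.leaf 5103624976)))) (.node (.node (.node (.leaf 1245472) (.leaf 303247651)) (.node (.leaf 269496336) (.leaf 4348649491))) (.node (.node (.leaf 17969952) (.leaf 4314051075)) (.node (.leaf 271778578) (.leaf 69310021938))))))) (.node (.node (.node (.node (.node (.node (.leaf 65795) (.leaf 285347890)) (.node (.leaf 18035489) (.leaf 4315022113))) (.node (.node (.leaf 1258259) (.leaf 305340435)) (.node (.leaf 269680945) (.leaf 4566622512)))) (.node (.node (.node (.leaf 1114881) (.leaf 288432947)) (.node (.leaf 19997491) (.leaf 4345372721))) (.node (.node (.leaf 16986161) (.leaf 4311887922)) (.node (.leaf 271585331) (.leaf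 68991124016))))) (.node (.node (.node (.node (.leaf 78611) (.leaf 287383857)) (.node (.leaf 19079187) (.leaf 4329771041))) (.node (.node (.leaf 16912944) (.leaf 320942883)) (.node (.leaf 270598930) (.leaf 4851834899)))) (.node (.node (.node (.leaf 1191985) (.leaf 303174402)) (.node (.leaf 269488897) (.leaf 4348457763))) (.node (.node (.leaf 17961490) (.leaf 4314038803)) (.node (.leaf 271717138) (.leaf 69275226898)))))) (.node (.node (.node (.node (.node (.leaf 73744) (.leaf 285413890)) (.node (.leaf 18948915) (.leaf 4328599603))) (.node (.node (.leaf 16855059) (.leaf 319824688)) (.node (.leaf 269689648) (.leaf 4613939984)))) (.node (.node (.node (.leaf 1126930) (.leaf 288563969)) (.node (.leaf 20067075) (.leaf 4346479393))) (.node (.node (.leaf 17834770) (.leaf 4311949618)) (.node (.leaf 271647537) (.leaf 69038309681))))) (.node (.node (.node (.node (.leaf 1057568) (.leaf 288363265)) (.node (.leaf 19931923) (.leaf 4331745569))) (.node (.node (.leaf 16974386) (.leaf 4311810834)) (.node (.leaf 270730035) (.leaf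 68989161505)))) (.node (.node (.node (.leaf 1249795) (.leaf 305201682)) (.node (.leaf 269497121) (.leaf 4564656944))) (.node (.node (.leaf 18026544) (.leaf 4314902835)) (.node (.leaf 271790099) (.leaf 1104663425059))))))))

def twoWord : Janko.Tree (ℕ) := (.node (.node (.node (.node (.node twoWord0 twoWord16) (.node twoWord8 twoWord24)) (.node (.node twoWord4 twoWord20) (.node twoWord12 twoWord28))) (.node (.node (.node twoWord2 twoWord18) (.node twoWord10 twoWord26)) (.node (.node twoWord6 twoWord22) (.node twoWord14 twoWord30)))) (.node (.node (.node (.node twoWord1 twoWord17) (.node twoWord9 twoWord25)) (.node (.node twoWord5 twoWord21) (.node twoWord13 twoWord29))) (.node (.node (.node twoWord3 twoWord19) (.node twoWord11 twoWord27)) (.node (.node twoWord7 twoWord23) (.node twoWord15 twoWord31)))))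

def twoPar0 : Janko.Tree (ℕ) :=
  (.node (.node (.node (.node (.node (.node (.node (.leaf 0) (.leaf 13585)) (.node (.leaf 5937) (.leaf 25792))) (.node (.node (.leaf 2736) (.leaf 19136)) (.node (.leaf 9715) (.leaf 33664)))) (.node (.node (.node (.leaf 1265) (.leaf 16000)) (.node (.leaf 7841) (.leaf 28963))) (.node (.node (.leaf 4275) (.leaf 23393)) (.node (.leaf 11632) (.leaf 45457))))) (.node (.node (.node (.node (.leaf 610) (.leaf 14659)) (.node (.leaf 6880) (.leaf 27200))) (.node (.node (.leaf 3504) (.leaf 20962)) (.node (.leaf 10643) (.leaf 37251)))) (.node (.node (.node (.leaf 1939) (.leaf 17283)) (.node (.leaf 8802) (.leaf 30851))) (.node (.node (.leaf 5059) (.leaf 24417)) (.node (.leaf 12562) (.leaf 48785)))))) (.node (.node (.node (.node (.node (.leaf 304) (.leaf 14179)) (.node (.leaf 6387) (.leaf 26371))) (.node (.node (.leaf 3152) (.leaf 19875)) (.node (.leaf 10226) (.leaf 34833)))) (.node (.node (.node (.leaf 1602) (.leaf 16576)) (.node (.leaf 8288) (.leaf 29714))) (.node (.node (.leaf 4674) (.leaf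 23889)) (.node (.leaf 12098) (.leaf 46706))))) (.node (.node (.node (.node (.leaf 944) (.leaf 15362)) (.node (.leaf 7361) (.leaf 28163))) (.node (.node (.leaf 3905) (.leaf 22240)) (.node (.leaf 11152) (.leaf 40273)))) (.node (.node (.node (.leaf 2354) (.leaf 18256)) (.node (.leaf 9346) (.leaf 32321))) (.node (.node (.leaf 5475) (.leaf 25153)) (.node (.leaf 13073) (.leaf 51889))))))) (.node (.node (.node (.node (.node (.node (.leaf 145) (.leaf 13906)) (.node (.leaf 6146) (.leaf 26019))) (.node (.node (.leaf 2944) (.leaf 19537)) (.node (.leaf 9971) (.leaf 34275)))) (.node (.node (.node (.leaf 1425) (.leaf 16323)) (.node (.leaf 8082) (.leaf 29283))) (.node (.node (.leaf 4480) (.leaf 23635)) (.node (.leaf 11843) (.leaf 46097))))) (.node (.node (.node (.node (.leaf 771) (.leaf 14979)) (.node (.leaf 7137) (.leaf 27635))) (.node (.node (.leaf 3665) (.leaf 21617)) (.node (.leaf 10883) (.leaf 38371)))) (.node (.node (.node (.leaf 2177) (.leaf 17841)) (.node (.leaf 9088) (.leaf 31650))) (.node (.node (.leaf 5233) (.leaf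 24802)) (.node (.leaf 12803) (.leaf 50000)))))) (.node (.node (.node (.node (.node (.leaf 451) (.leaf 14387)) (.node (.leaf 6659) (.leaf 26723))) (.node (.node (.leaf 3315) (.leaf 20353)) (.node (.leaf 10417) (.leaf 36161)))) (.node (.node (.node (.leaf 1779) (.leaf 16945)) (.node (.leaf 8563) (.leaf 30385))) (.node (.node (.leaf 4867) (.leaf 24177)) (.node (.leaf 12352) (.leaf 47586))))) (.node (.node (.node (.node (.leaf 1104) (.leaf 15680)) (.node (.leaf 7616) (.leaf 28576))) (.node (.node (.leaf 4081) (.leaf 22915)) (.node (.leaf 11362) (.leaf 42770)))) (.node (.node (.node (.leaf 2560) (.leaf 18771)) (.node (.leaf 9538) (.leaf 32896))) (.node (.node (.leaf 5731) (.leaf 25456)) (.node (.leaf 13313) (.leaf 54035))))))))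

def twoPar1 : Janko.Tree (ℕ) :=
  (.node (.node (.node (.node (.node (.node (.node (.leaf 0) (.leaf 13603)) (.node (.leaf 5938) (.leaf 25809))) (.node (.node (.leaf 2739) (.leaf 19137)) (.node (.leaf 9728) (.leaf 33666)))) (.node (.node (.node (.leaf 1267) (.leaf 16002)) (.node (.leaf 7857) (.leaf 28978))) (.node (.node (.leaf 4288) (.leaf 23395)) (.node (.leaf 11635) (.leaf 45473))))) (.node (.node (.node (.node (.leaf 611) (.leaf 14675)) (.node (.leaf 6882) (.leaf 27202))) (.node (.node (.leaf 3505) (.leaf 20978)) (.node (.leaf 10656) (.leaf 37267)))) (.node (.node (.node (.leaf 1952) (.leaf 17296)) (.node (.leaf 8817) (.leaf 30913))) (.node (.node (.leaf 5072) (.leaf 24419)) (.node (.leaf 12563) (.leaf 48803)))))) (.node (.node (.node (.node (.node (.leaf 305) (.leaf 14192)) (.node (.leaf 6400) (.leaf 26386))) (.node (.node (.leaf 3153) (.leaf 19888)) (.node (.leaf 10241) (.leaf 34883)))) (.node (.node (.node (.leaf 1603) (.leaf 16579)) (.node (.leaf 8291) (.leaf 29745))) (.node (.node (.leaf 4675) (.leaf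 23890)) (.node (.leaf 12099) (.leaf 46721))))) (.node (.node (.node (.node (.leaf 945) (.leaf 15363)) (.node (.leaf 7377) (.leaf 28177))) (.node (.node (.leaf 3906) (.leaf 22259)) (.node (.leaf 11153) (.leaf 40386)))) (.node (.node (.node (.leaf 2355) (.leaf 18259)) (.node (.leaf 9347) (.leaf 32354))) (.node (.node (.leaf 5488) (.leaf 25155)) (.node (.leaf 13075) (.leaf 52033))))))) (.node (.node (.node (.node (.node (.node (.leaf 147) (.leaf 13920)) (.node (.leaf 6147) (.leaf 26049))) (.node (.node (.leaf 2946) (.leaf 19538)) (.node (.leaf 9985) (.leaf 34323)))) (.node (.node (.node (.leaf 1426) (.leaf 16336)) (.node (.leaf 8083) (.leaf 29299))) (.node (.node (.leaf 4481) (.leaf 23650)) (.node (.leaf 11857) (.leaf 46112))))) (.node (.node (.node (.node (.leaf 784) (.leaf 14992)) (.node (.leaf 7139) (.leaf 27649))) (.node (.node (.leaf 3667) (.leaf 21667)) (.node (.leaf 10896) (.leaf 38419)))) (.node (.node (.node (.leaf 2179) (.leaf 17843)) (.node (.leaf 9090) (.leaf 31664))) (.node (.node (.leaf 5234) (.leaf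 24803)) (.node (.leaf 12818) (.leaf 50163)))))) (.node (.node (.node (.node (.node (.leaf 464) (.leaf 14401)) (.node (.leaf 6672) (.leaf 26739))) (.node (.node (.leaf 3328) (.leaf 20371)) (.node (.leaf 10418) (.leaf 36192)))) (.node (.node (.node (.leaf 1792) (.leaf 16960)) (.node (.leaf 8578) (.leaf 30400))) (.node (.node (.leaf 4881) (.leaf 24178)) (.node (.leaf 12354) (.leaf 47617))))) (.node (.node (.node (.node (.leaf 1105) (.leaf 15681)) (.node (.leaf 7619) (.leaf 28592))) (.node (.node (.leaf 4083) (.leaf 22944)) (.node (.leaf 11376) (.leaf 42785)))) (.node (.node (.node (.leaf 2561) (.leaf 18784)) (.node (.leaf 9539) (.leaf 32897))) (.node (.node (.leaf 5744) (.leaf 25457)) (.node (.leaf 13315) (.leaf 54096))))))))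

def twoPar2 : Janko.Tree (ℕ) :=
  (.node (.node (.node (.node (.node (.node (.node (.leaf 1) (.leaf 13635)) (.node (.leaf 5939) (.leaf 25811))) (.node (.node (.leaf 2752) (.leaf 19138)) (.node (.leaf 9729) (.leaf 33681)))) (.node (.node (.node (.leaf 1280) (.leaf 16003)) (.node (.leaf 7859) (.leaf 28995))) (.node (.node (.leaf 4290) (.leaf 23409)) (.node (.leaf 11649) (.leaf 45491))))) (.node (.node (.node (.node (.leaf 625) (.leaf 14688)) (.node (.leaf 6883) (.leaf 27233))) (.node (.node (.leaf 3507) (.leaf 20992)) (.node (.leaf 10658) (.leaf 37281)))) (.node (.node (.node (.leaf 1953) (.leaf 17298)) (.node (.leaf 8819) (.leaf 30931))) (.node (.node (.leaf 5073) (.leaf 24434)) (.node (.leaf 12576) (.leaf 48817)))))) (.node (.node (.node (.node (.node (.leaf 307) (.leaf 14193)) (.node (.leaf 6401) (.leaf 26403))) (.node (.node (.leaf 3155) (.leaf 19904)) (.node (.leaf 10243) (.leaf 34896)))) (.node (.node (.node (.leaf 1616) (.leaf 16595)) (.node (.leaf 8306) (.leaf 29747))) (.node (.node (.leaf 4689) (.leaf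 23891)) (.node (.leaf 12113) (.leaf 46723))))) (.node (.node (.node (.node (.leaf 947) (.leaf 15378)) (.node (.leaf 7379) (.leaf 28179))) (.node (.node (.leaf 3907) (.leaf 22288)) (.node (.leaf 11155) (.leaf 40403)))) (.node (.node (.node (.leaf 2369) (.leaf 18322)) (.node (.leaf 9360) (.leaf 32368))) (.node (.node (.leaf 5489) (.leaf 25168)) (.node (.leaf 13088) (.leaf 52067))))))) (.node (.node (.node (.node (.node (.node (.leaf 160) (.leaf 13923)) (.node (.leaf 6161) (.leaf 26050))) (.node (.node (.leaf 2947) (.leaf 19553)) (.node (.leaf 9986) (.leaf 34352)))) (.node (.node (.node (.leaf 1427) (.leaf 16339)) (.node (.leaf 8096) (.leaf 29312))) (.node (.node (.leaf 4482) (.leaf 23651)) (.node (.leaf 11859) (.leaf 46129))))) (.node (.node (.node (.node (.leaf 785) (.leaf 15011)) (.node (.leaf 7152) (.leaf 27651))) (.node (.node (.leaf 3680) (.leaf 21680)) (.node (.leaf 10898) (.leaf 38530)))) (.node (.node (.node (.leaf 2192) (.leaf 17889)) (.node (.leaf 9091) (.leaf 31666))) (.node (.node (.leaf 5249) (.leaf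 24818)) (.node (.leaf 12819) (.leaf 50241)))))) (.node (.node (.node (.node (.node (.leaf 465) (.leaf 14403)) (.node (.leaf 6673) (.leaf 26752))) (.node (.node (.leaf 3330) (.leaf 20384)) (.node (.leaf 10419) (.leaf 36225)))) (.node (.node (.node (.leaf 1793) (.leaf 16963)) (.node (.leaf 8579) (.leaf 30403))) (.node (.node (.leaf 4882) (.leaf 24179)) (.node (.leaf 12369) (.leaf 47649))))) (.node (.node (.node (.node (.leaf 1107) (.leaf 15682)) (.node (.leaf 7632) (.leaf 28594))) (.node (.node (.leaf 4096) (.leaf 22945)) (.node (.leaf 11379) (.leaf 43842)))) (.node (.node (.node (.leaf 2562) (.leaf 18803)) (.node (.leaf 9552) (.leaf 32931))) (.node (.node (.leaf 5745) (.leaf 25473)) (.node (.leaf 13329) (.leaf 54128))))))))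

def twoPar3 : Janko.Tree (ℕ) :=
  (.node (.node (.node (.node (.node (.node (.node (.leaf 2) (.leaf 13649)) (.node (.leaf 5953) (.leaf 25824))) (.node (.node (.leaf 2753) (.leaf 19139)) (.node (.leaf 9747) (.leaf 33696)))) (.node (.node (.node (.leaf 1281) (.leaf 16017)) (.node (.leaf 7873) (.leaf 29009))) (.node (.node (.leaf 4291) (.leaf 23410)) (.node (.leaf 11651) (.leaf 45506))))) (.node (.node (.node (.node (.leaf 627) (.leaf 14689)) (.node (.leaf 6897) (.leaf 27281))) (.node (.node (.leaf 3521) (.leaf 20993)) (.node (.leaf 10659) (.leaf 37315)))) (.node (.node (.node (.leaf 1954) (.leaf 17312)) (.node (.leaf 8832) (.leaf 30947))) (.node (.node (.leaf 5075) (.leaf 24435)) (.node (.leaf 12578) (.leaf 48881)))))) (.node (.node (.node (.node (.node (.leaf 320) (.leaf 14194)) (.node (.leaf 6418) (.leaf 26418))) (.node (.node (.leaf 3169) (.leaf 19907)) (.node (.leaf 10256) (.leaf 34944)))) (.node (.node (.node (.leaf 1618) (.leaf 16611)) (.node (.leaf 8307) (.leaf 29763))) (.node (.node (.leaf 4691) (.leaf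 23904)) (.node (.leaf 12114) (.leaf 46752))))) (.node (.node (.node (.node (.leaf 960) (.leaf 15379)) (.node (.leaf 7392) (.leaf 28192))) (.node (.node (.leaf 3921) (.leaf 22337)) (.node (.leaf 11168) (.leaf 40419)))) (.node (.node (.node (.leaf 2370) (.leaf 18323)) (.node (.leaf 9362) (.leaf 32369))) (.node (.node (.leaf 5490) (.leaf 25170)) (.node (.leaf 13089) (.leaf 52081))))))) (.node (.node (.node (.node (.node (.node (.leaf 161) (.leaf 13952)) (.node (.leaf 6163) (.leaf 26080))) (.node (.node (.leaf 2961) (.leaf 19570)) (.node (.leaf 10001) (.leaf 34355)))) (.node (.node (.node (.leaf 1441) (.leaf 16353)) (.node (.leaf 8098) (.leaf 29314))) (.node (.node (.leaf 4483) (.leaf 23666)) (.node (.leaf 11872) (.leaf 46147))))) (.node (.node (.node (.node (.leaf 787) (.leaf 15040)) (.node (.leaf 7154) (.leaf 27680))) (.node (.node (.leaf 3681) (.leaf 21683)) (.node (.leaf 10913) (.leaf 38531)))) (.node (.node (.node (.leaf 2193) (.leaf 17904)) (.node (.leaf 9105) (.leaf 31680))) (.node (.node (.leaf 5251) (.leaf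 24835)) (.node (.leaf 12832) (.leaf 50242)))))) (.node (.node (.node (.node (.node (.leaf 467) (.leaf 14419)) (.node (.leaf 6674) (.leaf 26753))) (.node (.node (.leaf 3331) (.leaf 20386)) (.node (.leaf 10433) (.leaf 36227)))) (.node (.node (.node (.leaf 1795) (.leaf 16976)) (.node (.leaf 8592) (.leaf 30467))) (.node (.node (.leaf 4883) (.leaf 24192)) (.node (.leaf 12371) (.leaf 47665))))) (.node (.node (.node (.node (.leaf 1120) (.leaf 15728)) (.node (.leaf 7634) (.leaf 28609))) (.node (.node (.leaf 4098) (.leaf 22960)) (.node (.leaf 11393) (.leaf 43890)))) (.node (.node (.node (.leaf 2563) (.leaf 18818)) (.node (.leaf 9553) (.leaf 32995))) (.node (.node (.leaf 5746) (.leaf 25488)) (.node (.leaf 13330) (.leaf 54225))))))))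

def twoPar4 : Janko.Tree (ℕ) :=
  (.node (.node (.node (.node (.node (.node (.node (.leaf 3) (.leaf 13651)) (.node (.leaf 5954) (.leaf 25826))) (.node (.node (.leaf 2754) (.leaf 19154)) (.node (.leaf 9763) (.leaf 33697)))) (.node (.node (.node (.leaf 1282) (.leaf 16035)) (.node (.leaf 7874) (.leaf 29025))) (.node (.node (.leaf 4305) (.leaf 23411)) (.node (.leaf 11664) (.leaf 45523))))) (.node (.node (.node (.node (.leaf 640) (.leaf 14690)) (.node (.leaf 6899) (.leaf 27283))) (.node (.node (.leaf 3522) (.leaf 21025)) (.node (.leaf 10673) (.leaf 37344)))) (.node (.node (.node (.leaf 1955) (.leaf 17315)) (.node (.leaf 8848) (.leaf 31009))) (.node (.node (.leaf 5088) (.leaf 24467)) (.node (.leaf 12579) (.leaf 48915)))))) (.node (.node (.node (.node (.node (.leaf 321) (.leaf 14195)) (.node (.leaf 6419) (.leaf 26419))) (.node (.node (.leaf 3170) (.leaf 19969)) (.node (.leaf 10258) (.leaf 34960)))) (.node (.node (.node (.leaf 1619) (.leaf 16624)) (.node (.leaf 8321) (.leaf 29792))) (.node (.node (.leaf 4705) (.leaf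 23905)) (.node (.leaf 12128) (.leaf 46771))))) (.node (.node (.node (.node (.leaf 961) (.leaf 15392)) (.node (.leaf 7393) (.leaf 28193))) (.node (.node (.leaf 3922) (.leaf 22338)) (.node (.leaf 11187) (.leaf 40465)))) (.node (.node (.node (.leaf 2371) (.leaf 18336)) (.node (.leaf 9363) (.leaf 32371))) (.node (.node (.leaf 5505) (.leaf 25185)) (.node (.leaf 13090) (.leaf 52147))))))) (.node (.node (.node (.node (.node (.node (.leaf 162) (.leaf 13955)) (.node (.leaf 6178) (.leaf 26081))) (.node (.node (.leaf 2963) (.leaf 19585)) (.node (.leaf 10003) (.leaf 34371)))) (.node (.node (.node (.leaf 1443) (.leaf 16354)) (.node (.leaf 8112) (.leaf 29315))) (.node (.node (.leaf 4496) (.leaf 23667)) (.node (.leaf 11874) (.leaf 46161))))) (.node (.node (.node (.node (.leaf 801) (.leaf 15041)) (.node (.leaf 7169) (.leaf 27682))) (.node (.node (.leaf 3682) (.leaf 21697)) (.node (.leaf 10915) (.leaf 38657)))) (.node (.node (.node (.leaf 2194) (.leaf 17920)) (.node (.leaf 9107) (.leaf 31681))) (.node (.node (.leaf 5264) (.leaf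 24848)) (.node (.leaf 12833) (.leaf 50258)))))) (.node (.node (.node (.node (.node (.leaf 480) (.leaf 14432)) (.node (.leaf 6675) (.leaf 26754))) (.node (.node (.leaf 3345) (.leaf 20401)) (.node (.leaf 10435) (.leaf 36240)))) (.node (.node (.node (.leaf 1808) (.leaf 16977)) (.node (.leaf 8593) (.leaf 30481))) (.node (.node (.leaf 4896) (.leaf 24195)) (.node (.leaf 12384) (.leaf 47747))))) (.node (.node (.node (.node (.leaf 1121) (.leaf 15731)) (.node (.leaf 7635) (.leaf 28611))) (.node (.node (.leaf 4099) (.leaf 22962)) (.node (.leaf 11395) (.leaf 44097)))) (.node (.node (.node (.leaf 2577) (.leaf 18819)) (.node (.leaf 9555) (.leaf 33043))) (.node (.node (.leaf 5761) (.leaf 25490)) (.node (.leaf 13331) (.leaf 54371))))))))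

def twoPar5 : Janko.Tree (ℕ) :=
  (.node (.node (.node (.node (.node (.node (.node (.leaf 17) (.leaf 13681)) (.node (.leaf 5955) (.leaf 25827))) (.node (.node (.leaf 2755) (.leaf 19170)) (.node (.leaf 9776) (.leaf 33729)))) (.node (.node (.node (.leaf 1283) (.leaf 16049)) (.node (.leaf 7888) (.leaf 29043))) (.node (.node (.leaf 4307) (.leaf 23424)) (.node (.leaf 11665) (.leaf 45585))))) (.node (.node (.node (.node (.leaf 641) (.leaf 14691)) (.node (.leaf 6913) (.leaf 27297))) (.node (.node (.leaf 3523) (.leaf 21041)) (.node (.leaf 10674) (.leaf 37347)))) (.node (.node (.node (.leaf 1969) (.leaf 17329)) (.node (.leaf 8850) (.leaf 31026))) (.node (.node (.leaf 5089) (.leaf 24481)) (.node (.leaf 12595) (.leaf 48931)))))) (.node (.node (.node (.node (.node (.leaf 322) (.leaf 14209)) (.node (.leaf 6432) (.leaf 26432))) (.node (.node (.leaf 3171) (.leaf 19971)) (.node (.leaf 10259) (.leaf 35059)))) (.node (.node (.node (.leaf 1632) (.leaf 16626)) (.node (.leaf 8323) (.leaf 29793))) (.node (.node (.leaf 4707) (.leaf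 23907)) (.node (.leaf 12130) (.leaf 46787))))) (.node (.node (.node (.node (.leaf 962) (.leaf 15408)) (.node (.leaf 7395) (.leaf 28195))) (.node (.node (.leaf 3923) (.leaf 22355)) (.node (.leaf 11200) (.leaf 40545)))) (.node (.node (.node (.leaf 2384) (.leaf 18370)) (.node (.leaf 9376) (.leaf 32400))) (.node (.node (.leaf 5506) (.leaf 25187)) (.node (.leaf 13091) (.leaf 52208))))))) (.node (.node (.node (.node (.node (.node (.leaf 163) (.leaf 13968)) (.node (.leaf 6179) (.leaf 26082))) (.node (.node (.leaf 2976) (.leaf 19587)) (.node (.leaf 10017) (.leaf 34385)))) (.node (.node (.node (.leaf 1456) (.leaf 16355)) (.node (.leaf 8113) (.leaf 29331))) (.node (.node (.leaf 4498) (.leaf 23683)) (.node (.leaf 11875) (.leaf 46162))))) (.node (.node (.node (.node (.leaf 802) (.leaf 15056)) (.node (.leaf 7171) (.leaf 27699))) (.node (.node (.leaf 3699) (.leaf 21729)) (.node (.leaf 10929) (.leaf 38705)))) (.node (.node (.node (.leaf 2195) (.leaf 17921)) (.node (.leaf 9120) (.leaf 31683))) (.node (.node (.leaf 5266) (.leaf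 24849)) (.node (.leaf 12835) (.leaf 50272)))))) (.node (.node (.node (.node (.node (.leaf 481) (.leaf 14448)) (.node (.leaf 6690) (.leaf 26755))) (.node (.node (.leaf 3347) (.leaf 20435)) (.node (.leaf 10450) (.leaf 36257)))) (.node (.node (.node (.leaf 1809) (.leaf 16979)) (.node (.leaf 8594) (.leaf 30497))) (.node (.node (.leaf 4897) (.leaf 24208)) (.node (.leaf 12386) (.leaf 47824))))) (.node (.node (.node (.node (.leaf 1122) (.leaf 15745)) (.node (.leaf 7648) (.leaf 28624))) (.node (.node (.leaf 4112) (.leaf 22979)) (.node (.leaf 11410) (.leaf 44227)))) (.node (.node (.node (.leaf 2579) (.leaf 18833)) (.node (.leaf 9569) (.leaf 33107))) (.node (.node (.leaf 5763) (.leaf 25504)) (.node (.leaf 13347) (.leaf 54403))))))))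

def twoPar6 : Janko.Tree (ℕ) :=
  (.node (.node (.node (.node (.node (.node (.node (.leaf 18) (.leaf 13697)) (.node (.leaf 5968) (.leaf 25841))) (.node (.node (.leaf 2769) (.leaf 19184)) (.node (.leaf 9777) (.leaf 33762)))) (.node (.node (.node (.leaf 1296) (.leaf 16066)) (.node (.leaf 7889) (.leaf 29059))) (.node (.node (.leaf 4321) (.leaf 23427)) (.node (.leaf 11666) (.leaf 45587))))) (.node (.node (.node (.node (.leaf 642) (.leaf 14707)) (.node (.leaf 6914) (.leaf 27315))) (.node (.node (.leaf 3537) (.leaf 21043)) (.node (.leaf 10675) (.leaf 37424)))) (.node (.node (.node (.leaf 1971) (.leaf 17347)) (.node (.leaf 8851) (.leaf 31040))) (.node (.node (.leaf 5090) (.leaf 24482)) (.node (.leaf 12608) (.leaf 49027)))))) (.node (.node (.node (.node (.node (.leaf 323) (.leaf 14210)) (.node (.leaf 6433) (.leaf 26433))) (.node (.node (.leaf 3184) (.leaf 20003)) (.node (.leaf 10273) (.leaf 35089)))) (.node (.node (.node (.leaf 1633) (.leaf 16627)) (.node (.leaf 8352) (.leaf 29794))) (.node (.node (.leaf 4720) (.leaf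 23923)) (.node (.leaf 12131) (.leaf 46800))))) (.node (.node (.node (.node (.leaf 976) (.leaf 15409)) (.node (.leaf 7408) (.leaf 28208))) (.node (.node (.leaf 3936) (.leaf 22368)) (.node (.leaf 11201) (.leaf 40561)))) (.node (.node (.node (.leaf 2385) (.leaf 18387)) (.node (.leaf 9377) (.leaf 32418))) (.node (.node (.leaf 5507) (.leaf 25201)) (.node (.leaf 13104) (.leaf 52211))))))) (.node (.node (.node (.node (.node (.node (.leaf 177) (.leaf 13969)) (.node (.leaf 6193) (.leaf 26083))) (.node (.node (.leaf 2979) (.leaf 19600)) (.node (.leaf 10018) (.leaf 34387)))) (.node (.node (.node (.leaf 1458) (.leaf 16369)) (.node (.leaf 8115) (.leaf 29344))) (.node (.node (.leaf 4499) (.leaf 23696)) (.node (.leaf 11888) (.leaf 46176))))) (.node (.node (.node (.node (.leaf 803) (.leaf 15058)) (.node (.leaf 7185) (.leaf 27713))) (.node (.node (.leaf 3713) (.leaf 21793)) (.node (.leaf 10931) (.leaf 38738)))) (.node (.node (.node (.leaf 2209) (.leaf 17922)) (.node (.leaf 9122) (.leaf 31696))) (.node (.node (.leaf 5267) (.leaf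 24850)) (.node (.leaf 12848) (.leaf 50289)))))) (.node (.node (.node (.node (.node (.leaf 482) (.leaf 14450)) (.node (.leaf 6691) (.leaf 26816))) (.node (.node (.leaf 3360) (.leaf 20467)) (.node (.leaf 10467) (.leaf 36306)))) (.node (.node (.node (.leaf 1810) (.leaf 16994)) (.node (.leaf 8595) (.leaf 30498))) (.node (.node (.leaf 4898) (.leaf 24209)) (.node (.leaf 12387) (.leaf 48003))))) (.node (.node (.node (.node (.leaf 1123) (.leaf 15761)) (.node (.leaf 7649) (.leaf 28641))) (.node (.node (.leaf 4113) (.leaf 23024)) (.node (.leaf 11411) (.leaf 44402)))) (.node (.node (.node (.leaf 2592) (.leaf 18834)) (.node (.leaf 9570) (.leaf 33123))) (.node (.node (.leaf 5776) (.leaf 25522)) (.node (.leaf 13360) (.leaf 54435))))))))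

def twoPar7 : Janko.Tree (ℕ) :=
  (.node (.node (.node (.node (.node (.node (.node (.leaf 19) (.leaf 13698)) (.node (.leaf 5971) (.leaf 25843))) (.node (.node (.leaf 2771) (.leaf 19185)) (.node (.leaf 9778) (.leaf 33792)))) (.node (.node (.node (.leaf 1298) (.leaf 16081)) (.node (.leaf 7905) (.leaf 29073))) (.node (.node (.leaf 4322) (.leaf 23443)) (.node (.leaf 11667) (.leaf 45603))))) (.node (.node (.node (.node (.leaf 657) (.leaf 14720)) (.node (.leaf 6915) (.leaf 27328))) (.node (.node (.leaf 3538) (.leaf 21057)) (.node (.leaf 10705) (.leaf 37443)))) (.node (.node (.node (.leaf 1984) (.leaf 17377)) (.node (.leaf 8864) (.leaf 31043))) (.node (.node (.leaf 5091) (.leaf 24499)) (.node (.leaf 12609) (.leaf 49043)))))) (.node (.node (.node (.node (.node (.leaf 337) (.leaf 14211)) (.node (.leaf 6434) (.leaf 26434))) (.node (.node (.leaf 3187) (.leaf 20033)) (.node (.leaf 10274) (.leaf 35090)))) (.node (.node (.node (.leaf 1635) (.leaf 16642)) (.node (.leaf 8354) (.leaf 29809))) (.node (.node (.leaf 4721) (.leaf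 23937)) (.node (.leaf 12144) (.leaf 46802))))) (.node (.node (.node (.node (.leaf 978) (.leaf 15427)) (.node (.leaf 7409) (.leaf 28226))) (.node (.node (.leaf 3938) (.leaf 22416)) (.node (.leaf 11202) (.leaf 40897)))) (.node (.node (.node (.leaf 2387) (.leaf 18416)) (.node (.leaf 9379) (.leaf 32434))) (.node (.node (.leaf 5520) (.leaf 25202)) (.node (.leaf 13107) (.leaf 52225))))))) (.node (.node (.node (.node (.node (.node (.leaf 178) (.leaf 13971)) (.node (.leaf 6195) (.leaf 26099))) (.node (.node (.leaf 2992) (.leaf 19601)) (.node (.leaf 10019) (.leaf 34416)))) (.node (.node (.node (.leaf 1459) (.leaf 16370)) (.node (.leaf 8128) (.leaf 29346))) (.node (.node (.leaf 4513) (.leaf 23698)) (.node (.leaf 11904) (.leaf 46225))))) (.node (.node (.node (.node (.leaf 817) (.leaf 15073)) (.node (.leaf 7186) (.leaf 27714))) (.node (.node (.leaf 3715) (.leaf 21811)) (.node (.leaf 10945) (.leaf 38754)))) (.node (.node (.node (.leaf 2211) (.leaf 17937)) (.node (.leaf 9136) (.leaf 31699))) (.node (.node (.leaf 5280) (.leaf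 24867)) (.node (.leaf 12849) (.leaf 50291)))))) (.node (.node (.node (.node (.node (.leaf 483) (.leaf 14465)) (.node (.leaf 6704) (.leaf 26818))) (.node (.node (.leaf 3361) (.leaf 20483)) (.node (.leaf 10481) (.leaf 36320)))) (.node (.node (.node (.leaf 1811) (.leaf 16995)) (.node (.leaf 8609) (.leaf 30499))) (.node (.node (.leaf 4899) (.leaf 24211)) (.node (.leaf 12401) (.leaf 48016))))) (.node (.node (.node (.node (.leaf 1136) (.leaf 15763)) (.node (.leaf 7650) (.leaf 28643))) (.node (.node (.leaf 4115) (.leaf 23072)) (.node (.leaf 11424) (.leaf 44435)))) (.node (.node (.node (.leaf 2594) (.leaf 18851)) (.node (.leaf 9571) (.leaf 33137))) (.node (.node (.leaf 5792) (.leaf 25523)) (.node (.leaf 13362) (.leaf 54739))))))))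

def twoPar8 : Janko.Tree (ℕ) :=
  (.node (.node (.node (.node (.node (.node (.node (.leaf 32) (.leaf 13715)) (.node (.leaf 5984) (.leaf 25857))) (.node (.node (.leaf 2786) (.leaf 19232)) (.node (.leaf 9779) (.leaf 33810)))) (.node (.node (.node (.leaf 1299) (.leaf 16083)) (.node (.leaf 7907) (.leaf 29074))) (.node (.node (.leaf 4323) (.leaf 23457)) (.node (.leaf 11681) (.leaf 45632))))) (.node (.node (.node (.node (.leaf 658) (.leaf 14722)) (.node (.leaf 6929) (.leaf 27329))) (.node (.node (.leaf 3539) (.leaf 21072)) (.node (.leaf 10707) (.leaf 37474)))) (.node (.node (.node (.leaf 1986) (.leaf 17379)) (.node (.leaf 8866) (.leaf 31074))) (.node (.node (.leaf 5104) (.leaf 24515)) (.node (.leaf 12610) (.leaf 49168)))))) (.node (.node (.node (.node (.node (.leaf 338) (.leaf 14224)) (.node (.leaf 6449) (.leaf 26435))) (.node (.node (.leaf 3200) (.leaf 20049)) (.node (.leaf 10275) (.leaf 35168)))) (.node (.node (.node (.leaf 1648) (.leaf 16643)) (.node (.leaf 8355) (.leaf 29827))) (.node (.node (.leaf 4722) (.leaf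 23952)) (.node (.leaf 12145) (.leaf 46816))))) (.node (.node (.node (.node (.leaf 979) (.leaf 15441)) (.node (.leaf 7410) (.leaf 28258))) (.node (.node (.leaf 3952) (.leaf 22418)) (.node (.leaf 11217) (.leaf 40912)))) (.node (.node (.node (.leaf 2400) (.leaf 18418)) (.node (.leaf 9393) (.leaf 32435))) (.node (.node (.leaf 5536) (.leaf 25203)) (.node (.leaf 13121) (.leaf 52243))))))) (.node (.node (.node (.node (.node (.node (.leaf 179) (.leaf 13985)) (.node (.leaf 6208) (.leaf 26112))) (.node (.node (.leaf 2994) (.leaf 19603)) (.node (.leaf 10034) (.leaf 34419)))) (.node (.node (.node (.leaf 1472) (.leaf 16371)) (.node (.leaf 8129) (.leaf 29363))) (.node (.node (.leaf 4529) (.leaf 23712)) (.node (.leaf 11907) (.leaf 46227))))) (.node (.node (.node (.node (.leaf 818) (.leaf 15090)) (.node (.leaf 7187) (.leaf 27729))) (.node (.node (.leaf 3728) (.leaf 21824)) (.node (.leaf 10963) (.leaf 38771)))) (.node (.node (.node (.leaf 2226) (.leaf 17938)) (.node (.leaf 9139) (.leaf 31746))) (.node (.node (.leaf 5281) (.leaf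 24882)) (.node (.leaf 12850) (.leaf 50307)))))) (.node (.node (.node (.node (.node (.leaf 497) (.leaf 14467)) (.node (.leaf 6706) (.leaf 26819))) (.node (.node (.leaf 3362) (.leaf 20513)) (.node (.leaf 10482) (.leaf 36321)))) (.node (.node (.node (.leaf 1824) (.leaf 17009)) (.node (.leaf 8626) (.leaf 30512))) (.node (.node (.leaf 4913) (.leaf 24224)) (.node (.leaf 12403) (.leaf 48131))))) (.node (.node (.node (.node (.leaf 1138) (.leaf 15776)) (.node (.leaf 7651) (.leaf 28657))) (.node (.node (.leaf 4129) (.leaf 23088)) (.node (.leaf 11426) (.leaf 44800)))) (.node (.node (.node (.leaf 2595) (.leaf 18867)) (.node (.leaf 9585) (.leaf 33170))) (.node (.node (.leaf 5793) (.leaf 25537)) (.node (.leaf 13363) (.leaf 54752))))))))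

def twoPar9 : Janko.Tree (ℕ) :=
  (.node (.node (.node (.node (.node (.node (.node (.leaf 34) (.leaf 13728)) (.node (.leaf 5985) (.leaf 25873))) (.node (.node (.leaf 2801) (.leaf 19233)) (.node (.leaf 9795) (.leaf 33840)))) (.node (.node (.node (.leaf 1312) (.leaf 16097)) (.node (.leaf 7920) (.leaf 29091))) (.node (.node (.leaf 4336) (.leaf 23458)) (.node (.leaf 11683) (.leaf 45648))))) (.node (.node (.node (.node (.leaf 659) (.leaf 14723)) (.node (.leaf 6930) (.leaf 27330))) (.node (.node (.leaf 3552) (.leaf 21090)) (.node (.leaf 10720) (.leaf 37521)))) (.node (.node (.node (.leaf 1987) (.leaf 17425)) (.node (.leaf 8881) (.leaf 31123))) (.node (.node (.leaf 5106) (.leaf 24531)) (.node (.leaf 12640) (.leaf 49235)))))) (.node (.node (.node (.node (.node (.leaf 339) (.leaf 14226)) (.node (.leaf 6451) (.leaf 26449))) (.node (.node (.leaf 3201) (.leaf 20050)) (.node (.leaf 10288) (.leaf 35171)))) (.node (.node (.node (.leaf 1649) (.leaf 16656)) (.node (.leaf 8371) (.leaf 29840))) (.node (.node (.leaf 4723) (.leaf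 23954)) (.node (.leaf 12147) (.leaf 46817))))) (.node (.node (.node (.node (.leaf 992) (.leaf 15443)) (.node (.leaf 7411) (.leaf 28259))) (.node (.node (.leaf 3953) (.leaf 22433)) (.node (.leaf 11219) (.leaf 40947)))) (.node (.node (.node (.leaf 2401) (.leaf 18433)) (.node (.leaf 9395) (.leaf 32451))) (.node (.node (.leaf 5539) (.leaf 25217)) (.node (.leaf 13123) (.leaf 52257))))))) (.node (.node (.node (.node (.node (.node (.leaf 192) (.leaf 13987)) (.node (.leaf 6211) (.leaf 26128))) (.node (.node (.leaf 2995) (.leaf 19616)) (.node (.leaf 10035) (.leaf 34432)))) (.node (.node (.node (.leaf 1473) (.leaf 16384)) (.node (.leaf 8130) (.leaf 29395))) (.node (.node (.leaf 4530) (.leaf 23731)) (.node (.leaf 11923) (.leaf 46259))))) (.node (.node (.node (.node (.leaf 819) (.leaf 15105)) (.node (.leaf 7200) (.leaf 27744))) (.node (.node (.leaf 3729) (.leaf 21826)) (.node (.leaf 10976) (.leaf 38896)))) (.node (.node (.node (.leaf 2227) (.leaf 17939)) (.node (.leaf 9153) (.leaf 31762))) (.node (.node (.leaf 5283) (.leaf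 24897)) (.node (.leaf 12867) (.leaf 50355)))))) (.node (.node (.node (.node (.node (.leaf 498) (.leaf 14480)) (.node (.leaf 6720) (.leaf 26834))) (.node (.node (.leaf 3378) (.leaf 20531)) (.node (.leaf 10483) (.leaf 36338)))) (.node (.node (.node (.leaf 1826) (.leaf 17011)) (.node (.leaf 8641) (.leaf 30528))) (.node (.node (.leaf 4914) (.leaf 24225)) (.node (.leaf 12417) (.leaf 48145))))) (.node (.node (.node (.node (.leaf 1139) (.leaf 15778)) (.node (.leaf 7666) (.leaf 28675))) (.node (.node (.leaf 4131) (.leaf 23091)) (.node (.leaf 11427) (.leaf 44880)))) (.node (.node (.node (.leaf 2609) (.leaf 18881)) (.node (.leaf 9586) (.leaf 33251))) (.node (.node (.leaf 5794) (.leaf 25538)) (.node (.leaf 13379) (.leaf 54754))))))))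

def twoPar10 : Janko.Tree (ℕ) :=
  (.node (.node (.node (.node (.node (.node (.node (.leaf 35) (.leaf 13729)) (.node (.leaf 5986) (.leaf 25875))) (.node (.node (.leaf 2803) (.leaf 19234)) (.node (.leaf 9809) (.leaf 33874)))) (.node (.node (.node (.leaf 1313) (.leaf 16114)) (.node (.leaf 7922) (.leaf 29106))) (.node (.node (.leaf 4339) (.leaf 23474)) (.node (.leaf 11699) (.leaf 45650))))) (.node (.node (.node (.node (.leaf 672) (.leaf 14736)) (.node (.leaf 6944) (.leaf 27347))) (.node (.node (.leaf 3553) (.leaf 21107)) (.node (.leaf 10721) (.leaf 37537)))) (.node (.node (.node (.leaf 2000) (.leaf 17459)) (.node (.leaf 8883) (.leaf 31137))) (.node (.node (.leaf 5107) (.leaf 24545)) (.node (.leaf 12641) (.leaf 49251)))))) (.node (.node (.node (.node (.node (.leaf 352) (.leaf 14240)) (.node (.leaf 6464) (.leaf 26496))) (.node (.node (.leaf 3202) (.leaf 20066)) (.node (.leaf 10290) (.leaf 35184)))) (.node (.node (.node (.leaf 1650) (.leaf 16659)) (.node (.leaf 8386) (.leaf 29875))) (.node (.node (.leaf 4737) (.leaf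 23955)) (.node (.leaf 12163) (.leaf 46867))))) (.node (.node (.node (.node (.leaf 993) (.leaf 15458)) (.node (.leaf 7425) (.leaf 28289))) (.node (.node (.leaf 3955) (.leaf 22466)) (.node (.leaf 11232) (.leaf 40976)))) (.node (.node (.node (.leaf 2403) (.leaf 18435)) (.node (.leaf 9409) (.leaf 32464))) (.node (.node (.leaf 5553) (.leaf 25219)) (.node (.leaf 13138) (.leaf 52370))))))) (.node (.node (.node (.node (.node (.node (.leaf 194) (.leaf 14001)) (.node (.leaf 6224) (.leaf 26129))) (.node (.node (.leaf 3009) (.leaf 19619)) (.node (.leaf 10048) (.leaf 34433)))) (.node (.node (.node (.leaf 1475) (.leaf 16386)) (.node (.leaf 8131) (.leaf 29408))) (.node (.node (.leaf 4545) (.leaf 23744)) (.node (.leaf 11939) (.leaf 46307))))) (.node (.node (.node (.node (.leaf 832) (.leaf 15107)) (.node (.leaf 7203) (.leaf 27761))) (.node (.node (.leaf 3730) (.leaf 21841)) (.node (.leaf 10979) (.leaf 38978)))) (.node (.node (.node (.leaf 2240) (.leaf 17968)) (.node (.leaf 9171) (.leaf 31763))) (.node (.node (.leaf 5296) (.leaf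 24899)) (.node (.leaf 12881) (.leaf 50403)))))) (.node (.node (.node (.node (.node (.leaf 499) (.leaf 14496)) (.node (.leaf 6721) (.leaf 26848))) (.node (.node (.leaf 3379) (.leaf 20547)) (.node (.leaf 10496) (.leaf 36354)))) (.node (.node (.node (.leaf 1827) (.leaf 17025)) (.node (.leaf 8643) (.leaf 30529))) (.node (.node (.leaf 4915) (.leaf 24226)) (.node (.leaf 12433) (.leaf 48176))))) (.node (.node (.node (.node (.leaf 1153) (.leaf 15793)) (.node (.leaf 7667) (.leaf 28689))) (.node (.node (.leaf 4144) (.leaf 23105)) (.node (.leaf 11443) (.leaf 44881)))) (.node (.node (.node (.leaf 2610) (.leaf 18883)) (.node (.leaf 9587) (.leaf 33266))) (.node (.node (.leaf 5809) (.leaf 25554)) (.node (.leaf 13392) (.leaf 54769))))))))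

def twoPar11 : Janko.Tree (ℕ) :=
  (.node (.node (.node (.node (.node (.node (.node (.leaf 48) (.leaf 13730)) (.node (.leaf 5987) (.leaf 25889))) (.node (.node (.leaf 2816) (.leaf 19249)) (.node (.leaf 9825) (.leaf 33889)))) (.node (.node (.node (.leaf 1315) (.leaf 16115)) (.node (.leaf 7937) (.leaf 29107))) (.node (.node (.leaf 4352) (.leaf 23475)) (.node (.leaf 11712) (.leaf 45665))))) (.node (.node (.node (.node (.leaf 673) (.leaf 14739)) (.node (.leaf 6947) (.leaf 27362))) (.node (.node (.leaf 3555) (.leaf 21139)) (.node (.leaf 10722) (.leaf 37552)))) (.node (.node (.node (.leaf 2001) (.leaf 17472)) (.node (.leaf 8897) (.leaf 31168))) (.node (.node (.leaf 5120) (.leaf 24547)) (.node (.leaf 12642) (.leaf 49265)))))) (.node (.node (.node (.node (.node (.leaf 354) (.leaf 14241)) (.node (.leaf 6466) (.leaf 26498))) (.node (.node (.leaf 3203) (.leaf 20080)) (.node (.leaf 10291) (.leaf 35200)))) (.node (.node (.node (.leaf 1651) (.leaf 16673)) (.node (.leaf 8387) (.leaf 29891))) (.node (.node (.leaf 4739) (.leaf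 23968)) (.node (.leaf 12179) (.leaf 46880))))) (.node (.node (.node (.node (.leaf 995) (.leaf 15474)) (.node (.leaf 7427) (.leaf 28304))) (.node (.node (.leaf 3968) (.leaf 22467)) (.node (.leaf 11233) (.leaf 41057)))) (.node (.node (.node (.leaf 2417) (.leaf 18465)) (.node (.leaf 9425) (.leaf 32483))) (.node (.node (.leaf 5554) (.leaf 25234)) (.node (.leaf 13139) (.leaf 52387))))))) (.node (.node (.node (.node (.node (.node (.leaf 195) (.leaf 14002)) (.node (.leaf 6226) (.leaf 26131))) (.node (.node (.leaf 3010) (.leaf 19633)) (.node (.leaf 10051) (.leaf 34434)))) (.node (.node (.node (.leaf 1488) (.leaf 16401)) (.node (.leaf 8144) (.leaf 29410))) (.node (.node (.leaf 4547) (.leaf 23745)) (.node (.leaf 11952) (.leaf 46336))))) (.node (.node (.node (.node (.leaf 833) (.leaf 15123)) (.node (.leaf 7217) (.leaf 27779))) (.node (.node (.leaf 3731) (.leaf 21873)) (.node (.leaf 10993) (.leaf 39010)))) (.node (.node (.node (.leaf 2241) (.leaf 17969)) (.node (.leaf 9203) (.leaf 31795))) (.node (.node (.leaf 5297) (.leaf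 24931)) (.node (.leaf 12883) (.leaf 50514)))))) (.node (.node (.node (.node (.node (.leaf 512) (.leaf 14499)) (.node (.leaf 6723) (.leaf 26850))) (.node (.node (.leaf 3393) (.leaf 20576)) (.node (.leaf 10498) (.leaf 36384)))) (.node (.node (.node (.leaf 1840) (.leaf 17027)) (.node (.leaf 8656) (.leaf 30531))) (.node (.node (.leaf 4928) (.leaf 24241)) (.node (.leaf 12435) (.leaf 48209))))) (.node (.node (.node (.node (.leaf 1155) (.leaf 15808)) (.node (.leaf 7681) (.leaf 28704))) (.node (.node (.leaf 4147) (.leaf 23155)) (.node (.leaf 11458) (.leaf 44915)))) (.node (.node (.node (.leaf 2611) (.leaf 18898)) (.node (.leaf 9600) (.leaf 33280))) (.node (.node (.leaf 5811) (.leaf 25555)) (.node (.leaf 13393) (.leaf 55826))))))))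

def twoPar12 : Janko.Tree (ℕ) :=
  (.node (.node (.node (.node (.node (.node (.node (.leaf 49) (.leaf 13747)) (.node (.leaf 6001) (.leaf 25891))) (.node (.node (.leaf 2817) (.leaf 19250)) (.node (.leaf 9840) (.leaf 33921)))) (.node (.node (.node (.leaf 1329) (.leaf 16129)) (.node (.leaf 7939) (.leaf 29120))) (.node (.node (.leaf 4353) (.leaf 23488)) (.node (.leaf 11713) (.leaf 45680))))) (.node (.node (.node (.node (.leaf 675) (.leaf 14753)) (.node (.leaf 6961) (.leaf 27378))) (.node (.node (.leaf 3568) (.leaf 21171)) (.node (.leaf 10723) (.leaf 37570)))) (.node (.node (.node (.leaf 2003) (.leaf 17473)) (.node (.leaf 8898) (.leaf 31170))) (.node (.node (.leaf 5121) (.leaf 24562)) (.node (.leaf 12643) (.leaf 49299)))))) (.node (.node (.node (.node (.node (.leaf 355) (.leaf 14243)) (.node (.leaf 6481) (.leaf 26499))) (.node (.node (.leaf 3219) (.leaf 20081)) (.node (.leaf 10305) (.leaf 35202)))) (.node (.node (.node (.leaf 1664) (.leaf 16674)) (.node (.leaf 8400) (.leaf 29921))) (.node (.node (.leaf 4754) (.leaf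 23969)) (.node (.leaf 12193) (.leaf 46928))))) (.node (.node (.node (.node (.leaf 1008) (.leaf 15489)) (.node (.leaf 7440) (.leaf 28339))) (.node (.node (.leaf 3969) (.leaf 22499)) (.node (.leaf 11234) (.leaf 41104)))) (.node (.node (.node (.leaf 2419) (.leaf 18480)) (.node (.leaf 9427) (.leaf 32496))) (.node (.node (.leaf 5569) (.leaf 25251)) (.node (.leaf 13152) (.leaf 52403))))))) (.node (.node (.node (.node (.node (.node (.leaf 208) (.leaf 14003)) (.node (.leaf 6227) (.leaf 26147))) (.node (.node (.leaf 3011) (.leaf 19650)) (.node (.leaf 10064) (.leaf 34450)))) (.node (.node (.node (.leaf 1489) (.leaf 16403)) (.node (.leaf 8146) (.leaf 29427))) (.node (.node (.leaf 4560) (.leaf 23746)) (.node (.leaf 11953) (.leaf 46339))))) (.node (.node (.node (.node (.leaf 835) (.leaf 15137)) (.node (.leaf 7219) (.leaf 27810))) (.node (.node (.leaf 3747) (.leaf 21891)) (.node (.leaf 10995) (.leaf 39024)))) (.node (.node (.node (.leaf 2242) (.leaf 17971)) (.node (.leaf 9217) (.leaf 31811))) (.node (.node (.leaf 5315) (.leaf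 24945)) (.node (.leaf 12896) (.leaf 50515)))))) (.node (.node (.node (.node (.node (.leaf 514) (.leaf 14513)) (.node (.leaf 6736) (.leaf 26865))) (.node (.node (.leaf 3395) (.leaf 20625)) (.node (.leaf 10499) (.leaf 36435)))) (.node (.node (.node (.leaf 1841) (.leaf 17042)) (.node (.leaf 8657) (.leaf 30544))) (.node (.node (.leaf 4930) (.leaf 24242)) (.node (.leaf 12449) (.leaf 48211))))) (.node (.node (.node (.node (.leaf 1168) (.leaf 15810)) (.node (.leaf 7682) (.leaf 28706))) (.node (.node (.leaf 4160) (.leaf 23170)) (.node (.leaf 11459) (.leaf 44979)))) (.node (.node (.node (.leaf 2624) (.leaf 18915)) (.node (.leaf 9601) (.leaf 33283))) (.node (.node (.leaf 5824) (.leaf 25569)) (.node (.leaf 13394) (.leaf 55874))))))))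

def twoPar13 : Janko.Tree (ℕ) :=
  (.node (.node (.node (.node (.node (.node (.node (.leaf 51) (.leaf 13760)) (.node (.leaf 6003) (.leaf 25907))) (.node (.node (.leaf 2818) (.leaf 19266)) (.node (.leaf 9842) (.leaf 33922)))) (.node (.node (.node (.leaf 1330) (.leaf 16145)) (.node (.leaf 7952) (.leaf 29121))) (.node (.node (.leaf 4355) (.leaf 23490)) (.node (.leaf 11714) (.leaf 45681))))) (.node (.node (.node (.node (.leaf 688) (.leaf 14769)) (.node (.leaf 6963) (.leaf 27425))) (.node (.node (.leaf 3569) (.leaf 21187)) (.node (.leaf 10737) (.leaf 37587)))) (.node (.node (.node (.leaf 2016) (.leaf 17474)) (.node (.leaf 8899) (.leaf 31201))) (.node (.node (.leaf 5123) (.leaf 24563)) (.node (.leaf 12658) (.leaf 49328)))))) (.node (.node (.node (.node (.node (.leaf 368) (.leaf 14256)) (.node (.leaf 6483) (.leaf 26529))) (.node (.node (.leaf 3232) (.leaf 20096)) (.node (.leaf 10307) (.leaf 35234)))) (.node (.node (.node (.leaf 1666) (.leaf 16705)) (.node (.leaf 8401) (.leaf 29937))) (.node (.node (.leaf 4755) (.leaf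 23971)) (.node (.leaf 12209) (.leaf 46944))))) (.node (.node (.node (.node (.leaf 1009) (.leaf 15491)) (.node (.leaf 7442) (.leaf 28355))) (.node (.node (.leaf 3970) (.leaf 22579)) (.node (.leaf 11235) (.leaf 41202)))) (.node (.node (.node (.leaf 2432) (.leaf 18498)) (.node (.leaf 9441) (.leaf 32499))) (.node (.node (.leaf 5571) (.leaf 25264)) (.node (.leaf 13155) (.leaf 52449))))))) (.node (.node (.node (.node (.node (.node (.leaf 209) (.leaf 14016)) (.node (.leaf 6241) (.leaf 26160))) (.node (.node (.leaf 3025) (.leaf 19651)) (.node (.leaf 10065) (.leaf 34529)))) (.node (.node (.node (.leaf 1490) (.leaf 16416)) (.node (.leaf 8147) (.leaf 29459))) (.node (.node (.leaf 4561) (.leaf 23763)) (.node (.leaf 11954) (.leaf 46355))))) (.node (.node (.node (.node (.leaf 848) (.leaf 15168)) (.node (.leaf 7232) (.leaf 27840))) (.node (.node (.leaf 3761) (.leaf 21939)) (.node (.leaf 11009) (.leaf 39027)))) (.node (.node (.node (.leaf 2243) (.leaf 18001)) (.node (.leaf 9219) (.leaf 31824))) (.node (.node (.leaf 5331) (.leaf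 24946)) (.node (.leaf 12897) (.leaf 50641)))))) (.node (.node (.node (.node (.node (.leaf 515) (.leaf 14515)) (.node (.leaf 6755) (.leaf 26867))) (.node (.node (.leaf 3408) (.leaf 20656)) (.node (.leaf 10513) (.leaf 36451)))) (.node (.node (.node (.leaf 1843) (.leaf 17088)) (.node (.leaf 8658) (.leaf 30546))) (.node (.node (.leaf 4931) (.leaf 24243)) (.node (.leaf 12451) (.leaf 48224))))) (.node (.node (.node (.node (.leaf 1169) (.leaf 15811)) (.node (.leaf 7696) (.leaf 28720))) (.node (.node (.leaf 4161) (.leaf 23184)) (.node (.leaf 11475) (.leaf 45027)))) (.node (.node (.node (.leaf 2626) (.leaf 18929)) (.node (.leaf 9603) (.leaf 33297))) (.node (.node (.leaf 5826) (.leaf 25584)) (.node (.leaf 13395) (.leaf 56081))))))))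

def twoPar14 : Janko.Tree (ℕ) :=
  (.node (.node (.node (.node (.node (.node (.node (.leaf 64) (.leaf 13763)) (.node (.leaf 6018) (.leaf 25920))) (.node (.node (.leaf 2819) (.leaf 19296)) (.node (.leaf 9857) (.leaf 33953)))) (.node (.node (.node (.leaf 1331) (.leaf 16147)) (.node (.leaf 7954) (.leaf 29122))) (.node (.node (.leaf 4368) (.leaf 23504)) (.node (.leaf 11729) (.leaf 45713))))) (.node (.node (.node (.node (.leaf 689) (.leaf 14787)) (.node (.leaf 6978) (.leaf 27427))) (.node (.node (.leaf 3570) (.leaf 21201)) (.node (.leaf 10755) (.leaf 37619)))) (.node (.node (.node (.leaf 2017) (.leaf 17504)) (.node (.leaf 8915) (.leaf 31251))) (.node (.node (.leaf 5137) (.leaf 24576)) (.node (.leaf 12659) (.leaf 49331)))))) (.node (.node (.node (.node (.node (.leaf 369) (.leaf 14258)) (.node (.leaf 6497) (.leaf 26544))) (.node (.node (.leaf 3234) (.leaf 20098)) (.node (.leaf 10321) (.leaf 35251)))) (.node (.node (.node (.leaf 1667) (.leaf 16707)) (.node (.leaf 8403) (.leaf 29955))) (.node (.node (.leaf 4768) (.leaf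 23985)) (.node (.leaf 12210) (.leaf 47043))))) (.node (.node (.node (.node (.leaf 1010) (.leaf 15504)) (.node (.leaf 7443) (.leaf 28368))) (.node (.node (.leaf 3971) (.leaf 22611)) (.node (.leaf 11250) (.leaf 41235)))) (.node (.node (.node (.leaf 2434) (.leaf 18499)) (.node (.leaf 9443) (.leaf 32528))) (.node (.node (.leaf 5585) (.leaf 25265)) (.node (.leaf 13168) (.leaf 52529))))))) (.node (.node (.node (.node (.node (.node (.leaf 210) (.leaf 14017)) (.node (.leaf 6242) (.leaf 26163))) (.node (.node (.leaf 3027) (.leaf 19664)) (.node (.leaf 10081) (.leaf 34579)))) (.node (.node (.node (.leaf 1505) (.leaf 16417)) (.node (.leaf 8163) (.leaf 29472))) (.node (.node (.leaf 4563) (.leaf 23776)) (.node (.leaf 11955) (.leaf 46369))))) (.node (.node (.node (.node (.leaf 849) (.leaf 15185)) (.node (.leaf 7233) (.leaf 27843))) (.node (.node (.leaf 3777) (.leaf 21984)) (.node (.leaf 11011) (.leaf 39282)))) (.node (.node (.node (.leaf 2257) (.leaf 18003)) (.node (.leaf 9249) (.leaf 31843))) (.node (.node (.leaf 5344) (.leaf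 24947)) (.node (.leaf 12915) (.leaf 50689)))))) (.node (.node (.node (.node (.node (.leaf 528) (.leaf 14530)) (.node (.leaf 6768) (.leaf 26880))) (.node (.node (.leaf 3409) (.leaf 20721)) (.node (.leaf 10529) (.leaf 36464)))) (.node (.node (.node (.leaf 1857) (.leaf 17090)) (.node (.leaf 8659) (.leaf 30562))) (.node (.node (.leaf 4944) (.leaf 24259)) (.node (.leaf 12467) (.leaf 48241))))) (.node (.node (.node (.node (.leaf 1170) (.leaf 15824)) (.node (.leaf 7698) (.leaf 28721))) (.node (.node (.leaf 4163) (.leaf 23202)) (.node (.leaf 11488) (.leaf 45091)))) (.node (.node (.node (.leaf 2627) (.leaf 18947)) (.node (.leaf 9616) (.leaf 33329))) (.node (.node (.leaf 5827) (.leaf 25586)) (.node (.leaf 13411) (.leaf 56211))))))))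

def twoPar15 : Janko.Tree (ℕ) :=
  (.node (.node (.node (.node (.node (.node (.node (.leaf 65) (.leaf 13777)) (.node (.leaf 6035) (.leaf 25923))) (.node (.node (.leaf 2832) (.leaf 19297)) (.node (.leaf 9859) (.leaf 33970)))) (.node (.node (.node (.leaf 1345) (.leaf 16162)) (.node (.leaf 7955) (.leaf 29137))) (.node (.node (.leaf 4369) (.leaf 23507)) (.node (.leaf 11731) (.leaf 45746))))) (.node (.node (.node (.node (.leaf 690) (.leaf 14800)) (.node (.leaf 6979) (.leaf 27473))) (.node (.node (.leaf 3571) (.leaf 21217)) (.node (.leaf 10768) (.leaf 37651)))) (.node (.node (.node (.leaf 2018) (.leaf 17506)) (.node (.leaf 8928) (.leaf 31264))) (.node (.node (.leaf 5138) (.leaf 24595)) (.node (.leaf 12672) (.leaf 49408)))))) (.node (.node (.node (.node (.node (.leaf 370) (.leaf 14259)) (.node (.leaf 6499) (.leaf 26547))) (.node (.node (.leaf 3235) (.leaf 20113)) (.node (.leaf 10322) (.leaf 35282)))) (.node (.node (.node (.leaf 1681) (.leaf 16721)) (.node (.leaf 8416) (.leaf 29968))) (.node (.node (.leaf 4769) (.leaf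 23987)) (.node (.leaf 12224) (.leaf 47073))))) (.node (.node (.node (.node (.leaf 1011) (.leaf 15506)) (.node (.leaf 7456) (.leaf 28387))) (.node (.node (.leaf 3984) (.leaf 22641)) (.node (.leaf 11251) (.leaf 41474)))) (.node (.node (.node (.leaf 2435) (.leaf 18514)) (.node (.leaf 9456) (.leaf 32529))) (.node (.node (.leaf 5586) (.leaf 25266)) (.node (.leaf 13169) (.leaf 52545))))))) (.node (.node (.node (.node (.node (.node (.leaf 211) (.leaf 14019)) (.node (.leaf 6243) (.leaf 26179))) (.node (.node (.leaf 3041) (.leaf 19667)) (.node (.leaf 10083) (.leaf 34610)))) (.node (.node (.node (.leaf 1506) (.leaf 16418)) (.node (.leaf 8176) (.leaf 29488))) (.node (.node (.leaf 4576) (.leaf 23777)) (.node (.leaf 11969) (.leaf 46371))))) (.node (.node (.node (.node (.leaf 850) (.leaf 15187)) (.node (.leaf 7234) (.leaf 27906))) (.node (.node (.leaf 3792) (.leaf 22017)) (.node (.leaf 11025) (.leaf 39344)))) (.node (.node (.node (.leaf 2258) (.leaf 18018)) (.node (.leaf 9264) (.leaf 31872))) (.node (.node (.leaf 5345) (.leaf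 24962)) (.node (.leaf 12928) (.leaf 50722)))))) (.node (.node (.node (.node (.node (.leaf 529) (.leaf 14531)) (.node (.leaf 6769) (.leaf 26882))) (.node (.node (.leaf 3410) (.leaf 20723)) (.node (.leaf 10530) (.leaf 36466)))) (.node (.node (.node (.leaf 1858) (.leaf 17091)) (.node (.leaf 8672) (.leaf 30576))) (.node (.node (.leaf 4945) (.leaf 24272)) (.node (.leaf 12480) (.leaf 48290))))) (.node (.node (.node (.node (.leaf 1185) (.leaf 15840)) (.node (.leaf 7699) (.leaf 28722))) (.node (.node (.leaf 4176) (.leaf 23216)) (.node (.leaf 11505) (.leaf 45107)))) (.node (.node (.node (.leaf 2641) (.leaf 18961)) (.node (.leaf 9619) (.leaf 33331))) (.node (.node (.leaf 5841) (.leaf 25587)) (.node (.leaf 13443) (.leaf 56386))))))))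

def twoPar16 : Janko.Tree (ℕ) :=
  (.node (.node (.node (.node (.node (.node (.node (.leaf 66) (.leaf 13779)) (.node (.leaf 6049) (.leaf 25937))) (.node (.node (.leaf 2834) (.leaf 19315)) (.node (.leaf 9873) (.leaf 33986)))) (.node (.node (.node (.leaf 1346) (.leaf 16177)) (.node (.leaf 7969) (.leaf 29154))) (.node (.node (.leaf 4370) (.leaf 23536)) (.node (.leaf 11746) (.leaf 45776))))) (.node (.node (.node (.node (.leaf 691) (.leaf 14801)) (.node (.leaf 6992) (.leaf 27488))) (.node (.node (.leaf 3585) (.leaf 21233)) (.node (.leaf 10769) (.leaf 37696)))) (.node (.node (.node (.leaf 2035) (.leaf 17523)) (.node (.leaf 8930) (.leaf 31267))) (.node (.node (.leaf 5139) (.leaf 24624)) (.node (.leaf 12674) (.leaf 49427)))))) (.node (.node (.node (.node (.node (.leaf 371) (.leaf 14273)) (.node (.leaf 6513) (.leaf 26560))) (.node (.node (.leaf 3248) (.leaf 20115)) (.node (.leaf 10323) (.leaf 35283)))) (.node (.node (.node (.leaf 1683) (.leaf 16754)) (.node (.leaf 8417) (.leaf 29970))) (.node (.node (.leaf 4785) (.leaf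 24003)) (.node (.leaf 12225) (.leaf 47074))))) (.node (.node (.node (.node (.leaf 1025) (.leaf 15552)) (.node (.leaf 7472) (.leaf 28402))) (.node (.node (.leaf 3986) (.leaf 22642)) (.node (.leaf 11264) (.leaf 41488)))) (.node (.node (.node (.leaf 2448) (.leaf 18545)) (.node (.leaf 9457) (.leaf 32544))) (.node (.node (.leaf 5587) (.leaf 25312)) (.node (.leaf 13171) (.leaf 52881))))))) (.node (.node (.node (.node (.node (.node (.leaf 225) (.leaf 14032)) (.node (.leaf 6273) (.leaf 26195))) (.node (.node (.leaf 3043) (.leaf 19681)) (.node (.leaf 10098) (.leaf 34627)))) (.node (.node (.node (.leaf 1507) (.leaf 16419)) (.node (.leaf 8177) (.leaf 29491))) (.node (.node (.leaf 4577) (.leaf 23778)) (.node (.leaf 11971) (.leaf 46400))))) (.node (.node (.node (.node (.leaf 851) (.leaf 15201)) (.node (.leaf 7235) (.leaf 27907))) (.node (.node (.leaf 3794) (.leaf 22018)) (.node (.leaf 11027) (.leaf 39442)))) (.node (.node (.node (.leaf 2259) (.leaf 18019)) (.node (.leaf 9266) (.leaf 31921))) (.node (.node (.leaf 5346) (.leaf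 24963)) (.node (.leaf 12930) (.leaf 50738)))))) (.node (.node (.node (.node (.node (.leaf 530) (.leaf 14545)) (.node (.leaf 6770) (.leaf 26896))) (.node (.node (.leaf 3411) (.leaf 20739)) (.node (.leaf 10545) (.leaf 36515)))) (.node (.node (.node (.leaf 1859) (.leaf 17104)) (.node (.leaf 8675) (.leaf 30577))) (.node (.node (.leaf 4947) (.leaf 24273)) (.node (.leaf 12482) (.leaf 48304))))) (.node (.node (.node (.node (.leaf 1186) (.leaf 15842)) (.node (.leaf 7712) (.leaf 28723))) (.node (.node (.leaf 4177) (.leaf 23218)) (.node (.leaf 11507) (.leaf 45121)))) (.node (.node (.node (.leaf 2643) (.leaf 18963)) (.node (.leaf 9633) (.leaf 33345))) (.node (.node (.leaf 5842) (.leaf 25601)) (.node (.leaf 13456) (.leaf 56419))))))))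

def twoPar17 : Janko.Tree (ℕ) :=
  (.node (.node (.node (.node (.node (.node (.node (.leaf 67) (.leaf 13792)) (.node (.leaf 6050) (.leaf 25938))) (.node (.node (.leaf 2835) (.leaf 19330)) (.node (.leaf 9875) (.leaf 33987)))) (.node (.node (.node (.leaf 1347) (.leaf 16193)) (.node (.leaf 7971) (.leaf 29169))) (.node (.node (.leaf 4371) (.leaf 23539)) (.node (.leaf 11760) (.leaf 45794))))) (.node (.node (.node (.node (.leaf 705) (.leaf 14803)) (.node (.leaf 6994) (.leaf 27504))) (.node (.node (.leaf 3586) (.leaf 21248)) (.node (.leaf 10785) (.leaf 37777)))) (.node (.node (.node (.leaf 2049) (.leaf 17536)) (.node (.leaf 8931) (.leaf 31281))) (.node (.node (.leaf 5153) (.leaf 24625)) (.node (.leaf 12675) (.leaf 49458)))))) (.node (.node (.node (.node (.node (.leaf 385) (.leaf 14289)) (.node (.leaf 6531) (.leaf 26561))) (.node (.node (.leaf 3249) (.leaf 20128)) (.node (.leaf 10336) (.leaf 35331)))) (.node (.node (.node (.leaf 1696) (.leaf 16755)) (.node (.leaf 8418) (.leaf 29985))) (.node (.node (.leaf 4787) (.leaf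 24016)) (.node (.leaf 12227) (.leaf 47152))))) (.node (.node (.node (.node (.leaf 1026) (.leaf 15554)) (.node (.leaf 7475) (.leaf 28403))) (.node (.node (.leaf 3987) (.leaf 22689)) (.node (.leaf 11266) (.leaf 41489)))) (.node (.node (.node (.leaf 2449) (.leaf 18563)) (.node (.leaf 9458) (.leaf 32546))) (.node (.node (.leaf 5602) (.leaf 25315)) (.node (.leaf 13186) (.leaf 52896))))))) (.node (.node (.node (.node (.node (.node (.leaf 226) (.leaf 14049)) (.node (.leaf 6275) (.leaf 26208))) (.node (.node (.leaf 3056) (.leaf 19683)) (.node (.leaf 10099) (.leaf 34657)))) (.node (.node (.node (.leaf 1520) (.leaf 16432)) (.node (.leaf 8178) (.leaf 29553))) (.node (.node (.leaf 4578) (.leaf 23779)) (.node (.leaf 12000) (.leaf 46403))))) (.node (.node (.node (.node (.leaf 865) (.leaf 15203)) (.node (.leaf 7249) (.leaf 27920))) (.node (.node (.leaf 3795) (.leaf 22049)) (.node (.leaf 11040) (.leaf 39490)))) (.node (.node (.node (.leaf 2272) (.leaf 18035)) (.node (.leaf 9267) (.leaf 31922))) (.node (.node (.leaf 5347) (.leaf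 24976)) (.node (.leaf 12931) (.leaf 50755)))))) (.node (.node (.node (.node (.node (.leaf 531) (.leaf 14547)) (.node (.leaf 6785) (.leaf 26899))) (.node (.node (.leaf 3426) (.leaf 20753)) (.node (.leaf 10547) (.leaf 36563)))) (.node (.node (.node (.leaf 1873) (.leaf 17106)) (.node (.leaf 8689) (.leaf 30609))) (.node (.node (.leaf 4961) (.leaf 24274)) (.node (.leaf 12483) (.leaf 48305))))) (.node (.node (.node (.node (.leaf 1187) (.leaf 15843)) (.node (.leaf 7713) (.leaf 28738))) (.node (.node (.leaf 4178) (.leaf 23232)) (.node (.leaf 11520) (.leaf 45154)))) (.node (.node (.node (.leaf 2657) (.leaf 18977)) (.node (.leaf 9634) (.leaf 33378))) (.node (.node (.leaf 5843) (.leaf 25619)) (.node (.leaf 13458) (.leaf 56784))))))))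

def twoPar18 : Janko.Tree (ℕ) :=
  (.node (.node (.node (.node (.node (.node (.node (.leaf 80) (.leaf 13794)) (.node (.leaf 6051) (.leaf 25939))) (.node (.node (.leaf 2849) (.leaf 19345)) (.node (.leaf 9888) (.leaf 34003)))) (.node (.node (.node (.leaf 1360) (.leaf 16195)) (.node (.leaf 7985) (.leaf 29171))) (.node (.node (.leaf 4385) (.leaf 23552)) (.node (.leaf 11762) (.leaf 45824))))) (.node (.node (.node (.node (.leaf 706) (.leaf 14818)) (.node (.leaf 6995) (.leaf 27505))) (.node (.node (.leaf 3587) (.leaf 21265)) (.node (.leaf 10787) (.leaf 37795)))) (.node (.node (.node (.leaf 2051) (.leaf 17555)) (.node (.leaf 8947) (.leaf 31313))) (.node (.node (.leaf 5154) (.leaf 24640)) (.node (.leaf 12688) (.leaf 49505)))))) (.node (.node (.node (.node (.node (.leaf 386) (.leaf 14290)) (.node (.leaf 6544) (.leaf 26563))) (.node (.node (.leaf 3250) (.leaf 20129)) (.node (.leaf 10339) (.leaf 35345)))) (.node (.node (.node (.leaf 1697) (.leaf 16769)) (.node (.leaf 8435) (.leaf 30019))) (.node (.node (.leaf 4800) (.leaf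 24032)) (.node (.leaf 12240) (.leaf 47155))))) (.node (.node (.node (.node (.leaf 1027) (.leaf 15555)) (.node (.leaf 7491) (.leaf 28417))) (.node (.node (.leaf 4001) (.leaf 22723)) (.node (.leaf 11280) (.leaf 41587)))) (.node (.node (.node (.leaf 2451) (.leaf 18577)) (.node (.leaf 9473) (.leaf 32563))) (.node (.node (.leaf 5603) (.leaf 25329)) (.node (.leaf 13187) (.leaf 52931))))))) (.node (.node (.node (.node (.node (.node (.leaf 227) (.leaf 14050)) (.node (.leaf 6288) (.leaf 26210))) (.node (.node (.leaf 3057) (.leaf 19697)) (.node (.leaf 10112) (.leaf 34659)))) (.node (.node (.node (.leaf 1523) (.leaf 16434)) (.node (.leaf 8208) (.leaf 29555))) (.node (.node (.leaf 4579) (.leaf 23793)) (.node (.leaf 12001) (.leaf 46416))))) (.node (.node (.node (.node (.leaf 866) (.leaf 15216)) (.node (.leaf 7251) (.leaf 27954))) (.node (.node (.leaf 3809) (.leaf 22050)) (.node (.leaf 11042) (.leaf 39506)))) (.node (.node (.node (.leaf 2274) (.leaf 18048)) (.node (.leaf 9281) (.leaf 31939))) (.node (.node (.leaf 5363) (.leaf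 24992)) (.node (.leaf 12945) (.leaf 50880)))))) (.node (.node (.node (.node (.node (.leaf 545) (.leaf 14577)) (.node (.leaf 6787) (.leaf 26913))) (.node (.node (.leaf 3427) (.leaf 20787)) (.node (.leaf 10560) (.leaf 36577)))) (.node (.node (.node (.leaf 1874) (.leaf 17121)) (.node (.leaf 8691) (.leaf 30625))) (.node (.node (.leaf 4963) (.leaf 24275)) (.node (.leaf 12496) (.leaf 48322))))) (.node (.node (.node (.node (.leaf 1200) (.leaf 15859)) (.node (.leaf 7715) (.leaf 28754))) (.node (.node (.leaf 4193) (.leaf 23235)) (.node (.leaf 11537) (.leaf 45235)))) (.node (.node (.node (.leaf 2658) (.leaf 18978)) (.node (.leaf 9635) (.leaf 33411))) (.node (.node (.leaf 5856) (.leaf 25633)) (.node (.leaf 13459) (.leaf 56979))))))))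

def twoPar19 : Janko.Tree (ℕ) :=
  (.node (.node (.node (.node (.node (.node (.node (.leaf 82) (.leaf 13809)) (.node (.leaf 6064) (.leaf 25953))) (.node (.node (.leaf 2865) (.leaf 19379)) (.node (.leaf 9889) (.leaf 34016)))) (.node (.node (.node (.leaf 1361) (.leaf 16208)) (.node (.leaf 8001) (.leaf 29184))) (.node (.node (.leaf 4386) (.leaf 23553)) (.node (.leaf 11763) (.leaf 45858))))) (.node (.node (.node (.node (.leaf 707) (.leaf 14833)) (.node (.leaf 7011) (.leaf 27506))) (.node (.node (.leaf 3600) (.leaf 21267)) (.node (.leaf 10800) (.leaf 37825)))) (.node (.node (.node (.leaf 2064) (.leaf 17616)) (.node (.leaf 8960) (.leaf 31377))) (.node (.node (.leaf 5155) (.leaf 24642)) (.node (.leaf 12689) (.leaf 49521)))))) (.node (.node (.node (.node (.node (.leaf 387) (.leaf 14305)) (.node (.leaf 6547) (.leaf 26578))) (.node (.node (.leaf 3251) (.leaf 20130)) (.node (.leaf 10352) (.leaf 35347)))) (.node (.node (.node (.leaf 1698) (.leaf 16787)) (.node (.leaf 8449) (.leaf 30051))) (.node (.node (.leaf 4802) (.leaf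 24034)) (.node (.leaf 12241) (.leaf 47168))))) (.node (.node (.node (.node (.leaf 1040) (.leaf 15569)) (.node (.leaf 7507) (.leaf 28418))) (.node (.node (.leaf 4003) (.leaf 22737)) (.node (.leaf 11281) (.leaf 41712)))) (.node (.node (.node (.leaf 2465) (.leaf 18579)) (.node (.leaf 9474) (.leaf 32608))) (.node (.node (.leaf 5616) (.leaf 25345)) (.node (.leaf 13201) (.leaf 52960))))))) (.node (.node (.node (.node (.node (.node (.leaf 240) (.leaf 14051)) (.node (.leaf 6289) (.leaf 26211))) (.node (.node (.leaf 3058) (.leaf 19699)) (.node (.leaf 10113) (.leaf 34673)))) (.node (.node (.node (.leaf 1536) (.leaf 16435)) (.node (.leaf 8209) (.leaf 29587))) (.node (.node (.leaf 4593) (.leaf 23794)) (.node (.leaf 12017) (.leaf 46417))))) (.node (.node (.node (.node (.leaf 867) (.leaf 15218)) (.node (.leaf 7267) (.leaf 27971))) (.node (.node (.leaf 3811) (.leaf 22066)) (.node (.leaf 11043) (.leaf 39521)))) (.node (.node (.node (.leaf 2288) (.leaf 18051)) (.node (.leaf 9283) (.leaf 31952))) (.node (.node (.leaf 5377) (.leaf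 24993)) (.node (.leaf 12963) (.leaf 50962)))))) (.node (.node (.node (.node (.node (.leaf 546) (.leaf 14593)) (.node (.leaf 6800) (.leaf 26931))) (.node (.node (.leaf 3440) (.leaf 20801)) (.node (.leaf 10561) (.leaf 36579)))) (.node (.node (.node (.leaf 1875) (.leaf 17139)) (.node (.leaf 8706) (.leaf 30627))) (.node (.node (.leaf 4977) (.leaf 24291)) (.node (.leaf 12497) (.leaf 48338))))) (.node (.node (.node (.node (.leaf 1201) (.leaf 15872)) (.node (.leaf 7731) (.leaf 28768))) (.node (.node (.leaf 4195) (.leaf 23281)) (.node (.leaf 11538) (.leaf 45250)))) (.node (.node (.node (.leaf 2659) (.leaf 18992)) (.node (.leaf 9648) (.leaf 33427))) (.node (.node (.leaf 5858) (.leaf 25650)) (.node (.leaf 13472) (.leaf 56993))))))))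

def twoPar20 : Janko.Tree (ℕ) :=
  (.node (.node (.node (.node (.node (.node (.node (.leaf 83) (.leaf 13811)) (.node (.leaf 6066) (.leaf 25954))) (.node (.node (.leaf 2866) (.leaf 19394)) (.node (.leaf 9890) (.leaf 34083)))) (.node (.node (.node (.leaf 1363) (.leaf 16225)) (.node (.leaf 8003) (.leaf 29185))) (.node (.node (.leaf 4387) (.leaf 23555)) (.node (.leaf 11776) (.leaf 45873))))) (.node (.node (.node (.node (.leaf 720) (.leaf 14835)) (.node (.leaf 7026) (.leaf 27521))) (.node (.node (.leaf 3602) (.leaf 21329)) (.node (.leaf 10802) (.leaf 37856)))) (.node (.node (.node (.leaf 2065) (.leaf 17618)) (.node (.leaf 8961) (.leaf 31395))) (.node (.node (.leaf 5168) (.leaf 24657)) (.node (.leaf 12691) (.leaf 49536)))))) (.node (.node (.node (.node (.node (.leaf 400) (.leaf 14306)) (.node (.leaf 6561) (.leaf 26579))) (.node (.node (.leaf 3265) (.leaf 20161)) (.node (.leaf 10353) (.leaf 35361)))) (.node (.node (.node (.leaf 1714) (.leaf 16802)) (.node (.leaf 8451) (.leaf 30067))) (.node (.node (.leaf 4803) (.leaf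 24049)) (.node (.leaf 12256) (.leaf 47184))))) (.node (.node (.node (.node (.leaf 1042) (.leaf 15571)) (.node (.leaf 7520) (.leaf 28435))) (.node (.node (.leaf 4017) (.leaf 22770)) (.node (.leaf 11283) (.leaf 41857)))) (.node (.node (.node (.leaf 2467) (.leaf 18593)) (.node (.leaf 9475) (.leaf 32656))) (.node (.node (.leaf 5619) (.leaf 25347)) (.node (.leaf 13203) (.leaf 53041))))))) (.node (.node (.node (.node (.node (.node (.leaf 242) (.leaf 14066)) (.node (.leaf 6290) (.leaf 26226))) (.node (.node (.leaf 3059) (.leaf 19715)) (.node (.leaf 10115) (.leaf 34704)))) (.node (.node (.node (.leaf 1537) (.leaf 16465)) (.node (.leaf 8210) (.leaf 29617))) (.node (.node (.leaf 4595) (.leaf 23795)) (.node (.leaf 12019) (.leaf 46418))))) (.node (.node (.node (.node (.leaf 880) (.leaf 15219)) (.node (.leaf 7280) (.leaf 28000))) (.node (.node (.leaf 3827) (.leaf 22080)) (.node (.leaf 11057) (.leaf 39729)))) (.node (.node (.node (.leaf 2289) (.leaf 18065)) (.node (.leaf 9296) (.leaf 32000))) (.node (.node (.leaf 5393) (.leaf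 25011)) (.node (.leaf 12976) (.leaf 50994)))))) (.node (.node (.node (.node (.node (.leaf 547) (.leaf 14594)) (.node (.leaf 6801) (.leaf 26961))) (.node (.node (.leaf 3442) (.leaf 20816)) (.node (.leaf 10563) (.leaf 36688)))) (.node (.node (.node (.leaf 1888) (.leaf 17155)) (.node (.leaf 8707) (.leaf 30641))) (.node (.node (.leaf 4993) (.leaf 24304)) (.node (.leaf 12498) (.leaf 48368))))) (.node (.node (.node (.node (.leaf 1203) (.leaf 15873)) (.node (.leaf 7747) (.leaf 28769))) (.node (.node (.leaf 4208) (.leaf 23282)) (.node (.leaf 11552) (.leaf 45264)))) (.node (.node (.node (.leaf 2672) (.leaf 19008)) (.node (.leaf 9650) (.leaf 33440))) (.node (.node (.leaf 5859) (.leaf 25665)) (.node (.leaf 13474) (.leaf 57155))))))))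

def twoPar21 : Janko.Tree (ℕ) :=
  (.node (.node (.node (.node (.node (.node (.node (.leaf 96) (.leaf 13825)) (.node (.leaf 6067) (.leaf 25955))) (.node (.node (.leaf 2881) (.leaf 19411)) (.node (.leaf 9891) (.leaf 34096)))) (.node (.node (.node (.leaf 1376) (.leaf 16227)) (.node (.leaf 8017) (.leaf 29187))) (.node (.node (.leaf 4400) (.leaf 23569)) (.node (.leaf 11778) (.leaf 45905))))) (.node (.node (.node (.node (.leaf 722) (.leaf 14850)) (.node (.leaf 7027) (.leaf 27522))) (.node (.node (.leaf 3603) (.leaf 21347)) (.node (.leaf 10816) (.leaf 37859)))) (.node (.node (.node (.leaf 2066) (.leaf 17649)) (.node (.leaf 8962) (.leaf 31408))) (.node (.node (.leaf 5169) (.leaf 24674)) (.node (.leaf 12704) (.leaf 49554)))))) (.node (.node (.node (.node (.node (.leaf 402) (.leaf 14307)) (.node (.leaf 6563) (.leaf 26593))) (.node (.node (.leaf 3266) (.leaf 20163)) (.node (.leaf 10355) (.leaf 35490)))) (.node (.node (.node (.leaf 1715) (.leaf 16819)) (.node (.leaf 8464) (.leaf 30097))) (.node (.node (.leaf 4816) (.leaf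 24051)) (.node (.leaf 12258) (.leaf 47186))))) (.node (.node (.node (.node (.leaf 1043) (.leaf 15584)) (.node (.leaf 7521) (.leaf 28451))) (.node (.node (.leaf 4018) (.leaf 22784)) (.node (.leaf 11296) (.leaf 41952)))) (.node (.node (.node (.leaf 2480) (.leaf 18595)) (.node (.leaf 9488) (.leaf 32672))) (.node (.node (.leaf 5632) (.leaf 25360)) (.node (.leaf 13217) (.leaf 53088))))))) (.node (.node (.node (.node (.node (.node (.leaf 243) (.leaf 14067)) (.node (.leaf 6291) (.leaf 26227))) (.node (.node (.leaf 3073) (.leaf 19728)) (.node (.leaf 10147) (.leaf 34707)))) (.node (.node (.node (.leaf 1538) (.leaf 16466)) (.node (.leaf 8211) (.leaf 29633))) (.node (.node (.leaf 4608) (.leaf 23808)) (.node (.leaf 12032) (.leaf 46434))))) (.node (.node (.node (.node (.leaf 882) (.leaf 15234)) (.node (.leaf 7281) (.leaf 28002))) (.node (.node (.leaf 3841) (.leaf 22082)) (.node (.leaf 11058) (.leaf 39730)))) (.node (.node (.node (.leaf 2291) (.leaf 18067)) (.node (.leaf 9297) (.leaf 32002))) (.node (.node (.leaf 5408) (.leaf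 25025)) (.node (.leaf 12977) (.leaf 51008)))))) (.node (.node (.node (.node (.node (.leaf 560) (.leaf 14595)) (.node (.leaf 6802) (.leaf 26963))) (.node (.node (.leaf 3443) (.leaf 20819)) (.node (.leaf 10576) (.leaf 36737)))) (.node (.node (.node (.leaf 1889) (.leaf 17168)) (.node (.leaf 8720) (.leaf 30656))) (.node (.node (.leaf 4995) (.leaf 24306)) (.node (.leaf 12499) (.leaf 48419))))) (.node (.node (.node (.node (.leaf 1216) (.leaf 15889)) (.node (.leaf 7761) (.leaf 28816))) (.node (.node (.leaf 4224) (.leaf 23299)) (.node (.leaf 11554) (.leaf 45267)))) (.node (.node (.node (.leaf 2675) (.leaf 19010)) (.node (.leaf 9651) (.leaf 33456))) (.node (.node (.leaf 5873) (.leaf 25667)) (.node (.leaf 13475) (.leaf 57553))))))))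

def twoPar22 : Janko.Tree (ℕ) :=
  (.node (.node (.node (.node (.node (.node (.node (.leaf 97) (.leaf 13826)) (.node (.leaf 6081) (.leaf 25968))) (.node (.node (.leaf 2883) (.leaf 19425)) (.node (.leaf 9906) (.leaf 34099)))) (.node (.node (.node (.leaf 1377) (.leaf 16240)) (.node (.leaf 8019) (.leaf 29200))) (.node (.node (.leaf 4403) (.leaf 23571)) (.node (.leaf 11779) (.leaf 45906))))) (.node (.node (.node (.node (.leaf 723) (.leaf 14851)) (.node (.leaf 7043) (.leaf 27523))) (.node (.node (.leaf 3616) (.leaf 21363)) (.node (.leaf 10817) (.leaf 37874)))) (.node (.node (.node (.leaf 2067) (.leaf 17697)) (.node (.leaf 8963) (.leaf 31410))) (.node (.node (.leaf 5171) (.leaf 24689)) (.node (.leaf 12707) (.leaf 49571)))))) (.node (.node (.node (.node (.node (.leaf 403) (.leaf 14320)) (.node (.leaf 6577) (.leaf 26595))) (.node (.node (.leaf 3267) (.leaf 20179)) (.node (.leaf 10368) (.leaf 35568)))) (.node (.node (.node (.leaf 1729) (.leaf 16834)) (.node (.leaf 8465) (.leaf 30115))) (.node (.node (.leaf 4817) (.leaf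 24064)) (.node (.leaf 12259) (.leaf 47218))))) (.node (.node (.node (.node (.leaf 1056) (.leaf 15586)) (.node (.leaf 7522) (.leaf 28465))) (.node (.node (.leaf 4019) (.leaf 22785)) (.node (.leaf 11299) (.leaf 42034)))) (.node (.node (.node (.leaf 2483) (.leaf 18608)) (.node (.leaf 9490) (.leaf 32675))) (.node (.node (.leaf 5633) (.leaf 25362)) (.node (.leaf 13219) (.leaf 53186))))))) (.node (.node (.node (.node (.node (.node (.leaf 256) (.leaf 14082)) (.node (.leaf 6305) (.leaf 26240))) (.node (.node (.leaf 3075) (.leaf 19730)) (.node (.leaf 10160) (.leaf 34720)))) (.node (.node (.node (.leaf 1539) (.leaf 16496)) (.node (.leaf 8226) (.leaf 29634))) (.node (.node (.leaf 4610) (.leaf 23810)) (.node (.leaf 12034) (.leaf 46513))))) (.node (.node (.node (.node (.leaf 883) (.leaf 15251)) (.node (.leaf 7282) (.leaf 28017))) (.node (.node (.leaf 3843) (.leaf 22096)) (.node (.leaf 11073) (.leaf 39826)))) (.node (.node (.node (.leaf 2304) (.leaf 18096)) (.node (.leaf 9298) (.leaf 32017))) (.node (.node (.leaf 5410) (.leaf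 25027)) (.node (.leaf 12978) (.leaf 51011)))))) (.node (.node (.node (.node (.node (.leaf 562) (.leaf 14608)) (.node (.leaf 6803) (.leaf 27009))) (.node (.node (.leaf 3456) (.leaf 20883)) (.node (.leaf 10577) (.leaf 36769)))) (.node (.node (.node (.leaf 1891) (.leaf 17169)) (.node (.leaf 8723) (.leaf 30674))) (.node (.node (.leaf 5009) (.leaf 24307)) (.node (.leaf 12513) (.leaf 48435))))) (.node (.node (.node (.node (.leaf 1217) (.leaf 15904)) (.node (.leaf 7777) (.leaf 28817))) (.node (.node (.leaf 4225) (.leaf 23312)) (.node (.leaf 11555) (.leaf 45281)))) (.node (.node (.node (.leaf 2688) (.leaf 19025)) (.node (.leaf 9664) (.leaf 33457))) (.node (.node (.leaf 5875) (.leaf 25681)) (.node (.leaf 13507) (.leaf 57651))))))))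

def twoPar23 : Janko.Tree (ℕ) :=
  (.node (.node (.node (.node (.node (.node (.node (.leaf 99) (.leaf 13827)) (.node (.leaf 6097) (.leaf 25970))) (.node (.node (.leaf 2896) (.leaf 19441)) (.node (.leaf 9907) (.leaf 34113)))) (.node (.node (.node (.leaf 1378) (.leaf 16242)) (.node (.leaf 8035) (.leaf 29203))) (.node (.node (.leaf 4416) (.leaf 23585)) (.node (.leaf 11793) (.leaf 45937))))) (.node (.node (.node (.node (.leaf 736) (.leaf 14883)) (.node (.leaf 7056) (.leaf 27552))) (.node (.node (.leaf 3617) (.leaf 21425)) (.node (.leaf 10819) (.leaf 38016)))) (.node (.node (.node (.leaf 2083) (.leaf 17699)) (.node (.leaf 8979) (.leaf 31425))) (.node (.node (.leaf 5184) (.leaf 24691)) (.node (.leaf 12720) (.leaf 49603)))))) (.node (.node (.node (.node (.node (.leaf 416) (.leaf 14321)) (.node (.leaf 6579) (.leaf 26609))) (.node (.node (.leaf 3280) (.leaf 20208)) (.node (.leaf 10369) (.leaf 35602)))) (.node (.node (.node (.leaf 1731) (.leaf 16835)) (.node (.leaf 8483) (.leaf 30131))) (.node (.node (.leaf 4819) (.leaf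 24080)) (.node (.leaf 12273) (.leaf 47235))))) (.node (.node (.node (.node (.leaf 1057) (.leaf 15601)) (.node (.leaf 7523) (.leaf 28467))) (.node (.node (.leaf 4033) (.leaf 22787)) (.node (.leaf 11312) (.leaf 42051)))) (.node (.node (.node (.leaf 2496) (.leaf 18609)) (.node (.leaf 9491) (.leaf 32689))) (.node (.node (.leaf 5649) (.leaf 25377)) (.node (.leaf 13234) (.leaf 53219))))))) (.node (.node (.node (.node (.node (.node (.leaf 257) (.leaf 14083)) (.node (.leaf 6323) (.leaf 26243))) (.node (.node (.leaf 3090) (.leaf 19731)) (.node (.leaf 10163) (.leaf 34722)))) (.node (.node (.node (.leaf 1555) (.leaf 16497)) (.node (.leaf 8227) (.leaf 29650))) (.node (.node (.leaf 4611) (.leaf 23824)) (.node (.leaf 12048) (.leaf 46563))))) (.node (.node (.node (.node (.leaf 896) (.leaf 15264)) (.node (.leaf 7297) (.leaf 28019))) (.node (.node (.leaf 3856) (.leaf 22097)) (.node (.leaf 11091) (.leaf 39905)))) (.node (.node (.node (.leaf 2305) (.leaf 18098)) (.node (.leaf 9299) (.leaf 32050))) (.node (.node (.leaf 5425) (.leaf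 25042)) (.node (.leaf 12995) (.leaf 51266)))))) (.node (.node (.node (.node (.node (.leaf 563) (.leaf 14611)) (.node (.leaf 6818) (.leaf 27043))) (.node (.node (.leaf 3457) (.leaf 20897)) (.node (.leaf 10578) (.leaf 36801)))) (.node (.node (.node (.leaf 1904) (.leaf 17170)) (.node (.leaf 8736) (.leaf 30691))) (.node (.node (.leaf 5011) (.leaf 24320)) (.node (.leaf 12514) (.leaf 48448))))) (.node (.node (.node (.node (.leaf 1218) (.leaf 15906)) (.node (.leaf 7778) (.leaf 28818))) (.node (.node (.leaf 4226) (.leaf 23313)) (.node (.leaf 11569) (.leaf 45313)))) (.node (.node (.node (.leaf 2689) (.leaf 19027)) (.node (.leaf 9665) (.leaf 33473))) (.node (.node (.leaf 5889) (.leaf 25698)) (.node (.leaf 13520) (.leaf 59120))))))))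

def twoPar24 : Janko.Tree (ℕ) :=
  (.node (.node (.node (.node (.node (.node (.node (.leaf 112) (.leaf 13840)) (.node (.leaf 6098) (.leaf 25985))) (.node (.node (.leaf 2897) (.leaf 19459)) (.node (.leaf 9920) (.leaf 34128)))) (.node (.node (.node (.leaf 1379) (.leaf 16243)) (.node (.leaf 8048) (.leaf 29217))) (.node (.node (.leaf 4417) (.leaf 23586)) (.node (.leaf 11809) (.leaf 45954))))) (.node (.node (.node (.node (.leaf 737) (.leaf 14897)) (.node (.leaf 7073) (.leaf 27553))) (.node (.node (.leaf 3618) (.leaf 21442)) (.node (.leaf 10832) (.leaf 38179)))) (.node (.node (.node (.leaf 2097) (.leaf 17713)) (.node (.leaf 9011) (.leaf 31457))) (.node (.node (.leaf 5187) (.leaf 24707)) (.node (.leaf 12723) (.leaf 49635)))))) (.node (.node (.node (.node (.node (.leaf 417) (.leaf 14323)) (.node (.leaf 6593) (.leaf 26611))) (.node (.node (.leaf 3282) (.leaf 20209)) (.node (.leaf 10370) (.leaf 35633)))) (.node (.node (.node (.leaf 1744) (.leaf 16848)) (.node (.leaf 8496) (.leaf 30160))) (.node (.node (.leaf 4832) (.leaf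 24083)) (.node (.leaf 12289) (.leaf 47266))))) (.node (.node (.node (.node (.leaf 1058) (.leaf 15603)) (.node (.leaf 7537) (.leaf 28482))) (.node (.node (.leaf 4034) (.leaf 22816)) (.node (.leaf 11314) (.leaf 42112)))) (.node (.node (.node (.leaf 2497) (.leaf 18611)) (.node (.leaf 9504) (.leaf 32739))) (.node (.node (.leaf 5651) (.leaf 25392)) (.node (.leaf 13249) (.leaf 53458))))))) (.node (.node (.node (.node (.node (.node (.leaf 259) (.leaf 14099)) (.node (.leaf 6336) (.leaf 26257))) (.node (.node (.leaf 3091) (.leaf 19747)) (.node (.leaf 10176) (.leaf 34737)))) (.node (.node (.node (.leaf 1568) (.leaf 16498)) (.node (.leaf 8240) (.leaf 29664))) (.node (.node (.leaf 4625) (.leaf 23825)) (.node (.leaf 12051) (.leaf 46594))))) (.node (.node (.node (.node (.leaf 897) (.leaf 15265)) (.node (.leaf 7299) (.leaf 28049))) (.node (.node (.leaf 3857) (.leaf 22099)) (.node (.leaf 11104) (.leaf 40049)))) (.node (.node (.node (.leaf 2306) (.leaf 18115)) (.node (.leaf 9313) (.leaf 32051))) (.node (.node (.leaf 5427) (.leaf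 25058)) (.node (.leaf 13010) (.leaf 51328)))))) (.node (.node (.node (.node (.node (.leaf 576) (.leaf 14624)) (.node (.leaf 6819) (.leaf 27056))) (.node (.node (.leaf 3459) (.leaf 20913)) (.node (.leaf 10579) (.leaf 36819)))) (.node (.node (.node (.leaf 1905) (.leaf 17171)) (.node (.leaf 8737) (.leaf 30723))) (.node (.node (.leaf 5024) (.leaf 24323)) (.node (.leaf 12515) (.leaf 48450))))) (.node (.node (.node (.node (.leaf 1219) (.leaf 15920)) (.node (.leaf 7792) (.leaf 28833))) (.node (.node (.leaf 4227) (.leaf 23314)) (.node (.leaf 11571) (.leaf 45315)))) (.node (.node (.node (.leaf 2691) (.leaf 19040)) (.node (.leaf 9666) (.leaf 33489))) (.node (.node (.leaf 5890) (.leaf 25699)) (.node (.leaf 13522) (.leaf 60003))))))))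

def twoPar25 : Janko.Tree (ℕ) :=
  (.node (.node (.node (.node (.node (.node (.node (.leaf 113) (.leaf 13843)) (.node (.leaf 6113) (.leaf 25987))) (.node (.node (.leaf 2899) (.leaf 19475)) (.node (.leaf 9921) (.leaf 34145)))) (.node (.node (.node (.leaf 1393) (.leaf 16257)) (.node (.leaf 8050) (.leaf 29234))) (.node (.node (.leaf 4418) (.leaf 23587)) (.node (.leaf 11811) (.leaf 45970))))) (.node (.node (.node (.node (.leaf 739) (.leaf 14898)) (.node (.leaf 7075) (.leaf 27555))) (.node (.node (.leaf 3619) (.leaf 21456)) (.node (.leaf 10833) (.leaf 38257)))) (.node (.node (.node (.leaf 2113) (.leaf 17731)) (.node (.leaf 9024) (.leaf 31475))) (.node (.node (.leaf 5201) (.leaf 24721)) (.node (.leaf 12738) (.leaf 49680)))))) (.node (.node (.node (.node (.node (.leaf 419) (.leaf 14339)) (.node (.leaf 6595) (.leaf 26626))) (.node (.node (.leaf 3283) (.leaf 20210)) (.node (.leaf 10371) (.leaf 35665)))) (.node (.node (.node (.leaf 1745) (.leaf 16849)) (.node (.leaf 8498) (.leaf 30209))) (.node (.node (.leaf 4834) (.leaf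 24097)) (.node (.leaf 12291) (.leaf 47267))))) (.node (.node (.node (.node (.leaf 1059) (.leaf 15617)) (.node (.leaf 7539) (.leaf 28499))) (.node (.node (.leaf 4035) (.leaf 22834)) (.node (.leaf 11315) (.leaf 42144)))) (.node (.node (.node (.leaf 2499) (.leaf 18624)) (.node (.leaf 9505) (.leaf 32754))) (.node (.node (.leaf 5666) (.leaf 25394)) (.node (.leaf 13251) (.leaf 53472))))))) (.node (.node (.node (.node (.node (.node (.leaf 272) (.leaf 14112)) (.node (.leaf 6337) (.leaf 26258))) (.node (.node (.leaf 3104) (.leaf 19760)) (.node (.leaf 10177) (.leaf 34739)))) (.node (.node (.node (.leaf 1570) (.leaf 16499)) (.node (.leaf 8242) (.leaf 29665))) (.node (.node (.leaf 4627) (.leaf 23827)) (.node (.leaf 12064) (.leaf 46611))))) (.node (.node (.node (.node (.leaf 898) (.leaf 15266)) (.node (.leaf 7314) (.leaf 28064))) (.node (.node (.leaf 3858) (.leaf 22112)) (.node (.leaf 11105) (.leaf 40083)))) (.node (.node (.node (.leaf 2307) (.leaf 18129)) (.node (.leaf 9314) (.leaf 32083))) (.node (.node (.leaf 5441) (.leaf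 25073)) (.node (.leaf 13011) (.leaf 51426)))))) (.node (.node (.node (.node (.node (.leaf 577) (.leaf 14625)) (.node (.leaf 6832) (.leaf 27057))) (.node (.node (.leaf 3472) (.leaf 20914)) (.node (.leaf 10593) (.leaf 36833)))) (.node (.node (.node (.leaf 1906) (.leaf 17232)) (.node (.leaf 8739) (.leaf 30755))) (.node (.node (.leaf 5025) (.leaf 24337)) (.node (.leaf 12528) (.leaf 48499))))) (.node (.node (.node (.node (.leaf 1233) (.leaf 15938)) (.node (.leaf 7793) (.leaf 28834))) (.node (.node (.leaf 4241) (.leaf 23331)) (.node (.leaf 11584) (.leaf 45329)))) (.node (.node (.node (.leaf 2704) (.leaf 19057)) (.node (.leaf 9681) (.leaf 33507))) (.node (.node (.leaf 5891) (.leaf 25713)) (.node (.leaf 13523) (.leaf 61219))))))))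

def twoPar26 : Janko.Tree (ℕ) :=
  (.node (.node (.node (.node (.node (.node (.node (.leaf 114) (.leaf 13859)) (.node (.leaf 6115) (.leaf 26000))) (.node (.node (.leaf 2912) (.leaf 19489)) (.node (.leaf 9922) (.leaf 34163)))) (.node (.node (.node (.leaf 1394) (.leaf 16259)) (.node (.leaf 8051) (.leaf 29235))) (.node (.node (.leaf 4419) (.leaf 23600)) (.node (.leaf 11824) (.leaf 45971))))) (.node (.node (.node (.node (.leaf 752) (.leaf 14915)) (.node (.leaf 7088) (.leaf 27585))) (.node (.node (.leaf 3633) (.leaf 21459)) (.node (.leaf 10850) (.leaf 38258)))) (.node (.node (.node (.leaf 2128) (.leaf 17744)) (.node (.leaf 9026) (.leaf 31523))) (.node (.node (.leaf 5202) (.leaf 24752)) (.node (.leaf 12739) (.leaf 49761)))))) (.node (.node (.node (.node (.node (.leaf 432) (.leaf 14353)) (.node (.leaf 6608) (.leaf 26672))) (.node (.node (.leaf 3296) (.leaf 20225)) (.node (.leaf 10385) (.leaf 35681)))) (.node (.node (.node (.leaf 1746) (.leaf 16850)) (.node (.leaf 8499) (.leaf 30240))) (.node (.node (.leaf 4835) (.leaf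 24099)) (.node (.leaf 12305) (.leaf 47315))))) (.node (.node (.node (.node (.leaf 1073) (.leaf 15618)) (.node (.leaf 7568) (.leaf 28513))) (.node (.node (.leaf 4048) (.leaf 22850)) (.node (.leaf 11329) (.leaf 42241)))) (.node (.node (.node (.leaf 2512) (.leaf 18642)) (.node (.leaf 9507) (.leaf 32768))) (.node (.node (.leaf 5667) (.leaf 25395)) (.node (.leaf 13264) (.leaf 53473))))))) (.node (.node (.node (.node (.node (.node (.leaf 273) (.leaf 14114)) (.node (.leaf 6353) (.leaf 26289))) (.node (.node (.leaf 3105) (.leaf 19762)) (.node (.leaf 10178) (.leaf 34768)))) (.node (.node (.node (.leaf 1571) (.leaf 16515)) (.node (.leaf 8243) (.leaf 29680))) (.node (.node (.leaf 4640) (.leaf 23840)) (.node (.leaf 12066) (.leaf 46641))))) (.node (.node (.node (.node (.leaf 899) (.leaf 15283)) (.node (.leaf 7328) (.leaf 28082))) (.node (.node (.leaf 3859) (.leaf 22115)) (.node (.leaf 11106) (.leaf 40097)))) (.node (.node (.node (.leaf 2320) (.leaf 18130)) (.node (.leaf 9315) (.leaf 32163))) (.node (.node (.leaf 5443) (.leaf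 25075)) (.node (.leaf 13024) (.leaf 51474)))))) (.node (.node (.node (.node (.node (.leaf 579) (.leaf 14627)) (.node (.leaf 6834) (.leaf 27058))) (.node (.node (.leaf 3473) (.leaf 20915)) (.node (.leaf 10595) (.leaf 36897)))) (.node (.node (.node (.leaf 1907) (.leaf 17234)) (.node (.leaf 8754) (.leaf 30771))) (.node (.node (.leaf 5026) (.leaf 24353)) (.node (.leaf 12530) (.leaf 48547))))) (.node (.node (.node (.node (.leaf 1234) (.leaf 15939)) (.node (.leaf 7795) (.leaf 28850))) (.node (.node (.leaf 4243) (.leaf 23344)) (.node (.leaf 11586) (.leaf 45362)))) (.node (.node (.node (.leaf 2705) (.leaf 19059)) (.node (.leaf 9683) (.leaf 33522))) (.node (.node (.leaf 5904) (.leaf 25729)) (.node (.leaf 13537) (.leaf 61233))))))))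

def twoPar27 : Janko.Tree (ℕ) :=
  (.node (.node (.node (.node (.node (.node (.node (.leaf 115) (.leaf 13873)) (.node (.leaf 6128) (.leaf 26001))) (.node (.node (.leaf 2913) (.leaf 19490)) (.node (.leaf 9937) (.leaf 34177)))) (.node (.node (.node (.leaf 1395) (.leaf 16273)) (.node (.leaf 8064) (.leaf 29248))) (.node (.node (.leaf 4433) (.leaf 23601)) (.node (.leaf 11825) (.leaf 45987))))) (.node (.node (.node (.node (.leaf 753) (.leaf 14931)) (.node (.leaf 7105) (.leaf 27587))) (.node (.node (.leaf 3635) (.leaf 21490)) (.node (.leaf 10851) (.leaf 38274)))) (.node (.node (.node (.leaf 2130) (.leaf 17745)) (.node (.leaf 9027) (.leaf 31568))) (.node (.node (.leaf 5203) (.leaf 24769)) (.node (.leaf 12753) (.leaf 49779)))))) (.node (.node (.node (.node (.node (.leaf 433) (.leaf 14368)) (.node (.leaf 6610) (.leaf 26674))) (.node (.node (.leaf 3297) (.leaf 20243)) (.node (.leaf 10386) (.leaf 35763)))) (.node (.node (.node (.leaf 1747) (.leaf 16851)) (.node (.leaf 8513) (.leaf 30305))) (.node (.node (.leaf 4849) (.leaf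 24114)) (.node (.leaf 12306) (.leaf 47329))))) (.node (.node (.node (.node (.leaf 1074) (.leaf 15619)) (.node (.leaf 7569) (.leaf 28531))) (.node (.node (.leaf 4049) (.leaf 22851)) (.node (.leaf 11331) (.leaf 42387)))) (.node (.node (.node (.leaf 2513) (.leaf 18674)) (.node (.leaf 9520) (.leaf 32786))) (.node (.node (.leaf 5680) (.leaf 25408)) (.node (.leaf 13280) (.leaf 53571))))))) (.node (.node (.node (.node (.node (.node (.leaf 274) (.leaf 14128)) (.node (.leaf 6355) (.leaf 26291))) (.node (.node (.leaf 3121) (.leaf 19779)) (.node (.leaf 10193) (.leaf 34787)))) (.node (.node (.node (.leaf 1584) (.leaf 16528)) (.node (.leaf 8256) (.leaf 29682))) (.node (.node (.leaf 4643) (.leaf 23842)) (.node (.leaf 12067) (.leaf 46643))))) (.node (.node (.node (.node (.leaf 913) (.leaf 15298)) (.node (.leaf 7330) (.leaf 28083))) (.node (.node (.leaf 3873) (.leaf 22162)) (.node (.leaf 11107) (.leaf 40163)))) (.node (.node (.node (.leaf 2322) (.leaf 18145)) (.node (.leaf 9328) (.leaf 32195))) (.node (.node (.leaf 5456) (.leaf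 25088)) (.node (.leaf 13025) (.leaf 51490)))))) (.node (.node (.node (.node (.node (.leaf 592) (.leaf 14640)) (.node (.leaf 6848) (.leaf 27088))) (.node (.node (.leaf 3474) (.leaf 20928)) (.node (.leaf 10610) (.leaf 36931)))) (.node (.node (.node (.leaf 1921) (.leaf 17235)) (.node (.leaf 8755) (.leaf 30785))) (.node (.node (.leaf 5041) (.leaf 24371)) (.node (.leaf 12544) (.leaf 48561))))) (.node (.node (.node (.node (.leaf 1235) (.leaf 15953)) (.node (.leaf 7808) (.leaf 28880))) (.node (.node (.leaf 4256) (.leaf 23347)) (.node (.leaf 11601) (.leaf 45395)))) (.node (.node (.node (.leaf 2706) (.leaf 19073)) (.node (.leaf 9696) (.leaf 33539))) (.node (.node (.leaf 5907) (.leaf 25731)) (.node (.leaf 13539) (.leaf 61395))))))))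

def twoPar28 : Janko.Tree (ℕ) :=
  (.node (.node (.node (.node (.node (.node (.node (.leaf 129) (.leaf 13874)) (.node (.leaf 6129) (.leaf 26002))) (.node (.node (.leaf 2914) (.leaf 19507)) (.node (.leaf 9938) (.leaf 34178)))) (.node (.node (.node (.leaf 1408) (.leaf 16289)) (.node (.leaf 8065) (.leaf 29251))) (.node (.node (.leaf 4435) (.leaf 23603)) (.node (.leaf 11827) (.leaf 46000))))) (.node (.node (.node (.node (.leaf 754) (.leaf 14947)) (.node (.leaf 7106) (.leaf 27602))) (.node (.node (.leaf 3648) (.leaf 21539)) (.node (.leaf 10864) (.leaf 38288)))) (.node (.node (.node (.leaf 2131) (.leaf 17746)) (.node (.leaf 9040) (.leaf 31601))) (.node (.node (.leaf 5216) (.leaf 24771)) (.node (.leaf 12755) (.leaf 49809)))))) (.node (.node (.node (.node (.node (.leaf 434) (.leaf 14370)) (.node (.leaf 6611) (.leaf 26675))) (.node (.node (.leaf 3299) (.leaf 20256)) (.node (.leaf 10387) (.leaf 35840)))) (.node (.node (.node (.leaf 1762) (.leaf 16865)) (.node (.leaf 8531) (.leaf 30307))) (.node (.node (.leaf 4851) (.leaf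 24115)) (.node (.leaf 12320) (.leaf 47331))))) (.node (.node (.node (.node (.leaf 1075) (.leaf 15633)) (.node (.leaf 7585) (.leaf 28545))) (.node (.node (.leaf 4051) (.leaf 22867)) (.node (.leaf 11345) (.leaf 42419)))) (.node (.node (.node (.leaf 2514) (.leaf 18675)) (.node (.leaf 9521) (.leaf 32800))) (.node (.node (.leaf 5681) (.leaf 25424)) (.node (.leaf 13282) (.leaf 53696))))))) (.node (.node (.node (.node (.node (.node (.leaf 275) (.leaf 14147)) (.node (.leaf 6368) (.leaf 26305))) (.node (.node (.leaf 3123) (.leaf 19811)) (.node (.leaf 10195) (.leaf 34803)))) (.node (.node (.node (.leaf 1585) (.leaf 16544)) (.node (.leaf 8257) (.leaf 29697))) (.node (.node (.leaf 4656) (.leaf 23843)) (.node (.leaf 12080) (.leaf 46657))))) (.node (.node (.node (.node (.leaf 915) (.leaf 15313)) (.node (.leaf 7331) (.leaf 28098))) (.node (.node (.leaf 3875) (.leaf 22178)) (.node (.leaf 11122) (.leaf 40224)))) (.node (.node (.node (.leaf 2323) (.leaf 18160)) (.node (.leaf 9329) (.leaf 32225))) (.node (.node (.leaf 5457) (.leaf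 25090)) (.node (.leaf 13026) (.leaf 51505)))))) (.node (.node (.node (.node (.node (.leaf 593) (.leaf 14641)) (.node (.leaf 6849) (.leaf 27090))) (.node (.node (.leaf 3475) (.leaf 20944)) (.node (.leaf 10611) (.leaf 36947)))) (.node (.node (.node (.leaf 1922) (.leaf 17250)) (.node (.leaf 8769) (.leaf 30801))) (.node (.node (.leaf 5042) (.leaf 24384)) (.node (.leaf 12545) (.leaf 48563))))) (.node (.node (.node (.node (.leaf 1248) (.leaf 15954)) (.node (.leaf 7809) (.leaf 28881))) (.node (.node (.leaf 4258) (.leaf 23361)) (.node (.leaf 11603) (.leaf 45411)))) (.node (.node (.node (.leaf 2707) (.leaf 19091)) (.node (.leaf 9698) (.leaf 33601))) (.node (.node (.leaf 5920) (.leaf 25746)) (.node (.leaf 13552) (.leaf 61793))))))))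

def twoPar29 : Janko.Tree (ℕ) :=
  (.node (.node (.node (.node (.node (.node (.node (.leaf 130) (.leaf 13890)) (.node (.leaf 6131) (.leaf 26003))) (.node (.node (.leaf 2915) (.leaf 19522)) (.node (.leaf 9939) (.leaf 34192)))) (.node (.node (.node (.leaf 1410) (.leaf 16291)) (.node (.leaf 8066) (.leaf 29265))) (.node (.node (.leaf 4450) (.leaf 23616)) (.node (.leaf 11840) (.leaf 46067))))) (.node (.node (.node (.node (.leaf 755) (.leaf 14961)) (.node (.leaf 7120) (.leaf 27603))) (.node (.node (.leaf 3650) (.leaf 21553)) (.node (.leaf 10865) (.leaf 38305)))) (.node (.node (.node (.leaf 2145) (.leaf 17763)) (.node (.leaf 9042) (.leaf 31602))) (.node (.node (.leaf 5218) (.leaf 24785)) (.node (.leaf 12784) (.leaf 49840)))))) (.node (.node (.node (.node (.node (.leaf 435) (.leaf 14371)) (.node (.leaf 6625) (.leaf 26688))) (.node (.node (.leaf 3312) (.leaf 20291)) (.node (.leaf 10400) (.leaf 36019)))) (.node (.node (.node (.leaf 1763) (.leaf 16912)) (.node (.leaf 8544) (.leaf 30323))) (.node (.node (.leaf 4864) (.leaf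 24129)) (.node (.leaf 12321) (.leaf 47345))))) (.node (.node (.node (.node (.leaf 1088) (.leaf 15635)) (.node (.leaf 7587) (.leaf 28547))) (.node (.node (.leaf 4064) (.leaf 22880)) (.node (.leaf 11346) (.leaf 42451)))) (.node (.node (.node (.leaf 2529) (.leaf 18705)) (.node (.leaf 9522) (.leaf 32802))) (.node (.node (.leaf 5683) (.leaf 25426)) (.node (.leaf 13283) (.leaf 53841))))))) (.node (.node (.node (.node (.node (.node (.leaf 289) (.leaf 14160)) (.node (.leaf 6370) (.leaf 26338))) (.node (.node (.leaf 3136) (.leaf 19824)) (.node (.leaf 10208) (.leaf 34816)))) (.node (.node (.node (.leaf 1586) (.leaf 16545)) (.node (.leaf 8259) (.leaf 29699))) (.node (.node (.leaf 4658) (.leaf 23857)) (.node (.leaf 12081) (.leaf 46688))))) (.node (.node (.node (.node (.leaf 928) (.leaf 15315)) (.node (.leaf 7344) (.leaf 28129))) (.node (.node (.leaf 3890) (.leaf 22179)) (.node (.leaf 11123) (.leaf 40227)))) (.node (.node (.node (.leaf 2337) (.leaf 18177)) (.node (.leaf 9330) (.leaf 32226))) (.node (.node (.leaf 5458) (.leaf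 25136)) (.node (.leaf 13027) (.leaf 51713)))))) (.node (.node (.node (.node (.node (.leaf 594) (.leaf 14642)) (.node (.leaf 6851) (.leaf 27107))) (.node (.node (.leaf 3488) (.leaf 20945)) (.node (.leaf 10625) (.leaf 37043)))) (.node (.node (.node (.leaf 1923) (.leaf 17264)) (.node (.leaf 8771) (.leaf 30817))) (.node (.node (.leaf 5043) (.leaf 24385)) (.node (.leaf 12547) (.leaf 48672))))) (.node (.node (.node (.node (.leaf 1250) (.leaf 15970)) (.node (.leaf 7824) (.leaf 28899))) (.node (.node (.leaf 4259) (.leaf 23363)) (.node (.leaf 11617) (.leaf 45424)))) (.node (.node (.node (.leaf 2721) (.leaf 19105)) (.node (.leaf 9699) (.leaf 33603))) (.node (.node (.leaf 5921) (.leaf 25761)) (.node (.leaf 13554) (.leaf 61891))))))))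

def twoPar30 : Janko.Tree (ℕ) :=
  (.node (.node (.node (.node (.node (.node (.node (.leaf 131) (.leaf 13891)) (.node (.leaf 6144) (.leaf 26016))) (.node (.node (.leaf 2929) (.leaf 19523)) (.node (.leaf 9952) (.leaf 34241)))) (.node (.node (.node (.leaf 1411) (.leaf 16305)) (.node (.leaf 8067) (.leaf 29267))) (.node (.node (.leaf 4465) (.leaf 23633)) (.node (.leaf 11841) (.leaf 46080))))) (.node (.node (.node (.node (.leaf 768) (.leaf 14963)) (.node (.leaf 7122) (.leaf 27619))) (.node (.node (.leaf 3651) (.leaf 21584)) (.node (.leaf 10866) (.leaf 38307)))) (.node (.node (.node (.leaf 2147) (.leaf 17778)) (.node (.leaf 9043) (.leaf 31633))) (.node (.node (.leaf 5219) (.leaf 24787)) (.node (.leaf 12786) (.leaf 49843)))))) (.node (.node (.node (.node (.node (.leaf 448) (.leaf 14384)) (.node (.leaf 6626) (.leaf 26690))) (.node (.node (.leaf 3313) (.leaf 20307)) (.node (.leaf 10403) (.leaf 36032)))) (.node (.node (.node (.leaf 1776) (.leaf 16914)) (.node (.leaf 8545) (.leaf 30337))) (.node (.node (.leaf 4865) (.leaf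 24131)) (.node (.leaf 12337) (.leaf 47474))))) (.node (.node (.node (.node (.leaf 1090) (.leaf 15650)) (.node (.leaf 7600) (.leaf 28561))) (.node (.node (.leaf 4065) (.leaf 22899)) (.node (.leaf 11347) (.leaf 42755)))) (.node (.node (.node (.leaf 2531) (.leaf 18720)) (.node (.leaf 9523) (.leaf 32816))) (.node (.node (.leaf 5715) (.leaf 25427)) (.node (.leaf 13296) (.leaf 53936))))))) (.node (.node (.node (.node (.node (.node (.leaf 290) (.leaf 14161)) (.node (.leaf 6384) (.leaf 26339))) (.node (.node (.leaf 3138) (.leaf 19826)) (.node (.leaf 10224) (.leaf 34818)))) (.node (.node (.node (.leaf 1587) (.leaf 16547)) (.node (.leaf 8272) (.leaf 29712))) (.node (.node (.leaf 4659) (.leaf 23873)) (.node (.leaf 12082) (.leaf 46691))))) (.node (.node (.node (.node (.leaf 930) (.leaf 15347)) (.node (.leaf 7346) (.leaf 28147))) (.node (.node (.leaf 3891) (.leaf 22211)) (.node (.leaf 11136) (.leaf 40241)))) (.node (.node (.node (.leaf 2339) (.leaf 18195)) (.node (.leaf 9331) (.leaf 32273))) (.node (.node (.leaf 5459) (.leaf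 25138)) (.node (.leaf 13041) (.leaf 51714)))))) (.node (.node (.node (.node (.node (.leaf 595) (.leaf 14657)) (.node (.leaf 6864) (.leaf 27120))) (.node (.node (.leaf 3490) (.leaf 20947)) (.node (.leaf 10627) (.leaf 37059)))) (.node (.node (.node (.leaf 1936) (.leaf 17266)) (.node (.leaf 8785) (.leaf 30832))) (.node (.node (.leaf 5056) (.leaf 24387)) (.node (.leaf 12560) (.leaf 48721))))) (.node (.node (.node (.node (.leaf 1251) (.leaf 15971)) (.node (.leaf 7826) (.leaf 28914))) (.node (.node (.leaf 4273) (.leaf 23376)) (.node (.leaf 11618) (.leaf 45440)))) (.node (.node (.node (.leaf 2722) (.leaf 19120)) (.node (.leaf 9712) (.leaf 33619))) (.node (.node (.leaf 5923) (.leaf 25777)) (.node (.leaf 13568) (.leaf 63360))))))))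

def twoPar31 : Janko.Tree (ℕ) :=
  (.node (.node (.node (.node (.node (.node (.node (.leaf 144) (.leaf 13904)) (.node (.leaf 6145) (.leaf 26018))) (.node (.node (.leaf 2931) (.leaf 19536)) (.node (.leaf 9968) (.leaf 34243)))) (.node (.node (.node (.leaf 1424) (.leaf 16307)) (.node (.leaf 8081) (.leaf 29281))) (.node (.node (.leaf 4467) (.leaf 23634)) (.node (.leaf 11842) (.leaf 46083))))) (.node (.node (.node (.node (.leaf 770) (.leaf 14978)) (.node (.leaf 7123) (.leaf 27632))) (.node (.node (.leaf 3664) (.leaf 21586)) (.node (.leaf 10881) (.leaf 38323)))) (.node (.node (.node (.leaf 2163) (.leaf 17794)) (.node (.leaf 9075) (.leaf 31634))) (.node (.node (.leaf 5232) (.leaf 24800)) (.node (.leaf 12787) (.leaf 49858)))))) (.node (.node (.node (.node (.node (.leaf 450) (.leaf 14385)) (.node (.leaf 6641) (.leaf 26705))) (.node (.node (.leaf 3314) (.leaf 20337)) (.node (.leaf 10416) (.leaf 36147)))) (.node (.node (.node (.leaf 1778) (.leaf 16915)) (.node (.leaf 8546) (.leaf 30371))) (.node (.node (.leaf 4866) (.leaf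 24161)) (.node (.leaf 12339) (.leaf 47552))))) (.node (.node (.node (.node (.leaf 1091) (.leaf 15667)) (.node (.leaf 7602) (.leaf 28562))) (.node (.node (.leaf 4067) (.leaf 22912)) (.node (.leaf 11361) (.leaf 42768)))) (.node (.node (.node (.leaf 2544) (.leaf 18755)) (.node (.leaf 9536) (.leaf 32819))) (.node (.node (.leaf 5728) (.leaf 25443)) (.node (.leaf 13298) (.leaf 54018))))))) (.node (.node (.node (.node (.node (.node (.leaf 291) (.leaf 14162)) (.node (.leaf 6385) (.leaf 26353))) (.node (.node (.leaf 3139) (.leaf 19843)) (.node (.leaf 10225) (.leaf 34832)))) (.node (.node (.node (.leaf 1601) (.leaf 16563)) (.node (.leaf 8275) (.leaf 29713))) (.node (.node (.leaf 4673) (.leaf 23874)) (.node (.leaf 12083) (.leaf 46704))))) (.node (.node (.node (.node (.leaf 931) (.leaf 15361)) (.node (.leaf 7347) (.leaf 28161))) (.node (.node (.leaf 3904) (.leaf 22227)) (.node (.leaf 11138) (.leaf 40259)))) (.node (.node (.node (.leaf 2353) (.leaf 18226)) (.node (.leaf 9345) (.leaf 32307))) (.node (.node (.leaf 5474) (.leaf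 25139)) (.node (.leaf 13058) (.leaf 51810)))))) (.node (.node (.node (.node (.node (.leaf 608) (.leaf 14658)) (.node (.leaf 6867) (.leaf 27139))) (.node (.node (.leaf 3491) (.leaf 20960)) (.node (.leaf 10640) (.leaf 37184)))) (.node (.node (.node (.leaf 1938) (.leaf 17281)) (.node (.leaf 8787) (.leaf 30849))) (.node (.node (.leaf 5058) (.leaf 24402)) (.node (.leaf 12561) (.leaf 48753))))) (.node (.node (.node (.node (.leaf 1264) (.leaf 15985)) (.node (.leaf 7827) (.leaf 28929))) (.node (.node (.leaf 4274) (.leaf 23378)) (.node (.leaf 11619) (.leaf 45441)))) (.node (.node (.node (.leaf 2723) (.leaf 19122)) (.node (.leaf 9713) (.leaf 33648))) (.node (.node (.leaf 5936) (.leaf 25779)) (.node (.leaf 13571) (.leaf 64243))))))))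

def twoPar : Janko.Tree (ℕ) := (.node (.node (.node (.node (.node twoPar0 twoPar16) (.node twoPar8 twoPar24)) (.node (.node twoPar4 twoPar20) (.node twoPar12 twoPar28))) (.node (.node (.node twoPar2 twoPar18) (.node twoPar10 twoPar26)) (.node (.node twoPar6 twoPar22) (.node twoPar14 twoPar30)))) (.node (.node (.node (.node twoPar1 twoPar17) (.node twoPar9 twoPar25)) (.node (.node twoPar5 twoPar21) (.node twoPar13 twoPar29))) (.node (.node (.node twoPar3 twoPar19) (.node twoPar11 twoPar27)) (.node (.node twoPar7 twoPar23) (.node twoPar15 twoPar31)))))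

def twoL0 : Janko.Tree (List ℤ) :=
  (.node (.node (.node (.node (.node (.node (.node (.leaf []) (.leaf [1, 0, 0, 0, 0, 0, 0, 0, 0, 0, 0, 0, 0, 0, 0, 0, 0])) (.leaf [])) (.node (.leaf []) (.leaf [1]))) (.node (.node (.leaf [1]) (.leaf [1])) (.node (.leaf []) (.leaf [1])))) (.node (.node (.node (.leaf []) (.leaf [1])) (.node (.leaf [-34377, 6196, -90608, -41979, 53658, 1208, 6828, 29608, -2526, -2600, 138, -46, 64, 1]) (.leaf [14392271, -3637332, 43681136, 22313488, -27922405, -842341, -1889819, -16232746, 1329934, 1945132, -74026, 37836, -52595, 1300, -170, -11, -1]))) (.node (.node (.leaf [20614776, -5287414, 57621640, 27577151, -34632690, -1017340, -3874554, -19947066, 2332260, 1767282, -68936, 40378, -70563, -1538, 316, -1]) (.leaf [-200, 261, -1014, -564, 722, -39, 21, 429, -92, -19, -10, 1])) (.node (.leaf [1]) (.leaf [-16608628, -2788698, -25844417, -6177810, 10395531, -979000, 5077999, 2314910, 951447, 1542069, -10124, 212781, -72688, 4558, -4981, 72, -1]))))) (.node (.node (.node (.node (.leaf [28, -13,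 82, 37, -48, 0, -8, -26, 6, 1]) (.leaf [])) (.node (.leaf [1]) (.leaf [1]))) (.node (.node (.leaf [1]) (.leaf [1208364, -262377, 3357865, 1637095, -2055791, -73086, -224275, -1184160, 86423, 162703, -6262, 7629, -2274, 350, -277, 7])) (.node (.leaf [94409591, -8671505, 215258015, 88922525, -116886624, -1579487, -23226400, -59893741, 4079592, 2882630, -266562, -122744, -16356, -4744, 1962, 215, 7]) (.leaf [-207, -11, -504, -182, 314, -39, 49, 72, 17, 23, -4, 1, -1])))) (.node (.node (.node (.leaf []) (.leaf [-64565706, 23456328, -202949915, -104025091, 128167704, 4783321, 9637136, 77355248, -9872711, -8684588, 263740, -344055, 344976, -241, 2994, 23, 3])) (.node (.leaf [30656393, -6597183, 90208791, 45934000, -57555368, -1923120, -4410133, -33377600, 1832138, 4930377, -174256, 174700, -66952, 9968, -4226, 163, 3]) (.leaf [4828, -214, 10613, 4284, -5689, -100, -1209, -2816, 98, 168, -24, -2, 2, -1]))) (.node (.node (.leaf [-4986, 807, -12731, -5781, 7456, 116, 1061, 4047, -282, -371, 12, -7, 2]) (.leaf [27358538,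 -19518236, 100899521, 54179682, -64142776, -3726934, -4521718, -42441041, 8952887, 4952542, -91896, 442653, -297705, -2625, -8500, 44, 1])) (.node (.leaf [-3511, 266, -7627, -3042, 3981, 73, 914, 2056, -139, -91, 9, 5, 1]) (.leaf [-1767, 162, -3808, -1483, 1960, 13, 473, 998, -82, -13, 0, 2, -1])))))) (.node (.node (.node (.node (.node (.leaf [1]) (.leaf [])) (.node (.leaf [60657867, -10148359, 149687931, 64928629, -83925340, -1169493, -13738258, -45014723, 5250272, 1443292, -103352, -159554, -113835, -14144, 6902, -140, -1]) (.leaf [39110, -4131, 93333, 39987, -52682, -467, -9029, -27002, 1552, 1710, -98, -10, 3, 0, -1]))) (.node (.node (.leaf [1]) (.leaf [-16747805, 3991321, -46125058, -21930331, 27615287, 794632, 3198170, 15799305, -1729176, -1431003, 58286, -31976, 50797, 803, -2, -11])) (.node (.leaf [69446435, -10398372, 166352818, 69291619, -91062254, -249184, -16351378, -46810396, 6229489, -763898, -57576, -412718, -125841, -27852, 9702, -496, -3]) (.leaf [-25692804, 3576541, -61077034, -25998910, 33700430,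 607359, 6191146, 17926971, -1690619, -970422, 63163, 9005, 24681, 2129, -599, -57, -1])))) (.node (.node (.node (.leaf []) (.leaf [1])) (.node (.leaf [1]) (.leaf [-266484524, 66283836, -738939598, -351618855, 442508032, 12486325, 50608484, 253541132, -29532092, -21538786, 872651, -391133, 882535, 23964, -6455, 148, -1]))) (.node (.node (.leaf [5204844, -1107980, 14117016, 6651134, -8407094, -230376, -982392, -4755164, 502164, 388486, -21992, 2450, -16245, -466, 436, -1]) (.leaf [])) (.node (.leaf [7, 1, 0, -4, 6, 0, -3, 2, 0, -1]) (.leaf [1997, -150, 3890, 1385, -1785, -73, -615, -941, 115, 14, -5, -5, -1, 1]))))) (.node (.node (.node (.node (.leaf [1]) (.leaf [])) (.node (.leaf [-4271, 1466, -14166, -7489, 9248, 408, 475, 5504, -618, -700, 46, -28, 26, 1]) (.leaf [24357087, -6599949, 70680692, 34838344, -43517446, -1401120, -4127614, -25396813, 2729577, 2673752, -97470, 76573, -89414, 11, -325, 21]))) (.node (.node (.leaf []) (.leaf [1])) (.node (.leaf [1]) (.leaf [2360, -278, 5742, 2566, -3317, -15, -496, -1807,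 73, 154, 1, -5, 1, 3])))) (.node (.node (.node (.leaf [-116049807, -3794905, -241635263, -92508254, 127794053, -1780874, 27592009, 57303685, 1355054, 848953, 251184, 870768, -182064, 17389, -22644, 165, 1]) (.leaf [1])) (.node (.leaf []) (.leaf [-3526547, 780288, -9356726, -4285220, 5456774, 111037, 722928, 3041007, -375280, -170879, 7639, 2622, 10304, 750, -359, 5]))) (.node (.node (.leaf [55347977, -12575468, 155400728, 75422002, -95013975, -2732068, -9737398, -54346034, 4902118, 5813852, -218219, 139524, -149476, 2915, -1870, 52, 3]) (.leaf [267840, -59330, 719255, 336201, -425682, -10724, -53683, -240749, 25334, 20645, -698, 390, -637, -10, -3])) (.node (.leaf [-44550001, 12007897, -148727874, -80702414, 100136843, 3403496, 2856499, 59341179, -3864150, -8297063, 379742, -184307, 231284, -7619, -4013, -175, 17]) (.leaf [694418, -103933, 1766364, 804410, -1033463, -19378, -142634, -564505, 38438, 49887, -1509, 75, -450, 32, -67, 1])))))))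

def twoL1 : Janko.Tree (List ℤ) :=
  (.node (.node (.node (.node (.node (.node (.node (.leaf []) (.leaf [0, 1, 0, 0, 0, 0, 0, 0, 0, 0, 0, 0, 0, 0, 0, 0, 0])) (.leaf [0, 1])) (.node (.leaf [0, 1]) (.leaf [-492441293, 64925937, -1175163941, -499951976, 651283037, 8731462, 115342405, 342160166, -32374347, -13508888, 1072046, 1007930, 514630, 73506, -37327, 285, -29]))) (.node (.node (.leaf [362, -30, 924, 423, -556, -3, -64, -288, 6, 23, -1]) (.leaf [1321443, -249109, 3591540, 1712850, -2175634, -53261, -239248, -1220582, 92482, 125612, -4876, 2080, -2577, 99, -19, 1])) (.node (.leaf [4789, -430, 10684, 4304, -5697, -42, -1217, -2884, 204, 86, -6, -6, 3]) (.leaf [-646, 109, -1541, -653, 845, 18, 164, 452, -50, -26])))) (.node (.node (.node (.leaf [0, 1]) (.leaf [65186599, -21108003, 196426083, 98270694, -121926761, -4114846, -10646106, -72376324, 9065651, 7382618, -237658, 244360, -302787, -2756, -819, -46, -3])) (.node (.leaf [0, 1]) (.leaf [1445, -124, 3066, 1182, -1559, -9, -391, -798, 65, 8, 0, -3, 1]))) (.node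 (.node (.leaf []) (.leaf [0, 1])) (.node (.leaf [150325, -44712, 439460, 216179, -268619, -9545, -26001, -158392, 20076, 15175, -626, 426, -679, -14, 5]) (.leaf [0, 1]))))) (.node (.node (.node (.node (.leaf []) (.leaf [1295, -2684, 10227, 6718, -7596, -714, 356, -5470, 1276, 823, -16, 56, -56, -5])) (.node (.leaf []) (.leaf [32693832, -7627545, 82762243, 35939745, -45951407, -840453, -7763606, -25311161, 4172715, 427580, -37533, -67164, -102605, -11587, 3560, -133]))) (.node (.node (.leaf []) (.leaf [-90833, 18902, -154873, -35908, 46268, 2137, 36481, 23160, -18667, 14332, -156, 993, 320, 100, -16, 1])) (.node (.leaf [-1661, 189, -3593, -1393, 1843, 11, 463, 938, -92, -15, -2, 2, -1]) (.leaf [-3330, 223, -7767, -3269, 4371, -4, 747, 2164, -70, -96, 6, 4, -2])))) (.node (.node (.node (.leaf []) (.leaf [30219, -1935, 66590, 26421, -35606, 129, -7667, -17258, 823, 331, -46, -59, 41, 0, -1])) (.node (.leaf [-7, 1, -12, -4, 6, -1, 2, 3]) (.leaf [-29903, 9921, -89752, -44716, 55507, 1780, 5078, 32964, -4231, -3324,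 84, -109, 137, 2, -1]))) (.node (.node (.leaf [-4468, 606, -11126, -4932, 6438, 80, 978, 3385, -216, -264, 10, -5, 1]) (.leaf [0, 1])) (.node (.leaf [3373, -553, 7300, 2739, -3596, -5, -939, -1889, 332, -142, 19, -1, 2, 0, -1]) (.leaf [0, 1])))))) (.node (.node (.node (.node (.node (.leaf []) (.leaf [-1621, 104, -3771, -1604, 2117, 31, 371, 1070, -35, -80, 7, 1])) (.node (.leaf [32064, -6315, 84148, 38753, -49380, -1103, -6593, -27505, 2663, 2259, -92, 40, -63]) (.leaf [7899, -2370, 22808, 11119, -13800, -661, -1610, -8064, 1078, 984, -66, 30, -42, -2, 3]))) (.node (.node (.leaf []) (.leaf [-195926, 41417, -522321, -243178, 308282, 7941, 39411, 173602, -17876, -14738, 574, -233, 439, 4, 5])) (.node (.leaf []) (.leaf [0, 1])))) (.node (.node (.node (.leaf []) (.leaf [-2413, 278, -5850, -2578, 3337, 48, 526, 1790, -99, -144, 8, 0, 1])) (.node (.leaf [-3539, 178, -7950, -3260, 4327, 42, 828, 2160, -89, -80, 14, 6, -1]) (.leaf [33127335, -7955911, 90974096, 43073050, -54257462, -1558183, -6408798, -31001836, 3529035,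 2679363, -117635, 57895, -105016, -2357, 572, 13]))) (.node (.node (.leaf []) (.leaf [0, 1])) (.node (.leaf []) (.leaf [-1774, 232, -4489, -1989, 2636, -8, 374, 1344, -77, -80, 6, 0, -2, 1]))))) (.node (.node (.node (.node (.leaf []) (.leaf [-43774822, 13682532, -127448693, -61897584, 77222952, 2310911, 7915494, 45211855, -6383422, -3537738, 116614, -59317, 198396, 8356, -1013, 175, 1])) (.node (.leaf [0, 1]) (.leaf []))) (.node (.node (.leaf [0, 1]) (.leaf [24346, -5886, 68238, 32730, -41428, -997, -4478, -23481, 2411, 2178, -78, 53, -67, 1])) (.node (.leaf []) (.leaf [0, 1])))) (.node (.node (.node (.leaf []) (.leaf [-853126, 205041, -2291690, -1064053, 1345067, 33823, 176165, 763929, -92472, -57506, 1601, -926, 2211, 100, 12, 1])) (.node (.leaf []) (.leaf [0, 1]))) (.node (.node (.leaf []) (.leaf [0, 1])) (.node (.leaf [0, 1]) (.leaf [0, 1])))))))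

def twoL2 : Janko.Tree (List ℤ) :=
  (.node (.node (.node (.node (.node (.node (.node (.leaf []) (.leaf [0, 0, 1, 0, 0, 0, 0, 0, 0, 0, 0, 0, 0, 0, 0, 0, 0])) (.leaf [-79917350, -4795062, -155053388, -55504022, 77850789, -778956, 21293124, 33272260, 2353101, -132755, 245909, 360850, -203156, -1115, -4732, -321, -7])) (.node (.leaf []) (.leaf [595359337, -70391749, 1402106523, 590553576, -772584658, -8942822, -140548219, -401404686, 35554114, 14130895, -1277270, -1481846, -483826, -90672, 48924, -377, 35]))) (.node (.node (.leaf [54, -3, 151, 77, -96, -3, -4, -56, 1, 6, -1]) (.leaf [-39047, 10271, -111154, -53884, 67839, 1649, 6959, 39054, -4160, -3674, 87, -107, 111, 2, 1])) (.node (.leaf []) (.leaf [474, -22, 1139, 499, -664, 6, -90, -337, 0, 19, -2, 1])))) (.node (.node (.node (.leaf []) (.leaf [6103345, -914893, 15598667, 7085619, -9113164, -179573, -1240580, -4945610, 383589, 384872, -22507, -1730, -9700, -293, 292, 7])) (.node (.leaf [6032431, -1512089, 16406931, 7656049, -9649393, -268238, -1222136, -5503753,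 717342, 391927, -19738, 6900, -21379, -868, 388, -5]) (.leaf [26431, -5841, 70664, 32908, -41691, -1074, -5406, -23533, 2496, 2044, -74, 46, -65, 1]))) (.node (.node (.leaf [116233062, -3993624, 273560271, 118694952, -157014276, -1182010, -23639140, -79176230, 752662, 5362828, -438382, -441580, 40867, -1790, 13238, 62, 1]) (.leaf [16224779, -2689393, 40112502, 17461102, -22571914, -344333, -3684257, -12101562, 1344140, 496884, -31644, -31431, -27030, -3134, 888, -33])) (.node (.leaf [1265345, -323831, 3497167, 1654624, -2080530, -61626, -247757, -1193125, 148843, 97195, -4750, 2314, -4614, -136, 31]) (.leaf [-330123, 79979, -922460, -441802, 556767, 15676, 60985, 317684, -34936, -28695, 1483, -614, 1161, 19, 7]))))) (.node (.node (.node (.node (.leaf [0, 0, 1]) (.leaf [])) (.node (.leaf [213, -54, 533, 230, -296, -9, -58, -160, 25, 11, 1]) (.leaf [368598248, -27037507, 870961356, 373663285, -492048986, -4116456, -79698934, -251312802, 11564489, 12775247, -1087794, -1283870, -83202, -33650, 38202, -142, 5])))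 (.node (.node (.leaf [123, -21, 308, 140, -180, 0, -26, -100, 6, 9]) (.leaf [0, 0, 1])) (.node (.leaf []) (.leaf [281885, -211514, 982555, 500948, -598482, -31911, -68884, -390283, 96955, 40477, 776, 5201, -2547, -32, -184, -1])))) (.node (.node (.node (.leaf []) (.leaf [-4011398, 211717, -8553920, -3299690, 4444811, 849, 1058586, 2142087, -111992, -19140, 2986, 14695, -4293, 418, -257, 3, -1])) (.node (.leaf [0, 0, 1]) (.leaf [-5843, 2040, -16842, -8149, 10067, 336, 1175, 6053, -920, -533, 0, -14, 25, -1]))) (.node (.node (.leaf [-3200, 497, -8119, -3634, 4736, 50, 690, 2509, -178, -192, 6, -6, 1]) (.leaf [-55238152, 12628630, -149680995, -70152531, 88636817, 2416972, 10879880, 50240900, -5748905, -3998731, 193850, -51199, 168760, 5930, -1566, 9])) (.node (.leaf [0, 0, 1]) (.leaf [32398383, -6606381, 86455573, 40224932, -51100094, -1250122, -6377227, -28594588, 2944299, 2248602, -109782, 9807, -83322, -2998, 1292, -9])))))) (.node (.node (.node (.node (.node (.leaf []) (.leaf [-3358650707, 673006825, -8855318267,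 -4081579686, 5192726010, 122602522, 680582805, 2896440906, -302832479, -216873879, 10326253, -781436, 8123668, 327719, -141928, 64, -19])) (.node (.leaf []) (.leaf [39370, -4908, 97034, 42725, -55493, -1001, -8538, -29340, 2156, 1972, -184, 12, -40, -2, 5]))) (.node (.node (.leaf [-5, 0, -6, -1, 1, 0, 2, 1]) (.leaf [-30020974, 767849, -67053386, -27059503, 36573931, -310160, 6659656, 17414607, -708894, 351041, 54408, 259462, -2160, 9218, -8346, 169, 1])) (.node (.leaf [0, 0, 1]) (.leaf [-1554567867, 243907902, -3896960711, -1732335950, 2230515473, 41284824, 335140148, 1206891024, -113516207, -72823783, 4337075, 1828484, 2539728, 189857, -103758, 175, -33])))) (.node (.node (.node (.leaf [0, 0, 1]) (.leaf [-673, 54, -1677, -750, 990, 5, 132, 506, -13, -39, 3])) (.node (.leaf [345, -36, 863, 385, -512, 1, -73, -258, 7, 23, -1]) (.leaf [0, 0, 1]))) (.node (.node (.leaf [0, 0, 1]) (.leaf [-195372, 51598, -556725, -270051, 340168, 8733, 35455, 195352, -20624, -19405, 440, -564, 552, -2, 9])) (.node (.leaf [0, 0, 1])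 (.leaf [0, 0, 1]))))) (.node (.node (.node (.node (.leaf [-1, 0, -2, 0, 1, 0, 1, -1]) (.leaf [0, 0, 1])) (.node (.leaf [3542, -396, 8124, 3407, -4478, 34, -863, -2352, 114, 135, 8, -10, 3, 2]) (.leaf [-65101, 16108, -181824, -87187, 109968, 2762, 12063, 62929, -6595, -5850, 156, -162, 180, -1, 1]))) (.node (.node (.leaf []) (.leaf [23219, -5726, 65105, 31218, -39471, -966, -4299, -22433, 2364, 2067, -70, 52, -67, 1])) (.node (.leaf [-438, -5, -977, -405, 546, 10, 99, 258, 6, -21, 2]) (.leaf [420434, -268039, 2200368, 1435066, -1710249, -88327, 99676, -1116543, 62717, 230642, -4919, 7434, -4501, 469, -120, 1])))) (.node (.node (.node (.leaf [0, 0, 1]) (.leaf [-179, 8, -393, -157, 212, -2, 44, 102, -4, -2, 2])) (.node (.leaf [0, 0, 1]) (.leaf [-552354, 46470, -1504885, -748590, 958120, 21971, 78115, 528739, 6910, -84575, 2821, -1576, -300, -258, 63, -3]))) (.node (.node (.leaf []) (.leaf [266960, -55685, 708800, 329160, -417688, -10302, -54010, -234833, 23820, 19788, -746, 320, -579, -11, -5])) (.node (.leaf [])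 (.leaf [-2955906, 714037, -7839867, -3579043, 4532780, 110007, 631326, 2557452, -350440, -144692, 6408, -132, 9343, 616, -186, 5])))))))

def twoL3 : Janko.Tree (List ℤ) :=
  (.node (.node (.node (.node (.node (.node (.node (.leaf []) (.leaf [0, 0, 0, 1, 0, 0, 0, 0, 0, 0, 0, 0, 0, 0, 0, 0, 0])) (.leaf [12, -36, 374, 288, -361, -12, 52, -207, 0, 53, -4, 2, -1])) (.node (.leaf [6715, -1815, 18965, 9155, -11460, -347, -1258, -6661, 773, 644, -19, 17, -23]) (.leaf [-35946185, 7409865, -97229499, -45936832, 58170237, 1568336, 6865903, 32824596, -3048210, -3123648, 141135, -65116, 89298, -318, 299, -67]))) (.node (.node (.leaf [141, -18, 381, 181, -236, -2, -25, -124, 4, 14, -1]) (.leaf [1050220, -180130, 3038910, 1533218, -1944249, -46958, -142326, -1097722, 41782, 149539, -5092, 2960, -1657, 303, -48, 2])) (.node (.leaf [0, 0, -1, 0, 1]) (.leaf [558, -68, 1698, 871, -1137, -7, -54, -600, 2, 79, -6, 3, -1])))) (.node (.node (.node (.leaf []) (.leaf [5180653, -1222705, 16466538, 8739860, -10924205, -310081, -450321,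 -6382132, 356355, 864217, -21155, 6160, -15301, 811, 586, -22, 1])) (.node (.leaf []) (.leaf [0, 0, -1, 0, 1]))) (.node (.node (.leaf []) (.leaf [-1240172274, 319384500, -3462973402, -1655798440, 2079616849, 61116076, 234907861, 1197749696, -140468016, -106644145, 4085630, -2630939, 4179986, 85331, -4870, -9, -17])) (.node (.leaf []) (.leaf [-36, -14, 251, 229, -296, -7, 67, -158, -10, 45, -4, 3, -1]))))) (.node (.node (.node (.node (.leaf []) (.leaf [-9469070, 1387472, -25444162, -12070077, 15463528, 311389, 1605525, 8472530, -521721, -775868, 41744, 10375, 17650, 222, -722, 5])) (.node (.leaf []) (.leaf [39638133, -11574580, 110220401, 51651428, -64832446, -1746727, -8027831, -37388798, 5729230, 2172309, -83266, 10194, -169076, -10540, 2950, -142, -1]))) (.node (.node (.leaf []) (.leaf [735038081, -138796114, 1939184444, 896641263, -1143057659, -25917549, -145586560, -634257620, 61112696, 49158846, -2448064, -77292, -1686708, -53681, 33604, -372, 9])) (.node (.leaf [-6, 0, -9, -2, 4, 0, 2, 1]) (.leaf [34472185,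 -5796354, 90481018, 42002369, -53645302, -1226504, -6685680, -29625391, 2358491, 2608824, -125572, 4505, -63189, -519, 1178, 18, 1])))) (.node (.node (.node (.leaf []) (.leaf [-56552505, 14012317, -148993176, -67638334, 85648112, 2030349, 12483738, 48428836, -6756890, -2791928, 77688, -25344, 162815, 10418, -2274, 90, -3])) (.node (.leaf [640585527, -141948877, 1774593273, 851720805, -1074009330, -30539840, -115738464, -612152061, 58818548, 59638109, -2641248, 1169810, -1857989, -9127, 6744, 909, -21]) (.leaf [-21724, 5710, -60515, -28886, 36292, 1016, 4210, 20926, -2451, -1904, 53, -48, 69, -1]))) (.node (.node (.leaf []) (.leaf [-30211956, 6877739, -83317907, -39656571, 50063473, 1359570, 5597469, 28450097, -3008124, -2476600, 114017, -32020, 93377, 2336, -918, 3, 1])) (.node (.leaf []) (.leaf [272160, -48161, 735902, 351935, -446584, -11896, -49215, -250936, 16584, 28454, -1146, 604, -449, 31, -16, 1])))))) (.node (.node (.node (.node (.node (.leaf []) (.leaf [29718, -1909, 65340, 25866, -34855, 114, -7576,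 -16892, 825, 313, -44, -59, 40, 0, -1])) (.node (.leaf [0, 0, -1, 0, 1]) (.leaf [51, -14, 134, 59, -77, -1, -13, -41, 5, 3, 0, 1]))) (.node (.node (.leaf []) (.leaf [-6653, 1798, -18671, -8976, 11218, 358, 1272, 6538, -784, -624, 22, -16, 23])) (.node (.leaf [21621570, -6329497, 63984513, 31463660, -39524102, -1021082, -3565924, -22778882, 2816335, 1912602, -67593, 17322, -90000, -5223, -2054, -40, -3]) (.leaf [-6006, 643, -14026, -5897, 7745, 90, 1446, 3991, -281, -213, 15, 6, -1, 0, 1])))) (.node (.node (.node (.leaf []) (.leaf [2509, -513, 6494, 2931, -3790, -51, -569, -2051, 190, 173, 0, 6, -1])) (.node (.leaf [-3199, 167, -7178, -2939, 3900, 41, 756, 1947, -84, -75, 12, 6, -1]) (.leaf [-73684074, 7237722, -174028869, -74318837, 97206366, 1313394, 16770231, 50482085, -3278031, -2748322, 216811, 146046, 35985, 6354, -4168, -93, -3]))) (.node (.node (.leaf []) (.leaf [])) (.node (.leaf []) (.leaf [-71, 17, -463, -287, 410, -50, -53, 192, 21, -1, -2, -1, -2, 1]))))) (.node (.node (.node (.node (.leaf []) (.leaf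 [-27242545, 7046466, -70482452, -30997185, 39424805, 787911, 6369667, 22000623, -3855200, -382853, 31341, 50576, 101105, 10603, -3094, 125, 1])) (.node (.leaf []) (.leaf [260723920, -65612941, 713659078, 335986218, -422851102, -12163253, -52176788, -242298697, 29554187, 20059045, -787777, 507728, -834407, -22107, 1616, 41, 7]))) (.node (.node (.leaf [-54, -131, -982, -862, 1045, 68, -252, 642, 123, -205, 18, -7, 2, 0, -1]) (.leaf [-18838973, 5208741, -54657019, -26915248, 33613518, 1059153, 3228266, 19644536, -2150760, -2046435, 60532, -53622, 65880, 157, 176, 10, -1])) (.node (.leaf []) (.leaf [-708, 54, -1610, -669, 881, 6, 170, 451, -22, -25, 4, 1])))) (.node (.node (.node (.leaf []) (.leaf [-1856024, 428587, -5037170, -2365781, 2985891, 80945, 363241, 1697973, -193869, -135808, 5501, -1170, 5499, 219, -74, 1])) (.node (.leaf []) (.leaf [28396, 12460, 15085, -12276, 6979, 3910, -13448, 15405, -6025, -4544, 218, -297, 403, 10, -11]))) (.node (.node (.leaf []) (.leaf [])) (.node (.leaf [-932187328, 169347694,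 -2439425056, -1123047479, 1433298694, 32420547, 186800461, 793115050, -73773433, -62225597, 3156814, -102805, 1970325, 62312, -36823, -480, 5]) (.leaf [-708824, 188087, -1988402, -951356, 1192056, 38099, 134683, 688781, -85966, -59890, 2929, -1483, 2795, 74, -25])))))))

def twoL4 : Janko.Tree (List ℤ) :=
  (.node (.node (.node (.node (.node (.node (.node (.leaf [1]) (.leaf [0, 0, 0, 0, 1, 0, 0, 0, 0, 0, 0, 0, 0, 0, 0, 0, 0])) (.leaf [136469410, -27289006, 337363178, 146482319, -187130657, -4568337, -33064680, -103166224, 13650501, 5321004, -330050, 94869, -297414, -17635, 1495, 115, 7])) (.node (.leaf [-165969044, 43040789, -462026979, -219733720, 276295500, 7720252, 31694491, 158691615, -19525951, -12822580, 489694, -216419, 575887, 20277, -4603, 211, -1]) (.leaf []))) (.node (.node (.leaf []) (.leaf [])) (.node (.leaf [1]) (.leaf [472, -22, 1137, 498, -664, 6, -90, -335, 0, 19, -2, 1])))) (.node (.node (.node (.leaf []) (.leaf [9583174, -4638407, 33676137, 18208940, -22093274, -962295, -1056452, -13829114,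 1922348, 1755662, -41041, 77456, -70257, 100, -1106, -16, -1])) (.node (.leaf [29261, -6038, 77774, 36129, -45923, -1094, -5905, -25722, 2548, 2190, -88, 43, -65]) (.leaf [4179, -1077, 11687, 5607, -7050, -195, -800, -4059, 444, 401, -16, 14, -13]))) (.node (.node (.leaf [1]) (.leaf [11434236, -4375330, 38511593, 20680847, -25342335, -1000508, -1189118, -15502951, 1658492, 2088103, -59176, 78052, -65314, 1534, -849, 12, -1])) (.node (.leaf [3235797, -92186, 5942814, 1817442, -2589546, 58702, -1037268, -1057953, 138900, -212509, 3910, -22639, 4699, -1222, 481, -11, 1]) (.leaf [-16559340, -220118, -46727212, -23686501, 30958319, 165927, 1117350, 16129550, 654389, -1771551, 122490, 135343, 11080, -649, -4931, 74, 7]))))) (.node (.node (.node (.node (.leaf []) (.leaf [])) (.node (.leaf [-400, 50, -907, -370, 482, 7, 103, 254, -25, -9, 1]) (.leaf [-4, -5, -9, -5, 7, 0, -2, 4, 2, 1, 0, 0, 0, -1]))) (.node (.node (.leaf []) (.leaf [-20447742, 9351672, -66710096, -34433116, 41917224, 1800362, 3229965, 26017311, -4192080,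 -2756881, 73079, -151246, 143476, 1810, 929, 7])) (.node (.leaf [1]) (.leaf [31938, -6317, 75454, 31576, -40328, -843, -8311, -22301, 3280, 663, 86, -109, -17, -18])))) (.node (.node (.node (.leaf [1]) (.leaf [1])) (.node (.leaf [62707, -17252, 176310, 84478, -105725, -3436, -12197, -61279, 7756, 5617, -220, 114, -231, -8, 1]) (.leaf [2600573, -552576, 7682689, 3925079, -4916697, -167574, -365813, -2851418, 150936, 427355, -16584, 15496, -6079, 1024, -416, 11]))) (.node (.node (.leaf [1]) (.leaf [89513328, -25279530, 251484295, 120698476, -150607223, -5176554, -17650622, -88094683, 10994606, 8663962, -302746, 368314, -318019, -670, -5186, 160, 5])) (.node (.leaf [-99685463, 17731957, -266984375, -125739537, 160139990, 3748927, 18410853, 89095411, -7124086, -8148251, 389880, -33886, 211034, 891, -3714, -56, 1]) (.leaf [-167297, 37700, -449962, -210426, 265941, 7224, 33580, 150875, -16497, -12808, 450, -224, 415, 3, 5])))))) (.node (.node (.node (.node (.node (.leaf []) (.leaf [1])) (.node (.leaf [1]) (.leaf [61388,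 -16092, 170887, 81531, -102126, -3361, -12004, -59001, 7280, 5396, -228, 85, -219, -8, 1]))) (.node (.node (.leaf [-3, 0, -6, -1, 4, -1, 1, -1, 0, 1]) (.leaf [1])) (.node (.leaf [-332851, 80879, -929392, -444650, 560428, 15650, 61645, 319731, -35474, -28459, 1462, -618, 1176, 20, 7]) (.leaf [-22093966, 5024337, -58499554, -26856111, 34033682, 857010, 4650868, 19170298, -2357003, -1314237, 55294, -11831, 61673, 3091, -860, 18, -1])))) (.node (.node (.node (.leaf [-93077152, 24591195, -260890621, -124144753, 156292408, 4005808, 17370754, 89532180, -11486142, -6406565, 241538, -17376, 347773, 17829, -7270, 288, 1]) (.leaf [12757606, -1022997, 32606020, 15070085, -19587953, -289760, -2230003, -10336033, 292514, 922695, -61836, -31968, -9639, 82, 1142, -3])) (.node (.leaf [1260585, -315044, 3516709, 1680694, -2111590, -65755, -237171, -1212112, 141652, 107999, -5740, 2802, -4689, -82, 30, 1]) (.leaf [-149072308, 26390497, -372542515, -164213867, 210852887, 4234956, 33705099, 114925189, -12641954, -6469355, 385070,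 44156, 282968, 19393, -6738, -131, -3]))) (.node (.node (.leaf [197, 66, 508, 262, -350, 6, 16, -174, -36, 8, -2, -2]) (.leaf [-45, 19, -136, -67, 82, 0, 8, 52, -8, -3])) (.node (.leaf []) (.leaf [-699701826, 125251882, -1836120113, -848967205, 1082788158, 25306218, 138493025, 599987627, -53397159, -49770807, 2505646, -202319, 1449775, 30178, -24463, -475, -3]))))) (.node (.node (.node (.node (.leaf [1159, -121, 2734, 1160, -1515, -28, -267, -788, 60, 38, -4, 0, -1]) (.leaf [-7495, 1268, -19256, -8759, 11305, 187, 1613, 6120, -444, -579, 17, -12, 3])) (.node (.leaf [5960, -619, 14086, 5985, -7886, -58, -1391, -4043, 246, 225, -14, -6, 2, 0, -1]) (.leaf [4933509, -971092, 13129648, 6114257, -7771538, -192434, -970363, -4343467, 419949, 365081, -19305, 4526, -12196, -122, 149, 3]))) (.node (.node (.leaf []) (.leaf [19027, -5419, 55152, 26931, -33822, -908, -3390, -19549, 2249, 1887, -51, 55, -67, 1])) (.node (.leaf [545, -55, 1267, 533, -693, -11, -124, -366, 30, 12, -2, -1]) (.leaf [-33421069, 6998294, -91587637,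 -43610747, 55190499, 1461960, 6103369, 31176656, -2939483, -2867837, 134016, -35415, 91878, 1160, -1259, -13])))) (.node (.node (.node (.leaf [213799, -227049, 1021812, 597049, -698112, -42418, -9495, -474924, 104868, 56675, -1398, 5008, -4107, -26, -28, -1]) (.leaf [-5065810, 521432, -11243170, -4444968, 5894273, 35075, 1325820, 2956826, -299679, -902, 4243, 17650, 942, 1069, -492, 10, -1])) (.node (.leaf [-27349671, 5687451, -79395593, -39681487, 49972788, 1394402, 3920084, 28585658, -2035060, -3288669, 139212, -39476, 79831, -1435, -1168, -32, 1]) (.leaf [1433, -80, 3317, 1404, -1852, -22, -314, -939, 36, 47, -6, -3]))) (.node (.node (.leaf [1]) (.leaf [-73251774, 9370317, -186768399, -84991158, 109921411, 1627014, 14229025, 58907191, -3722460, -4378653, 242986, 129848, 91820, 2646, -5646, 45, 1])) (.node (.leaf [1120466715, -200235937, 2967183612, 1385116239, -1763940578, -43284669, -216038893, -980982636, 82007591, 88841243, -4307118, 755617, -2282491, -11946, 24223, 1196, 31]) (.leaf [-6245024, 2006496,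 -19926936, -10477354, 12902407, 522706, 774016, 7783901, -738064, -1080479, 40893, -42786, 30343, -1368, 435, -23])))))))

def twoL5 : Janko.Tree (List ℤ) :=
  (.node (.node (.node (.node (.node (.node (.node (.leaf []) (.leaf [0, 0, 0, 0, 0, 1, 0, 0, 0, 0, 0, 0, 0, 0, 0, 0, 0])) (.leaf [-845, 70, -1864, -755, 981, 29, 219, 511, -39, -30, 3, 1, 1])) (.node (.leaf []) (.leaf [0, 1]))) (.node (.node (.leaf []) (.leaf [0, 1])) (.node (.leaf [-467, 51, -1116, -477, 628, 6, 109, 323, -19, -21, 1]) (.leaf [-23316227, -17916698, -36595387, -14469225, 24308219, -1770316, 1691150, 5293015, 10583284, -2558696, 279820, 425138, -312602, -20871, -8970, -232, 1])))) (.node (.node (.node (.leaf []) (.leaf [-9573603, 1479474, -25273515, -11858191, 15153606, 344852, 1774985, 8361466, -541513, -824025, 39057, -5210, 14994, -438, 30, -21])) (.node (.leaf [0, 1]) (.leaf [15073, -2938, 39160, 17818, -22857, -376, -3193, -12581, 1198, 951, -36, 31, -23]))) (.node (.node (.leaf []) (.leaf [-4090846, 1071069, -11214782, -5252882, 6608740,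 187366, 826471, 3785501, -510789, -268729, 12448, -3785, 14984, 631, -223, 9])) (.node (.leaf []) (.leaf [0, 1]))))) (.node (.node (.node (.node (.leaf []) (.leaf [])) (.node (.leaf [206, -52, 520, 225, -290, -9, -57, -156, 24, 12, 1]) (.leaf [32732492, -7635190, 82864804, 35987768, -46012129, -841958, -7771012, -25345635, 4175912, 430506, -37568, -67192, -102645, -11597, 3558, -133]))) (.node (.node (.leaf [0, 1]) (.leaf [63, 8, 147, 63, -90, 2, -11, -37, -5, 3, -1])) (.node (.leaf [-35295, 11599, -105472, -52486, 65360, 1894, 6140, 38615, -4708, -4071, 30, -105, 131, 2, 7]) (.leaf [-2823, 245, -7238, -3315, 4370, 22, 518, 2244, -43, -202, 11, -1, 1])))) (.node (.node (.node (.leaf []) (.leaf [236287, -51519, 620359, 284502, -361435, -7807, -49819, -203130, 22608, 14839, -140, -5, -416, -34, -11])) (.node (.leaf [0, 1]) (.leaf [0, 1]))) (.node (.node (.leaf []) (.leaf [-55257378, -8934156, -108626623, -40864689, 58576557, -1511659, 11906508, 23459856, 4666042, -198090, 222922, 542182, -193147, 916, -12623, 5,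 1])) (.node (.leaf [3410853, 9071171, -10815894, -10107390, 9576986, 1649050, -1482310, 9900061, -4406449, -1541266, -26353, -240330, 159996, 3036, 3630, 54, -1]) (.leaf [-27716, 6049, -73490, -34014, 43118, 1062, 5724, 24324, -2614, -1987, 61, -42, 67, -1])))))) (.node (.node (.node (.node (.node (.leaf [0, 1]) (.leaf [-7, 0, -12, -4, 4, 1, 2, 3])) (.node (.leaf []) (.leaf [-3752, 130, -8773, -3776, 5001, 45, 777, 2516, -26, -166, 18, 5, -2]))) (.node (.node (.leaf [0, 1]) (.leaf [5, 2, 8, 5, -3, 0, 1, -6, 0, 0, 0, -1])) (.node (.leaf [0, 1]) (.leaf [-8058, 749, -18439, -7657, 10071, 88, 1953, 5180, -322, -250, 18, 12, -2])))) (.node (.node (.node (.leaf []) (.leaf [1714, 5, 3515, 1318, -1783, -23, -443, -833, 25, -5, -7, -6, 1])) (.node (.leaf [1136, -110, 2755, 1204, -1583, -23, -253, -811, 37, 67, -3, 0, -1]) (.leaf [0, 1]))) (.node (.node (.leaf []) (.leaf [])) (.node (.leaf []) (.leaf [0, 1]))))) (.node (.node (.node (.node (.leaf [0, 1]) (.leaf [-43869, -3548, -102454, -46731, 62659, 306, 7406, 30784,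 4091, -5090, 196, -51, -158, -32, 9])) (.node (.leaf [0, 1]) (.leaf [0, 1]))) (.node (.node (.leaf []) (.leaf [18660, -5405, 54327, 26597, -33372, -907, -3305, -19334, 2240, 1885, -49, 56, -67, 1])) (.node (.leaf [0, 1]) (.leaf [2298, -144, 5199, 2137, -2839, -20, -548, -1419, 63, 60, -8, -3, 1])))) (.node (.node (.node (.leaf []) (.leaf [286500577, -25385718, 691301050, 301919161, -395076714, -4481721, -60389309, -205123364, 10515296, 12350083, -900401, -812606, -139648, -21120, 26236, -48, 3])) (.node (.leaf []) (.leaf [9932378, -1546342, 25435065, 11558196, -14836133, -309961, -2024615, -8084876, 670158, 615115, -36932, -4265, -17319, -650, 287, 11]))) (.node (.node (.leaf [6, 0, 12, 4, -6, 1, -2, -3]) (.leaf [])) (.node (.leaf [-484147686, 84052181, -1208476160, -531483428, 684092613, 12260900, 108897236, 370804789, -40653853, -18939097, 1068162, 491623, 864153, 73984, -25164, 340, -13]) (.leaf [0, 1])))))))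

def twoL6 : Janko.Tree (List ℤ) :=
  (.node (.node (.node (.node (.node (.node (.node (.leaf []) (.leaf [0, 0, 0, 0, 0, 0, 1, 0, 0, 0, 0, 0, 0, 0, 0, 0, 0])) (.leaf [])) (.node (.leaf [0, 0, 1]) (.leaf [-17812158, 4175921, -45791273, -20471110, 25917396, 736311, 4164005, 14615452, -2023618, -943213, 49728, -35944, 49732, 2124, 476, -34, -1]))) (.node (.node (.leaf []) (.leaf [1291225, -241584, 3498675, 1665279, -2115753, -51500, -235292, -1186243, 89926, 121178, -4590, 1854, -2439, 85, -18, 1])) (.node (.leaf [2, 1, 4, 2, -2, -1, 0, -1]) (.leaf [0, 0, 1])))) (.node (.node (.node (.leaf [-22141, 5624, -63386, -30794, 38907, 966, 3885, 22150, -2282, -2134, 78, -58, 68, -1]) (.leaf [0, 0, 1])) (.node (.leaf [27948, -5952, 74621, 34751, -44106, -1084, -5643, -24791, 2522, 2137, -84, 44, -65]) (.leaf [0, 0, 1]))) (.node (.node (.leaf []) (.leaf [4006027, -2367061, 15481808, 8705690, -10450379, -499494, -265246, -6704302, 987120, 884436, -15734, 38476, -37809, 161, 117, -31, 1])) (.node (.leaf [23830888, -1512104,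 50183933, 18835769, -25427102, 5162, -6514297, -12141986, 1018475, -291534, -28628, -97558, 9858, -5035, 2022, -7, 3]) (.leaf [-17664, 4951, -51897, -25708, 32209, 866, 2917, 18740, -1957, -1963, 63, -63, 63, 3, -1]))))) (.node (.node (.node (.node (.leaf []) (.leaf [-3322244743, 674122910, -8721870483, -4001344984, 5090992536, 120276007, 685385858, 2839227905, -307417575, -205207340, 9774569, -860231, 8082801, 355570, -134003, 137, -35])) (.node (.leaf [0, 0, 1]) (.leaf [0, 0, 1]))) (.node (.node (.leaf []) (.leaf [0, 0, 1])) (.node (.leaf [22324, -4320, 57943, 26332, -33861, -590, -4818, -18497, 1718, 1496, -34, 41, -34, 0, -1]) (.leaf [-38970836, 6970501, -105032532, -49716964, 63275423, 1508451, 7061371, 35257978, -2771325, -3299964, 155930, -14410, 83868, 515, -1611, -25])))) (.node (.node (.node (.leaf [89, -26, 259, 124, -163, 0, -20, -86, 8, 10, 0, 0, 0, 1]) (.leaf [381, 1, 582, 138, -197, 2, -142, -80, 6, -16, 2, -2, 1])) (.node (.leaf [15220, -4361, 40839, 18722, -23460, -720, -3430, -13583, 2122, 876,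 -24, 35, -63, -2, 1]) (.leaf [-12756022, 1022877, -32602696, -15068838, 19586257, 289809, 2229583, 10335206, -292467, -922729, 61843, 31964, 9644, -82, -1142, 3]))) (.node (.node (.leaf [-6, 0, -7, -2, 2, 0, 2, 2]) (.leaf [82222630, -23935887, 228376389, 108338018, -135100856, -4694694, -17103005, -79151374, 10708108, 7303499, -234854, 341648, -292697, -3034, -5076, 120, 7])) (.node (.leaf [5695, -1684, 19310, 10379, -13035, -389, -468, -7511, 546, 1047, -56, 36, -26, 1]) (.leaf [18376511, -4792604, 50709144, 23952771, -30100460, -871551, -3630854, -17306316, 2199576, 1377142, -54749, 30350, -64078, -2253, 372, -7])))))) (.node (.node (.node (.node (.node (.leaf []) (.leaf [])) (.node (.leaf [438, 5, 978, 405, -546, -10, -99, -258, -6, 21, -2]) (.leaf [0, 0, 1]))) (.node (.node (.leaf [-1, 0, -2, -1, 2, -1, -1, 1, 0, 1]) (.leaf [-27473, 5915, -73509, -34284, 43485, 1078, 5531, 24482, -2508, -2118, 82, -44, 65])) (.node (.leaf [-77920, 16340, -214746, -103063, 130248, 3472, 13955, 73981, -6399, -7484, 324, -182,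 180, -2, 3]) (.leaf [-83847558, 17205734, -218172785, -100425609, 126900954, 4079274, 18189958, 71881489, -7148661, -7185321, 292058, -279145, 160725, -3845, 5710, -325, -11])))) (.node (.node (.node (.leaf []) (.leaf [34785668, -7184284, 93894897, 44189757, -56038819, -1417417, -6659795, -31520456, 3034417, 2787056, -119275, 34532, -85276, -1444, 278, 17])) (.node (.leaf [-378244, 71533, -1017947, -482651, 612114, 16301, 71195, 344390, -26825, -36284, 1468, -790, 721, -28, 12, -1]) (.leaf [-383713922, 52009589, -967937955, -434916861, 562143933, 8843590, 77870381, 301386569, -22813536, -19546063, 1160776, 770768, 527846, 37719, -35682, 387, -1]))) (.node (.node (.leaf []) (.leaf [0, 0, 1])) (.node (.leaf []) (.leaf [-49392596, 10333196, -132417714, -61808316, 78394518, 1990538, 9686599, 44033918, -4599027, -3542897, 171715, -27313, 131811, 4266, -1702, 7]))))) (.node (.node (.node (.node (.leaf []) (.leaf [-3787, 610, -9535, -4267, 5520, 93, 842, 2969, -224, -257, 7, -6, 1])) (.node (.leaf [1, -2, 8, 3, -4,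 0, -1, -2, 1]) (.leaf [-638652339, 221064408, -1884022536, -922215519, 1141606430, 40676952, 119656147, 681004750, -100966640, -61432110, 1948663, -2723100, 3138953, 74154, 16909, 131, 3]))) (.node (.node (.leaf [0, 0, 1]) (.leaf [465555, -95465, 1271717, 607372, -769121, -20349, -86395, -434766, 35988, 45936, -1634, 1085, -966, 33, -18, 1])) (.node (.leaf [3861, -361, 8479, 3373, -4455, -11, -995, -2283, 168, 45, 0, -6, 3]) (.leaf [0, 0, 1])))) (.node (.node (.node (.leaf []) (.leaf [18548013, 6675821, 29568920, 8922961, -14687716, 1061761, -4176929, -3521742, -3414589, -343839, -100069, -249952, 125086, 2331, 5166, 60, -1])) (.node (.leaf [1179932, -325936, 3251607, 1522991, -1910665, -58504, -241320, -1100894, 158889, 75770, -4078, 1914, -4893, -209, 57, -1]) (.leaf [0, 0, 1]))) (.node (.node (.leaf []) (.leaf [-43606844, 15292477, -118783560, -54110255, 67178175, 2373060, 10533677, 39770003, -7810620, -2052257, 72904, -175238, 211402, 12608, 648, -73, 3])) (.node (.leaf []) (.leaf [32670, 738, 57456, 17718,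 -25708, 831, -10627, -10316, -795, -304, 188, -120, 194, 8, -3])))))))

def twoL7 : Janko.Tree (List ℤ) :=
  (.node (.node (.node (.node (.node (.node (.node (.leaf []) (.leaf [0, 0, 0, 0, 0, 0, 0, 1, 0, 0, 0, 0, 0, 0, 0, 0, 0])) (.leaf [16060642, -14122528, 64546444, 35651365, -41616590, -2673118, -2437924, -28425258, 6537322, 3394141, -50098, 329932, -221766, -1932, -5534, 27])) (.node (.leaf []) (.leaf [-11029225, -2353024, -32736555, -18175598, 24039963, 2787, -426383, 12200319, 2208808, -2449266, 100318, 114808, -44856, -8895, -1814, 121, -2]))) (.node (.node (.leaf []) (.leaf [1192, -132, 3154, 1479, -1931, -19, -212, -1013, 30, 106, -8, 1, -1])) (.node (.leaf []) (.leaf [-1414461039, 272601888, -3730736383, -1726410252, 2197198098, 53141119, 283436583, 1224294485, -118196954, -100287819, 4730140, -804438, 3156250, 75274, -34140, -617, -37])))) (.node (.node (.node (.leaf []) (.leaf [-31268615, 1445603, -84805432, -42594211, 54371774, 1868649, 4267504, 29917796, 992078, -5578528, 311832, -174160, -4011,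 -17418, 4586, -382, -3])) (.node (.leaf [1625404, 11466, 4079851, 1944302, -2549534, -43271, -268303, -1322070, -99904, 238512, -10652, 5812, 3480, 1011, -358, 17]) (.leaf [6036, -1306, 16045, 7416, -9474, -155, -1240, -5279, 519, 423, -11, 16, -11]))) (.node (.node (.leaf [73246608, -30094023, 238257050, 124232064, -151796369, -6627147, -10687061, -93305921, 12610676, 11541623, -391802, 608274, -456726, 5026, -9086, 150, -1]) (.leaf [1, 1, 0, 0, 1, -1])) (.node (.leaf [1, 1, 3, 3, -4, -1, 2, -2, -1, 0, 0, 1]) (.leaf [-14624, 4721, -44674, -22600, 28113, 823, 2250, 16652, -1869, -1830, 47, -65, 63, 3, -1]))))) (.node (.node (.node (.node (.leaf []) (.leaf [-1916, 166, -4664, -2041, 2709, -8, 402, 1374, -40, -90, 5, 2, -1])) (.node (.leaf [23, 2, 46, 19, -24, 1, -3, -14, -1, -1]) (.leaf [11490867, -10590013, 46897784, 25562569, -29940663, -1765062, -1686479, -20248050, 5305601, 1675143, -24547, 153104, -185614, -7665, -1326, -118, -1]))) (.node (.node (.leaf []) (.leaf [-1, -1, -1, 0, 0, 1])) (.node (.leaf [3198,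 -553, 8419, 3878, -4995, -109, -644, -2702, 221, 235, -12, 7, -5]) (.leaf [-3028, 253, -7711, -3514, 4637, 23, 562, 2374, -46, -207, 12, -1, 1])))) (.node (.node (.node (.leaf []) (.leaf [-2406, 147, -5344, -2177, 2886, 21, 592, 1453, -55, -75, 6, 3, -1])) (.node (.leaf [-92583, 22600, -257510, -123412, 154721, 4819, 17040, 89365, -10034, -8064, 372, -165, 305, 6, -3]) (.leaf [-156408990, 13020453, -372170407, -160013148, 210349552, 1787171, 33742667, 107902773, -5969380, -4967219, 452704, 575910, 77814, 18568, -18428, 171, -1]))) (.node (.node (.leaf [-11328, -41937, -56804, -56958, 79911, -1624, -19947, 35573, 34334, -25485, 664, -46, -929, -148, 36, -1]) (.leaf [20020530, 9338462, 10543728, -8579804, 5649875, 2296615, -8647496, 10529245, -3446610, -4254136, 35798, -388096, 203403, -7771, 6726, 15, 5])) (.node (.leaf [1, 0, 0, 1, 0, 0, 0, -1]) (.leaf [2996, -283, 6672, 2694, -3548, -33, -763, -1819, 133, 61, -2, -4, 1])))))) (.node (.node (.node (.node (.node (.leaf []) (.leaf [-9021, 1556, -22926, -10289,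 13306, 147, 1963, 7191, -594, -534, 11, -6, 7, 0, 1])) (.node (.leaf [2264, -191, 4937, 1965, -2586, -27, -589, -1327, 92, 45, -2, -4, 1]) (.leaf [-77930, 16922, -203350, -92877, 117355, 3244, 16717, 66436, -8052, -4774, 253, -1, 201, 12, 3]))) (.node (.node (.leaf [-2417292, 1047952, -9317195, -5330366, 6507201, 241919, 4337, 4018372, -379496, -557847, 17612, -13420, 19453, -208, -438, 6, 1]) (.leaf [-5724, 1702, -16464, -8024, 9978, 337, 1058, 5887, -745, -575, 18, -17, 23])) (.node (.leaf []) (.leaf [-3233, 1526, -13355, -7740, 9587, 338, -24, 5714, -502, -900, 43, -36, 26, -1])))) (.node (.node (.node (.leaf []) (.leaf [-1029, 99, -2604, -1179, 1549, 9, 198, 803, -25, -67, 5])) (.node (.leaf [383, -52, 994, 460, -599, -1, -73, -319, 13, 29, -1]) (.leaf [-32623108, 7601407, -82544716, -35830302, 45816887, 835038, 7751802, 25229804, -4160736, -419497, 37204, 67468, 102164, 11585, -3558, 133]))) (.node (.node (.leaf []) (.leaf [-668373, 98164, -1826894, -885942, 1129745, 27046, 108550, 627199, -27732, -75328,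 3466, -1182, 999, -140, 8, -1])) (.node (.leaf [24805, -10062, 87290, 47809, -58147, -2866, -2067, -35935, 4066, 5136, -342, 282, -228, 10, 4]) (.leaf [-46267754, 5319420, -99610588, -37557265, 50139658, 101317, 13029560, 24733289, -3354823, 945371, 3866, 164994, 15256, 13427, -4753, 75, -7]))))) (.node (.node (.node (.node (.leaf []) (.leaf [51, 11, 106, 40, -58, 1, -10, -22, -5, 0, -1])) (.node (.leaf []) (.leaf []))) (.node (.node (.leaf []) (.leaf [107202388, -28155281, 307849839, 150487953, -188537963, -5667402, -18508800, -109273901, 11852874, 10790677, -400450, 253818, -381736, -2816, 640, -21, -1])) (.node (.leaf [-56860566, 33566671, -214435529, -119487875, 143051344, 7489532, 5438931, 92295027, -13727908, -13197820, 330274, -805958, 523009, -10397, 12970, -149, 1]) (.leaf [-6361085, 936657, -18596747, -9668800, 12091984, 494405, 784692, 7010408, -97750, -1267590, 59284, -49264, 10179, -3415, 945, -81])))) (.node (.node (.node (.leaf []) (.leaf [24, 8, 42, 15, -19, -1, -3, -10, -3, -1])) (.node (.leaf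 []) (.leaf [-23712, 5764, -66183, -31658, 40037, 965, 4407, 22750, -2382, -2067, 70, -52, 66, -2]))) (.node (.node (.leaf []) (.leaf [3734, -204, 7874, 3027, -4031, -11, -970, -2011, 115, 3, -4, -7, 3])) (.node (.leaf []) (.leaf [-3583, 193, -8198, -3423, 4553, 24, 825, 2269, -68, -122, 16, 5, -1])))))))

def twoL8 : Janko.Tree (List ℤ) :=
  (.node (.node (.node (.node (.node (.node (.node (.leaf []) (.leaf [2, 0, 2, 1, 0, 0, 0, -1])) (.leaf [])) (.node (.leaf []) (.leaf [-144528168, 26332486, -386538512, -181588032, 231150074, 5494200, 27064652, 128744222, -10801412, -11523956, 553166, -55590, 316091, 3195, -5538, -73]))) (.node (.node (.leaf [1]) (.leaf [-121963, 27598, -338028, -162095, 204647, 5359, 22221, 116606, -11140, -11321, 441, -277, 309, 2, 3])) (.node (.leaf [-1, 3, -8, -2, 4, -1, 2, 1, -1]) (.leaf [493328, -121620, 1418032, 698334, -877213, -25499, -83145, -506044, 45907, 57129, -1814, 1618, -1381, 34, -26, 1])))) (.node (.node (.node (.leaf [1]) (.leaf [2915190, -704125, 7742170, 3538681, -4481137,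 -108748, -619874, -2529087, 345136, 144041, -6384, 112, -9267, -600, 188, -5])) (.node (.leaf [-2240, -58, -5392, -2404, 3219, 34, 399, 1563, 70, -158, 24, -2, -2, 1]) (.leaf [-2110802, 1248101, -3285401, -40971, 102058, -39509, 1245385, -56691, -1100864, 934999, -16860, 33886, 26344, 5626, -1162, 64, 1]))) (.node (.node (.leaf []) (.leaf [112809, -15821, 265878, 111830, -146546, -1150, -28027, -76497, 6574, 3887, 26, -47, 1, 2, -11])) (.node (.leaf []) (.leaf [-169550605, 39560283, -420775174, -180997898, 230899534, 5134746, 42881678, 128148536, -20159807, -4816102, 150778, -131757, 403709, 33530, -545, 44, -17]))))) (.node (.node (.node (.node (.leaf [-4, 1, -12, -5, 8, 0, 2, 2, 0, -1]) (.leaf [1])) (.node (.leaf [46039572, -6736351, 117617572, 54055081, -69064020, -1871884, -9453669, -38052950, 2415105, 4063851, -216552, 104852, -57821, 6190, -2410, 214, 1]) (.leaf [19, -6, 54, 25, -34, -1, -5, -15, 2, 2]))) (.node (.node (.leaf [-4583485, 1183927, -12576614, -5902567, 7430169, 208344, 918358, 4251591, -557512,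 -312257, 14322, -4824, 16441, 633, -218, 9]) (.leaf [1])) (.node (.leaf [-60, -1663, 4209, 3161, -3583, -232, 293, -2650, 638, 524, 12, 49, -29, 0, 1]) (.leaf [-217121, 50326, -593224, -280498, 354296, 9396, 42082, 201482, -21433, -17944, 626, -369, 568, 5, 3])))) (.node (.node (.node (.leaf [347342177, -194020874, 1238309575, 665785878, -801358248, -38221758, -43896252, -510704091, 86080389, 59171996, -1459780, 3495779, -3100281, -33119, -30832, -166, -29]) (.leaf [-153, 70, -740, -448, 573, 14, -16, 316, -12, -61, 2, -2, 1])) (.node (.leaf [235226, -62501, 647761, 305432, -383117, -11963, -47474, -221017, 28911, 18002, -750, 477, -821, -32, 3]) (.leaf [-1825018, 530465, -5433475, -2718709, 3376686, 125050, 293786, 1992817, -223334, -222325, 11022, -8538, 8537, -105, -12, -3]))) (.node (.node (.leaf []) (.leaf [1970591, -449346, 5276521, 2448391, -3096508, -86047, -405307, -1750258, 206677, 136726, -6970, 2551, -5884, -193, 17, 1])) (.node (.leaf [1]) (.leaf [-49269775, 9905546, -129341647, -59286147, 75534906,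 1710351, 10142697, 41985062, -4533744, -2956461, 144374, 2020, 120012, 5284, -2394, 42, -1])))))) (.node (.node (.node (.node (.node (.leaf []) (.leaf [964514554, -280085376, 2772432250, 1348064549, -1681934578, -54832725, -177017261, -984363212, 122785639, 93619442, -3359200, 3142011, -3806393, -55192, -16075, 290, 13])) (.node (.leaf [977, -50, 2233, 935, -1235, -21, -222, -622, 23, 35, -4, -1]) (.leaf [20356434, -3313453, 50036514, 21748196, -28043120, -518736, -4666630, -15103919, 1662184, 694802, -48968, -28611, -35117, -3410, 1657, -21, 1]))) (.node (.node (.leaf [-18923426, 19567532, -83713199, -47825975, 55318240, 3840656, 2265349, 38524154, -8994066, -4955914, 77360, -475058, 315229, 2380, 8028, -30, -1]) (.leaf [1])) (.node (.leaf [-4, 0, -12, -5, 5, 0, 0, 4, 0, 0, 0, 0, 0, 1]) (.leaf [1])))) (.node (.node (.node (.leaf [1]) (.leaf [15076250, -3755880, 41491454, 19647304, -24717887, -713700, -2947285, -14176305, 1666558, 1221418, -48136, 29712, -48241, -1040, 64, 7])) (.node (.leaf [-13072798, 2752112,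 -28006394, -9720191, 12975727, -101158, 4116643, 6382485, -2049284, 1268960, -28088, 101594, 38014, 10307, -3250, 128]) (.leaf [114099710, -8027818, 249816233, 99070592, -131732370, -1292226, -29594989, -65419081, 4180074, 1971374, -315988, -203996, 23530, -7792, 2328, 295, 9]))) (.node (.node (.leaf [-39434, 8773, -107030, -50585, 63983, 1544, 7570, 36379, -3526, -3324, 72, -88, 89, -2, 1]) (.leaf [])) (.node (.leaf [-137992154, 33091230, -370367262, -171339984, 216686068, 5485942, 28498836, 122716676, -15574875, -8387206, 363368, -93248, 429989, 21005, -5268, 90, 1]) (.leaf [386074732, -209814846, 1369277183, 735731567, -886861990, -41695724, -48119655, -563228202, 92580120, 65642914, -1664558, 3727694, -3356259, -32819, -31180, -204, -33]))))) (.node (.node (.node (.node (.leaf []) (.leaf [-62, 13, -153, -66, 86, 0, 16, 46, -5, -3])) (.node (.leaf [822, 137, 492, -355, 370, 24, -413, 354, 62, -235, -1, -22, -3, 0, -1]) (.leaf [97984281, -14917012, 253696428, 116702037, -149740460, -3016290, -19159087, -81793531,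 6007915, 6831561, -346700, -38043, -153008, -1765, 4177, 51]))) (.node (.node (.leaf []) (.leaf [1])) (.node (.leaf []) (.leaf [-20187124, 6131206, -57684285, -27827970, 34657892, 1165527, 3887210, 20366568, -2770008, -1829589, 62168, -67476, 83153, 1789, 167, 1, -1])))) (.node (.node (.node (.leaf []) (.leaf [0, 0, -4, -3, 4, 0, -1, 2])) (.node (.leaf [1]) (.leaf [1]))) (.node (.node (.leaf []) (.leaf [1])) (.node (.leaf [1]) (.leaf [-13802, 3733, -39486, -19158, 24027, 753, 2502, 13878, -1609, -1338, 56, -44, 47, 3])))))))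

def twoL9 : Janko.Tree (List ℤ) :=
  (.node (.node (.node (.node (.node (.node (.node (.leaf [0, 1]) (.leaf [0, 0, 0, 0, 0, 0, 0, 0, 1, 0, 0, 0, 0, 0, 0, 0, 0])) (.leaf [-112, 46, -288, -125, 160, 6, 42, 88, -16, -16, -2])) (.node (.leaf []) (.leaf [747809, -176334, 2057762, 976738, -1232139, -34115, -143373, -701732, 76594, 62765, -2774, 1190, -2304, -30, -16]))) (.node (.node (.leaf [-14743, 3544, -40552, -19285, 24269, 727, 2858, 13906, -1504, -1326, 46, -36, 44]) (.leaf [-42992, 11136, -120149, -57483, 72336, 1898, 8147, 41586, -4728, -3740, 108, -92, 130, 3])) (.node (.leaf [0, 1]) (.leaf [0, 1])))) (.node (.node (.node (.leaf []) (.leaf [])) (.node (.leaf []) (.leaf [-9343154, 2023153, -22993600, -9714501, 12466100, 245923, 2310706, 6767386, -1208693, 21383, 20913, 28387, 30888, 4082, -1302, 43]))) (.node (.node (.leaf []) (.leaf [0, 1])) (.node (.leaf [0, 1]) (.leaf [398, -137, 1278, 656, -836, -12, -66, -473, 39, 70, -3, 5, -1]))))) (.node (.node (.node (.node (.leaf [0, 1]) (.leaf [-150796, 25678, -416226,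 -203402, 257652, 7492, 25381, 145287, -7369, -19243, 722, -447, 228, -39, 17, -1])) (.node (.leaf []) (.leaf [0, 1]))) (.node (.node (.leaf []) (.leaf [-8634408, 1323984, -20873483, -8950058, 11588613, 196135, 2038889, 6179248, -661468, -269637, 18528, 12329, 11782, 1330, -524, 7, -1])) (.node (.leaf [-67, -22, -144, -71, 90, 4, 4, 49, 13, -11, 2]) (.leaf [0, 1])))) (.node (.node (.node (.leaf [0, 1]) (.leaf [211, -36, 513, 218, -285, -5, -56, -149, 15, 12])) (.node (.leaf [11221, -1231, 27537, 12194, -15845, -257, -2368, -8392, 465, 639, -44, 7, -7]) (.leaf [-1122727, 199609, -2994414, -1412096, 1793705, 47884, 212742, 1003816, -76114, -103736, 5036, -1959, 2216, -95, 52, -3]))) (.node (.node (.leaf [0, 1]) (.leaf [130686855, -11640280, 314221687, 136265341, -178705502, -1630264, -27683100, -92253414, 5294797, 4460792, -382699, -481046, -84459, -15748, 16140, -171, -1])) (.node (.leaf [-123859, 21152, -311727, -136851, 177023, 3199, 27843, 94312, -10901, -4307, 622, 84, 341, 28, 3]) (.leaf [0, 1])))))) (.node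 (.node (.node (.node (.node (.leaf []) (.leaf [0, 1])) (.node (.leaf [0, 1]) (.leaf [124281489, -32103310, 351481976, 169582728, -212907328, -6162239, -22443706, -122718997, 14076762, 11004727, -435400, 206701, -439014, -9800, 1910, -106, -3]))) (.node (.node (.leaf []) (.leaf [-6771056, 1565966, -18530912, -8758860, 11045035, 320710, 1301958, 6285857, -704382, -535541, 27896, -9955, 22252, 481, -252, -1])) (.node (.leaf []) (.leaf [-54104, 11986, -146465, -68798, 87230, 2117, 10628, 49189, -5039, -4289, 159, -91, 129, 1])))) (.node (.node (.node (.leaf []) (.leaf [5707682, -1333025, 15818728, 7552894, -9528136, -256013, -1051611, -5429974, 574725, 480874, -19995, 7907, -17490, -280, 192, -3])) (.node (.leaf [3238765, -607872, 8943287, 4326317, -5476927, -152433, -555188, -3091539, 220184, 345793, -16857, 7780, -7669, 378, -21, 9]) (.leaf [147359, -35738, 406837, 191085, -241870, -6543, -28624, -136103, 17373, 9584, -907, 214, -667, -21, 2]))) (.node (.node (.leaf [0, 1]) (.leaf [21098376, -5040675, 57303490,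 26891742, -33906987, -964425, -4226398, -19331321, 2259132, 1614778, -69398, 37402, -64227, -1584, 134, 10])) (.node (.leaf [0, 1]) (.leaf [398910719, -210270325, 1393998900, 743944134, -898322587, -41541116, -52026455, -568214102, 93069184, 65086686, -1666196, 3660216, -3341633, -36375, -29889, -211, -31]))))) (.node (.node (.node (.node (.leaf []) (.leaf [1302762, -326608, 3636950, 1739087, -2184687, -67815, -244775, -1254661, 146532, 112014, -5821, 2876, -4821, -92, 28, 1])) (.node (.leaf []) (.leaf []))) (.node (.node (.leaf [781, -69, 1836, 784, -1025, -13, -172, -536, 28, 28, -1]) (.leaf [94866372, -21772576, 263491154, 126453085, -159376121, -4497318, -17301214, -90999933, 9066960, 8781308, -363710, 180309, -278756, -1308, 71, 83, -1])) (.node (.leaf [-154, 254, 71, 352, -423, -69, 167, -228, -196, 272, -31, -1, -3, 0, 1]) (.leaf [-147653016, 4737729, -335184669, -139743358, 186445760, 635796, 32753678, 91940624, -1719230, -3997980, 442480, 644772, -78399, 11425, -16586, -15, -3])))) (.node (.node (.node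 (.leaf [0, 1]) (.leaf [5052, -267, 7586, 1433, -2333, 267, -2061, -686, 219, -494, 38, -20, 19, 0, 1])) (.node (.leaf []) (.leaf [1671284, -444914, 4784955, 2327274, -2914551, -89241, -292544, -1689010, 195672, 155117, -6312, 3289, -6417, -160, 79, -1]))) (.node (.node (.leaf [0, 1]) (.leaf [2398, 530, 4430, 1731, -2315, -80, -504, -1076, -257, 163, -28, -24, 8, 0, -1])) (.node (.leaf [-5344870, 1331369, -15128801, -7327821, 9197967, 282091, 949314, 5297418, -573866, -508295, 23688, -11895, 19142, 202, -80, -1]) (.leaf [-411516, 51968, -1009170, -443345, 574711, 11450, 90960, 305103, -22630, -21909, 1944, -310, 495, 0, -5, -1])))))))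

def twoL10 : Janko.Tree (List ℤ) :=
  (.node (.node (.node (.node (.node (.node (.node (.leaf []) (.leaf [0, 0, 0, 0, 0, 0, 0, 0, 0, 1, 0, 0, 0, 0, 0, 0, 0])) (.leaf [])) (.node (.leaf []) (.leaf [-82088450, 18038396, -227924247, -109487266, 138238092, 3793524, 14654595, 78555932, -7479958, -7529048, 328176, -115894, 234971, 1836, -1236, -18, -1]))) (.node (.node (.leaf []) (.leaf [0, 0, 1])) (.node (.leaf [390, -41, 918, 393, -512, -4, -88, -271, 16, 15, -1]) (.leaf [-434, 99, -1048, -440, 572, 12, 127, 303, -42, -25, -1])))) (.node (.node (.node (.leaf [-1, 0, 1, 0, -1, 0, 0, 1]) (.leaf [-5380, 378, -11512, -4485, 5947, 21, 1401, 3005, -194, -35, 4, 10, -4])) (.node (.leaf [-5824, 18, -13493, -5785, 7704, 142, 1230, 3771, 34, -334, 54, -2, 2, -3]) (.leaf [-45842281, 11720723, -126270952, -59431277, 74920938, 1953610, 8985698, 42765118, -5471474, -3084226, 127538, -29240, 159760, 7113, -1806, 96, 1]))) (.node (.node (.leaf [0, 0, 1]) (.leaf [-3641, 278, -7695, -2833, 3893, -42, 996, 1800, -168, 120, -14, 7,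 -7, 0, 1])) (.node (.leaf []) (.leaf [-6116282, 736908, -14114181, -5818358, 7628325, 85231, 1518951, 3942303, -383790, -104676, 8598, 15213, 3406, 1006, -458, 7, -1]))))) (.node (.node (.node (.node (.leaf [11, -9, 47, 23, -30, 0, -3, -16, 4, 1]) (.leaf [-33124278, 7955538, -90967275, -43070317, 54253866, 1558171, 6407991, 30999973, -3528863, -2679318, 117636, -57899, 105018, 2357, -572, -13])) (.node (.leaf [-218, -270, 687, 709, -847, -11, 178, -573, 45, 174, -1, 10, -1, -1]) (.leaf [-4, -22, 21, 13, -14, -2, -3, -11, 11, 0, 1]))) (.node (.node (.leaf []) (.leaf [1])) (.node (.leaf [0, 0, 1]) (.leaf [-9052, 6985, -33408, -17766, 21065, 1020, 1643, 13992, -3192, -1401, -55, -97, 86, 5, -1])))) (.node (.node (.node (.leaf []) (.leaf [0, 0, 1])) (.node (.leaf [4649, -584, 10879, 4557, -5969, -83, -1152, -3100, 258, 165, -10, 3, -1]) (.leaf [-338490, 80979, -940312, -448420, 565504, 15884, 63424, 322006, -35722, -28472, 1504, -574, 1181, 23, 6]))) (.node (.node (.leaf []) (.leaf [0, 0, 1])) (.node (.leaf [-42764,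 18283, -143024, -75644, 91968, 4081, 5334, 57035, -8080, -6616, 255, -206, 320, 6, -3]) (.leaf [-11795557, 2145880, -34690150, -17684443, 22278780, 650078, 1492950, 12734571, -586258, -1734853, 73552, -32079, 28307, -2567, 99, -41, 1])))))) (.node (.node (.node (.node (.node (.leaf []) (.leaf [23048, -3758, 53571, 22248, -28560, -752, -6005, -15506, 1971, 673, -26, -13, -24, -4, -1])) (.node (.leaf [-178, 17, -419, -182, 236, 0, 38, 127, -6, -7, 1]) (.leaf [40960186, -4733937, 94276840, 38756892, -50870040, -570976, -10150150, -26179923, 2543314, 611619, -81006, -103934, -29818, -7253, 3189, -17, 3]))) (.node (.node (.leaf []) (.leaf [1055124374, -104322043, 2612698828, 1171141391, -1520961051, -24376476, -212233999, -804695903, 38404626, 64016254, -3978040, -1800526, -710144, -8493, 69696, 854, 43])) (.node (.leaf [23, 12, 11, -8, 5, 0, -11, 10, -6, 0, 0, 0, 0, 1]) (.leaf [-3, 0, -3, -1, 1, 0, 1, 1])))) (.node (.node (.node (.leaf []) (.leaf [1690, -19, 3344, 1162, -1634, 36, -475, -705, 26, -60, 0, -6, 3]))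 (.node (.leaf [0, 0, 1]) (.leaf [146844, -35693, 405597, 190555, -241160, -6538, -28502, -135756, 17359, 9557, -905, 214, -667, -21, 2]))) (.node (.node (.leaf [1561, -66, 3579, 1501, -1991, -20, -346, -994, 30, 48, -8, -3]) (.leaf [91977424, -28281823, 274412111, 136474578, -169887422, -5389216, -14982427, -100022467, 12304471, 9648712, -324804, 235636, -412620, -7346, 2267, -191, -3])) (.node (.leaf [-127558834, 32664780, -348621779, -163209085, 205645952, 5502455, 25677087, 117532934, -15264744, -8479893, 340755, -133160, 436211, 19199, -4684, 112, 1]) (.leaf [100843904, -33297778, 302986279, 151012985, -187149892, -6564274, -16974124, -111302279, 14600499, 11124708, -375464, 386057, -482911, -6051, -904, -122, 1]))))) (.node (.node (.node (.node (.leaf []) (.leaf [0, 0, 1])) (.node (.leaf []) (.leaf [80547, -16890, 216346, 101984, -128866, -3502, -15698, -73173, 6863, 7030, -168, 66, -154, -3, -3]))) (.node (.node (.leaf [9, 13, 11, 6, -7, 0, 5, -5, -6, -1]) (.leaf [-13991189, -4186808, -20843681, -5134658,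 9101350, -913914, 3875398, 1543051, 2062569, 700667, 5776, 186977, -106851, 718, -1879, 24, -5])) (.node (.leaf []) (.leaf [1668966, 4371369, -9839635, -9061573, 9630983, 1045994, -1812929, 8013573, -1739458, -1796083, 25617, -140356, 83546, -2191, 1781, 4, 1])))) (.node (.node (.node (.leaf [6480, -699, 15259, 6455, -8492, -77, -1532, -4368, 292, 232, -14, -6, 2, 0, -1]) (.leaf [0, 0, 1])) (.node (.leaf []) (.leaf [1430, -80, 3316, 1404, -1852, -22, -313, -939, 36, 47, -6, -3]))) (.node (.node (.leaf [-11682, -41924, -57686, -57352, 80448, -1639, -19889, 35832, 34341, -25495, 664, -46, -930, -148, 36, -1]) (.leaf [-164347686, 24603136, -419704035, -190563420, 244946483, 4818712, 33265822, 133087700, -10540565, -9986306, 560258, 141326, 260189, 10571, -8855, -58, -1])) (.node (.leaf [1, 0, 0, 0, 1, 0, 0, -1]) (.leaf [4459163, 71175, 14612723, 8700834, -10772408, -596711, 42057, -6389515, -697861, 1910723, -83090, 86420, 8299, 7567, -2292, 161])))))))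

def twoL11 : Janko.Tree (List ℤ) :=
  (.node (.node (.node (.node (.node (.node (.node (.leaf []) (.leaf [4, 0, 10, 4, -6, 0, -1, -2, 0, 1])) (.leaf [-3718, 747, -10088, -4769, 6075, 144, 710, 3385, -286, -336, 12, -8, 9])) (.node (.leaf []) (.leaf [8407536, -1294497, 20699704, 9046074, -11686508, -206042, -1902518, -6269735, 614766, 343497, -20714, -10030, -12114, -934, 560, -9, 1]))) (.node (.node (.leaf []) (.leaf [-38554, 10839, -109542, -52891, 66251, 1874, 7216, 38507, -4640, -3556, 90, -94, 131, 5])) (.node (.leaf [261, -31, 607, 258, -334, -3, -62, -179, 13, 10, -1]) (.leaf [90, -51, 250, 124, -135, -14, -21, -106, 26, 10, 1, 1, -1])))) (.node (.node (.node (.leaf []) (.leaf [60818963, -6761184, 149185618, 66036941, -85663999, -1463040, -12862554, -45442057, 2778659, 3298789, -214899, -78888, -50157, -2786, 2874, 100, 1])) (.node (.leaf [13, 0, 23, 8, -10, 0, -4, -5]) (.leaf [26138817, -6069548, 73699174, 35818080, -45086014, -1282001, -4539981, -25843464, 2416189, 2674590, -98576, 58734, -75743, 602,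 -7, 21]))) (.node (.node (.leaf [-46671846, -8712398, -83389114, -27524632, 41351583, -1855971, 11520406, 14262689, 4127062, 1273233, 121454, 510672, -200504, 3441, -11378, 21, -1]) (.leaf [])) (.node (.leaf [-4721, 773, -15193, -8163, 10282, 346, 287, 5841, -173, -877, 60, -16, 14, 1, 1]) (.leaf [-66282, 3019, -236475, -141007, 178616, 4852, -3155, 101592, 9088, -25887, 733, -756, -162, -92, 25, -1]))))) (.node (.node (.node (.node (.leaf []) (.leaf [-49932675, 12638641, -141349857, -68494160, 85914595, 2615474, 8927804, 49611282, -5384147, -4817235, 196802, -116681, 171379, 1726, -88, -32, 1])) (.node (.leaf [-196, 0, -425, -168, 229, -1, 48, 107, 1, -5, 2]) (.leaf [19, 7, 40, 14, -24, 1, -5, -3, -3, 0, -1]))) (.node (.node (.leaf []) (.leaf [-65600004, 13562881, -180385062, -85719457, 108824105, 2447031, 11588621, 61022250, -6006067, -4760985, 236832, 53439, 194695, 8444, -6081, 126, 5])) (.node (.leaf [-1, -1, -1, 0, 0, 1]) (.leaf [52634, -10787, 136525, 62149, -79211, -1643, -11326, -44169, 4624, 3362, -93,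 52, -96, -4, -1])))) (.node (.node (.node (.leaf []) (.leaf [-2780924, 133016, -4831634, -1296209, 1900469, -63821, 981365, 711423, -168902, 249998, -8106, 19952, -4473, 1308, -311, 15, -1])) (.node (.leaf [946, -109, 2068, 807, -1078, 4, -267, -538, 44, 17]) (.leaf [62939630, -14054946, 166418708, 76346830, -96876672, -2354986, -13198546, -54412860, 6565899, 3699093, -155987, 27743, -170622, -8814, 3098, -49, 3]))) (.node (.node (.leaf []) (.leaf [6539418, -1130487, 12906084, 4070728, -5533734, 33622, -2259238, -2585394, 862948, -581362, 13675, -33716, -9409, -3742, 931, -41, 1])) (.node (.leaf []) (.leaf [2177, -117, 4881, 1993, -2654, -20, -519, -1316, 54, 50, -8, -3, 1])))))) (.node (.node (.node (.node (.node (.leaf []) (.leaf [1552, -348, 3324, 1195, -1561, -14, -500, -824, 211, -71, 8, -1, 0, 0, -1])) (.node (.leaf [1062, -62, 2445, 1023, -1360, -19, -246, -674, 25, 39, -3, -1]) (.leaf [-78167, 16372, -215339, -103277, 130602, 3393, 14004, 74103, -6390, -7433, 314, -181, 176, -2, 3]))) (.node (.node (.leaf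 [0, 0, -1, 0, 1]) (.leaf [-80124, 19379, -220529, -104572, 132047, 3345, 15491, 75248, -8202, -6666, 216, -153, 219, 3])) (.node (.leaf [6, 0, 6, 1, -1, 0, -2, -1]) (.leaf [-82641, 19358, -225912, -106695, 134924, 3378, 16103, 76595, -8192, -6726, 231, -152, 216, 3])))) (.node (.node (.node (.leaf []) (.leaf [12870972, -2297216, 35642086, 17294896, -21930309, -577314, -2119662, -12326786, 825273, 1349112, -64606, 16419, -29399, 910, 311, 23])) (.node (.leaf []) (.leaf [234098820, -44819192, 614935731, 283204336, -360830180, -8415295, -47229723, -200465856, 19965428, 15297951, -759976, 20840, -534685, -20474, 9318, -4, 5]))) (.node (.node (.leaf []) (.leaf [80934545, -18475480, 220395662, 103788496, -131238987, -3379699, -15674073, -74369189, 8135242, 6147614, -248424, 80727, -230980, -6206, 1750, -45])) (.node (.leaf [-174581889, 38415520, -459408698, -209956487, 266630055, 6406943, 36917114, 149415381, -18104924, -9881766, 469191, -67194, 478735, 24692, -6816, 55, -1]) (.leaf [40032877, -8390953, 107273277,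 50035224, -63476135, -1596739, -7868731, -35639225, 3740611, 2842020, -135968, 20055, -106623, -3611, 1454, -9]))))) (.node (.node (.node (.node (.leaf [0, 0, -1, 0, 1]) (.leaf [6458851, -1671959, 17522278, 8140977, -10246259, -291002, -1335969, -5862857, 809195, 392835, -19542, 6860, -23709, -1118, 408, -7])) (.node (.leaf [11521, -1421, 28288, 12356, -16251, -67, -2524, -8416, 517, 499, -22, -1, 2, 0, -1]) (.leaf [572352199, -117941781, 1521830145, 705763834, -896795688, -21555375, -114482851, -501882494, 52387017, 39112701, -1752151, 246852, -1408814, -48586, 15008, -190, 7]))) (.node (.node (.leaf []) (.leaf [-13776654, 3427105, -36239811, -16222289, 20577355, 471541, 2989938, 11517536, -1924228, -234908, 23886, 44402, 54710, 6090, -3340, 113, -1])) (.node (.leaf [1, 1, 1, 0, 1, -1]) (.leaf [-92661101, 23116461, -257152355, -122484757, 154156466, 4311711, 17601026, 88360727, -10173020, -7655174, 292986, -155121, 299462, 6688, -1094, 38])))) (.node (.node (.node (.leaf []) (.leaf [9704675, -2241052, 26352167,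 12380969, -15623871, -433094, -1901460, -8885751, 1012143, 722386, -32392, 10582, -29603, -899, 350, -3])) (.node (.leaf []) (.leaf [-22392, 5862, -63019, -30248, 38127, 969, 4216, 21844, -2444, -2017, 58, -54, 66]))) (.node (.node (.leaf [-147, -3422, 6828, 4984, -5251, -486, 403, -4474, 1665, 478, 28, 55, -68, -2, 1]) (.leaf [-12162946, 109935, -24027332, -8446239, 11716653, -110590, 3449933, 5177704, -204130, 270506, 19633, 58616, -16324, 2200, -873, -18, -1])) (.node (.leaf [-6152996, 1478844, -17141340, -8212708, 10330923, 309423, 1137002, 5918255, -644576, -547096, 26268, -12556, 20772, 286, -106, -3]) (.leaf [-24129, 3935, -56317, -23460, 30125, 807, 6246, 16331, -2074, -715, 32, 15, 25, 4, 1])))))))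

def twoL12 : Janko.Tree (List ℤ) :=
  (.node (.node (.node (.node (.node (.node (.node (.leaf []) (.leaf [1, 1, -1, -3, 4, 0, -1, 2, 1, -1])) (.leaf [])) (.node (.leaf []) (.leaf [1]))) (.node (.node (.leaf []) (.leaf [1534723, -406283, 4398991, 2142328, -2683521, -81510, -266490, -1554476, 177692, 143824, -5766, 2919, -5881, -138, 80, -1])) (.node (.leaf []) (.leaf [1])))) (.node (.node (.node (.leaf []) (.leaf [-198505388, 22679584, -505025053, -231204029, 298745516, 5200202, 37986887, 160267646, -8007107, -14053199, 779510, 229144, 189619, -3988, -9564, -172, 1])) (.node (.leaf [306498674, -102670271, 917901570, 455645660, -564600380, -19595154, -52663021, -335973455, 45672532, 32240377, -1019046, 1100542, -1478728, -29856, -1937, -409, 3]) (.leaf [-59, 5, -149, -65, 88, 0, 13, 42, -1, -3]))) (.node (.node (.leaf [-1422, 145, -2995, -1113, 1487, 1, 401, 739, -86, 27, -2, 2, -1]) (.leaf [-69515, 19385, -189702, -88658, 110804, 3664, 14729, 64430, -9274, -4914, 180, -94, 239, 14, 1])) (.node (.leaf []) (.leaf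 [58438, -15149, 164826, 79617, -99866, -2971, -10789, -57732, 6385, 5662, -199, 141, -194, 3, -1]))))) (.node (.node (.node (.node (.leaf [6, 0, 10, 3, -4, 0, -2, -2]) (.leaf [-94706916, 14900620, -242234213, -110082084, 141147018, 3057729, 19422764, 77140646, -6394933, -6031306, 335930, 20011, 158008, 5245, -3476, -113, -1])) (.node (.leaf []) (.leaf [2912573, -964227, 8158045, 3838987, -4748249, -194435, -632078, -2821990, 484082, 208692, -14040, 12867, -16329, -276, 241, -1]))) (.node (.node (.leaf []) (.leaf [14561389, -2437667, 32541408, 12787293, -16621226, -315372, -4165096, -8771067, 1352900, 91200, -16780, 3207, -16777, -2648, -39, 39, 1])) (.node (.leaf []) (.leaf [-58014, 16383, -168394, -82678, 103377, 3060, 10053, 60297, -6855, -5987, 166, -142, 205, 5, 1])))) (.node (.node (.node (.leaf [-11, 0, -23, -8, 11, 0, 3, 4, 0, 0, 0, 0, 0, 1]) (.leaf [1])) (.node (.leaf [1]) (.leaf [725619, -152960, 1972020, 934415, -1182228, -31694, -137482, -668729, 63006, 63564, -2695, 1152, -1796, -14, -21, 1]))) (.node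 (.node (.leaf []) (.leaf [])) (.node (.leaf [496, -278, 804, 87, -92, 3, -230, -95, 214, -197, 21, 2, 0, 0, -1]) (.leaf [73373, -15960, 205129, 99361, -125371, -3437, -12727, -71477, 6198, 7459, -325, 191, -183, 2, -3])))))) (.node (.node (.node (.node (.node (.leaf [1]) (.leaf [])) (.node (.leaf [-7, 1, -13, -4, 4, 0, 2, 4, -1, 1]) (.leaf [225248, -92536, 625050, 282589, -350295, -9798, -55787, -209267, 48953, 4006, 385, 457, -1275, -98, 7, -1]))) (.node (.node (.leaf []) (.leaf [-204281098, 41610271, -539289986, -248765727, 316282898, 7673216, 41657559, 176708222, -18584995, -13635337, 643015, -124974, 496667, 15996, -5440, -27, -3])) (.node (.leaf [1]) (.leaf [1])))) (.node (.node (.node (.leaf []) (.leaf [46901693, -9880904, 126723258, 59685353, -75563875, -2028846, -9053675, -42654695, 4181959, 3876220, -179021, 74857, -122497, -812, 187, 63])) (.node (.leaf [3009020, -486073, 7582224, 3392212, -4350667, -95818, -646987, -2373921, 223816, 161925, -9730, -1626, -5233, -344, 138, 3]) (.leaf [-3079860130, 586656232,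 -8032829045, -3677307132, 4688709870, 107393813, 633025907, 2600766542, -263706734, -191548207, 9435067, -264234, 6831045, 287477, -130205, -634, -37]))) (.node (.node (.leaf []) (.leaf [1])) (.node (.leaf [-37406804, 8016396, -92678094, -39619488, 50914385, 831333, 9084113, 27691339, -4433104, -327147, 37359, 88924, 101024, 12869, -4054, 144, -1]) (.leaf [1]))))) (.node (.node (.node (.node (.leaf [1]) (.leaf [3018321, -845131, 7068330, 2758692, -3542100, -54496, -904492, -1932474, 515485, -120903, 8122, -9244, -9135, -1699, 484, -30, 1])) (.node (.leaf [1]) (.leaf [1]))) (.node (.node (.leaf []) (.leaf [29092770, -23815741, 130466730, 76643280, -90709647, -4748978, -243411, -60136769, 10225633, 7988111, -163793, 436421, -415519, -2389, -2124, -138, -9])) (.node (.leaf [1]) (.leaf [-547499, 132463, -1511323, -719471, 906366, 24713, 104347, 518869, -56406, -47056, 1592, -1032, 1561, 21, 5])))) (.node (.node (.node (.leaf [-122, 21, -318, -144, 190, 0, 27, 98, -6, -9]) (.leaf [-13623421, 5103998, -39214936, -18618305,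 22985288, 846072, 2902394, 13773309, -2566722, -867011, 23392, -35065, 73944, 4487, -129, 45, -1])) (.node (.leaf []) (.leaf [-348, 2459, -5354, -3676, 3900, 475, 77, 3255, -1037, -703, -32, -69, 46, 0, -1]))) (.node (.node (.leaf []) (.leaf [])) (.node (.leaf [-1499, 123, -3155, -1209, 1595, 8, 408, 817, -64, -8, 0, 3, -1]) (.leaf [3351265, -790741, 9257987, 4415665, -5563359, -155644, -628496, -3180663, 337540, 290874, -10615, 5664, -9703, -159, 18, 1])))))))

def twoL13 : Janko.Tree (List ℤ) :=
  (.node (.node (.node (.node (.node (.node (.node (.leaf []) (.leaf [0, 0, 0, 0, 0, 0, 0, 0, 0, 0, 1, 0, 0, 0, 0, 0, 0])) (.leaf [0, 1])) (.node (.leaf [0, 1]) (.leaf [-71483, 17210, -195886, -92750, 117007, 3057, 14010, 66804, -7257, -6072, 198, -136, 197, 2, -1]))) (.node (.node (.leaf [0, 1]) (.leaf [348895, -77350, 945831, 444749, -562815, -14825, -68237, -318088, 33643, 27512, -1274, 463, -987, -14, -7])) (.node (.leaf []) (.leaf [-3032026, 565695, -7913594, -3641595, 4634357, 118929, 622583, 2580201, -244179,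 -219354, 11266, -2960, 6387, 66, 47, -5])))) (.node (.node (.node (.leaf [0, 1]) (.leaf [0, 1])) (.node (.leaf [0, 1]) (.leaf [0, 1]))) (.node (.node (.leaf []) (.leaf [-172650, 43070, -472652, -223285, 280110, 8546, 34008, 161569, -19633, -13558, 566, -241, 557, 18, 1])) (.node (.leaf []) (.leaf [-2500010, -126318, -4229666, -1159197, 1756462, -86571, 807983, 594629, 6112, 177937, -5419, 21387, -8385, 703, -415, 9, -1]))))) (.node (.node (.node (.node (.leaf []) (.leaf [0, 1])) (.node (.leaf [0, 1]) (.leaf [0, 1]))) (.node (.node (.leaf [0, 1]) (.leaf [0, 1])) (.node (.leaf [8673, 5189, 26174, 16299, -22360, 356, 1479, -10641, -4947, 4185, -94, 122, 123, 34, -7]) (.leaf [-104911, 24749, -288449, -137117, 172838, 4737, 20027, 98762, -10502, -9032, 321, -192, 292, 4, 1])))) (.node (.node (.node (.leaf []) (.leaf [3252, -316, 7335, 3011, -3945, -38, -807, -2051, 145, 86, -6, -5, 1])) (.node (.leaf [371, -190, 1346, 684, -918, 48, -48, -476, 58, 16, 6, -1]) (.leaf [167831180, -33636340, 430888649, 193729536, -247184800,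 -5630719, -36858017, -136882732, 15831172, 8760352, -416970, 21164, -372784, -20420, 4414, -78, 9]))) (.node (.node (.leaf []) (.leaf [-35568725, 7425738, -95314105, -44458072, 56416747, 1405035, 6974855, 31655845, -3310248, -2511142, 119739, -15084, 94307, 3312, -1381, 11])) (.node (.leaf [-308320, 63163, -855042, -414790, 522062, 16586, 54119, 298496, -23821, -34450, 1629, -872, 811, -34, 10, -1]) (.leaf [0, 1])))))) (.node (.node (.node (.node (.node (.leaf []) (.leaf [35237, -17375, 125882, 68640, -82934, -3742, -3311, -52309, 7478, 6368, -181, 227, -300, -4, 1])) (.node (.leaf [-103861, 23124, -279713, -131034, 165548, 4391, 20445, 94033, -10172, -7775, 297, -130, 268, 4, 1]) (.leaf [-5637, 687, -12119, -4584, 6082, 2, 1533, 3091, -408, 154, -18, 6, -4, 0, 1]))) (.node (.node (.leaf [0, 1]) (.leaf [478895, -742403, 296420, -715805, 820107, 163512, -528380, 570044, 671507, -736737, 30293, -37806, -14807, -4013, 1264, -81])) (.node (.leaf [-74701553, 17284736, -203639171, -95884531, 121208942, 3115465, 14499415,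 68743353, -7648794, -5614547, 223006, -73738, 216700, 6194, -1676, 51]) (.leaf [-54157, 12010, -146613, -68863, 87313, 2117, 10643, 49236, -5051, -4289, 159, -91, 129, 1])))) (.node (.node (.node (.leaf []) (.leaf [-157304, 47265, -430904, -200230, 250569, 7342, 34122, 145821, -22665, -9642, 222, -339, 598, 28, 1])) (.node (.leaf []) (.leaf [23375290, -6592689, 64026145, 29663790, -37317221, -994543, -4887911, -21387626, 3319712, 1149816, -61637, 8169, -98823, -5827, 1913, -74, -1]))) (.node (.node (.leaf [1366, -76, 3173, 1346, -1777, -20, -299, -900, 32, 48, -6, -2]) (.leaf [])) (.node (.leaf []) (.leaf [679, -37, 1254, 407, -549, 1, -213, -267, 31, -25, 2, -3, 2, 1]))))) (.node (.node (.node (.node (.leaf []) (.leaf [667722, -257049, 2199968, 1161475, -1418967, -64659, -82753, -869839, 107901, 110516, -5477, 5456, -4656, 79, 44, 1])) (.node (.leaf [6333, -669, 14924, 6325, -8318, -70, -1484, -4283, 279, 225, -14, -8, 2, 0, -1]) (.leaf [-163949981, 30862641, -434302979, -203184706, 257761932, 7210810, 32459465,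 144711257, -12244878, -14508346, 650178, -353358, 322919, -7636, 4288, -475, -9]))) (.node (.node (.leaf [0, 1]) (.leaf [0, 1])) (.node (.leaf [4094, -553, 10208, 4524, -5908, -64, -884, -3107, 202, 224, -10, 5, -1]) (.leaf [32386, -6512, 82139, 36670, -46896, -819, -7314, -25988, 2833, 1718, -18, 17, -49, -4, -1])))) (.node (.node (.node (.leaf []) (.leaf [-1445, 125, -3066, -1182, 1559, 9, 391, 798, -65, -8, 0, 3, -1])) (.node (.leaf []) (.leaf [0, 1]))) (.node (.node (.leaf []) (.leaf [-4537042, 561988, -10763476, -4544318, 5922055, 99341, 1065644, 3089825, -314223, -95349, 17291, 10730, 7220, 887, -398, 1])) (.node (.leaf [0, 1]) (.leaf [0, 1])))))))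

def twoL14 : Janko.Tree (List ℤ) :=
  (.node (.node (.node (.node (.node (.node (.node (.leaf [0, 0, 1]) (.leaf [0, 0, 0, 0, 0, 0, 0, 0, 0, 0, 0, 1, 0, 0, 0, 0, 0])) (.leaf [-1704159, 411227, -4687799, -2219347, 2798024, 76830, 328606, 1596799, -182056, -135654, 6566, -3520, 5690, 40, -36, -1])) (.node (.leaf []) (.leaf [99, 17, -96, -163, 198, 12, -77, 121, 6, -46, 4, -2, 1]))) (.node (.node (.leaf []) (.leaf [721291, -150148, 1952819, 923483, -1168816, -31521, -137822, -660638, 61368, 63443, -2722, 1349, -1730, 8, -18, 1])) (.node (.leaf [-1830, 158, -4162, -1719, 2263, 17, 446, 1161, -70, -55, 10]) (.leaf [-7594987, 1864121, -22793734, -11570158, 14497250, 404762, 1005197, 8409346, -696152, -940788, 25998, -5376, 24445, -2, -753, 27, -1])))) (.node (.node (.node (.leaf [-2318, 184, -5687, -2522, 3320, 6, 449, 1715, -54, -101, 6, 4, -1]) (.leaf [-42235275, 5738588, -104082904, -45517942, 59042501, 891474, 9143971, 31287761, -2916519, -1362471, 132250, 119476, 70200, 8152, -4136, 67, 1])) (.node (.leaf [449949483,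 -106004097, 1237585268, 585974262, -739848433, -19205036, -85090283, -420653733, 47463237, 33848889, -1379912, 275686, -1402691, -49034, 22758, -604, 1]) (.leaf [-711700, 266998, -2318786, -1217187, 1489528, 66387, 91509, 909746, -112109, -113967, 5592, -5530, 4765, -80, -44, -1]))) (.node (.node (.leaf [-991, 109, -2174, -850, 1111, 27, 266, 573, -72, -1, 4, 0, 1]) (.leaf [0, 0, 1])) (.node (.leaf []) (.leaf [0, 0, 1]))))) (.node (.node (.node (.node (.leaf [-1, 0, 1]) (.leaf [39757785, -10891970, 109878114, 51712333, -65027211, -1730959, -8004090, -37403403, 5033569, 2742928, -79160, 54035, -137890, -5598, 544, -85, 1])) (.node (.leaf [-431947, 13624, -1018597, -448775, 590222, 10165, 90613, 301874, 3940, -35398, 2460, -470, -316, -104, 34, -3]) (.leaf [683638, -169551, 1948661, 952585, -1196706, -34503, -118772, -690090, 66346, 74049, -2336, 1998, -1952, 28, -30, 1]))) (.node (.node (.leaf []) (.leaf [768714184, -231760498, 2194392376, 1057071445, -1318140835, -42990532, -147796633, -772506259, 105032241,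 67748508, -2369918, 2428988, -3156343, -76275, -11816, -136, 11])) (.node (.leaf []) (.leaf [1241700, -309914, 3462431, 1654205, -2078426, -64731, -233838, -1192853, 139479, 106101, -5669, 2742, -4618, -85, 29, 1])))) (.node (.node (.node (.leaf [0, 0, 1]) (.leaf [182, -9, 436, 188, -252, 0, -38, -123, 2, 7, -1])) (.node (.leaf [-601, -3547, 6848, 5394, -5735, -476, 675, -4822, 1646, 619, 24, 65, -69, -2, 1]) (.leaf [78529935, -17436019, 213697752, 100682518, -127412109, -3264150, -15043580, -72020047, 7689633, 5947188, -262753, 59843, -225498, -6269, 2536, -39, -1]))) (.node (.node (.leaf [-49, 20, -152, -76, 99, 0, 12, 54, -6, -8, 0, 0, 0, -1]) (.leaf [361113, -93912, 987389, 463484, -583065, -15941, -73188, -335019, 42513, 26257, -808, 662, -1132, -36, -3])) (.node (.leaf [0, 0, 1]) (.leaf [3424053, -1001671, 9941104, 4851044, -6056226, -190265, -602449, -3536636, 452888, 311218, -12734, 7538, -15045, -406, 192, -5])))))) (.node (.node (.node (.node (.node (.leaf []) (.leaf [0, 0, 1])) (.node (.leaf [0, 0,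 1]) (.leaf [0, 0, 1]))) (.node (.node (.leaf []) (.leaf [])) (.node (.leaf []) (.leaf [-386660408, 209980162, -1371202960, -736773461, 888148338, 41747328, 48170984, 563999355, -92629597, -65764836, 1669710, -3732209, 3358907, 32579, 31198, 202, 33])))) (.node (.node (.node (.leaf [0, 0, 1]) (.leaf [9338364, -2131617, 25320904, 11881235, -15011261, -410950, -1838381, -8511987, 958318, 697777, -34221, 12261, -28473, -698, 273, 1])) (.node (.leaf [690, 661, -180, -637, 580, 60, -295, 673, -274, -136, -8, -16, 11]) (.leaf [-5291488, 555826, -11840576, -4727849, 6254528, 44531, 1367483, 3157319, -310708, -24066, 5253, 17172, 1225, 1033, -479, 9, -1]))) (.node (.node (.leaf []) (.leaf [-18, 1, -37, -15, 20, 0, 5, 10, 0, -1])) (.node (.leaf [0, 0, 1]) (.leaf [327334, 17489, 989089, 555365, -708309, -21662, -10971, -394271, -49630, 104708, -4600, 3584, 1007, 513, -128, 5]))))) (.node (.node (.node (.node (.leaf [-3, 0, -4, -1, 1, 0, 1, 1]) (.leaf [-114652240, 2832766, -248559955, -99096351, 133156749, 525224, 28130289,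 64351987, -1106593, -2432946, 344884, 358778, -106059, 2892, -6424, -268, -7])) (.node (.leaf [-59, 7, -145, -65, 86, 0, 12, 44, -2, -3]) (.leaf [-330089, 79993, -922714, -442032, 557064, 15683, 60918, 317844, -34926, -28740, 1487, -617, 1162, 19, 7]))) (.node (.node (.leaf []) (.leaf [49897061, -25283525, 175256393, 93912150, -113864943, -4809754, -5765642, -71400019, 11126809, 7921581, -196381, 361465, -410759, -6241, -594, -134, -7])) (.node (.leaf [-3, -24, 226, 182, -228, -9, 31, -129, 0, 43, -7, 2, -1]) (.leaf [-18711416, 3452153, -49682526, -23167739, 29487559, 718709, 3601725, 16414399, -1478679, -1388758, 71130, -3901, 42264, 972, -735, 1])))) (.node (.node (.node (.leaf [0, 0, 1]) (.leaf [-245284, 40045, -655079, -311366, 396001, 10419, 45019, 221201, -13287, -25328, 1073, -544, 352, -37, 14, -1])) (.node (.leaf [0, 0, 1]) (.leaf [10933860, -5956460, 109234667, 84991947, -101295366, -5904312, 14802564, -65933456, -3605212, 19332540, -707130, 669842, -171822, 59805, -7770, 605, -11]))) (.node (.node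 (.leaf [0, 0, 1]) (.leaf [0, 0, 1])) (.node (.leaf [1967398, -419718, 5325358, 2517463, -3183732, -86512, -380564, -1803847, 170664, 175008, -6336, 3567, -4431, 8, -70, 3]) (.leaf [-1897, 3636, -14572, -9672, 11048, 777, -595, 7909, -1542, -1259, 11, -81, 72, 3, -1])))))))

def twoL15 : Janko.Tree (List ℤ) :=
  (.node (.node (.node (.node (.node (.node (.node (.leaf []) (.leaf [0, 0, 0, 0, 0, 0, 0, 0, 0, 0, 0, 0, 1, 0, 0, 0, 0])) (.leaf [])) (.node (.leaf []) (.leaf [1626, -103, 3673, 1509, -2019, 13, -380, -1003, 30, 33, 0, -2, 1, -1]))) (.node (.node (.leaf []) (.leaf [-74581, 18895, -207729, -99191, 124999, 3243, 14184, 71600, -7988, -6457, 196, -158, 219, 3])) (.node (.leaf [109647, -29800, 309777, 148903, -187091, -5020, -20565, -107974, 12759, 9664, -274, 275, -362, -6, -1]) (.leaf [-212256, 49229, -594210, -285794, 360842, 9641, 37941, 205278, -20604, -19229, 948, -499, 663, 7, 3])))) (.node (.node (.node (.leaf []) (.leaf [85692547, -31091085, 297035460, 164241241, -200446385, -9089212, -6608103, -123580762,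 10054919, 20165859, -675630, 872576, -465490, 31593, -12208, 620, -5])) (.node (.leaf []) (.leaf [21444059, 5066406, 36695175, 11604345, -17994109, 994177, -5287102, -5552757, -2503345, -555412, -69751, -239410, 110346, 266, 4734, 27]))) (.node (.node (.leaf []) (.leaf [])) (.node (.leaf []) (.leaf [-153359460, 27143586, -389447746, -174507239, 223545066, 4818406, 33280034, 122507291, -12544027, -8110175, 458546, 16051, 297928, 15155, -5395, -91, -3]))))) (.node (.node (.node (.node (.leaf [5, 0, 8, 2, -3, 0, -2, -1]) (.leaf [-634624, 53354, -1709883, -823932, 1061179, 17645, 87204, 572382, -16269, -52464, 4348, 2197, 1291, 8, -188, -1])) (.node (.leaf [-52326, 11839, -142193, -66946, 84792, 2082, 10238, 47946, -4982, -4201, 150, -92, 129, 1]) (.leaf [-1252066, 404300, -3580014, -1708811, 2126326, 71184, 247470, 1249586, -198930, -86950, 3992, -2377, 6267, 316, -87, 3]))) (.node (.node (.leaf []) (.leaf [-142494, 28191, -366297, -163227, 208195, 5512, 31311, 114287, -15675, -5150, 1014, 102, 579, 35, -7])) (.node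 (.leaf []) (.leaf [-73391, 18828, -206377, -99426, 124866, 3547, 13521, 72026, -7965, -6793, 210, -150, 227, 4, 1])))) (.node (.node (.node (.leaf []) (.leaf [7101, -2082, 19927, 9512, -11898, -330, -1413, -6947, 916, 594, -9, 14, -24, 1])) (.node (.leaf []) (.leaf [54259047, 7590151, 72893858, 8514699, -19999998, 4151476, -19681430, 1535160, -498363, -9515282, 170460, -904551, 196343, -38198, 21340, -466, 5]))) (.node (.node (.leaf []) (.leaf [])) (.node (.leaf []) (.leaf [76650, -16185, 212138, 102102, -128979, -3491, -13588, -73316, 6326, 7505, -331, 185, -182, 2, -3])))))) (.node (.node (.node (.node (.node (.leaf []) (.leaf [779, -173, 1690, 649, -779, -80, -241, -475, 130, 2, -4, 1, -3])) (.node (.leaf []) (.leaf [-71330657, 12472687, -177489387, -77779872, 100133257, 1789507, 16209272, 54246710, -6089901, -2652033, 149339, 75520, 127344, 11167, -3744, 70, -3]))) (.node (.node (.leaf []) (.leaf [5, 0, 5, 1, 0, 1, -1, -2, 0, -1])) (.node (.leaf [-70927968, 17258085, -195185329, -92350988, 116481295, 3095336,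 13665178, 66426964, -7683582, -5454475, 210648, -86012, 221424, 6524, -1266, 54, 1]) (.leaf [20892222, -4356151, 57509788, 27503954, -34813830, -893274, -3740871, -19674272, 1782995, 1851511, -77567, 20167, -54697, -568, 708, 5])))) (.node (.node (.node (.leaf []) (.leaf [-1037, 103, -2636, -1196, 1574, 9, 200, 813, -25, -70, 5, -1])) (.node (.leaf [3476, 63, 7259, 2780, -3808, -20, -866, -1730, -17, 28, -12, -9, 4]) (.leaf [-17900942, 3105709, -48392137, -23123735, 29397647, 738594, 3209124, 16448366, -1066512, -1818688, 68015, -28841, 28641, -1840, 227, -33, -1]))) (.node (.node (.leaf []) (.leaf [3961919, -934017, 10975856, 5237836, -6596607, -193358, -737974, -3767773, 410378, 338575, -16266, 6718, -13069, -234, 104, 1])) (.node (.leaf []) (.leaf [570973, -147791, 1874866, 1019785, -1260296, -51182, -45714, -753311, 39338, 124698, -5508, 4524, -2388, 267, -24, 3]))))) (.node (.node (.node (.node (.leaf []) (.leaf [-21869423, -5049790, -37705630, -12046854, 18578098, -984925, 5376316, 5848188, 2502626, 526054,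 72628, 238976, -110340, -320, -4714, -31])) (.node (.leaf []) (.leaf [-87364953, 18885250, -238185396, -113209631, 142848000, 4206357, 16614199, 81270038, -7762416, -8096525, 360361, -212242, 231682, -2398, 1007, -183, -1]))) (.node (.node (.leaf []) (.leaf [161220833, -68232694, 540825903, 285846019, -349455251, -13919550, -19517754, -214748653, 29159382, 24541090, -779167, 981976, -1111005, -8559, -1036, -125, -26])) (.node (.leaf []) (.leaf [-1686, 157, -4117, -1808, 2395, -8, 355, 1223, -38, -84, 4, 2, -1])))) (.node (.node (.node (.leaf []) (.leaf [54687, 1185, 240456, 162055, -200106, -7348, 15916, -120975, -14739, 35457, -558, 511, 323, 112, -23, 1])) (.node (.leaf []) (.leaf [281175693, -72052444, 773488485, 364475647, -458904916, -12669425, -55683983, -262731818, 32983698, 20502402, -797134, 390064, -939859, -34385, 3170, -271, 1]))) (.node (.node (.leaf [-29146391, 10297761, -91323544, -46752116, 57713460, 2045962, 4254430, 34694969, -4329478, -3785732, 108368, -133252, 151079, 977, -180, 13, 1]) (.leaf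 [-9942032, 4170561, -34238301, -18517687, 22597497, 929005, 999247, 13960218, -1623915, -1868432, 51722, -76050, 63754, -1203, 803, -9, 1])) (.node (.leaf []) (.leaf [108, -14, 349, 176, -245, 17, -4, -117, -4, 3, 1, 0, 1])))))))

def twoL16 : Janko.Tree (List ℤ) :=
  (.node (.node (.node (.node (.node (.node (.node (.leaf []) (.leaf [-12, 2, -32, -14, 20, 0, 3, 9, 0, -1])) (.leaf [1841, 64, 4494, 2023, -2719, -24, -311, -1307, -68, 134, -22, 2, 2, -1])) (.node (.leaf [-50, 14, -128, -57, 72, 0, 12, 42, -6, -2]) (.leaf [54, 22, -200, -208, 256, 12, -68, 153, 4, -47, 4, -2, 1]))) (.node (.node (.leaf []) (.leaf [-318, -37, -680, -278, 380, -4, 56, 176, 18, -3, 4])) (.node (.leaf []) (.leaf [-8, -10, -3, 3, 0, -1, 1, -5, 5, 1])))) (.node (.node (.node (.leaf []) (.leaf [-15225947, 2025180, -37039980, -16018284, 20864406, 244662, 3401221, 10974670, -987019, -456737, 32998, 39855, 17387, 2487, -1093, 26])) (.node (.leaf [-79228456, 38330456, -271085934, -144556871, 174992006, 8258080, 10643373, 110044760, -16052576,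 -14196050, 376664, -819836, 574188, -7086, 12484, -145, -1]) (.leaf [-1830300, 413942, -4941025, -2312509, 2921167, 79237, 361153, 1657084, -188206, -130940, 5633, -1138, 5328, 214, -73, 1]))) (.node (.node (.leaf []) (.leaf [-1941264, 427669, -5106448, -2325212, 2955986, 69604, 409879, 1650334, -209406, -95786, 5296, 558, 5868, 352, -127, 3])) (.node (.leaf [1]) (.leaf [-11251059, 13144393, -51743713, -29715063, 34064073, 2498140, 1485082, 24211392, -6099355, -3076081, 33352, -327591, 209102, 1602, 5833, -31]))))) (.node (.node (.node (.node (.leaf [1]) (.leaf [866811316, -108603908, 2052474661, 866128448, -1131245154, -13390602, -203744084, -589972675, 56652927, 18010358, -1883602, -2394485, -927289, -160646, 81306, -874, 23])) (.node (.leaf [-3586629, 912435, -9711048, -4516775, 5687329, 157454, 738418, 3253581, -433572, -226201, 8772, -2940, 11971, 583, -92, 5]) (.leaf [4350, -586, 10090, 4295, -5437, -235, -1093, -3020, 310, 249, -18, -2, -8, 3]))) (.node (.node (.leaf [-311738, 76468, -866202, -412784,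 520597, 13834, 58699, 297135, -33202, -25856, 1136, -652, 990, 13]) (.leaf [20820, -5443, 59789, 29081, -36688, -931, -3663, -20965, 2227, 2014, -70, 57, -67, 1])) (.node (.leaf []) (.leaf [1])))) (.node (.node (.node (.leaf []) (.leaf [1420090464, -400271152, 4046218271, 1956793042, -2445865969, -77142784, -263784001, -1425429802, 175986319, 132097696, -4799092, 4185467, -5402128, -89478, -13784, 561, -13])) (.node (.leaf [1]) (.leaf [-3625411, 1881725, -12756301, -6667138, 8183040, 222083, 390877, 4991364, -954792, -255668, 4477, 9366, 35663, 2484, -984, 62, 1]))) (.node (.node (.leaf [1]) (.leaf [])) (.node (.leaf [5228157, -939754, 14183544, 6770563, -8597636, -217420, -930502, -4819967, 350985, 497197, -22654, 7035, -10856, 279, 45, 11]) (.leaf [-521798, 108799, -1440266, -694244, 875141, 25870, 93272, 499207, -42120, -53981, 2353, -1243, 1294, -40, 19, -1])))))) (.node (.node (.node (.node (.node (.leaf []) (.leaf [4381, 381, 7069, 1825, -2819, 114, -1457, -869, -93, -254, 2, -38, 19, 0, -1])) (.node (.leaf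 []) (.leaf [70113, -17302, 193129, 91601, -115497, -3048, -13663, -66026, 7374, 5893, -186, 140, -199, -3]))) (.node (.node (.leaf [-1, -2, -1, 0, 0, 0, 0, 0, 1]) (.leaf [131063, -14915, 355138, 174188, -221574, -6472, -20664, -123445, 2118, 18260, -908, 424, -126, 42, -8, 1])) (.node (.leaf [-9586383, 2204838, -26012534, -12208484, 15419962, 423560, 1888675, 8750758, -992630, -715940, 34780, -12824, 29444, 734, -276, -1]) (.leaf [1])))) (.node (.node (.node (.leaf []) (.leaf [1])) (.node (.leaf [343, -41, 884, 403, -532, -1, -69, -273, 9, 26, -1]) (.leaf [1]))) (.node (.node (.leaf [0, 11, 4, 11, -10, -2, 11, -11, -5, 1]) (.leaf [-6, 1, -10, -4, 4, 1, 2, 3, -1])) (.node (.leaf [1]) (.leaf [-5367617, 1156989, -15637232, -7853790, 9860878, 294620, 776782, 5685745, -395473, -701176, 26702, -13983, 14956, -731, 65, -11]))))) (.node (.node (.node (.node (.leaf []) (.leaf [1])) (.node (.leaf [-1258707, 314898, -3512522, -1678991, 2109346, 65734, 236714, 1210964, -141581, -107965, 5739, -2806, 4690, 82, -30, -1]) (.leaf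 [250748415, -75262385, 667787346, 301354279, -378265429, -10948357, -59076578, -218172456, 38296245, 10450699, -342784, 413107, -973678, -64607, 511, -447, 11]))) (.node (.node (.leaf [-21, -5, -46, -22, 26, 0, -1, 18, 2, 1]) (.leaf [147410842, -69490166, 529168244, 291329795, -352909609, -16390332, -13074004, -221485132, 27340588, 31244435, -976295, 1530451, -1118301, 23681, -17759, 414, -21])) (.node (.leaf [124085000, -8999977, 303679119, 135471504, -177098804, -2156522, -24413874, -92176249, 2821923, 7129224, -474317, -326850, -36887, -163, 11286, 79, -1]) (.leaf [305781657, -91290479, 896931096, 442244832, -550551419, -18336256, -52706918, -323885254, 39576034, 32084263, -1164010, 1007075, -1294208, -14947, -740, -37, -1])))) (.node (.node (.node (.leaf []) (.leaf [1])) (.node (.leaf []) (.leaf [-114940323, 26897062, -310037399, -144261595, 182557443, 4560058, 23108683, 103216495, -12485580, -7351720, 303182, -37444, 342078, 16800, -3992, 191, -1]))) (.node (.node (.leaf [3740, -259, 8398, 3448, -4582, -12,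 -928, -2300, 82, 139, -11, -6, 3]) (.leaf [31783971, -11272005, 88469471, 40353582, -50525912, -1207912, -7086761, -29321363, 6197905, 392870, -13064, -55192, -181644, -17131, 4827, -258, -3])) (.node (.leaf [180964, -40259, 478949, 220844, -280453, -5867, -37481, -157875, 17554, 11540, -43, -53, -313, -30, -9]) (.leaf [-16136, 5223, -49668, -25146, 31265, 1131, 2505, 18418, -2190, -2064, 82, -74, 74, 3])))))))

def twoL17 : Janko.Tree (List ℤ) :=
  (.node (.node (.node (.node (.node (.node (.node (.leaf []) (.leaf [0, 2, -2, -2, 2, 0, 1, 2, 0, -1])) (.leaf [-3131, 261, -6968, -2824, 3719, 36, 781, 1906, -122, -68, 4, 4, -1])) (.node (.leaf [6376, -740, 14977, 6335, -8286, -102, -1538, -4317, 323, 249, -18, -8, 2, 0, -1]) (.leaf [1893055, -473718, 4911859, 2178340, -2769138, -58034, -433374, -1548225, 251305, 44415, -2363, -2260, -6426, -628, 203, -7]))) (.node (.node (.leaf []) (.leaf [-43037416, 9131307, -116381645, -54731591, 69373899, 1747274, 8268781, 39069477, -3929837, -3337274, 142316, -37883, 111072,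 2609, -784, -3])) (.node (.leaf [-43948, 4917, -114039, -53351, 68705, 1086, 7630, 37327, -1431, -3530, 144, 49, -2, 4, 3]) (.leaf [0, 1])))) (.node (.node (.node (.leaf []) (.leaf [-60467605, 13620873, -161696297, -74690005, 94823050, 2173520, 12269584, 53196555, -6407789, -3489582, 158672, 11635, 175852, 9609, -2911, 123, 1])) (.node (.leaf [-368135567, 151551912, -1184478844, -612292949, 748780233, 31314791, 55984066, 459768707, -64895037, -53138833, 1544687, -2670258, 2246800, -2483, 33386, -229, 3]) (.leaf [0, 1]))) (.node (.node (.leaf [0, 1]) (.leaf [])) (.node (.leaf [1930733, 4848421, -16435370, -15055735, 16697376, 1434577, -3367002, 12738500, -1500065, -3181816, 71318, -174546, 100774, -5895, 2317, -7, 3]) (.leaf [92155, -23573, 258730, 124475, -156472, -4340, -17126, -90085, 9897, 8543, -270, 202, -285, -4, -1]))))) (.node (.node (.node (.node (.leaf []) (.leaf [-32867863, 7178225, -92034346, -44836262, 56355846, 1795173, 5739422, 32369146, -2698493, -3753756, 158753, -115475, 88334, -3455, 1290,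 -125])) (.node (.leaf [177466, -577812, 771398, 252190, -219945, -28865, -164674, -264113, 372585, -149794, 10377, 106, -10048, -1317, 202, -21]) (.leaf [-297139, -12041, -710920, -313440, 415192, 1356, 42371, 204990, -2415, 1739, 2766, 3951, 781, 124, -220, 1]))) (.node (.node (.leaf []) (.leaf [0, 1])) (.node (.leaf [0, 1]) (.leaf [5921264, -2134927, 18633765, 9544322, -11741283, -470367, -870266, -7089450, 939431, 770287, -35256, 31487, -36273, -295, -23, 5, -1])))) (.node (.node (.node (.leaf [0, 1, 0, 0, 1, -1]) (.leaf [1267, -83, 3238, 1487, -1953, -21, -224, -1005, 17, 92, -11, 1, -1])) (.node (.leaf [1699653, -410815, 4677934, 2215432, -2792862, -76789, -327434, -1594156, 181853, 135593, -6564, 3526, -5692, -40, 36, 1]) (.leaf [0, 1]))) (.node (.node (.leaf []) (.leaf [-92155, 23574, -258730, -124475, 156472, 4340, 17126, 90085, -9897, -8543, 270, -202, 285, 4, 1])) (.node (.leaf []) (.leaf [-1394, 117, -2941, -1124, 1488, 8, 382, 754, -62, -5, 0, 3, -1])))))) (.node (.node (.node (.node (.node (.leaf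 [0, 1]) (.leaf [-1046, 61, -2525, -1107, 1465, 11, 216, 739, -15, -57, 7, 1])) (.node (.leaf []) (.leaf []))) (.node (.node (.leaf []) (.leaf [0, 1])) (.node (.leaf []) (.leaf [517, -17, 1227, 536, -714, 3, -102, -358, -2, 25, -3])))) (.node (.node (.node (.leaf [509, 5, 1182, 512, -684, -3, -99, -336, -9, 25, -3, -1]) (.leaf [-93244, 20186, -243598, -112120, 142030, 3448, 20009, 80464, -8228, -7130, 15, -99, 115, -4, 3])) (.node (.leaf [0, 1]) (.leaf [-162652, 34390, -480665, -245089, 305490, 12253, 22279, 178094, -11757, -24957, 1417, -810, 616, -46, 0, -1]))) (.node (.node (.leaf [0, 1]) (.leaf [0, 1])) (.node (.leaf [-20753687, 4584292, -54780337, -25148508, 31891897, 798410, 4357965, 17935314, -2120605, -1275765, 52322, -11666, 54249, 2494, -649, 12, -1]) (.leaf [1817624, -456602, 5097375, 2449169, -3072837, -97161, -335792, -1770421, 202230, 163932, -8565, 4598, -6763, -87, 34, 1]))))) (.node (.node (.node (.node (.leaf [0, 1]) (.leaf [163433922, -53385289, 468215724, 224881380, -279439771, -9490525, -32616290,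 -165205518, 24736249, 13802397, -420558, 585961, -725938, -19931, -1926, -103, 7])) (.node (.leaf [0, 1]) (.leaf [0, 1]))) (.node (.node (.leaf []) (.leaf [])) (.node (.leaf []) (.leaf [0, 1])))) (.node (.node (.node (.leaf []) (.leaf [135484863, -27109661, 338056679, 146627542, -188585456, -2942421, -31595295, -102501425, 14247989, 2710120, -138334, -299000, -302104, -37860, 11619, -486, 5])) (.node (.leaf [111179, -29979, 313348, 150411, -189059, -5032, -20931, -109014, 12831, 9720, -278, 275, -362, -6, -1]) (.leaf [54827, -13477, 153205, 73655, -92586, -2719, -10179, -53217, 5671, 5187, -204, 124, -171, 3, -1]))) (.node (.node (.leaf [0, 1]) (.leaf [0, 1])) (.node (.leaf [-2623, 263, -5804, -2337, 3060, 28, 675, 1595, -127, -52, 3, 5, -1]) (.leaf [-11817, 3424, -35143, -17468, 21786, 796, 1936, 12713, -1489, -1329, 65, -46, 49, 4])))))))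

def twoL18 : Janko.Tree (List ℤ) :=
  (.node (.node (.node (.node (.node (.node (.node (.leaf []) (.leaf [-4, 2, -14, -7, 10, 0, 1, 5, 0, -1])) (.leaf [-376, -36, 291, 503, -724, 74, 293, -323, -62, 80, -2, 4, 2, -1])) (.node (.leaf [0, 0, 1]) (.leaf [0, 0, 1]))) (.node (.node (.leaf [0, 0, 1]) (.leaf [0, 0, 1])) (.node (.leaf []) (.leaf [-5167139, 1773167, -16489702, -8623892, 10592903, 440179, 678968, 6426055, -696004, -844910, 32148, -34378, 27537, -736, 255, -15])))) (.node (.node (.node (.leaf [0, 0, 1]) (.leaf [-44392240, 13805009, -129133375, -62701766, 78245039, 2332512, 8027135, 45786218, -6428212, -3594703, 117750, -59713, 199313, 8346, -979, 176, 1])) (.node (.leaf [0, 0, 1]) (.leaf [-227640, 29371, -602711, -286798, 366055, 10385, 40532, 202029, -8315, -25167, 1615, -764, 340, -63, 0, -1]))) (.node (.node (.leaf []) (.leaf [-40, 16, -124, -63, 78, -1, 5, 49, -6, -3])) (.node (.leaf []) (.leaf [-1272752, 315546, -3324449, -1481775, 1885661, 35225, 282270, 1052201, -168630, -25223, 821, 3064, 4301,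 476, -183, 7]))))) (.node (.node (.node (.node (.leaf [4, 0, 8, 2, -4, 0, -2]) (.leaf [0, 0, 1])) (.node (.leaf []) (.leaf []))) (.node (.node (.leaf [0, 0, 1]) (.leaf [-745619470, 86742554, -1731256599, -716166103, 940300071, 8750394, 180408971, 483721224, -47641498, -8520092, 1432772, 2461176, 677597, 157747, -78161, 990, -21])) (.node (.leaf []) (.leaf [-58095146, 8833232, -150413658, -68318687, 88286876, 997340, 11026184, 47404575, -4276965, -2159663, 133116, 259002, 116336, 13976, -8931, 307, 5])))) (.node (.node (.node (.leaf []) (.leaf [])) (.node (.leaf [1819797, -434720, 4994864, 2362657, -2979714, -81454, -351763, -1699183, 191668, 145069, -6838, 3646, -5912, -38, 32, 1]) (.leaf [-25554886, 9073725, -83827812, -44388421, 54550021, 2160521, 2906806, 33072562, -3574848, -4247381, 157361, -150214, 146932, -2189, 816, -30, 3]))) (.node (.node (.leaf [3, 0, 5, 1, -1, 0, -1, -1]) (.leaf [5323386, -1324979, 15052689, 7284667, -9145640, -279336, -948799, -5265035, 571640, 502991, -23376, 11819, -18995, -204,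 76, 1])) (.node (.leaf [288645, -67763, 802989, 385916, -486048, -13354, -52731, -278451, 27711, 27159, -924, 586, -774, 1, -7]) (.leaf [3896, -271, 8590, 3445, -4571, -28, -972, -2299, 128, 65, -8, -4, 2])))))) (.node (.node (.node (.node (.node (.leaf []) (.leaf [47, -7, 127, 58, -77, 0, -9, -39, 2, 3])) (.node (.leaf []) (.leaf []))) (.node (.node (.leaf [0, 0, 1]) (.leaf [-4037598, 417944, -12328435, -6733558, 8381293, 390266, 321759, 4910248, 132649, -1088701, 50613, -45662, 3481, -3548, 944, -79])) (.node (.leaf [0, 0, 1]) (.leaf [2003, -219, 4582, 1929, -2477, -65, -493, -1342, 103, 97, -8, -1, -1])))) (.node (.node (.node (.leaf [-1999, 517, -5406, -2514, 3167, 116, 445, 1801, -233, -174, 8, -7, 5]) (.leaf [2437, -124, 5473, 2261, -2973, -40, -554, -1520, 66, 56, -8, -4, 0, -1])) (.node (.leaf [7, 15, 10, 1, -8, 1, -1, 6, -7, 1, -1]) (.leaf [373115, -78597, 981509, 451789, -573678, -13989, -77954, -322073, 34261, 25812, -915, 434, -787, -22]))) (.node (.node (.leaf [-207, 12, -486, -211, 282, -1, 47,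 140, 1, -15, 1]) (.leaf [-324015, 55519, -858151, -403091, 513937, 12155, 62095, 285811, -19606, -29922, 1120, -628, 442, -35, 18, -1])) (.node (.leaf [-19363, 8396, -63862, -32661, 39993, 1751, 2724, 24222, -4390, -1809, 219, -102, 214, 13, -3]) (.leaf [-2940438, 1018294, -12149957, -7437622, 9049179, 417849, -237554, 5630157, -119275, -1199653, 36885, -44084, 14919, -3049, 784, -29]))))) (.node (.node (.node (.node (.leaf []) (.leaf [104675227, -28937700, 265781135, 114262491, -145233359, -2825381, -26365186, -81334491, 15997677, 373223, 36534, -168530, -358221, -44016, 8660, -609, 7])) (.node (.leaf []) (.leaf [3322244743, -674122910, 8721870484, 4001344984, -5090992536, -120276007, -685385858, -2839227905, 307417575, 205207340, -9774569, 860231, -8082801, -355570, 134003, -137, 35]))) (.node (.node (.leaf [0, 0, 1]) (.leaf [0, 0, 1])) (.node (.leaf []) (.leaf [542600, -153051, 1528395, 732324, -915117, -28781, -104149, -533461, 69388, 45817, -1584, 1230, -2064, -58, 5])))) (.node (.node (.node (.leaf [])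 (.leaf [-3, 0, -5, -3, 4, 0, 0, 2])) (.node (.leaf [101223, -24927, 281326, 134434, -169365, -4554, -19078, -96987, 10523, 8908, -298, 211, -296, -4, -1]) (.leaf []))) (.node (.node (.leaf [-15, -53, -22, -21, 33, -4, -26, 10, 26, 4, 1]) (.leaf [-6890049, 1178046, -17880223, -8182151, 10474687, 227158, 1392134, 5748748, -515136, -439980, 25648, 162, 14163, 509, -365, -5])) (.node (.leaf [0, 0, 1]) (.leaf [-8411, 4557, -32163, -17923, 21721, 1091, 606, 13546, -1946, -1808, 70, -84, 80, 3])))))))

def twoL19 : Janko.Tree (List ℤ) :=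
  (.node (.node (.node (.node (.node (.node (.node (.leaf []) (.leaf [2, 0, 0, 0, 1])) (.leaf [1387, -117, 2917, 1109, -1470, -8, -383, -742, 62, 3, 0, -2, 1])) (.node (.leaf [-169339419, 29085435, -426048662, -189155335, 243010570, 4724442, 37176668, 132239035, -13835975, -7609806, 430432, 160727, 309057, 23543, -9797, 107, -9]) (.leaf [3704650, -966885, 10309813, 4901904, -6159816, -176655, -711465, -3542523, 439041, 289076, -11264, 5879, -13065, -430, 110, -3]))) (.node (.node (.leaf []) (.leaf [719205, -221426, 2048358, 999765, -1238877, -50661, -148528, -738249, 84400, 98075, -2238, 6046, -1944, 173, -232, 3])) (.node (.leaf [-299, 239, -1222, -651, 843, -41, 34, 483, -81, -20, -9, 1]) (.leaf [37350252, -3151441, 94917754, 43784338, -56857158, -819791, -6716990, -30142776, 787717, 2851900, -148196, -75036, -14474, 2341, 2415, 5, 1])))) (.node (.node (.node (.leaf []) (.leaf [])) (.node (.leaf []) (.leaf [-125434, 28964, -337468, -157665, 199160, 5376, 25482, 113176, -12672, -9606, 335, -194, 323, 8, 2])))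 (.node (.node (.leaf [-49786750, -7942084, -91959260, -31575506, 46448495, -1707271, 12125180, 17180945, 3773570, 1036980, 132770, 506160, -189607, 3768, -11520, 23, -1]) (.leaf [1, 0, 0, 1, 0, 0, 0, -1])) (.node (.leaf [232303307, -22632784, 569309953, 252662657, -328657058, -5059721, -47927199, -173159854, 8752965, 12835296, -855084, -408508, -153860, -4907, 16046, 227, 3]) (.leaf [94451, -23983, 264597, 127106, -159884, -4372, -17623, -91920, 10055, 8668, -272, 205, -286, -4, -1]))))) (.node (.node (.node (.node (.leaf [-6120175, 736476, -13946683, -5656113, 7441643, 75138, 1566993, 3809547, -398526, -64698, 8958, 14718, 3623, 1064, -422, 6, -1]) (.leaf [])) (.node (.leaf []) (.leaf [-422, 39, -921, -370, 474, 23, 116, 253, -24, -20, 2, 0, 1]))) (.node (.node (.leaf []) (.leaf [5033224, 1773644, 1134825, -3735299, 3410054, 639762, -2775067, 3769347, -406495, -1532143, 27494, -85393, 45443, -3530, 1034, 14, 1])) (.node (.leaf [261, -39, 837, 440, -573, -8, -30, -299, 3, 54, -8, 2, -1]) (.leaf [-113334224, 39476217,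 -360419794, -186455968, 230076924, 8352790, 15086303, 138258964, -16494297, -15571705, 564408, -512024, 627755, 2319, -629, 11, 17])))) (.node (.node (.node (.leaf []) (.leaf [-1519, 110, -3554, -1516, 1994, 31, 345, 1019, -41, -73, 6, 1])) (.node (.leaf [45158438, -9621073, 122186555, 57478564, -72841600, -1841593, -8676790, -41042388, 4141664, 3511675, -150434, 42228, -117546, -2621, 808, 5]) (.leaf [-478602, 742365, -295760, 716072, -820457, -163515, 528301, -570225, -671489, 736744, -30294, 37806, 14807, 4013, -1264, 81]))) (.node (.node (.leaf []) (.leaf [4361, -1109, 11891, 5532, -7001, -186, -884, -3968, 512, 273, -12, 18, -14])) (.node (.leaf [381, -15, 964, 478, -571, -64, -68, -345, 13, 76, -11, 1, -3]) (.leaf [-12700751, 8506306, -58985254, -36124001, 43053048, 2306502, -1023195, 28023436, -3019726, -4820528, 158971, -217603, 160213, -5921, 2129, -41, 5])))))) (.node (.node (.node (.node (.node (.leaf []) (.leaf [-42159, 4824, -100659, -43106, 56605, 612, 9856, 29240, -1901, -1858, 104, 6, 2, 0, 1]))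 (.node (.leaf [-170, -279, 769, 722, -874, -8, 153, -574, 53, 166, -2, 10, -1]) (.leaf [-4144, 409, -9156, -3662, 4832, 17, 1068, 2481, -187, -60, 0, 6, -3]))) (.node (.node (.leaf []) (.leaf [])) (.node (.leaf []) (.leaf [-37336, -4321, -85741, -38999, 52749, 56, 6174, 25371, 4357, -4543, 164, -45, -163, -32, 9])))) (.node (.node (.node (.leaf []) (.leaf [9453, -606, 21958, 9295, -12307, -79, -2105, -6228, 204, 343, -30, -6, 6])) (.node (.leaf [1621, 126, 3026, 1033, -1453, -13, -443, -603, -43, -14, -3, -5, 3]) (.leaf [-51454, 4354, -175870, -101673, 126512, 5822, -467, 73869, 2655, -16602, 1076, -614, 187, -58, 3, -1]))) (.node (.node (.leaf []) (.leaf [])) (.node (.leaf []) (.leaf [1975, -118, 4488, 1852, -2469, -12, -466, -1223, 49, 52, -7, -3, 1]))))) (.node (.node (.node (.node (.leaf []) (.leaf [-463848784, 99397373, -1239371112, -576510412, 731050110, 18440722, 92992713, 411227995, -44026916, -32994067, 1428574, -410435, 1193854, 34841, -10139, -39, -11])) (.node (.leaf []) (.leaf [70483443, -14917946,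 214033056, 109455783, -138485515, -2719504, -7692652, -78605597, 5184765, 8223134, -255602, -124491, -213153, -4150, 9233, -333, -7]))) (.node (.node (.leaf []) (.leaf [217716914, -64056820, 634390668, 311065213, -387901024, -12369575, -37986662, -227344868, 28130638, 21401632, -787868, 624521, -915694, -17567, 2946, -7, -11])) (.node (.leaf [1332, 91, 2257, 633, -936, 21, -423, -330, -1, -80, -7, -9, 2]) (.leaf [343389, -92566, 947043, 446803, -560838, -15867, -68857, -323929, 42102, 25608, -790, 677, -1149, -36, -2])))) (.node (.node (.node (.leaf []) (.leaf [704539, -169528, 1883913, 896524, -1112245, -50330, -152926, -658509, 62077, 92274, -2848, 5290, -1021, 241, -218, 3])) (.node (.leaf [100598, -24986, 279912, 133829, -168549, -4547, -18976, -96601, 10549, 8892, -292, 213, -296, -4, -1]) (.leaf [17, -3, 52, 26, -35, -1, -4, -16, 0, 4]))) (.node (.node (.leaf []) (.leaf [-18754970, 3428604, -56422113, -29235894, 36767808, 1123805, 2117576, 21099548, -832038, -3076148, 140822, -72710, 49208, -5520, 1242,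 -104, 3])) (.node (.leaf []) (.leaf [-1, 0, -1, 0, 0, 0, 0, 1])))))))

def twoL20 : Janko.Tree (List ℤ) :=
  (.node (.node (.node (.node (.node (.node (.node (.leaf []) (.leaf [-53, -21, 200, 208, -255, -12, 68, -153, -4, 47, -4, 2, -1])) (.leaf [-45579578, 10296205, -132436790, -66382923, 83238522, 2674781, 7031758, 48157297, -3433340, -6298041, 228502, -194202, 118168, -8991, 3556, -142, -3])) (.node (.leaf [-22049118, 9709470, -70968438, -36401677, 44406054, 1867002, 3557649, 27425475, -4360301, -2857421, 76908, -150899, 147846, 2075, 839, 9]) (.leaf [-108425435, 18439935, -280324559, -128463283, 164114969, 3858274, 22136860, 90559020, -7732851, -7653319, 366882, -48837, 188370, 2352, -1762, -119, -5]))) (.node (.node (.leaf []) (.leaf [1151, 1000, -2716, -3111, 3512, 297, -1013, 2558, -315, -686, 37, -41, 27, -1])) (.node (.leaf [1]) (.leaf [-33791, 3460, -75404, -29993, 40010, 127, 8978, 19833, -1671, -438, 30, 71, -10, 2, 1])))) (.node (.node (.node (.leaf []) (.leaf [89967, 656283, -1664075, -1317983,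 1426167, 136210, -206989, 1136908, -313663, -164787, 6012, -13833, 15204, 379, 28, 1, 1])) (.node (.leaf [1]) (.leaf [17, -36, 380, 289, -362, -12, 51, -209, 0, 53, -4, 2, -1]))) (.node (.node (.leaf [33559674, -8914649, 96060503, 46800833, -58575444, -1828514, -5905947, -33998940, 3843984, 3285535, -132686, 79664, -124936, -1732, 318, 5, -1]) (.leaf [1])) (.node (.leaf [-23690, 5763, -66558, -31975, 40450, 985, 4328, 22956, -2365, -2133, 77, -53, 67, -1]) (.leaf [-6134674, 455994, -14615348, -6348828, 8320298, 112713, 1317295, 4295066, -171142, -302202, 26148, 10834, 2149, 52, -159, -15]))))) (.node (.node (.node (.node (.leaf []) (.leaf [])) (.node (.leaf [42503, -9123, 113494, 52984, -67175, -1542, -8429, -37990, 3731, 3244, -62, 86, -87, 1, -1]) (.leaf [19425, -8408, 64024, 32736, -40091, -1751, -2736, -24274, 4394, 1813, -219, 102, -214, -13, 3]))) (.node (.node (.leaf [3574382, -952805, 9983760, 4753920, -5967333, -174096, -685221, -3440157, 435922, 278641, -11016, 5658, -13097, -468, 116, -3]) (.leaf [70,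 4, 182, 81, -116, 2, -13, -47, -4, 5, -1])) (.node (.leaf [44937, 13036, 127864, 73106, -95010, -3480, 269, -49516, -12288, 16272, -1004, 272, 219, 68, -4, 1]) (.leaf [-320275, 66883, -884366, -427451, 537278, 17234, 57108, 308136, -26123, -34347, 1520, -707, 826, -20, 13, -1])))) (.node (.node (.node (.leaf []) (.leaf [1579767867, -249840977, 3968034182, 1766825741, -2273898563, -42541684, -339533169, -1231778664, 115958310, 75312282, -4437572, -1780425, -2617892, -190066, 103889, -166, 33])) (.node (.leaf [1708630, -411636, 4697614, 2223250, -2803175, -76872, -329770, -1599428, 182254, 135723, -6568, 3514, -5688, -40, 36, 1]) (.leaf [-17384120, 1280158, -38204692, -15113347, 20152123, 104004, 4459574, 9951457, -719085, -120707, 36000, 53219, -1608, 2568, -1049, -17, -1]))) (.node (.node (.leaf [35304, -11610, 105506, 52501, -65382, -1894, -6147, -38623, 4713, 4073, -30, 105, -131, -2, -7]) (.leaf [])) (.node (.leaf [41835756, -1861193, 95919266, 40063882, -53363136, -127024, -9182443, -26429545, 930729, 777149,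 -116858, -216629, 3107, -6329, 6767, -57, -1]) (.leaf [-53, -22, 200, 208, -256, -12, 68, -153, -4, 47, -4, 2, -1])))))) (.node (.node (.node (.node (.node (.leaf []) (.leaf [5534353, -1306110, 14879913, 6908535, -8731147, -230554, -1129632, -4949667, 609087, 357976, -16023, 4578, -16992, -751, 200, -3])) (.node (.leaf [1]) (.leaf [1]))) (.node (.node (.leaf []) (.leaf [-54829, 11752, -147358, -69001, 87474, 2202, 10846, 49300, -4962, -4328, 176, -92, 130, 1])) (.node (.leaf [-3023644, 736628, -8061248, -3696930, 4676789, 116578, 638417, 2645515, -359716, -156324, 7052, -500, 9825, 603, -192, 5]) (.leaf [-103397220, 24211314, -278971951, -129768267, 164261083, 4052179, 20763298, 92814196, -11278210, -6504259, 267650, -19770, 308865, 15866, -3818, 198, -1])))) (.node (.node (.node (.leaf [1]) (.leaf [-470222, 105378, -1269148, -595395, 753174, 19588, 93515, 426598, -45098, -37343, 1327, -645, 1187, 8, 11])) (.node (.leaf []) (.leaf [290751, -66585, 778773, 362675, -458629, -11873, -59552, -260167, 28952, 21718,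 -657, 427, -697, -16, -3]))) (.node (.node (.leaf []) (.leaf [-10668439, 884505, -26615918, -12114914, 15778489, 204536, 2044462, 8323184, -182340, -812987, 33156, 12321, -1592, -1044, -360, -15, -1])) (.node (.leaf [14464, -3296, 40380, 19343, -24573, -577, -2665, -13798, 1306, 1343, -61, 38, -34, 1, -1]) (.leaf [-32611864, 7391473, -89213705, -42183458, 53305783, 1423304, 6202345, 30225193, -3262762, -2548238, 112746, -30566, 96827, 2747, -1110, 17]))))) (.node (.node (.node (.node (.leaf []) (.leaf [1])) (.node (.leaf []) (.leaf [6528, -601, 15697, 6829, -8905, -129, -1376, -4670, 263, 265, -29, 0, -3, -1]))) (.node (.node (.leaf [1184516789, -183819532, 2938849213, 1292307291, -1667709585, -28704028, -261449362, -897328075, 88190648, 47386518, -3029638, -1737050, -1894992, -169833, 92328, -567, 25]) (.leaf [48814875, -2646297, 116205087, 50616382, -66738366, -506279, -9984576, -33992757, 822769, 2169494, -165442, -172613, 3366, -1681, 5139, 9])) (.node (.leaf [1]) (.leaf [5618525, -2176611, 17170109, 8555694,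 -10529175, -392954, -998805, -6374014, 992700, 590169, -15924, 28957, -31857, -753, -106, -1])))) (.node (.node (.node (.leaf [1]) (.leaf [219488, -62824, 628128, 304927, -379708, -13240, -40348, -222714, 28366, 20831, -839, 543, -921, -22, 7])) (.node (.leaf [1]) (.leaf [1]))) (.node (.node (.leaf [-76, 13, -197, -89, 118, 0, 18, 60, -3, -7]) (.leaf [11678626, -4731631, 39618181, 21273392, -26009191, -1054776, -1253298, -15994139, 1847270, 2113929, -58904, 84388, -71578, 1300, -728, 5, -1])) (.node (.leaf []) (.leaf [1])))))))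

def twoL21 : Janko.Tree (List ℤ) :=
  (.node (.node (.node (.node (.node (.node (.node (.leaf [0, 1]) (.leaf [16, -35, 380, 289, -362, -12, 51, -208, 0, 53, -4, 2, -1])) (.leaf [0, 1])) (.node (.leaf []) (.leaf [-52076475, 33418069, -203582561, -114949396, 137004750, 7449241, 4362196, 89304354, -13692806, -13018216, 311198, -818777, 525717, -10384, 13046, -134, 1]))) (.node (.node (.leaf [182, -99, 643, 310, -426, 37, -26, -213, 35, -14, 4, -1]) (.leaf [-4383, 1488, -15355, -8364, 10399, 388, 317, 6116, -540, -860, 53, -34, 27, -1])) (.node (.leaf []) (.leaf [0, 1])))) (.node (.node (.node (.leaf []) (.leaf [0, 1])) (.node (.leaf [246569, -66086, 680790, 321604, -403235, -12622, -49590, -232896, 30439, 19201, -770, 514, -865, -33, 3]) (.leaf [1399733277, -202905963, 3418470467, 1483741345, -1921969580, -30082596, -316155308, -1024254455, 99043711, 48370450, -3391632, -2483039, -1940843, -207734, 110797, -759, 37]))) (.node (.node (.leaf []) (.leaf [18495, -4051, 49266, 22730, -29201, -438, -3936, -16056, 1521,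 1412, -18, 50, -25, 0, -1])) (.node (.leaf [0, 1]) (.leaf [0, 1]))))) (.node (.node (.node (.node (.leaf [0, 1]) (.leaf [-3509, 1376, -13109, -7331, 9094, 331, 157, 5388, -476, -805, 45, -32, 25, -1])) (.node (.leaf [0, 1]) (.leaf [0, 1]))) (.node (.node (.leaf []) (.leaf [0, 1])) (.node (.leaf []) (.leaf [-173947, 44393, -402890, -159268, 199915, 7537, 50545, 113273, -29592, 4763, 246, 671, 697, 108, -20, 1])))) (.node (.node (.node (.leaf [0, 1]) (.leaf [0, 1])) (.node (.leaf [13990597, -3553855, 38655877, 18339053, -23051170, -674570, -2725738, -13247987, 1584618, 1139263, -45334, 28441, -46501, -1046, 104, 5]) (.leaf [-1936869, 369783, -5436242, -2667605, 3372003, 91250, 311964, 1914344, -122717, -227428, 8809, -4960, 4081, -311, 28, -5]))) (.node (.node (.leaf [0, 1]) (.leaf [0, 1])) (.node (.leaf []) (.leaf [3559, -272, 7739, 3091, -4044, -73, -924, -2091, 141, 93, -9, -5, -1])))))) (.node (.node (.node (.node (.node (.leaf []) (.leaf [0, 1])) (.node (.leaf [0, 0, 0, 0, -1, 1]) (.leaf [27758, -5668, 75123,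 35392, -45000, -1083, -5307, -25174, 2314, 2304, -108, 50, -64, -1]))) (.node (.node (.leaf []) (.leaf [-206361, 48751, -555684, -259285, 327595, 8591, 42363, 186095, -21483, -15459, 494, -237, 562, 10, 3])) (.node (.leaf []) (.leaf [-23709131, 3723729, -56279171, -23383662, 30472717, 365418, 5819200, 15957461, -2170338, -44870, 47530, 80454, 44929, 7504, -2282, 66, 1])))) (.node (.node (.node (.leaf []) (.leaf [-3529713, 4385067, -24858932, -16926752, 19773227, 1214036, -1469242, 13495860, -1423570, -2703446, 69924, -136893, 82268, -4502, 1590, -29, 3])) (.node (.leaf [-223997, 53068, -615091, -288956, 365873, 9716, 43643, 206075, -24851, -15530, 1150, -347, 865, 24, -11]) (.leaf [0, 1]))) (.node (.node (.leaf []) (.leaf [])) (.node (.leaf [79234497, -38332180, 271104154, 144566030, -175003437, -8258499, -10644311, -110051419, 16053299, 14196804, -376707, 819864, -574214, 7087, -12484, 145, 1]) (.leaf [-968, 38, -2123, -866, 1124, 36, 230, 583, -32, -28, 7, 2, 1]))))) (.node (.node (.node (.node (.leaf []) (.leaf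 [-3108702, 781760, -8800680, -4262122, 5350523, 160831, 553667, 3083183, -334554, -294866, 12145, -6750, 10707, 150, -56, -1])) (.node (.leaf []) (.leaf [-339311734, 77194550, -913364257, -425552510, 538696240, 13677815, 67997309, 304338330, -35062689, -23148513, 983251, -256863, 970723, 36941, -11088, 207, -3]))) (.node (.node (.leaf []) (.leaf [74320172, -8292763, 187177736, 84852957, -109903952, -1740113, -14545437, -58619588, 3069760, 4718405, -267304, -117143, -65024, -953, 4414, 41])) (.node (.leaf []) (.leaf [0, 1])))) (.node (.node (.node (.leaf []) (.leaf [-601, 1234, -6755, -4777, 5688, 310, -592, 3706, -429, -697, 31, -38, 26, 1])) (.node (.leaf []) (.leaf [14310850, -1950461, 38422037, 18415804, -23520296, -558257, -2407800, -12988778, 584284, 1480587, -69158, 8310, -19018, 1730, 125, 27]))) (.node (.node (.leaf []) (.leaf [])) (.node (.leaf [-63, -7, -147, -63, 90, -2, 11, 37, 5, -3, 1]) (.leaf [-4705, 574, -10995, -4615, 6048, 48, 1144, 3151, -246, -149, 4, 6, -2, 0, 1])))))))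

def twoL22 : Janko.Tree (List ℤ) :=
  (.node (.node (.node (.node (.node (.node (.node (.leaf []) (.leaf [0, 0, 0, 0, 0, 0, 0, 0, 0, 0, 0, 0, 0, 1, 0, 0, 0])) (.leaf [-3336277, 47444, -6690734, -2410961, 3327619, -31513, 929628, 1499414, -42640, 41612, 1050, 16208, -6222, 412, -280, 4, -1])) (.node (.leaf []) (.leaf [-38170, 107074, -273034, -175992, 187968, 25929, 13093, 154999, -41867, -40656, 100, -5137, 1038, -109, 212, -1]))) (.node (.node (.leaf [541, -145, 1575, 739, -986, 32, -95, -508, 48, 14, 2, -1]) (.leaf [0, 0, 1])) (.node (.leaf [56, -15, 156, 75, -94, 0, -9, -56, 6, 3]) (.leaf [-19210, 1225, -43575, -17900, 24124, -159, 4626, 11776, -251, -571, 12, 8, -34, -2, 1])))) (.node (.node (.node (.leaf []) (.leaf [-7871861, 1059971, -19019153, -8216930, 10667935, 163224, 1803228, 5657638, -489637, -305629, 16794, 10991, 7004, 715, -434, 3, -1])) (.node (.leaf [8064291, -5003151, 32204437, 18466318, -22050093, -1151294, -419877, -14318391, 1975844, 2153477, -50006, 115920, -79761, 1726, -1400, 14, -1])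 (.leaf [19, -39, 383, 288, -359, -12, 49, -210, 2, 52, -4, 2, -1]))) (.node (.node (.leaf [55508536, -10168492, 144807655, 66638134, -84860076, -2138054, -11307432, -47170322, 4395190, 3950990, -201794, 41232, -115665, -2538, 940, 84, 1]) (.leaf [41615, -4807, 99424, 42586, -55924, -603, -9743, -28887, 1892, 1844, -101, -6, -2, 0, -1])) (.node (.leaf []) (.leaf [-1048805, -331525, -1644236, -487378, 784417, -43886, 264106, 208417, 179717, -4906, 5177, 9033, -7469, -248, -27, -13]))))) (.node (.node (.node (.node (.leaf []) (.leaf [-2172, 364, -5139, -2165, 2809, 38, 560, 1502, -159, -86, 2, -1])) (.node (.leaf []) (.leaf [-11206012, 1588360, -28833213, -13205365, 16988769, 328063, 2190554, 9209637, -647681, -743821, 43836, 9466, 17231, 215, -537, -1]))) (.node (.node (.leaf []) (.leaf [-127830960, 28877745, -339215002, -155608544, 197621292, 4526509, 26560047, 110764451, -13780931, -6867505, 296807, 40921, 361541, 23026, -6083, 283, -1])) (.node (.leaf [0, 0, 1]) (.leaf [11543, -2187, 29836, 13453, -17275, -302,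 -2389, -9467, 1003, 510, -18, 15, -18, 0, -1])))) (.node (.node (.node (.leaf []) (.leaf [22542111, -3165990, 53815520, 23038660, -29833163, -557518, -5406492, -15921554, 1434495, 976313, -55785, 4628, -19624, -1059, 38, 65, 1])) (.node (.leaf [0, 0, 1]) (.leaf [0, 0, 1]))) (.node (.node (.leaf [-4384, 658, -10949, -4866, 6318, 98, 981, 3365, -242, -281, 10, -6, 1]) (.leaf [])) (.node (.leaf [-1, 0, 1]) (.leaf [4853, -598, 10299, 3851, -5067, -57, -1357, -2605, 385, -126, 12, -6, 0, 0, -1])))))) (.node (.node (.node (.node (.node (.leaf [0, 0, 1]) (.leaf [])) (.node (.leaf [12, -13, 54, 28, -36, 0, -3, -20, 6, 1]) (.leaf []))) (.node (.node (.leaf []) (.leaf [-65992, 16954, -183966, -87869, 110630, 2916, 12591, 63507, -7200, -5720, 168, -142, 198, 3])) (.node (.leaf [-1764, 81, -2629, -607, 748, 82, 676, 420, -124, 77, -2, 6, 1, -1]) (.leaf [-14583903, 1426527, -32295646, -12731164, 16895928, 126147, 3822885, 8430961, -860630, 7492, 29862, 47991, 7127, 3183, -872, 6, -1])))) (.node (.node (.node (.leaf []) (.leaf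 [0, 0, 1])) (.node (.leaf []) (.leaf [-1128468, 238946, -3218559, -1592392, 2001912, 62736, 180706, 1149321, -84460, -140704, 6293, -3876, 3041, -160, 35, -3]))) (.node (.node (.leaf []) (.leaf [])) (.node (.leaf [0, 0, 1]) (.leaf [-761912818, 154220417, -2021922467, -936694907, 1191014278, 28565571, 152387185, 665169986, -68704434, -51670511, 2459287, -230998, 1890409, 60330, -26976, 373, -17]))))) (.node (.node (.node (.node (.leaf [0, 0, 1]) (.leaf [-61, 13, -150, -66, 86, 0, 15, 46, -5, -3])) (.node (.leaf []) (.leaf [-1867, 70, -3767, -1376, 1852, 6, 519, 892, -54, 16, 4, 5, -2]))) (.node (.node (.leaf []) (.leaf [57057966, -2798053, 133601488, 57299161, -75789126, -527679, -12092298, -38252287, 960047, 2188060, -193134, -208299, 8392, -2629, 6017, 17])) (.node (.leaf [-4, 0, -8, -3, 4, 0, 1, 2]) (.leaf [911562, -322190, 2684049, 1301651, -1610560, -54062, -168541, -959812, 161124, 62038, -2052, 496, -5189, -311, 136, -5])))) (.node (.node (.node (.leaf [-121, 21, -315, -144, 190, 0, 26, 98, -6, -9]) (.leaf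 [0, 0, 1])) (.node (.leaf []) (.leaf [1808240, -737892, 4643715, 1922280, -2380206, -84139, -530436, -1406792, 456989, -77935, 1924, -3366, -11712, -1660, 299, -15]))) (.node (.node (.leaf [0, 0, 1]) (.leaf [69645956, -75045628, 378917326, 239327842, -278635441, -18263412, 6793086, -191562947, 28416802, 34727388, -737900, 2269762, -1239576, 51030, -38244, 391, -3])) (.node (.leaf [57652561, -23261690, 164739524, 77285044, -95091776, -3631491, -13285368, -57557436, 11693281, 3433187, -81438, 285281, -331929, -16606, -1169, 15, -3]) (.leaf [-63841867, 7536488, -164482722, -75677631, 97841491, 1437142, 11643633, 52411911, -2980262, -3916470, 231229, 185382, 85148, 4590, -7559, 110, 3])))))))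

def twoL23 : Janko.Tree (List ℤ) :=
  (.node (.node (.node (.node (.node (.node (.node (.leaf []) (.leaf [62, 8, 142, 59, -84, 2, -12, -34, -4, 2, -1])) (.leaf [1960, -159, 4347, 1743, -2325, 8, -489, -1164, 65, 22, 0, -2, 2])) (.node (.leaf [-1, 0, -2, -1, 1, 0, 0, 1]) (.leaf []))) (.node (.node (.leaf []) (.leaf [-4119, 1391, -14719, -8094, 10081, 358, 233, 5909, -487, -843, 54, -33, 26, -1])) (.node (.leaf [-5920773, 18581696, -60638510, -41394392, 46031796, 4247253, -2284387, 34772227, -8131872, -6100126, 145989, -556890, 339177, -2888, 8805, -65, 1]) (.leaf [-43758, 5603, -105875, -45818, 59913, 684, 10111, 31322, -2203, -2086, 98, -1, 10, 0, 1])))) (.node (.node (.node (.leaf [-5, 0, -9, -2, 4, 0, 2, 1]) (.leaf [])) (.node (.leaf [247186, -66118, 682323, 322281, -404154, -12605, -49705, -233339, 30436, 19224, -772, 514, -864, -33, 3]) (.leaf [-524810, 105851, -1416049, -669896, 848626, 22631, 100396, 478848, -41584, -48118, 1880, -1046, 1117, -17, 10, -1]))) (.node (.node (.leaf []) (.leaf [-258243, 46336,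 -687012, -327274, 413079, 12004, 48660, 235574, -15127, -28287, 564, -598, 225, -38, 23, -1])) (.node (.leaf [-3272, 211, -7447, -3089, 4088, 33, 763, 2064, -93, -91, 12, 5, -1]) (.leaf [246708, -56198, 669221, 315096, -397929, -10760, -48463, -226241, 24209, 19904, -728, 369, -633, -8, -6]))))) (.node (.node (.node (.node (.leaf []) (.leaf [-1446, 205, -3650, -1625, 2148, -5, 317, 1105, -57, -87, 0, 1, -1])) (.node (.leaf [1079, -109, 2709, 1209, -1613, 17, -219, -813, 17, 61, -2, 0, 1]) (.leaf [-834162, 1148038, -4070431, -2383093, 2667208, 244257, 122822, 1988444, -536814, -280305, 3319, -32103, 18233, 134, 491, -9]))) (.node (.node (.leaf []) (.leaf [8545375, -1534820, 21191655, 9256775, -11892980, -239842, -1978388, -6468175, 758796, 321683, -18115, -6867, -15679, -1381, 519, -9, 1])) (.node (.leaf [-15051, 3731, -41370, -19606, 24704, 665, 2961, 14146, -1582, -1283, 36, -32, 43, 1]) (.leaf [111409345, -26528824, 299177299, 138409072, -175151125, -4353161, -22860886, -99018546, 12575483, 6571799, -276654,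 22595, -341521, -18964, 4535, -211, 1])))) (.node (.node (.node (.leaf []) (.leaf [1414, -160, 3650, 1670, -2211, 16, -264, -1137, 26, 91, 0, 0, 1])) (.node (.leaf []) (.leaf [207529, -51399, 571601, 268332, -339248, -9132, -40925, -191738, 24494, 13923, -1065, 297, -846, -31, 1]))) (.node (.node (.leaf []) (.leaf [21281, -3441, 52924, 23272, -30259, -425, -4930, -16058, 1366, 1181, -35, 20, -15, 0, -1])) (.node (.leaf [1, 0, 0, 0, 1, 0, 0, -1]) (.leaf [-11828319, 2888543, -31988065, -14926747, 18812966, 536251, 2421436, 10735015, -1325997, -844884, 37120, -19593, 37447, 1185, -206, -5])))))) (.node (.node (.node (.node (.node (.leaf []) (.leaf [-60087, 17812, -181250, -91171, 114627, 2559, 9348, 66509, -6301, -7507, 25, -242, 153, -7, 10])) (.node (.leaf [-58848877, 15109191, -169087225, -82927173, 103852307, 3250668, 10057610, 60215335, -6218086, -6290819, 248316, -168142, 204491, -252, 1178, -64, 1]) (.leaf [27666, -5665, 75196, 35536, -45177, -1093, -5231, -25277, 2300, 2347, -114, 52, -65, -1]))) (.node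 (.node (.leaf []) (.leaf [47, 25, -231, -225, 280, 12, -66, 164, 4, -51, 4, -2, 1])) (.node (.leaf [-1547, 121, -3278, -1258, 1669, 8, 415, 842, -64, -3, 0, 2, -1]) (.leaf [-23853, 4435, -60709, -27236, 34855, 842, 5355, 19122, -1988, -1479, 78, -11, 44, 2])))) (.node (.node (.node (.leaf []) (.leaf [8826, -975, 20476, 8581, -11240, -136, -2148, -5845, 411, 322, -15, -3, 2])) (.node (.leaf [589, -247, 1920, 952, -1252, 43, -95, -675, 79, 34, 7, -1]) (.leaf [-181924, 40332, -480878, -221545, 281385, 5865, 37757, 158346, -17594, -11530, 41, 55, 312, 30, 9]))) (.node (.node (.leaf []) (.leaf [1848, -194, 4733, 2175, -2833, -16, -323, -1509, 52, 111, -4, 1, 1])) (.node (.leaf [368382363, -151592318, 1185139346, 612607336, -749180050, -31325319, -56029112, -459992072, 64908410, 53164492, -1545784, 2670812, -2247159, 2522, -33400, 230, -3]) (.leaf [-351582, 86253, -892411, -389496, 495399, 11245, 85742, 276185, -45639, -9061, 564, 321, 1070, 112, 0, 1]))))) (.node (.node (.node (.node (.leaf []) (.leaf [4330981, -972040,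 11329040, 5139333, -6519559, -166506, -938211, -3657245, 476761, 220226, -12342, 968, -12811, -772, 180, -3])) (.node (.leaf [2820, -325, 6821, 2957, -3891, -16, -638, -2010, 111, 133, -5, -3, 1]) (.leaf [-211538161, 5574264, -483943229, -204156476, 272016935, 1196663, 45645633, 134615653, -1251091, -7249075, 706014, 872174, -128299, 9091, -23807, -130, -3]))) (.node (.node (.leaf []) (.leaf [-11020138, 461954, -18768521, -4457004, 6867750, -451511, 3852804, 2120120, -1021120, 1773041, -19860, 150734, 4333, 10362, -3720, 114, 1])) (.node (.leaf [-191406797, 41517986, -528579747, -253111116, 319741984, 8630020, 34576788, 181535344, -17155748, -17300598, 741576, -271772, 530786, 3310, -3088, -133, 3]) (.leaf [230480, -61898, 636630, 300756, -376999, -11878, -46306, -217829, 28646, 17831, -741, 474, -820, -31, 3])))) (.node (.node (.node (.leaf []) (.leaf [-281442, 65353, -764621, -357057, 452194, 12180, 56131, 254562, -30561, -19178, 1292, -395, 995, 33, -11])) (.node (.leaf []) (.leaf [-44273021, -3871815, -90201217,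 -34669859, 48424262, -693881, 10203872, 21026165, 2209630, -599331, 152502, 285342, -118349, -1182, -5742, -87, -1]))) (.node (.node (.leaf []) (.leaf [])) (.node (.leaf [12, -3, 45, 25, -32, 0, -1, -17, 0, 3]) (.leaf [4707265, -478618, 10389230, 4082244, -5424961, -19194, -1238963, -2710716, 274698, -14736, -253, -18762, 336, -1080, 429, -12, 1])))))))

def twoL24 : Janko.Tree (List ℤ) :=
  (.node (.node (.node (.node (.node (.node (.node (.leaf []) (.leaf [1, 0, -2, 0, 2])) (.leaf [121338, -38701, 365690, 183408, -226652, -8588, -19261, -135354, 17298, 13667, -576, 390, -610, -12, 4])) (.node (.leaf [1]) (.leaf [-3806, 385, -8364, -3316, 4383, 6, 994, 2244, -180, -36, -2, 6, -3]))) (.node (.node (.leaf []) (.leaf [1])) (.node (.leaf [-1015004921, 158805022, -2676716364, -1250673699, 1599770027, 34296122, 188174109, 880269144, -62461706, -78527287, 3818637, 535961, 1758231, 15631, -58895, -60, -21]) (.leaf [89432, -2536, 229745, 110710, -143011, -3515, -14152, -76705, -2905, 12585, -645, 254, 89, 48, -16, 1]))))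 (.node (.node (.node (.leaf [1]) (.leaf [-65, 13, -176, -80, 106, 0, 15, 54, -4, -5])) (.node (.leaf []) (.leaf [7352, -1582, 19391, 8905, -11369, -207, -1546, -6334, 653, 494, -16, 17, -13]))) (.node (.node (.leaf []) (.leaf [-15225540, 3979526, -42469026, -20267555, 25442629, 746207, 2909714, 14673107, -1768975, -1272507, 46984, -30610, 52254, 1272, -139, 1])) (.node (.leaf []) (.leaf [-1862898, 654711, -5540224, -2726539, 3364214, 131121, 342744, 2016883, -305120, -185266, 7516, -7709, 10114, 283, -27, 1]))))) (.node (.node (.node (.node (.leaf [-2, 0, -2, -1, 0, 0, 0, 2]) (.leaf [-713005311, 195705645, -2007756689, -961632554, 1204961726, 36251226, 135578635, 697849302, -88208244, -59642565, 2240368, -1508262, 2647383, 73631, -4944, 480, -5])) (.node (.leaf [18767360, -14550140, 71502506, 38827068, -45689105, -2761118, -2989050, -30651861, 6713334, 3579788, -59888, 330714, -226016, -1963, -5432, 30]) (.leaf [-8848106, -825262, -13553984, -3053664, 4948862, -276290, 3081032, 1270069, 185482, 647389, 18, 59305,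 -33617, 1776, -899, -29, -3]))) (.node (.node (.leaf []) (.leaf [117788305, -34754613, 349192316, 173782280, -216451367, -7072063, -19345052, -127266310, 14535105, 13358092, -470750, 417413, -490590, -117, -2181, 4, -5])) (.node (.leaf [1893, 128, 3022, 793, -1100, -50, -612, -444, 42, -118, -10, -12]) (.leaf [1])))) (.node (.node (.node (.leaf [440004, -79353, 1174510, 553004, -703253, -17922, -83652, -392689, 30592, 39387, -1886, 694, -869, 34, -22, 1]) (.leaf [-15135026, 844555, -31941284, -12065783, 16296129, 1126, 4082948, 7768273, -565773, 125878, 25864, 58504, -6606, 2849, -1065, -12, -1])) (.node (.leaf [988, -121, 2630, 1231, -1602, -30, -185, -840, 38, 93, -10, 2, -2]) (.leaf [1]))) (.node (.node (.leaf []) (.leaf [-3574366, 952805, -9983736, -4753912, 5967324, 174096, 685217, 3440150, -435922, -278641, 11016, -5658, 13097, 468, -116, 3])) (.node (.leaf [1]) (.leaf [40098965, -6611105, 103764795, 47569580, -60910396, -1312532, -8074437, -33441864, 2749291, 2751996, -135342, 4808, -67108, -1299, 599,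 37])))))) (.node (.node (.node (.node (.node (.leaf []) (.leaf [43, -7, 114, 53, -70, 0, -8, -36, 2, 3])) (.node (.leaf []) (.leaf []))) (.node (.node (.leaf [1]) (.leaf [-479385, 222877, 824596, 1376102, -1625833, -104010, 614928, -1089702, -340880, 559912, -20386, 21481, 2296, 2488, -769, 34, -1])) (.node (.leaf [14364, -4497, 43389, 21791, -27186, -768, -2279, -16001, 1771, 1727, -42, 68, -58, -1, 1]) (.leaf [25588356, -4831771, 69134106, 32698305, -41552264, -1022332, -4698731, -23237507, 1978033, 2129674, -101622, 14808, -60088, -629, 1032, 15])))) (.node (.node (.node (.leaf []) (.leaf [-130119, 42269, -386738, -191232, 236887, 8582, 22593, 140664, -19345, -13268, 582, -367, 679, 20, -1])) (.node (.leaf [1]) (.leaf [-2722669, 691485, -7893134, -3889166, 4872327, 154853, 446246, 2817731, -291259, -288899, 14121, -6854, 10684, 26, -70, 1]))) (.node (.node (.leaf [1]) (.leaf [])) (.node (.leaf []) (.leaf [1]))))) (.node (.node (.node (.node (.leaf [1]) (.leaf [1872, 244, 3288, 1068, -1488, -26, -488, -620,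 -61, -54, -9, -12, 1])) (.node (.leaf [1]) (.leaf [1]))) (.node (.node (.leaf [1]) (.leaf [1])) (.node (.leaf []) (.leaf [46113972, -12639509, 136071830, 67953194, -84763478, -2780796, -7370167, -49650635, 5027666, 5602155, -200072, 168615, -170639, 1966, -1846, 64, -1])))) (.node (.node (.node (.leaf [4, -3, 12, 4, -6, 1, -2, -3, 1]) (.leaf [13244713, -4841735, 40787732, 20591986, -25352952, -974904, -2182264, -15316025, 2118492, 1613578, -51717, 70986, -71715, -584, -376, 5])) (.node (.leaf [92255, -22604, 256704, 122962, -154783, -4203, -17230, -88805, 9484, 8310, -278, 179, -270, -4, -1]) (.leaf [-973, 85, -2252, -942, 1240, 18, 237, 631, -38, -40, 6, 0, 1]))) (.node (.node (.leaf [-87078419, -59336, -193125309, -79400852, 106966263, -64342, 19247259, 51389457, 484224, -2163330, 277760, 439088, -92258, 3903, -11420, -37, -1]) (.leaf [])) (.node (.leaf [1]) (.leaf [12194243, -4621657, 37825286, 19136190, -23517820, -924758, -2009206, -14265474, 2044408, 1488210, -48259, 68090, -69621, -723, -327, 3])))))))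

def twoL25 : Janko.Tree (List ℤ) :=
  (.node (.node (.node (.node (.node (.node (.node (.leaf []) (.leaf [-54, 8, -140, -62, 84, 0, 11, 42, -2, -3])) (.leaf [0, 1])) (.node (.leaf [-126, 13, -340, -163, 212, 3, 20, 112, -2, -13, 1]) (.leaf [0, 1]))) (.node (.node (.leaf [0, 1]) (.leaf [])) (.node (.leaf [0, 1]) (.leaf [2042165, -1385619, 10705840, 7146456, -8296362, -718234, 371039, -5682759, 264540, 1539453, -73389, 107500, -27917, 4864, -2557, 133, -3])))) (.node (.node (.node (.leaf []) (.leaf [428802184, -141122023, 1264420242, 622672528, -771244934, -28003645, -77797825, -459283127, 62409470, 45411418, -1493296, 1937806, -1968097, -25574, -12952, 283, 9])) (.node (.leaf [0, 1]) (.leaf [-9302, 619, -22297, -9760, 12746, 239, 1921, 6613, -259, -471, 54, 9, 4, 0, 1]))) (.node (.node (.leaf [0, 1]) (.leaf [-13516692, 4623560, -42782003, -22201467, 27380942, 1013386, 1836898, 16495474, -1813591, -2043263, 55843, -71792, 64025, -1016, 687, -1])) (.node (.leaf []) (.leaf [99859, -24965, 278300, 133203, -167676,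 -4561, -18804, -96209, 10548, 8907, -300, 213, -299, -4, -1]))))) (.node (.node (.node (.node (.leaf []) (.leaf [-356, 124, -838, -341, 425, 8, 117, 256, -55, -14, -2, -2])) (.node (.leaf [-10040360, 2073748, -27749308, -13275328, 16829845, 376899, 1728172, 9481435, -884221, -786690, 33129, 6262, 28170, 1157, -1240, 13]) (.leaf [107141409, -16428239, 270946072, 121907434, -156650400, -3229825, -22519134, -85152664, 7198283, 6228133, -353374, -51509, -165829, -7397, 4431, 96, 3]))) (.node (.node (.leaf [0, 1]) (.leaf [-152235869, 49307922, -443269658, -216476887, 268527914, 9649704, 28815297, 159386188, -21775639, -15676315, 517256, -724805, 666535, 5277, 9346, -158, -3])) (.node (.leaf [-98044, 23377, -270750, -128939, 162561, 4276, 18409, 92930, -9970, -8216, 284, -170, 273, 4, 1]) (.leaf [5369, -2014, 17087, 8720, -10876, -280, -805, -6416, 821, 653, -8, 20, -24])))) (.node (.node (.node (.leaf []) (.leaf [4833, -315, 11306, 4807, -6357, -47, -1064, -3219, 121, 172, -21, -5, 1])) (.node (.leaf [10042, -1218,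 25073, 11207, -14559, -230, -2086, -7716, 468, 592, -40, 4, -8]) (.leaf [-1543442, 3529262, -17086202, -12297121, 14213800, 905570, -1477731, 9929596, -1234455, -1945123, 49674, -96773, 71146, -2275, 1127, -4, 3]))) (.node (.node (.leaf [-11143, 1318, -26478, -11287, 14800, 148, 2615, 7687, -540, -433, 20, 3, -1, 0, 1]) (.leaf [824029, -184319, 2388081, 1193549, -1495506, -50366, -127935, -864776, 65273, 110334, -5200, 3415, -2562, 144, -33, 3])) (.node (.leaf []) (.leaf [11842, 3093, 24524, 10840, -14841, -464, -2142, -6624, -2196, 2001, -194, 49, 53, 12])))))) (.node (.node (.node (.node (.node (.leaf []) (.leaf [])) (.node (.leaf [0, 1]) (.leaf [0, 1]))) (.node (.node (.leaf []) (.leaf [4989591, -389848, 13206397, 6377495, -8218253, -161764, -779689, -4448771, -4925, 605264, -26594, 4895, 132, 1441, -280, 25])) (.node (.leaf [0, 1]) (.leaf [0, 1])))) (.node (.node (.node (.leaf [0, 1]) (.leaf [-12358, 3401, -34027, -15994, 20087, 667, 2662, 11515, -1557, -1057, 52, -24, 50, 2, -1])) (.node (.leaf [-37502,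 17548, -130918, -70678, 85644, 3750, 3877, 53670, -7542, -6423, 181, -225, 299, 4, -1]) (.leaf [-254593, 54737, -663896, -302967, 385193, 8168, 54412, 216099, -24091, -15470, 132, 17, 428, 36, 11]))) (.node (.node (.leaf [-47, 46, -126, -42, 56, 3, 37, 27, -21, -7]) (.leaf [-199, 262, -1008, -559, 717, -38, 22, 425, -92, -19, -10])) (.node (.leaf []) (.leaf [-20329, 5601, -58021, -28088, 35288, 968, 3750, 20364, -2349, -1935, 52, -54, 68]))))) (.node (.node (.node (.node (.leaf []) (.leaf [0, 1])) (.node (.leaf []) (.leaf [69547325, -42785567, 273265051, 153739223, -184719071, -8196103, -3969811, -118375339, 18398846, 14297805, -286348, 591382, -726443, -8815, 1484, -404, -15]))) (.node (.node (.leaf []) (.leaf [69673759, -25439474, 209838550, 103685992, -128162581, -4387401, -12415280, -76789618, 11739654, 6586380, -184098, 250488, -372974, -12180, 750, -116, -3])) (.node (.leaf [0, 1]) (.leaf [0, 1])))) (.node (.node (.node (.leaf [0, 1]) (.leaf [47189, -18057, 152743, 79676, -97601, -3742, -6085, -59691, 7736,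 6617, -211, 210, -290, -4, 1])) (.node (.leaf [0, 1]) (.leaf [3437304, -732669, 9228688, 4309564, -5458682, -141161, -673254, -3076079, 330081, 243111, -12310, 2312, -9824, -308, 188, 1]))) (.node (.node (.leaf [-3143, 232, -6974, -2822, 3724, 31, 769, 1899, -111, -55, 4, 4, -1]) (.leaf [0, 1])) (.node (.leaf [-1995446, 451373, -5273452, -2408502, 3057316, 73356, 419728, 1713497, -220665, -100880, 5422, 343, 6222, 371, -137, 3]) (.leaf [54630, -11994, 152409, 73610, -92909, -2487, -9569, -52948, 4728, 5363, -239, 141, -139, -1, -1])))))))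

def twoL26 : Janko.Tree (List ℤ) :=
  (.node (.node (.node (.node (.node (.node (.node (.leaf [0, 0, 1]) (.leaf [0, 0, -1, 0, 2])) (.leaf [-19147, 4643, -49425, -22135, 27967, 788, 4436, 15856, -2282, -936, 32, -26, 61, 2, -1])) (.node (.leaf [340, -40, 807, 340, -450, -7, -86, -226, 17, 16, -1]) (.leaf [-3533, 363, -7734, -3058, 4035, 1, 923, 2079, -172, -25, -2, 6, -3]))) (.node (.node (.leaf [239, -22, 612, 288, -368, -1, -35, -207, 5, 15, -1]) (.leaf [-317, -37, -677, -278, 380, -4, 55, 176, 18, -3, 4])) (.node (.leaf []) (.leaf [0, 0, 1])))) (.node (.node (.node (.leaf [-393, 43, -925, -389, 514, 7, 99, 260, -17, -19, 1]) (.leaf [0, 0, 1])) (.node (.leaf [188154824, -44025961, 504051488, 233434711, -295293148, -7612037, -38745761, -167095588, 20413228, 12077554, -525049, 166328, -560305, -24009, 5892, -50, 1]) (.leaf [-12523, 2802, -32376, -14505, 18441, 575, 2918, 10227, -1399, -699, 54, -12, 38, 2, -1]))) (.node (.node (.leaf []) (.leaf [])) (.node (.leaf [0, 0, 1]) (.leaf [101244, -24985, 281083, 134226,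 -169048, -4573, -19171, -96871, 10580, 8890, -303, 207, -298, -3, -1]))))) (.node (.node (.node (.node (.leaf [0, 0, 1]) (.leaf [-1731, 264, -4046, -1688, 2197, 24, 446, 1166, -117, -60, 4, -1])) (.node (.leaf [0, 0, 1]) (.leaf [-5525769, 610068, -12479535, -5029749, 6635798, 54458, 1413011, 3374317, -333750, -43318, 5892, 16816, 1814, 1043, -473, 9, -1]))) (.node (.node (.leaf [-4054, 375, -9205, -3776, 4984, 36, 997, 2541, -173, -92, 8, 6, -2, 0, 1]) (.leaf [147985398, -37638977, 417912147, 201887873, -253532430, -7418774, -26792030, -146095169, 16052675, 13857619, -538487, 337015, -501593, -4605, -349, 19, -3])) (.node (.leaf [5314, -4291, 20898, 11422, -13529, -662, -731, -8980, 1983, 913, 2, 70, -73, -2, 1]) (.leaf [20775, -6583, 59923, 28900, -36261, -893, -4016, -21078, 2820, 1805, -15, 67, -75, 0, 1])))) (.node (.node (.node (.leaf []) (.leaf [])) (.node (.leaf [-69340, 14663, -185695, -86766, 109753, 2991, 13433, 62184, -6450, -5001, 202, -158, 168, -6, -5]) (.leaf [-218156142, 35405431, -583633548,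 -275749282, 351933668, 7956759, 39124367, 194737506, -13522891, -18526677, 926944, -23185, 419993, -2549, -8523, -204, 7]))) (.node (.node (.leaf [0, 0, 1]) (.leaf [0, 0, 1])) (.node (.leaf [-6, 0, -8, -2, 2, 0, 2, 2]) (.leaf [-18038574, 4399228, -49848593, -23680927, 29827658, 836827, 3435362, 17054316, -1951647, -1456280, 62182, -29396, 58951, 1322, -503, 2])))))) (.node (.node (.node (.node (.node (.leaf []) (.leaf [0, 0, 1])) (.node (.leaf []) (.leaf [-158593, 33397, -423712, -197865, 250830, 6135, 31426, 141458, -14122, -12090, 396, -159, 323, 9, 3]))) (.node (.node (.leaf []) (.leaf [-8899023, 2133269, -21903578, -9249835, 11832284, 225150, 2284527, 6512946, -1185138, -39422, -1818, 16399, 23457, 3570, -688, 37, -1])) (.node (.leaf []) (.leaf [-4252928, 1186733, -12048874, -5824577, 7276339, 239229, 810005, 4248067, -502928, -430417, 14366, -16775, 14523, -99, 306, -5])))) (.node (.node (.node (.leaf []) (.leaf [1661, -406, 5449, 2915, -3713, -83, -151, -2096, 52, 349, -5, 22, 0, 0, 1])) (.node (.leaf [7173,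 -1872, 20103, 9654, -12125, -336, -1354, -7000, 790, 658, -20, 16, -22, 1]) (.leaf [0, 0, 1]))) (.node (.node (.leaf [-1150, -12, -2584, -1089, 1464, -12, 233, 719, 30, -43, 4, 0, -1]) (.leaf [679269, -144155, 1852105, 881164, -1113996, -29854, -127537, -632000, 57518, 62602, -2352, 1342, -1574, 20, -18, 1])) (.node (.leaf []) (.leaf [-28699, 6122, -77518, -36388, 46239, 1085, 5611, 25933, -2529, -2294, 89, -49, 65, 1]))))) (.node (.node (.node (.node (.leaf []) (.leaf [1435637, -295752, 3830214, 1781543, -2260779, -56522, -283510, -1267506, 133851, 98329, -4817, -214, -3821, -160, 64, -1])) (.node (.leaf [-702003862, 137230486, -1873003173, -873391322, 1111132380, 26135550, 135992492, 619733190, -59733596, -50222455, 2425202, -88826, 1710144, 44855, -29810, 340, -5]) (.leaf [-23661767, 3513405, -63061138, -29869300, 38165530, 886614, 4206403, 21054036, -1217848, -2194231, 113606, -17690, 38720, -1756, -292, -59]))) (.node (.node (.leaf []) (.leaf [603690899, -110328997, 1593790751, 740182565, -942900483, -22499794,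 -118063225, -524027257, 46932468, 44198137, -2223153, 240984, -1313408, -25452, 21503, 460, -3])) (.node (.leaf [-263773, -1782904, 1303375, 709051, -455186, -138723, -139987, -877450, 1103934, -323260, 29476, 4388, -32292, -3700, 822, -61]) (.leaf [-843492885, 176327173, -2257681878, -1054101111, 1336541070, 34323812, 166569067, 751790022, -76728818, -63212785, 2830918, -868918, 2131225, 49637, -17610, -560, -9])))) (.node (.node (.node (.leaf [-215, 54, -532, -229, 294, 9, 59, 160, -25, -11, -1]) (.leaf [0, 0, 1])) (.node (.leaf []) (.leaf [0, 0, 1]))) (.node (.node (.leaf []) (.leaf [-2795645, 466283, -7756248, -3781514, 4801330, 118901, 440666, 2692742, -156278, -300765, 14514, -3300, 6020, -312, -152, -7])) (.node (.leaf [2424795, -760902, 8796134, 5018447, -6149025, -271128, -52734, -3748457, 198410, 661263, -30524, 25272, -14971, 1391, -300, 23, -1]) (.leaf [-44795, 10693, -124648, -59645, 75425, 1815, 8297, 42898, -4320, -3995, 117, -111, 113, -2, 1])))))))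

def twoL27 : Janko.Tree (List ℤ) :=
  (.node (.node (.node (.node (.node (.node (.node (.leaf []) (.leaf [0, 0, 0, 0, 0, 0, 0, 0, 0, 0, 0, 0, 0, 0, 1, 0, 0])) (.leaf [107938, -7089, 298445, 151353, -192551, -5816, -13707, -107186, -2420, 18938, -996, 442, -59, 66, -13, 1])) (.node (.leaf [-356, 27, -902, -412, 542, 4, 62, 280, -5, -22, 1]) (.leaf []))) (.node (.node (.leaf []) (.leaf [11871125, -3010086, 31481317, 14292464, -18144683, -350102, -2582617, -10215716, 1470818, 486155, -8976, -7700, -35390, -2443, 596, -53])) (.node (.leaf [-3534, 194, -7378, -2690, 3719, -49, 947, 1691, -132, 137, -13, 7, -7, 0, 1]) (.leaf [12229041, 33710, 23242505, 7664510, -10828567, 195561, -3593690, -4522072, 262822, -578237, -16307, -81448, 15110, -3529, 1863, -5, 1])))) (.node (.node (.node (.leaf []) (.leaf [-416457, 107218, -966067, -380777, 482664, 14600, 122832, 269205, -67314, 9520, 380, 576, 1438, 210, -30, 1])) (.node (.leaf [5287189, -558164, 11825688, 4718251, -6240945, -45671, -1368612, -3150953, 313714, 21835,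 -5326, -17202, -1324, -1051, 480, -9, 1]) (.leaf [10, -1, 21, 11, -11, -1, -1, -9, 2, 0, 0, -1]))) (.node (.node (.leaf []) (.leaf [94038, -27572, 276159, 136048, -169913, -5666, -16333, -99077, 11869, 10058, -418, 332, -391, -8, 3])) (.node (.leaf [-255046217, 25476127, -623576931, -275711806, 358829854, 5459463, 53282553, 188805873, -10129771, -13520023, 914980, 439869, 166234, 10684, -15835, -281, -7]) (.leaf [3901, -326, 9013, 3777, -4981, -42, -914, -2542, 136, 127, -11, -5, 1]))))) (.node (.node (.node (.node (.leaf []) (.leaf [-854, 174, -1988, -815, 1053, 12, 241, 573, -78, -28, 1, -2])) (.node (.leaf [-65549934, 20527191, -195980579, -97697082, 121424987, 4008975, 10800756, 71781751, -8772144, -7300174, 238712, -230968, 291095, 2580, 836, 37, 3]) (.leaf [1, 5, -5, 0, 2, -1, 2, 0, -1, 0, 0, -1]))) (.node (.node (.leaf []) (.leaf [-3618, 383, -8266, -3430, 4479, 51, 886, 2349, -173, -109, 6, 5, -1])) (.node (.leaf []) (.leaf [108470, -22995, 336617, 178529, -221385, -9061, -10940, -130926, 6151, 20914,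 -1036, 644, -375, 33, -1, 1])))) (.node (.node (.node (.leaf []) (.leaf [-52607557, 947599, -117478632, -48177398, 64796294, -82045, 11819429, 31294633, -341240, -970343, 148685, 270754, -37512, 4336, -7069, 41])) (.node (.leaf [117762, -27651, 320646, 150986, -190932, -4821, -23267, -108385, 11746, 9434, -277, 203, -301, -4, -3]) (.leaf [-38101261, 7666748, -113129289, -57555181, 72520873, 1929472, 4767248, 41470920, -2463464, -5080623, 201440, -48076, 106566, -4394, -980, -6, 3]))) (.node (.node (.leaf [1, 1, 0, 0, 1, -1]) (.leaf [-7786112, 4945968, -31462411, -18118656, 21610173, 1139033, 364388, 14069561, -1952540, -2129376, 49052, -115282, 79155, -1711, 1386, -13, 1])) (.node (.leaf [-15803190, 4518029, -46596700, -23115032, 28839657, 904103, 2575542, 16885875, -1911069, -1699059, 59788, -42020, 64131, 773, -306, 9]) (.leaf [-84863381, 15325019, -226591039, -106445595, 135529516, 3271275, 16013305, 75453399, -6133879, -7028303, 327842, -64118, 173355, 47, -469, -97, -1])))))) (.node (.node (.node (.node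 (.node (.leaf []) (.leaf [-5038, 1225, -14284, -6877, 8804, 112, 925, 4891, -429, -482, 8, -12, 9, 1, 1])) (.node (.leaf [-3198, 558, -8427, -3883, 5000, 110, 645, 2706, -225, -235, 12, -6, 5]) (.leaf [-48291, 8639, -124301, -56928, 72395, 1621, 9828, 40537, -3646, -3184, 46, 41, 37, 10, 3]))) (.node (.node (.leaf []) (.leaf [-14815, 1476, -33977, -14115, 18537, 181, 3609, 9576, -645, -454, 25, 19, -4, -2, 1])) (.node (.leaf []) (.leaf [-2665500, 699031, -7398473, -3505002, 4401548, 132735, 518385, 2531183, -326748, -198681, 9524, -4285, 10136, 394, -102, 1])))) (.node (.node (.node (.leaf []) (.leaf [5404, -267, 12725, 5482, -7269, -29, -1120, -3674, 53, 223, -17, -2, 5])) (.node (.leaf [1195, -46, 2634, 1070, -1421, -11, -280, -710, 22, 23, -2, -4, 2]) (.leaf []))) (.node (.node (.leaf []) (.leaf [1352, -170, 3393, 1566, -1981, -52, -262, -1121, 60, 117, -8, 1, -1])) (.node (.leaf [49753505, -6743115, 130091878, 60783266, -77917787, -1752483, -9156263, -42590285, 2421860, 4177355, -229026, 315, -71431, 1677,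 1642, 91, 1]) (.leaf [10919, -4810, 35638, 18434, -22583, -772, -1611, -13874, 2083, 1408, -14, 51, -66, -3]))))) (.node (.node (.node (.node (.leaf []) (.leaf [5307077, -579178, 11798819, 4662438, -6174716, -39689, -1398624, -3107306, 334293, -3039, -4637, -18332, -1804, -1080, 538, -14, 1])) (.node (.leaf [31066763, -6589628, 84116618, 39653588, -50207800, -1306903, -5941456, -28344726, 2810164, 2500180, -103432, 30432, -78946, -1455, 482, 4, 1]) (.leaf [-74436448, 7483053, -173114489, -73033805, 95434345, 1581382, 17811751, 49655128, -3285862, -3079015, 237914, 43232, 25002, 858, -386, -212, -5]))) (.node (.node (.leaf [18978528, -372706, 36915579, 12585921, -17551663, 243561, -5571376, -7659491, 485495, -652822, -5435, -104688, 27834, -4590, 1696, -6, 3]) (.leaf [-256646727, 22695512, -629300153, -279394667, 364685549, 4484250, 51712142, 190586422, -8662241, -13119264, 878971, 707374, 139273, 13068, -24018, 57, -1])) (.node (.leaf [1283, -202, 3323, 1510, -1966, -30, -278, -1037, 70, 103, -8, 3, -1]) (.leaf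 [-101056, 25570, -282537, -135585, 170453, 4717, 18835, 98119, -10817, -9097, 276, -208, 305, 4, 1])))) (.node (.node (.node (.leaf []) (.leaf [42095412, -4059270, 96389347, 39451620, -52214942, -146901, -10081317, -26372073, 2269214, 155500, -40710, -200180, -18274, -10062, 6200, -104, 1])) (.node (.leaf []) (.leaf []))) (.node (.node (.leaf [659, -71, 1639, 727, -971, 11, -147, -487, 10, 47, -4, 0, 1]) (.leaf [15257826, -2094889, 39190878, 17999839, -23176369, -420561, -2974805, -12567307, 764230, 1110205, -47014, -7360, -15642, 195, 582, 10, 1])) (.node (.leaf []) (.leaf [-3906, 327, -9028, -3784, 4991, 42, 915, 2547, -136, -128, 11, 5, -1])))))))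

def twoL28 : Janko.Tree (List ℤ) :=
  (.node (.node (.node (.node (.node (.node (.node (.leaf []) (.leaf [-1, -1, -1, 0, 0, 1, 0, 0, 1])) (.leaf [-1, -2, -1, 0, 0, 0, 0, 0, 1])) (.node (.leaf []) (.leaf [72303, -17453, 198134, 93682, -118256, -3067, -14177, -67413, 7436, 5958, -192, 136, -198, -3]))) (.node (.node (.leaf [-49294179, 4551874, -105142583, -39803954, 53178674, 272462, 13757031, 26122326, -2796218, 389544, 56080, 136326, -683, 9803, -2764, -40, -5]) (.leaf [-1195225, 338442, -3370454, -1632130, 2034038, 73291, 238032, 1195215, -134356, -140437, 3768, -6989, 3393, -158, 234, -3])) (.node (.leaf [52, -15, 146, 71, -88, 0, -8, -54, 6, 3]) (.leaf [1])))) (.node (.node (.node (.leaf []) (.leaf [65, -9, 155, 67, -88, 0, -15, -46, 3, 3])) (.node (.leaf [69518, -15868, 194963, 94147, -118951, -3212, -12445, -67617, 6235, 7017, -364, 272, -221, 12, -1]) (.leaf [-3514, -491, -6336, -2114, 3042, -21, 919, 1180, 203, 43, 20, 17, -11]))) (.node (.node (.leaf [12938484, -59277, 31525049, 14343412, -18861283,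 -293548, -2279076, -9617113, -246594, 1064113, -86212, -26630, 5439, 1544, 1046, 52, 1]) (.leaf [3146721, -761718, 8404170, 3861954, -4886167, -121988, -659666, -2763030, 369890, 167732, -7784, 790, -10191, -608, 189, -5])) (.node (.leaf [-50634, 47460, -215075, -119098, 138806, 8610, 4942, 94275, -25282, -6241, 202, -295, 971, 58, -26, 1]) (.leaf [-75183363, 8923017, -190241848, -86426243, 111768496, 1843043, 14713491, 59845252, -3398450, -4793241, 268568, 110003, 75929, 1510, -4479, -31]))))) (.node (.node (.node (.node (.leaf [2, 2, 1, 0, 0, 0, 0, 0, -1]) (.leaf [1])) (.node (.leaf [-1843036, 415918, -4983032, -2335104, 2948471, 81148, 361132, 1673555, -190136, -132174, 6160, -1166, 5547, 224, -78, 1]) (.leaf [1]))) (.node (.node (.leaf []) (.leaf [-7518855, 2284947, -26216360, -14528967, 18011757, 552970, 323693, 10745962, -660034, -1575404, 39338, -27219, 32212, -1492, 545, 14, 1])) (.node (.leaf [-158370, 35038, -426554, -197097, 251025, 5904, 31888, 139327, -16969, -9012, 872, -169, 604, 20, -1]) (.leaf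 [4209, -625, 10491, 4659, -6049, -95, -945, -3222, 229, 273, -11, 6, -1, 1])))) (.node (.node (.node (.leaf [1]) (.leaf [])) (.node (.leaf [1]) (.leaf [1518, 331, 2773, 964, -1435, 98, -293, -538, -172, -72, -1, -10, 8, -1]))) (.node (.node (.leaf []) (.leaf [-1796441, 1659990, -6933196, -3729078, 4273743, 351081, 374161, 3016504, -819504, -339443, 12138, -43291, 29093, 206, 301, -9])) (.node (.leaf []) (.leaf [105847810, -18301265, 280849056, 131349250, -167553843, -3811267, -19953412, -92844751, 7430315, 8224186, -399506, 15114, -211983, -1919, 4214, 55])))))) (.node (.node (.node (.node (.node (.leaf []) (.leaf [7706343, -1205319, 18885484, 8208292, -10604225, -184094, -1764917, -5690177, 584678, 283250, -15898, -10878, -10713, -1127, 540, -9, 1])) (.node (.leaf [14, -13, 56, 28, -36, 0, -4, -20, 6, 1]) (.leaf [-659055, 190309, -1749418, -790343, 991946, 28958, 152309, 571794, -97634, -26975, 870, -577, 2411, 208, -11, 1]))) (.node (.node (.leaf []) (.leaf [-193261, 54670, -547855, -261894, 329033, 9092, 36855,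 189493, -25053, -15015, 772, -491, 812, 16, -7])) (.node (.leaf [1126, 157, 3200, 1630, -2208, -10, -57, -1040, -138, 167, -24, 4, 2, -1]) (.leaf [30912, -7140, 92908, 47079, -59438, -1677, -4292, -33871, 2342, 4342, -274, 233, -123, 18, -2])))) (.node (.node (.node (.leaf []) (.leaf [-30286, 6170, -80298, -37243, 47377, 1102, 6125, 26492, -2592, -2242, 88, -43, 65])) (.node (.leaf [13585, -2522, 35151, 16061, -20555, -372, -2864, -11356, 1004, 952, -32, 8, -18, 1]) (.leaf [-41297702, 4253984, -94520943, -38386439, 50863045, 76754, 9983103, 25587693, -2568152, 247444, 49124, 219786, 34448, 11969, -7144, 141, 1]))) (.node (.node (.leaf [-33687, 5831, -82409, -35874, 46145, 710, 7908, 25197, -2573, -1476, 22, 0, 35, 4, 1]) (.leaf [434577, 1634674, -1095077, -900079, 625281, 242544, 67179, 1077968, -858201, -70992, -13384, -45280, 25947, 886, 781, -5])) (.node (.leaf [1]) (.leaf [-829, 157, -2764, -1447, 1919, -23, 51, 989, -11, -107, 1, -3, -1, 1]))))) (.node (.node (.node (.node (.leaf []) (.leaf [-2784609, 1003192,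 -10461848, -5966578, 7332775, 239365, -21687, 4458147, -337684, -613579, 20883, -6786, 19596, -3, -702, 4, 1])) (.node (.leaf [-63259, 19247, -179401, -85884, 107685, 2369, 12116, 62703, -8538, -4534, -193, 110, 146, 29, 7]) (.leaf [-10418, 3311, -31182, -15523, 19248, 718, 1738, 11406, -1470, -1149, 48, -42, 47, 4]))) (.node (.node (.leaf []) (.leaf [1])) (.node (.leaf [-6, 0, -10, -3, 4, 0, 2, 2]) (.leaf [2399107, -450243, 6680389, 3258681, -4123553, -111219, -397029, -2333862, 152070, 272923, -11245, 6013, -5044, 359, -50, 7])))) (.node (.node (.node (.leaf []) (.leaf [1])) (.node (.leaf [-13867582, 24022140, -92613739, -58696588, 67203664, 4354544, -2243243, 47921398, -11130720, -5892297, 66060, -401422, 449133, 10630, -827, 289, 9]) (.leaf [3143766, -3476125, 14264764, 8147663, -9392220, -642647, -354788, -6587164, 1657915, 739209, -7984, 69642, -58460, -1238, -553, -17]))) (.node (.node (.leaf [1]) (.leaf [-48912827, 2655399, -107907082, -42789914, 57555234, -225256, 11901239, 27820095, -1706108, 285189,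 80248, 277626, -3751, 10635, -7606, 98, 1])) (.node (.leaf [268620625, -12055215, 636794605, 276207042, -365474151, -1895272, -54321489, -184363993, 3902640, 10274747, -889301, -1222840, 24289, -20224, 35330, -201, -7]) (.leaf [-71582, 17245, -197070, -93463, 118059, 3001, 13824, 67212, -7286, -5980, 198, -143, 197, 1])))))))

def twoL29 : Janko.Tree (List ℤ) :=
  (.node (.node (.node (.node (.node (.node (.node (.leaf []) (.leaf [-66, -228, -616, -586, 737, 72, -113, 381, 188, -285, 32, 1, 3, 0, -1])) (.leaf [-17651, 4467, -46091, -20802, 26206, 777, 4039, 14957, -2202, -913, 35, -28, 62, 2, -1])) (.node (.leaf []) (.leaf []))) (.node (.node (.leaf [248449, -57171, 676070, 315996, -400408, -10674, -49094, -225055, 26851, 16782, -1212, 334, -901, -28, 9]) (.leaf [0, 1])) (.node (.leaf []) (.leaf [-7, -1, -12, -4, 4, 0, 2, 3, 0, 0, 1])))) (.node (.node (.node (.leaf [154, 9, 348, 155, -202, -3, -26, -106, -8, 12, -1]) (.leaf [0, 1])) (.node (.leaf [0, 1]) (.leaf [0, 1]))) (.node (.node (.leaf []) (.leaf [30217495,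 -7829692, 85594824, 41405006, -51918823, -1560549, -5440522, -30012248, 3392165, 2802873, -110130, 64489, -106806, -1850, 562, 3])) (.node (.leaf [1308008, -334679, 3610506, 1706181, -2145916, -63119, -257026, -1230055, 154018, 99207, -4804, 2421, -4737, -142, 29]) (.leaf [12370411, -4671511, 38311767, 19365304, -23804632, -933230, -2045214, -14432195, 2067496, 1500964, -48630, 68473, -70247, -752, -328, 3]))))) (.node (.node (.node (.node (.leaf [0, 1]) (.leaf [14767615, -175895, 27941921, 9147065, -12902231, 223516, -4484308, -5444484, 349549, -608467, -2032, -80887, 24722, -3423, 1434, -6, 3])) (.node (.leaf []) (.leaf [383977589, -32576255, 917856380, 397126289, -520949136, -5254149, -82317515, -268709018, 14103503, 14482948, -1169696, -1209208, -173839, -35457, 36095, -94, 1]))) (.node (.node (.leaf []) (.leaf [0, 1])) (.node (.leaf [0, 1]) (.leaf [-14769, 3815, -46150, -24011, 30137, 602, 1547, 17544, -1217, -2047, 34, -23, 41, 4, 1])))) (.node (.node (.node (.leaf [-1171, 71, -2706, -1137, 1505, 20, 265,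 756, -30, -40, 4, 1]) (.leaf [0, 1])) (.node (.leaf []) (.leaf [-5541991, 595529, -12506289, -5043082, 6656136, 54761, 1413840, 3380704, -323829, -49315, 6364, 16657, 1564, 999, -465, 8, -1]))) (.node (.node (.leaf [-159, 263, -1526, -1053, 1317, 8, -99, 792, -40, -179, 4, -10, 1]) (.leaf [-18782, 2870, -48368, -22202, 28550, 476, 3716, 15599, -1017, -1362, 34, -17, 17])) (.node (.leaf [0, 1]) (.leaf [29903, -9920, 89752, 44716, -55507, -1780, -5078, -32964, 4231, 3324, -84, 109, -137, -2, 1])))))) (.node (.node (.node (.node (.node (.leaf [0, 1]) (.leaf [-246569, 66087, -680790, -321604, 403235, 12622, 49590, 232896, -30439, -19201, 770, -514, 865, 33, -3])) (.node (.leaf [-14586, 1785, -36988, -16800, 21766, 320, 2859, 11654, -618, -960, 61, -19, 9, 0, -1]) (.leaf []))) (.node (.node (.leaf []) (.leaf [0, 1])) (.node (.leaf []) (.leaf [31185, -7188, 93572, 47365, -59811, -1682, -4362, -34067, 2361, 4357, -274, 233, -123, 18, -2])))) (.node (.node (.node (.leaf []) (.leaf [-100164, 25347, -279708, -133990, 168523,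 4731, 18828, 96851, -10804, -8927, 290, -215, 306, 4, 1])) (.node (.leaf []) (.leaf [0, 1]))) (.node (.node (.leaf [0, 1]) (.leaf [0, 1])) (.node (.leaf []) (.leaf [-70091, 17313, -192783, -91345, 115160, 3042, 13712, 65859, -7390, -5846, 177, -140, 198, 3]))))) (.node (.node (.node (.node (.leaf [-10, 3, -23, -8, 12, 0, 4, 4, -1]) (.leaf [-29268, 6744, -78316, -36456, 46026, 1261, 6070, 26157, -2987, -2231, 93, -34, 85, 2, -1])) (.node (.leaf [0, 1]) (.leaf [-113478, 38147, -333069, -161975, 200586, 7606, 20881, 119109, -18577, -9254, 422, -400, 613, 29, -1]))) (.node (.node (.leaf [-247, 26, -566, -240, 310, 4, 57, 167, -11, -9, 1]) (.leaf [165687779, -45194489, 464180424, 222150232, -278036401, -8964523, -32250686, -161425151, 19918133, 15004848, -572370, 531083, -589924, -6895, -4875, 139, 7])) (.node (.leaf []) (.leaf [0, 1])))) (.node (.node (.node (.leaf []) (.leaf [])) (.node (.leaf [-379340367, 80803288, -980054877, -441697679, 562339295, 13208904, 83754367, 313283324, -38102263, -20035265, 892298, -224269,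 903816, 48723, -6142, 25, -15]) (.leaf [-552334, 46467, -1504834, -748567, 958090, 21972, 78111, 528722, 6911, -84574, 2821, -1576, -300, -258, 63, -3]))) (.node (.node (.leaf [1692, -101, 3682, 1464, -1933, -37, -438, -970, 60, 41, -8, -3]) (.leaf [])) (.node (.leaf [310993816, -19786808, 754375372, 333316647, -437864699, -3765897, -61291743, -225118592, 6673239, 14718286, -1083393, -1173963, -69869, -17714, 36334, -139, -7]) (.leaf [0, 1])))))))

def twoL30 : Janko.Tree (List ℤ) :=
  (.node (.node (.node (.node (.node (.node (.node (.leaf []) (.leaf [35590, -8313, 103645, 51388, -64808, -1870, -5677, -36980, 3047, 4355, -274, 212, -138, 12, -1])) (.leaf [0, 0, 1])) (.node (.leaf []) (.leaf [-118388, 21784, -318109, -150777, 191419, 4741, 21829, 107562, -8145, -10834, 364, -161, 178, -3, 7]))) (.node (.node (.leaf []) (.leaf [337717338, -77986659, 914009770, 427548006, -540703453, -13944180, -66972249, -306198387, 35263728, 23780895, -994438, 289876, -989685, -35595, 10756, -218, 3])) (.node (.leaf [0, 0, 1])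 (.leaf [-775, -8, -1875, -841, 1120, 9, 136, 553, 19, -52, 7])))) (.node (.node (.node (.leaf [0, 0, 1]) (.leaf [152633, -19509, 399743, 190700, -249298, 3339, -26156, -134794, -1470, 16050, 1906, -682, 818, 36, -102, -1])) (.node (.leaf [39459, -8337, 105471, 49292, -62512, -1530, -7886, -35228, 3439, 3162, -104, 61, -89, 0, 1]) (.leaf [3807, -853, 10258, 4805, -6098, -131, -765, -3442, 342, 311, -11, 10, -9]))) (.node (.node (.leaf [0, 0, 1]) (.leaf [1247524, -220203, 3411391, 1645103, -2083957, -60214, -217214, -1173790, 76524, 136847, -6974, 3562, -2569, 182, -45, 5])) (.node (.leaf [1308012, -334682, 3610518, 1706185, -2145922, -63119, -257028, -1230057, 154019, 99207, -4804, 2421, -4737, -142, 29]) (.leaf [3906, -327, 9027, 3784, -4990, -42, -915, -2547, 136, 128, -11, -5, 1]))))) (.node (.node (.node (.node (.leaf [44, -9, 119, 55, -72, 0, -9, -38, 3, 3]) (.leaf [3, 0, 4, 1, -1, 0, -1, -1])) (.node (.leaf [2987, -324, 6716, 2730, -3583, -35, -765, -1855, 150, 69, -2, -4, 1]) (.leaf [317, 37, 678, 278,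 -380, 4, -55, -176, -18, 3, -4]))) (.node (.node (.leaf [0, 0, 1]) (.leaf [-239108200, 31782253, -626407033, -292922091, 376126895, 7498024, 43134300, 204986171, -11355358, -19205084, 988800, 181619, 321734, -2018, -13418, -216, 3])) (.node (.leaf [455, 8, 1046, 451, -600, -5, -89, -298, -11, 25, -3]) (.leaf [-2437, 124, -5472, -2261, 2973, 40, 554, 1520, -66, -56, 8, 4, 0, 1])))) (.node (.node (.node (.leaf [3286, -565, 8408, 3780, -4914, -56, -721, -2621, 202, 214, -4, 6, -1]) (.leaf [1233084, -225419, 3442327, 1682873, -2135504, -56694, -204531, -1200779, 69742, 149076, -6154, 4192, -2354, 204, -88, 7])) (.node (.leaf []) (.leaf [0, 0, 1]))) (.node (.node (.leaf []) (.leaf [])) (.node (.leaf [5457407, -1423000, 15218326, 7250957, -9106803, -266918, -1042071, -5242161, 644064, 438092, -18008, 9472, -19519, -583, 146, -3]) (.leaf [145511231, -19210433, 338699578, 139598487, -183063513, -1660712, -35964317, -94591375, 10538373, 1201958, -198282, -446084, -148181, -32856, 14822, -301, 11])))))) (.node (.node (.node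 (.node (.node (.leaf []) (.leaf [-243165634, 57577646, -663966582, -312930898, 394785200, 10780763, 47467687, 224858853, -25686892, -18622438, 763743, -307422, 737569, 21508, -6233, 71, -3])) (.node (.leaf [0, 0, 1]) (.leaf [0, 0, 1]))) (.node (.node (.leaf []) (.leaf [-102824, 15218, -271368, -128313, 163597, 4339, 19154, 90752, -4709, -10756, 496, -257, 130, -19, 5])) (.node (.leaf [0, 0, 1]) (.leaf [0, 0, 1])))) (.node (.node (.node (.leaf []) (.leaf [0, 0, 1])) (.node (.leaf [0, 0, 1]) (.leaf [66242274, -3543729, 158737155, 69751553, -91753235, -845780, -13307031, -47001965, 954062, 3379283, -244382, -212860, 4220, -393, 6158, 51, -1]))) (.node (.node (.leaf [1639, -54, 3544, 1417, -1870, -34, -399, -940, 38, 34, -8, -3]) (.leaf [-31030150, 8263081, -86435496, -41154018, 51615281, 1568914, 6035993, 29818546, -3713029, -2572081, 102366, -74418, 110521, 2608, -131, -11])) (.node (.leaf [-76310910, 12336991, -183511031, -77244263, 100530238, 1003226, 18191775, 52968278, -6931773, -358366, 94930, 285224, 142545,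 23606, -10716, 272, 1]) (.leaf [0, 0, 1]))))) (.node (.node (.node (.node (.leaf [0, 0, 1]) (.leaf [-52867113, -1856346, -99849318, -33035495, 47295061, -1296473, 14922694, 19058151, -120276, 2559661, 30245, 448454, -102506, 15467, -10658, 140, -5])) (.node (.leaf []) (.leaf [0, 0, 1]))) (.node (.node (.leaf [0, 0, 1]) (.leaf [23651, -5887, 66169, 31677, -40029, -990, -4433, -22783, 2438, 2096, -66, 52, -67, 1])) (.node (.leaf [0, 0, 1]) (.leaf [-69292, 16918, -190778, -90531, 114144, 3010, 13415, 65256, -7202, -5827, 192, -139, 197, 3])))) (.node (.node (.node (.leaf []) (.leaf [21976148, -9739819, 70746074, 36292597, -44239739, -1884326, -3569390, -27368836, 4373998, 2870276, -76579, 154306, -147569, -1892, -1002, -9])) (.node (.leaf []) (.leaf [0, 0, 1]))) (.node (.node (.leaf []) (.leaf [0, 0, 1])) (.node (.leaf [18158036, -3128435, 51458074, 25750316, -32469490, -1012628, -2734063, -18529661, 763940, 2683082, -93152, 71766, -24136, 5234, -1536, 78, 3]) (.leaf [-29999887, 7659717, -85960606, -42123736, 52744225,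 1655223, 5160093, 30601557, -3128997, -3227068, 122011, -87938, 101025, -473, 492, -33])))))))

def twoL31 : Janko.Tree (List ℤ) :=
  (.node (.node (.node (.node (.node (.node (.node (.leaf []) (.leaf [-47, 28, -147, -72, 88, 2, 11, 56, -11, -4, -1])) (.leaf [10318140, -2909969, 31102095, 15692493, -19598797, -559171, -1482427, -11467182, 1172824, 1190212, -27084, 11764, -37945, -612, 953, -41, 1])) (.node (.leaf []) (.leaf [0, 0, -1, 0, 1]))) (.node (.node (.leaf []) (.leaf [-14503367, 2573423, -38945830, -18333323, 23398284, 512416, 2662196, 12952885, -1042742, -1144473, 57664, -1119, 31440, 320, -208, 3, 1])) (.node (.leaf []) (.leaf [69334065, -14419803, 186052724, 86954550, -110270357, -2828838, -13516121, -61953293, 6402059, 5035140, -246084, 40828, -186649, -5432, 3280, -17, 1])))) (.node (.node (.node (.leaf [-1, -1, -1, 0, 0, 1]) (.leaf [-392821, 82990, -956518, -407545, 518496, 12920, 98106, 288226, -45728, -7619, 494, 636, 921, 111, -8, 1])) (.node (.leaf [-425318025, 55097470, -1021900323, -438320478,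 570363047, 8053707, 97614900, 300368448, -27018645, -13354892, 1060790, 857543, 468267, 58304, -32027, 141, -15]) (.leaf [-899, 80, -2105, -896, 1175, 12, 204, 609, -33, -34, 3, 1]))) (.node (.node (.leaf []) (.leaf [34521, -4843, 84454, 36779, -48023, -564, -7965, -25224, 1892, 1738, -68, 17, -11, 0, -1])) (.node (.leaf [-22780, 5690, -63760, -30526, 38565, 951, 4264, 21965, -2364, -2007, 64, -50, 66, -1]) (.leaf [-158980064, 21181770, -404604138, -183870161, 237153908, 4149320, 31401194, 127805799, -8685994, -9692920, 548870, 224159, 210315, 8325, -11275, -5, 1]))))) (.node (.node (.node (.node (.leaf []) (.leaf [-77361, 17566, -209565, -98447, 124618, 3075, 15272, 70564, -7449, -6103, 214, -131, 194, 5])) (.node (.leaf [-20972853, -60256, -41752446, -14931772, 20637035, -167230, 5708784, 9187240, -268915, 466265, 35395, 131482, -28118, 5121, -3288, -7, -3]) (.leaf [450088564, -43970561, 1087685811, 474512445, -619732790, -7734090, -96179532, -323278687, 18974568, 19093432, -1412736, -1146074, -295664, -35955,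 37674, 14, 5]))) (.node (.node (.leaf []) (.leaf [-194305, 43795, -516203, -236253, 299662, 8034, 40991, 167520, -22159, -10384, 1096, -38, 759, 39, -1])) (.node (.leaf []) (.leaf [7412, -331, 17612, 7663, -10148, -145, -1580, -5089, 54, 457, -48, 4, -1, 5])))) (.node (.node (.node (.leaf [-328, -6, -765, -331, 445, 4, 64, 214, 8, -18, 2]) (.leaf [])) (.node (.leaf [-116893820, 38865829, -344022717, -168780908, 209274738, 7282078, 21489592, 124389488, -17367239, -11730103, 362361, -478246, 541377, 8696, 3522, 23, -1]) (.leaf [139260583, -34549934, 388861675, 186048594, -234148715, -6503229, -25735403, -134174340, 15254314, 11567890, -467988, 185760, -464756, -12403, 2982, -104, -3]))) (.node (.node (.leaf [-7, 0, -13, -4, 6, 0, 2, 3]) (.leaf [69122, -19291, 197815, 96306, -120234, -3747, -12457, -70307, 8304, 6767, -196, 155, -249, -2, -3])) (.node (.leaf [-750, 77, -1736, -720, 951, 8, 183, 483, -36, -19, 2, 1]) (.leaf [3123000, -804085, 8003453, 3506328, -4442889, -100669, -740819, -2498845, 444380, 45391,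 -1572, -8149, -10632, -1350, 347, -17])))))) (.node (.node (.node (.node (.node (.leaf []) (.leaf [-493456, 102322, -1341939, -637971, 807470, 21473, 92999, 456853, -39961, -46354, 1758, -1074, 1088, -22, 13, -1])) (.node (.leaf []) (.leaf []))) (.node (.node (.leaf []) (.leaf [153009, -28813, 409351, 192868, -244957, -6103, -29064, -137427, 11171, 13431, -510, 221, -265, 6, -7])) (.node (.leaf [16524, -3706, 45851, 21941, -27810, -678, -3037, -15697, 1478, 1518, -62, 38, -42, -1]) (.leaf [70264296, -17505121, 194239009, 92230702, -116066230, -3272886, -13486934, -66528857, 7790310, 5634953, -218616, 112723, -229811, -5479, 2030, -30, 1])))) (.node (.node (.node (.leaf [1, 1, 0, 0, 1, -1]) (.leaf [-103368799, 41387520, -312427246, -155212230, 189848018, 8508359, 20333257, 116442209, -18322276, -12837720, 384144, -889657, 562115, -1917, 17864, -418, -5])) (.node (.leaf [-1142, 185, -2538, -1000, 1310, 12, 326, 687, -87, -16, -3, -1]) (.leaf [-32623073, 7601400, -82544642, -35830274, 45816852, 835038, 7751792,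 25229783, -4160732, -419498, 37204, 67468, 102164, 11585, -3558, 133]))) (.node (.node (.leaf [-34706, 5928, -84634, -36786, 47263, 817, 8184, 25838, -2660, -1539, 37, -1, 40, 4, 1]) (.leaf [86403, 1758313, -2029828, -1316454, 1146103, 255517, 153415, 1382154, -923680, -76724, -13969, -45396, 27469, 1048, 759, -3])) (.node (.leaf [-15404, 1695, -35833, -14764, 19922, -268, 3797, 9794, -494, -329, -31, -12, -25, -1]) (.leaf [-72742, 17616, -199079, -94026, 118693, 3042, 14327, 67685, -7503, -5938, 182, -137, 196, 3]))))) (.node (.node (.node (.node (.leaf []) (.leaf [9, -28, 40, 18, -19, -4, -14, -16, 12, 7, 1])) (.node (.leaf [13843, -2817, 46384, 25527, -31486, -1922, -963, -18574, 750, 3674, -475, 327, -153, 24, 7]) (.leaf [131264, -1793341, 2574687, 1559832, -1459465, -260768, -201445, -1552627, 937460, 90242, 13603, 45450, -27631, -1045, -766, 3]))) (.node (.node (.leaf []) (.leaf [-104844456, 15926080, -264405328, -118691733, 152596715, 3116599, 22144607, 82836704, -7013953, -5966694, 343155, 57510, 159582,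 7623, -4448, -93, -3])) (.node (.leaf [940393574, -164017774, 2390728521, 1070821439, -1373994002, -27011716, -201526143, -750147267, 76979917, 45584372, -2629494, -756700, -1869661, -118121, 63854, -385, 9]) (.leaf [2295, -143, 5189, 2134, -2835, -21, -547, -1416, 63, 60, -8, -3, 1])))) (.node (.node (.node (.leaf [1472, -148, 3436, 1449, -1900, -19, -345, -985, 63, 50, -4, -1]) (.leaf [383842, -108646, 1078501, 515078, -642517, -22502, -74812, -374861, 51221, 31482, -1469, 866, -1635, -55, 32])) (.node (.leaf []) (.leaf [9203968, -3018613, 29094130, 15057176, -18652331, -630059, -1202106, -11120979, 1198742, 1300266, -41438, 39301, -44798, 209, -1, -4]))) (.node (.node (.leaf [179733324, -15141757, 441398463, 196919189, -256768423, -3480519, -35830991, -134501291, 5318109, 10217412, -664535, -424598, -83874, -3108, 15344, 98, 1]) (.leaf [-172046, 38112, -463044, -216770, 274664, 6651, 34276, 155179, -16074, -13389, 438, -253, 397, 6, 3])) (.node (.leaf [4339, -317, 9705, 3967, -5213, -75, -1065, -2669, 158,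 120, -16, -6]) (.leaf [-1043, 94, -2416, -1018, 1334, 14, 243, 692, -40, -37, 4, 1])))))))

def twoL32 : Janko.Tree (List ℤ) :=
  (.node (.node (.node (.node (.node (.node (.node (.leaf [1]) (.leaf [-1, 2, -8, -4, 6, 0, 1, 3, 0, -1])) (.leaf [])) (.node (.leaf [1]) (.leaf [860517748, -197994326, 2337716652, 1097422825, -1387060196, -36521374, -168233041, -786327509, 89219162, 62469511, -2765406, 829079, -2586357, -90628, 33525, -167, -7]))) (.node (.node (.leaf [-4478, -588, -6794, -1597, 2513, -65, 1493, 689, 158, 262, 7, 39, -19, 0, 1]) (.leaf [1])) (.node (.leaf [16093, -1737, 37410, 15497, -20927, 331, -3985, -10289, 398, 477, 59, -5, 35, 2, -5]) (.leaf [-7, -1, -10, -1, 2, 0, 3, 0, 0, 1])))) (.node (.node (.node (.leaf []) (.leaf [-27436431, 8350572, -86785463, -45092529, 55950803, 1918308, 3300193, 33159121, -3302934, -3914470, 154830, -96044, 136744, -721, -1444, 29, 1])) (.node (.leaf [44184, -10013, 119738, 56247, -71268, -1723, -8736, -40273, 4212, 3505, -118, 76, -109, 1]) (.leaf [5630, -1203, 14662,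 6662, -8508, -213, -1263, -4707, 512, 401, -12, 12, -9]))) (.node (.node (.leaf [56048726, -12594415, 150782481, 70318836, -88970555, -2350354, -11209944, -50287627, 5708340, 3942981, -178316, 49460, -161166, -5429, 2006, -27, 1]) (.leaf [88783, -18691, 150025, 33831, -43555, -2105, -36015, -21740, 18580, -14416, 162, -991, -320, -100, 16, -1])) (.node (.leaf [-360761, 93883, -986468, -463065, 582495, 15957, 73128, 334742, -42515, -26241, 808, -662, 1133, 36, 3]) (.leaf [1]))))) (.node (.node (.node (.node (.leaf [-12, 13, -42, -20, 24, 0, 5, 16, -6, -1]) (.leaf [])) (.node (.leaf [74974, -16614, 199056, 92261, -116740, -3108, -15615, -66063, 7225, 5621, -200, 116, -178, -2, -1]) (.leaf []))) (.node (.node (.leaf []) (.leaf [1])) (.node (.leaf []) (.leaf [-706394, 149748, -1919204, -910150, 1151174, 30930, 134449, 652175, -60312, -63834, 2399, -1336, 1618, -14, 19, -1])))) (.node (.node (.node (.leaf [-890, 79, -2071, -869, 1150, 10, 211, 581, -32, -31, 2, 1]) (.leaf [107856, -25108, 294228, 138824, -175535,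 -4388, -21051, -99679, 10638, 8714, -302, 196, -282, -3])) (.node (.leaf [6477630, -275901, 15968598, 7233868, -9481810, -115352, -1174706, -4892604, 29411, 436395, -32461, -20046, -206, 208, 626, 3]) (.leaf [-1981, 292, -4651, -1947, 2532, 64, 518, 1330, -136, -89, 4, -2, 1, -1]))) (.node (.node (.leaf [1]) (.leaf [306578, -51075, 797263, 366446, -468010, -12877, -62199, -257305, 22208, 22791, -1718, 474, -756, 8, -6, 1])) (.node (.leaf [-4, 0, -6, -2, 2, 0, 1, 2]) (.leaf [1])))))) (.node (.node (.node (.node (.node (.leaf [-1, 0, -2, 0, 0, 0, 1]) (.leaf [1])) (.node (.leaf []) (.leaf [1232370, -389841, 3034287, 1232622, -1563567, -31924, -348310, -876291, 241211, -50599, 1348, -3717, -5705, -864, 197, -9]))) (.node (.node (.leaf [1]) (.leaf [])) (.node (.leaf [-4563787, 155245, -10613292, -4560787, 6036542, 60910, 973335, 3035676, -23080, -231523, 21706, 9922, -1579, -212, -66, -17]) (.leaf [1])))) (.node (.node (.node (.leaf [1]) (.leaf [])) (.node (.leaf [898, -98, 2468, 1185, -1546, -16, -131, -813, 26,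 73, -4, -2, 1]) (.leaf [469051472, -61787835, 1141049556, 496148011, -643838165, -9978184, -104874769, -341535824, 28878603, 18506762, -1251430, -769512, -517688, -50847, 30802, 0, 19]))) (.node (.node (.leaf [-1139, -13, -2560, -1079, 1451, -12, 230, 712, 30, -42, 4, 0, -1]) (.leaf [1])) (.node (.leaf [-96403905, 13761856, -226363245, -93547604, 122441475, 1038350, 23616947, 63556524, -7852772, -179576, 123050, 362458, 138279, 27826, -12327, 274, -1]) (.leaf [1]))))) (.node (.node (.node (.node (.leaf []) (.leaf [245271, -52584, 640364, 292537, -371968, -7913, -52219, -208599, 23113, 15038, -144, -23, -411, -34, -11])) (.node (.leaf [27117229, -7171939, 72600983, 33399753, -42023979, -1311660, -6018752, -24061624, 3385200, 1809054, -73792, 70700, -86390, -3858, -1652, 20, 3]) (.leaf [15225948, -2025180, 37039980, 16018284, -20864406, -244662, -3401221, -10974670, 987019, 456737, -32998, -39855, -17387, -2487, 1093, -26]))) (.node (.node (.leaf [1]) (.leaf [-774346, -130532, -1249056, -343801, 544312, -25869,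 238330, 155419, 65321, 17872, 1892, 4155, -4125, -127, -40, -3])) (.node (.leaf [-30380, -5208, -68429, -31304, 42696, -33, 4692, 20079, 4654, -4141, 149, -40, -162, -32, 9]) (.leaf [1])))) (.node (.node (.node (.leaf [1]) (.leaf [48858450, -12290977, 136330468, 65200474, -81948239, -2391114, -9146046, -47088908, 5432716, 4151324, -172335, 87244, -166503, -3824, 1012, -5])) (.node (.leaf [-1560, 69, -3582, -1504, 1991, 20, 343, 1000, -32, -46, 8, 3]) (.leaf [80432, -17892, 210485, 96264, -121549, -3382, -17284, -68964, 8464, 5001, -246, 29, -215, -12, -3]))) (.node (.node (.leaf [1]) (.leaf [-745322344, 163110926, -2031616935, -961701665, 1215637874, 32825146, 141518052, 689029900, -69547008, -62069408, 2683296, -1079246, 2042800, 29857, -11472, -605, 1])) (.node (.leaf []) (.leaf [-1936046, 465750, -5241542, -2447739, 3086037, 85082, 387792, 1758589, -218710, -128287, 4945, -420, 6025, 331, -101, 3])))))))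

def twoL33 : Janko.Tree (List ℤ) :=
  (.node (.node (.node (.node (.node (.node (.node (.leaf []) (.leaf [-56, 11, -140, -60, 78, 1, 15, 42, -4, -3])) (.leaf [])) (.node (.leaf [-11570031, 3693068, -35996546, -18530966, 22949591, 783371, 1605757, 13700372, -1428186, -1655050, 41926, -49354, 48740, -616, 550]) (.leaf [0, 1]))) (.node (.node (.leaf []) (.leaf [649568, -153410, 1735922, 801816, -1015501, -24255, -135113, -573865, 70498, 40261, -1198, 272, -1713, -85, -13, -1])) (.node (.leaf [-241, 211, -1044, -560, 732, -42, 21, 412, -72, -10, -8, 1]) (.leaf [-2926380, 768377, -7989481, -3729115, 4687245, 136379, 596197, 2689813, -372587, -182185, 8701, -2752, 11013, 522, -156, 5])))) (.node (.node (.node (.leaf []) (.leaf [381335207, -51498964, 961488119, 431877534, -558298100, -8739703, -77414926, -299214011, 22591156, 19357760, -1151958, -773564, -521161, -37609, 35594, -388, 1])) (.node (.leaf [181924626, -41383692, 483481259, 222298535, -281906269, -6858449, -37837776, -158509838, 19583228, 10472318, -479862,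 38669, -529138, -28679, 7550, -210, 1]) (.leaf [4187, -826, 11165, 5199, -6644, -119, -816, -3691, 324, 309, -12, 10, -8]))) (.node (.node (.leaf []) (.leaf [0, 1])) (.node (.leaf [0, 1]) (.leaf [3594413, -832766, 9832746, 4650574, -5863988, -166931, -691571, -3341117, 368668, 289379, -13482, 5464, -11195, -212, 106, 1]))))) (.node (.node (.node (.node (.leaf []) (.leaf [39179177, -16126332, 127683842, 65855013, -81000066, -2779685, -5318433, -49094354, 7387146, 4422796, -124323, 108302, -265786, -9380, 3496, -231, -3])) (.node (.leaf [0, 1]) (.leaf [0, 1]))) (.node (.node (.leaf []) (.leaf [-1481, 216, -3086, -1157, 1493, 23, 448, 808, -114, -8, -4, 3])) (.node (.leaf []) (.leaf [63, 8, 147, 63, -90, 2, -11, -37, -5, 3, -1])))) (.node (.node (.node (.leaf []) (.leaf [4505, -469, 10478, 4410, -5783, -54, -1074, -3002, 194, 162, -10, -4, 1])) (.node (.leaf [-22315351, 3525516, -58606399, -27154714, 34806456, 711510, 4202369, 19033968, -1507100, -1488985, 88081, 24382, 44630, 1888, -1706, 15]) (.leaf [-32203526,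 9211217, -95331525, -47830209, 59274825, 2329449, 5283589, 35183919, -3670847, -4332207, 184552, -186157, 133292, -3969, 1645, -138, 1]))) (.node (.node (.leaf []) (.leaf [29886, -7326, 89264, 45060, -56452, -1960, -4412, -32622, 2734, 4132, -292, 204, -135, 12, -1])) (.node (.leaf []) (.leaf [43616783, -15294533, 118810120, 54122637, -67193955, -2373375, -10535653, -39778813, 7811446, 2053015, -72928, 175253, -211422, -12608, -648, 73, -3])))))) (.node (.node (.node (.node (.node (.leaf []) (.leaf [])) (.node (.leaf [0, 1]) (.leaf [-1540, 120, -3257, -1248, 1657, 8, 413, 835, -63, -2, 0, 1, -1]))) (.node (.node (.leaf []) (.leaf [0, 1])) (.node (.leaf []) (.leaf [-2988286, 550650, -8262966, -4008679, 5074350, 141701, 505579, 2865407, -193275, -328995, 15638, -7450, 6767, -406, 30, -9])))) (.node (.node (.node (.leaf []) (.leaf [-1260, 158, -3140, -1372, 1822, -18, 260, 928, -60, -27, 2, 2])) (.node (.leaf [3787, -237, 9012, 3898, -5160, -25, -798, -2613, 69, 163, -16, -5, 3]) (.leaf [-36155741, 1878645, -74274283,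 -27082630, 36866600, -121434, 10161463, 17204042, -1401577, 689966, 36175, 157494, -24870, 7869, -3246, 6, -5]))) (.node (.node (.leaf [-39152, 7084, -97162, -42781, 54876, 981, 9032, 30136, -3114, -1941, 42, -16, 50, 4, 1]) (.leaf [-2281, -1212, -1813, 352, 119, -187, 820, -750, 547, 229, 12, 39, -25])) (.node (.leaf [0, 1]) (.leaf [-731353, -140080, -1133638, -289885, 476035, -27549, 229705, 116804, 69402, 21148, 1773, 4223, -4231, -130, -40, -3]))))) (.node (.node (.node (.node (.leaf []) (.leaf [0, 1])) (.node (.leaf []) (.leaf [-73901864, -4350561, -146473217, -52610908, 74468000, -1855478, 18494191, 31062981, 1222282, 2288186, 132460, 691217, -138104, 17092, -18099, 239, -1]))) (.node (.node (.leaf []) (.leaf [23256, -5753, 65055, 31149, -39359, -976, -4340, -22402, 2388, 2054, -69, 52, -67, 1])) (.node (.leaf [0, 1]) (.leaf [-105748403, 16087516, -267148522, -120127491, 154405164, 3167065, 22240043, 83874856, -7040879, -6128734, 348582, 53258, 161150, 7239, -4409, -97, -3])))) (.node (.node (.node (.leaf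 []) (.leaf [203342, -62494, 594823, 292343, -362654, -13254, -36054, -214624, 28216, 20698, -811, 586, -946, -22, 7])) (.node (.leaf [0, 1]) (.leaf [72899, -16853, 191165, 87445, -110162, -3226, -15848, -62795, 8083, 4540, -216, 9, -206, -12, -3]))) (.node (.node (.leaf []) (.leaf [800, -66, 1850, 777, -1022, -10, -186, -524, 29, 26, -3, -1])) (.node (.leaf [0, 1]) (.leaf [112286, -27431, 310353, 147774, -186203, -5015, -21488, -106564, 11640, 9714, -331, 219, -321, -5, -1])))))))

def twoL34 : Janko.Tree (List ℤ) :=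
  (.node (.node (.node (.node (.node (.node (.node (.leaf []) (.leaf [65, -8, 161, 71, -94, 1, -14, -48, 3, 3])) (.leaf [-497062171, 63836064, -1181900555, -501272425, 653750700, 8402729, 116678789, 342400513, -32127626, -12786455, 1073814, 1117006, 500286, 77425, -39659, 334, -27])) (.node (.leaf [330087, -79993, 922713, 442031, -557064, -15683, -60918, -317842, 34926, 28740, -1487, 617, -1162, -19, -7]) (.leaf [-3329019002, 721783721, -8885309870, -4123983951, 5227211490, 132693507, 671112713, 2942472569, -326276550, -226464276, 10345060, -2468940, 9012719, 333422, -112170, -468, -3]))) (.node (.node (.leaf [0, 0, 1]) (.leaf [-327813, 78742, -913326, -438908, 552373, 15259, 60236, 317072, -32460, -30657, 1005, -677, 905, 4, 7])) (.node (.leaf [53, -15, 146, 70, -87, 0, -9, -53, 6, 3]) (.leaf [0, 0, 1])))) (.node (.node (.node (.leaf []) (.leaf [139320318, -25599303, 355756562, 158903536, -204072796, -3541410, -29796608, -111233488, 12581442, 5386881, -316820, -243798, -315257, -26159, 13900, -358, -1])) (.node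 (.leaf [-318080458, 73987242, -859960918, -401674884, 507855556, 13217091, 63508588, 287706978, -33728134, -22025729, 936024, -260490, 942462, 36521, -8050, 237, -3]) (.leaf [0, 0, 1]))) (.node (.node (.leaf [77272448, -14493328, 209176487, 99204750, -126015462, -3128528, -14047983, -70548258, 5842990, 6623694, -303156, 44592, -176469, -966, 2874, 30, 1]) (.leaf [-529933, 132782, -1496180, -725891, 909904, 26982, 94353, 527133, -54940, -52608, 1913, -1396, 1685, 6, 3, -1])) (.node (.leaf [490479, -125628, 1361024, 645752, -811597, -24771, -95154, -465479, 57987, 38591, -2068, 906, -1880, -54, 19]) (.leaf [-5, 0, -3, 1, -1, 0, 3, -1]))))) (.node (.node (.node (.node (.leaf [0, 0, 1]) (.leaf [0, 0, 1])) (.node (.leaf [-62390, 10930, -160969, -73395, 94104, 1732, 12848, 51735, -4417, -4043, 124, -60, 82, -2, 3]) (.leaf [1205, 1037, -2637, -3085, 3474, 299, -1012, 2544, -329, -693, 35, -41, 27, -1]))) (.node (.node (.leaf []) (.leaf [-5003841, 497716, -10952303, -4261122, 5665970, 28869, 1336766, 2819657, -300382,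 29287, 3562, 19038, 706, 1159, -512, 11, -1])) (.node (.leaf []) (.leaf [0, 0, 1])))) (.node (.node (.node (.leaf [0, 0, 1]) (.leaf [14867, -2878, 36829, 16056, -20586, -345, -3442, -11340, 1372, 485, 2, 5, -19, 1, -1])) (.node (.leaf [0, 0, 1]) (.leaf [0, 0, 1]))) (.node (.node (.leaf [-637, 141, -1575, -675, 878, 13, 174, 466, -59, -35, -1]) (.leaf [-479145, 116918, -1366071, -669129, 840986, 24097, 82628, 484561, -44563, -53544, 1564, -1394, 1268, -16, 24, -1])) (.node (.leaf [0, 0, 1]) (.leaf [12187906, 1886448, 27761981, 12478289, -16981020, -28023, -1847995, -7888602, -1340468, 1114892, -102538, -63192, 37162, 3360, 922, 74, -1])))))) (.node (.node (.node (.node (.node (.leaf [0, 0, 1]) (.leaf [])) (.node (.leaf [540, -53, 1287, 553, -726, -6, -119, -377, 20, 21, -1]) (.leaf [-3896, 271, -8589, -3445, 4571, 28, 972, 2299, -128, -65, 8, 4, -2]))) (.node (.node (.leaf []) (.leaf [10170, -540, 23959, 10334, -13645, -193, -2206, -6901, 149, 546, -55, 0, -1, 3])) (.node (.leaf [115837512, -45959432, 386930867,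 205053168, -251275402, -9893174, -13262133, -153484372, 19136820, 18254792, -637866, 680196, -760089, -932, -180, -16, -21]) (.leaf [-494455, 108319, -1324099, -617687, 782305, 20053, 99794, 441703, -46739, -37722, 1386, -588, 1214, 12, 9])))) (.node (.node (.node (.leaf [-3, 0, -4, -1, 1, 0, 1, 1]) (.leaf [723, 6, 1774, 829, -1064, -14, -100, -580, -10, 51, -8, -3])) (.node (.leaf [-11699, 1666, -32599, -16114, 20369, 653, 1498, 11598, -468, -1278, 19, -70, 6, -6, -5]) (.leaf [-28535207, 7473572, -75559483, -34174061, 43286990, 955982, 6348919, 24464728, -3733109, -1126055, 32976, 2952, 92568, 7214, -896, 86, 1]))) (.node (.node (.leaf [0, 0, 1]) (.leaf [-67702, 17490, -187558, -89076, 111870, 3496, 13378, 64291, -7867, -5735, 240, -112, 228, 8, -1])) (.node (.leaf [-32749139, 7637075, -82904444, -36004706, 46034267, 842298, 7774912, 25357132, -4176787, -431179, 37640, 67212, 102661, 11597, -3559, 133]) (.leaf [41064, -9433, 110664, 51800, -65474, -1677, -8265, -37191, 4055, 3188, -109, 69, -108, -3]))))) (.node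 (.node (.node (.node (.leaf []) (.leaf [-718795, 217680, -1865637, -823455, 1031924, 28753, 178218, 598170, -114600, -18817, -344, -74, 2450, 248, -16, 3])) (.node (.leaf [0, 0, 1]) (.leaf [0, 0, 1]))) (.node (.node (.leaf [-22, -7, -43, -20, 24, 0, -2, 16, 2, 3]) (.leaf [0, 0, 1])) (.node (.leaf [3250, 40, 5879, 1898, -2539, -89, -970, -1193, 102, -103, -11, -14, -1]) (.leaf [-54541076, -882406, -93118310, -25213848, 37738359, -1490076, 18292253, 13180614, -1198196, 4212732, -33646, 377588, -118877, 18299, -6439, 22, -9])))) (.node (.node (.node (.leaf [1125, -266, 3304, 1654, -2099, -46, -177, -1190, 74, 157, -2, 6, -1]) (.leaf [0, 0, 1])) (.node (.leaf [1110, -276, 2971, 1321, -1728, 6, -228, -924, 126, 2, 2, 7, -1]) (.leaf [23927, -7444, 58017, 24399, -29415, -1564, -6464, -18324, 4818, -240, 20, -170, -94, -26, 3]))) (.node (.node (.leaf [-73, 13, -186, -85, 112, 0, 17, 58, -3, -7]) (.leaf [-858869234, 197521307, -2333272516, -1095405292, 1384524623, 36446154, 167869891, 784878013, -88958954, -62420839,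 2759678, -829894, 2578034, 89966, -33242, 161, 7])) (.node (.leaf [16215878, -5621979, 51554451, 26762253, -33001351, -1212055, -2168913, -19880057, 2256212, 2387564, -72846, 81742, -82499, 734, -624, 1, -1]) (.leaf [59689, -13759, 164274, 78250, -98675, -2761, -11290, -56282, 5792, 5311, -219, 117, -169, 0, -1])))))))

def twoL35 : Janko.Tree (List ℤ) :=
  (.node (.node (.node (.node (.node (.node (.node (.leaf []) (.leaf [-5, 0, -9, -3, 4, 1, 2, 2])) (.leaf [-67452, 17955, -188500, -89943, 112892, 3540, 13228, 64982, -8026, -5919, 244, -122, 235, 8, -1])) (.node (.leaf []) (.leaf [-2100550, 562892, -5910159, -2825251, 3543108, 109653, 396729, 2042285, -262996, -166852, 9126, -3290, 8952, 218, -165, 5]))) (.node (.node (.leaf []) (.leaf [7062852, -1607726, 19410013, 9222564, -11636897, -322191, -1324286, -6621959, 700151, 583952, -26326, 9654, -21433, -455, 218, 3])) (.node (.leaf []) (.leaf [39168, -17638, 134596, 72162, -87598, -3770, -4270, -54665, 7605, 6434, -190, 220, -298, -4, 1])))) (.node (.node (.node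 (.leaf []) (.leaf [6586, -1785, 18494, 8896, -11112, -358, -1257, -6483, 780, 619, -22, 16, -23])) (.node (.leaf [15054, -3729, 41369, 19606, -24702, -665, -2960, -14148, 1582, 1281, -36, 32, -43]) (.leaf [-113836, 14694, -264929, -110325, 145029, 1032, 28567, 75042, -6148, -3566, -15, 81, -19, -2, 11]))) (.node (.node (.leaf [5, 0, 8, 3, -4, 0, -2, -1]) (.leaf [-1539, 34, -3189, -1210, 1622, 8, 394, 788, -32, 6, 4, 5, -1])) (.node (.leaf [-1395805, 366392, -3895851, -1855976, 2329506, 71030, 267782, 1341633, -167599, -112604, 5372, -2794, 5294, 147, -35]) (.leaf [2225589, -627528, 6529956, 3229439, -4029453, -130159, -367601, -2356151, 269248, 235045, -8934, 5513, -9155, -156, 72, -1]))))) (.node (.node (.node (.node (.leaf []) (.leaf [-1756, 165, -4308, -1892, 2515, -9, 370, 1272, -39, -87, 4, 1, -1])) (.node (.leaf []) (.leaf [1760, -167, 4315, 1896, -2518, 9, -372, -1276, 39, 89, -4, -1, 1]))) (.node (.node (.leaf []) (.leaf [148980004, -35166347, 428626027, 211897005, -265753888, -8430208, -24325758, -153469708,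 13446386, 17696601, -718836, 458674, -463027, 13100, -4828, 182, 7])) (.node (.leaf []) (.leaf [-1, -1, -1, 0, 0, 1])))) (.node (.node (.node (.leaf []) (.leaf [4087, -388, 9391, 3915, -5142, -46, -981, -2656, 166, 129, -10, -4, 1])) (.node (.leaf [17650430, -3170555, 46806507, 21835488, -27824819, -651859, -3377462, -15452637, 1328710, 1325618, -64164, 1706, -37053, -836, 670, 5]) (.leaf [10769, -2102, 28543, 13259, -16839, -477, -2163, -9412, 914, 836, -52, 22, -25, 1]))) (.node (.node (.leaf []) (.leaf [])) (.node (.leaf []) (.leaf [-369649, -9199878, 1823561, -1340297, 3717456, -684755, -2840512, -768478, 5736886, -2059278, 149446, 158496, -142060, -15308, -1828, -26, -3])))))) (.node (.node (.node (.node (.node (.leaf []) (.leaf [196748, -43954, 521780, 238565, -302736, -8051, -41568, -169055, 22222, 10458, -1105, 35, -758, -39, 1])) (.node (.leaf [-149604613, 40895002, -450900748, -228497962, 284863085, 9283871, 21547376, 167016063, -15961146, -19352968, 726893, -476500, 589784, -4737, 2970, -132, 9]) (.leaf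 []))) (.node (.node (.leaf []) (.leaf [89354, -22543, 248654, 118707, -149575, -3942, -17026, -85674, 9530, 7785, -243, 194, -264, -3, 1])) (.node (.leaf []) (.leaf [-1817833, -61999, -5774697, -3420482, 4207265, 276477, 13538, 2518741, 284925, -785070, 38368, -37475, -2807, -3026, 919, -75])))) (.node (.node (.node (.leaf []) (.leaf [-23144, 1673, -51907, -20955, 28386, -310, 5814, 13706, -409, -511, -30, 30, -44, -2, 5])) (.node (.leaf [1082, -48, 2674, 1201, -1589, 3, -188, -810, 4, 49, -5, -2, 1]) (.leaf []))) (.node (.node (.leaf []) (.leaf [-6247, 544, -15188, -6615, 8761, 28, 1305, 4443, -186, -240, 15, 6, -2])) (.node (.leaf []) (.leaf [-17373440, -10912671, -19418128, -2917794, 8090649, -1468486, 4138485, -1644607, 5764634, 243958, 137501, 272534, -204782, -8955, -3598, -161, 1]))))) (.node (.node (.node (.node (.leaf []) (.leaf [1218, -353, 3087, 1335, -1696, -80, -370, -932, 172, 97, -4, 2, -3, 1])) (.node (.leaf []) (.leaf [-30579264, -12565709, -45303801, -11802402, 21417130, -2515337, 6923002, 3074894,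 6129971, 1745586, 104102, 563327, -232195, 794, -13617, 88, 1]))) (.node (.node (.leaf []) (.leaf [-1160530, -803352, 733402, 1591932, -1579149, -221401, 720551, -1499945, 284907, 435111, -10400, 30475, -19586, 608, -371, 6, -1])) (.node (.leaf []) (.leaf [-93266222, 14605339, -238674729, -108554501, 139187899, 3018948, 19075019, 76071709, -6233381, -6007114, 333422, 17649, 154261, 4763, -3349, -114, -1])))) (.node (.node (.node (.leaf []) (.leaf [-166, 48, -740, -447, 570, 13, -22, 317, -4, -58, 4, -2, 1])) (.node (.leaf []) (.leaf [783703, -205236, 2184347, 1040841, -1304882, -41373, -151009, -752969, 94180, 64507, -3147, 1497, -3003, -86, 22]))) (.node (.node (.leaf []) (.leaf [2, 0, 3, 0, -2, 1, -1, 2, 0, -1])) (.node (.leaf [-6065, 574, -14339, -6154, 8065, 79, 1369, 4191, -214, -268, 16, 6, -1]) (.leaf [1969, 771, 3528, 1404, -1957, -80, -327, -782, -383, 180, -39, -17, 9, 0, -1])))))))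

def twoL36 : Janko.Tree (List ℤ) :=
  (.node (.node (.node (.node (.node (.node (.node (.leaf []) (.leaf [65196, -17271, 181448, 86402, -108330, -3477, -12854, -62493, 7802, 5620, -235, 112, -230, -8, 1])) (.leaf [1])) (.node (.leaf []) (.leaf [-74421, 11784, -172371, -70696, 92530, 302, 19274, 48481, -5764, -737, -274, 374, -50, 28, 15]))) (.node (.node (.leaf [102823, -24700, 284260, 135537, -170795, -4620, -19427, -97713, 10447, 8938, -300, 191, -292, -4, -1]) (.leaf [])) (.node (.leaf [56, -7, 130, 57, -72, 0, -12, -42, 2, 3]) (.leaf [1])))) (.node (.node (.node (.leaf [1]) (.leaf [10419, -3311, 31182, 15523, -19248, -718, -1738, -11406, 1470, 1149, -48, 42, -47, -4])) (.node (.leaf [1]) (.leaf [-912565058, 111314654, -2170736557, -923347599, 1204376237, 15578309, 211205678, 630245084, -55911888, -24601002, 2141946, 2261394, 888817, 145200, -82020, 395, -37]))) (.node (.node (.leaf [1]) (.leaf [4376687, -537305, 10244795, 4259723, -5561461, -90868, -1056039, -2884520, 317793, 55671, -16228, -12156, -7175,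 -1014, 431, -3])) (.node (.leaf []) (.leaf [1]))))) (.node (.node (.node (.node (.leaf []) (.leaf [])) (.node (.leaf [-4, 4, -8, -2, 2, 0, 3, 2, -2]) (.leaf [315, 37, 676, 278, -380, 4, -54, -176, -18, 3, -4]))) (.node (.node (.leaf [1]) (.leaf [644278077, -63412088, 1549477651, 672404874, -878739768, -10725419, -139522699, -457653725, 28067784, 25517508, -1941110, -1666994, -414534, -59048, 57588, -18, 15])) (.node (.leaf [1]) (.leaf [1459301, -404618, 4060573, 1919623, -2407013, -72806, -290155, -1390131, 191314, 104711, -4808, 2728, -5853, -219, 50, -1])))) (.node (.node (.node (.leaf []) (.leaf [4357, -350, 9603, 3843, -5096, -20, -1105, -2576, 157, 71, -3, -6, 3])) (.node (.leaf [-6530, 527, -15025, -6282, 8271, 88, 1529, 4235, -228, -209, 19, 6, -1]) (.leaf [-8039, 1989, -22096, -10477, 13181, 378, 1580, 7565, -857, -690, 23, -17, 24, 1]))) (.node (.node (.leaf []) (.leaf [544, -426, 1891, 869, -1113, 17, -122, -640, 225, -68, 6, 11, -7])) (.node (.leaf [1]) (.leaf [-2314, 311, -4832, -1787, 2360, -19,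 679, 1226, -161, 39, -8, 5, -3])))))) (.node (.node (.node (.node (.node (.leaf []) (.leaf [182386010, -39256948, 558006658, 289673195, -362962491, -10973484, -19984846, -210165340, 12287116, 27725793, -1143285, 398533, -592771, 27655, 6275, 148, -15])) (.node (.leaf [115801857, -33271367, 339928242, 168075037, -209566040, -6791799, -19367117, -122812745, 14217570, 12354435, -463368, 337828, -477804, -4959, 1246, -14, -3]) (.leaf [-1051742076, 176717953, -2656477640, -1184920867, 1522779812, 29131108, 226957645, 828087886, -82765629, -49868285, 2933678, 936946, 1945110, 127382, -68080, 300, -15]))) (.node (.node (.leaf []) (.leaf [-2487858, 415884, -2796667, 387099, -207298, -139601, 1329625, -528922, -546732, 784119, -18998, 34178, 4375, 3587, -854, 35])) (.node (.leaf [1]) (.leaf [-41435456, 9795534, -114103191, -54519291, 68416320, 2268034, 7959359, 39411363, -4112001, -4053699, 183952, -140813, 126731, -1515, 621, -117, -1])))) (.node (.node (.node (.leaf []) (.leaf [1])) (.node (.leaf [31188608, -5626415,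 75731606, 32115127, -41560963, -576189, -7541420, -22216546, 3054460, 380062, -34652, -81172, -59774, -8850, 2572, -101, 1]) (.leaf [1]))) (.node (.node (.leaf []) (.leaf [-37686133, 21386333, -133408630, -71072808, 85661525, 3802986, 4998966, 54495243, -9738155, -5636913, 105297, -315203, 340561, 7715, 1522, 106, 5])) (.node (.leaf []) (.leaf [6713475, -827263, 15673092, 6544966, -8563053, -100865, -1634828, -4452918, 410253, 158910, -9653, -14615, -3548, -935, 401, -6, 1]))))) (.node (.node (.node (.node (.leaf [1]) (.leaf [3396649, -773696, 9506279, 4589090, -5785975, -163778, -604021, -3299451, 317031, 329334, -14488, 6678, -10407, 55, 52, 1])) (.node (.leaf []) (.leaf [-263319, 60129, -794325, -408416, 512655, 15688, 34941, 296291, -17164, -42479, 1407, -1249, 632, -64, 21, -1]))) (.node (.node (.leaf [-514, 54, -1216, -517, 682, 3, 120, 349, -21, -19, 2]) (.leaf [113641488, -17823741, 297388288, 137791149, -176609492, -3524879, -21628785, -96747559, 7200805, 8076317, -405855, -66960, -195271, -3451, 5792,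 11, -1])) (.node (.leaf [-1459964, 448691, -4434766, -2246481, 2779207, 108983, 223924, 1655171, -187784, -192662, 9529, -7930, 7405, -122, -22, -3]) (.leaf [-26810188, -4478832, -48692267, -16382069, 24308100, -944274, 6685390, 8747525, 2170749, 538237, 75108, 256121, -108605, 831, -5231, -19, -1])))) (.node (.node (.node (.leaf [110775, -26341, 302251, 142628, -180123, -4654, -21851, -102575, 11163, 9094, -254, 186, -283, -4, -3]) (.leaf [-9484190, 1553707, -23579235, -10375199, 13363745, 247971, 2121266, 7225227, -740787, -399167, 21840, 10778, 15048, 1300, -614, 9, -1])) (.node (.leaf []) (.leaf [39538386, -9481711, 107339702, 50253116, -63424802, -1714773, -7904375, -36088147, 4322366, 2812173, -119790, 49781, -122417, -4370, 1008, -3]))) (.node (.node (.leaf []) (.leaf [-35149981, 8499466, -97804248, -46692515, 58859170, 1576549, 6489410, 33595387, -3756709, -2844745, 119796, -35426, 116008, 2998, -1319, 38, 1])) (.node (.leaf [22362685, -118008, 61120283, 31390576, -40052498, -1544440, -2673179, -22018050,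 -1446766, 4757152, -273168, 168272, 17349, 16762, -4546, 360, 3]) (.leaf [21739, -5420, 60076, 28636, -35971, -1067, -4199, -20719, 2317, 1946, -63, 51, -69, 1])))))))

def twoL37 : Janko.Tree (List ℤ) :=
  (.node (.node (.node (.node (.node (.node (.node (.leaf []) (.leaf [27328, -3781, 66182, 28429, -37584, -5, -6465, -19313, 1260, 1172, 33, 12, 16, 2, -5])) (.leaf [-1924, 111, -4557, -1966, 2604, 26, 418, 1309, -28, -100, 9, 1])) (.node (.leaf [0, 1]) (.leaf [0, 1]))) (.node (.node (.leaf [0, 1]) (.leaf [0, 1])) (.node (.leaf []) (.leaf [4217794, -867959, 11193039, 5183436, -6585017, -164781, -851559, -3685019, 386353, 292029, -14391, 3572, -10685, -302, 164, 1])))) (.node (.node (.node (.leaf []) (.leaf [0, 1])) (.node (.leaf []) (.leaf [166094506, -63260153, 508728342, 254394538, -313000620, -12033798, -28963767, -189347080, 28777816, 18187199, -583054, 836301, -944574, -19215, -5338, -121, -3]))) (.node (.node (.leaf []) (.leaf [-1156521, 273489, -3272465, -1612584, 2015130, 76561, 209363, 1173856, -93299,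 -163528, 6278, -7833, 2662, -326, 266, -7])) (.node (.leaf []) (.leaf [-1396, 133, -3255, -1370, 1803, 16, 328, 926, -56, -48, 6]))))) (.node (.node (.node (.node (.leaf []) (.leaf [-3429, 185, -8218, -3597, 4733, 49, 686, 2423, -61, -158, 19, 5, -1])) (.node (.leaf []) (.leaf [-454506271, 72363507, -1143383223, -509187188, 655749760, 11787224, 97495153, 354758250, -33649876, -21158535, 1228500, 578492, 753900, 56126, -30314, 309, -9]))) (.node (.node (.leaf []) (.leaf [347744631, -33949089, 820644701, 348745540, -457484316, -4752408, -78775851, -235932587, 16391583, 9932476, -916008, -1022223, -204785, -46480, 33583, -75, 11])) (.node (.leaf [-72, -21, -151, -71, 91, 4, 7, 48, 12, -10, 2]) (.leaf [0, 1])))) (.node (.node (.node (.leaf []) (.leaf [0, 1])) (.node (.leaf [0, 1]) (.leaf [16031749, -2323689, 42613384, 20245765, -25833575, -659111, -2889948, -14299183, 718930, 1669461, -82374, 31816, -21843, 2748, -812, 62]))) (.node (.node (.leaf [-653, 106, -1549, -647, 850, 12, 176, 437, -45, -29, 1]) (.leaf [660,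 -457, 2214, 1017, -1309, 18, -150, -741, 236, -59, 6, 11, -7])) (.node (.leaf [-723834204, 161983569, -1981614946, -940078029, 1187209227, 32328255, 136617065, 674441933, -69525956, -60367171, 2551437, -1008360, 2052366, 36852, -15454, -349, -3]) (.leaf [-4568, 409, -9905, -3882, 5143, -2, 1190, 2618, -202, -14, 0, 8, -4])))))) (.node (.node (.node (.node (.node (.leaf []) (.leaf [-15560896, 2856410, -40560406, -18585730, 23720722, 544282, 3168824, 13117263, -1276825, -986394, 53631, -600, 34242, 1356, -471, -9])) (.node (.leaf [23943, -6545, 64242, 29586, -37257, -946, -5320, -21380, 3011, 1538, -26, 22, -63, -9, 1]) (.leaf [0, 1]))) (.node (.node (.leaf [0, 1]) (.leaf [-1308239, 184030, -114972, 1429353, -1561591, -161126, 995242, -1240359, -395735, 748522, -20342, 30390, 1181, 3008, -632, 31])) (.node (.leaf [-7285693, 1348563, -17916778, -7732992, 9944135, 199210, 1739622, 5392554, -693028, -217970, 13954, 7500, 14194, 1436, -431, 15, -1]) (.leaf [10645531, -4539119, 30968427, 14622801, -17929283, -704560,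 -2395280, -10916663, 2360986, 547772, -7670, 27855, -66654, -4826, 136, -53, 1])))) (.node (.node (.node (.leaf [0, 1]) (.leaf [-26263222, 4978163, -70921612, -33524934, 42600655, 1047407, 4837827, 23828177, -2041822, -2176546, 102803, -15207, 61478, 692, -1017, -15])) (.node (.leaf [-379, -37, -557, -158, 168, 70, 135, 109, -9, -30, 7, 0, 1]) (.leaf [17278015, -48952375, 153562826, 101531535, -112871030, -9721387, 3783627, -85639386, 22187752, 12942655, -106304, 1222152, -837478, -4075, -19208, -198, -1]))) (.node (.node (.leaf [170, 68, 212, 35, -58, 0, -36, -8, -14, -28, -4, -2]) (.leaf [])) (.node (.leaf [193132236, -29878927, 481218765, 211462612, -273690839, -3706161, -41795242, -146258318, 14935102, 5934339, -385233, -580972, -326974, -42113, 20240, -552, 1]) (.leaf [0, 1]))))) (.node (.node (.node (.node (.leaf [-1, -2, -1, 0, 0, 0, 0, 0, 1]) (.leaf [3234150, -794804, 8899972, 4210266, -5298317, -154305, -626003, -3032637, 362393, 249163, -11775, 4796, -11152, -317, 136, -1])) (.node (.leaf []) (.leaf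 [-73812, 17332, -151718, -47261, 64037, -174, 26176, 29512, -14390, 9894, 106, 587, 362, 67, -10, 1]))) (.node (.node (.leaf [0, 1]) (.leaf [0, 1])) (.node (.leaf [2023275, -18655, 4802698, 2157949, -2856004, -24889, -400292, -1451521, -77549, 204065, -6790, 1828, 5019, 872, -264, 11]) (.leaf [-4781998, 826355, -12422537, -5727096, 7302671, 183908, 974351, 4048858, -331995, -377456, 17462, -5954, 7882, -88, 147, -9])))) (.node (.node (.node (.leaf [0, 1]) (.leaf [0, 1])) (.node (.leaf [-47026, 18051, -152368, -79520, 97393, 3742, 6049, 59588, -7733, -6614, 210, -210, 290, 4, -1]) (.leaf [39540160, -9481879, 107342924, 50254085, -63426145, -1714700, -7904954, -36088781, 4322480, 2812027, -119776, 49772, -122413, -4370, 1008, -3]))) (.node (.node (.leaf [-12658027, 7029943, -38015430, -18537228, 21943995, 1480707, 3396398, 14517847, -3191702, -1816650, 22523, -223966, 82577, -2396, 4930, -141, -5]) (.leaf [0, 1])) (.node (.leaf [667657, -151872, 1588325, 654538, -834306, -20644, -180655, -461708, 86823, 2648, -393,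 -678, -1656, -218, 10, -1]) (.leaf [0, 1])))))))

def twoL38 : Janko.Tree (List ℤ) :=
  (.node (.node (.node (.node (.node (.node (.node (.leaf [0, 0, 1]) (.leaf [-10294, 1347, -24901, -10732, 13956, 276, 2415, 7314, -665, -439, 52, 14, 18, 0, -1])) (.leaf [9637814, -1936598, 27514824, 13620910, -17168107, -489132, -1468614, -9795908, 694556, 1126060, -47108, 14944, -25383, 612, 127, 15])) (.node (.leaf [-221511104, 46425902, -599744408, -281639138, 357687524, 8194443, 41865302, 200474128, -20582819, -15545869, 698890, 57001, 605237, 20416, -13159, 457, 5]) (.leaf [5010507, -392317, 11561956, 4827753, -6373024, -66629, -1172165, -3227074, 189019, 140336, -18188, -10962, -2226, -364, 547, 5]))) (.node (.node (.leaf [2958, -193, 7035, 3034, -4011, -20, -620, -2037, 69, 108, -12, -5, 1]) (.leaf [-4221155, 1016682, -11763973, -5635103, 7091255, 208596, 778838, 4059669, -443552, -370588, 17022, -7772, 14099, 239, -92, -1])) (.node (.leaf [39, -5, 97, 44, -54, 0, -6, -34, 2, 1]) (.leaf [-6, -1, -7, -1, 2, 0, 2, 0,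 0, 1])))) (.node (.node (.node (.leaf [1]) (.leaf [10295145, -1199781, 26367423, 12116559, -15656289, -254296, -1924925, -8403783, 433370, 705195, -36904, -17680, -10256, -295, 782, 3])) (.node (.leaf [-102935771, 23441740, -284570923, -136622619, 171915026, 5319138, 19206436, 98499150, -9414994, -10421634, 413190, -309228, 274280, -4310, 4384, -221, -7]) (.leaf [6351139, -14979996, 60567622, 42081533, -47893704, -3546183, 3551601, -34580149, 5901768, 6426255, -135922, 427994, -278614, 7019, -4582, 29, -7]))) (.node (.node (.leaf [164696, -33911, 445123, 210732, -266652, -6998, -31301, -150983, 13515, 14721, -510, 264, -336, 4, -7]) (.leaf [0, 0, 1])) (.node (.leaf []) (.leaf [-326, -42, -757, -326, 448, 8, 51, 195, 14, -7, 4, 3]))))) (.node (.node (.node (.node (.leaf []) (.leaf [-4225, 260, -10108, -4372, 5821, 8, 883, 2911, -63, -175, 16, 1, -1])) (.node (.leaf [0, 0, 1]) (.leaf [0, 0, 1]))) (.node (.node (.leaf []) (.leaf [0, 0, 1])) (.node (.leaf [4146, -438, 9172, 3660, -4828, -14, -1077, -2483, 204, 49,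 2, -6, 3]) (.leaf [32273568, -7280738, 87960952, 41459934, -52422539, -1381970, -6198904, -29682149, 3235310, 2448049, -108292, 26578, -94753, -2975, 1120, -19])))) (.node (.node (.node (.leaf []) (.leaf [-124, 14, -301, -132, 169, 0, 24, 94, -7, -2, 1])) (.node (.leaf [-2358701, 574693, -6769756, -3317717, 4168468, 125405, 395718, 2395240, -237234, -246922, 11814, -5412, 8686, -58, -100, 1]) (.leaf [-2491232, 515719, -6677373, -3126585, 3959992, 105636, 488016, 2231676, -223621, -194090, 9251, -2423, 6433, 106, -56, -1]))) (.node (.node (.leaf [0, 0, 1]) (.leaf [13242, -1857, 33454, 14955, -19443, -194, -2692, -10346, 758, 605, -38, 12, -16, 0, -1])) (.node (.leaf [2233446, -419111, 6230503, 3042057, -3855923, -97229, -368597, -2176140, 136383, 256201, -9237, 5104, -4201, 357, -82, 4]) (.leaf [298520, -84535, 952469, 501398, -628320, -16589, -34063, -366791, 23783, 52660, -1022, 1925, -861, 80, -24, 1])))))) (.node (.node (.node (.node (.node (.leaf []) (.leaf [0, 0, 1])) (.node (.leaf [-459062121, 36366663,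 -1018472361, -405423824, 540169591, 1953846, 115879250, 267495911, -20927506, -1436007, 750454, 1770794, 21159, 84414, -46774, 440, -37]) (.leaf [-646420773, 114038874, -1704003909, -791292122, 1009644297, 22983898, 125359917, 559020037, -47874321, -47066520, 2301896, -36470, 1309993, 27832, -24112, -223, -7]))) (.node (.node (.leaf []) (.leaf [0, 0, 1])) (.node (.leaf []) (.leaf [144255043, -28354401, 377192372, 172906416, -220146973, -5304030, -29890040, -122528987, 12697412, 9338414, -457641, 81814, -330521, -11054, 3643, 79, 3])))) (.node (.node (.node (.leaf []) (.leaf [-71857, 16084, -200642, -96639, 122222, 3230, 12927, 69318, -6305, -7121, 368, -271, 221, -12, 1])) (.node (.leaf [-26098793, -4260905, -32519877, -3255748, 7979497, -1126029, 10248078, -918198, 1401766, 2415672, -2076, 159070, -147676, 2244, 806, -187, -7]) (.leaf [184308343, -48951269, 522084489, 251252242, -315577496, -8854859, -33584169, -181731199, 21948398, 15306203, -588952, 228472, -684308, -22089, 4356, -312, -3]))) (.node (.node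 (.leaf []) (.leaf [0, 0, 1])) (.node (.leaf [-8879703, -779410, -14247282, -3517872, 5579722, -326698, 2946996, 1573344, 142023, 704030, 1887, 72654, -29122, 2523, -958, -12, -1]) (.leaf [-126107885, 33462721, -358546865, -172783125, 217229352, 5725376, 22510607, 124861323, -15131041, -10020294, 378579, -63820, 479143, 15229, -7426, 466, 5]))))) (.node (.node (.node (.node (.leaf [-65, 15, -164, -70, 92, 0, 18, 48, -6, -3]) (.leaf [-380, -1349, 3501, 2996, -3302, -332, 499, -2522, 547, 574, -10, 30, -27])) (.node (.leaf [2821, -322, 6813, 2951, -3882, -16, -637, -2007, 111, 130, -5, -3, 1]) (.leaf []))) (.node (.node (.leaf []) (.leaf [9294905, 8289973, 2924513, -4398795, 2113020, 1564456, -2931401, 6012835, -3999819, -1441427, -32906, -255656, 155545, 1942, 4086, 43])) (.node (.leaf [13332555, -3108898, 39481147, 19954935, -24972603, -809597, -1880000, -14487435, 1138396, 1765803, -77831, 38816, -46329, 1252, 116, 27]) (.leaf [-892894838, 183215890, -2379042614, -1107123986, 1405260007, 35302727, 177360224,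 788367579, -80107235, -64856112, 2924371, -720756, 2192170, 59362, -23496, -430, -13])))) (.node (.node (.node (.leaf []) (.leaf [-36780027, -2093453, -59934344, -15084149, 23413051, -1255409, 12371316, 7210973, -16975, 2978077, -24710, 286018, -106127, 10319, -5876, 4, -5])) (.node (.leaf []) (.leaf [-60035235, 17649921, -171645123, -82567809, 103304902, 3017084, 11179964, 60057985, -8215590, -4658021, 166184, -79208, 251452, 10367, -1694, 179, 1]))) (.node (.node (.leaf []) (.leaf [-294645, 65067, -796882, -374668, 474235, 12009, 57597, 268391, -27567, -23469, 836, -426, 698, 10, 5])) (.node (.leaf [-628, -1096, 4299, 3916, -4549, -324, 941, -3116, 338, 768, -40, 42, -28, 1]) (.leaf [7043399, -1347975, 18576528, 8605065, -10955291, -267525, -1416052, -6101327, 569769, 525144, -25053, 7970, -15195, -91, 86, 7])))))))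

def twoL39 : Janko.Tree (List ℤ) :=
  (.node (.node (.node (.node (.node (.node (.node (.leaf []) (.leaf [0, 0, 0, 0, 0, 0, 0, 0, 0, 0, 0, 0, 0, 0, 0, 1, 0])) (.leaf [43006589, -9504359, 125191446, 62957404, -78957169, -2543998, -6511582, -45663984, 3047598, 6130812, -221508, 189482, -106390, 9535, -3679, 147, 3])) (.node (.leaf [-3997811, 201581, -10400137, -4991676, 6461278, 121432, 625827, 3454960, 60649, -484889, 23742, -2929, -1504, -1256, 241, -25]) (.leaf []))) (.node (.node (.leaf [-94, 193, 250, 366, -502, 12, 187, -231, -157, 132, -12, -1, 1, 0, 1]) (.leaf [109095, -25902, 300880, 143098, -180637, -4727, -20750, -102930, 10933, 9313, -332, 209, -303, -4, -1])) (.node (.leaf [-1332, 49, -3036, -1269, 1682, 20, 296, 839, -26, -39, 8, 3]) (.leaf [11886, -6110, 37462, 18799, -22700, -616, -2051, -14523, 2947, 722, 168, -86, -48, -14, -3])))) (.node (.node (.node (.leaf []) (.leaf [-1144, 103, -3142, -1501, 1980, 30, 184, 1004, -15, -118, 9, -2, 1])) (.node (.leaf [-2547358, 553265, -6786519, -3147492,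 3981299, 110585, 516677, 2248431, -255318, -174497, 9314, -2268, 7408, 274, -108, -1]) (.leaf [8731, -2463, 21465, 9009, -11456, -235, -2461, -6417, 1279, 153, 10, -5, -26, -2, 1]))) (.node (.node (.leaf []) (.leaf [-365632585, 60673505, -950731889, -436419214, 559104701, 11314724, 72182835, 306481198, -26271354, -23089941, 1196398, 305629, 683905, 29094, -21879, 218, 1])) (.node (.leaf [8783, -2467, 21202, 8747, -11121, -233, -2560, -6228, 1303, 106, 14, -9, -25, -2, 1]) (.leaf [-1496, 42, -3118, -1178, 1585, 9, 390, 760, -40, 9, 6, 5, -1]))))) (.node (.node (.node (.node (.leaf []) (.leaf [-61, 7, -152, -66, 88, 0, 13, 45, -2, -3])) (.node (.leaf []) (.leaf [-855790384, 225984355, -2416458051, -1165158343, 1460499651, 44536339, 158300574, 845207152, -97935881, -79261627, 2998636, -2190247, 2986395, 41628, 4901, -270, -11]))) (.node (.node (.leaf []) (.leaf [298135728, -39444460, 755194093, 342225216, -441242354, -8322580, -59888534, -237850426, 16076906, 18703045, -1098967, -273892, -376741, -12712, 16174,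 288, 5])) (.node (.leaf [-4118, 375, -9678, -4133, 5425, 49, 944, 2808, -136, -185, 14, 3, -1]) (.leaf [32573450, -8229394, 97345621, 49287756, -61603134, -1953136, -4625961, -35896675, 3077133, 4276833, -161056, 94519, -116031, 2630, 262, 14, -1])))) (.node (.node (.node (.leaf []) (.leaf [-37188, 17470, -130345, -70498, 85406, 3753, 3742, 53541, -7522, -6406, 189, -224, 299, 4, -1])) (.node (.leaf [-631759988, 81737119, -1513901312, -647623041, 843278855, 11495195, 145885376, 443500481, -40074880, -19152407, 1457344, 1300040, 649561, 87974, -47378, 313, -33]) (.leaf [-7118121, 938227, -17236003, -7455670, 9678362, 154269, 1613786, 5125372, -449277, -265817, 21263, 10607, 8659, 842, -258, -9]))) (.node (.node (.leaf [-1, -1, -1, 0, 0, 1]) (.leaf [-6893, -143, -10479, -2324, 3571, -200, 2578, 1177, -51, 435, -18, 37, -26, 0, -1])) (.node (.leaf [-669238406, 163927361, -1862825874, -891449038, 1121249712, 32380984, 124651062, 643374454, -71046522, -58486099, 2325719, -1251644, 2143151, 39401, -10154, -192, -3])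 (.leaf [-5212653, -2747032, -4534802, 452915, 801303, -598942, 1740160, -1419686, 1389819, 482438, -11138, 88249, -68788, -1093, -762, -9, -3])))))) (.node (.node (.node (.node (.node (.leaf [4, 0, 6, 2, -3, 0, -1, -1]) (.leaf [-9737, 4078, -31871, -16698, 20200, 1037, 1126, 12724, -1838, -1274, -11, -99, 66, -3, -5])) (.node (.leaf []) (.leaf [-3691156, 63490, -7038394, -2319333, 3271470, -69250, 1109114, 1384928, -99649, 170837, -4060, 24958, -6684, 1089, -450, 11, -1]))) (.node (.node (.leaf []) (.leaf [-312635164, 95037434, -900108963, -436521392, 544052154, 17621284, 58607921, 319407977, -42384480, -29041800, 941004, -1012344, 1283014, 24933, 5802, 109, -5])) (.node (.leaf [92744977, -14164820, 235074432, 105410200, -135947300, -2119332, -19089939, -73323138, 6576109, 4168062, -241078, -207669, -157706, -13850, 9604, -135, -1]) (.leaf [-951092, 210110, -2556251, -1195792, 1513727, 38935, 190347, 855883, -90202, -73926, 2657, -1211, 2351, 18, 21])))) (.node (.node (.node (.leaf []) (.leaf [-10013, 2091, -26716,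 -12468, 15805, 386, 1985, 8914, -884, -764, 30, -14, 23])) (.node (.leaf [-196782, 41402, -523712, -243587, 308789, 8005, 39699, 173878, -17904, -14743, 579, -232, 439, 4, 5]) (.leaf [983706754, -239174099, 2728896267, 1299881086, -1637900066, -44791655, -184147571, -935797716, 105950636, 79294470, -3286964, 1246294, -3207858, -92907, 29818, -408, -19]))) (.node (.node (.leaf []) (.leaf [])) (.node (.leaf [-1, -1, -2, 0, 0, 1]) (.leaf [-150576, 44738, -440072, -216445, 268973, 9546, 26057, 158569, -20083, -15188, 627, -426, 679, 14, -5]))))) (.node (.node (.node (.node (.leaf []) (.leaf [-97713, 22758, -267186, -126347, 159512, 4341, 18934, 90763, -9791, -8037, 294, -168, 265, 4, 1])) (.node (.leaf []) (.leaf [-2653940, 5414070, -22621754, -15381401, 17636380, 1201513, -1204939, 12535090, -2199301, -2143479, 44352, -133471, 101616, -1318, 1547, 23, 3]))) (.node (.node (.leaf []) (.leaf [22263, -5615, 62429, 29915, -37777, -940, -4163, -21536, 2339, 1969, -63, 50, -66, 1])) (.node (.leaf [120, -293, 1462, 1028,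 -1281, -7, 93, -779, 50, 187, -3, 10, -1]) (.leaf [393509, -87947, 1068851, 503331, -636736, -16770, -76732, -360284, 38021, 31463, -1404, 572, -1106, -12, -9])))) (.node (.node (.node (.leaf [-127979, 32668, -347423, -162623, 204355, 5891, 26241, 117603, -14875, -9367, 286, -201, 386, 14, 1]) (.leaf [])) (.node (.leaf [-51, 7, -128, -58, 74, 0, 9, 43, -2, -3]) (.leaf [38121670, -7342630, 101800816, 47689514, -60600231, -1525182, -7373093, -33904649, 3031548, 3087868, -145975, 47123, -85626, -184, 59, 59]))) (.node (.node (.leaf [-60, 11, -163, -75, 101, -1, 12, 50, -3, -4]) (.leaf [-172215, 35610, -457467, -212567, 269672, 6922, 34699, 151549, -15387, -12795, 516, -188, 372, 5, 5])) (.node (.leaf [-59833822, 11021751, -159236910, -74430820, 94741456, 2293848, 11440898, 52750646, -4635206, -4579003, 226708, -24428, 134183, 1980, -2454, -19, -1]) (.leaf [-292, 10, -628, -249, 329, 4, 71, 165, -8, -3, 2, 1])))))))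

def twoL40 : Janko.Tree (List ℤ) :=
  (.node (.node (.node (.node (.node (.node (.node (.leaf []) (.leaf [-1450, 125, -3075, -1184, 1564, 8, 393, 799, -64, -8, 0, 3, -1])) (.leaf [-117640737, 23329314, -309995385, -143081153, 181963688, 4491523, 23914751, 101561792, -10292710, -8123397, 398328, -90780, 277817, 7376, -2419, -93, -1])) (.node (.leaf []) (.leaf [-141853, 30730, -363393, -163352, 207608, 4188, 31683, 116555, -14132, -7200, -78, 235, 200, 35, 16]))) (.node (.node (.leaf []) (.leaf [-214459, 55317, -606586, -293948, 368775, 10479, 38693, 213408, -22880, -20908, 577, -469, 645, 4, 5])) (.node (.leaf [4, 1, 4, 0, 0, 0, -1, 0, 0, -1]) (.leaf [187, -10, 441, 189, -252, 1, -38, -126, 3, 5, -1])))) (.node (.node (.node (.leaf []) (.leaf [11679181, -2297446, 32107601, 15443843, -19512065, -568239, -2069095, -11056228, 892782, 1181500, -59691, 24256, -30318, 714, -111, 31])) (.node (.leaf [199731253, -6152685, 369330519, 111770888, -160714400, 5381092, -62937571, -63919814, 10592626, -17510967, 236892, -1809422,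 149844, -102724, 46776, -1045, 17]) (.leaf [-260364, 32400, -646769, -287686, 370342, 11193, 56424, 198216, -15530, -16589, 2258, -546, 661, -12, -14, -1]))) (.node (.node (.leaf [94434206, -23323261, 258722662, 121534429, -153371893, -3982170, -18499707, -87292444, 10860174, 6332148, -262394, 41433, -311724, -15144, 3385, -188, -1]) (.leaf [-78, 37, -503, -336, 423, 13, -34, 241, 0, -55, 4, -2, 1])) (.node (.leaf [26237, -5804, 70199, 32718, -41437, -1069, -5344, -23410, 2481, 2030, -73, 46, -65, 1]) (.leaf [-1432, 80, -3317, -1404, 1852, 22, 314, 939, -36, -47, 6, 3]))))) (.node (.node (.node (.node (.leaf [1]) (.leaf [1])) (.node (.leaf [1]) (.leaf [-15181325, 844967, -32047067, -12110507, 16356018, 1631, 4092696, 7797622, -565354, 123908, 26053, 58476, -6687, 2834, -1078, -12, -1]))) (.node (.node (.leaf []) (.leaf [-385599, -344345, -610016, -276745, 455031, -27792, 14728, 114083, 227052, -92735, 5916, 2814, -6777, -760, 48, -11])) (.node (.leaf [5923, -576, 12553, 4767, -6295, -68, -1643, -3197, 345, -27,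 0, -10, 3, 0, -1]) (.leaf [17270050, -9702995, 71769820, 42227365, -50716916, -2531042, 159705, -32436581, 3563244, 5187278, -174412, 224989, -176981, 5421, -1967, 37, -5])))) (.node (.node (.node (.leaf [1]) (.leaf [6021303, -1422223, 16520542, 7817220, -9850210, -283929, -1156137, -5619295, 639972, 474357, -22980, 8580, -19816, -478, 234, -1])) (.node (.leaf [-100218698, 25750267, -279849109, -133069032, 167671177, 4286164, 18697954, 95841603, -11916674, -7045437, 273540, -25516, 360684, 17316, -7326, 273, 1]) (.leaf [-3178, 453, -7782, -3367, 4410, 25, 721, 2308, -191, -111, 8, -1, 1]))) (.node (.node (.leaf []) (.leaf [-2133, 180, -4970, -2107, 2768, 28, 492, 1427, -69, -88, 8, 1])) (.node (.leaf [23340473, -2795542, 55819280, 23986831, -31244722, -446174, -5348357, -16425056, 1270523, 896998, -53545, -38274, -15135, -1840, 1222, -1, 3]) (.leaf [-30911, 7140, -92908, -47079, 59438, 1677, 4292, 33871, -2342, -4342, 274, -233, 123, -18, 2])))))) (.node (.node (.node (.node (.node (.leaf [1]) (.leaf [1])) (.node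 (.leaf [1]) (.leaf [1]))) (.node (.node (.leaf []) (.leaf [])) (.node (.leaf [-42502, 9123, -113494, -52984, 67175, 1542, 8429, 37990, -3731, -3244, 62, -86, 87, -1, 1]) (.leaf [1])))) (.node (.node (.node (.leaf []) (.leaf [-242335230, 22996415, -590001321, -260308346, 339082605, 5029706, 50682150, 178000732, -9022087, -12735578, 875138, 445357, 145743, 6510, -16425, -249, -3])) (.node (.leaf [-272, -43, -416, -137, 145, 62, 90, 94, 2, -38, 8, -1, 1]) (.leaf [7576689, -2641927, 22473491, 11033727, -13657457, -480619, -1393712, -8151098, 1206354, 729898, -22922, 32053, -38158, -940, -82, -1]))) (.node (.node (.leaf []) (.leaf [-53836484, 10438400, -143661879, -66955007, 85108619, 2072792, 10328871, 47496286, -4721653, -3661852, 215966, 10741, 147766, 5839, -3598, -21, 3])) (.node (.leaf [-157084595, 17086728, -387016145, -171233537, 222937633, 2798097, 32380962, 117304620, -7416386, -7007124, 482124, 437328, 148467, 14996, -16220, 139, 1]) (.leaf [54983707, -17190464, 175897314, 92833323, -114405810, -4569094,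 -6469486, -68918864, 6157019, 9681132, -351614, 363545, -256845, 12919, -1392, 154, 1]))))) (.node (.node (.node (.node (.leaf []) (.leaf [-130585329, 8520314, -303932562, -128708172, 170061731, 1217466, 28892243, 86071639, -3753047, -3922038, 375276, 479550, 9306, 12037, -14316, 29, -3])) (.node (.leaf []) (.leaf [94407574, -21910560, 258547426, 122556871, -154513941, -4417864, -18192835, -88127484, 9435514, 8043096, -340978, 186925, -275398, -3375, -1148, 99, 1]))) (.node (.node (.leaf []) (.leaf [-489869843, 86293385, -1241621325, -555371348, 711779220, 15110256, 106659808, 389614789, -40034654, -25304751, 1421210, 113506, 936182, 50958, -17504, -173, -15])) (.node (.leaf [1]) (.leaf [1])))) (.node (.node (.node (.leaf []) (.leaf [231206, -31626, 614118, 292994, -373815, -9513, -40950, -207104, 8684, 25417, -1157, 462, -233, 48, -12, 1])) (.node (.leaf []) (.leaf [1]))) (.node (.node (.leaf [117, -73, 316, 132, -168, -3, -53, -95, 31, 12, 1]) (.leaf [-1781995, 190581, -4052659, -1649340, 2174252, 24058, 452550,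 1106613, -98678, -32276, 4696, 2439, 934, 171, -105, -1])) (.node (.leaf [-8133671, 7685545, -40703382, -24745387, 29151425, 1556055, -551923, 19515744, -3291822, -2662122, 55906, -125308, 140356, 1228, 1266, 77, 5]) (.leaf [-6547528, 808301, -17443423, -8250207, 10625843, 190282, 1091119, 5743734, -280649, -529262, 30790, 10655, 10072, 64, -495, 5])))))))

def twoL41 : Janko.Tree (List ℤ) :=
  (.node (.node (.node (.node (.node (.node (.node (.leaf []) (.leaf [-1, -2, -1, 0, 0, 0, 0, 0, 1, 0, 1])) (.leaf [0, 1])) (.node (.leaf []) (.leaf [1833919, -443046, 4987310, 2338132, -2944612, -83650, -362701, -1681637, 207963, 125816, -5188, 510, -5898, -311, 106, -3]))) (.node (.node (.leaf [2267, -155, 5014, 2020, -2661, -43, -565, -1349, 91, 43, -9, -5, 1]) (.leaf [-40660, 10913, -114621, -55107, 69220, 1864, 7618, 39972, -4646, -3631, 102, -94, 130, 3])) (.node (.leaf [0, 1]) (.leaf [214, -16, 506, 215, -286, 1, -47, -144, 6, 6, -1])))) (.node (.node (.node (.leaf [0, 1]) (.leaf [2056568, -467916, 5576544, 2618671,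 -3307167, -89749, -401642, -1877467, 210903, 151633, -6611, 1684, -6058, -223, 70, -1])) (.node (.leaf [19006070, 5555925, 31082396, 9386657, -15114003, 1023735, -4616451, -4028271, -2808035, -486727, -72479, -228130, 115428, 1551, 4444, 39]) (.leaf [-4927, -534, -10337, -4245, 5718, 108, 1028, 2681, 284, -274, 48, 22, -10, 0, 1]))) (.node (.node (.leaf []) (.leaf [2443, -239, 5371, 2146, -2820, -23, -642, -1457, 111, 52, -2, -4, 1])) (.node (.leaf []) (.leaf [20587632, -6233027, 58798807, 28357844, -35324028, -1185490, -3963524, -20748450, 2817118, 1860779, -63942, 68202, -84713, -1831, -152, -1, 1]))))) (.node (.node (.node (.node (.leaf []) (.leaf [-79858, 19710, -230002, -113144, 141726, 4935, 13636, 81913, -7968, -9417, 656, -471, 353, -22, -7])) (.node (.leaf []) (.leaf [149692038, -23227785, 369536958, 162007081, -208967116, -3891729, -33666415, -112535135, 10984206, 6435761, -412597, -123253, -226525, -16789, 6747, 67, 5]))) (.node (.node (.leaf [0, 1]) (.leaf [-2620109, 471849, -6375178, -2729132, 3508530,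 72427, 632481, 1901836, -249619, -67003, 4885, 3769, 4908, 690, -126, 1])) (.node (.leaf [0, 1]) (.leaf [0, 1])))) (.node (.node (.node (.leaf []) (.leaf [5775787, -1369652, 15877158, 7522814, -9476206, -274941, -1104113, -5409530, 616403, 458875, -22446, 8302, -19282, -460, 242, -1])) (.node (.leaf []) (.leaf [0, 1]))) (.node (.node (.leaf [-107219, 25975, -297128, -141856, 178746, 4817, 20195, 102301, -10952, -9398, 309, -206, 303, 4, 1]) (.leaf [0, 1])) (.node (.leaf [0, 1]) (.leaf [-8068, 749, -18342, -7572, 9970, 64, 1971, 5130, -311, -232, 13, 9, -3])))))) (.node (.node (.node (.node (.node (.leaf []) (.leaf [])) (.node (.leaf [-4616, 570, -10782, -4519, 5926, 48, 1131, 3081, -245, -147, 4, 6, -2, 0, 1]) (.leaf [-116816, 104384, -2152864, -1993258, 2317252, 199420, -283706, 1642080, 349004, -896615, 21188, -72733, -8447, -5052, 3229, -118, 1]))) (.node (.node (.leaf []) (.leaf [82474, -19261, 225532, 106549, -134763, -3348, -16021, -76479, 8140, 6707, -233, 152, -215, -3])) (.node (.leaf []) (.leaf [-1229354,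 225104, -3433883, -1679400, 2130930, 56658, 203626, 1198433, -69600, -148981, 6144, -4196, 2355, -204, 88, -7])))) (.node (.node (.node (.leaf []) (.leaf [65518511, -14861042, 182468490, 88131213, -110810755, -3449791, -11846003, -63590337, 5946777, 6801326, -292604, 195972, -188952, 3681, -993, 155, 1])) (.node (.leaf [-8351, 3250, -25459, -12783, 15561, 723, 1494, 9603, -1517, -993, 30, -29, 54, 2, -1]) (.leaf [-1502, 126, -3187, -1230, 1624, 8, 406, 830, -64, -11, 0, 3, -1]))) (.node (.node (.leaf [0, 1]) (.leaf [76873113, -16456380, 208995612, 98675966, -125026894, -3095429, -14532299, -70506838, 7036013, 6057613, -245951, 55327, -200446, -4304, 1952, -39])) (.node (.leaf [30211965, -6877744, 83317935, 39656585, -50063492, -1359568, -5597472, -28450106, 3008125, 2476601, -114017, 32020, -93377, -2336, 918, -3, -1]) (.leaf [-1164, 337, -2175, -703, 831, 40, 462, 556, -186, 12, -14, 6]))))) (.node (.node (.node (.node (.leaf [0, 1]) (.leaf [-37419078, 7883569, -101470698, -47964459, 60700431, 1645291, 7146560,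 34303071, -3283869, -3215076, 145553, -67188, 97058, 71, 114, -61])) (.node (.leaf [0, 1]) (.leaf [0, 1]))) (.node (.node (.leaf [203919509, -40055827, 540893584, 251230939, -319561574, -7693755, -40451223, -178372012, 17269706, 14765297, -679947, 132062, -466438, -10650, 3496, 86, 3]) (.leaf [-260505526, 45033729, -651590218, -288137076, 369883721, 7797571, 58552671, 201609278, -21189602, -12442427, 750512, 15060, 472746, 26205, -6660, -232, -7])) (.node (.leaf [-277, 33, -620, -249, 326, 4, 74, 169, -16, -6, 1]) (.leaf [-54630, 11995, -152409, -73610, 92909, 2487, 9569, 52948, -4728, -5363, 239, -141, 139, 1, 1])))) (.node (.node (.node (.leaf [1473, -149, 3438, 1450, -1901, -19, -346, -986, 64, 50, -4, -1]) (.leaf [])) (.node (.leaf [0, 1]) (.leaf [2882, -177, 6424, 2601, -3465, 8, -676, -1739, 78, 25, -6, -1, 2]))) (.node (.node (.leaf [0, 1]) (.leaf [-28411, 5983, -75677, -35195, 44684, 1091, 5745, 25095, -2538, -2148, 86, -43, 65])) (.node (.leaf [-34066094, 6967870, -85863647, -37626080, 48223352, 901265,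 7830642, 26403615, -3622411, -929006, 56207, 56827, 83101, 8717, -2288, 100]) (.leaf [2298, -144, 5199, 2137, -2839, -20, -548, -1419, 63, 60, -8, -3, 1])))))))

def twoL42 : Janko.Tree (List ℤ) :=
  (.node (.node (.node (.node (.node (.node (.node (.leaf []) (.leaf [110, -13, 348, 176, -244, 17, -4, -117, -4, 3, 1, 0, 1])) (.leaf [-861141097, 120433489, -2092251410, -905607329, 1173821703, 18560636, 195353128, 624349426, -58674581, -29987819, 2172513, 1508079, 1111496, 122249, -64953, 112, -29])) (.node (.leaf [0, 0, 1]) (.leaf [10414386, -896316, 25768569, 11546491, -15059121, -204497, -2048678, -7878420, 321749, 598049, -41028, -27098, -5854, -413, 687, -1]))) (.node (.node (.leaf []) (.leaf [0, 0, 1])) (.node (.leaf [61, -7, 153, 67, -88, 0, -13, -46, 2, 3]) (.leaf [0, 0, 1])))) (.node (.node (.node (.leaf []) (.leaf [0, 0, 1])) (.node (.leaf [0, 0, 1]) (.leaf [0, 0, 1]))) (.node (.node (.leaf [23279958, -3552481, 56889484, 24593075, -31886735, -454358, -5322212, -16965359, 1767795, 689001, -44980, -49110,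 -32643, -4149, 1556, -42, 1]) (.leaf [0, 0, 1])) (.node (.leaf []) (.leaf [0, 0, 1]))))) (.node (.node (.node (.node (.leaf [21, 5, 41, 15, -20, 0, -3, -10, -2, -1]) (.leaf [98334, -18046, 284914, 145658, -183399, -5440, -14049, -105640, 2676, 17588, -256, 554, -17, 50, -17, 1])) (.node (.leaf [-1, 4, 3, 2, -4, 0, 2, 0, -2]) (.leaf [35023470, -7222430, 94530318, 44492101, -56423607, -1427435, -6703197, -31735066, 3046737, 2811956, -120335, 35078, -85597, -1407, 264, 18]))) (.node (.node (.leaf [-37, -35, -50, -21, 32, 3, -2, 8, 17, -3, 1]) (.leaf [5486557, -1206049, 17251330, 9137481, -11417784, -368652, -513893, -6656113, 329866, 970852, -37432, 18450, -17720, 1340, -106, 13])) (.node (.leaf [821, -75, 1898, 791, -1040, -16, -195, -532, 38, 22, -2, -1]) (.leaf [245284, -40045, 655080, 311366, -396001, -10419, -45019, -221201, 13287, 25328, -1073, 544, -352, 37, -14, 1])))) (.node (.node (.node (.leaf [-5, 0, -6, -1, 1, 0, 2, 1]) (.leaf [11086103, -2833038, 30498729, 14350048, -18060431, -509465, -2180807, -10334029,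 1341806, 752043, -35543, 8530, -40427, -1876, 660, -19])) (.node (.leaf [-44116838, 11850878, -121907074, -57405399, 72133647, 2032607, 8762483, 41479201, -5603628, -2976163, 115858, -44988, 163061, 8045, -2468, 69, -1]) (.leaf [421, -194, 1203, 540, -677, -21, -114, -392, 102, 9, -1, 4, -4]))) (.node (.node (.leaf [-1951793, -38192, -6412581, -3838055, 4728219, 289626, -24901, 2827366, 303417, -858920, 39944, -39170, -2691, -3259, 935, -75]) (.leaf [])) (.node (.leaf [-2639225, 1671290, -9081217, -4604911, 5599029, 141988, 452775, 3521394, -839073, -132121, -11553, -2476, 25278, 1467, -142, 53, 1]) (.leaf [21870464, -4388101, 60375340, 29031239, -36766213, -940759, -3818872, -20755676, 1713619, 2074758, -85696, 25226, -53396, 201, 591, 17])))))) (.node (.node (.node (.node (.node (.leaf []) (.leaf [46, -7, 125, 57, -76, 0, -9, -38, 2, 3])) (.node (.leaf [20, 6, 42, 20, -24, 0, 2, -16, -2, -2]) (.leaf [-59492583, 12972849, -161901161, -76602288, 96815634, 2667016, 11384396, 54886480, -5484439, -5071537, 226744,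 -107581, 162489, 846, -93, -79]))) (.node (.node (.leaf [0, 0, 1]) (.leaf [0, 0, 1])) (.node (.leaf [0, 0, 1]) (.leaf [6490508, -1739443, 17440430, 8012204, -10081060, -291926, -1409566, -5771353, 860390, 352718, -16546, 7054, -23622, -1426, 242, -7])))) (.node (.node (.node (.leaf [0, 0, 1]) (.leaf [])) (.node (.leaf [0, 0, 1]) (.leaf [-10, 3, -44, -24, 33, 0, 1, 15, 0, -3]))) (.node (.node (.leaf []) (.leaf [70599948, -16742044, 195347407, 93112687, -117396762, -3193896, -13201300, -66997330, 7244205, 5929082, -236674, 102613, -215960, -3902, 1278, -25, -1])) (.node (.leaf [254037376, -15361942, 591633369, 251208695, -332113141, -2459153, -55800483, -167809832, 6352637, 8390026, -775882, -890103, 9194, -20293, 24267, 31, 5]) (.leaf [76241989, -18743320, 221896515, 110670434, -138283148, -4648342, -12079732, -80586535, 7090901, 9655157, -385818, 289415, -252901, 9095, 124, 159, 3]))))) (.node (.node (.node (.node (.leaf []) (.leaf [0, 0, 1])) (.node (.leaf [-27197286, 14330680, -91393475, -47561485, 57424946,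 2652188, 4399724, 36352226, -6535306, -3793689, 63328, -231746, 212780, 4239, 2722, 46, -1]) (.leaf [-46771874, 2852563, -119307141, -56034246, 72487307, 1507398, 8002935, 38696660, -57810, -4795039, 274066, 801, 3758, -9260, -1288, -215, -3]))) (.node (.node (.leaf []) (.leaf [0, 0, 1])) (.node (.leaf []) (.leaf [1288187, -241087, 3492899, 1663420, -2113373, -51402, -234239, -1184957, 89566, 121313, -4600, 1858, -2437, 87, -18, 1])))) (.node (.node (.node (.leaf []) (.leaf [1565821, -52413, 4060315, 1950434, -2529060, -52943, -242654, -1342616, -37098, 199219, -12973, 3258, -232, 737, -8, 11])) (.node (.leaf [5, 2, 9, 6, -6, 1, 1, -6, -1, 1, 0, -1]) (.leaf [935, -182, 2215, 936, -1205, -48, -276, -645, 72, 82, 0, 2]))) (.node (.node (.leaf [37, -45, 109, 37, -51, -2, -35, -22, 20, 8]) (.leaf [])) (.node (.leaf [0, 0, 1]) (.leaf [0, 0, 1])))))))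

def twoL43 : Janko.Tree (List ℤ) :=
  (.node (.node (.node (.node (.node (.node (.node (.leaf []) (.leaf [-798, 68, -1847, -777, 1021, 11, 185, 526, -29, -27, 3, 1])) (.leaf [])) (.node (.leaf []) (.leaf [21212, -4645, 55680, 25558, -32477, -686, -4526, -18262, 1971, 1448, -30, 22, -40, 0, -1]))) (.node (.node (.leaf []) (.leaf [-40356, 10823, -113798, -54741, 68727, 1886, 7541, 39719, -4622, -3616, 102, -92, 131, 3])) (.node (.leaf [-628, -11, -1441, -620, 826, 4, 119, 409, 11, -25, 4, 1]) (.leaf [44, -10, 118, 55, -72, 1, -9, -38, 3, 3])))) (.node (.node (.node (.leaf []) (.leaf [14457379, -3040595, 39148446, 18467343, -23350987, -650475, -2755427, -13203921, 1322166, 1174220, -60754, 17154, -40881, -743, 292, 15])) (.node (.leaf [44118, -9971, 119233, 55902, -70831, -1711, -8777, -40027, 4210, 3450, -114, 74, -108, 1]) (.leaf [-1295904, 285433, -3523320, -1661556, 2097810, 58090, 246046, 1190357, -129219, -97156, 4428, -238, 3854, 151, -82, 1]))) (.node (.node (.leaf []) (.leaf [-46841, 13217, -123653, -55552,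 70034, 1976, 10959, 39987, -6662, -1916, 44, -102, 161, 13, 1])) (.node (.leaf [21869466, 5049780, 37705739, 12046905, -18578160, 984925, -5376324, -5848227, -2502622, -526052, -72628, -238976, 110340, 320, 4714, 31]) (.leaf [-107911317, 27859779, -297658495, -140390691, 176762132, 4778453, 21175551, 101211635, -12866652, -7628718, 284562, -102996, 366162, 15596, -2850, 197, -1]))))) (.node (.node (.node (.node (.leaf []) (.leaf [4754641, -436077, 10390627, 4070106, -5413752, -31938, -1268706, -2696854, 235207, 28073, -2708, -13665, 1894, -700, 192, -5, 1])) (.node (.leaf []) (.leaf [-2002030, 382508, -5612242, -2747665, 3481332, 87355, 326586, 1967185, -124613, -231838, 8174, -4582, 3884, -318, 68, -3]))) (.node (.node (.leaf []) (.leaf [-4063946, 895926, -10653416, -4849948, 6152551, 158446, 868704, 3450347, -435590, -217428, 12010, -570, 11803, 760, -224, 1])) (.node (.leaf [-4538, 1204, -11926, -5386, 6759, 309, 1149, 3814, -634, -337, 29, 7, 22, 2, -1]) (.leaf [569893209, -100152676, 1454894333, 654429492,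 -838919007, -16942956, -121074303, -459112684, 46416654, 29316490, -1598305, -401065, -1121850, -66823, 33349, -284, 11])))) (.node (.node (.node (.leaf [-4123, 739, -11088, -5214, 6683, 138, 775, 3668, -274, -350, 14, -8, 9]) (.leaf [486, -65, 1174, 503, -661, -9, -118, -340, 26, 24, -1])) (.node (.leaf [-2929142, 707826, -7771517, -3548567, 4494143, 109010, 624968, 2535701, -347520, -143218, 6358, -104, 9276, 614, -184, 5]) (.leaf [-135, 183, -676, -445, 431, 143, 34, 383, -107, -127, 9, -3, 3]))) (.node (.node (.leaf []) (.leaf [])) (.node (.leaf [988, -4, 2242, 956, -1277, 13, -199, -641, -23, 43, -3, 0, 1]) (.leaf [-8267, 761, -18801, -7766, 10227, 65, 2014, 5260, -316, -237, 14, 9, -3])))))) (.node (.node (.node (.node (.node (.leaf []) (.leaf [-37300, 4403, -89872, -38758, 50862, 584, 8637, 26305, -1709, -1776, 100, 0, 5, 1, 1])) (.node (.leaf [56924, -13600, 157928, 75593, -95160, -2737, -10675, -54505, 5726, 5237, -211, 121, -170, 3, -1]) (.leaf [-60719344, 13378516, -164932836, -77831513, 98371765,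 2698853, 11734577, 55763199, -5736228, -5015220, 224934, -103672, 168452, 1758, -300, -69]))) (.node (.node (.leaf []) (.leaf [3411, 1062, 3379, -377, -401, 343, -1434, 983, -424, -503, -32, -8, 23, 1, 1])) (.node (.leaf [155402928, -40414854, 432390816, 205602827, -258467190, -7225895, -29774357, -148566797, 18276944, 12086589, -459510, 226148, -541667, -17719, 4389, -114, -1]) (.leaf [-64525053, 62559155, -270966832, -150673219, 175081362, 11297113, 8971374, 120673362, -30107726, -12600491, 169846, -1226141, 1042844, 26727, 14616, 184, 5])))) (.node (.node (.node (.leaf []) (.leaf [0, 0, -1, 0, 1])) (.node (.leaf []) (.leaf []))) (.node (.node (.leaf []) (.leaf [91485042, -21694128, 251779784, 119292210, -150620905, -3888605, -17368900, -85681028, 9586613, 7060922, -268772, 78881, -276712, -8452, 2594, -109])) (.node (.leaf [5, 1, -2, -4, 6, 0, -3, 3, 0, -1]) (.leaf [-21966, 5746, -62799, -30474, 38425, 984, 3928, 21986, -2354, -2116, 69, -56, 68, -1]))))) (.node (.node (.node (.node (.leaf []) (.leaf [2257300,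 -1058293, 6234321, 2762707, -3391455, -114245, -615771, -2069355, 581594, -1183, 9056, 2654, -13721, -1346, 430, -27, 1])) (.node (.leaf []) (.leaf []))) (.node (.node (.leaf []) (.leaf [-29002416, -338625, -52242011, -15886210, 22897968, -407613, 9252504, 8967693, -465930, 1366332, 52076, 130144, -50002, 5764, -1294, -81, -3])) (.node (.leaf [-7630035, -8485, -9927028, -668366, 1840027, -417398, 3288328, -344491, -533593, 1425898, -38532, 82494, -17737, 5898, -1522, 29, -1]) (.leaf [809030, -132229, 2211734, 1067808, -1358940, -33374, -136274, -758225, 42444, 86962, -3864, 1448, -1404, 129, -6, 1])))) (.node (.node (.node (.leaf []) (.leaf [16988073, -4567271, 48098451, 23025097, -28945447, -775276, -3093046, -16618058, 2160387, 1198868, -56099, 1252, -70348, -3350, 1502, -57])) (.node (.leaf [27584, -5838, 73465, 34166, -43371, -1058, -5565, -24385, 2460, 2076, -70, 51, -64, 0, 1]) (.leaf [-2046, 74, -4912, -2172, 2868, 34, 405, 1453, 0, -131, 10, 2, -1]))) (.node (.node (.leaf [-72095, 21402, -214128, -106568,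 132806, 4227, 11791, 77996, -9002, -8033, 276, -222, 302, 4, -1]) (.leaf [-58130, 10215, -147111, -66147, 84343, 2237, 12752, 46648, -4643, -3623, 176, 5, 89, 0, 3])) (.node (.leaf [-36852731, 7547422, -93588080, -41355122, 52931570, 1031755, 8318709, 29081307, -3846241, -1210457, 68124, 50889, 90202, 8523, -2281, 95]) (.leaf [-469289, 88617, -1263025, -596754, 758218, 18979, 87964, 424504, -34870, -41302, 1850, -638, 977, 11, 23, -1])))))))

def twoL44 : Janko.Tree (List ℤ) :=
  (.node (.node (.node (.node (.node (.node (.node (.leaf [1]) (.leaf [2300, -143, 5198, 2137, -2838, -20, -548, -1419, 63, 60, -8, -3, 1])) (.leaf [-1494308, 485962, -3736064, -1545628, 1947225, 47448, 412842, 1108392, -297560, 48180, -764, 4010, 7541, 992, -257, 11])) (.node (.leaf [666361, -173051, 1859226, 883705, -1109366, -35531, -127772, -636882, 82287, 51020, -3244, 1115, -2828, -98, 37]) (.leaf []))) (.node (.node (.leaf [1]) (.leaf [-796185727, 195217854, -2212799637, -1056347891, 1329439238, 37771344, 149006620, 761677806, -85752921,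 -66930784, 2795793, -1359730, 2611109, 61794, -17802, -215, 13])) (.node (.leaf []) (.leaf [-99296586, 15272553, -241029037, -103473567, 134193839, 1948587, 23154367, 71339331, -7702098, -2718670, 203412, 181064, 145583, 17675, -6450, 95, -3])))) (.node (.node (.node (.leaf [-24292330, 7954606, -72323062, -35865603, 44455417, 1564564, 4222331, 26437911, -3474256, -2651978, 84130, -99726, 111335, 1333, 588, 1]) (.leaf [-1339, 110, -3453, -1582, 2112, -22, 234, 1064, -3, -83, 1, 0, -1])) (.node (.leaf []) (.leaf [-6343365, 978799, -16929086, -8023265, 10229681, 260009, 1141478, 5667714, -348174, -603318, 33113, -8504, 11841, -654, -92, -17]))) (.node (.node (.leaf [1]) (.leaf [-7304623, 1224397, -18272100, -8074210, 10391675, 197756, 1621974, 5628899, -581935, -320075, 18126, 7012, 12483, 889, -488, 10, -1])) (.node (.leaf [1]) (.leaf [2976669, -617445, 8337284, 4058379, -5128241, -138621, -504987, -2913200, 225431, 323294, -12644, 7236, -7163, 296, -58, 5]))))) (.node (.node (.node (.node (.leaf [26, -7, 63, 25,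 -34, 0, -9, -16, 3, 1]) (.leaf [-525845, 125574, -1464964, -700654, 884252, 23480, 96922, 503741, -53694, -45230, 2106, -1152, 1650, 21, 3])) (.node (.leaf []) (.leaf [119, -21, 312, 143, -188, 0, -25, -98, 6, 9]))) (.node (.node (.leaf []) (.leaf [492, -1036, 5830, 4180, -4936, -307, 542, -3257, 370, 640, -38, 32, -25, -1])) (.node (.leaf [3807, -385, 8364, 3316, -4383, -6, -994, -2244, 180, 36, 2, -6, 3]) (.leaf [1])))) (.node (.node (.node (.leaf [-960, 66, -2300, -988, 1320, 2, 204, 653, -21, -32, 2, 1]) (.leaf [1])) (.node (.leaf [8866, -218, 18838, 7291, -9880, -28, -2287, -4660, 120, 98, -24, -28, 12]) (.leaf [1]))) (.node (.node (.leaf [1]) (.leaf [7384214, -842437, 17650108, 7539224, -9822894, -151314, -1662078, -5130420, 464678, 178159, -29030, -23134, -11291, -1462, 930, -5])) (.node (.leaf [-2227, 276, -4901, -1915, 2541, 41, 644, 1270, -133, -52, 1, 0, -1, -1]) (.leaf [103258, -15304, 272496, 128826, -164262, -4346, -19252, -91110, 4739, 10790, -496, 257, -130, 19, -5])))))) (.node (.node (.node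 (.node (.node (.leaf []) (.leaf [276, -10, 654, 278, -376, 3, -58, -181, 1, 9, -2])) (.node (.leaf [24, 6, 52, 24, -30, 0, 1, -18, -2, -2]) (.leaf [-76642, 16266, -212093, -102049, 128911, 3467, 13619, 73295, -6358, -7481, 323, -185, 181, -2, 3]))) (.node (.node (.leaf [-45316, 9057, -120704, -56385, 71673, 1602, 8837, 40237, -3640, -3512, 98, -76, 87, -2, 1]) (.leaf [1])) (.node (.leaf [21, -35, 387, 291, -365, -13, 49, -209, 0, 53, -4, 2, -1]) (.leaf [1])))) (.node (.node (.node (.leaf []) (.leaf [18435, -2795, 49788, 23845, -30360, -820, -2937, -16986, 916, 1681, -31, 84, -13, 6, 5])) (.node (.leaf []) (.leaf [21, -36, 388, 291, -366, -12, 49, -209, 0, 53, -4, 2, -1]))) (.node (.node (.leaf [1997026, -382040, 5601040, 2743141, -3475348, -87308, -325312, -1964150, 124394, 231740, -8168, 4588, -3887, 318, -68, 3]) (.leaf [1])) (.node (.leaf [-11173941, 2320781, -35419114, -18980834, 23714803, 767166, 944327, 13852098, -477854, -2215268, 82290, -56900, 30584, -4448, 862, -60, 1]) (.leaf [1]))))) (.node (.node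 (.node (.node (.leaf []) (.leaf [-72, 12, -187, -85, 112, 0, 16, 58, -3, -6])) (.node (.leaf [-211277720, 40785760, -552691939, -252968469, 322957943, 6758082, 43111692, 178728667, -18533440, -12259496, 563914, 101698, 474240, 24750, -11572, 215, -1]) (.leaf [1]))) (.node (.node (.leaf [1]) (.leaf [166718768, -53009869, 508012364, 256714815, -318498472, -10609464, -25347548, -189115803, 22223706, 20037044, -618229, 566830, -764678, -4748, 1264, -169, -7])) (.node (.leaf [-231758008, 22533299, -567827007, -251950500, 327756284, 5033166, 47829337, 172650639, -8717399, -12776565, 852379, 409884, 152741, 4977, -16070, -225, -3]) (.leaf [-74791941, 6565493, -185332766, -83703565, 108661375, 1884394, 14773338, 57556672, -1944606, -5358002, 325454, 59731, 33342, -5622, -3093, -198, -1])))) (.node (.node (.node (.leaf []) (.leaf [-495693, 155239, -1243831, -521595, 657864, 17665, 136255, 373942, -89989, 4436, 259, -38, 2228, 247, -16, 1])) (.node (.leaf [-2, -2, -1, 0, 0, 0, 0, 0, 1]) (.leaf [-105457, 59137, -314240,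 -136798, 166109, 9897, 27601, 99790, -42510, 11010, 1637, 3, 1828, 166, -67, 1]))) (.node (.node (.leaf [-1110, 104, -2629, -1126, 1472, 27, 252, 763, -47, -48, 5, 0, 1]) (.leaf [])) (.node (.leaf [480895201, -129758188, 1323082008, 621916054, -781211551, -22712048, -97977766, -449857278, 59937098, 34905047, -1294347, 979245, -1681397, -59129, 1393, -204, 11]) (.leaf [23377147, 17899725, 36767635, 14551982, -24411805, 1766941, -1702924, -5353021, -10575666, 2564256, -280046, -425022, 312372, 20863, 8971, 232, -1])))))))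

def twoL45 : Janko.Tree (List ℤ) :=
  (.node (.node (.node (.node (.node (.node (.node (.leaf []) (.leaf [-109512, 26227, -302980, -144507, 182233, 4838, 20643, 104105, -11020, -9546, 318, -209, 303, 4, 1])) (.leaf [-195754, 63239, -549433, -258758, 321669, 11343, 41306, 189287, -31576, -12760, 592, -372, 913, 62, -11])) (.node (.leaf [-31979620, 336166, -71653880, -29487146, 39702803, -113493, 6964949, 19103662, -167547, -437505, 90071, 200763, -20197, 4720, -5796, 47, 1]) (.leaf [0, 1]))) (.node (.node (.leaf [-118, 583, -612, -156, 155, 11, 194, 173, -317, 104, -14, -21, 8, 0, -1]) (.leaf [0, 1])) (.node (.leaf [0, 1]) (.leaf [0, 1])))) (.node (.node (.node (.leaf []) (.leaf [-3132, -3399, 1072, 3113, -2579, -255, 1588, -3476, 1696, 127, 169, -83, -30, -12, -3])) (.node (.leaf [0, 1]) (.leaf [-22679, 5626, -64396, -31123, 39380, 939, 4038, 22351, -2283, -2102, 75, -56, 66, -2]))) (.node (.node (.leaf [42, 11, 99, 52, -64, -3, -1, -38, -7, 8, -1]) (.leaf [29268, -6743, 78316, 36456, -46026, -1261, -6070, -26157,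 2987, 2231, -93, 34, -85, -2, 1])) (.node (.leaf [-13821545, 3439810, -38458104, -18391454, 23115911, 676635, 2602234, 13289060, -1490944, -1214918, 46986, -28962, 44396, 736, -38, -6]) (.leaf [0, 1]))))) (.node (.node (.node (.node (.leaf [0, 1]) (.leaf [-212377, 49220, -594173, -285660, 360678, 9630, 38022, 205179, -20615, -19183, 944, -496, 662, 7, 3])) (.node (.leaf []) (.leaf [272744, -68521, 654488, 268410, -345572, -2991, -74349, -189081, 36898, -2883, 1338, -859, -338, -133, -10, -1]))) (.node (.node (.leaf []) (.leaf [7859, -1914, 21680, 10326, -12995, -360, -1509, -7458, 810, 694, -24, 16, -23])) (.node (.leaf [-141779, 34317, -388544, -183886, 231888, 6181, 27832, 132470, -14600, -11928, 390, -274, 400, 4, -1]) (.leaf [13401, -3604, 37574, 18027, -22603, -653, -2565, -13098, 1538, 1224, -32, 33, -44])))) (.node (.node (.node (.leaf [0, 1]) (.leaf [-6, 9, -48, -32, 37, 2, -6, 26, -4, 0, -1])) (.node (.leaf [0, 1]) (.leaf [1064364, 330334, 1685565, 507307, -810005, 43256, -266448, -222338, -179579, 6658,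 -5319, -8989, 7461, 250, 26, 13]))) (.node (.node (.leaf []) (.leaf [-157, -31, -516, -297, 381, 10, -13, 204, 24, -44, 10, -2, 1])) (.node (.leaf [66865188, -1491641, 151449758, 63395433, -84675565, -280626, -14719183, -41674366, 168587, 2297081, -205212, -260598, 57380, -957, 6094, 62, 3]) (.leaf [0, 1])))))) (.node (.node (.node (.node (.node (.leaf []) (.leaf [0, 1])) (.node (.leaf [-339, 44, -805, -345, 450, 3, 79, 238, -17, -14, 1]) (.leaf [2344, -165, 5127, 2045, -2704, -20, -584, -1373, 82, 28, -1, -3, 1]))) (.node (.node (.leaf []) (.leaf [152617, -33807, 411536, 193150, -244357, -6212, -30116, -138465, 14373, 12059, -400, 183, -346, -6, -3])) (.node (.leaf []) (.leaf [12529141, -4418676, 40003419, 20823383, -25654049, -949838, -1666159, -15495833, 1754563, 1893795, -51794, 66475, -62917, 802, -423, -5])))) (.node (.node (.node (.leaf []) (.leaf [0, 1])) (.node (.leaf [1260, -157, 3140, 1372, -1822, 18, -260, -928, 60, 27, -2, -2]) (.leaf [-14680505, 1972425, -37249864, -16845186, 21759193, 374269, 2944951,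 11678235, -830484, -845884, 50033, 21214, 19673, 906, -1009, 10, -1]))) (.node (.node (.leaf [3721, -219, 8474, 3520, -4661, -42, -859, -2346, 98, 104, -14, -6, 1]) (.leaf [-15949690, 4131950, -43889328, -20700255, 26016851, 764488, 3179180, 14950544, -1890236, -1209659, 50438, -30905, 55200, 1644, -286, -1])) (.node (.leaf [-6777169, 909441, -15916286, -6655678, 8684428, 114445, 1655545, 4543116, -467991, -143799, 11003, 14420, 6030, 1125, -494, 8, -1]) (.leaf [-3094, 1334, -12409, -7129, 8808, 337, -38, 5269, -473, -761, 39, -33, 25, 1]))))) (.node (.node (.node (.node (.leaf []) (.leaf [1528, -178, 3285, 1266, -1670, -12, -434, -855, 90, 14, 1, -3, 1])) (.node (.leaf []) (.leaf [300887, 11749, 719939, 317462, -420337, -1518, -43132, -207789, 2548, -1488, -2792, -3954, -786, -122, 220, -1]))) (.node (.node (.leaf [785, -93, 1868, 804, -1046, -14, -178, -555, 37, 33]) (.leaf [86079406, -720041, 179405108, 67771658, -92703986, 585924, -22015236, -42632599, 1083785, -785525, -198215, -476946, 80019, -14855, 11178,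 19])) (.node (.leaf [0, 1]) (.leaf [0, 1])))) (.node (.node (.node (.leaf [0, 1]) (.leaf [0, 1])) (.node (.leaf [0, 1]) (.leaf [816, -142, 1631, 561, -741, 30, -249, -400, 76, -54, 8, -2, 2]))) (.node (.node (.leaf [-1344, 116, -3157, -1349, 1761, 29, 298, 919, -52, -51, 5, 0, 1]) (.leaf [])) (.node (.leaf []) (.leaf [116885307, -13294883, 278242393, 119136763, -155434586, -2173924, -26844177, -81317360, 6109060, 4333002, -310504, -196888, -76995, -10257, 4690, 77, 7])))))))

def twoL46 : Janko.Tree (List ℤ) :=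
  (.node (.node (.node (.node (.node (.node (.node (.leaf []) (.leaf [-409, 43, -888, -355, 454, 24, 115, 243, -25, -20, 2, 0, 1])) (.leaf [0, 0, 1])) (.node (.leaf [-2335, 218, -5673, -2491, 3270, 18, 482, 1700, -70, -106, 4, 1]) (.leaf [-568778649, 99833370, -1451709268, -652891879, 836997683, 16881250, 120868370, 457993554, -46270635, -29220413, 1594042, 404120, 1117065, 66716, -33299, 284, -11]))) (.node (.node (.leaf [1, 0, 0, 0, 1, 0, 0, -1]) (.leaf [35554675, -7555017, 103399283, 52050530, -65309411, -2085118, -5238014, -37709216, 2408035, 5015818, -184515, 133988, -86503, 6939, -2154, 112, 1])) (.node (.leaf [10, -2, 27, 11, -16, 1, -3, -7, 0, 1]) (.leaf [5306578, -508939, 12491967, 5353017, -6986579, -139939, -1246420, -3639371, 197156, 296112, -21732, 1974, -1109, 338, -469, 17])))) (.node (.node (.node (.leaf []) (.leaf [-1412, 115, -3627, -1658, 2210, -22, 248, 1117, -6, -84, 2, 0, -1])) (.node (.leaf [28414004, -9173860, 91839951, 48922068, -60051875, -2626719, -3303487, -36498447, 3143728, 5553109,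 -190494, 238232, -127679, 8050, -3974, 163, 1]) (.leaf [-539210, 119189, -1490574, -715673, 902080, 26419, 98657, 514795, -48065, -52764, 2157, -1240, 1434, -19, 9, -1]))) (.node (.node (.leaf [-63, 7, -156, -67, 90, 0, 15, 44, -2, -3]) (.leaf [2775764, -473692, 7722330, 3782219, -4789243, -137342, -446635, -2700818, 149606, 335320, -16980, 8280, -6051, 573, -29, 11])) (.node (.leaf []) (.leaf [-668, 83, -1606, -699, 906, 12, 146, 487, -32, -29, -1]))))) (.node (.node (.node (.node (.leaf []) (.leaf [3816, -349, 7762, 2815, -3614, -240, -1181, -1853, 352, -3, -32, -18, -10, 2, -1])) (.node (.leaf [330736, -80273, 924650, 442978, -558164, -15775, -61029, -318580, 35110, 28764, -1495, 619, -1170, -19, -7]) (.leaf [0, 0, 1]))) (.node (.node (.leaf []) (.leaf [4098, -1445, 13472, 7091, -8730, -381, -479, -5241, 618, 643, -40, 26, -25, -1])) (.node (.leaf [0, 0, 1]) (.leaf [-99206722, 24698765, -271197089, -127184378, 160443349, 4225643, 19695009, 91418239, -11453172, -6726094, 273726, -79719, 325699, 14271, -2914,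 145, 1])))) (.node (.node (.node (.leaf [2538, -447, 6675, 3080, -3937, -112, -510, -2163, 191, 192, -12, 7, -5]) (.leaf [220, 2, 472, 188, -254, 2, -51, -122, -2, 4, -2])) (.node (.leaf [-6556, 530, -15084, -6307, 8303, 89, 1534, 4253, -230, -209, 19, 6, -1]) (.leaf [3465435, -290799, 8672759, 3953800, -5126681, -92760, -657703, -2720645, 84049, 258962, -17527, -3217, -2223, 200, 99, 11]))) (.node (.node (.leaf [-5, 0, -8, -2, 2, 0, 2, 2]) (.leaf [-94744308, 29741671, -267139305, -126955562, 158223804, 5148312, 19450840, 92927022, -13810244, -7459461, 241336, -348408, 398893, 12432, 2660, -106, 3])) (.node (.leaf [0, 0, 1]) (.leaf [-78849, 16201, -209920, -97981, 124145, 3130, 15601, 70044, -6878, -6041, 203, -47, 148, 3, 3])))))) (.node (.node (.node (.node (.node (.leaf [0, 0, 1]) (.leaf [])) (.node (.leaf [0, 0, 1]) (.leaf [0, 0, 1]))) (.node (.node (.leaf [-3716, 221, -8334, -3425, 4501, 68, 876, 2299, -125, -88, 16, 9, -1]) (.leaf [106795, -24793, 292118, 138100, -174655, -4401, -20692, -99102, 10464, 8784,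 -320, 202, -282, -3])) (.node (.leaf [75, -47, 521, 349, -439, -13, 36, -251, 5, 55, -4, 2, -1]) (.leaf [355482, -47118, 862608, 374748, -485399, -9255, -80854, -258275, 21822, 15978, -1299, -125, -380, -30, -11, 1])))) (.node (.node (.node (.leaf [-117, 22, -312, -143, 190, -1, 25, 97, -6, -9]) (.leaf [-23411, 4231, -59800, -27012, 34457, 907, 5117, 19022, -1922, -1525, 101, -8, 48, 2, -1])) (.node (.leaf [-213, -37, -384, -155, 188, 34, 57, 104, 18, -39, 4, -1]) (.leaf [32138, -7106, 85539, 39665, -50245, -1293, -6676, -28335, 3121, 2378, -104, 34, -84, -2, 1]))) (.node (.node (.leaf [8647726, -1301716, 20995209, 9058442, -11722801, -198242, -2008090, -6261891, 635606, 299838, -18446, -12084, -11154, -1168, 564, -7, 1]) (.leaf [-23, -12, -10, 8, -5, 0, 11, -10, 6, 0, 0, 0, 0, -1])) (.node (.leaf [-109815036, 7340098, -255237832, -106959402, 142123432, 146372, 24203486, 70963752, -3877986, -1412909, 242012, 599804, 33240, 21467, -17378, 290, 5]) (.leaf [57, -8, 147, 66, -87, 0, -12, -45, 2, 4]))))) (.node (.node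 (.node (.node (.leaf []) (.leaf [0, 0, 1])) (.node (.leaf [-90364532, 19738854, -272922724, -139183177, 175669641, 3916894, 10578623, 100227719, -6941078, -10874046, 364174, 54084, 280846, 1836, -8602, 287, 9]) (.leaf [-1, -12, 5, -1, -1, 0, -9, 3, 4, 4]))) (.node (.node (.leaf [1, 0, 0, 0, 1, 0, 0, -1]) (.leaf [-25020992, 9165727, -78006387, -39758940, 48908375, 2001221, 3991669, 29569702, -3915415, -3401771, 123890, -161578, 136673, -6, 2196, -36, -1])) (.node (.leaf [-279, 32, -624, -253, 331, 4, 73, 172, -15, -7, 1]) (.leaf [-69888608, 9667693, -187906827, -90115421, 115031873, 2753180, 11740897, 63614525, -2933939, -7239053, 354850, -61326, 102895, -9105, -1850, -186, 1])))) (.node (.node (.node (.leaf []) (.leaf [-495696, 155240, -1243836, -521597, 657868, 17665, 136257, 373942, -89989, 4435, 259, -38, 2228, 247, -16, 1])) (.node (.leaf [28667, -4225, 71237, 31435, -40935, -504, -6427, -21662, 1613, 1589, -56, 22, -15, 0, -1]) (.leaf [4738, -363, 10472, 4203, -5550, -54, -1183, -2819, 190, 68, -10, -6,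 1]))) (.node (.node (.leaf [0, 0, 1]) (.leaf [0, 0, 1])) (.node (.leaf []) (.leaf [27475202, 16932442, 47662341, 19544124, -30725524, 1600394, -2562317, -8918984, -10093006, 2771980, -292427, -425632, 298337, 19973, 9377, 223, -1])))))))

def twoL47 : Janko.Tree (List ℤ) :=
  (.node (.node (.node (.node (.node (.node (.node (.leaf []) (.leaf [-1, 0, -2, 0, 0, 0, 0, 1, 0, 1])) (.leaf [-132629127, 34899130, -376014139, -180866440, 227496333, 5963230, 23814020, 130610409, -15809510, -10399046, 399134, -63260, 499250, 16374, -7883, 470, 5])) (.node (.leaf []) (.leaf []))) (.node (.node (.leaf []) (.leaf [338, -44, 846, 362, -501, 11, -88, -229, 7, 21, -1, 0, 1])) (.node (.leaf [-139570525, 38326605, -400640553, -195154278, 244218535, 7400704, 24767992, 141974288, -16502738, -13492699, 469922, -342164, 516393, 6671, -563, 82, 1]) (.leaf [-3702214, 869078, -10153855, -4808637, 6060107, 173898, 710618, 3457283, -385442, -299586, 13838, -5860, 11752, 231, -106, -1])))) (.node (.node (.node (.leaf []) (.leaf [])) (.node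 (.leaf [696337779, -164019848, 1911436349, 905306075, -1141796940, -31325737, -133188883, -650793276, 72294984, 55538960, -2299702, 951900, -2125079, -54719, 18656, 28]) (.leaf [1591, -189, 3191, 1160, -1498, -11, -476, -815, 106, -13, 4, -4, 1]))) (.node (.node (.leaf []) (.leaf [])) (.node (.leaf [14614854, -2695862, 42113511, 21119974, -26642312, -763770, -2064750, -15176771, 823736, 1944249, -83694, 35042, -34565, 2478, -132, 45, -1]) (.leaf [-1602, 133, -4102, -1884, 2459, 34, 284, 1286, -40, -108, 9, 1, 1]))))) (.node (.node (.node (.node (.leaf []) (.leaf [-58, -19, 184, 199, -246, -12, 67, -145, -6, 48, -4, 2, -1])) (.node (.leaf []) (.leaf [-5790, -4505625, 15375466, 12175690, -13563971, -1157803, 1811260, -10245716, 1671316, 2216209, -50974, 149405, -88070, 3457, -2110, 17, -3]))) (.node (.node (.leaf []) (.leaf [0, 0, -1, 0, 1])) (.node (.leaf [-4941657, -1795024, -876895, 3860989, -3568119, -644407, 2758958, -3860274, 414504, 1542347, -27770, 85698, -45685, 3546, -1040, -14, -1]) (.leaf [-13249062,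 3232821, -36166705, -16967213, 21387743, 600070, 2618844, 12188038, -1517094, -911940, 45417, -10914, 45574, 1906, -679, 15])))) (.node (.node (.node (.leaf []) (.leaf [-1235, 120, -2618, -1007, 1324, 8, 339, 684, -64, -4, -2, 4, -1])) (.node (.leaf [-122697, 54322, -334490, -146573, 181678, 4174, 32752, 108926, -29962, 1909, -518, -74, 714, 80, -6, 1]) (.leaf [9874020, -3550598, 34431189, 18946146, -23236037, -925248, -653038, -14160261, 1263690, 2029241, -69849, 59124, -59168, 1679, -77, -2, -1]))) (.node (.node (.leaf []) (.leaf [-3674, 382, -8874, -3864, 5058, 59, 818, 2634, -138, -197, 17, -2, 1])) (.node (.leaf [7257203, 13249154, -9909534, -11565138, 9967208, 2162217, -2622436, 12107735, -6913686, -1202628, -48060, -275088, 259807, 10900, 2482, 149, 5]) (.leaf [-34666, 4959, -94597, -45822, 58355, 1477, 5520, 32487, -1490, -3766, 219, -90, 46, -4, 3])))))) (.node (.node (.node (.node (.node (.leaf []) (.leaf [-352199733, 77651451, -938235542, -433844381, 550257118, 13526964, 71908583, 309380759, -35548731,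 -22604024, 985476, -189719, 956084, 40459, -12367, 213, -5])) (.node (.leaf [-330069, 79999, -922673, -442012, 557040, 15683, 60920, 317828, -34928, -28742, 1487, -617, 1162, 19, 7]) (.leaf []))) (.node (.node (.leaf []) (.leaf [437407, -3258, 1000041, 430482, -571995, -6976, -95112, -285303, -9484, 32684, -2257, 236, 640, 114, -42, 3])) (.node (.leaf []) (.leaf [1694572, -348165, 4198358, 1807179, -2315564, -47645, -406755, -1265816, 190241, 31371, -3335, -2575, -4486, -558, 132, -1])))) (.node (.node (.node (.leaf [-7, 0, -12, -3, 4, 0, 2, 3]) (.leaf [9983, -2464, 28923, 14250, -18058, -349, -1631, -10284, 834, 1120, -27, 48, -18, 0, 1])) (.node (.leaf []) (.leaf [-841783154, 84991686, -1922362690, -785536670, 1036190259, 8162631, 206320038, 526587029, -47057655, -8259220, 1623676, 2831843, 504196, 164091, -97791, 593, -33]))) (.node (.node (.leaf [-1, 0, -2, -1, 1, 0, 0, 1]) (.leaf [])) (.node (.leaf []) (.leaf [-23439, 6840, -69654, -34665, 43398, 1208, 3820, 25287, -2732, -2656, 77, -84, 86, 1]))))) (.node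 (.node (.node (.node (.leaf []) (.leaf [])) (.node (.leaf [-5784, 1698, -19549, -10487, 13180, 388, 486, 7583, -550, -1052, 56, -36, 26, -1]) (.leaf []))) (.node (.node (.leaf []) (.leaf [90211746, -926784, 187961646, 70935406, -97004997, 603911, -23155476, -44651903, 1225546, -844167, -199412, -496306, 84195, -15651, 11588, 12, 1])) (.node (.leaf [-268, 31, -601, -243, 319, 5, 71, 164, -15, -7, 1]) (.leaf [-16073750, 2234450, -39861200, -17566534, 22779027, 327290, 3460284, 12113866, -1039151, -653798, 42748, 32820, 21202, 2113, -999, 20])))) (.node (.node (.node (.leaf []) (.leaf [-129213, 63841, -264212, -69990, 87298, 3531, 58377, 49159, -48025, 27111, -325, 528, 1209, 206, -24, 1])) (.node (.leaf []) (.leaf [33127756, -7955770, 90974462, 43073000, -54257439, -1558158, -6408923, -31001769, 3529006, 2679261, -117636, 57892, -105014, -2357, 572, 13]))) (.node (.node (.leaf [-161, -3, -584, -333, 438, 4, -8, 223, 15, -44, 8, -2, 1]) (.leaf [-186585445, 44603859, -506513763, -237076598, 299351365, 7997387, 37277701,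 170135760, -20352711, -13172140, 558224, -203681, 575217, 20670, -4047, 108, -1])) (.node (.leaf [-247388784, 98906652, -780988116, -398805743, 488595783, 20000683, 39754082, 298604707, -43406352, -32408741, 989670, -1586114, 1474929, 11006, 16070, -74, 3]) (.leaf [43503946, -8849344, 119951883, 57692783, -72933780, -2023471, -7733901, -41323029, 3432252, 4328851, -189800, 84121, -107948, 2288, -652, 70])))))))

def twoL48 : Janko.Tree (List ℤ) :=
  (.node (.node (.node (.node (.node (.node (.node (.leaf []) (.leaf [-62, -6, -147, -63, 90, -1, 11, 37, 5, -3, 1])) (.leaf [520035, -105757, 1419617, 677908, -856890, -24102, -95683, -485722, 41526, 50194, -2263, 1198, -1248, 32, -5, 1])) (.node (.leaf []) (.leaf [50, -7, 123, 55, -72, -1, -11, -38, 1, 4, 0, 1]))) (.node (.node (.leaf [180, -101, 637, 307, -423, 37, -27, -210, 36, -14, 4, -1]) (.leaf [2647, -288, 5673, 2163, -2891, -18, -766, -1430, 136, 27, 4, -2, 3, 1])) (.node (.leaf [1]) (.leaf [-391, 3634, -9004, -6288, 6852, 534, -417, 5459, -1693, -685, -18,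 -64, 70, 2, -1])))) (.node (.node (.node (.leaf []) (.leaf [54645, -15365, 146021, 66434, -83722, -2352, -12413, -47865, 7516, 2752, -66, 126, -185, -12, -1])) (.node (.leaf [1466958, -300474, 3911582, 1819217, -2308872, -57830, -289375, -1294110, 135738, 100620, -4892, -140, -3863, -155, 68, -1]) (.leaf [1]))) (.node (.node (.leaf []) (.leaf [1])) (.node (.leaf [105705441, -24446333, 294053497, 140881120, -177609084, -4922344, -19113044, -101265130, 10610052, 9060652, -412826, 121722, -340001, -7217, 5075, -19, -1]) (.leaf [1]))))) (.node (.node (.node (.node (.leaf []) (.leaf [-2, 1, -4, -2, 2, 0, 1, 2, 0, -1])) (.node (.leaf []) (.leaf [-36608, 8996, -92963, -40895, 51835, 1274, 8837, 29259, -4467, -1365, 14, -46, 91, 6, 1]))) (.node (.node (.leaf [1]) (.leaf [71577266, -13833955, 183520323, 82522785, -105497682, -2213747, -15511967, -58185637, 6459149, 3630938, -157397, -23315, -147393, -9592, 3662, -46, 5])) (.node (.leaf []) (.leaf [-109620905, 21758073, -292869174, -137188046, 173957594, 4623300, 21373227,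 97785421, -9143166, -8887831, 412992, -144539, 257713, 2770, -816, -198, 1])))) (.node (.node (.node (.leaf []) (.leaf [46861458, -13531072, 138047258, 68412058, -85314756, -2715564, -7738461, -50009568, 5728367, 5057800, -179459, 140760, -191756, -1914, 628, 2, -1])) (.node (.leaf [-1592, -204, -1996, -253, 386, 60, 580, 74, -32, 172, 4, 14]) (.leaf [9235150, -1048702, 21466427, 8934161, -11706417, -137780, -2228897, -6051794, 547240, 184401, -19679, -23875, -6719, -1498, 716, -5]))) (.node (.node (.leaf [15352338, -4004904, 42809144, 20426816, -25646363, -750184, -2934848, -14785846, 1778366, 1283296, -47208, 30822, -52417, -1256, 125, -1]) (.leaf [24128, -4573, 62040, 28011, -36041, -620, -5284, -19662, 1833, 1540, -28, 39, -33, 0, -1])) (.node (.leaf [-34788708, 7185208, -93904214, -44194466, 56044796, 1417523, 6660293, 31523859, -3034694, -2787506, 119282, -34554, 85280, 1444, -278, -17]) (.leaf [89447, -20993, 245128, 116061, -146495, -4004, -17292, -83395, 9029, 7423, -274, 156, -245, -3, -1])))))) (.node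 (.node (.node (.node (.node (.leaf []) (.leaf [-68984715, 9461175, -170222548, -74389534, 96610043, 1186246, 14782927, 51119881, -4868595, -1844560, 165602, 256210, 111840, 15626, -10679, 222, 1])) (.node (.leaf [-1265240, 323821, -3496900, -1654501, 2080368, 61626, 247738, 1193041, -148842, -97187, 4750, -2314, 4614, 136, -31]) (.leaf [169054499, -29021366, 425275066, 188790722, -242549504, -4712584, -37121256, -131977483, 13808808, 7586777, -429634, -161161, -308357, -23533, 9801, -107, 9]))) (.node (.node (.leaf [-2, 0, -6, -2, 2, 1, 2, 1, 0, -1]) (.leaf [-4229, 389, -9714, -4049, 5322, 47, 1010, 2744, -166, -131, 10, 4, -1])) (.node (.leaf []) (.leaf [-15560888, 4053587, -43365524, -20684670, 25972051, 758553, 2978055, 14971205, -1800113, -1297713, 47729, -31188, 52976, 1284, -130, 1])))) (.node (.node (.node (.leaf [1]) (.leaf [-141555, 43842, -414244, -203162, 252187, 9044, 25316, 148920, -20145, -13881, 632, -335, 693, 22, -1])) (.node (.leaf [1]) (.leaf [38493, -17968, 133354, 71656, -86712, -4025, -4309,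 -54357, 7932, 6497, -239, 212, -320, -6, 3]))) (.node (.node (.leaf [-1309, 68, -3162, -1396, 1837, -4, 236, 952, -20, -39, 4, 4, -1]) (.leaf [11636861, -1231681, 29904225, 13862169, -17906744, -312740, -2119033, -9617743, 372470, 927284, -48714, -11315, -8998, 553, 617, 19])) (.node (.leaf [-2271061, -100914, -2671697, 93727, 267482, -193929, 995691, -391232, -175132, 594916, -16048, 44744, -5361, 2803, -938, 37, -1]) (.leaf [1]))))) (.node (.node (.node (.node (.leaf [1]) (.leaf [])) (.node (.leaf [1]) (.leaf [19057780, 5966786, 32614924, 10827419, -16978600, 1029168, -4116027, -5037498, -3174123, -139114, -75242, -245077, 122122, 2280, 4949, 23]))) (.node (.node (.leaf [-487, 9, -1159, -507, 674, 6, 95, 335, 2, -25, 2, 1]) (.leaf [-16928710, 4122637, -49681353, -24848983, 31085715, 1015626, 2556675, 18042029, -1620618, -2055516, 95177, -47048, 63059, -763, -402, -25])) (.node (.leaf []) (.leaf [1])))) (.node (.node (.node (.leaf [9423723, -1973395, 27025262, 13384147, -16854385, -481008, -1432952, -9637563,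 734902, 1074479, -44354, 12508, -26697, 265, 250, 9]) (.leaf [1])) (.node (.leaf []) (.leaf [1]))) (.node (.node (.leaf []) (.leaf [-2153063, 253167, -4959909, -2043687, 2681832, 34206, 540528, 1381731, -127546, -49040, 5072, 2751, 1296, 217, -91, -1])) (.node (.leaf [1]) (.leaf [-22069, -1938, -28987, -3593, 7246, -1175, 8422, 425, 6, 2981, -204, 350, -175, 29, 1])))))))

def twoL49 : Janko.Tree (List ℤ) :=
  (.node (.node (.node (.node (.node (.node (.node (.leaf [0, 1]) (.leaf [-24708, 3991, -57383, -23793, 30581, 800, 6446, 16545, -2107, -695, 30, 17, 24, 4, 1])) (.leaf [-3595649, 956239, -10036645, -4777174, 5997568, 174522, 690146, 3456203, -437285, -279821, 11051, -5678, 13112, 468, -115, 3])) (.node (.leaf [0, 1]) (.leaf [-51784929, 3450809, -103950633, -35002733, 48910473, -1443723, 14937207, 21263684, -3754722, 4534639, -45673, 529441, 31897, 30329, -16053, 386, 7]))) (.node (.node (.leaf [0, 1]) (.leaf [-54992929, 11393026, -145659036, -67220154, 85477702, 2016684, 11154574, 47738829, -5170843, -3514642,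 167522, -12120, 140763, 5485, -2494, 41, -1])) (.node (.leaf []) (.leaf [0, 1])))) (.node (.node (.node (.leaf [0, 1]) (.leaf [0, 1])) (.node (.leaf [14743, -3543, 40552, 19285, -24269, -727, -2858, -13906, 1504, 1326, -46, 36, -44]) (.leaf [212, 38, -652, -651, 920, -73, -261, 422, 60, -78, 2, -4, -2, 1]))) (.node (.node (.leaf [0, 1]) (.leaf [-97991, 21908, -272416, -131605, 165904, 4681, 17683, 94890, -8238, -10344, 288, -298, 238, -16, 7])) (.node (.leaf [0, 1]) (.leaf [-237815, 30451, -602634, -276286, 355567, 7269, 48117, 193287, -8923, -20796, 762, -356, 69, -30, 21, -1]))))) (.node (.node (.node (.node (.leaf []) (.leaf [0, 1])) (.node (.leaf [0, 1]) (.leaf [96149, -8975, 222030, 92697, -122773, -799, -23493, -62143, 3180, 3784, -141, -67, 60, 6, -7]))) (.node (.node (.leaf []) (.leaf [-800, 67, -1850, -777, 1022, 10, 186, 524, -29, -26, 3, 1])) (.node (.leaf [-404, 1, -696, -207, 272, 18, 130, 130, -22, 18, 2, 2]) (.leaf [-8250657, 5363141, -32048303, -18015281, 21461010, 1130988, 742090, 14026333, -2214059,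 -1979635, 37684, -123673, 81771, -1120, 1927, -23, 1])))) (.node (.node (.node (.leaf []) (.leaf [0, 1])) (.node (.leaf [-650, -112, -444, 213, -221, 11, 314, -217, -24, 135, -3, 10, -1]) (.leaf [1924, -110, 4557, 1966, -2604, -26, -418, -1309, 28, 100, -9, -1]))) (.node (.node (.leaf [0, 1]) (.leaf [3295, -325, 6864, 2558, -3392, -37, -944, -1710, 181, -16, 11, -4, 3])) (.node (.leaf []) (.leaf [-247100, 52798, -642837, -292832, 372488, 7757, 53002, 208758, -23250, -14753, 97, 40, 404, 36, 11])))))) (.node (.node (.node (.node (.node (.leaf []) (.leaf [-56824916, 2710337, -132910959, -56963590, 75375890, 512571, 12047832, 38003261, -916301, -2170978, 192505, 208727, -9785, 2561, -5994, -18])) (.node (.leaf [0, 1]) (.leaf [-63, -7, -147, -63, 90, -2, 11, 37, 5, -3, 1]))) (.node (.node (.leaf []) (.leaf [0, 1])) (.node (.leaf [0, 1]) (.leaf [11666762, -4173501, 37244774, 19361246, -23843096, -881661, -1572042, -14417359, 1674749, 1735417, -45553, 60700, -59259, 526, -390, -7])))) (.node (.node (.node (.leaf [12,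 -2, 23, 8, -10, 0, -4, -6, 1]) (.leaf [-747, -144, -302, 436, -484, -22, 394, -403, -61, 240, 0, 22, 3, 0, 1])) (.node (.leaf []) (.leaf [0, 1]))) (.node (.node (.leaf [-180, 93, -507, -222, 291, -7, 59, 159, -36, -7, -3, 0, -1]) (.leaf [0, 1])) (.node (.leaf [0, 1]) (.leaf [-3255, 1348, -12785, -7287, 9019, 337, 0, 5374, -477, -767, 39, -33, 25, 1]))))) (.node (.node (.node (.node (.leaf []) (.leaf [0, 1])) (.node (.leaf [-317209806, 19806639, -743777493, -319935263, 420606508, 5284559, 69390388, 215487365, -6558294, -15477753, 1191068, 591261, -29515, -6547, -15640, -707, -13]) (.leaf [-1848570, 463385, -4791956, -2122420, 2698266, 56114, 424114, 1508297, -246884, -40816, 2206, 2379, 6305, 624, -198, 7]))) (.node (.node (.leaf [0, 1]) (.leaf [-3191761, 611940, -8377673, -3869480, 4917516, 128829, 650107, 2747241, -264936, -235208, 11960, -3371, 7062, 85, 38, -5])) (.node (.leaf [-217, 41, -474, -187, 237, 5, 63, 134, -21, -3]) (.leaf [-149534, 34955, -417581, -202020, 253579, 7377, 26500, 146352, -14286, -14625,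 413, -169, 363, 13, 7])))) (.node (.node (.node (.leaf []) (.leaf [-3258931, 841998, -8875725, -4141059, 5209759, 147509, 663767, 2984776, -403776, -205825, 8962, -2696, 11606, 568, -136, 5])) (.node (.leaf []) (.leaf [-4936177, 441383, -10822433, -4242243, 5649264, 24714, 1297438, 2803282, -253844, -281, 3928, 17781, -661, 938, -446, 8, -1]))) (.node (.node (.leaf [0, 1]) (.leaf [63872, -18572, 185703, 91101, -113717, -3549, -11211, -66550, 7930, 6523, -190, 181, -243, -4])) (.node (.leaf [-34066382, 6967902, -85864359, -37626395, 48223766, 901265, 7830700, 26403831, -3622421, -929018, 56207, 56827, 83101, 8717, -2288, 100]) (.leaf [132439, -30355, 361983, 171404, -216526, -5671, -25475, -123136, 12775, 11137, -394, 237, -345, -4, -1])))))))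

def twoL50 : Janko.Tree (List ℤ) :=
  (.node (.node (.node (.node (.node (.node (.node (.leaf []) (.leaf [-3609, -618, -7033, -2765, 3751, 92, 775, 1701, 305, -198, 40, 22, -10, 0, 1])) (.leaf [-32790914, 7680763, -90461589, -43135100, 54346989, 1560779, 6197223, 31058379, -3249449, -2934306, 120840, -73754, 97220, 442, 157, -43])) (.node (.leaf [-355, 45, -928, -432, 562, 5, 65, 299, -11, -29, 1]) (.leaf [44, -12, 113, 49, -64, -1, -12, -34, 4, 3, 0, 1]))) (.node (.node (.leaf []) (.leaf [0, 0, 1])) (.node (.leaf [44, -19, 134, 67, -82, 0, -7, -52, 8, 3]) (.leaf [-230522, 61911, -636749, -300815, 377070, 11880, 46311, 217875, -28651, -17834, 740, -474, 820, 32, -3])))) (.node (.node (.node (.leaf []) (.leaf [62861, -19404, 176119, 82980, -103874, -3138, -13021, -60393, 9172, 4272, -106, 196, -252, -14, -1])) (.node (.leaf [46254454, -8089700, 114693085, 50168127, -64549610, -1189964, -10606002, -35022166, 3923928, 1768020, -89388, -41868, -78165, -6990, 2244, -26, 3]) (.leaf [2020, 77, 3767, 1341, -1744, -101,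 -567, -877, 5, 51, -17, -2]))) (.node (.node (.leaf []) (.leaf [])) (.node (.leaf [-13837734, 3441829, -38498696, -18409739, 23139553, 677016, 2605544, 13301743, -1491719, -1215934, 47050, -28950, 44407, 735, -37, -6]) (.leaf [37708885, -2995273, 84496320, 33901446, -45210593, 44024, -9196864, -22388795, 1772128, -137744, -27072, -204676, -3756, -9492, 6045, -102, 1]))))) (.node (.node (.node (.node (.leaf []) (.leaf [-670, 108, -1606, -678, 892, 12, 177, 457, -45, -32, 1])) (.node (.leaf [-33119998, 35793159, -177837784, -111190179, 129558063, 8396325, -2664656, 88843169, -14160476, -15216615, 366360, -1016516, 615183, -17422, 16674, -145, 9]) (.leaf [0, 0, 1]))) (.node (.node (.leaf [822, -142, 2192, 1003, -1318, -16, -182, -677, 50, 71, -8, 2, -1]) (.leaf [260909608, -65684763, 714131505, 336183039, -423094089, -12173571, -52231475, -242443222, 29597373, 20055692, -788109, 508187, -835588, -22214, 1640, 41, 7])) (.node (.leaf []) (.leaf [0, 0, 1])))) (.node (.node (.node (.leaf []) (.leaf [-38, 32, -118, -54,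 66, 6, 17, 39, -15, -5, -1])) (.node (.leaf [0, 0, 1]) (.leaf [0, 0, 1]))) (.node (.node (.leaf []) (.leaf [0, 0, 1])) (.node (.leaf [140, 13, 225, 82, -85, -28, -45, -62, 0, 22, -3, 0, -1]) (.leaf [225500, -14018, 645847, 334878, -423990, -16979, -24531, -237125, -5191, 44919, -3281, 1714, -382, 167, -13, 3])))))) (.node (.node (.node (.node (.node (.leaf []) (.leaf [])) (.node (.leaf [-8775, 2471, -21574, -9053, 11522, 234, 2475, 6441, -1281, -155, -10, 4, 26, 2, -1]) (.leaf [238424072, -25310186, 550203422, 227504740, -298811216, -3130185, -57629593, -153467258, 13622239, 3813997, -547956, -695575, -178659, -41500, 23817, -25, 7]))) (.node (.node (.leaf [-14614, 3697, -40533, -19335, 24315, 691, 2826, 13977, -1570, -1309, 42, -34, 45]) (.leaf [866106, -130348, 2126468, 932145, -1204602, -20650, -196945, -647618, 55944, 43328, -1496, -246, -647, -61, -44, 1])) (.node (.leaf [-34059649, 8714146, -93617658, -44172899, 55550643, 1597366, 6764405, 31895138, -3939141, -2617636, 101128, -64942, 112849, 3275, -403,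 -9]) (.leaf [0, 0, 1])))) (.node (.node (.node (.leaf [-64188, 17358, -179884, -85980, 107788, 3427, 12556, 62221, -7784, -5679, 233, -116, 230, 8, -1]) (.leaf [0, 0, 1])) (.node (.leaf [-38707, 8754, -105734, -50178, 63434, 1570, 7367, 36102, -3501, -3386, 80, -95, 91, -2, 1]) (.leaf [988, 175, 2823, 1541, -2014, -61, -74, -1017, -178, 316, -35, -2, -2, 0, 1]))) (.node (.node (.leaf [0, 0, 1]) (.leaf [672753314, -185215066, 1892724748, 905601486, -1134744675, -34104138, -128513921, -657201534, 83748670, 55664352, -2081288, 1406543, -2503573, -72058, 5537, -506, 7])) (.node (.leaf [-8183687, 1145103, -19398682, -8154318, 10640643, 119157, 1965820, 5572804, -593698, -146684, 10456, 20998, 8512, 1666, -806, 13, -1]) (.leaf [-106314897, 27015399, -289352730, -134865430, 170113221, 4474344, 21585951, 96928318, -12844143, -6580323, 273834, -61483, 360696, 19185, -3366, 199, 1]))))) (.node (.node (.node (.node (.leaf []) (.leaf [-4270100, 920362, -13399192, -7114182, 8878688, 299893, 405168, 5192438, -229494, -798867,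 33788, -22350, 13738, -1470, 508, -30, 1])) (.node (.leaf []) (.leaf [-7691525, 2668693, -22788778, -11183278, 13846564, 485268, 1415670, 8258532, -1217480, -739550, 23234, -32268, 38448, 944, 84, 1]))) (.node (.node (.leaf []) (.leaf [-6639288, 1691608, -18560378, -8879128, 11158437, 325313, 1244807, 6415126, -748565, -563882, 24184, -13642, 23275, 447, -134, -1])) (.node (.leaf [0, 0, 1]) (.leaf [41886023, -10397679, 118169159, 57209723, -71811857, -2168836, -7512571, -41405171, 4369612, 4086399, -161850, 101008, -137513, -629, 30, 29])))) (.node (.node (.node (.leaf [-3520, 1383, -11998, -6426, 7848, 378, 361, 4796, -604, -603, 38, -26, 25, 1]) (.leaf [-1015430, 905578, -1075824, 664741, -724314, -180340, 797227, -563190, -825728, 892902, -36248, 45922, 16738, 4994, -1430, 91])) (.node (.leaf []) (.leaf [-3200, 245, -6763, -2582, 3455, 16, 894, 1703, -110, -42, 0, 2, -3, -1]))) (.node (.node (.leaf []) (.leaf [])) (.node (.leaf [51786216, -19358737, 180195566, 99055449, -121363361, -4915947, -4000968, -74263865,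 6619196, 11181373, -360082, 443002, -299228, 16351, -5910, 134, -7]) (.leaf [51967869, -9029902, 137588904, 64274138, -81921135, -1978537, -9919467, -45459233, 3671271, 4123977, -206172, 27857, -104018, -708, 1251, 65])))))))

def twoL51 : Janko.Tree (List ℤ) :=
  (.node (.node (.node (.node (.node (.node (.node (.leaf []) (.leaf [12, -1, 29, 12, -16, 0, -3, -8, 1, 1])) (.leaf [984, -96, 2499, 1135, -1492, -9, -189, -772, 23, 67, -5, 1])) (.node (.leaf []) (.leaf [-3969, 447, -9389, -3991, 5235, 54, 937, 2709, -191, -151, 10, 6, -1, 0, 1]))) (.node (.node (.leaf []) (.leaf [-65047177, 3819280, -151366297, -64200733, 84980913, 528235, 14262114, 42822564, -1573986, -2055812, 195714, 240366, -2038, 4606, -6934, 16, -1])) (.node (.leaf []) (.leaf [18326795, -2784250, 40106779, 15222400, -20059787, -194809, -5274620, -10201386, 1769971, -415715, -7227, -56216, -21510, -6481, 1631, -36, 3])))) (.node (.node (.node (.leaf []) (.leaf [])) (.node (.leaf [5372236, -556712, 12129136, 4900010, -6475250, -48828, -1363087,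 -3280005, 296572, 56548, -6224, -15806, -982, -892, 448, -7, 1]) (.leaf [16, 3, -959, -747, 1037, -49, -203, 483, 66, -89, 6, -4, -1, 1]))) (.node (.node (.leaf []) (.leaf [492775228, -62196520, 1241555712, 560321591, -723944425, -12555920, -99115298, -388268510, 25514046, 29137902, -1743966, -700691, -590094, -22533, 32841, 172, 1])) (.node (.leaf [-13626086, 3410373, -37936393, -18142278, 22798951, 668015, 2567154, 13112208, -1482082, -1193342, 46034, -28497, 44153, 774, -52, -5]) (.leaf [-65490, 19767, -182802, -85995, 107796, 3215, 13588, 62460, -9300, -4473, 118, -201, 255, 13, 1]))))) (.node (.node (.node (.node (.leaf []) (.leaf [8667482, 1324896, 14262184, 4011938, -6235551, 288264, -2599953, -1898508, -579909, -326370, -21738, -61296, 37917, -313, 567, 44, 1])) (.node (.leaf [-52042, 11808, -141879, -66944, 84796, 2070, 10099, 47944, -4946, -4234, 154, -94, 129, 1]) (.leaf [-514467, 129727, -1460402, -711183, 890760, 27467, 90459, 516572, -53734, -52676, 2061, -1433, 1697, 8, -1, -1]))) (.node (.node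 (.leaf []) (.leaf [-200583, 60597, -590387, -291857, 363093, 11914, 34194, 214098, -26095, -21261, 660, -599, 820, 16, -1])) (.node (.leaf []) (.leaf [-30310435, 12739090, -103017630, -55032785, 67243871, 2723049, 3342955, 41375580, -5263525, -5054959, 156508, -200057, 206304, -247, 323, 15, 3])))) (.node (.node (.node (.leaf [0, 0, -1, 0, 1]) (.leaf [-504, 54, -1248, -550, 729, 1, 106, 371, -15, -25, 1, -1])) (.node (.leaf []) (.leaf [-44384, 9159, -115938, -53212, 67591, 1652, 9489, 37895, -3912, -3249, 135, -53, 100, -1, -1]))) (.node (.node (.leaf []) (.leaf [1898898, -486270, 4988129, 2239538, -2832237, -73932, -427190, -1599003, 257349, 63452, -4620, -961, -7187, -610, 203, -5])) (.node (.leaf [8563913, -5631807, 26191384, 12062317, -14390470, -628792, -2312749, -9355103, 3204887, -156185, 25629, 23758, -93779, -8427, 1046, -74, -3]) (.leaf [97632, -22756, 266977, 126252, -159384, -4341, -18923, -90700, 9791, 8035, -294, 168, -265, -4, -1])))))) (.node (.node (.node (.node (.node (.leaf []) (.leaf []))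 (.node (.leaf [-661649828, 182954568, -1863652055, -892323876, 1117855419, 33696274, 126210508, 647792671, -82666715, -55050530, 2044670, -1410229, 2473376, 70368, -4815, 497, -7]) (.leaf [-60, 7, -145, -63, 84, 0, 13, 43, -2, -3]))) (.node (.node (.leaf [-2, 0, -6, -2, 3, 0, 1, 1]) (.leaf [-926144, 326050, -2726086, -1322239, 1636384, 54864, 171105, 974726, -162710, -63618, 2118, -542, 5239, 311, -136, 5])) (.node (.leaf [119177866, -13897898, 293626548, 129885892, -168653613, -2504973, -25028123, -89308901, 6034580, 5683674, -374932, -249228, -119083, -9724, 8722, -5, 1]) (.leaf [-16724387, 4321294, -46522929, -22162625, 27838621, 808983, 3204921, 16028681, -1927826, -1373403, 51758, -30600, 56895, 1498, -218, 3])))) (.node (.node (.node (.leaf []) (.leaf [5626, -289, 13199, 5663, -7512, -31, -1188, -3791, 63, 231, -19, -2, 5])) (.node (.leaf [3287, -411, 7746, 3257, -4293, 2, -783, -2218, 170, 80, -2, -4, 1]) (.leaf [-7762316, 1296329, -22829746, -11698686, 14732640, 458334, 945616, 8414447, -313749, -1211684,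 56174, -23057, 18030, -2052, 145, -35]))) (.node (.node (.leaf []) (.leaf [-611355, 149936, -1744469, -854063, 1073498, 30755, 105412, 618321, -57789, -67489, 2164, -1856, 1709, -30, 26, -1])) (.node (.leaf []) (.leaf [22809855, -6025080, 66361490, 32815752, -41042266, -1274094, -3757326, -23889218, 2446737, 2541320, -90079, 62811, -80783, 186, -154, 7]))))) (.node (.node (.node (.node (.leaf []) (.leaf [1536, -376, 3863, 1676, -2148, -80, -431, -1162, 178, 108, -4, 2, -3, 1])) (.node (.leaf []) (.leaf [939, -535, 2679, 1161, -1428, -44, -268, -876, 302, -47, 6, 9, -8]))) (.node (.node (.leaf []) (.leaf [])) (.node (.leaf []) (.leaf [-41619, 11010, -116901, -56084, 70504, 1875, 7835, 40636, -4683, -3670, 104, -94, 130, 3])))) (.node (.node (.node (.leaf [-1, 0, -2, -1, 1, 0, 0, 1]) (.leaf [28704211, -7365553, 79963234, 38251642, -48002777, -1549014, -5569405, -27673403, 3155924, 2727185, -113330, 99562, -92719, -701, -2136, 61, 1])) (.node (.leaf [103427, -25043, 286363, 136520, -172149, -4572, -19584, -98356,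 10581, 8955, -306, 203, -294, -4, -1]) (.leaf [-49586781, 9490601, -131289426, -61124590, 77608035, 2068025, 9816338, 43453322, -4035450, -3873640, 194438, -57536, 113174, 1532, -486, -92]))) (.node (.node (.leaf []) (.leaf [19032, -1756, 42722, 17401, -22919, -173, -4756, -11764, 801, 430, -26, -29, 9, 2, -1])) (.node (.leaf []) (.leaf [3404, -267, 7845, 3278, -4335, -34, -799, -2195, 110, 108, -10, -4, 1])))))))

def twoL52 : Janko.Tree (List ℤ) :=
  (.node (.node (.node (.node (.node (.node (.node (.leaf []) (.leaf [0, 1, -7, -5, 8, 0, -1, 3, 1, -1])) (.leaf [1])) (.node (.leaf [-109120941, 21027617, -287180749, -132732219, 168928509, 4106138, 22044745, 94151051, -9042008, -7825737, 356076, -84078, 233552, 5121, -726, -95, -3]) (.leaf [-27974095, 6215672, -63000093, -24083246, 31331502, 286451, 8337689, 16588111, -3750723, 924597, -54715, 67975, 54031, 11864, -2966, 112, -5]))) (.node (.node (.leaf []) (.leaf [-118, 21, -312, -143, 188, 0, 25, 98, -6, -9])) (.node (.leaf [46, -19, 136, 67, -82, 0, -8, -52,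 8, 3]) (.leaf [43, -6, 112, 51, -68, 0, -8, -34, 2, 2])))) (.node (.node (.node (.leaf [5941, -1700, 17962, 9045, -11281, -418, -912, -6581, 714, 748, -44, 28, -26, 1]) (.leaf [273, 43, 416, 137, -145, -62, -90, -94, -2, 38, -8, 1, -1])) (.node (.leaf [1]) (.leaf [904907, -274948, 2611166, 1259563, -1572812, -47648, -164275, -917604, 132484, 65001, -2370, 706, -4244, -261, 101, -3]))) (.node (.node (.leaf []) (.leaf [])) (.node (.leaf []) (.leaf [10, -6, 35, 19, -22, -1, -1, -15, 3, 1]))))) (.node (.node (.node (.node (.leaf [1]) (.leaf [199375, -103611, 584777, 273373, -336585, -7412, -51452, -207945, 47325, 10953, 1682, 1490, -751, -3, -86, -1])) (.node (.leaf [1909291, -404096, 5407166, 2663556, -3352139, -104966, -318713, -1921227, 137638, 242758, -10420, 8488, -4781, 399, -168, 9]) (.leaf [65, -9, 159, 70, -92, 0, -14, -48, 3, 3]))) (.node (.node (.leaf [-29459, 1530, -64031, -25104, 33995, -197, 7529, 16267, -642, -225, 43, 67, -45, 0, 1]) (.leaf [22364240, -8917739, 75244871, 40502736, -49247250, -2372830,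 -2566138, -30580061, 3411493, 4485782, -163988, 227585, -141027, 5815, -2241, 117, -1])) (.node (.leaf [22341, -7164, 72936, 38478, -48172, -1290, -2466, -28215, 2267, 3755, -46, 165, -75, 8, 1]) (.leaf [-4702935, 922374, -11713980, -5073822, 6535553, 101214, 1098460, 3539293, -481844, -98212, 6834, 7510, 10551, 1170, -470, 13])))) (.node (.node (.node (.leaf [1]) (.leaf [250, -2, 536, 214, -286, 2, -58, -142, 0, 4, -2])) (.node (.leaf [4551796, -1180826, 12490810, 5860703, -7375414, -208638, -913642, -4222334, 558200, 308290, -14346, 4762, -16490, -648, 220, -9]) (.leaf [-9510, 2080, -25315, -11722, 14878, 355, 1951, 8364, -914, -660, 28, -13, 23]))) (.node (.node (.leaf [3767276, -865881, 10232534, 4809313, -6068725, -173116, -739417, -3449585, 390900, 286693, -14338, 5354, -11801, -279, 136, 1]) (.leaf [-349536669, 40742642, -835067527, -358098979, 467031630, 6296768, 79701894, 244582264, -19149341, -12169098, 910204, 686281, 281009, 36126, -22771, -54, -13])) (.node (.leaf [937525965, -98955032, 2320651240,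 1035252948, -1345367116, -19162933, -189989101, -711012048, 40020454, 49319926, -3015412, -2316122, -753673, -54437, 87200, -569, 41]) (.leaf [1])))))) (.node (.node (.node (.node (.node (.leaf [1]) (.leaf [1])) (.node (.leaf []) (.leaf [171109147, -97139261, 646684016, 361387492, -433874434, -21872051, -14204497, -278055236, 39543716, 39287885, -1054114, 2180876, -1557848, 24446, -29974, 279, -11]))) (.node (.node (.leaf [1]) (.leaf [1])) (.node (.leaf [43432697, -15227924, 118291785, 53881950, -66894707, -2364262, -10495289, -39602071, 7776784, 2045988, -72826, 174986, -210441, -12534, -660, 74, -3]) (.leaf [4017032, -573481, 9559897, 4030177, -5229005, -83957, -955090, -2763412, 325370, 60722, -11404, -12579, -7137, -1076, 543, -7])))) (.node (.node (.node (.leaf [-113118, 27155, -302282, -139359, 176910, 3993, 24018, 99609, -12056, -7358, 211, -188, 274, 10, 1]) (.leaf [-216518, 47652, -582963, -273106, 345774, 8866, 42961, 195479, -20360, -16930, 610, -306, 518, 6, 3])) (.node (.leaf [-491, -34, -1015, -420,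 537, 47, 116, 278, 13, -49, 6, -1]) (.leaf [-3283, 492, -6856, -2453, 3250, -5, 951, 1665, -326, 195, -19, 4, -2, 0, 1]))) (.node (.node (.leaf []) (.leaf [4536820, -897614, 12155287, 5702577, -7233894, -188164, -873263, -4061511, 380862, 360810, -16596, 3518, -10795, -191, 96, 3])) (.node (.leaf [481411, -117038, 1371281, 671304, -843892, -24093, -83133, -486003, 44602, 53600, -1572, 1392, -1266, 16, -24, 1]) (.leaf [1]))))) (.node (.node (.node (.node (.leaf []) (.leaf [3049835, -689951, 8325663, 3934856, -4966081, -140628, -584677, -2822281, 305153, 244571, -11970, 4422, -9403, -171, 100, 1])) (.node (.leaf []) (.leaf [1305, -575, 4268, 2214, -2717, -98, -197, -1663, 238, 187, 0, 9, -8]))) (.node (.node (.leaf [97489, -24888, 272719, 130785, -164407, -4621, -18275, -94617, 10610, 8727, -277, 209, -301, -4, -1]) (.leaf [201, -261, 1014, 564, -722, 39, -21, -429, 92, 19, 10, -1])) (.node (.leaf [1127, -76, 2681, 1162, -1524, -23, -235, -785, 31, 48, -5, 0, -1]) (.leaf [-160820680, 22870876, -366496968, -145543150,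 192181424, 501096, 41800911, 97587456, -14232913, 3254457, 39186, 798528, 210313, 61235, -23547, 753, -3])))) (.node (.node (.node (.leaf [1]) (.leaf [-28541, 6139, -77130, -36201, 45982, 1068, 5570, 25822, -2562, -2237, 90, -44, 61, 2])) (.node (.leaf [-47, 13, -133, -65, 80, 0, 7, 50, -5, -3]) (.leaf [2094, -256, 4628, 1812, -2396, -28, -577, -1209, 144, 7, 0, -6, 1]))) (.node (.node (.leaf [-263, -34, 530, 596, -850, 76, 270, -384, -62, 76, -2, 4, 2, -1]) (.leaf [1])) (.node (.leaf []) (.leaf [-240776132, 67549364, -691094054, -335650034, 419768566, 12837026, 43153778, 244273909, -29961380, -21993186, 855308, -565377, 958609, 22625, -4484, 40, 13])))))))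

def twoL53 : Janko.Tree (List ℤ) :=
  (.node (.node (.node (.node (.node (.node (.node (.leaf []) (.leaf [6, 0, 11, 4, -4, 0, -2, -3, 1])) (.leaf [-69353184, 23479320, -203597089, -100109551, 123615997, 4851349, 13184173, 74156716, -10219014, -7861285, 233568, -409294, 307527, -522, 6351, -127, -5])) (.node (.leaf [-99527, 22701, -269064, -126111, 159898, 3682, 20044, 90205, -9521, -7909, 268, -110, 239, 8, 7]) (.leaf [-30219, 1936, -66590, -26421, 35606, -129, 7667, 17258, -823, -331, 46, 59, -41, 0, 1]))) (.node (.node (.leaf []) (.leaf [30243162, -7361344, 84131948, 40110908, -50584616, -1321367, -5599120, -28849138, 3277598, 2373279, -97497, 23606, -100429, -3008, 1246, -44, -1])) (.node (.leaf []) (.leaf [])))) (.node (.node (.node (.leaf []) (.leaf [0, 1])) (.node (.leaf [-17783, 1662, -39734, -16107, 21213, 159, 4489, 10894, -767, -376, 20, 28, -9, -2, 1]) (.leaf [0, 1]))) (.node (.node (.leaf []) (.leaf [-6, 2, -14, -6, 8, 1, 2, 3, -1])) (.node (.leaf []) (.leaf [0, 1]))))) (.node (.node (.node (.node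 (.leaf []) (.leaf [0, 1])) (.node (.leaf [-14739250, 3200675, -40059430, -18923438, 23907875, 664095, 2812387, 13553959, -1392511, -1200369, 58401, -19010, 42240, 771, -194, -13]) (.leaf [0, 1]))) (.node (.node (.leaf [0, 1]) (.leaf [-3704838, 93608, -7309939, -2554623, 3535214, -38645, 1072468, 1580214, -88349, 91037, -376, 19113, -6113, 657, -333, 5, -1])) (.node (.leaf [0, 1]) (.leaf [-1702611, 451419, -4518521, -2040707, 2576634, 67713, 377191, 1460668, -239558, -56710, 4247, 854, 6906, 576, -209, 5])))) (.node (.node (.node (.leaf []) (.leaf [56, 17, 100, 31, -52, 3, -17, -11, -9, 3, -2])) (.node (.leaf []) (.leaf [0, 1]))) (.node (.node (.leaf []) (.leaf [-891928, 235362, -2510600, -1205062, 1511968, 46115, 167424, 872016, -104658, -78255, 3385, -1976, 3315, 70, -19])) (.node (.leaf [-241521465, 82347364, -724989058, -361669616, 446669254, 17123062, 42333987, 267824963, -35427979, -29003409, 970352, -1370626, 1150163, -683, 19872, -417, -1]) (.leaf [-5610111, 528251, -13047525, -5498879, 7219723, 78973,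 1316696, 3721518, -228841, -194391, 11324, 11375, 83, 225, -315, 1, -1])))))) (.node (.node (.node (.node (.node (.leaf []) (.leaf [440692, -105512, 1141305, 509483, -647527, -14747, -101130, -361982, 53292, 17086, -748, -321, -1273, -116, 1, -1])) (.node (.leaf [-24462, 5689, -67599, -32243, 40796, 955, 4587, 23167, -2283, -2175, 73, -55, 61, 3]) (.leaf [0, 1]))) (.node (.node (.leaf []) (.leaf [8923110, -2286952, 25467353, 12430616, -15582084, -462188, -1553729, -9026219, 939300, 915670, -30710, 22900, -29347, 46, -84, 5])) (.node (.leaf []) (.leaf [2032331, 4790275, -16219590, -14997652, 16626051, 1431770, -3414072, 12696498, -1457206, -3205303, 71404, -174711, 99598, -6060, 2346, -8, 3])))) (.node (.node (.node (.leaf [189, -50, 451, 179, -236, -5, -61, -121, 25, 4, 1]) (.leaf [0, 1])) (.node (.leaf [0, 1]) (.leaf [0, 1]))) (.node (.node (.leaf [-1659, 213, -4136, -1827, 2395, 29, 372, 1239, -81, -101, 11, -1, 1]) (.leaf [-1, -1, -1, 0, 1, -1, 0, 0, 1])) (.node (.leaf [0, 1]) (.leaf [-1511, 75, -3493, -1477,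 1950, 21, 328, 988, -32, -49, 7, 2]))))) (.node (.node (.node (.node (.leaf [0, 1]) (.leaf [-1608354, 489109, -4093914, -1745639, 2198331, 58371, 416595, 1251865, -289279, 15472, 1273, 2910, 7712, 869, -240, 9])) (.node (.leaf [5062773, -520107, 11231380, 4438270, -5886040, -34713, -1325733, -2951860, 299190, 139, -4197, -17682, -916, -1070, 492, -10, 1]) (.leaf [-1402, 35, -3206, -1349, 1790, 16, 295, 894, -16, -38, 8, 2]))) (.node (.node (.leaf [-1473, 84, -3420, -1452, 1920, 11, 322, 974, -29, -53, 7, 1]) (.leaf [199, -261, 1008, 559, -717, 38, -22, -425, 92, 19, 10])) (.node (.leaf [12790, -1599, 31348, 13667, -17969, -86, -2831, -9310, 589, 557, -24, -1, 2, 0, -1]) (.leaf [13992790, -3553978, 38660296, 18340665, -23053317, -674580, -2726345, -13249059, 1584701, 1139230, -45330, 28436, -46499, -1045, 104, 5])))) (.node (.node (.node (.leaf []) (.leaf [-2943, 7350, -29943, -19407, 23160, 1140, -1474, 14923, -3617, -1623, 292, -230, 257, -5, -7])) (.node (.leaf [0, 1]) (.leaf [-22989, 3744, -53409, -22175,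 28463, 753, 5991, 15456, -1966, -669, 26, 13, 24, 4, 1]))) (.node (.node (.leaf []) (.leaf [-60079979, 15178822, -171435292, -83714581, 104953543, 3215773, 10446733, 60711268, -6239134, -6268932, 238396, -162758, 199136, -180, 1126, -58])) (.node (.leaf [298398547, -18550897, 707264877, 305701905, -402924394, -3205733, -62704476, -205314370, 6994308, 11791969, -959742, -1072140, -20623, -19762, 30215, 3, -1]) (.leaf [0, 1])))))))

def twoL54 : Janko.Tree (List ℤ) :=
  (.node (.node (.node (.node (.node (.node (.node (.leaf []) (.leaf [6, 0, 13, 5, -6, 0, -2, -3, 1])) (.leaf [41662806, 1531351, 91705123, 37867288, -51372819, 147304, -8791938, -24181768, -1091135, 1236751, -164168, -239644, 62159, -250, 6151, 27])) (.node (.leaf [3129697, -813121, 8527183, 3977873, -5002713, -142761, -637844, -2868165, 391678, 195678, -8605, 2542, -11307, -558, 143, -5]) (.leaf [-330734, 80273, -924647, -442977, 558164, 15775, 61029, 318578, -35110, -28764, 1495, -619, 1170, 19, 7]))) (.node (.node (.leaf [0, 0, 1]) (.leaf [0,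 0, 1])) (.node (.leaf [0, 0, 1]) (.leaf [0, 0, 1])))) (.node (.node (.node (.leaf [0, 0, 1]) (.leaf [110, -40, 253, 106, -114, -26, -42, -83, 28, 15, -2, 0, -1])) (.node (.leaf [37, 29, -244, -228, 280, 12, -62, 169, 2, -50, 4, -2, 1]) (.leaf []))) (.node (.node (.leaf []) (.leaf [0, 0, 1])) (.node (.leaf [0, 0, 1]) (.leaf [3654908, -849796, 9995538, 4724697, -5957523, -169831, -705217, -3394213, 377268, 292287, -13598, 5612, -11435, -226, 105, 1]))))) (.node (.node (.node (.node (.leaf []) (.leaf [603606, -216316, 1659080, 760557, -948715, -25204, -143490, -559713, 104529, 29517, 568, 2138, -2358, -93, -54, -1])) (.node (.leaf []) (.leaf [-18728597, 3948245, -49753381, -22847250, 29149030, 548696, 3735951, 16160574, -1906535, -885438, 41509, 34846, 52696, 4136, -1954, 69]))) (.node (.node (.leaf []) (.leaf [44018319, -10570401, 122306299, 58830297, -73743803, -2467696, -8260079, -42600133, 4392404, 4483494, -198877, 153602, -138315, 1950, -731, 121, 1])) (.node (.leaf []) (.leaf [-7942134, 1717617, -21299404,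 -9949019, 12614351, 306652, 1580809, 7110145, -732913, -600665, 21324, -9725, 18981, 278, 23, -3])))) (.node (.node (.node (.leaf [-3, 0, -4, -1, 1, 0, 1, 1]) (.leaf [0, 0, 1])) (.node (.leaf [338995, -69183, 935743, 452059, -569480, -17736, -60362, -324970, 26384, 36663, -1724, 916, -878, 34, -10, 1]) (.leaf [-11024, 2153, -28770, -13191, 16797, 408, 2300, 9353, -938, -754, 36, -13, 23]))) (.node (.node (.leaf [-2411122, 671561, -7049522, -3478973, 4344263, 138840, 401202, 2535473, -288012, -251623, 9768, -5956, 9761, 170, -70, 1]) (.leaf [-142141596, 41408562, -401777590, -191966619, 240146327, 7230462, 27518310, 139654336, -19203955, -11041874, 388438, -265775, 571669, 20213, -3253, 274, -3])) (.node (.leaf [0, 0, 1]) (.leaf [-766909475, 114081436, -1876205622, -812797555, 1053652529, 15048266, 173105419, 560582960, -57253877, -22558073, 1709386, 1747116, 1167119, 138000, -72557, 1130, -13])))))) (.node (.node (.node (.node (.node (.leaf []) (.leaf [-9930595, 1546234, -25430829, -11556374, 14833712, 309955,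 2024241, 8083661, -670124, -615052, 36926, 4262, 17320, 650, -287, -11])) (.node (.leaf []) (.leaf [-1360631806, 198250426, -3328770131, -1447061830, 1873813737, 29559425, 306348893, 999482483, -96505950, -47902938, 3322858, 2380944, 1911937, 200346, -107626, 731, -33]))) (.node (.node (.leaf [21495, -2854, 51754, 22223, -29114, -341, -5117, -15139, 1142, 989, -39, 4, -6, 0, -1]) (.leaf [33611, 40703, 450088, 396561, -488845, -23199, 86516, -298585, -78113, 133812, -4348, 6412, 1198, 676, -213, 9])) (.node (.leaf [-1386932150, 262522697, -3638732921, -1677233098, 2136832675, 50757740, 280604518, 1187585405, -114248322, -95535353, 4557340, -641684, 2989842, 77534, -34478, -597, -41]) (.leaf [0, 0, 1])))) (.node (.node (.node (.leaf [0, 0, 1]) (.leaf [-25110181, 3453092, -65795881, -30564529, 39308249, 761228, 4570901, 21300791, -1413442, -1731564, 113895, 37461, 45569, 1492, -2087, 21])) (.node (.leaf [179, -100, 641, 310, -427, 37, -26, -212, 35, -13, 4, -1]) (.leaf [-500, 277, -807, -88, 92, -3, 230, 97, -214,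 198, -21, -2, 0, 0, 1]))) (.node (.node (.leaf []) (.leaf [0, 0, 1])) (.node (.leaf [-2, -1, -7, -5, 6, 0, -1, 4, 1, -1]) (.leaf [1003, -61, 2114, 826, -1069, -55, -283, -550, 43, 45, -6, -1, -1]))))) (.node (.node (.node (.node (.leaf []) (.leaf [1004, -113, 2295, 945, -1232, -38, -266, -636, 57, 46, -4, 0, -1])) (.node (.leaf [0, 0, 1]) (.leaf [3468, -764, 9559, 4571, -5788, -150, -647, -3276, 292, 338, -10, 10, -8]))) (.node (.node (.leaf [0, 0, 1]) (.leaf [-668130, 102419, -1780480, -848615, 1077361, 30893, 120514, 603127, -33665, -71331, 3560, -1439, 1039, -116, 35, -3])) (.node (.leaf [477, -57, 1148, 496, -648, -9, -110, -339, 22, 24, -1]) (.leaf [0, 0, 1])))) (.node (.node (.node (.leaf [7832, -754, 17776, 7285, -9640, -36, -1948, -4903, 313, 195, -8, -10, 6, 0, -1]) (.leaf [0, 0, 1])) (.node (.leaf [-2194, 509, -4903, -1818, 2414, -83, 587, 1273, -302, 230, -33, 6, 0, 0, 1]) (.leaf [-304658, 69289, -808758, -373575, 473254, 11342, 63589, 267444, -30701, -20436, 372, -103, 646, 42, 11]))) (.node (.node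 (.leaf [15610, -5203, 45724, 22402, -27778, -882, -2889, -16550, 2286, 1538, -26, 46, -65, -3]) (.leaf [])) (.node (.leaf [-408907790, 139944078, -1222274059, -606681380, 749680320, 27996184, 72444785, 448953082, -61649026, -45548148, 1464625, -2014734, 1977665, 21920, 14387, -277, -7]) (.leaf [19169, -1775, 44915, 18950, -25277, 91, -4490, -12695, 468, 727, -4, 2, 26, 2, -1])))))))

def twoL55 : Janko.Tree (List ℤ) :=
  (.node (.node (.node (.node (.node (.node (.node (.leaf []) (.leaf [0, 1, -5, -4, 6, 0, -1, 3, 1, -1])) (.leaf [-14614298, -6258265, -3987784, 10261452, -8692306, -2346950, 7217518, -10890380, 1530273, 5090211, -115642, 419174, -134631, 15430, -9080, 188, -3])) (.node (.leaf []) (.leaf [2, 0, 2, 1, -1, 0, 0, -1]))) (.node (.node (.leaf []) (.leaf [13993101, -3554041, 38661066, 18340993, -23053753, -674582, -2726432, -13249278, 1584724, 1139249, -45330, 28436, -46499, -1045, 104, 5])) (.node (.leaf []) (.leaf [122964, -24467, 259776, 90273, -120499, 675, -39927, -59344, 17032, -8776, 177, -798,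 -247, -80, -3, -1])))) (.node (.node (.node (.leaf []) (.leaf [-4267402, 972336, -11945687, -5773314, 7274576, 207169, 755967, 4156634, -394096, -420478, 17968, -9722, 12706, -115, -14, -5])) (.node (.leaf [26144, -6055, 70677, 33129, -41907, -1057, -5255, -23767, 2584, 2055, -66, 44, -67, 1]) (.leaf [596, -238, 1495, 631, -791, -5, -187, -471, 107, 16, 8, -1, 1, 0, -1]))) (.node (.node (.leaf []) (.leaf [])) (.node (.leaf [85161149, -7290681, 206508972, 90805585, -118764898, -1397547, -17664091, -61752841, 2794846, 4133849, -290666, -214819, -38933, -2877, 7284, 20, 1]) (.leaf [79477656, -20737114, 227386388, 111347531, -139026190, -4757707, -13956084, -81116844, 8594251, 8737993, -364784, 291624, -286544, 3471, 523, 141, 3]))))) (.node (.node (.node (.node (.leaf []) (.leaf [-3009, 285, -6730, -2734, 3590, 32, 750, 1858, -136, -58, 3, 4, -1])) (.node (.leaf [2862, -284, 6402, 2600, -3410, -31, -719, -1770, 134, 57, -2, -4, 1]) (.leaf [-35707694, 8869396, -98766117, -46980456, 59074260, 1748717, 6869591, 33908570,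 -3903556, -3024426, 126983, -78534, 116936, 2047, -192, -25]))) (.node (.node (.leaf [20992, -4903, 56568, 26296, -33415, -859, -4431, -18694, 2118, 1637, -67, 41, -60, -2, 1]) (.leaf [-18196, 3899, -48074, -22228, 28169, 701, 3763, 15899, -1683, -1312, 45, -27, 42])) (.node (.leaf [23661, -4607, 61190, 27784, -35464, -907, -5187, -19578, 2038, 1621, -93, 26, -51, -2, 1]) (.leaf [137538, -47041, 414644, 207268, -255815, -9214, -22906, -153659, 20900, 14978, -310, 364, -639, -28, 4])))) (.node (.node (.node (.leaf []) (.leaf [-379327974, 84186139, -999193356, -457061809, 580130723, 14285011, 80420109, 325504481, -39465462, -22109143, 1002725, -219510, 1025633, 49899, -11670, 203, -9])) (.node (.leaf [0, 0, -2, 0, 1]) (.leaf [-482915, 117533, -1333332, -634595, 799168, 21993, 92248, 457767, -50358, -41294, 1408, -871, 1402, 20, 4]))) (.node (.node (.leaf []) (.leaf [])) (.node (.leaf []) (.leaf [-1009144787, 165262194, -2503078716, -1095734827, 1413926493, 23422530, 226076046, 761141917, -81544687, -35155690, 2275388,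 1707920, 1749654, 172023, -78617, 1330, -25])))))) (.node (.node (.node (.node (.node (.leaf []) (.leaf [])) (.node (.leaf [12, 8, 20, 10, -9, -1, 4, -10, -3, -2]) (.leaf [-15093524, -6487195, 7348165, 20169540, -20848171, -2492273, 10373806, -18300903, 1296712, 6286705, -167690, 310964, -182994, 14133, -2088, -32, -7]))) (.node (.node (.leaf []) (.leaf [-26162754, 6845118, -67462829, -29521663, 37551780, 739241, 6190168, 20947926, -3791856, -254119, 26140, 54188, 99024, 10756, -3170, 131, 1])) (.node (.leaf []) (.leaf [103933, -14264, 247481, 103216, -133700, -3245, -24849, -69925, 10079, 226, -982, -264, -409, -33, 13])))) (.node (.node (.node (.leaf []) (.leaf [-971773, 176814, -2717508, -1346608, 1694684, 55636, 159792, 972136, -45984, -142477, 5534, -5428, 1435, -367, 178, -7])) (.node (.leaf [-10839165, -2662100, -13951833, -1711408, 4256602, -871194, 3725003, -470591, 1003601, 1327635, -7899, 142617, -66176, 2304, -2410, 18, -1]) (.leaf [-95005, 38182, -235325, -94122, 117955, 1762, 29016, 68901, -22723,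 5822, -790, 449, 359, 92, 1, 1]))) (.node (.node (.leaf []) (.leaf [-225377, 34847, -599703, -284962, 362823, 9441, 41129, 202100, -11048, -23557, 1016, -492, 290, -38, 14, -1])) (.node (.leaf [148205388, -14655863, 362909378, 159900306, -208817597, -2252072, -30442362, -109025227, 6361506, 6144483, -446798, -490557, -119280, -15635, 17311, -191, -1]) (.leaf [-189320, 48671, -537211, -260224, 328043, 8410, 34387, 187969, -19335, -18809, 446, -515, 517, -2, 9]))))) (.node (.node (.node (.node (.leaf []) (.leaf [-254, -39, -646, -302, 422, -19, 15, 192, 30, -5, 2, 0, -1])) (.node (.leaf []) (.leaf [-21806, 2737, -52292, -22420, 29389, 380, 5189, 15233, -1095, -1024, 46, -3, 8, 0, 1]))) (.node (.node (.leaf []) (.leaf [316, -521, 2412, 1587, -1944, 26, 120, -1248, 148, 181, 6, 4, -2])) (.node (.leaf [152, -35, 410, 187, -242, -5, -32, -130, 15, 8, 1]) (.leaf [45999727, 18448570, 22456618, -22886032, 17221225, 5559146, -21257254, 26267562, -5391349, -12055913, 157990, -961129, 396006, -30706, 20629, -102, 11]))))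 (.node (.node (.node (.leaf []) (.leaf [1625230, -409191, 4560603, 2192500, -2753479, -82618, -299041, -1585227, 177964, 146468, -6367, 3852, -5595, -77, 18, 1])) (.node (.leaf []) (.leaf [-876, -9, -1942, -806, 1093, -16, 186, 528, 26, -31, 2, 0, -1]))) (.node (.node (.leaf []) (.leaf [-113506198, 28041974, -309926194, -145466793, 183403652, 5003463, 22599181, 104613682, -12869983, -8076169, 336754, -132986, 368055, 13474, -2494, 96, -1])) (.node (.leaf [4348, -318, 9724, 3976, -5222, -75, -1066, -2677, 159, 120, -16, -7]) (.leaf [23500, -4407, 59793, 26820, -34290, -859, -5296, -18845, 1990, 1465, -78, 11, -45, -2])))))))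

def twoL56 : Janko.Tree (List ℤ) :=
  (.node (.node (.node (.node (.node (.node (.node (.leaf [1]) (.leaf [-40, 15, -116, -59, 72, 2, 5, 46, -5, -3, -1])) (.leaf [145624, -26850, 377282, 172392, -220594, -4456, -30507, -121702, 10952, 10031, -316, 114, -211, 2, -7])) (.node (.leaf [-24680, 5416, -66010, -30777, 39005, 943, 4971, 22037, -2280, -1875, 55, -45, 59, 0, -1]) (.leaf [1]))) (.node (.node (.leaf []) (.leaf [1])) (.node (.leaf []) (.leaf [-24591811, 4576027, -66212577, -31243168, 39737652, 960631, 4544989, 22177763, -1869394, -2018251, 96278, -13106, 55922, 600, -935, -15])))) (.node (.node (.node (.leaf [583689, -143169, 1632342, 786377, -986379, -30834, -107138, -569371, 60820, 55943, -2294, 1444, -1869, -10, -6, 1]) (.leaf [-4349, 586, -10090, -4295, 5437, 235, 1093, 3020, -310, -249, 18, 2, 8, -3])) (.node (.leaf [-22, 36, -392, -293, 368, 12, -49, 211, 0, -53, 4, -2, 1]) (.leaf []))) (.node (.node (.leaf [1]) (.leaf [1])) (.node (.leaf [3086, -150, 7019, 2921, -3874, -30, -697, -1942, 66, 83, -12,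 -6, 1]) (.leaf [20203, -2711, 48628, 20880, -27338, -363, -4854, -14219, 1083, 981, -36, 5, -8, 0, -1]))))) (.node (.node (.node (.node (.leaf []) (.leaf [2860, -647, 8436, 4214, -5344, -137, -431, -3009, 222, 360, -16, 11, -10])) (.node (.leaf [-5985, 623, -14150, -6015, 7926, 58, 1396, 4063, -247, -227, 14, 6, -2, 0, 1]) (.leaf [-4091, 1446, -13462, -7088, 8726, 381, 478, 5239, -618, -644, 40, -26, 25, 1]))) (.node (.node (.leaf [159, -77, 612, 327, -425, -10, -31, -222, 26, 44, -6, 2, -1]) (.leaf [13959, -3819, 40408, 19779, -24719, -907, -2462, -14340, 1686, 1460, -69, 43, -51, -2, -1])) (.node (.leaf []) (.leaf [154039, -32924, 413122, 193406, -244984, -6080, -30342, -138422, 13927, 11926, -386, 163, -324, -9, -3])))) (.node (.node (.node (.leaf []) (.leaf [1])) (.node (.leaf [622277853, -155345258, 1738547250, 833687152, -1047605786, -30707742, -115560053, -602517475, 67373166, 55149785, -2162898, 1253933, -2041665, -36326, 8143, 189, 3]) (.leaf [43546138, -13686079, 146182213, 79384451, -97755997, -3862790,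 -3509516, -58967427, 4615348, 8677861, -338744, 274593, -227400, 10018, -2064, 149, -7]))) (.node (.node (.leaf [-51208962, 11369666, -146631685, -72470406, 90876599, 2995183, 8160804, 52397892, -4414094, -5993345, 281104, -134378, 166945, -2472, -1794, -123, -1]) (.leaf [1])) (.node (.leaf [68821819, -15356142, 187699303, 88549734, -112026712, -2882757, -13107077, -63356642, 6797101, 5214756, -234402, 47794, -201927, -5920, 2564, -44, -1]) (.leaf [7658399, -936014, 20957164, 10243350, -13084330, -312406, -1162626, -7224634, 206571, 917576, -45796, 9349, -9624, 1514, 95, 31])))))) (.node (.node (.node (.node (.node (.leaf []) (.leaf [])) (.node (.leaf [100, -51, 245, 100, -120, -2, -33, -81, 24, -1, 2, 1]) (.leaf [1]))) (.node (.node (.leaf [20929, -3413, 52008, 22854, -29692, -441, -4871, -15781, 1368, 1166, -35, 20, -16, 0, -1]) (.leaf [828087, -212377, 2650966, 1416333, -1758619, -62781, -79106, -1041495, 60847, 158072, -4554, 3574, -2592, 162, -29, 1])) (.node (.leaf []) (.leaf [-1137, -621, 2679, 3358, -3831,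 -270, 1196, -2800, -80, 968, -22, 67, -9, 2, 1])))) (.node (.node (.node (.leaf []) (.leaf [-98988391, 11179345, -241627361, -105747551, 137777012, 1687466, 21082477, 72352590, -5130090, -3809627, 281932, 280040, 98409, 11989, -9720, 82, 1])) (.node (.leaf [-23113525, -14547580, -45516623, -21500749, 31899681, -947119, 829528, 11391842, 9180826, -3849216, 326596, 292976, -242107, -23094, -7236, -307, 5]) (.leaf [-8548375, -14167419, 9027094, 12379234, -10353388, -2694970, 2755018, -13269720, 6767707, 2619371, 33470, 452640, -246455, -1722, -9088, 14, 1]))) (.node (.node (.leaf [1]) (.leaf [-2955, 266, -6894, -2926, 3836, 38, 681, 1991, -103, -120, 10, 1])) (.node (.leaf [11, -1, 24, 10, -14, 0, -3, -6, 0, 1]) (.leaf [114454807, -39143588, 318037425, 147530547, -183655747, -5857371, -25681271, -108119660, 19612566, 6046783, -153296, 284088, -535061, -30504, 1398, -280, 5]))))) (.node (.node (.node (.node (.leaf []) (.leaf [1])) (.node (.leaf [-6595009, 1060437, -17575062, -8301563, 10582168, 264059, 1206975, 5869037,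 -390602, -603261, 31624, -7778, 12475, -510, -92, -15]) (.leaf [1]))) (.node (.node (.leaf []) (.leaf [55284666, -16406464, 158349619, 76217870, -95331557, -2783394, -10283086, -55466153, 7652342, 4273976, -150150, 71352, -234086, -9876, 1528, -175, -1])) (.node (.leaf [-13, 13, -56, -28, 36, 0, 4, 20, -6, -1]) (.leaf [1099, -261, 3229, 1619, -2051, -46, -170, -1169, 74, 152, -2, 6, -1, 1])))) (.node (.node (.node (.leaf []) (.leaf [17427857, -3100375, 46396174, 21728774, -27690937, -646361, -3284893, -15377712, 1273855, 1358282, -65124, 2916, -36110, -600, 631, 7])) (.node (.leaf []) (.leaf [1]))) (.node (.node (.leaf []) (.leaf [-1882404, 2309976, -10650663, -6692022, 7727634, 535122, -187973, 5390354, -984318, -854347, 23420, -56632, 43179, -327, 565, -1, 1])) (.node (.leaf [1]) (.leaf [-14145058, 5311160, -43421385, -21812044, 26831725, 1037234, 2413719, 16243210, -2369464, -1639606, 49556, -74001, 78207, 1139, 410, 3])))))))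

def twoL57 : Janko.Tree (List ℤ) :=
  (.node (.node (.node (.node (.node (.node (.node (.leaf []) (.leaf [-202, 10, -472, -200, 267, 1, 42, 133, -3, -5, 1])) (.leaf [-17302, 4518, -45540, -20642, 26014, 736, 3940, 14857, -2191, -924, 28, -31, 61, 2, -1])) (.node (.leaf [-97790, 24437, -272552, -130550, 164203, 4583, 18352, 94365, -10359, -8763, 281, -197, 292, 4, 1]) (.leaf [-245785, 52562, -641637, -293111, 372752, 7894, 52285, 208973, -23086, -15051, 146, 22, 410, 34, 11]))) (.node (.node (.leaf []) (.leaf [-18254638, 6564591, -64293454, -35818455, 43721273, 1963204, 1109614, 26914918, -2158535, -4312244, 159654, -165038, 108726, -6131, 1828, -98, 3])) (.node (.leaf [0, 1]) (.leaf [0, 1])))) (.node (.node (.node (.leaf []) (.leaf [38788, -8355, 101446, 46421, -59035, -1277, -8322, -33104, 3571, 2595, -62, 49, -77, -4, -1])) (.node (.leaf [-13665549, 2859564, -38996510, -19191548, 24213408, 668375, 2131949, 13777772, -1101995, -1465864, 66984, -15786, 40982, -228, -732, 1]) (.leaf []))) (.node (.node (.leaf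 []) (.leaf [])) (.node (.leaf [0, 1]) (.leaf [0, 1]))))) (.node (.node (.node (.node (.leaf [0, 1]) (.leaf [558, -23, 1324, 577, -767, 3, -110, -388, 0, 25, -2])) (.node (.leaf [3025, -313, 6782, 2755, -3610, -37, -766, -1878, 149, 64, -2, -4, 1]) (.leaf [-2275939, 514089, -6031238, -2764265, 3507630, 84654, 475159, 1968428, -247197, -123153, 6180, -97, 6903, 380, -134, 3]))) (.node (.node (.leaf [19057, -4720, 52838, 25175, -31691, -1086, -3833, -18057, 2029, 1903, -106, 59, -66, -2, 3]) (.leaf [0, 1])) (.node (.leaf [11087, -2184, 28960, 13281, -16909, -409, -2316, -9421, 951, 759, -35, 13, -23]) (.leaf [-4505, 470, -10478, -4410, 5783, 54, 1074, 3002, -194, -162, 10, 4, -1])))) (.node (.node (.node (.leaf [0, 1]) (.leaf [107827, -26086, 298564, 142465, -179520, -4845, -20357, -102730, 11008, 9430, -310, 206, -304, -4, -1])) (.node (.leaf [25302, -10125, 82135, 41959, -51582, -2184, -3581, -30990, 5109, 2602, -268, 131, -242, -12, 3]) (.leaf [-1343340, -429530, -1591301, -164476, 473917, -99087, 462878, -95454,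 211450, 95256, -2640, 14283, -12590, -222, -116, -1, -1]))) (.node (.node (.leaf [0, 1]) (.leaf [])) (.node (.leaf [43662003, -23573326, 156169612, 84396961, -101812306, -4740446, -5097231, -64536950, 10283671, 7707634, -196477, 409320, -379313, -2384, -3750, -74, -3]) (.leaf [-37528856, 7905817, -101753452, -48092877, 60863961, 1648211, 7169996, 34394579, -3293544, -3221303, 145440, -66931, 97159, 98, 124, -61])))))) (.node (.node (.node (.node (.node (.leaf [0, 1]) (.leaf [-102, -1, -242, -104, 142, -1, 20, 66, 2, -4, 1])) (.node (.leaf [0, 1]) (.leaf [74818, -17228, 203675, 95994, -121430, -3013, -14621, -68881, 7291, 6005, -207, 131, -193, -5]))) (.node (.node (.leaf []) (.leaf [15325328, -4005174, 42740156, 20394064, -25602136, -750493, -2930447, -14764215, 1780625, 1279585, -47229, 30784, -52553, -1284, 138, -1])) (.node (.leaf [0, 1]) (.leaf [-1150, 168, -2697, -1130, 1471, 28, 297, 773, -77, -47, 2, 1])))) (.node (.node (.node (.leaf []) (.leaf [88175810, -208270, 196151529, 80833765, -108771120, 11115,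 -19459165, -52419433, -362240, 2249506, -282392, -437196, 88368, -3999, 11450, 37, 1])) (.node (.leaf []) (.leaf [12909649, -13082773, 55458352, 31290162, -36192537, -2499887, -1829293, -25228331, 6031183, 3172436, -41211, 323728, -205690, -1220, -5760, 35]))) (.node (.node (.leaf []) (.leaf [0, 1])) (.node (.leaf []) (.leaf [-229280787, 38407747, -604700323, -281537873, 359774323, 7816586, 43537249, 198498921, -15684806, -17024572, 830782, 47224, 434273, 7568, -10186, -62, 1]))))) (.node (.node (.node (.node (.leaf []) (.leaf [-15982265, 3365469, -40384604, -17756133, 22759960, 377552, 3693472, 12504467, -1657949, -517751, 11167, 18468, 32696, 2956, -696, 56, -1])) (.node (.leaf []) (.leaf []))) (.node (.node (.leaf [-659, 53, -1541, -651, 862, 4, 149, 437, -21, -21, 3]) (.leaf [1491, -182, 3818, 1739, -2261, -31, -294, -1195, 63, 103, -8, 1, -2, -1])) (.node (.leaf [-8177850, 2398264, -23864696, -11735024, 14633525, 464723, 1419271, 8582837, -1027706, -843849, 27065, -25228, 32663, 388, -32, 1]) (.leaf [886751647,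 -133747467, 2164364665, 935419884, -1212191303, -17858549, -202324524, -645496056, 67114349, 26105358, -1926240, -1847411, -1331427, -155955, 75909, -1155, 25])))) (.node (.node (.node (.leaf []) (.leaf [-98311, 25320, -276532, -133189, 167322, 4671, 18125, 96487, -10685, -9049, 272, -212, 305, 4, 1])) (.node (.leaf []) (.leaf [1674, -133, 3828, 1576, -2093, -10, -393, -1053, 60, 29, -4, 1]))) (.node (.node (.leaf [0, 1]) (.leaf [0, 1])) (.node (.leaf [-3231784, 835902, -8801924, -4106289, 5165686, 146475, 658490, 2959879, -401245, -203641, 8884, -2646, 11545, 566, -136, 5]) (.leaf [0, 1])))))))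

def twoL58 : Janko.Tree (List ℤ) :=
  (.node (.node (.node (.node (.node (.node (.node (.leaf []) (.leaf [-217, 40, -523, -222, 290, 6, 58, 152, -16, -12])) (.leaf [276548, -57876, 716962, 325568, -414288, -9652, -60146, -231395, 25896, 16947, -536, 211, -543, -18, -9])) (.node (.leaf [0, 0, 1]) (.leaf [130873, -18868, 375616, 190423, -240436, -8461, -17949, -136081, 3532, 21643, -1367, 838, -318, 64, -1, 1]))) (.node (.node (.leaf []) (.leaf [895437318, -137301725, 2301718553, 1050815617, -1348786803, -27355509, -179089897, -735578356, 57996564, 57421238, -3142658, -547822, -1471950, -45304, 47694, 387, 3])) (.node (.leaf []) (.leaf [-3159337, 714796, -8619507, -4071889, 5139793, 144792, 607118, 2920338, -315614, -253082, 12224, -4592, 9661, 172, -101, -1])))) (.node (.node (.node (.leaf []) (.leaf [-2986, 502, -6939, -2860, 3712, 88, 824, 1961, -242, -116, 4, 0, 2, -1])) (.node (.leaf [0, 0, 1]) (.leaf [0, 0, 1]))) (.node (.node (.leaf []) (.leaf [-55, 6, -139, -63, 82, 1, 11, 43, -2, -3])) (.node (.leaf [572,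 -73, 1397, 611, -800, -1, -124, -421, 26, 24, -1]) (.leaf [-137041, 42779, -406357, -201590, 249516, 9293, 22954, 148446, -19377, -14361, 600, -408, 670, 14, -5]))))) (.node (.node (.node (.node (.leaf []) (.leaf [-3066, 475, -7655, -3370, 4391, 49, 679, 2324, -194, -140, 6, -5, 2])) (.node (.leaf [0, 0, 1]) (.leaf []))) (.node (.node (.leaf [0, 0, 1]) (.leaf [22292, -3903, 61079, 29410, -37455, -757, -3737, -20964, 1278, 2206, -87, 53, -31, 0, -1])) (.node (.leaf []) (.leaf [105848, -24299, 289062, 136584, -172726, -4461, -20536, -97959, 10286, 8747, -340, 204, -287, 1])))) (.node (.node (.node (.leaf []) (.leaf [2, 0, 6, 3, -4, 0, 0, -2])) (.node (.leaf [-347, 50, -879, -391, 517, 0, 75, 266, -14, -20, 0, -1]) (.leaf [-115568103, 39380377, -321153217, -149048574, 185566713, 5915519, 25873336, 109213456, -19700900, -6172312, 158764, -287413, 537974, 30371, -1366, 277, -5]))) (.node (.node (.leaf [29731497, -6429008, 78992601, 36463841, -46240909, -1196005, -6072063, -25964935, 3004626, 1868459, -97468, 12034,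 -85279, -3567, 1740, -31, 1]) (.leaf [2241542, -355728, 6283741, 3108303, -3935946, -115560, -340291, -2218533, 99274, 293326, -15460, 7550, -4741, 581, -18, 11])) (.node (.leaf [90630969, -17022766, 235112403, 107023734, -136714555, -2981478, -18839615, -75476322, 7783404, 5219945, -269490, -26298, -199019, -9814, 4062, -39, 1]) (.leaf [-181443, 40262, -477456, -219229, 278367, 5880, 38094, 156759, -17675, -11211, -8, 59, 296, 30, 11])))))) (.node (.node (.node (.node (.node (.leaf []) (.leaf [0, 0, 1])) (.node (.leaf [-260, 45, -630, -275, 354, 6, 63, 193, -18, -15]) (.leaf [-1501049, -286766, -1920236, -224359, 540119, -100898, 551802, -45326, 103983, 167068, -5628, 17199, -10034, 259, -242, 7, -1]))) (.node (.node (.leaf [0, 0, 1]) (.leaf [0, 0, 1])) (.node (.leaf []) (.leaf [1075, -1199, 5849, 3708, -4249, -355, 84, -2999, 483, 574, -26, 42, -20, 0, 1])))) (.node (.node (.node (.leaf []) (.leaf [42292836, -4518414, 97465576, 39855783, -52702462, -134060, -10137979, -26655046, 2675016, -131764, -54218, -216536,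 -38469, -11935, 7162, -140, -1])) (.node (.leaf []) (.leaf [1656002, -850367, 1485709, -605432, 784049, -67414, -1267157, 421785, 580763, -343009, 19368, 32494, -1461, -487, -1506, 12, 1]))) (.node (.node (.leaf [-5, 0, -6, -1, 1, 0, 2, 1]) (.leaf [-198539, 50421, -561277, -271189, 342171, 8636, 36322, 195653, -20037, -19394, 464, -533, 530, -2, 9])) (.node (.leaf [0, 0, 1]) (.leaf [138609899, -41296675, 372269174, 169426222, -212651177, -6082711, -31756400, -122707404, 20756282, 6367062, -201788, 218175, -538468, -33917, 2858, -269, 7]))))) (.node (.node (.node (.node (.leaf [0, 0, 1]) (.leaf [-11874432, 3011300, -31493328, -14299130, 18152906, 350444, 2582779, 10220637, -1471271, -486862, 9022, 7670, 35415, 2442, -596, 53])) (.node (.leaf [351, -29, 921, 419, -570, 16, -60, -277, -2, 16, 0, 0, 1]) (.leaf [-28607011, 6882292, -80613066, -39028325, 49067944, 1431246, 5058439, 28180383, -2882522, -2752413, 111361, -54906, 91499, 676, -242, -7]))) (.node (.node (.leaf [-11, 3, -28, -13, 18, -1, 3, 9, -1, -1]) (.leaf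 [86619487, -21919357, 234999814, 109283379, -137907461, -3598058, -17744640, -78504362, 10407552, 5309931, -213338, 50646, -287659, -14847, 2800, -178, 1])) (.node (.leaf [0, 0, 1]) (.leaf [-112488337, 28325747, -308840040, -145321004, 183165920, 4896653, 22140475, 104585110, -13074988, -7860144, 306094, -94987, 371494, 15999, -3088, 188, -1])))) (.node (.node (.node (.leaf [0, 0, 1]) (.leaf [2, 3, 9, 5, -7, 0, 1, -3, -2, 1])) (.node (.leaf []) (.leaf [1646, -58, 3557, 1421, -1873, -34, -401, -945, 40, 33, -8, -3]))) (.node (.node (.leaf []) (.leaf [27944692, -6213811, 62935403, 24057624, -31296948, -286589, -8330214, -16571392, 3749932, -924900, 54758, -67917, -54072, -11864, 2967, -112, 5])) (.node (.leaf [43551467, -12943698, 136887051, 71534181, -88398358, -3448858, -5446049, -52882453, 4683144, 7253753, -277742, 262532, -193825, 8592, -1690, 141, -1]) (.leaf [-8252514, 2789783, -24220821, -11822394, 14661954, 501258, 1543221, 8712232, -1273232, -766251, 23148, -32074, 39321, 1049, 102, 1])))))))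

def twoL59 : Janko.Tree (List ℤ) :=
  (.node (.node (.node (.node (.node (.node (.node (.leaf []) (.leaf [0, 0, -1, 0, 1, 1])) (.leaf [])) (.node (.leaf []) (.leaf [37327308, -8699141, 97775285, 44200594, -56146266, -1307446, -8179780, -31438862, 4297372, 1694218, -84411, -2904, -111995, -7321, 2163, -76, 1]))) (.node (.node (.leaf [-60, 7, -148, -65, 86, 0, 12, 45, -2, -3]) (.leaf [-17, 36, -380, -289, 361, 12, -51, 209, 0, -53, 4, -2, 1, 1])) (.node (.leaf []) (.leaf [187292, -26960, 502261, 241106, -306967, -8176, -32492, -170957, 7586, 21158, -928, 450, -206, 35, -16, 1])))) (.node (.node (.node (.leaf []) (.leaf [5, 0, 7, 2, -2, 0, -2, -1])) (.node (.leaf [-5775741, 1369684, -15876971, -7522708, 9476040, 274959, 1104131, 5409474, -616430, -458871, 22446, -8302, 19283, 460, -242, 1]) (.leaf [235448, -70889, 658246, 311518, -389042, -11618, -47754, -227548, 33182, 16857, -433, 539, -925, -33, -1]))) (.node (.node (.leaf []) (.leaf [-14411, 2433, -35215, -15340, 19644, 430, 3359, 10785, -1154, -632, 30, -2,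 19, 3, 1])) (.node (.leaf []) (.leaf [21091, -3357, 52271, 22935, -29817, -436, -4905, -15818, 1345, 1160, -38, 19, -16, 0, -1]))))) (.node (.node (.node (.node (.leaf [-5626, 289, -13200, -5663, 7513, 31, 1188, 3791, -63, -231, 19, 2, -5]) (.leaf [16571, -903, 37409, 15307, -20735, 193, -3986, -9998, 114, 479, -6, -9, 34, 2, -1])) (.node (.leaf [52533214, -9158757, 139149397, 65020140, -82861756, -2004810, -10024548, -45996018, 3724667, 4175767, -208244, 28978, -105543, -717, 1238, 65]) (.leaf [2823, -323, 6817, 2953, -3885, -16, -638, -2008, 111, 131, -5, -3, 1]))) (.node (.node (.leaf []) (.leaf [19652, -1099, 47568, 21275, -27949, -59, -3796, -14563, -24, 1326, -67, -3, 23, 6, -1])) (.node (.leaf [2485, -218, 5868, 2506, -3299, -33, -561, -1690, 86, 99, -8, -2]) (.leaf [0, 0, -1, 0, 1])))) (.node (.node (.node (.leaf [2276, -520, 5103, 1905, -2526, 84, -605, -1334, 307, -228, 32, -6, 0, 0, -1]) (.leaf [19, -23, 352, 261, -332, -10, 50, -184, -2, 41, -4, 2, -1])) (.node (.leaf [-387, 46, -966, -429, 566, 0,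 79, 294, -12, -20, 0, -1]) (.leaf [885, -39, 2155, 960, -1272, -15, -178, -638, -2, 66, -4]))) (.node (.node (.leaf [-1957, 190, -4795, -2107, 2789, -5, 411, 1425, -50, -95, 4, 2, -1]) (.leaf [])) (.node (.leaf []) (.leaf [26305705, -6487984, 73380945, 35070657, -44144102, -1245731, -4870426, -25268277, 2894261, 2157343, -95940, 34225, -90582, -2666, 939, -14, -1])))))) (.node (.node (.node (.node (.node (.leaf []) (.leaf [-1, -1, 0, 0, 0, 1])) (.node (.leaf [-535, 40, -1242, -527, 692, 5, 117, 359, -16, -17, 2]) (.leaf []))) (.node (.node (.leaf []) (.leaf [-121377105, 34738378, -353887186, -174096921, 217370353, 6787182, 20845277, 127087468, -14784135, -12588335, 428693, -351874, 474883, 3780, 1228, 64, 3])) (.node (.leaf []) (.leaf [-12267899, 1318102, -31852599, -14908625, 19214777, 363947, 2166871, 10373879, -381484, -1057039, 53546, 10732, 10539, -846, -560, -17])))) (.node (.node (.node (.leaf []) (.leaf [7511, -1882, 20811, 9932, -12481, -358, -1443, -7186, 802, 672, -22, 16, -23])) (.node (.leaf [0,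 0, -1, 0, 1]) (.leaf [-184, 33, -454, -195, 257, 5, 49, 131, -13, -12]))) (.node (.node (.leaf []) (.leaf [])) (.node (.leaf [-282381, 44849, -725225, -330360, 422408, 11852, 58669, 231195, -20068, -19956, 1708, -368, 700, 0, 6, -1]) (.leaf [-339144, 90474, -933271, -439851, 552315, 15520, 68055, 318726, -41132, -25118, 776, -643, 1118, 36, 2]))))) (.node (.node (.node (.node (.leaf []) (.leaf [-330229368, 45221417, -838866227, -380654719, 490414997, 9129461, 66250588, 264989739, -18556042, -20592371, 1131938, 348414, 430201, 14116, -18600, -123, -5])) (.node (.leaf []) (.leaf [102437, -20742, 264874, 121109, -153936, -3523, -22057, -86482, 8413, 7459, -46, 93, -109, 4, -3]))) (.node (.node (.leaf [-21, 5, -53, -21, 30, 0, 7, 13, -2, -1]) (.leaf [111271, -27230, 304670, 143957, -181131, -5083, -21718, -103924, 12076, 8745, -307, 185, -339, -8, -1])) (.node (.leaf [-52281, 11862, -142421, -67167, 85068, 2096, 10175, 48104, -4978, -4252, 154, -94, 130, 1]) (.leaf [1457745, -239830, 4045477, 1982023, -2514909, -64763,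 -231447, -1414262, 69788, 175350, -7228, 3326, -2478, 296, -28, 5])))) (.node (.node (.node (.leaf []) (.leaf [])) (.node (.leaf []) (.leaf [-3791659, 4363068, -10206728, -3616302, 3733359, 618815, 2224846, 3231929, -2576270, 348372, -21768, -100922, 62746, 4514, 2464, -6, -3]))) (.node (.node (.leaf [409, -38, 1057, 479, -647, 15, -73, -319, 2, 18, 0, 0, 1]) (.leaf [206103, -59648, 597344, 292711, -364884, -11659, -36194, -214142, 25784, 20704, -648, 559, -788, -14, 1])) (.node (.leaf [8854039, -1016272, 22558253, 10344255, -13347725, -244099, -1681210, -7181660, 366740, 627960, -36384, -10086, -9816, 172, 840, 7]) (.leaf [-194538, 50093, -551404, -266799, 336397, 8548, 35500, 192697, -19942, -19138, 445, -528, 528, -1, 9])))))))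

def twoL60 : Janko.Tree (List ℤ) :=
  (.node (.node (.node (.node (.node (.node (.node (.leaf []) (.leaf [-8, 2, -12, -4, 4, 1, 2, 4, -1, 1])) (.leaf [-2311361, 715436, -6499688, -3066403, 3831353, 118117, 470262, 2232002, -352429, -144009, 6396, -4026, 10816, 522, -123, 5])) (.node (.leaf []) (.leaf [3044340, -1044160, 12440320, 7576790, -9224380, -422822, 218145, -5730539, 130305, 1208977, -37224, 44309, -15234, 3043, -785, 29]))) (.node (.node (.leaf [1]) (.leaf [-11725876, -4032585, -17094460, -4541322, 7639239, -372367, 3208132, 1619152, 2200489, -193552, 77440, 66359, -90994, -4008, 563, -203, -1])) (.node (.leaf [18, 0, 35, 13, -17, 0, -4, -8, 0, 0, 0, 0, 0, -1]) (.leaf [-228352, 61817, -631392, -298410, 373882, 11874, 45918, 216263, -28651, -17711, 730, -476, 820, 32, -3])))) (.node (.node (.node (.leaf []) (.leaf [121607534, -38943906, 364410321, 181755251, -225471384, -7736300, -20122940, -133809837, 16888536, 13496960, -450650, 435346, -563888, -7571, 363, -53, -3])) (.node (.leaf [39339850, -65865354,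 269822104, 177249398, -202012188, -15620731, 7412843, -145356188, 26424962, 26778570, -552304, 2077792, -1116967, 33227, -38464, 525, -15]) (.leaf [9551052, -1473808, 25209240, 11827042, -15114247, -343861, -1770985, -8339073, 539206, 821871, -38977, 5152, -14925, 437, -30, 21]))) (.node (.node (.leaf []) (.leaf [333722479, -79823897, 899955518, 419963756, -529508852, -15253691, -68368297, -301894808, 36064780, 24720952, -1024264, 629920, -987241, -29206, 1353, 290, 9])) (.node (.leaf [451012, -96243, 1260002, 613098, -771104, -23905, -78078, -442058, 36739, 49901, -2186, 1184, -1193, 38, -18, 1]) (.leaf [90955, -2942, 234517, 113119, -146141, -3513, -14349, -78401, -2795, 12755, -647, 264, 87, 48, -16, 1]))))) (.node (.node (.node (.node (.leaf []) (.leaf [1])) (.node (.leaf [28722650, -5134086, 66324093, 26282858, -34471592, -185708, -7671101, -17788406, 3256301, -851953, -4012, -139771, -61763, -13481, 4317, -160]) (.leaf [6628408, -2816391, 14936923, 5150383, -6510041, -98516, -2487780, -3709800, 1806828,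 -723980, 43040, -14506, -32978, -6234, 610, -80, 1]))) (.node (.node (.leaf [-29869, 1906, -65676, -26004, 35039, -113, 7607, 16983, -825, -315, 46, 59, -40, 0, 1]) (.leaf [22867, -5698, 64554, 31096, -39290, -977, -4157, -22364, 2345, 2092, -73, 53, -67, 1])) (.node (.leaf [1]) (.leaf [-83527007, 26871106, -263864721, -136877415, 169343743, 5938390, 10672753, 101163314, -10667926, -12032424, 403787, -328736, 407471, -2672, 587, 27, 7])))) (.node (.node (.node (.leaf []) (.leaf [4, 4, 6, 3, -4, 0, 1, -2, -2])) (.node (.leaf [1]) (.leaf [1]))) (.node (.node (.leaf [-5159, 1562, -17314, -9238, 11579, 368, 482, 6693, -544, -912, 54, -32, 26, -1]) (.leaf [1008978024, -277204119, 2778594601, 1303437354, -1637523684, -46492014, -206326248, -942712662, 130262564, 68504881, -2524344, 1677176, -3665215, -154381, 13438, -1214, 13])) (.node (.leaf [1]) (.leaf [1])))))) (.node (.node (.node (.node (.node (.leaf []) (.leaf [-10514516, 144690, -21776453, -8250343, 11193886, 47070, 2793245, 5251631, -91890, -118434, 36792,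 24346, -11238, 451, -263, -57, -1])) (.node (.leaf [794, -74, 1870, 801, -1048, -12, -176, -547, 28, 31, -1]) (.leaf [-868181414, 248096069, -2406435661, -1134479530, 1420417764, 43954491, 178432912, 824226082, -115444222, -64765460, 2432558, -2289514, 3299247, 102892, 8943, 133, -11]))) (.node (.node (.leaf []) (.leaf [1367839, -250386, 3780178, 1833791, -2322304, -64151, -231526, -1310116, 87047, 150968, -6930, 3172, -2954, 186, -29, 3])) (.node (.leaf [75140257, 14656679, 124474977, 35380788, -56203723, 3813448, -20464840, -15762375, -5908806, -4842487, -113324, -977230, 326969, -17236, 22154, -200, 3]) (.leaf [-186294, 48566, -530509, -257501, 324382, 8428, 33677, 186179, -19316, -18741, 440, -520, 520, -2, 9])))) (.node (.node (.node (.leaf [-62, 13, -172, -81, 106, 0, 12, 56, -4, -5]) (.leaf [21147, -6731, 63580, 31804, -39556, -1270, -3484, -23372, 2794, 2477, -68, 82, -91, -2])) (.node (.leaf [1]) (.leaf [1]))) (.node (.node (.leaf []) (.leaf [2200400, 16002693, -13895097, -9155236, 6891850, 2343132,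 1462442, 10422392, -8770392, -64143, -92648, -419904, 271112, 13270, 6584, -77, 3])) (.node (.leaf [1]) (.leaf [-2415658, 596947, -6399272, -2909716, 3683362, 89826, 521714, 2079569, -300103, -105572, 5184, 446, 8148, 601, -204, 5]))))) (.node (.node (.node (.node (.leaf []) (.leaf [-318744215, 44579753, -811814668, -368339770, 474780159, 8293838, 63592890, 256327711, -18753921, -18741906, 1007200, 485622, 435981, 22190, -22826, 189, -5])) (.node (.leaf [1]) (.leaf [-22133, 5727, -62278, -29906, 37703, 958, 4129, 21588, -2392, -1978, 56, -50, 65, -1]))) (.node (.node (.leaf [1]) (.leaf [-2757369, 666486, -7285787, -3312192, 4197299, 100220, 594961, 2364589, -330855, -125440, 5676, 359, 8747, 626, -189, 5])) (.node (.leaf [-11612, 2168, -32174, -15472, 19743, 452, 2008, 10943, -796, -1136, 66, -24, 24, -1]) (.leaf [873166, -119421, 2334247, 1118751, -1431591, -29946, -150351, -790443, 28318, 96642, -3008, 1342, -441, 176, -71, 3])))) (.node (.node (.node (.leaf []) (.leaf [-241259496, 124861168, -867344853, -471613934,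 570110247, 25905500, 24633775, 359532580, -53831213, -43528913, 1283504, -2128876, 2093193, 15051, 11051, 75, 45])) (.node (.leaf [1]) (.leaf [1075, -41, 2247, 858, -1139, -22, -282, -561, 37, 3, -4, -3]))) (.node (.node (.leaf [20724605, 2641641, 39903833, 14058681, -20449794, 804666, -4837469, -7834390, -1007304, -874131, -42960, -270024, 57355, -6843, 5564, -82, -1]) (.leaf [])) (.node (.leaf [796, -45, 2133, 1021, -1333, -25, -119, -692, 3, 81, -9, 1, -1]) (.leaf [6422871, -714112, 14787768, 6103748, -8017007, -83470, -1580733, -4124778, 363188, 124668, -9770, -16193, -2446, -904, 458, -7, 1])))))))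

def twoL61 : Janko.Tree (List ℤ) :=
  (.node (.node (.node (.node (.node (.node (.node (.leaf [0, 1]) (.leaf [-7043, 738, -16253, -6768, 8893, 88, 1715, 4586, -326, -214, 12, 9, -2, 0, 1])) (.leaf [0, 1])) (.node (.leaf [5435, -244, 12778, 5500, -7305, -25, -1127, -3675, 41, 227, -19, -3, 5]) (.leaf [94052, -23843, 263435, 126404, -158967, -4585, -17569, -91314, 10206, 8476, -289, 207, -293, -3, -1]))) (.node (.node (.leaf [0, -2, 3, 2, -2, 0, 0, -2, 1]) (.leaf [0, 1])) (.node (.leaf [11463517, -2166460, 29335191, 13190562, -16860734, -370694, -2483144, -9292973, 1012570, 599006, -29268, -2981, -23684, -1362, 599, -9, 1]) (.leaf [2053865, -465487, 5426898, 2477950, -3145405, -75665, -432718, -1763021, 227495, 103839, -5534, -242, -6387, -376, 133, -3])))) (.node (.node (.node (.leaf [0, 1]) (.leaf [-23943, 6546, -64242, -29586, 37257, 946, 5320, 21380, -3011, -1538, 26, -22, 63, 9, -1])) (.node (.leaf []) (.leaf [0, 1]))) (.node (.node (.leaf [0, 1]) (.leaf [-2261, 206, -4682, -1753, 2265, 73, 624, 1198, -160,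 27, 4, 3, 1])) (.node (.leaf [-934, -755, -522, 223, -114, 32, 271, -378, 278, 68, 32, 20, -7, 0, 1]) (.leaf [-44454757, 23964839, -165541452, -92194983, 110912238, 5695852, 3939533, 70670975, -9585584, -10373287, 335869, -598564, 389605, -9848, 9851, -155, 3]))))) (.node (.node (.node (.node (.leaf []) (.leaf [16340029, -4107012, 42068126, 18555948, -23564958, -538137, -3851397, -13196226, 2172210, 422545, -21350, -13947, -52882, -4939, 862, -63])) (.node (.leaf [-2228706, -9867230, 37566080, 32836459, -36600906, -3268120, 6416655, -27593093, 2761225, 7340423, -204056, 449677, -200906, 17233, -9023, 199, -11]) (.leaf [0, 1]))) (.node (.node (.leaf []) (.leaf [0, 1])) (.node (.leaf []) (.leaf [-744, 61, -1708, -715, 938, 10, 174, 484, -27, -24, 3, 1])))) (.node (.node (.node (.leaf []) (.leaf [6, -2, 16, 6, -8, 1, -2, -5, 1])) (.node (.leaf [-56, 9, -138, -58, 78, -1, 13, 40, -2, -2, 0, -1]) (.leaf [-6004, 1649, -17449, -8526, 10817, 202, 1070, 6140, -600, -640, 16, -28, 14]))) (.node (.node (.leaf []) (.leaf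 [])) (.node (.leaf [13489592, -2450773, 34990167, 16003848, -20412388, -498994, -2789025, -11300380, 1080678, 897969, -48072, 6850, -28073, -655, 477, 5, 1]) (.leaf [3862, -1606, 13337, 7132, -8754, -410, -427, -5290, 691, 671, -34, 30, -28])))))) (.node (.node (.node (.node (.node (.leaf []) (.leaf [6912375, -1183710, 17943161, 8212418, -10512903, -228112, -1396252, -5770542, 517481, 442004, -25714, -110, -14230, -508, 365, 5])) (.node (.leaf []) (.leaf [416888958, -123753022, 1198643735, 580926022, -724838027, -23098977, -77103625, -424127125, 55771592, 37503688, -1336822, 1101266, -1727914, -44244, 2253, -354, 1]))) (.node (.node (.leaf []) (.leaf [0, 1])) (.node (.leaf []) (.leaf [2415, -339, 5904, 2623, -3359, -72, -543, -1846, 129, 170, -8, 0, -1])))) (.node (.node (.node (.leaf [0, 1]) (.leaf [0, 1])) (.node (.leaf [2937, -248, 7190, 3145, -4187, 29, -593, -2113, 67, 104, -9, -1, 1]) (.leaf [5, 0, 8, 2, -4, 1, -2, -1]))) (.node (.node (.leaf [0, 1]) (.leaf [-1485, 122, -3720, -1671, 2201, 26, 303, 1122,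 -32, -109, 14, -2, 1])) (.node (.leaf []) (.leaf [0, 1]))))) (.node (.node (.node (.node (.leaf []) (.leaf [-276909092, 41788085, -711755340, -323877126, 416863432, 7111554, 54596699, 225892169, -18506416, -15066111, 827418, 556217, 467302, 33059, -27855, 441, 1])) (.node (.leaf []) (.leaf [168310757, -53722809, 499685788, 247732550, -307325386, -10824863, -29081007, -182328520, 23347181, 18514679, -640748, 695311, -762765, -7097, -3893, 57, -1]))) (.node (.node (.leaf []) (.leaf [0, 1])) (.node (.leaf [107219, -25974, 297128, 141856, -178746, -4817, -20195, -102301, 10952, 9398, -309, 206, -303, -4, -1]) (.leaf [-30627514, 6642772, -83125240, -39221177, 49606955, 1343045, 5893298, 28070318, -2841209, -2520674, 115590, -48624, 83649, 907, -136, -33])))) (.node (.node (.node (.leaf []) (.leaf [-23465673, 10544258, -71143561, -34019716, 41976270, 1217176, 4692548, 25232968, -5705615, -593802, 14852, 18594, 184571, 14827, -4052, 235, 5])) (.node (.leaf []) (.leaf [0, 1]))) (.node (.node (.leaf []) (.leaf [22672116,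 -4945024, 34857536, 5862292, -8558564, -89467, -10838430, -3280116, 3518313, -2440051, 117598, 99569, 14773, -8811, -5689, 175, 13])) (.node (.leaf [0, 1]) (.leaf [0, 1])))))))

def twoL62 : Janko.Tree (List ℤ) :=
  (.node (.node (.node (.node (.node (.node (.node (.leaf []) (.leaf [11, -1, 25, 10, -14, 1, -3, -6, 0, 1])) (.leaf [13229, -652, 27211, 10007, -13533, 1, -3600, -6450, 497, -273, 8, -48, 13, 0, -1])) (.node (.leaf []) (.leaf [103489, -27054, 292561, 141169, -177342, -5092, -19036, -102198, 11484, 9657, -313, 242, -334, -3, -1]))) (.node (.node (.leaf [4, -3, 30, 19, -26, 0, 1, -12, 0, 3]) (.leaf [])) (.node (.leaf []) (.leaf [0, 0, 1])))) (.node (.node (.node (.leaf [48636, -8666, 125203, 57338, -72954, -1606, -9887, -40807, 3643, 3200, -46, -40, -36, -10, -3]) (.leaf [0, 0, 1])) (.node (.leaf [-64015863, 10324898, -170088429, -80033743, 102085426, 2475421, 11782678, 56521924, -3955024, -5499668, 280436, -33144, 118241, -1125, -1664, -99, -1]) (.leaf [595542188, -99915218, 1518239925, 684958045, -877941711,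 -18731807, -125546860, -480398543, 44858422, 34061692, -1897573, -151432, -1088967, -48671, 27542, 373, 9]))) (.node (.node (.leaf []) (.leaf [-20657178, 4320676, -56543089, -26864489, 34038834, 859064, 3782743, 19176305, -1834252, -1699243, 78008, -11498, 55954, 1329, -485, 2, 1])) (.node (.leaf []) (.leaf [0, 0, 1]))))) (.node (.node (.node (.node (.leaf [0, 0, 1]) (.leaf [-297, 50, -713, -303, 396, 5, 78, 207, -20, -15])) (.node (.leaf []) (.leaf [-5695, 1684, -19309, -10379, 13035, 389, 468, 7511, -546, -1047, 56, -36, 26, -1]))) (.node (.node (.leaf []) (.leaf [21376, -5502, 61175, 29700, -37494, -941, -3777, -21390, 2247, 2048, -73, 57, -67, 1])) (.node (.leaf [-5, 0, -6, -1, 1, 0, 2, 1]) (.leaf [155885185, -23508675, 354074213, 139428882, -184062835, -429000, -41276409, -93527364, 14848724, -4010097, 1182, -785808, -226366, -64063, 23361, -783, 3])))) (.node (.node (.node (.leaf [0, 0, 1]) (.leaf [0, 0, 1])) (.node (.leaf []) (.leaf [4069, -610, 10052, 4399, -5734, -66, -918, -3032, 244, 190, -6, 6, -2])))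 (.node (.node (.leaf [0, 0, 1]) (.leaf [-1749151742, 315045822, -4515515607, -2053499407, 2624895436, 57539556, 363429352, 1446772314, -141567400, -104060464, 5352144, 256720, 3550691, 157314, -79022, -462, -27])) (.node (.leaf [-160481, 43541, -449497, -214981, 269283, 8280, 31200, 155953, -19419, -14088, 554, -290, 575, 23, 1]) (.leaf [-8666, 2100, -17079, -5530, 7049, 255, 3188, 3882, -1372, 462, -55, 13, 13, 4, -1])))))) (.node (.node (.node (.node (.node (.leaf [0, 0, 1]) (.leaf [6890049, -1178046, 17880224, 8182151, -10474687, -227158, -1392134, -5748748, 515136, 439980, -25648, -162, -14163, -509, 365, 5])) (.node (.leaf [31, -15, 98, 46, -61, 0, -9, -31, 6, 3]) (.leaf [-180433519, 48205916, -500596889, -237465525, 297990737, 8933730, 35672842, 171978427, -21728284, -14570680, 557187, -429160, 629274, 15184, 1143, -10, -3]))) (.node (.node (.leaf []) (.leaf [-8, 11, -32, -16, 20, 0, 4, 12, -5, -1])) (.node (.leaf [0, 0, 1]) (.leaf [0, 0, 1])))) (.node (.node (.node (.leaf [-64, 5, -160, -72, 96, 0, 12,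 48, -1, -3]) (.leaf [1564537, -414367, 4100771, 1830458, -2318373, -50532, -355258, -1308303, 219888, 37211, -808, -2616, -5472, -595, 120, -7])) (.node (.leaf [-1211, 386, -2710, -1010, 1311, 14, 435, 714, -180, -5, -10, -8, 1]) (.leaf [495696, -155240, 1243837, 521597, -657868, -17665, -136257, -373942, 89989, -4435, -259, 38, -2228, -247, 16, -1]))) (.node (.node (.leaf []) (.leaf [4955607, -469193, 10897682, 4274362, -5685253, -27938, -1304899, -2828786, 273706, -6827, -4234, -17890, -170, -1017, 486, -9, 1])) (.node (.leaf [-18, 3, -57, -29, 40, 0, 3, 18, 0, -3]) (.leaf [22110141, -9724051, 71142326, 36486269, -44513053, -1869509, -3568122, -27486329, 4365918, 2863561, -77212, 151159, -148045, -2063, -838, -9]))))) (.node (.node (.node (.node (.leaf []) (.leaf [0, 0, 1])) (.node (.leaf [-3, 0, -3, -1, 1, 0, 1, 1]) (.leaf [-37789748, 10431053, -104568424, -49231720, 61894953, 1644806, 7605060, 35623225, -4827435, -2596507, 73071, -50930, 132298, 5445, -574, 86, -1]))) (.node (.node (.leaf [-2, -1, -3, -2,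 2, 1, 0, 1]) (.leaf [59492583, -12972849, 161901162, 76602288, -96815634, -2667016, -11384396, -54886480, 5484439, 5071537, -226744, 107581, -162489, -846, 93, 79])) (.node (.leaf [-110373959, 31739200, -324727344, -160858556, 200527427, 6512448, 18297854, 117579625, -13494776, -11950122, 444264, -326938, 455405, 4248, -1020, 6, 3]) (.leaf [0, 0, 1])))) (.node (.node (.node (.leaf []) (.leaf [0, 0, 1])) (.node (.leaf []) (.leaf [-2950, 214, -7200, -3190, 4193, 35, 587, 2160, -62, -155, 11, 4]))) (.node (.node (.leaf [0, 0, 1]) (.leaf [0, 0, 1])) (.node (.leaf [-1717179, 411753, -4718606, -2233507, 2815821, 77725, 331002, 1606925, -182038, -137042, 6561, -3538, 5673, 30, -39, -1]) (.leaf [-223610827, 37306555, -607803600, -291373441, 370521788, 9251680, 38350726, 206803266, -13531606, -21697717, 1034786, -150476, 447181, -11405, -6402, -306, 3])))))))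

def twoL63 : Janko.Tree (List ℤ) :=
  (.node (.node (.node (.node (.node (.node (.node (.leaf []) (.leaf [0, 0, 0, 0, 0, 0, 0, 0, 0, 0, 0, 0, 0, 0, 0, 0, 1])) (.leaf [1131722, 312600, 1866222, 590778, -914949, 40240, -281066, -282638, -171303, 11097, -5406, -8918, 7255, 239, 25, 13])) (.node (.leaf []) (.leaf [85126, -21814, 239152, 114950, -144476, -4195, -15808, -83108, 9360, 7711, -261, 186, -269, -4, -1]))) (.node (.node (.leaf []) (.leaf [-10857052, 5370603, -43295818, -25175448, 30391934, 1458025, 37424, 19198433, -1929258, -3051346, 110918, -120795, 99229, -3245, 890, -24, 3])) (.node (.leaf [17, 0, 32, 12, -15, 0, -4, -9]) (.leaf [-2877533, 722954, -8026798, -3840818, 4827728, 138481, 537148, 2775559, -316527, -245631, 8805, -4787, 9319, 226, -53, 1])))) (.node (.node (.node (.leaf []) (.leaf [-23577, 6528, -63305, -29160, 36682, 961, 5265, 21095, -3016, -1527, 26, -22, 64, 9, -1])) (.node (.leaf []) (.leaf [6777185, -909447, 15916326, 6655696, -8684452, -114444, -1655550, -4543128, 467993, 143800, -11003,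 -14420, -6030, -1125, 494, -8, 1]))) (.node (.node (.leaf [-3381, 274, -7525, -3058, 4022, 39, 841, 2067, -127, -82, 7, 5, -1]) (.leaf [-3156, 494, -6384, -2204, 2875, 36, 959, 1518, -356, 204, -16, 4, 0, 0, 1])) (.node (.leaf [-1004, 55, -2446, -1084, 1429, -2, 181, 736, -16, -32, 2, 4, -1]) (.leaf [-11188548, 4094525, -33141659, -16090091, 19978720, 579583, 2111305, 11865687, -1950160, -816014, 13947, -21830, 58709, 2459, -389, 60, 1]))))) (.node (.node (.node (.node (.leaf []) (.leaf [])) (.node (.leaf []) (.leaf [26088637, 4262878, 32490776, 3241403, -7961290, 1126546, -10246490, 928389, -1402477, -2416862, 2153, -159100, 147703, -2245, -806, 187, 7]))) (.node (.node (.leaf []) (.leaf [-3881, 382, -8883, -3696, 4838, 49, 936, 2522, -169, -118, 8, 5, -1])) (.node (.leaf []) (.leaf [-25761, 4047, -59691, -24720, 31809, 812, 6710, 17160, -2135, -721, 34, 19, 24, 4, 1])))) (.node (.node (.node (.leaf []) (.leaf [6015, -658, 14074, 5922, -7777, -89, -1451, -4008, 288, 215, -15, -7, 1, 0, -1])) (.node (.leaf [25,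 -39, 417, 309, -391, -13, 48, -219, 0, 57, -4, 2, -1]) (.leaf [3150, -410, 7423, 3116, -4111, -24, -771, -2112, 162, 99, 4, 1, 1]))) (.node (.node (.leaf [17135038, -766069, 33847907, 11666677, -16109428, 156984, -5075763, -7228973, 685214, -603518, -2908, -86220, 16972, -4466, 1736, -16, 3]) (.leaf [-516, 55, -1534, -766, 1007, 14, 61, 517, -8, -63, 6, -2, 1])) (.node (.leaf [12030978, -3745649, 37343922, 19201556, -23817402, -816967, -1671185, -14158635, 1437611, 1728555, -53506, 59307, -52295, 1381, -237, 5, 1]) (.leaf [86499, -5664, 231509, 114140, -146093, -4161, -12804, -80148, -1367, 13217, -648, 324, 15, 39, -13, 1])))))) (.node (.node (.node (.node (.node (.leaf []) (.leaf [1358975, -382118, 3826751, 1826039, -2285566, -71837, -261894, -1324939, 179294, 105583, -5022, 2716, -5713, -200, 55, -1])) (.node (.leaf [-11, 1, -33, -16, 22, 0, 1, 11, 0, -1]) (.leaf [-3332, 304, -7746, -3233, 4292, 7, 774, 2169, -125, -74, 6, 1, -2]))) (.node (.node (.leaf [-676, 260, -2139, -1048, 1380, -43, 115, 740, -83, -39,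 -7, 1]) (.leaf [128825, -28136, 345206, 161400, -204212, -5196, -25699, -115674, 12031, 9928, -318, 133, -282, -5, -3])) (.node (.leaf []) (.leaf [-12, -1, -19, -6, 7, 1, 3, 5])))) (.node (.node (.node (.leaf []) (.leaf [238962, -38846, 640876, 305639, -388756, -10224, -43263, -217106, 12632, 25239, -1092, 560, -341, 36, -14, 1])) (.node (.leaf [12296, -880, 28439, 11922, -15799, -54, -2788, -7979, 367, 318, -38, -23, 5, 0, -1]) (.leaf [216551732, -37481398, 596206211, 288495087, -366089207, -9470121, -35901819, -205403703, 13377180, 22326756, -1040490, 201786, -463610, 14005, 5560, 306, -5]))) (.node (.node (.leaf [-21283, 2828, -51258, -22015, 28841, 342, 5067, 14997, -1131, -985, 38, -4, 6, 0, 1]) (.leaf [18890, -4637, 48805, 21863, -27603, -786, -4385, -15678, 2284, 921, -30, 26, -61, -2, 1])) (.node (.leaf [-2921758, 749997, -8227698, -3956672, 4965907, 152426, 538895, 2859448, -334138, -258866, 12646, -5742, 11164, 156, -128, 3]) (.leaf [26256781, -10603938, 82235767, 41656713, -51064856, -2042861, -4394210,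 -31174631, 4756134, 3167666, -91908, 155679, -159134, -2324, -768, -7]))))) (.node (.node (.node (.node (.leaf []) (.leaf [-258638344, 24508837, -638831266, -285097497, 371465366, 4754580, 51646149, 195075177, -9400889, -13697864, 873039, 686050, 165359, 12833, -23712, 113, -1])) (.node (.leaf []) (.leaf [3266, -238, 7500, 3132, -4139, -34, -759, -2099, 100, 99, -10, -4, 1]))) (.node (.node (.leaf []) (.leaf [7083757, -994637, 16519808, 6823967, -8910044, -111853, -1768850, -4650072, 542817, 83509, -9760, -18381, -7705, -1586, 673, -13, 1])) (.node (.leaf [-1200209, 338849, -3382378, -1637305, 2040868, 73293, 239079, 1198730, -134470, -140642, 3778, -6986, 3390, -158, 234, -3]) (.leaf [-2081, 4895, -17283, -11419, 12938, 623, -901, 9524, -2310, -824, -124, 57, 54, 13, 3])))) (.node (.node (.node (.leaf []) (.leaf [-58541735, 14219556, -149769489, -65482571, 83568674, 1552679, 13738206, 46255483, -7757347, -813095, 66288, 119468, 196861, 21455, -6537, 254, 1])) (.node (.leaf []) (.leaf [145777, 90806, 163579,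 33260, -79133, 12771, -38587, 3830, -60943, 17285, -578, -117, 2643, 274, -116, 3]))) (.node (.node (.leaf []) (.leaf [-2606903, 2931055, -11858940, -6601255, 7719746, 383307, 273567, 5261455, -1504970, -301600, -3160, -24731, 53581, 2661, -346, 70, 1])) (.node (.leaf [14387, 102, 22517, 4874, -7881, 491, -5626, -2033, 353, -1111, 2, -111, 44, -6, -7]) (.leaf [-364420, 95985, -999241, -469721, 590613, 16309, 73755, 339757, -43475, -26768, 824, -698, 1165, 36, 3])))))))

def twoL64 : Janko.Tree (List ℤ) :=
  (.node (.node (.node (.node (.node (.node (.node (.leaf []) (.leaf [9, 2, 18, 9, -9, 0, -1, -7, 1, 0, 0, -1])) (.leaf [-12707070, 15520270, -69492951, -42796649, 49659751, 3126058, -766545, 34370109, -6806872, -4842560, 84588, -318848, 274148, 563, 2096, 155, 1])) (.node (.leaf [-2084, 199, -4999, -2160, 2845, 21, 458, 1462, -70, -90, 4, 1]) (.leaf []))) (.node (.node (.leaf [14, -3, 52, 27, -38, 0, -2, -16, 0, 3]) (.leaf [-1747599, 450247, -4821684, -2278551, 2867106, 76741, 340924, 1645830, -204472, -127950,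 4452, -2350, 5819, 158, -60, 3])) (.node (.leaf [274, -53, 671, 287, -376, -5, -72, -197, 21, 15, 1]) (.leaf [271159077, -87982653, 783005626, 378054609, -470052490, -15553518, -52152215, -277464222, 40908047, 22768090, -746534, 842930, -1243355, -43244, 1361, -167, -5])))) (.node (.node (.node (.leaf []) (.leaf [824010842, -183933771, 2237618677, 1052153254, -1331070389, -34506835, -159122014, -752902945, 81749622, 61293708, -2727749, 710538, -2380164, -77340, 31156, -63, -9])) (.node (.leaf [27956, -5951, 74628, 34752, -44107, -1084, -5645, -24792, 2522, 2136, -84, 44, -65]) (.leaf [-100523708, 15476647, -251420260, -111141586, 143658860, 2124522, 21593063, 77042142, -7446165, -3788520, 240414, 224938, 167105, 16636, -9151, 173, 1]))) (.node (.node (.leaf []) (.leaf [1])) (.node (.leaf [-107732, 26163, -295219, -139679, 176203, 4628, 21168, 100621, -11085, -9012, 244, -194, 285, 4, 3]) (.leaf [1]))))) (.node (.node (.node (.node (.leaf []) (.leaf [-54, 7, -145, -67, 90, 0, 11, 44, -1, -5])) (.node (.leaf [1])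 (.leaf [1]))) (.node (.node (.leaf []) (.leaf [-822334, 180010, -2220663, -1043361, 1320334, 34248, 161128, 747059, -76722, -65639, 2578, -1225, 2070, 47, 25, -1])) (.node (.leaf []) (.leaf [1])))) (.node (.node (.node (.leaf []) (.leaf [-6097, 1769, -18719, -9506, 11865, 432, 892, 6910, -728, -809, 48, -30, 28, -1])) (.node (.leaf []) (.leaf [-2674, 172, -6153, -2572, 3400, 29, 607, 1720, -82, -70, 12, 5, -1]))) (.node (.node (.leaf [292429, -51101, 770184, 363346, -460141, -12616, -56619, -260321, 17038, 29953, -628, 614, -237, 38, -24, 1]) (.leaf [1])) (.node (.leaf [37573891, 9494465, 58529323, 15880109, -26037377, 1677018, -10563210, -6412763, -4759680, -989592, -129696, -317850, 226072, 4667, 3117, 254, 1]) (.leaf [-6273, 569, -15135, -6609, 8613, 123, 1299, 4526, -247, -255, 27, 0, 3, 1])))))) (.node (.node (.node (.node (.node (.leaf []) (.leaf [-118512, 31403, -386919, -211251, 260476, 9977, 9237, 157603, -6965, -26642, 478, -1026, 275, -60, 7, -1])) (.node (.leaf [-124, 22, -312, -142, 182, 0, 27, 102,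 -6, -10]) (.leaf [1]))) (.node (.node (.leaf [1]) (.leaf [106219, -24669, 290616, 137423, -173777, -4385, -20554, -98634, 10416, 8740, -320, 202, -282, -3])) (.node (.leaf [-40602523, 7125126, -105481313, -48349838, 61765908, 1413888, 8233452, 34073736, -3111726, -2675784, 139870, 1232, 81071, 2381, -1522, -8, -1]) (.leaf [1221, -186, 2875, 1247, -1578, -40, -293, -894, 78, 73, -1, 0, -1])))) (.node (.node (.node (.leaf [8, 0, 14, 5, -6, 0, -2, -4]) (.leaf [659427, 186122, 1234777, 494355, -704741, 1869, -135189, -286350, -127872, 76228, -5475, -1012, 4846, 518, -179, 11])) (.node (.leaf [2721, -104, 6144, 2559, -3375, -31, -597, -1715, 55, 64, -13, -7, 1]) (.leaf [66008849, -10187683, 172551993, 80185954, -102588657, -2412486, -12728286, -56371323, 3908039, 5383716, -292862, 48600, -109326, 2290, -958, 139, 1]))) (.node (.node (.leaf []) (.leaf [])) (.node (.leaf [-7, 1, -35, -21, 28, 0, -1, 14, 1, -3]) (.leaf [-31937, 6317, -75454, -31576, 40328, 843, 8311, 22301, -3280, -663, -86, 109, 17, 18]))))) (.node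 (.node (.node (.node (.leaf []) (.leaf [1])) (.node (.leaf [1]) (.leaf [26234541, -5426464, 72363200, 34762226, -43969029, -1160927, -4669242, -24905954, 2116988, 2527551, -98556, 43323, -63887, 712, 93, 31]))) (.node (.node (.leaf []) (.leaf [19728352, -2934726, 51583091, 23866485, -30639831, -611522, -3698124, -16684446, 1239066, 1314481, -80568, -25706, -36929, -1562, 1562, -13])) (.node (.leaf [1]) (.leaf [1])))) (.node (.node (.node (.leaf [1]) (.leaf [-109531, 26228, -303022, -144526, 182257, 4837, 20648, 104118, -11022, -9547, 318, -208, 303, 4, 1])) (.node (.leaf []) (.leaf [1]))) (.node (.node (.leaf [829161, -116225, 1994558, 857273, -1107542, -26536, -197053, -591042, 57096, 36519, -4032, 720, -1401, -36, 36, 3]) (.leaf [1])) (.node (.leaf []) (.leaf [-962470, 242576, -2650453, -1248895, 1570921, 43973, 185193, 899330, -117326, -61750, 2759, 495, 3546, 231, -102, 3])))))))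

def twoL65 : Janko.Tree (List ℤ) :=
  (.node (.node (.node (.node (.node (.node (.node (.leaf []) (.leaf [-143, 1, -323, -134, 180, 1, 29, 88, 0, -2, 1])) (.leaf [-195461, 29435, -521711, -249176, 316960, 8620, 35080, 176852, -8862, -21576, 952, -464, 243, -38, 14, -1])) (.node (.leaf [0, 1]) (.leaf [0, 1]))) (.node (.node (.leaf []) (.leaf [62047, -19806, 177666, 85445, -106165, -3594, -12170, -62693, 9299, 5154, -182, 143, -276, -12, 1])) (.node (.leaf [0, 1]) (.leaf [8214806, -6414580, 33255174, 19177438, -22466581, -1539788, -1053172, -15293406, 2307132, 2979735, -48388, 274239, -74476, 7770, -8522, 187, 1])))) (.node (.node (.node (.leaf []) (.leaf [0, 1])) (.node (.leaf [0, 1]) (.leaf [11151693, -2315171, 35356726, 18950937, -23677050, -766225, -940169, -13830574, 475517, 2213300, -82227, 56850, -30518, 4447, -862, 60, -1]))) (.node (.node (.leaf []) (.leaf [])) (.node (.leaf []) (.leaf [-7, -1, -12, -4, 4, 0, 2, 3, 0, 0, 1]))))) (.node (.node (.node (.node (.leaf []) (.leaf [0, 1])) (.node (.leaf [-60728129,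 16212715, -176211742, -86931959, 108646870, 3490808, 10222099, 63319435, -6642017, -6760918, 254827, -195522, 219598, -860, 1642, -64, 1]) (.leaf [142739, -34387, 390779, 184831, -233133, -6191, -28046, -133107, 14631, 11957, -394, 273, -400, -4, 1]))) (.node (.node (.leaf [0, 1]) (.leaf [0, 1])) (.node (.leaf [0, 1]) (.leaf [53587, -12106, 145243, 68252, -86472, -2132, -10598, -48854, 5089, 4301, -148, 94, -132])))) (.node (.node (.node (.leaf []) (.leaf [358487, -68496, 968288, 460714, -583315, -16190, -66858, -329333, 25760, 35322, -1456, 750, -721, 25, -12, 1])) (.node (.leaf []) (.leaf [-56, -31, -172, -94, 132, -6, -17, 58, 16, 2, 2]))) (.node (.node (.leaf []) (.leaf [-151288, 44728, -441143, -216686, 269290, 9578, 26328, 158706, -20128, -15149, 635, -420, 680, 14, -5])) (.node (.leaf [-64724422, -444779, -144463740, -60318501, 80982408, 270540, 14108263, 39258714, 1011383, -2715252, 251908, 228502, -86637, -3388, -3636, -184, -1]) (.leaf [-124137, 37578, -354692, -170184, 211933, 7422, 23441, 124242,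 -18225, -9338, 470, -369, 589, 28, -1])))))) (.node (.node (.node (.node (.node (.leaf []) (.leaf [0, 1])) (.node (.leaf [0, 1]) (.leaf [1377643, -344871, 3631763, 1633777, -2076098, -40624, -299819, -1162928, 180267, 36895, -1109, -2710, -4655, -472, 183, -7]))) (.node (.node (.leaf []) (.leaf [])) (.node (.leaf []) (.leaf [4542, -871, 12024, 5563, -7140, -97, -895, -3937, 331, 313, -11, 11, -6])))) (.node (.node (.node (.leaf []) (.leaf [3587698, -912578, 9713678, 4517932, -5688833, -157477, -738658, -3254377, 433629, 226261, -8775, 2940, -11972, -583, 92, -5])) (.node (.leaf [0, 1]) (.leaf [45, 14, 302, 232, -267, -40, 33, -172, -13, 68, -8, 2, -2, 0, -1]))) (.node (.node (.leaf [0, 1]) (.leaf [-106560, 38256, -343156, -178853, 220560, 8197, 13951, 132798, -15474, -15945, 503, -558, 553, 4, -1])) (.node (.leaf [0, 1]) (.leaf [-31284, 6219, -73768, -30806, 39315, 848, 8178, 21771, -3259, -616, -84, 109, 17, 18]))))) (.node (.node (.node (.node (.leaf [0, 1]) (.leaf [-9223961, 2218098, -24964076, -11618646,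 14693946, 363415, 1852395, 8322748, -1041723, -567073, 23386, -2994, 29202, 1470, -498, 17])) (.node (.leaf [3408, -4411, 17842, 10616, -12412, -612, -113, -8527, 1939, 1030, 12, 81, -73, -2, 1]) (.leaf [-6, 3, -15, -6, 8, 0, 2, 4, -1]))) (.node (.node (.leaf [378, -41, 888, 378, -494, -3, -87, -260, 16, 14, -1]) (.leaf [-2465483, 525624, -7316442, -3750872, 4696173, 161887, 340865, 2726621, -140508, -414912, 16179, -15291, 5834, -1024, 409, -11])) (.node (.leaf [20192, -4004, 52360, 23814, -30371, -781, -4422, -16801, 1776, 1394, -78, 20, -46, -2, 1]) (.leaf [-100306, 24190, -277231, -131997, 166310, 4731, 19111, 95054, -10416, -8650, 331, -198, 292, 4, 1])))) (.node (.node (.node (.leaf []) (.leaf [0, 1])) (.node (.leaf [0, 1]) (.leaf [740, -104, 1463, 506, -653, -29, -247, -341, 75, -11, 0, -3]))) (.node (.node (.leaf []) (.leaf [-31181, 14855, -110182, -60502, 72594, 4201, 3438, 46239, -6048, -7132, 312, -369, 300, -10, -7])) (.node (.leaf [4339, -319, 9706, 3967, -5213, -75, -1065, -2670, 158, 120, -16,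 -5]) (.leaf [0, 1])))))))

def twoL66 : Janko.Tree (List ℤ) :=
  (.node (.node (.node (.node (.node (.node (.node (.leaf [0, 0, 1]) (.leaf [353, -28, 921, 419, -569, 16, -60, -277, -2, 16, 0, 0, 1])) (.leaf [75051392, -12816742, 198385094, 92545110, -118093682, -2713820, -14267130, -65360718, 5230981, 5757512, -281420, 7110, -146589, -1890, 3128, 40, 1])) (.node (.leaf []) (.leaf [1848812, -207238, 4238267, 1737921, -2285683, -27279, -465219, -1170562, 105906, 38029, -4890, -2309, -1134, -175, 104, 1]))) (.node (.node (.leaf [0, 0, 1]) (.leaf [784866, -156913, 2057946, 948173, -1206628, -27515, -162136, -674466, 65715, 56112, -1548, 694, -1339, -42, -34, 1])) (.node (.leaf [-21609, 4243, -56311, -25638, 33048, 479, 4669, 17993, -1612, -1494, 29, -44, 24, 0, 1]) (.leaf [0, 0, 1])))) (.node (.node (.node (.leaf [0, 0, 1]) (.leaf [95024817, 19537561, 173985664, 61414269, -90767627, 3039675, -22342168, -33119902, -10976313, 1160303, -334986, -812798, 492591, 17760, 8972, 106, 15])) (.node (.leaf [28203, -5972, 75302,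 35083, -44533, -1081, -5669, -25029, 2522, 2153, -84, 44, -65]) (.leaf [0, 0, 1]))) (.node (.node (.leaf [0, 0, 1]) (.leaf [-59, 16, -161, -73, 96, 1, 15, 50, -5, -5, -1])) (.node (.leaf [0, 0, 1]) (.leaf [472, -66, 1197, 534, -706, -5, -104, -361, 19, 32, 1]))))) (.node (.node (.node (.node (.leaf []) (.leaf [-2987, 324, -6715, -2730, 3583, 35, 765, 1855, -150, -69, 2, 4, -1])) (.node (.leaf [-3, 0, -5, -3, 3, 0, 0, 4, 0, 0, 0, 0, 0, -1]) (.leaf [-94, 11, -215, -92, 118, 0, 22, 66, -3, -5]))) (.node (.node (.leaf []) (.leaf [678842, -149171, 1811671, 842473, -1067823, -25885, -137759, -602583, 64343, 49370, -1366, 618, -1470, -46, -17])) (.node (.leaf []) (.leaf [-51287, 10915, -137685, -64568, 81681, 2183, 10117, 46220, -4644, -4147, 177, -71, 123, 2, 1])))) (.node (.node (.node (.leaf [438, 6, 978, 404, -545, -11, -99, -257, -6, 21, -2]) (.leaf [3521951, -1378861, 9723375, 4303022, -5342506, -178764, -848916, -3124010, 868294, -100586, -13160, -12456, -28812, -3113, 852, -36, -1])) (.node (.leaf [0, 0, 1])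 (.leaf [879, -40, 2149, 959, -1272, -15, -177, -636, -2, 67, -4]))) (.node (.node (.leaf []) (.leaf [-17492833, 3119079, -46589593, -21825363, 27811673, 649796, 3295048, 15448362, -1281301, -1365631, 65316, -3172, 36339, 606, -631, -7])) (.node (.leaf [0, 0, 1]) (.leaf [-9793, 852, -23028, -9808, 12857, 158, 2189, 6652, -382, -340, 42, 4, 2, 1])))))) (.node (.node (.node (.node (.node (.leaf []) (.leaf [-113443, 30730, -375668, -206781, 254617, 9946, 7875, 154536, -6645, -26588, 482, -1026, 277, -62, 7, -1])) (.node (.leaf [-121, 20, -301, -138, 176, 0, 24, 100, -6, -8]) (.leaf [-16428815, 4964367, -50170653, -25511213, 31650239, 1106332, 2388111, 18763950, -2030988, -2125842, 81808, -60844, 75310, -238, -58, -4, 1]))) (.node (.node (.leaf []) (.leaf [-827327, 198841, -2565864, -1346616, 1675046, 62049, 95140, 986546, -58550, -149136, 6424, -5248, 2929, -309, 34, -3])) (.node (.leaf [12062610, -5170244, 40365717, 21368993, -26037700, -1134442, -1540530, -16113478, 2169164, 1990452, -66598, 96724, -82713, 506,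 -828, 24, -1]) (.leaf [236644, -89174, 657532, 293020, -364156, -14963, -56467, -211321, 56411, -3101, -1926, 139, -2141, -182, 66, -1])))) (.node (.node (.node (.leaf [7, 0, 13, 4, -4, 0, -2, -4]) (.leaf [0, 0, 1])) (.node (.leaf [13349, -3571, 36558, 17102, -21563, -641, -2877, -12266, 1622, 1074, -51, 22, -50, -2, 1]) (.leaf [0, 0, 1]))) (.node (.node (.leaf [-79, 58, -229, -97, 124, 4, 40, 69, -25, -11, -1]) (.leaf [6594306, -1063848, 17580939, 8306291, -10587104, -264510, -1206424, -5873345, 392177, 603854, -31602, 7846, -12539, 508, 93, 15])) (.node (.leaf [-2982257, 71323, -7585849, -3597697, 4683302, 78347, 474524, 2466453, 78597, -342217, 18408, 196, -2124, -936, 144, -19]) (.leaf [0, 0, 1]))))) (.node (.node (.node (.node (.leaf []) (.leaf [-1698374, 410690, -4674834, -2214085, 2791083, 76787, 327162, 1593245, -181808, -135547, 6561, -3528, 5693, 40, -36, -1])) (.node (.leaf [55, -29, 163, 79, -98, -1, -13, -60, 11, 5, 1]) (.leaf [0, 0, 1]))) (.node (.node (.leaf [0, 0, 1]) (.leaf [0, 0, 1])) (.node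 (.leaf []) (.leaf [-4156, 1453, -13617, -7156, 8816, 381, 492, 5285, -620, -647, 40, -26, 25, 1])))) (.node (.node (.node (.leaf [622, 1096, -4308, -3919, 4553, 324, -939, 3118, -338, -768, 40, -42, 28, -1]) (.leaf [-12490179, 4408026, -39895830, -20772494, 25590253, 947872, 1658171, 15458923, -1749828, -1890516, 51699, -66384, 62787, -808, 426, 5])) (.node (.leaf []) (.leaf [2435, -184, 5236, 2043, -2705, -26, -643, -1362, 102, 21, -2, -6, 1]))) (.node (.node (.leaf []) (.leaf [546843, -112502, 1446156, 670893, -851585, -21075, -111627, -478725, 46848, 42079, -1409, 888, -1105, 8, -26, 1])) (.node (.leaf []) (.leaf [-14219, 4996, -43734, -22111, 27414, 842, 2278, 16370, -2040, -1749, 24, -61, 65, 1])))))))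

def twoL67 : Janko.Tree (List ℤ) :=
  (.node (.node (.node (.node (.node (.node (.node (.leaf []) (.leaf [-2, 0, -1, 0, 0, 0, 0, 1, 0, 1])) (.leaf [-43323, -15430, -78180, -31326, 46170, -982, 8623, 17330, 11304, -6339, 314, -42, -438, -52, 19, -1])) (.node (.leaf []) (.leaf [-825, 32, -1884, -794, 1048, 14, 181, 530, -12, -31, 4, 1]))) (.node (.node (.leaf []) (.leaf [-477, 57, -1149, -496, 649, 9, 110, 339, -22, -24, 1])) (.node (.leaf []) (.leaf [-54803651, 8552601, -141531304, -64245118, 82751084, 1266154, 10640320, 44715970, -4152991, -2312077, 161422, 187764, 119025, 11547, -9151, 206, 3])))) (.node (.node (.node (.leaf []) (.leaf [-4149324, -1880767, -3551141, 507790, 344163, -386696, 1538476, -1173310, 891287, 420352, 4460, 50538, -45072, -565, -170, -45, -1])) (.node (.leaf []) (.leaf [93183, -2739909, 16864537, 14111203, -16292662, -1112177, 2756354, -11420536, 343587, 3118512, -88656, 143309, -57919, 8279, -2527, 70, -3]))) (.node (.node (.leaf []) (.leaf [])) (.node (.leaf [-21047, 2873, -50822,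 -21851, 28633, 318, 5019, 14893, -1137, -982, 36, -7, 5, 0, 1]) (.leaf [5530763, -594257, 12480868, 5032740, -6642630, -54550, -1410969, -3373696, 323107, 49130, -6332, -16622, -1550, -998, 464, -8, 1]))))) (.node (.node (.node (.node (.leaf []) (.leaf [-104827, 24539, -286847, -135630, 171427, 4358, 20331, 97416, -10392, -8609, 308, -200, 281, 3])) (.node (.leaf [72160678, 4798072, 141941129, 50595655, -71917698, 1919743, -18094169, -29625202, -1463798, -2333133, -129008, -689694, 144710, -16480, 17920, -234, 1]) (.leaf [-29732486, -17525696, -20845829, 6762086, -285739, -3367130, 10366982, -11797646, 8031353, 3909746, 76820, 567221, -353052, -2427, -7281, -88, -5]))) (.node (.node (.leaf []) (.leaf [4055280, -974201, 11294362, 5408630, -6806773, -199643, -748255, -3896319, 424883, 354880, -15978, 7174, -13367, -251, 86, 1])) (.node (.leaf [30378, -2956, 70162, 29044, -38827, 134, -7430, -19347, 975, 860, 10, -16, 34, 2, -5]) (.leaf [-4177365, 824168, -11213049, -5266153, 6679869, 175953, 798592, 3749015, -352390,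 -331823, 16390, -3212, 10381, 211, -126, -3])))) (.node (.node (.node (.leaf [3983, -2420, 15105, 8298, -10147, -382, -475, -6278, 919, 885, 0, 57, -38, 0, 1]) (.leaf [13, -3, 36, 17, -23, 0, -4, -11, 0, 3])) (.node (.leaf []) (.leaf [-957, 75, -2227, -939, 1237, 10, 215, 634, -34, -27, 4, 1]))) (.node (.node (.leaf []) (.leaf [758, -103, 2125, 1041, -1338, -26, -105, -730, 28, 78, -4, 2, -1])) (.node (.leaf [-10720002, 4216112, -36828418, -20013467, 24475221, 993599, 997601, 15045423, -1552891, -2123917, 59838, -82283, 62840, -1996, 1027, -17, 1]) (.leaf [-10772, -559, -20302, -6935, 9754, -185, 2925, 4179, 188, 253, 32, 40, -29, 3])))))) (.node (.node (.node (.node (.node (.leaf []) (.leaf [-1275758, 327272, -3592432, -1730219, 2170275, 66869, 234086, 1252770, -143150, -116121, 5063, -3184, 4573, 64, -25, -1])) (.node (.leaf [-31154, 10908, -94406, -47284, 58692, 1756, 5366, 34958, -4461, -3708, 12, -97, 122, 2, 7]) (.leaf [-5642125, 432060, -13051845, -5451636, 7170327, 95479, 1291715, 3644681, -259439, -108172,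 26466, 21057, 5986, 1010, -760, -1]))) (.node (.node (.leaf []) (.leaf [-4247, 420, -9768, -4069, 5344, 51, 1029, 2761, -181, -137, 10, 4, -1])) (.node (.leaf [5, 0, 4, 1, 0, 0, -2, -1]) (.leaf [8562, -1448, 21499, 9519, -12308, -186, -1911, -6629, 616, 432, -24, 14, -10])))) (.node (.node (.node (.leaf [7, 0, 12, 4, -5, 0, -2, -3]) (.leaf [3525643, -894334, 9527063, 4424157, -5571779, -154063, -729257, -3185665, 426380, 218985, -8578, 2686, -11743, -579, 92, -5])) (.node (.leaf [-69779, 12148, -177393, -79770, 102338, 1933, 14969, 56102, -5224, -3985, 179, -54, 100, -2, 1]) (.leaf [195814414, -30628444, 510994434, 236537229, -303061440, -6325814, -37750878, -166142361, 12154778, 14455579, -715026, -36468, -319310, -202, 5678, 66, -1]))) (.node (.node (.leaf []) (.leaf [])) (.node (.leaf []) (.leaf [-157381915, 68387301, -462239535, -219750601, 269622012, 10208368, 35155526, 164343055, -34511120, -9477549, 128530, -672073, 981789, 52983, 4430, 562, -5]))))) (.node (.node (.node (.node (.leaf []) (.leaf [-585870968,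 98881041, -1496997615, -676692487, 866984839, 18631249, 122932956, 474918198, -44222138, -34102039, 1876025, 127098, 1082166, 46415, -27008, -362, -9])) (.node (.leaf []) (.leaf [48090108, -1238221, 94372720, 31990509, -44754496, 836976, -13884265, -19284202, 1886396, -2639304, -15122, -377454, 34358, -19346, 9356, -166, 5]))) (.node (.node (.leaf [-1, -1, 0, 0, 0, 1]) (.leaf [120627, -29150, 328957, 155125, -195502, -5429, -24002, -111762, 12593, 9908, -324, 232, -340, -5, 4])) (.node (.leaf []) (.leaf [26166, -5372, 67168, 30321, -38588, -861, -5811, -21541, 2407, 1577, -56, 4, -57, -2, 1])))) (.node (.node (.node (.leaf []) (.leaf [-748452634, 158382746, -2019790353, -949443311, 1202463338, 31443637, 144722340, 678331237, -67946262, -59273926, 2607577, -892438, 1938285, 35123, -13966, -561, -3])) (.node (.leaf [34435, -4836, 84248, 36691, -47904, -563, -7942, -25168, 1892, 1729, -67, 17, -11, 0, -1]) (.leaf [-237436, 51724, -622935, -285503, 362755, 7818, 50156, 203807, -22717, -14836, 138, 7, 415, 34, 11])))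 (.node (.node (.leaf []) (.leaf [259861590, -27531233, 637509440, 282118811, -366944930, -5266684, -54196986, -193537387, 11218783, 13216734, -825308, -529170, -186339, -13278, 19434, 37, 7])) (.node (.leaf [-581, -34, -1221, -489, 665, 1, 125, 312, 22, -14, 0, 2, -1]) (.leaf [2296, -143, 5189, 2135, -2835, -21, -546, -1418, 63, 60, -8, -3, 1])))))))

def twoL68 : Janko.Tree (List ℤ) :=
  (.node (.node (.node (.node (.node (.node (.node (.leaf []) (.leaf [99250459, -11222031, 242326687, 106079265, -138199669, -1698086, -21130907, -72587741, 5144142, 3836293, -283058, -279454, -98765, -11952, 9706, -81, -1])) (.leaf [1])) (.node (.leaf []) (.leaf [6334271, -927991, 18517334, 9629625, -12043170, -493006, -780008, -6981627, 94049, 1264884, -59236, 49183, -10070, 3419, -945, 81]))) (.node (.node (.leaf []) (.leaf [974, -85, 2252, 942, -1240, -18, -237, -631, 38, 40, -6, 0, -1])) (.node (.leaf []) (.leaf [3466947, -291295, 8676310, 3955217, -5128484, -92771, -658181, -2721680, 84280, 258967, -17510, -3214, -2223,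 198, 99, 11])))) (.node (.node (.node (.leaf []) (.leaf [51234, -12049, 138515, 64703, -81789, -2026, -10221, -46473, 5393, 3568, -166, 100, -149, 0, 1])) (.node (.leaf [-2408, -54, -5768, -2559, 3425, 34, 433, 1667, 68, -158, 24, -2, -2, 1]) (.leaf [13111120, -1759775, 32305993, 14257115, -18444524, -310302, -2852096, -9867710, 765944, 651606, -34342, -16356, -13093, -762, 535, 1, 1]))) (.node (.node (.leaf []) (.leaf [77077327, -12401884, 185578929, 78245549, -101817418, -1027500, -18298205, -53665938, 6947893, 430571, -100288, -286998, -143909, -23560, 10890, -270, -1])) (.node (.leaf [1]) (.leaf [-7, -1, -10, -1, 2, 0, 3, 0, 0, 1]))))) (.node (.node (.node (.node (.leaf []) (.leaf [-1453945, 5994614, -15455491, -10141348, 10981429, 1072804, -188036, 8803248, -2876306, -1126182, -5398, -142071, 102911, 1763, 1690, 23])) (.node (.leaf [105368855, 8211263, 223626070, 90692046, -124629200, 771840, -22762510, -56752928, -5849429, 4210479, -394570, -510908, 300130, 11964, 7886, 322, 7]) (.leaf [1]))) (.node (.node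 (.leaf [117, -21, 298, 137, -176, 0, -24, -98, 6, 9]) (.leaf [1])) (.node (.leaf []) (.leaf [-15380, 2624, -38215, -16643, 21306, 483, 3425, 11615, -1544, -331, 117, 17, 47, 2, -1])))) (.node (.node (.node (.leaf [16, -3, 39, 16, -22, 0, -5, -10, 1, 1]) (.leaf [1])) (.node (.leaf [-10992, 2367, -29716, -13882, 17810, 276, 2203, 9822, -880, -879, 24, -34, 16]) (.leaf [47933, -4265, 115101, 50157, -65362, -1211, -10366, -34159, 1834, 2410, -261, -29, -29, -2, 3]))) (.node (.node (.leaf []) (.leaf [-611857799, 107984311, -1597660933, -736306608, 939571315, 22068246, 122526089, 519920774, -45972605, -43211280, 2195857, -236067, 1221312, 22592, -18196, -559, -7])) (.node (.leaf [-799285, 181303, -2329263, -1168537, 1462651, 50021, 122002, 847810, -64051, -109312, 5152, -3417, 2559, -144, 32, -3]) (.leaf [-725618, 152960, -1972020, -934415, 1182228, 31694, 137482, 668729, -63006, -63564, 2695, -1152, 1796, 14, 21, -1])))))) (.node (.node (.node (.node (.node (.leaf []) (.leaf [-93522046, 14731957, -247769368, -116291056,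 148665905, 3227058, 17168858, 81963531, -5583325, -7681091, 367034, 744, 159204, -1256, -2972, -91, 1])) (.node (.leaf [88, -84, 294, 137, -179, 8, -38, -102, 28, 11, 4, 0, 1]) (.leaf [3512, -266, 7627, 3042, -3981, -73, -914, -2056, 139, 91, -9, -5, -1]))) (.node (.node (.leaf []) (.leaf [1])) (.node (.leaf [1]) (.leaf [-89689, 24736, -252916, -121571, 152085, 4688, 17192, 88358, -10965, -8165, 328, -165, 343, 12, 1])))) (.node (.node (.node (.leaf [1]) (.leaf [181, -54, 420, 175, -204, -26, -59, -131, 36, 13, -2, 0, -1])) (.node (.leaf [-2485, 267, -5942, -2560, 3342, 59, 564, 1743, -114, -113, 6, 0, 3]) (.leaf [1047168, -153127, 2910633, 1436485, -1829401, -44094, -160505, -1021279, 31331, 139643, -4988, 3000, -937, 271, -88, 5]))) (.node (.node (.leaf [15732318, -3883274, 38333501, 15743248, -20261274, -266040, -4132629, -10960276, 2395550, -448486, -5682, -64218, -58767, -8681, 2686, -104, -1]) (.leaf [1])) (.node (.leaf []) (.leaf [1]))))) (.node (.node (.node (.node (.leaf [47, -7, 114, 54, -66, 0, -7,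 -42, 2, 3]) (.leaf [22222953, -3499547, 58342128, 27026320, -34646481, -706213, -4185772, -18940133, 1495432, 1480438, -87735, -24602, -44257, -1880, 1702, -15])) (.node (.leaf []) (.leaf [-4573291, 1417180, -12998492, -6191642, 7730088, 243508, 902567, 4510952, -685736, -321188, 14088, -8497, 21303, 890, -263, 13]))) (.node (.node (.leaf [265893222, -31918135, 667059561, 299781922, -388400629, -5834211, -53241527, -206947436, 13325578, 14224454, -859544, -580710, -291527, -20982, 24454, -138, 1]) (.leaf [-76946781, 17657181, -207981899, -97224136, 123036641, 3091543, 15278616, 69595127, -7932544, -5404438, 212076, -58452, 217563, 7553, -2040, 72, -1])) (.node (.leaf []) (.leaf [55287, -11244, 140111, 62649, -79844, -1599, -12528, -44566, 4942, 3081, -47, 32, -90, -6, -1])))) (.node (.node (.node (.leaf []) (.leaf [516032853, -216603156, 1654203987, 847754573, -1037942050, -40878051, -79983096, -635710942, 97251167, 64177543, -1834666, 2913406, -3339387, -65106, -8053, -625, -31])) (.node (.leaf []) (.leaf [22515061,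 12121096, 27535765, 5305246, -12020311, 1831453, -5651703, 553479, -6698936, -44203, -102204, -287928, 263483, 12914, 3060, 180, 7]))) (.node (.node (.leaf [-44, 11, -121, -55, 74, 1, 11, 36, -3, -4, 0, -1]) (.leaf [845420, -639913, 3892203, 2370023, -2823665, -128014, 32311, -1862561, 206001, 329223, -208, 17678, -7665, 563, -288, 3])) (.node (.leaf [-103569633, 7841668, -248315920, -107769645, 141754627, 1060702, 21543814, 72632352, -3396936, -3599101, 317882, 416470, 48440, 11316, -13334, 124, 3]) (.leaf [1])))))))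

def twoL69 : Janko.Tree (List ℤ) :=
  (.node (.node (.node (.node (.node (.node (.node (.leaf []) (.leaf [377650, -71522, 1016650, 482102, -611420, -16266, -71061, -344004, 26818, 36242, -1462, 790, -722, 28, -12, 1])) (.leaf [5695, -500, 14247, 6494, -8363, -187, -1042, -4512, 189, 373, -30, 2, -7])) (.node (.leaf [-1069, 120, -2498, -1051, 1381, 15, 260, 712, -50, -41, 2, 1]) (.leaf [4934, -1770, 15314, 7779, -9617, -353, -798, -5757, 739, 655, -17, 25, -25, 1]))) (.node (.node (.leaf []) (.leaf [-520176, 106785, -1376698, -639125, 811348, 20108, 105947, 455964, -44321, -40357, 1365, -860, 1045, -8, 26, -1])) (.node (.leaf []) (.leaf [10241712, -713195, 23233767, 9573828, -12682612, -104967, -2447019, -6371172, 336453, 255536, -28270, -27840, 865, -820, 533, 9])))) (.node (.node (.node (.leaf []) (.leaf [0, 1])) (.node (.leaf []) (.leaf [0, 1]))) (.node (.node (.leaf []) (.leaf [])) (.node (.leaf [-6585, -371, -14214, -5893, 7869, 133, 1407, 3811, 216, -336, 52, 23, -10, 0, 1]) (.leaf [-72472, 43520, -197935,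 -82389, 100549, 1857, 23355, 62993, -24997, 5510, -845, 170, 485, 88, -14, 1]))))) (.node (.node (.node (.node (.leaf [0, 1]) (.leaf [])) (.node (.leaf []) (.leaf [-95701302, 16824863, -248418284, -113082747, 145066113, 2598896, 19237895, 79309833, -7781753, -4871687, 266709, 143288, 210041, 12610, -9406, 209, 3]))) (.node (.node (.leaf []) (.leaf [-87566, 23318, -249095, -120640, 151363, 4489, 15908, 87450, -9950, -8324, 273, -213, 295, 3, 1])) (.node (.leaf [0, 1]) (.leaf [0, 1])))) (.node (.node (.node (.leaf [0, 1]) (.leaf [-671536, 144831, -1817718, -856223, 1083833, 28101, 129730, 612685, -61317, -54537, 2244, -992, 1681, 39, 28, -1])) (.node (.leaf [-6262, 1421, -19759, -10433, 13112, 399, 629, 7577, -329, -1158, 48, -57, 12, -2, 1]) (.leaf [0, 1]))) (.node (.node (.leaf [0, 1]) (.leaf [0, 1])) (.node (.leaf [-960219, 209835, -2766999, -1377972, 1728532, 57304, 150573, 996836, -74497, -125527, 6118, -3913, 2914, -164, 31, -3]) (.leaf [63, 8, 147, 63, -90, 2, -11, -37, -5, 3, -1])))))) (.node (.node (.node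 (.node (.node (.leaf [0, 1]) (.leaf [0, 1])) (.node (.leaf [1046, -60, 2525, 1107, -1465, -11, -216, -739, 15, 57, -7, -1]) (.leaf [0, 1]))) (.node (.node (.leaf [0, 1]) (.leaf [831655623, -175036227, 2227224227, 1039980065, -1318309955, -34001832, -164408001, -741984029, 76328199, 62272723, -2781828, 879764, -2121464, -50156, 16990, 541, 9])) (.node (.leaf []) (.leaf [1598, -132, 4122, 1968, -2483, -78, -254, -1403, 42, 163, -16, -1, -2])))) (.node (.node (.node (.leaf []) (.leaf [539, -933, 1712, 592, -672, 47, -341, -561, 486, -179, 35, 15, -8, 0, 1])) (.node (.leaf [1236, -612, 3432, 1534, -1785, -225, -440, -1117, 425, 102, -32, -17, -19, -2, 1]) (.leaf [0, 1]))) (.node (.node (.leaf []) (.leaf [-199, 32, -471, -200, 257, 6, 51, 140, -14, -10])) (.node (.leaf [-115777914, 33264821, -339864014, -168045462, 209528798, 6790854, 19361795, 122791371, -14214558, -12352899, 463342, -337806, 477741, 4950, -1245, 14, 3]) (.leaf [2060454, -459604, 5257358, 2328008, -2963806, -65325, -472264, -1650697, 234055, 71201,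 -3124, -1452, -5439, -500, 106, -3]))))) (.node (.node (.node (.node (.leaf []) (.leaf [-6566331, 295286, -16215087, -7352870, 9631980, 119574, 1190679, 4978184, -36782, -445710, 32827, 19786, 436, -222, -622, -3])) (.node (.leaf [311176, -74842, 844900, 394039, -498080, -13589, -63160, -281730, 35224, 21086, -1367, 378, -1127, -42, 1]) (.leaf [-152617, 33808, -411536, -193150, 244357, 6212, 30116, 138465, -14373, -12059, 400, -183, 346, 6, 3]))) (.node (.node (.leaf []) (.leaf [0, 1])) (.node (.leaf [-5, -2, -6, -3, 3, 1, 0, 2, 1]) (.leaf [0, 1])))) (.node (.node (.node (.leaf [0, 1]) (.leaf [479181888, -228918054, 1606464846, 841571995, -1021860380, -44836834, -69228264, -638075399, 101606091, 70349565, -1868818, 3773695, -3555280, -43003, -30535, -237, -25])) (.node (.leaf []) (.leaf [66849, -17415, 185139, 87900, -110295, -3521, -13280, -63496, 7878, 5670, -240, 109, -230, -8, 1]))) (.node (.node (.leaf []) (.leaf [-6218, 1722, -17629, -8532, 10654, 333, 1157, 6228, -741, -600, 19, -16, 22])) (.node (.leaf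 []) (.leaf [-23040517, 3500557, -56262478, -24306084, 31522035, 446497, 5271455, 16760547, -1744951, -674167, 44842, 49098, 32229, 4115, -1567, 42, -1])))))))

def twoL70 : Janko.Tree (List ℤ) :=
  (.node (.node (.node (.node (.node (.node (.node (.leaf []) (.leaf [25668733, -5459229, 72049177, 35082073, -44233854, -1263678, -4345819, -25226850, 2093550, 2727819, -115480, 54362, -69433, 1361, -190, 39, -1])) (.leaf [1025042, -456709, 4119380, 2440254, -2955139, -137413, 20993, -1859539, 125970, 339830, -9115, 13846, -6963, 622, -76, 5])) (.node (.leaf [0, 0, 1]) (.leaf [0, 0, 1]))) (.node (.node (.leaf [-15736, 5197, -45985, -22504, 27916, 882, 2915, 16616, -2284, -1536, 26, -46, 65, 3]) (.leaf [0, 0, 1])) (.node (.leaf []) (.leaf [47, -7, 127, 58, -77, 0, -9, -39, 2, 3])))) (.node (.node (.node (.leaf []) (.leaf [-155543, 30412, -405525, -185443, 237216, 4552, 32596, 131166, -12591, -10280, 294, -173, 247, 2, 5])) (.node (.leaf [52254, -11850, 142343, 67132, -85022, -2094, -10166, -48081, 4972, 4250, -154, 94,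 -130, -1]) (.leaf [9551851, -1473873, 25211090, 11827819, -15115267, -343873, -1771170, -8339599, 539235, 821898, -38980, 5151, -14925, 437, -30, 21]))) (.node (.node (.leaf []) (.leaf [58525484, -16119920, 165661618, 79467854, -99595011, -2892144, -10832709, -57630297, 7462447, 4547193, -184980, 69148, -234300, -9612, 3016, -87, -3])) (.node (.leaf [-697, 72, -1636, -697, 911, 11, 162, 476, -31, -28, 2, 1]) (.leaf [0, 0, 1]))))) (.node (.node (.node (.node (.leaf []) (.leaf [])) (.node (.leaf [0, 0, 1]) (.leaf []))) (.node (.node (.leaf [0, 0, 1]) (.leaf [-12273795, 4640752, -38035508, -19232512, 23639709, 927872, 2026548, 14334493, -2053104, -1493258, 48350, -68168, 69825, 729, 328, -3])) (.node (.leaf [-180, -17, -388, -158, 214, 10, 37, 97, 6, -7, 1]) (.leaf [80481, -5093, 169194, 63395, -86734, 885, -22527, -40497, 2191, -128, 119, -214, 161, 0, -8])))) (.node (.node (.node (.leaf []) (.leaf [-469, 56, -1121, -480, 630, 3, 109, 328, -21, -19, 1])) (.node (.leaf [-5397, 1278, -14557, -6776, 8643, 131, 1106,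 4847, -502, -395, 6, -16, 10]) (.leaf [1635248, 139399, 5828193, 3567827, -4496251, -151601, 189223, -2564611, -311932, 669861, -28761, 10905, 2396, 2312, -255, 31]))) (.node (.node (.leaf [-1898, 223, -4517, -1932, 2535, 23, 448, 1314, -85, -85, 4, 1]) (.leaf [668, -83, 1607, 699, -906, -12, -146, -487, 32, 29, 1])) (.node (.leaf [49120, -8604, 126646, 58085, -73952, -1629, -9906, -41282, 3602, 3275, -62, -39, -38, -10, -3]) (.leaf [0, 0, 1])))))) (.node (.node (.node (.node (.node (.leaf []) (.leaf [-14304764, 9440926, -49558858, -25782653, 30615218, 1762660, 2809128, 20115578, -4423613, -2158870, 40190, -213530, 140690, 1695, 4270, -39, -1])) (.node (.leaf [-1918, 285, -4495, -1880, 2442, 64, 503, 1285, -134, -86, 4, -2, 1]) (.leaf [12722090, -13415859, 55795702, 31676631, -36541627, -2577475, -1741418, -25613895, 6197682, 3243722, -43455, 332900, -213017, -1364, -5831, 37]))) (.node (.node (.leaf []) (.leaf [16497081, -9940060, 57453554, 30194629, -36150533, -1812862, -2683132, -23324854, 4630476, 2386952,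 -40984, 172452, -154783, -3037, -1556, -24])) (.node (.leaf [-181528, 40207, -477835, -219454, 278692, 5882, 38061, 156881, -17643, -11232, -2, 58, 296, 30, 11]) (.leaf [-1690, 19, -3343, -1162, 1634, -36, 475, 705, -26, 60, 0, 6, -3])))) (.node (.node (.node (.leaf [2, 0, 4, 2, -2, 0, 0, -2]) (.leaf [-23188022, 6550255, -63515587, -29422441, 37012147, 986383, 4851520, 21214478, -3301922, -1133831, 60973, -7740, 98330, 5831, -1917, 74, 1])) (.node (.leaf [0, 0, 1]) (.leaf [-1004, 113, -2294, -945, 1232, 38, 266, 636, -57, -46, 4, 0, 1]))) (.node (.node (.leaf [39017496, -7770668, 103084653, 47699070, -60643479, -1500832, -7889447, -33881863, 3386854, 2779070, -130804, 34870, -90468, -1926, 514, 29, 1]) (.leaf [1, 0, 3, 1, -1, 0, 0, -1])) (.node (.leaf []) (.leaf [-490391, 125615, -1360781, -645636, 811445, 24771, 95139, 465399, -57985, -38582, 2068, -906, 1880, 54, -19]))))) (.node (.node (.node (.node (.leaf [0, 0, 1]) (.leaf [0, 0, 1])) (.node (.leaf []) (.leaf [-11869974, 4738277, -37318130, -19009289, 23289998,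 949896, 1938066, 14235412, -2082263, -1533769, 44766, -75368, 70043, 523, 644, -5]))) (.node (.node (.leaf []) (.leaf [-3430569, 1002192, -9956087, -4857308, 6064473, 190354, 603973, 3540859, -453114, -311426, 12753, -7532, 15044, 406, -192, 5])) (.node (.leaf [0, 0, 1]) (.leaf [-139722, 33937, -384510, -182435, 230130, 6031, 27048, 131418, -14390, -11765, 360, -265, 383, 6, 2])))) (.node (.node (.node (.leaf []) (.leaf [354130524, -207875194, 1303819668, 712053280, -854674557, -41750517, -38985423, -548168528, 91130245, 66351846, -1632775, 3859750, -3372804, -24765, -33761, -212, -37])) (.node (.leaf [0, 0, 1]) (.leaf [0, 0, 1]))) (.node (.node (.leaf [0, 0, 1]) (.leaf [-8056200, 1389399, -20341115, -9044755, 11597127, 262436, 1758539, 6320637, -692461, -357422, 30572, 5876, 18708, 1205, -548, 1])) (.node (.leaf [0, 0, 1]) (.leaf [939272632, -112792676, 2211713966, 930030840, -1216300939, -13984604, -221827914, -632270572, 58499774, 19574966, -2025262, -2522446, -895769, -163707, 97265, -610, 31])))))))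

def twoL71 : Janko.Tree (List ℤ) :=
  (.node (.node (.node (.node (.node (.node (.node (.leaf []) (.leaf [231796, -36694, 619276, 294847, -375199, -9862, -42098, -209265, 11798, 24380, -1060, 522, -316, 39, -14, 1])) (.leaf [])) (.node (.leaf []) (.leaf []))) (.node (.node (.leaf [-2038, 177, -4404, -1736, 2280, 18, 534, 1179, -90, -26, 2, 4, -1]) (.leaf [])) (.node (.leaf [60, -9, 151, 67, -89, 0, -13, -45, 3, 3]) (.leaf [111996664, -70822882, 404842390, 216446918, -258731351, -12994429, -15947923, -167537042, 32863346, 17504079, -351648, 1225892, -1143947, -25270, -8922, -146, -11])))) (.node (.node (.node (.leaf []) (.leaf [-341845381, 75526385, -910092549, -420577353, 533410854, 13160281, 70024356, 299931153, -34598143, -21904034, 953668, -199423, 927044, 38948, -11035, 196, -5])) (.node (.leaf [0, 0, -1, 0, 1]) (.leaf [-7063060, 1181759, -13842375, -4250658, 5885211, -144015, 2420564, 2632083, -948627, 794914, -29652, 59783, 7032, 5348, -1391, 85, -1]))) (.node (.node (.leaf []) (.leaf [11, -3, 27, 13,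 -17, 1, -3, -9, 1, 1])) (.node (.leaf [22659225, -5143763, 60068576, 27612783, -34990602, -882711, -4751263, -19712867, 2402284, 1371978, -57774, 13446, -63093, -3038, 846, -16, 1]) (.leaf [1827, 608, 2990, 1086, -1472, -70, -380, -635, -285, 126, -26, -24, 8, 0, -1]))))) (.node (.node (.node (.node (.leaf []) (.leaf [493752, -121693, 1418939, 698692, -877652, -25527, -83273, -506305, 45950, 57147, -1814, 1617, -1382, 34, -26, 1])) (.node (.leaf [30637094, -1056681, 65357970, 25217013, -34164511, 93222, -7824966, -16167884, 695997, -64937, -52727, -144560, 24292, -4945, 3348, -16, 3]) (.leaf [-18527752, 22542271, -90420983, -52500287, 60600234, 3851832, 1292593, 42417386, -10918884, -4279704, 26388, -362612, 393216, 11793, 1154, 292, 1]))) (.node (.node (.leaf [6347243, -917507, 15089693, 6375500, -8286441, -123486, -1532558, -4378657, 466308, 158475, -10766, -11312, -6935, -1022, 500, -8, 1]) (.leaf [-3897, 1604, -13307, -7104, 8755, 318, 440, 5286, -630, -672, 18, -26, 26, -1])) (.node (.leaf []) (.leaf [-74293870,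 11313714, -194416507, -89755280, 115456212, 1947067, 13914429, 62676927, -4814972, -4524780, 232880, 156374, 130474, 8024, -7614, 193, -3])))) (.node (.node (.node (.leaf []) (.leaf [2421051, -615265, 6837721, 3306086, -4149514, -121257, -434497, -2395078, 262272, 225215, -7487, 4764, -7910, -121, 60, -1])) (.node (.leaf [33, -32, 112, 53, -65, -7, -16, -37, 15, 6, 1]) (.leaf [-575287, 89239, -1431267, -633484, 815852, 16766, 127815, 441068, -39978, -30415, 1891, -106, 775, 41, 11, -1]))) (.node (.node (.leaf []) (.leaf [-894, -17, -1975, -805, 1084, 9, 196, 514, 1, -17, 9, 3])) (.node (.leaf [3377, -279, 7506, 3030, -3995, -51, -858, -2032, 136, 80, -8, -3]) (.leaf [-1, -1, -1, 0, 0, 1])))))) (.node (.node (.node (.node (.node (.leaf []) (.leaf [-4, -32, 327, 266, -331, -13, 57, -193, 0, 50, -4, 2, -1])) (.node (.leaf [-892, 66, -2061, -866, 1139, 10, 201, 585, -32, -23, 4, 1]) (.leaf [246357, -52694, 642131, 292918, -372499, -7903, -52571, -208843, 23261, 14807, -128, -21, -412, -34, -11]))) (.node (.node (.leaf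 []) (.leaf [111191177, -30751923, 326088430, 161865655, -201901247, -6744411, -18405340, -118184861, 12588558, 12948904, -506570, 410670, -429720, 3357, -4148, 133, -3])) (.node (.leaf []) (.leaf [2843614, -791297, 8202580, 4014587, -5009894, -169119, -504373, -2927087, 339163, 298416, -12382, 9847, -11209, -58, -25, 3])))) (.node (.node (.node (.leaf [43108055, -4722516, 99378341, 40610110, -53674562, -146430, -10369874, -27179368, 2803560, -164918, -53146, -220104, -41070, -12412, 7230, -145, -1]) (.leaf [7786358, -1996402, 21580707, 10225459, -12868790, -357099, -1501059, -7373676, 914028, 580335, -24566, 10608, -27615, -929, 324, -7])) (.node (.leaf [-4400, 564, -10339, -4361, 5662, 107, 1056, 3003, -273, -143, 11, -4, 3]) (.leaf [227656, -29377, 602752, 286816, -366079, -10384, -40537, -202041, 8317, 25168, -1615, 764, -340, 63, 0, 1]))) (.node (.node (.leaf [-3082, 289, -6884, -2785, 3669, 34, 780, 1881, -136, -63, 2, 4, -1]) (.leaf [])) (.node (.leaf [-2224, 208, -4870, -1941, 2552, 18, 581, 1317, -98,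 -41, 2, 4, -1]) (.leaf [17130402, 5459813, 26587407, 7322105, -12375075, 1062203, -4296309, -2660911, -2687911, -698122, -55406, -229547, 112737, 630, 4539, 19]))))) (.node (.node (.node (.node (.leaf []) (.leaf [-37, -44, 58, 46, -81, 26, 19, -27, 12, -15, 4, 0, 1])) (.node (.leaf []) (.leaf [-152870, 44908, -445243, -218563, 271769, 9583, 26625, 159981, -20167, -15256, 636, -421, 679, 14, -5]))) (.node (.node (.leaf [-3, -1, -5, -2, 3, 1, 0, 1]) (.leaf [-583338, 143139, -1631413, -785951, 985799, 30850, 107079, 569091, -60822, -55926, 2294, -1444, 1870, 10, 6, -1])) (.node (.leaf [-111974973, 13404712, -271743494, -118696068, 154007555, 2647438, 24762314, 81658991, -5880083, -5336930, 352476, 126588, 96826, 7309, -4918, -167, -5]) (.leaf [346666, -66618, 993934, 499575, -627722, -19454, -50903, -361982, 18124, 50397, -1501, 1517, -565, 99, -21, 2])))) (.node (.node (.node (.leaf []) (.leaf [-16, 4, -41, -18, 24, -1, 5, 12, -2, -1, 0, 1])) (.node (.leaf []) (.leaf [-988, 4, -2243, -956, 1278, -13, 199, 641,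 23, -43, 3, 0, -1]))) (.node (.node (.leaf []) (.leaf [-7272, 1857, -20210, -9667, 12128, 357, 1392, 7010, -795, -659, 22, -16, 23])) (.node (.leaf [3053, -1333, 11839, 6719, -8261, -361, -93, -4980, 492, 764, -46, 32, -26, 1]) (.leaf [842502255, -78596605, 1907425239, 773708856, -1023525192, -6884286, -207845193, -516185910, 44241047, 6423526, -1611532, -3006923, -386610, -164289, 99671, -585, 35])))))))

def twoL72 : Janko.Tree (List ℤ) :=
  (.node (.node (.node (.node (.node (.node (.node (.leaf [1]) (.leaf [-69134052, 16926455, -195307348, -94662983, 118899772, 3541384, 12226872, 68435663, -7124370, -6702854, 275820, -147246, 228049, 1866, -701, -39, 1])) (.leaf [361868, -87361, 918116, 401058, -510411, -11477, -87771, -284161, 46040, 9670, -603, -314, -1077, -112, 0, -1])) (.node (.leaf [6065, -542, 14490, 6249, -8253, -71, -1355, -4209, 169, 298, -17, 3, 5]) (.leaf [123439022, -26780984, 312076995, 137993108, -175323737, -4712112, -29124827, -97979792, 13138163, 5858185, -327300, 161893, -311146, -14064,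 209, 122, 5]))) (.node (.node (.leaf [0, -13, 22, 13, -16, 0, -2, -10, 6, 1]) (.leaf [-41, 28, -135, -68, 83, 1, 9, 53, -11, -4, -1])) (.node (.leaf [1]) (.leaf [-11875530, 1998841, -30566816, -13893872, 17800116, 380176, 2438535, 9747532, -895000, -705064, 41758, 4900, 23608, 1063, -435, -7])))) (.node (.node (.node (.leaf [1]) (.leaf [553405352, -95957623, 1424718752, 647803974, -828666089, -18377327, -114626363, -455710171, 42637916, 33807376, -1826102, -32480, -1081224, -41518, 24881, 363, 5])) (.node (.leaf [77480118, 3127891, 156436342, 58454015, -80990527, 696691, -19737505, -35968098, -1678734, 516450, -223280, -356604, 166088, -782, 4928, 257, 3]) (.leaf [-39268937, 16150442, -127927149, -65968279, 81142039, 2784066, 5337434, 49176414, -7398591, -4428901, 124539, -108415, 266084, 9396, -3496, 231, 3]))) (.node (.node (.leaf []) (.leaf [1])) (.node (.leaf [-98014, 24841, -274102, -131475, 165371, 4551, 18361, 95067, -10498, -8857, 294, -215, 300, 4, 1]) (.leaf [1]))))) (.node (.node (.node (.node (.leaf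 [-4, 0, -6, -2, 2, 0, 1, 2]) (.leaf [-164453168, 36652332, -441147857, -205049292, 259845142, 6485282, 33006567, 146367721, -16756440, -10892059, 481578, -73586, 460889, 19682, -4854, 161, -1])) (.node (.leaf []) (.leaf [-3708103, -1535937, -1652790, 1925617, -1465510, -446070, 1767966, -2179989, 531406, 862082, -12051, 59947, -37608, 1531, -525, -19, -1]))) (.node (.node (.leaf [192095, -5579, 417194, 164758, -221803, -2684, -48679, -105775, 3264, 4215, -1282, 40, -13, 9, 8, 1]) (.leaf [3176, -186, 8098, 3739, -4895, -75, -563, -2533, 27, 266, -31, 1, 1, 1])) (.node (.leaf [133396113, -34732460, 377216179, 181191522, -228024884, -5934086, -24044554, -130746490, 15720314, 10389358, -401360, 59186, -494417, -16143, 7898, -466, -5]) (.leaf [2053373, 1165715, 2118332, 123384, -711408, 235494, -573875, 354859, -612412, -130966, -2531, -33316, 25482, 732, 391, 11])))) (.node (.node (.node (.leaf []) (.leaf [-14022050, 4315394, -42899283, -21868425, 27123697, 927184, 2057059, 16123338, -1695382, -1902741, 54878, -58918,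 57943, -770, 534, -5])) (.node (.leaf []) (.leaf [-872331311, 178500821, -2323663776, -1081255155, 1372584655, 34395772, 173208783, 769820334, -78000780, -63318190, 2857126, -688729, 2133480, 57895, -23343, -418, -13]))) (.node (.node (.leaf []) (.leaf [1])) (.node (.leaf [1]) (.leaf [102383782, -22465620, 277750549, 130880222, -165493617, -4487278, -19804871, -93698857, 9719256, 8241991, -372296, 149282, -284369, -4533, 1356, 81])))))) (.node (.node (.node (.node (.node (.leaf []) (.leaf [-87734276, 14236933, -234905927, -111011132, 141799606, 3039720, 15675458, 78363172, -5379298, -7387887, 350538, 6246, 162147, -1067, -2916, -56, 3])) (.node (.leaf [1]) (.leaf [-118194539, 47308270, -387373153, -203967900, 249088599, 11012936, 16040645, 153332856, -19051177, -20241577, 691161, -1054443, 716889, -16107, 16442, -493, 9]))) (.node (.node (.leaf []) (.leaf [141610425, -19747953, 358953635, 162067405, -209075866, -3561955, -28629254, -112633049, 8472291, 7885075, -453397, -215781, -201729, -10862, 10182, -28, -1]))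 (.node (.leaf [41936845, -1857933, 96151844, 40167107, -53500841, -128000, -9202627, -26498062, 924432, 787814, -117308, -216497, 3428, -6278, 6747, -56, -1]) (.leaf [73067, -18617, 217652, 109951, -137077, -4524, -10382, -80322, 7284, 9212, -414, 229, -263, 3, -3])))) (.node (.node (.node (.leaf []) (.leaf [-35287, 8876, -89359, -38836, 49292, 1354, 8706, 27613, -4722, -879, 40, -48, 107, 10, 1])) (.node (.leaf [41813981, -13897632, 130071881, 66799932, -82399331, -3194882, -6075842, -49527850, 5631110, 5988099, -205590, 229918, -203350, 2514, -1582, 54, -1]) (.leaf [10213052, -1607791, 26185139, 11907516, -15278619, -321294, -2081533, -8334695, 696665, 636291, -37697, -3872, -17982, -665, 286, 11]))) (.node (.node (.leaf [1]) (.leaf [1])) (.node (.leaf [1]) (.leaf [-362201373, 44225456, -908630413, -408925541, 528937243, 8901124, 73164578, 282890042, -18036833, -21021909, 1250746, 561513, 395480, 16409, -25463, -72, -5]))))) (.node (.node (.node (.node (.leaf []) (.leaf [-1556569, 412468, -4079509, -1820580,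 2305959, 50148, 353588, 1301173, -219023, -36618, 786, 2630, 5449, 595, -120, 7])) (.node (.leaf [4694, -408, 10384, 4157, -5492, -60, -1209, -2784, 204, 86, -8, -6, 2]) (.leaf [0, 0, -2, 0, -1, 0, 0, 0, 0, 0, 0, 0, 0, 1]))) (.node (.node (.leaf []) (.leaf [-1893, -130, -3023, -793, 1100, 51, 612, 444, -42, 118, 10, 12])) (.node (.leaf [1]) (.leaf [1090072282, -264876762, 3032191865, 1451037815, -1826042706, -52383841, -203151143, -1046584257, 113901042, 96284669, -3833796, 2125306, -3421040, -50216, 5768, 323, 11])))) (.node (.node (.node (.leaf []) (.leaf [])) (.node (.leaf []) (.leaf [52641, -15032, 140661, 63973, -80680, -1947, -11942, -46220, 7215, 2533, -26, 119, -169, -8, -1]))) (.node (.node (.leaf [541168634, -118748678, 1467738198, 691087284, -874326109, -23379654, -104874073, -494362248, 51552886, 42982943, -1907644, 666221, -1491202, -24403, 6843, -38, 17]) (.leaf [-47000, 12356, -122419, -54715, 69022, 2072, 11020, 39251, -6298, -1961, 70, -84, 155, 14, 1])) (.node (.leaf [339310304, -77194552, 913361541,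 425551587, -538694974, -13677810, -67996891, -304337757, 35062665, 23148542, -983247, 256868, -970725, -36941, 11088, -207, 3]) (.leaf [-16665387, 10885748, -70247001, -40966404, 48935706, 2466978, 133321, 31706821, -4449027, -4497367, 121728, -197957, 194537, -1001, 267, 79, 3])))))))

def twoL73 : Janko.Tree (List ℤ) :=
  (.node (.node (.node (.node (.node (.node (.node (.leaf []) (.leaf [234990, -37213, 626762, 297960, -379267, -9888, -42920, -211413, 12018, 24469, -1054, 524, -316, 37, -14, 1])) (.leaf [-2426752, 792785, -6853060, -3228194, 4025770, 125480, 502662, 2356717, -395659, -141754, 5783, -4242, 12007, 642, -143, 5])) (.node (.leaf []) (.leaf [98598, -22842, 269374, 127312, -160799, -4331, -19127, -91408, 9806, 8092, -299, 167, -264, -4, -1]))) (.node (.node (.leaf [0, 1]) (.leaf [0, 1])) (.node (.leaf [139, -68, 373, 159, -206, -4, -54, -111, 29, 13, 1]) (.leaf [38155421, 2517553, 81930166, 33228697, -45568606, 331518, -8090060, -20811184, -1545371, 957590, -153472, -248333, 75329, 182, 6168, 27]))))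 (.node (.node (.node (.leaf []) (.leaf [-244311748, 62020737, -669227229, -314474521, 395924292, 11119621, 48759368, 226618987, -28591732, -17485514, 725832, -367425, 824977, 32055, -6600, 27, 3])) (.node (.leaf [0, 1]) (.leaf [-253052453, 65449782, -694846208, -326746632, 411054933, 11665099, 50569347, 235723737, -30310046, -18054071, 742109, -393992, 877175, 34840, -7094, 58, 3]))) (.node (.node (.leaf [0, 1]) (.leaf [99515, -24940, 277408, 132798, -167127, -4577, -18747, -95939, 10550, 8894, -300, 213, -300, -4, -1])) (.node (.leaf [61, -8, 157, 71, -93, 1, -13, -48, 3, 3, 0, -1]) (.leaf [-644890, 59393, -1742469, -840134, 1080503, 18631, 89578, 584949, -19181, -53575, 4333, 2122, 1389, 16, -192, -1]))))) (.node (.node (.node (.node (.leaf []) (.leaf [493062, -121561, 1417274, 697982, -876731, -25514, -83094, -505812, 45896, 57115, -1816, 1617, -1382, 34, -26, 1])) (.node (.leaf [-14, 5, -41, -19, 27, -1, 4, 12, -1, -2]) (.leaf [0, 1]))) (.node (.node (.leaf []) (.leaf [0, 1])) (.node (.leaf []) (.leaf [-28655399,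 55065, -69420292, -30941938, 41211349, -20870, 4878954, 20427134, 245128, -1157904, 121738, 204103, -5850, 2852, -6232, 81, 5])))) (.node (.node (.node (.leaf []) (.leaf [33451082, -3954883, 71276046, 26479505, -35322278, -158162, -9646307, -17405132, 2611821, -829341, -15134, -119645, -17747, -10563, 3046, -48, 5])) (.node (.leaf [-2968, 117, -6724, -2779, 3716, 15, 672, 1825, -47, -69, 11, 6, -2]) (.leaf [0, 1]))) (.node (.node (.leaf []) (.leaf [0, 0, 0, 0, -1, 1])) (.node (.leaf []) (.leaf [0, 1])))))) (.node (.node (.node (.node (.node (.leaf []) (.leaf [88173339, -30590215, 267944426, 134380315, -166031770, -6095307, -14750625, -99488179, 13317266, 10317028, -328214, 418956, -441877, -3150, -2794, -55, -1])) (.node (.leaf []) (.leaf [-3341, 303, -7764, -3242, 4301, 7, 775, 2176, -126, -74, 6, 3, -2]))) (.node (.node (.leaf []) (.leaf [0, 1])) (.node (.leaf []) (.leaf [0, 1])))) (.node (.node (.node (.leaf [0, 1]) (.leaf [0, 1])) (.node (.leaf []) (.leaf [3255, -1347, 12785, 7287, -9019, -337, 0, -5374,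 477, 767, -39, 33, -25, -1]))) (.node (.node (.leaf [7, -1, 10, 4, -4, -1, -2, -3, 1]) (.leaf [])) (.node (.leaf []) (.leaf [40484793, -9586738, 111558977, 53333144, -66914361, -2229476, -7767159, -38562945, 4021496, 3981877, -181346, 139751, -124378, 1540, -602, 117, 1]))))) (.node (.node (.node (.node (.leaf []) (.leaf [1227, -108, 2409, 831, -1100, -25, -380, -548, 83, -30, 1, -2])) (.node (.leaf [52851, -12914, 144626, 68227, -86401, -1978, -10442, -49094, 5213, 4334, -42, 166, -123, 6, 3]) (.leaf [0, 1]))) (.node (.node (.leaf [0, 1]) (.leaf [269486382, -59642722, 723010410, 336840099, -426494444, -11025245, -54001165, -240739355, 26763246, 19052431, -834024, 241710, -741305, -24650, 7496, -18, 3])) (.node (.leaf [4214760, -1293691, 12010682, 5743492, -7169033, -227289, -820370, -4186331, 617604, 314578, -13555, 8598, -19293, -698, 206, -11]) (.leaf [-84826075, 24568068, -243777417, -118172354, 147792122, 4418505, 15462348, 86044128, -10987025, -7504335, 244060, -164128, 333830, 8303, -1053, 229, -5]))))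 (.node (.node (.node (.leaf [0, 1, 0, 0, 1, -1]) (.leaf [0, 1])) (.node (.leaf [0, 1]) (.leaf [3530, -182, 8008, 3320, -4398, -41, -806, -2211, 83, 93, -15, -3]))) (.node (.node (.leaf [-520, 16, -1288, -613, 754, 65, 97, 431, -13, -79, 12, -1, 3]) (.leaf [0, 1])) (.node (.leaf [302820978, -30943435, 740429805, 326420377, -425364636, -5598101, -63185567, -223240904, 12959143, 14194563, -964093, -736871, -221143, -21963, 25898, -41, 3]) (.leaf [30374889, 2911696, 60824799, 22850274, -32174937, 599540, -7097061, -13631984, -1494963, 41577, -96350, -231036, 81622, -950, 5121, 21])))))))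

def twoL74 : Janko.Tree (List ℤ) :=
  (.node (.node (.node (.node (.node (.node (.node (.leaf []) (.leaf [-7260468, -143829, -12136192, -3135831, 4760106, -209663, 2484978, 1582389, -163884, 606969, -4764, 50826, -16174, 2560, -828, -1, -1])) (.leaf [0, 0, 1])) (.node (.leaf []) (.leaf [64444699, -97874540, 316799708, 179215011, -201518201, -16050226, -12305105, -149347620, 48698133, 13831699, 86412, 2094815, -1599577, -44279, -32823, -425, -5]))) (.node (.node (.leaf [332, -42, 878, 410, -534, -3, -57, -284, 11, 24, -1]) (.leaf [-55, 29, -162, -79, 98, 1, 13, 60, -11, -5, -1])) (.node (.leaf [71, -11, 183, 83, -110, 0, -15, -56, 3, 5]) (.leaf [39928711, 2168547, 86554143, 35347226, -48266205, 267700, -8460993, -22314499, -1394079, 1077459, -158234, -246637, 71916, 87, 6124, 29])))) (.node (.node (.node (.leaf []) (.leaf [-9551851, 1473873, -25211089, -11827819, 15115267, 343873, 1771170, 8339599, -539235, -821898, 38980, -5151, 14925, -437, 30, -21])) (.node (.leaf [18592538, -6642950, 65218332, 36256519, -44274410,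 -1977751, -1174526, -27229811, 2191812, 4340301, -160614, 165588, -109599, 6116, -1834, 98, -3]) (.leaf [58968344, 4286363, 112156760, 38796201, -55172596, 933671, -15829843, -22558289, -1618248, -1012397, -189138, -371649, 136219, -5544, 7022, 170, -1]))) (.node (.node (.leaf []) (.leaf [-39, 5, -92, -41, 50, 0, 7, 32, -2, -1])) (.node (.leaf [0, 0, 1]) (.leaf [-6, -1, -7, -1, 2, 0, 2, 0, 0, 1]))))) (.node (.node (.node (.node (.leaf [0, 0, 1]) (.leaf [0, 0, 1])) (.node (.leaf [-24, 7, -69, -33, 45, 0, 6, 21, -2, -3]) (.leaf []))) (.node (.node (.leaf []) (.leaf [-771, 118, -1073, -162, 259, -79, 329, 113, -53, 102, -23, 7, -3, -1])) (.node (.leaf [-3157353956, 624245951, -8231721727, -3757283226, 4787438437, 110076381, 658130582, 2660200759, -286318889, -186496364, 9113914, -257715, 7374332, 352904, -137509, 136, -39]) (.leaf [330123, -79979, 922461, 441802, -556767, -15676, -60985, -317684, 34936, 28695, -1483, 614, -1161, -19, -7])))) (.node (.node (.node (.leaf []) (.leaf [23, 7, 44, 20, -23, 0, 2, -17,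 -2, -3])) (.node (.leaf [91283, -36805, 224082, 88870, -111110, -1679, -28212, -65267, 22091, -5989, 812, -492, -344, -90, -2, -1]) (.leaf [124427776, -54061690, 422550466, 225349300, -274572106, -11834489, -14676342, -169954938, 22575065, 21084889, -702878, 978882, -879935, 3559, -5535, 176, -19]))) (.node (.node (.leaf [0, 0, 1]) (.leaf [6, 1, 8, 1, -2, 0, -2, 0, 0, -1])) (.node (.leaf [100706684, -13217915, 249351494, 110135242, -142714551, -2156581, -21348608, -75960542, 6153816, 4230844, -288930, -236876, -132218, -13418, 9974, -99, 1]) (.leaf [-15951437, 3958872, -43349288, -20284047, 25554255, 722230, 3236284, 14601185, -1816952, -1142951, 47444, -24884, 51251, 1759, -308, -1])))))) (.node (.node (.node (.node (.node (.leaf [0, 0, 1]) (.leaf [0, 0, 1])) (.node (.leaf [-94, 15, -248, -116, 150, 0, 17, 82, -4, -7]) (.leaf [-14164636, 3516271, -38706876, -18219130, 22926248, 673357, 2832812, 13133115, -1586511, -1100146, 47286, -28341, 45927, 1133, -134, -9]))) (.node (.node (.leaf [0, 0, 1]) (.leaf [5213149,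 -497803, 11500569, 4531709, -6016042, -37684, -1365758, -3006724, 288406, 5265, -5498, -18046, -467, -1027, 486, -8, 1])) (.node (.leaf [178057027, -3028689, 397773574, 163739897, -219285076, -683225, -39873839, -106778672, 1282871, 3987153, -626188, -866670, 96384, -15247, 24159, 29, 5]) (.leaf [-318, 48, -781, -336, 443, 6, 81, 226, -19, -19, 1])))) (.node (.node (.node (.leaf []) (.leaf [43629, -11907, 118747, 55405, -69574, -2060, -9315, -40097, 5452, 3201, -80, 80, -140, -10, 1])) (.node (.leaf [25505353, -5443154, 71634437, 34889489, -43986931, -1256807, -4314796, -25092397, 2089344, 2711591, -114436, 54098, -69307, 1329, -186, 38, -1]) (.leaf [4408312, -911101, 11699894, 5417475, -6881687, -172705, -891702, -3852081, 405552, 305558, -15026, 4032, -11206, -311, 168, 1]))) (.node (.node (.leaf [890, -31, 2190, 977, -1312, 14, -166, -647, -12, 52, -6, 0, 1]) (.leaf [7714583, -1596672, 20576999, 9567359, -12158093, -277100, -1520128, -6809510, 704508, 520424, -18024, -1230, -17385, -1049, 114, -3])) (.node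 (.leaf [5958, -1736, 18345, 9335, -11644, -430, -861, -6790, 714, 801, -48, 30, -27]) (.leaf [-41101539, 9742135, -113265090, -54141891, 67931967, 2259354, 7886902, 39145591, -4092062, -4030692, 183735, -140888, 126585, -1482, 583, -117, -1]))))) (.node (.node (.node (.node (.leaf []) (.leaf [4611831, -1030699, 12076349, 5485719, -6960315, -176270, -994757, -3903395, 502419, 239308, -13022, 984, -13426, -801, 164, -3])) (.node (.leaf [-100333, 23313, -274674, -130099, 164137, 4338, 19133, 93626, -10044, -8112, 294, -158, 273, 4, 1]) (.leaf [-72095, 17443, -197657, -93481, 117989, 3067, 14133, 67279, -7433, -5953, 191, -136, 198, 3]))) (.node (.node (.leaf []) (.leaf [128639, -22836, 371511, 187884, -235478, -8952, -18178, -135486, 6796, 19746, -1208, 634, -388, 38, -8, 1])) (.node (.leaf [-16, 13, -57, -28, 36, 0, 5, 20, -6, -1]) (.leaf [-182250445, 45865532, -535911392, -267710630, 335015358, 10535457, 27832879, 194483455, -18185656, -21585931, 908604, -465558, 673260, -5703, -1516, -73, 7])))) (.node (.node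 (.node (.leaf [0, 0, 1]) (.leaf [1878, -175, 4558, 1986, -2634, 6, -404, -1339, 46, 88, -5, -1, 1])) (.node (.leaf []) (.leaf [-11144075, 4125290, -36523846, -19309846, 23714796, 911789, 1340323, 14434378, -1597934, -1863033, 49138, -68326, 59117, -1280, 538, 5]))) (.node (.node (.leaf []) (.leaf [275648, -61040, 742118, 347566, -439988, -11212, -54832, -248889, 26052, 21523, -768, 416, -665, -13, -3])) (.node (.leaf [208301992, -50484106, 588289577, 284012583, -358093881, -9160940, -36329665, -204481183, 21728460, 17871075, -659296, 145270, -674680, -20299, 10058, -330, -3]) (.leaf [59201452, -13333454, 164385680, 79242942, -99621072, -3150007, -10777006, -57156884, 5391371, 6073202, -273835, 174660, -173393, 3022, -444, 147, 1])))))))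

def twoL75 : Janko.Tree (List ℤ) :=
  (.node (.node (.node (.node (.node (.node (.node (.leaf []) (.leaf [-15180882, 850988, -32052977, -12114206, 16359203, 2063, 4093631, 7801484, -568528, 123723, 26005, 58500, -6579, 2851, -1067, -12, -1])) (.leaf [47474284, -11076429, 130068402, 61501908, -77622815, -2113367, -9105212, -44153251, 4911555, 3715101, -158940, 55685, -144483, -4080, 1298, -17])) (.node (.leaf [28, 0, 66, 29, -40, 0, -8, -17, -2, 4]) (.leaf [5537, -1915, 17404, 8900, -11091, -351, -850, -6526, 750, 779, -22, 28, -25, 1]))) (.node (.node (.leaf []) (.leaf [3903923, -854173, 10220988, 4648803, -5900001, -150705, -834835, -3305006, 415961, 206294, -11611, 368, -11298, -734, 224, -1])) (.node (.leaf []) (.leaf [-2677595, 935968, -6725075, -2842233, 3516085, 137149, 769746, 2095449, -519406, -30652, 2556, -11006, 13004, 968, 129, -15])))) (.node (.node (.node (.leaf []) (.leaf [6645, -3200, 21839, 11351, -13669, -683, -1063, -8652, 1494, 940, -26, 30, -55, -2, 1])) (.node (.leaf [-37270323, 8039192,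 -101205527, -47795045, 60450782, 1638205, 7139793, 34206297, -3424604, -3094637, 141698, -58806, 101169, 970, -232, -41]) (.leaf [-89437766, 39646784, -276607638, -136825744, 167473698, 6447985, 16929137, 102664804, -19235133, -7721087, 179874, -435381, 609328, 25866, -975, 212, 7]))) (.node (.node (.leaf []) (.leaf [112322406, -42521645, 353775636, 181137176, -222704812, -8607846, -17349390, -135091646, 18071418, 15165884, -449532, 677943, -620132, 945, -7958, 1, -4])) (.node (.leaf []) (.leaf [-41259, 4626, -108050, -50936, 65528, 1082, 6942, 35679, -1303, -3488, 146, 44, 0, 4, 3]))))) (.node (.node (.node (.node (.leaf []) (.leaf [-2045287, -3617342, 7696706, 7595618, -8231915, -612438, 1954279, -6661389, 1436496, 1262493, 8744, 73992, -69555, 330, -770, -81, -1])) (.node (.leaf [6532848, -885076, 18885538, 9635485, -12201388, -367763, -813135, -6875829, 130930, 1054857, -49430, 22820, -10268, 2474, -208, 25, 1]) (.leaf [89035, -11621, 235585, 111977, -143502, -3349, -15932, -78702, 2904, 9668, -377, 167,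 -71, 24, -7]))) (.node (.node (.leaf [-5, 0, -6, -1, 1, 0, 2, 1]) (.leaf [-5998, 1882, -18275, -9231, 11516, 349, 948, 6761, -737, -778, 23, -25, 25, -1])) (.node (.leaf [2224, -208, 4868, 1941, -2551, -18, -581, -1317, 98, 41, -2, -4, 1]) (.leaf [640432638, -221698754, 1889158374, 924655306, -1144638638, -40770567, -120016798, -682794708, 101288849, 61527983, -1950617, 2723495, -3148291, -74892, -16840, -142, -3])))) (.node (.node (.node (.leaf [21, -5, 52, 21, -29, 0, -7, -13, 2, 1]) (.leaf [718629506, -171358234, 1943422005, 905652455, -1144604597, -29694705, -144691090, -649108550, 79487810, 47177123, -2058174, 599622, -2244934, -100905, 31340, -441, -5])) (.node (.leaf [-2644, 93, -5885, -2397, 3197, 31, 619, 1572, -50, -57, 11, 6, -1]) (.leaf [-39387, 18137, -136546, -73460, 89009, 4064, 4302, 55651, -7927, -6715, 244, -218, 322, 6, -3]))) (.node (.node (.leaf []) (.leaf [-11904, 7292, -42693, -22899, 27504, 875, 1354, 17789, -3322, -1408, -149, 52, 73, 14, 3])) (.node (.leaf [29377, -7257, 83801, 37800,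 -49917, -378, -5947, -25013, 4452, -140, -470, 42, -277, -13, 2]) (.leaf [-14610480, 702080, -30119943, -11040626, 15035470, -54018, 4060129, 7006125, -534601, 265405, 19698, 63831, -9129, 3216, -1092, -8, -1])))))) (.node (.node (.node (.node (.node (.leaf []) (.leaf [])) (.node (.leaf []) (.leaf [454, -62, 891, 318, -397, -33, -160, -219, 41, 20, -2, -1, -1]))) (.node (.node (.leaf []) (.leaf [415, 11, 833, 348, -412, -64, -109, -248, 6, 56, -8, 1, -1])) (.node (.leaf []) (.leaf [142502, -28226, 366658, 163507, -208547, -5525, -31259, -114488, 15674, 5203, -1018, -99, -580, -35, 7])))) (.node (.node (.node (.leaf [-4098, 581, -10233, -4525, 5916, 60, 899, 3104, -214, -220, 8, -5, 1]) (.leaf [])) (.node (.leaf [448132, -76193, 1175860, 547715, -698297, -16980, -87675, -387938, 28746, 38066, -1568, 722, -670, 38, -12, 1]) (.leaf [8782716, -1224396, 22217884, 10031884, -12923989, -250333, -1798614, -6978974, 517327, 530551, -32618, -6651, -12440, -494, 245, 11]))) (.node (.node (.leaf []) (.leaf [])) (.node (.leaf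 [140257, -24188, 304790, 113843, -152101, 2383, -41325, -76611, 13058, -4894, 918, -682, 120, -57, -4, -1]) (.leaf [-713523, 188593, -2000295, -956724, 1199087, 38177, 135633, 692433, -86126, -60209, 2955, -1483, 2797, 74, -25]))))) (.node (.node (.node (.node (.leaf [5, 0, 6, 1, -1, 0, -2, -1]) (.leaf [1303, -118, 2701, 997, -1328, -3, -368, -664, 71, -22, 2, -2, 1])) (.node (.leaf []) (.leaf [-2785, 199, -6401, -2666, 3538, 23, 654, 1775, -82, -85, 10, 4, -1]))) (.node (.node (.leaf []) (.leaf [1, 0, -1, 0, 2, 0, 0, -1])) (.node (.leaf [-52243, 11849, -142323, -67126, 85014, 2096, 10163, 48076, -4972, -4251, 154, -94, 130, 1]) (.leaf [787613, -238387, 2235894, 1088343, -1350707, -53442, -162113, -802066, 91556, 103692, -2376, 6188, -2134, 174, -234, 3])))) (.node (.node (.node (.leaf [1835, -170, 4478, 1963, -2599, 5, -386, -1326, 44, 87, -4, -2, 1]) (.leaf [])) (.node (.leaf []) (.leaf [-734, 291, -2082, -970, 1223, 36, 192, 705, -118, -73, -4, -6, 2]))) (.node (.node (.leaf [47132, -8626, 115447, 50066, -64230,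 -1237, -11256, -35181, 4079, 1884, -54, -1, -67, -6, -1]) (.leaf [])) (.node (.leaf [3187, -1334, 12138, 6843, -8428, -361, -120, -5061, 492, 765, -46, 32, -26, 1]) (.leaf [-364863, 94249, -996219, -467231, 588010, 15988, 74058, 337534, -42651, -26405, 826, -660, 1132, 36, 3])))))))

def twoL76 : Janko.Tree (List ℤ) :=
  (.node (.node (.node (.node (.node (.node (.node (.leaf []) (.leaf [16, -3, 42, 18, -24, 1, -5, -12, 2, 1])) (.leaf [-1421, 67, -3386, -1473, 1954, 19, 299, 977, -12, -79, 8, 1])) (.node (.leaf [1]) (.leaf [-353947915, 201636530, -1283106829, -696158947, 836844981, 40430924, 41282429, 534873594, -88573759, -63975485, 1586068, -3713823, 3245156, 26454, 32867, 136, 33]))) (.node (.node (.leaf []) (.leaf [11143593, -892064, 22970660, 8275781, -11223623, 33129, -3229292, -5294020, 646648, -331798, -6660, -46382, 1309, -3184, 1108, -5, 1])) (.node (.leaf [-23202225, 7471240, -60063001, -26825538, 33188505, 1471330, 6245954, 19814151, -3484740, -1770350, 44855, -188252, 75037, -882, 4594, -165, -5])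 (.leaf [1])))) (.node (.node (.node (.leaf []) (.leaf [1])) (.node (.leaf [-893293, 222088, -2473403, -1172807, 1475958, 44432, 171901, 843587, -102474, -69716, 4000, -1584, 3378, 92, -33]) (.leaf [1]))) (.node (.node (.leaf [-57, 7, -146, -64, 86, 0, 13, 42, -2, -3]) (.leaf [12596493, -4733388, 38939250, 19662520, -24176907, -945076, -2090428, -14647710, 2096098, 1518756, -49352, 68966, -71069, -784, -325, 3])) (.node (.leaf [-6163, 2187, -18937, -9542, 11752, 613, 1153, 6986, -990, -916, 60, -30, 41, 2, -3]) (.leaf [7, -18, 17, 4, -4, -5, -14, -2, 7, 7, 1]))))) (.node (.node (.node (.node (.leaf [-4512, 1602, -15088, -8001, 9905, 392, 501, 5885, -642, -760, 42, -30, 26, -1]) (.leaf [-4806197, 13207747, -31615491, -18256585, 19642425, 1921484, 1340504, 15957374, -6900057, -940051, -52354, -257249, 222560, 9657, 3742, 95, 1])) (.node (.leaf [-927560, 329703, -2562750, -1153862, 1436101, 50408, 212720, 835413, -199770, 1283, 4520, 1282, 7163, 608, -314, 7]) (.leaf [-20550356, 7142874, -77301507, -44504939, 54545392,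 2198040, -34439, 33287873, -2062157, -5461801, 207361, -151314, 132881, -7753, 128, -35, 5]))) (.node (.node (.leaf [1]) (.leaf [-13584, 2522, -35151, -16061, 20555, 372, 2864, 11356, -1004, -952, 32, -8, 18, -1])) (.node (.leaf [1]) (.leaf [-18327349, -18917368, -17650162, -2580409, 10151556, -2972045, 1872115, -3840238, 10217596, 271204, 164461, 599287, -323931, -11818, -10302, 49, 7])))) (.node (.node (.node (.leaf [1]) (.leaf [1])) (.node (.leaf [1]) (.leaf [19775584, -5484734, 56524623, 27446242, -34289301, -1117802, -3605499, -19988110, 2396933, 1921714, -79628, 61891, -77156, -895, -216, 19, -1]))) (.node (.node (.leaf []) (.leaf [4, 1, 6, 1, -2, 0, -1, 0, 0, -1])) (.node (.leaf [-205447903, 41635432, -541780162, -249737650, 317616855, 7642764, 41944787, 177331817, -18581693, -13638653, 638438, -117594, 492924, 16095, -5371, -24, -3]) (.leaf [-42576605, 9725725, -111506152, -50508456, 64173288, 1499674, 9262822, 35915235, -4748124, -2048348, 100748, -615, 123403, 7591, -2271, 71, -1])))))) (.node (.node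 (.node (.node (.node (.leaf [19143366, -19601015, 84298593, 48104329, -55672803, -3849880, -2305309, -38721421, 9004502, 4979101, -78378, 475550, -315502, -2343, -8042, 31, 1]) (.leaf [])) (.node (.leaf [3401045, -3627468, 12022811, 5545259, -6410930, -291411, -1007227, -4465529, 2223112, -514553, 43460, -20288, -63997, -8158, 2502, -144, 1]) (.leaf [53743198, -15423181, 153602906, 74111909, -92768890, -2678244, -9872767, -53911859, 6993776, 4441577, -148446, 89877, -214017, -7261, 1774, -96, -1]))) (.node (.node (.leaf []) (.leaf [121632251, -17321707, 311306654, 141698916, -182524692, -3195191, -24012836, -98709356, 7318728, 7214911, -406193, -177651, -185761, -8656, 9003, -24, -3])) (.node (.leaf [1]) (.leaf [203116859, -53795140, 567364557, 270955475, -339887114, -10272666, -39088237, -196329054, 23845572, 17432810, -674056, 501574, -708074, -13391, -1580, 49, 1])))) (.node (.node (.node (.leaf [4, 0, 6, 2, -2, 0, -1, -2]) (.leaf [67894, -14301, 182159, 85215, -107892, -2803, -13029, -61048, 6224, 4876, -190,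 156, -161, 6, 5])) (.node (.leaf [-11282, 2223, -29049, -13057, 16724, 300, 2378, 9229, -1030, -480, 12, -14, 18, 0, 1]) (.leaf [663971, -172576, 2129725, 1139527, -1411412, -55197, -65280, -839650, 49768, 132557, -5648, 4856, -2687, 285, -26, 3]))) (.node (.node (.leaf [-354, 28, -922, -419, 570, -16, 60, 277, 2, -15, 0, 0, -1]) (.leaf [10683685, -2682590, 29859197, 14305235, -17977201, -513494, -1977750, -10337798, 1181546, 908332, -35838, 15854, -36107, -917, 370, -5])) (.node (.leaf [-8890, 5605, -30499, -15930, 18974, 530, 1223, 12557, -2705, -605, -172, 86, 46, 15, 3]) (.leaf [1]))))) (.node (.node (.node (.node (.leaf [1]) (.leaf [-65315, 9074, -174523, -83534, 106660, 3016, 11789, 58903, -2270, -7929, 438, -308, 113, -30, 3])) (.node (.leaf []) (.leaf [-45995, 11945, -126479, -59777, 75211, 1999, 9203, 43249, -5184, -3714, 88, -86, 134, 2]))) (.node (.node (.leaf [-4714484, 1041571, -12098466, -5388522, 6853895, 163170, 1064500, 3819601, -531328, -180959, 10640, 2366, 13429, 1129, -286, 5]) (.leaf [-25937492,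 6108182, -72755816, -35151698, 44232168, 1270173, 4610390, 25355851, -2537800, -2481461, 97859, -47832, 78724, 512, -31, -11])) (.node (.leaf [6547, -1765, 21676, 11666, -14668, -403, -575, -8496, 395, 1352, -48, 68, -12, 2, -1]) (.leaf [1])))) (.node (.node (.node (.leaf []) (.leaf [-11001694, 2780267, -30662368, -14688100, 18427548, 570092, 2080442, 10634509, -1205271, -1001174, 40014, -27535, 36226, 315, 89, -5])) (.node (.leaf [-11, 0, -18, -5, 6, 0, 4, 4]) (.leaf [1]))) (.node (.node (.leaf [1]) (.leaf [1723385, -504717, 5134000, 2570794, -3190332, -119592, -277703, -1886754, 212089, 212009, -10251, 8300, -8010, 110, 16, 3])) (.node (.leaf [186256176, -30797703, 431692448, 174687576, -228326714, -2050070, -48723658, -119147567, 17619060, -978709, -30911, -564956, -258111, -56111, 19408, -633, 23]) (.leaf [1])))))))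

def twoL77 : Janko.Tree (List ℤ) :=
  (.node (.node (.node (.node (.node (.node (.node (.leaf []) (.leaf [5534759, -594496, 12488448, 5035291, -6646066, -54528, -1412193, -3375366, 323278, 49008, -6314, -16642, -1547, -996, 464, -8, 1])) (.leaf [0, 1])) (.node (.leaf [0, -2, 7, 4, -6, 0, 0, -2, 1]) (.leaf [0, 1]))) (.node (.node (.leaf [0, 1]) (.leaf [1444, -124, 3066, 1181, -1559, -9, -392, -796, 65, 8, 0, -3, 1])) (.node (.leaf [0, 1]) (.leaf [-167, 9, -387, -162, 216, -1, 37, 108, -3, -4, 1])))) (.node (.node (.node (.leaf [0, 1]) (.leaf [736870980, -170608020, 2018773307, 954453467, -1205302571, -32065330, -140483209, -684829278, 75751355, 56730319, -2461610, 778308, -2246366, -70158, 26691, -77, -13])) (.node (.leaf [0, 1]) (.leaf [3196972, -1003181, 8958320, 4205296, -5255977, -160083, -663810, -3059756, 499579, 185103, -8106, 4991, -15120, -808, 180, -7]))) (.node (.node (.leaf [34728, -4978, 94765, 45902, -58454, -1478, -5532, -32547, 1497, 3770, -218, 90, -46, 4, -3]) (.leaf [0, 1])) (.node (.leaf [39669,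 -13561, 120834, 60754, -75170, -2582, -6442, -44929, 5853, 4600, -124, 138, -189, -4, -1]) (.leaf [32, -24, 78, 28, -36, -5, -23, -18, 10, 8, 1]))))) (.node (.node (.node (.node (.leaf []) (.leaf [0, 1])) (.node (.leaf [407, -324, 2230, 1383, -1762, 9, 47, -1017, 51, 199, -3, 10]) (.leaf []))) (.node (.node (.leaf []) (.leaf [-34315, 5677, -68902, -22851, 31161, -528, 11418, 14794, -3571, 2240, -272, 167, -47, 22, 5])) (.node (.leaf [6, -1, 14, 6, -8, -1, -2, -3, 1]) (.leaf [0, 1])))) (.node (.node (.node (.leaf []) (.leaf [61800681, -15595528, 176419123, 86208763, -108064715, -3332219, -10731196, -62531815, 6380851, 6521417, -247935, 173482, -203737, 669, -1396, 63])) (.node (.leaf [9586393, -2204838, 26012559, 12208494, -15419976, -423559, -1888677, -8750765, 992630, 715940, -34780, 12824, -29444, -734, 276, 1]) (.leaf [0, 1]))) (.node (.node (.leaf []) (.leaf [104206, -24729, 287194, 136701, -172304, -4710, -19794, -98480, 10486, 9011, -317, 193, -293, -4, -1])) (.node (.leaf [0, 1]) (.leaf [0, 1])))))) (.node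 (.node (.node (.node (.node (.leaf []) (.leaf [0, 1])) (.node (.leaf []) (.leaf [59992091, -13476576, 163536582, 77111697, -97601699, -2423268, -11475931, -55193489, 5894472, 4547031, -179702, 43734, -167379, -4641, 1620, -55]))) (.node (.node (.leaf []) (.leaf [-16313882, 5123667, -49580946, -25080738, 31108720, 1064597, 2507940, 18484096, -2093357, -2065575, 61613, -65243, 70808, -251, 236, 5])) (.node (.leaf [-34, -34, -41, -15, 24, 3, 0, 4, 17, -4, 1]) (.leaf [-89934265, 18336720, -239466635, -111387634, 141414763, 3560428, 17865506, 79268733, -8045227, -6499463, 303906, -66191, 221991, 6151, -2306, -39, -1])))) (.node (.node (.node (.leaf []) (.leaf [70340, -12135, 178694, 80352, -103082, -1943, -15052, -56510, 5224, 4001, -184, 50, -100, 2, -1])) (.node (.leaf [0, 1]) (.leaf [-196, -76, -162, 36, 3, -30, 74, -60, 36, 33, 0, 1, -1]))) (.node (.node (.leaf [-315, 77, -783, -334, 438, 4, 89, 229, -31, -17, -1]) (.leaf [-6, 1, -12, -4, 6, -1, 2, 3])) (.node (.leaf [0, 1]) (.leaf [-26426084, 6262786, -73992501,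 -35658985, 44881248, 1275016, 4736145, 25712327, -2640442, -2443961, 96746, -43748, 81527, 976, -238, -3]))))) (.node (.node (.node (.node (.leaf [12, -1, 23, 8, -10, 0, -4, -6, 1]) (.leaf [0, 1])) (.node (.leaf [-3038, 189, -7236, -3134, 4136, 51, 649, 2097, -63, -150, 17, 1]) (.leaf []))) (.node (.node (.leaf []) (.leaf [0, 1])) (.node (.leaf [0, 1]) (.leaf [-32085138, 2721872, -72167580, -29244831, 38731659, 310919, 7991848, 19473518, -1428440, -496876, 77314, 81870, 6104, 4170, -1730, -45, -1])))) (.node (.node (.node (.leaf [0, 1]) (.leaf [])) (.node (.leaf []) (.leaf [-32506247, 7654223, -82395727, -35801089, 45754897, 841085, 7717997, 25230054, -4190186, -417699, 36128, 67132, 103272, 11664, -3582, 135]))) (.node (.node (.leaf [-95804, 22661, -263162, -124781, 157427, 4337, 18426, 89720, -9757, -7992, 292, -172, 267, 4, 1]) (.leaf [0, 1])) (.node (.leaf [0, 1]) (.leaf [538647, -121253, 1445603, 674428, -854657, -20075, -108661, -483032, 51646, 40067, -1027, 621, -1189, -33, -15])))))))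

def twoL78 : Janko.Tree (List ℤ) :=
  (.node (.node (.node (.node (.node (.node (.leaf [0, 0, 1]) (.leaf [-19003462, 4743544, -54414430, -26711878, 33477518, 1039935, 3251363, 19387268, -1877540, -2123753, 74272, -56713, 58584, -822, 836, -19])) (.node (.leaf [-70945528, 14734254, -191776172, -90348747, 114461770, 2993186, 13535900, 64498524, -6287800, -5707790, 265286, -78266, 185082, 2758, -1560, -51]) (.leaf []))) (.node (.node (.leaf []) (.leaf [3200, -245, 6764, 2582, -3455, -16, -894, -1703, 110, 42, 0, -2, 3, 1])) (.node (.leaf []) (.leaf [40, -23, 141, 70, -92, 0, -11, -48, 8, 7])))) (.node (.node (.node (.leaf [495, -8, 1148, 502, -656, -13, -102, -340, -5, 37, -3]) (.leaf [-157126551, 77670266, -572669313, -316160498, 383048511, 16717320, 12865684, 240683555, -31121760, -32192904, 786340, -1386448, 1225383, -13776, 11730, 196, 15])) (.node (.leaf [-969081, 234878, -2676558, -1268742, 1598723, 46821, 185811, 911394, -106886, -76567, 4388, -1794, 3511, 74, -29]) (.leaf [-2091, 135, -4779, -1980, 2638,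 12, 491, 1311, -55, -57, 7, 3, -1]))) (.node (.node (.leaf [0, 0, 1]) (.leaf [])) (.node (.leaf []) (.leaf [0, 0, 1]))))) (.node (.node (.node (.node (.leaf []) (.leaf [1145673, -237357, 3182399, 1542491, -1945437, -56988, -200764, -1108930, 88149, 125142, -5382, 3273, -2804, 136, -38, 3])) (.node (.leaf [396867, -103148, 920912, 362565, -459372, -13963, -117301, -256432, 65034, -9699, -390, -566, -1406, -206, 30, -1]) (.leaf [0, 0, 1]))) (.node (.node (.leaf [72110, -21419, 214166, 106575, -132820, -4224, -11807, -77997, 9009, 8033, -276, 222, -302, -4, 1]) (.leaf [-13552, 2446, -35158, -16120, 20647, 374, 2812, 11381, -952, -983, 34, -10, 19, -1])) (.node (.leaf [4484, -363, 9906, 3975, -5264, -20, -1129, -2671, 164, 72, -4, -6, 3]) (.leaf [-706954620, 105242403, -1695170419, -720524665, 934859005, 14100952, 167795753, 495908991, -54661749, -16633607, 1425003, 1442926, 995416, 138531, -59006, 524, -35])))) (.node (.node (.node (.leaf [22, 7, 48, 22, -28, 0, 2, -16, -2, -3]) (.leaf [576718287, -123285159, 1535605468,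 710148145, -901846615, -21510570, -116154541, -505255401, 56862945, 35983059, -1791880, 107374, -1615215, -70550, 35664, -313, -9])) (.node (.leaf []) (.leaf [-43311335, 8650640, -114136212, -52559177, 66894744, 1580838, 8789894, 37260092, -3923005, -2752016, 135072, -2625, 105642, 4528, -2006, 25, -1]))) (.node (.node (.leaf []) (.leaf [0, 0, 1])) (.node (.leaf []) (.leaf [237554, -37429, 632260, 300077, -382099, -9879, -43610, -212819, 12125, 24468, -1053, 518, -312, 37, -14, 1])))))) (.node (.node (.node (.node (.node (.leaf []) (.leaf [228624, -61829, 632053, 298694, -374268, -11871, -45975, -216446, 28652, 17722, -732, 476, -820, -32, 3])) (.node (.leaf [111672036, -32110923, 328328040, 162551534, -202645744, -6577764, -18560233, -118808669, 13677100, 12032266, -448174, 328638, -460874, -4527, 1089, -9, -3]) (.leaf [0, 0, 1]))) (.node (.node (.leaf []) (.leaf [0, 0, 1])) (.node (.leaf [127, -22, 314, 143, -182, 0, -27, -104, 6, 10]) (.leaf [223013199, -55038874, 609575155, 286968100, -361461579, -10289727,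 -44450674, -206683908, 24659034, 17270687, -703722, 424022, -700777, -17272, -16, 52, 3])))) (.node (.node (.node (.leaf [0, 0, 1]) (.leaf [52606, -11869, 140666, 65300, -82613, -2043, -10615, -46828, 5356, 3503, -170, 90, -144, 0, 1])) (.node (.leaf [-1761196, 460268, -4642681, -2087216, 2636540, 69063, 394280, 1492774, -245533, -55391, 4112, 1186, 6945, 604, -210, 5]) (.leaf [1769453, -483058, 4927775, 2335995, -2930022, -87697, -347893, -1691610, 224706, 132801, -5728, 3360, -6817, -235, 48, -1]))) (.node (.node (.leaf [0, 0, 1]) (.leaf [0, 0, 1])) (.node (.leaf [1785616, -403247, 4828784, 2263752, -2859341, -77499, -350195, -1622385, 182543, 129695, -5577, 1086, -5200, -199, 74, -1]) (.leaf [-2171698, 464703, -5862186, -2763755, 3496588, 93088, 423571, 1979857, -190346, -187698, 6364, -3528, 4766, 22, 82, -3]))))) (.node (.node (.node (.node (.leaf []) (.leaf [-134081, 36770, -387904, -188655, 237186, 6550, 23349, 136361, -16200, -11977, 674, -432, 579, 7, -3])) (.node (.leaf []) (.leaf [0, 0, 1]))) (.node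 (.node (.leaf [-2640, 314, -6992, -3204, 4280, -40, 473, 2148, -72, -136, 4, 0, -3, 1]) (.leaf [5043629, -1017346, 13091879, 5952181, -7577622, -179487, -1075311, -4219973, 467638, 297829, -14925, 2530, -11788, -456, 151, 3])) (.node (.leaf []) (.leaf [-269334573, 59636388, -722642071, -336676064, 426279994, 11019220, 53970193, 240629528, -26761532, -19040298, 832165, -241308, 741013, 24688, -7495, 19, -3])))) (.node (.node (.node (.leaf [-82767, 41155, -278659, -146321, 175525, 8938, 11387, 112099, -19919, -10984, 426, -419, 736, 30, -11]) (.leaf [-96367, 23664, -268366, -128425, 161710, 4532, 18033, 92621, -10089, -8542, 314, -196, 286, 5, 1])) (.node (.leaf [0, 0, 1]) (.leaf [2215759, -445071, 6169391, 2990407, -3781576, -102682, -377715, -2141743, 167498, 230282, -10628, 4736, -5781, 183, 18, 4]))) (.node (.node (.leaf [1, -1, 7, 3, -4, 0, -1, -2, 0, 1]) (.leaf [5380, -378, 11513, 4485, -5947, -21, -1401, -3005, 194, 35, -4, -10, 4])) (.node (.leaf []) (.leaf [-1769859, 481160, -4929109, -2336964, 2932077,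 87366, 347216, 1691669, -223570, -132934, 5800, -3374, 6787, 231, -46, 1])))))))

def twoL79 : Janko.Tree (List ℤ) :=
  (.node (.node (.node (.node (.node (.node (.leaf []) (.leaf [-36975751, 11252313, -111039546, -55667220, 69230980, 2258096, 5827538, 40870391, -4705056, -4285802, 139766, -126637, 160059, 1121, -406, 0, 1])) (.node (.leaf [-19585990, -4467560, -19709371, 1160760, 1850582, -1051430, 8337315, -3632466, 1605264, 2199578, -606, 122840, -138530, 703, 1578, -204, -5]) (.leaf [-5444392, 573509, -12241509, -4918579, 6498697, 50511, 1394652, 3291556, -314230, -41596, 6032, 16796, 1303, 993, -465, 8, -1]))) (.node (.node (.leaf []) (.leaf [0, 0, -1, 0, 1])) (.node (.leaf [138, -68, 377, 163, -211, -3, -53, -114, 28, 14, 1]) (.leaf [])))) (.node (.node (.node (.leaf []) (.leaf [3123546, -1619439, 9566123, 4606789, -5553427, -260612, -683654, -3505206, 881812, 135714, -1613, 5132, -27108, -2234, 405, -27])) (.node (.leaf []) (.leaf [1938604, -493661, 5088321, 2276442, -2893139, -60757, -436147, -1619045,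 257454, 55235, -3120, -1432, -6912, -560, 148, -5]))) (.node (.node (.leaf []) (.leaf [1528683, -477155, 3884960, 1647564, -2073295, -55204, -401660, -1182511, 285096, -22816, -958, -2978, -7627, -873, 246, -9])) (.node (.leaf [93, -15, 245, 115, -148, 0, -17, -81, 4, 7]) (.leaf [-70, 8, -172, -74, 98, 1, 16, 50, -3, -3]))))) (.node (.node (.node (.node (.leaf []) (.leaf [721328866, -146423618, 1917586995, 889277108, -1130667041, -26893320, -143473937, -631564199, 65394114, 48663437, -2323573, 136726, -1819551, -60732, 29490, -473, 11])) (.node (.leaf [-20889, 3898, -53248, -23859, 30757, 502, 4674, 16706, -1569, -1274, 26, -34, 25, 0, 1]) (.leaf [-50303852, -1435986, -90895599, -27886564, 40449731, -1035645, 15479021, 15566469, -460891, 2716056, 59861, 332076, -94327, 13181, -6080, -25, -5]))) (.node (.node (.leaf []) (.leaf [-13185, 2494, -34579, -15943, 20416, 356, 2705, 11270, -967, -978, 33, -12, 19, -1])) (.node (.leaf []) (.leaf [-300114043, 93106999, -870336776, -423991551, 527793597, 17371891, 55541003,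 310782200, -41376189, -28774430, 915421, -1030516, 1265012, 22550, 6494, 114, -5])))) (.node (.node (.node (.leaf []) (.leaf [67509652, -16224834, 189366295, 91456164, -114980387, -3393015, -12178709, -66058263, 6718894, 6582851, -254662, 156974, -205599, -334, -936, 55, 1])) (.node (.leaf [74989927, -17333643, 204411491, 96251261, -121675450, -3127457, -14552560, -69003892, 7665646, 5643435, -224238, 74360, -217145, -6159, 1662, -50]) (.leaf [722, -128, 1679, 706, -896, -33, -196, -498, 63, 39, -1, -1]))) (.node (.node (.leaf [15762127, -3891400, 42909044, 20119471, -25342883, -722627, -3174680, -14483927, 1776477, 1158182, -49432, 25979, -50810, -1576, 302, 3]) (.leaf [-101017318, 17874557, -270246228, -127190834, 162006399, 3797015, 18689542, 90101049, -7188273, -8228796, 397321, -33213, 213121, 959, -3752, -64, 1])) (.node (.leaf [-5812141, 1343283, -9006071, -1103634, 1961364, -341048, 2637850, 339606, -1311568, 1556919, -59525, 87215, 13349, 8335, -2433, 120, -1]) (.leaf [-685387128, 185625388, -1916900393,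 -913557853, 1145880956, 33941182, 132380633, 662004021, -84218444, -55092142, 2082361, -1338777, 2488455, 75609, -6833, 513, -9])))))) (.node (.node (.node (.node (.node (.leaf []) (.leaf [])) (.node (.leaf [-42, 6, -109, -53, 65, 1, 5, 41, -2, -3]) (.leaf [-41, 17, -127, -65, 79, 1, 4, 50, -8, -2, 0, 0, 0, 1]))) (.node (.node (.leaf []) (.leaf [-879801252, 109298897, -2077166131, -874024492, 1142302714, 13215684, 207850289, 594727105, -57368477, -17228141, 1877805, 2470990, 917873, 165598, -82910, 895, -25])) (.node (.leaf []) (.leaf [5233190, -1296669, 14009293, 6457556, -8143359, -222942, -1099220, -4638628, 629050, 298391, -12806, 2700, -17224, -1000, 281, -7])))) (.node (.node (.node (.leaf []) (.leaf [-63, 4, -156, -70, 93, -1, 12, 47, -1, -3, 0, 1])) (.node (.leaf []) (.leaf [1652883, -330287, 3964146, 1649875, -2122363, -43514, -424697, -1146530, 191134, 7503, -3234, -2802, -4315, -572, 210, -3]))) (.node (.node (.leaf [-3988028557, 844975786, -10589253600, -4898580806, 6217050587, 154222475, 809606378,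 3488865558, -381281668, -265956352, 12139676, -2506752, 10315374, 385819, -129746, -260, -43]) (.leaf [-308890615, 98132931, -901295633, -439406520, 546783139, 17729805, 56422211, 322111478, -44748582, -27902801, 907204, -831930, 1392619, 41924, -3244, 553, -3])) (.node (.leaf [253520, -51032, 653738, 296302, -377807, -8033, -54936, -210261, 22309, 15354, -321, 78, -405, -24, -8]) (.leaf [-56593724, 42154566, -245069376, -144020844, 170594123, 9723035, 1547381, 112765817, -16794294, -17724884, 456848, -1105243, 698031, -18207, 17404, -187, 9]))))) (.node (.node (.node (.node (.leaf []) (.leaf [])) (.node (.leaf [2869, -432, 6666, 2768, -3583, -102, -762, -1900, 212, 119, -6, 2, -1]) (.leaf [-2, -1, -2, 0, -1, 1, 0, 0, 0, 0, 0, 0, 0, 1]))) (.node (.node (.leaf []) (.leaf [-254923, 68418, -699227, -328271, 412621, 11408, 52122, 237585, -31153, -18460, 556, -501, 823, 30, 3])) (.node (.leaf [37580251, -10374843, 112861983, 57371174, -71258514, -2616281, -5631495, -42148714, 3829007, 5456285, -191957, 200118, -134878,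 6014, -2364, 108, 1]) (.leaf [-269486848, 59642554, -723010367, -336839674, 426493950, 11025257, 54001432, 240738987, -26763242, -19052294, 834020, -241700, 741304, 24650, -7496, 18, -3])))) (.node (.node (.node (.leaf []) (.leaf [6565272, 2646694, 8072600, 607554, -2481307, 916235, -1746645, 1003484, -759565, -1638104, -1669, -221686, 28138, -7393, 6504, -126, -5])) (.node (.leaf [-11240191, 5393310, -37696730, -19859248, 24068429, 1074850, 1642095, 15121589, -2284984, -1839388, 34534, -103406, 76045, -294, 1454, -13]) (.leaf [3459832, -872388, 9412640, 4397587, -5536161, -156301, -699722, -3166801, 412948, 227924, -9930, 3176, -11863, -527, 122, -4]))) (.node (.node (.leaf []) (.leaf [])) (.node (.leaf []) (.leaf [-1593103, 446126, -4468010, -2126140, 2662592, 82080, 310091, 1542413, -208930, -121339, 5462, -3160, 6488, 225, -50, 1])))))))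

def twoL80 : Janko.Tree (List ℤ) :=
  (.node (.node (.node (.node (.node (.node (.leaf []) (.leaf [-1466537, -468610, -1397575, 130875, 140911, -127046, 576243, -342399, 190598, 200993, -5890, 19576, -13432, 300, -235, -2, -1])) (.node (.leaf [66, -13, 176, 80, -106, 0, -15, -54, 4, 5]) (.leaf [119843827, -21354766, 287509381, 121818626, -156697640, -3427598, -30081325, -84893003, 10926299, 3627823, -272272, 26035, -209047, -15461, 1665, 127, 7]))) (.node (.node (.leaf [-2699987, 621429, -6933382, -3081449, 3913585, 93716, 616328, 2189495, -321026, -94653, 5026, 1910, 7983, 699, -150, 5]) (.leaf [1005, -173, 2249, 922, -1144, -67, -286, -661, 102, 49, -4, -2, -1])) (.node (.leaf [71, -13, 185, 85, -112, 0, -16, -58, 3, 7]) (.leaf [159909681, -32419172, 439039189, 210364899, -266253218, -7128400, -28820000, -150506838, 12593592, 15453404, -646056, 292054, -383243, 9492, -952, 136, -1])))) (.node (.node (.node (.leaf []) (.leaf [])) (.node (.leaf [-6859, 1891, -19887, -9745, 12238, 362, 1216, 7061, -766, -743,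 24, -25, 24, -1]) (.leaf [6555172, -1409723, 17532286, 8117403, -10317846, -236362, -1303707, -5767738, 658634, 390313, -21016, -407, -19511, -1044, 432, -3]))) (.node (.node (.leaf []) (.leaf [131638, -37122, 382736, 186550, -234298, -6424, -22805, -135121, 16362, 11788, -626, 428, -576, -11, 3])) (.node (.leaf [1]) (.leaf [38203698, -27515310, 153076053, 85382620, -101925790, -4840559, -3189504, -66263424, 12550760, 7196631, -118858, 384640, -464810, -11471, -4358, -312, -7]))))) (.node (.node (.node (.node (.leaf [1]) (.leaf [32122290, 27154896, 41975721, 11811710, -25236062, 4446052, -2746194, 82336, -14346548, -821944, -256788, -1026970, 426020, 8930, 27894, -191, -9])) (.node (.leaf [682, -42, 1623, 704, -928, -12, -146, -472, 12, 36, -2, -1]) (.leaf [-634221, 264012, -1794734, -835173, 1027195, 43973, 159248, 621947, -128699, -46137, 520, -4516, 3197, 103, 172, 1]))) (.node (.node (.leaf []) (.leaf [5866504, -1748268, 16871639, 8194997, -10226697, -307632, -1080139, -5997086, 761580, 546979, -12462, 16328,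 -21953, -530, -8, -1])) (.node (.leaf [4542, -422, 10070, 4046, -5344, -18, -1155, -2735, 190, 73, -2, -6, 3]) (.leaf [1])))) (.node (.node (.node (.leaf []) (.leaf [21, 5, 43, 20, -23, 0, 1, -16, -2, -1, 0, 0, 0, -1])) (.node (.leaf [2213739, -609359, 6329706, 3064882, -3836328, -119839, -400890, -2223864, 275117, 197911, -9312, 4364, -9340, -162, 147, -5]) (.leaf [116823017, -13843004, 286205656, 125611661, -163367886, -2204116, -24953387, -86173588, 6290379, 4813938, -334604, -288434, -120749, -12890, 9664, -80, 1]))) (.node (.node (.leaf [1]) (.leaf [-2192096, 432445, -6139551, -2998610, 3790449, 102410, 361929, 2151111, -151921, -245451, 10025, -5358, 5058, -279, 26, -5])) (.node (.leaf []) (.leaf [1])))))) (.node (.node (.node (.node (.node (.leaf [1]) (.leaf [37, -19, 130, 67, -88, 0, -8, -46, 6, 7])) (.node (.leaf [-1260393, 322606, -3485846, -1650085, 2074866, 61382, 246235, 1189877, -148117, -97104, 4742, -2334, 4596, 134, -31]) (.leaf [906136897, -260246569, 2578180672, 1242174120, -1552615707, -48524765,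 -170769698, -904759007, 116941568, 79486101, -2915286, 2401385, -3568605, -85393, -608, -279, -1]))) (.node (.node (.leaf []) (.leaf [-28456301, 8145281, -89112693, -46170758, 57421123, 1919612, 3439698, 33842903, -3142512, -4050295, 164610, -94160, 132314, -1389, -1402, 15, 1])) (.node (.leaf []) (.leaf [28287682, -8145718, 84073838, 42020602, -52316724, -1760190, -4517416, -30765465, 3366690, 3341184, -128094, 102871, -117609, 154, -312, 24, -1])))) (.node (.node (.node (.leaf [-64, 13, -159, -69, 90, 0, 16, 48, -5, -3]) (.leaf [-304993, 73550, -830263, -388099, 490316, 13505, 61458, 277657, -34544, -21076, 1366, -369, 1117, 42, -1])) (.node (.leaf []) (.leaf [-693073, 261910, -2264777, -1190674, 1456323, 65372, 88304, 890476, -109992, -112010, 5520, -5468, 4697, -81, -44, -1]))) (.node (.node (.leaf [-315, 75, -785, -334, 438, 5, 89, 229, -31, -17, -1]) (.leaf [])) (.node (.leaf [1]) (.leaf [1]))))) (.node (.node (.node (.node (.leaf [55, -13, 141, 63, -82, 0, -13, -44, 5, 3]) (.leaf [-917435150, 265981818,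 -2605274971, -1253423162, 1565652625, 49998654, 175482321, 913782849, -119385426, -81204670, 2915358, -2722916, 3585648, 78862, 12268, -5, -13])) (.node (.leaf [1]) (.leaf [-50907217, 13047048, -146427628, -71940597, 90092532, 2798331, 8656312, 52266721, -5279142, -5568429, 203928, -149616, 170069, -935, 1348, -55]))) (.node (.node (.leaf []) (.leaf [-475, 22, -1141, -499, 664, -6, 91, 337, 0, -19, 2, -1])) (.node (.leaf [-200178623, 465062, -387617416, -130253486, 183796958, -4219370, 57004949, 77297134, -5216507, 10974237, 104806, 1649681, -214771, 75546, -40825, 534, -3]) (.leaf [-12427050, 4687709, -38474490, -19444483, 23903396, 936541, 2055619, 14489894, -2074700, -1506527, 48856, -68581, 70475, 760, 327, -3])))) (.node (.node (.node (.leaf [-33284883, 8846013, -95401141, -46530304, 58227061, 1825514, 5831173, 33808441, -3807068, -3288317, 134018, -80524, 124599, 1598, -328, -6, 1]) (.leaf [-789447, 95216, -2100224, -1007226, 1292116, 26306, 133992, 708897, -17551, -90219, 3035, -1298, 190, -190, 69, -3]))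 (.node (.leaf [311739, -76468, 866202, 412784, -520597, -13834, -58699, -297135, 33202, 25856, -1136, 652, -990, -13]) (.leaf [1]))) (.node (.node (.leaf []) (.leaf [])) (.node (.leaf [-702173542, 153474457, -1941043187, -930938871, 1174501764, 33242530, 127162327, 668640650, -63058596, -65737791, 2890946, -1304436, 1974556, 3778, -4272, -1053, 17]) (.leaf [-223617008, 43252397, -581450758, -265131782, 338096363, 7741644, 46684682, 187470356, -19698086, -13361436, 657296, -16701, 500514, 22626, -9073, 18, -9])))))))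

def twoL81 : Janko.Tree (List ℤ) :=
  (.node (.node (.node (.node (.node (.node (.leaf []) (.leaf [-14944546, 4513567, -45649844, -23271673, 28885208, 980668, 2176174, 17139315, -1759289, -2033839, 59978, -61701, 60594, -907, 521, -7])) (.node (.leaf []) (.leaf [-209440, 49886, -564521, -263652, 333294, 8167, 42795, 189549, -21433, -15783, 380, -338, 507, 15, 3]))) (.node (.node (.leaf []) (.leaf [2686, -78, 5912, 2517, -3189, -200, -669, -1725, 42, 263, -28, -7, 1])) (.node (.leaf []) (.leaf [-108621288, 20977042, -289758020, -134931373, 171989560, 3657761, 20838249, 95561617, -9191909, -7269784, 331982, 55136, 257410, 10516, -6483, 118, 1])))) (.node (.node (.node (.leaf []) (.leaf [0, 1])) (.node (.leaf []) (.leaf [0, 1]))) (.node (.node (.leaf []) (.leaf [164127, -43048, 468239, 226088, -284798, -7624, -29330, -163013, 18833, 14220, -764, 474, -639, -9, 3])) (.node (.leaf [6, -2, 15, 6, -8, 0, -2, -4, 1]) (.leaf [0, 1]))))) (.node (.node (.node (.node (.leaf []) (.leaf [-29092507, 19479701, -105181739, -56220177,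 66807111, 3782211, 4809662, 43835802, -8831218, -5220423, 104360, -449420, 293311, 1420, 8911, -65, -1])) (.node (.leaf [127, -17, 325, 142, -189, -2, -28, -94, 8, 4]) (.leaf [0, 1]))) (.node (.node (.leaf []) (.leaf [0, 1])) (.node (.leaf [253, -14, 591, 250, -334, 0, -58, -165, 3, 11, -1]) (.leaf [-6689512, -2618732, -8415816, -771786, 2688760, -911024, 1769386, -885354, 748281, 1626858, 2072, 221447, -27826, 7393, -6503, 126, 5])))) (.node (.node (.node (.leaf [0, 1]) (.leaf [61777547, -15591548, 176360186, 86182262, -108030671, -3331490, -10726144, -62513309, 6379090, 6520010, -247848, 173484, -203695, 669, -1396, 63])) (.node (.leaf [0, 1]) (.leaf [-44952602, 5217197, -104661553, -43179987, 56891341, 245883, 10693604, 29045647, -3021547, -6638, 60087, 216378, 48204, 12586, -7314, 146, 1]))) (.node (.node (.leaf []) (.leaf [0, 1])) (.node (.leaf [97415857, -3234262, 174329937, 50969005, -73064481, 1486423, -32784682, -29281980, 4313106, -6188311, 68468, -494191, 150400, -30705, 5482, -1, 21]) (.leaf [3341,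 -302, 7764, 3242, -4301, -7, -775, -2176, 126, 74, -6, -3, 2])))))) (.node (.node (.node (.node (.node (.leaf []) (.leaf [])) (.node (.leaf [0, 1]) (.leaf [969839987, -269781347, 2727879091, 1304285825, -1633578506, -49569432, -186680204, -947217131, 122096682, 80307055, -3017680, 2265071, -3651883, -99201, 3906, -353, 3]))) (.node (.node (.leaf [0, 1]) (.leaf [0, 1])) (.node (.leaf [0, 1]) (.leaf [0, 1])))) (.node (.node (.node (.leaf []) (.leaf [4016, -1078, 10881, 4975, -6323, -165, -876, -3540, 526, 200, -12, 15, -14])) (.node (.leaf [71717815, -11393780, 171679509, 71916388, -93750333, -837022, -17189711, -49194163, 6473659, 128343, -82346, -284934, -130944, -22905, 10458, -270, -1]) (.leaf [601, -1233, 6755, 4777, -5688, -310, 592, -3706, 429, 697, -31, 38, -26, -1]))) (.node (.node (.leaf [-205, 53, -515, -219, 288, 5, 61, 149, -21, -14, -1]) (.leaf [0, 1])) (.node (.leaf [50481, -3453, 99921, 34856, -48194, 920, -15674, -22095, 1337, -417, 170, -96, 138, -5, -5]) (.leaf [-1633179, -139602, -5823651, -3566011,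 4493871, 151588, -189757, 2563369, 312029, -669829, 28760, -10909, -2395, -2312, 255, -31]))))) (.node (.node (.node (.node (.leaf []) (.leaf [])) (.node (.leaf [-56, -16, -100, -31, 52, -3, 17, 11, 9, -3, 2]) (.leaf []))) (.node (.node (.leaf [0, 1]) (.leaf [-2633481, 611541, -7014845, -3226247, 4088149, 100683, 547936, 2302972, -291960, -148308, 6908, -831, 8109, 428, -131, 3])) (.node (.leaf [2407, -875, 6960, 3379, -4173, -122, -493, -2527, 368, 244, 2, 11, -9]) (.leaf [0, 1])))) (.node (.node (.node (.leaf [-227, 34, -586, -259, 353, -10, 47, 172, -6, -7, -2, 0, -1]) (.leaf [0, 1])) (.node (.leaf []) (.leaf [4168, -307, 10219, 4622, -6009, -76, -816, -3187, 47, 325, -14, -5, 2]))) (.node (.node (.leaf []) (.leaf [220060, -47867, 590416, 275959, -349569, -8877, -43894, -197380, 20481, 16930, -612, 299, -515, -6, -3])) (.node (.leaf [0, 1, 0, 0, 1, -1]) (.leaf [0, 1])))))))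

def twoL82 : Janko.Tree (List ℤ) :=
  (.node (.node (.node (.node (.node (.node (.leaf []) (.leaf [166004, 2571031, -15009224, -12723626, 14674971, 996766, -2582602, 10308920, -380260, -2775582, 80562, -126888, 56181, -6955, 2417, -61, 3])) (.node (.leaf [0, 0, 1]) (.leaf [0, 0, 1]))) (.node (.node (.leaf [0, 0, 1]) (.leaf [0, 0, 1])) (.node (.leaf [0, 0, 1]) (.leaf [-72029812, 21638915, -184127572, -79063867, 99863378, 2386476, 18510046, 56653866, -12275616, 46991, 18232, 78078, 299411, 37110, -6718, 260, -5])))) (.node (.node (.node (.leaf []) (.leaf [162708658, -72469770, 491155801, 238494503, -291841274, -11477499, -33965193, -178975902, 35766360, 12342978, -219838, 792022, -1060948, -48038, -5652, -548, 3])) (.node (.leaf [-31216270, 5928358, -84223919, -39794340, 50553072, 1258742, 5774616, 28292418, -2433529, -2596166, 122940, -20292, 73005, 735, -1078, -21]) (.leaf [3884874, -773328, 9717790, 4230452, -5431892, -102798, -906977, -2958284, 404782, 102075, -8436, -4674, -9736, -920, 224, -5]))) (.node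 (.node (.leaf []) (.leaf [377711, -85589, 1042241, 496953, -628102, -16856, -70645, -356459, 35486, 33814, -1576, 960, -1103, 17, -3])) (.node (.leaf [6809611, -1640037, 18792678, 8926465, -11243025, -320349, -1294190, -6425737, 728876, 551603, -24219, 10636, -22177, -530, 186, 1]) (.leaf [-4775661, 660152, -11438231, -4849852, 6300069, 113297, 1122594, 3313295, -372306, -95145, 18180, 10850, 9155, 1048, -455, 3]))))) (.node (.node (.node (.node (.leaf []) (.leaf [26733302, 31372958, 15683665, -4439484, -5983498, 5520586, -3226848, 12801298, -15885954, -3017198, -191698, -1140954, 502665, 6022, 29210, -212, -7])) (.node (.leaf [0, 0, 1]) (.leaf [1, 1, 2, 0, -1, 1, 0, 0, -1]))) (.node (.node (.leaf [0, 0, 1]) (.leaf [1372023, -427177, 4201060, 2139357, -2643461, -105815, -204953, -1578446, 177895, 187469, -9377, 7810, -7180, 134, 22, 3])) (.node (.leaf [0, 0, 1]) (.leaf [-234145141, 40792081, -598229485, -269214790, 345246952, 6797350, 49373374, 188736931, -19049235, -11704039, 646894, 243221, 464525, 31575, -15931,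 190, -5])))) (.node (.node (.node (.leaf []) (.leaf [0, 0, 1])) (.node (.leaf []) (.leaf [5197, -1549, 17600, 9465, -11838, -408, -445, -6864, 531, 979, -62, 34, -28, 1]))) (.node (.node (.leaf []) (.leaf [84, -41, 227, 99, -126, -4, -32, -71, 16, 11, 1])) (.node (.leaf [527398618, -87372865, 1291447491, 557613257, -720562145, -11743148, -122669079, -386461459, 44244714, 15256278, -1051680, -856706, -885212, -99405, 36464, -662, 25]) (.leaf [887532639, -236457409, 2406706955, 1117168448, -1405501843, -40108727, -187820360, -806030433, 111957944, 57113068, -2288056, 1588627, -3072439, -126415, 4480, -497, 15])))))) (.node (.node (.node (.node (.node (.leaf []) (.leaf [0, 0, 1])) (.node (.leaf [0, 2, -3, -2, 2, 0, 0, 2, -1]) (.leaf [926841382, -261689448, 2622692913, 1259310400, -1575604186, -48580980, -176273104, -915926412, 117832148, 79410855, -2947604, 2326230, -3563549, -89241, 924, -275, 1]))) (.node (.node (.leaf []) (.leaf [8552917, 3381729, 11633231, 2391316, -4840462, 764916, -2208010, -237608, -1607898,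 -677795, -11582, -152614, 68183, -371, 3582, -8, -1])) (.node (.leaf [256643053, -22681989, 629306926, 279410464, -364705813, -4486722, -51703777, -190596745, 8651914, 13129589, -879943, -706794, -139206, -12998, 24015, -56, 1]) (.leaf [-21210438, 3002867, -54422768, -24933014, 32049589, 628534, 4172458, 17426808, -1175783, -1474688, 71543, 13412, 26720, 357, -882, -13, -1])))) (.node (.node (.node (.leaf [0, 0, 1]) (.leaf [0, 0, 1])) (.node (.leaf []) (.leaf [2684797, -639195, 7283808, 3410006, -4301430, -124536, -540366, -2446477, 293240, 197641, -9956, 4072, -8707, -267, 42, 1]))) (.node (.node (.leaf [-9490, 1626, -24124, -10814, 14012, 138, 2063, 7542, -617, -547, 10, -6, 6, 0, 1]) (.leaf [-1268392, 324021, -3504061, -1657465, 2084292, 61659, 248472, 1195021, -148929, -97270, 4760, -2311, 4613, 136, -31])) (.node (.leaf [-18012, 4157, -47291, -21703, 27506, 558, 3886, 15600, -1754, -1216, 4, -18, 37]) (.leaf [38326430, -7963939, 103434294, 48724228, -61717275, -1644181, -7391020, -34803895, 3326270, 3214443,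 -145209, 64039, -96358, -220, -113, 61]))))) (.node (.node (.node (.node (.leaf [0, 0, 1]) (.leaf [-81101042, 46695860, -246794872, -116844628, 140656254, 6516636, 20611708, 89655836, -24424486, -3764074, -73904, -573204, 682327, 40272, 6034, 378, -7])) (.node (.leaf [-506, 34, -1256, -549, 750, -14, 105, 355, 0, -23, 2, 0, -1]) (.leaf [-1144009891, 336342612, -3294875876, -1603104302, 1999252147, 65077961, 209806304, 1171599498, -147716776, -110812801, 3923144, -3828060, 4597047, 68414, 19560, -572, 17]))) (.node (.node (.leaf []) (.leaf [0, 0, 1])) (.node (.leaf [-6100, 1766, -18722, -9508, 11869, 432, 892, 6910, -726, -810, 48, -30, 28, -1]) (.leaf [-326, -185, 153, 387, -448, 5, 189, -338, 21, 113, 4, 8])))) (.node (.node (.node (.leaf [-186278632, 30802992, -431760136, -174722027, 228370233, 2051130, 48726595, 119172462, -17620674, 975644, 30966, 564850, 258156, 56103, -19408, 633, -23]) (.leaf [-341812566, 67168495, -907225602, -423345280, 536960249, 14637196, 68188676, 301639307, -27790510, -28351311,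 1341707, -666772, 771578, -5394, 3053, -906, -7])) (.node (.leaf []) (.leaf [-193, 13, -456, -195, 259, 0, 40, 131, -4, -5]))) (.node (.node (.leaf []) (.leaf [])) (.node (.leaf [0, 0, 1]) (.leaf [-242506716, 25362626, -599716821, -267803019, 347724351, 5595584, 49501806, 184076013, -9858957, -13953502, 897626, 382016, 183361, 8549, -14582, -270, -5])))))))

def twoL83 : Janko.Tree (List ℤ) :=
  (.node (.node (.node (.node (.node (.node (.leaf []) (.leaf [1, 1, 0, 0, 1, -1])) (.node (.leaf []) (.leaf [1653287, -501284, 5027858, 2548782, -3156923, -121768, -250064, -1874722, 209076, 217857, -11006, 8696, -8376, 127, 18, 3]))) (.node (.node (.leaf [52259, -11852, 142359, 67140, -85033, -2094, -10168, -48086, 4972, 4252, -154, 94, -130, -1]) (.leaf [-854, -284, -1493, -473, 818, -139, 150, 199, 171, 77, -3, 8, -7])) (.node (.leaf []) (.leaf [-158502787, 28545367, -410949950, -187054665, 239494478, 4781557, 32410593, 131501772, -13078570, -8698747, 460858, 145083, 337578, 19374, -10336, 175, -1])))) (.node (.node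 (.node (.leaf []) (.leaf [834169607, -259678237, 2407896047, 1168232530, -1453780905, -48781073, -157434613, -856230715, 116952010, 77593715, -2634070, 2917118, -3568308, -76525, -18060, -105, 12])) (.node (.leaf [679050, -149165, 1812140, 842668, -1068089, -25884, -137802, -602706, 64339, 49375, -1368, 618, -1470, -46, -17]) (.leaf []))) (.node (.node (.leaf [-1, 0, -2, -1, 1, 0, 0, 1]) (.leaf [992162, -261832, 2787374, 1337528, -1680993, -45337, -186285, -968956, 112114, 87090, -2536, 2056, -3162, -50, -13, -1])) (.node (.leaf []) (.leaf [-100468103, 16496301, -263789325, -122452375, 156613291, 3362026, 19236971, 86225159, -6724958, -7355757, 366318, 19762, 184194, 2695, -4484, -39]))))) (.node (.node (.node (.node (.leaf []) (.leaf [-23601835, 28339956, -90185950, -46176290, 51639388, 4886689, 8096731, 38661842, -14135126, -3731260, -30380, -802166, 396494, 7241, 21838, -202, -9])) (.node (.leaf []) (.leaf [-591082891, 70449559, -1408562701, -601705214, 784898487, 10420980, 136144320, 410878396, -33709618,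 -19113209, 1434818, 1197070, 481241, 68875, -41571, 66, -35]))) (.node (.node (.leaf []) (.leaf [218526236, -61751844, 639402767, 314755030, -393399674, -11646255, -36121297, -229298947, 27155034, 20856044, -743566, 297868, -902766, -24450, 13330, -503, -7])) (.node (.leaf [81943424, -1861187, 186143913, 78196537, -104258582, -552179, -17972695, -51482172, 238377, 3040847, -291980, -296330, 59249, 228, 6523, 89, 1]) (.leaf [-175637141, 23598211, -422507973, -180822478, 235300690, 3091972, 40337537, 123916860, -11996570, -4563456, 383305, 458625, 214690, 32419, -16171, 212, -7])))) (.node (.node (.node (.leaf [174030, -45966, 502608, 246274, -310213, -7841, -30063, -178229, 17834, 18450, -433, 537, -505, 6, -7]) (.leaf [91637670, -20874901, 252618068, 120483277, -151965657, -4283118, -17100018, -86580820, 8849669, 8088813, -344411, 162366, -266090, -2643, -8, 62, 1])) (.node (.leaf []) (.leaf [36, 12, 284, 227, -259, -39, 37, -171, -13, 67, -8, 2, -2]))) (.node (.node (.leaf []) (.leaf [15663, -1701, 36448, 15027,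 -20283, 271, -3854, -9959, 491, 342, 29, 12, 25, 1])) (.node (.leaf []) (.leaf [-13869401, 3525997, -38327199, -18184620, 22855739, 669654, 2701728, 13137274, -1572766, -1129682, 45037, -28246, 46200, 1040, -107, -5])))))) (.node (.node (.node (.node (.node (.leaf []) (.leaf [1736060, -480463, 4857978, 2310072, -2894489, -88444, -338427, -1674847, 223772, 133029, -5860, 3422, -6893, -236, 52, -1])) (.node (.leaf []) (.leaf [981291504, -271019752, 2753772421, 1314750738, -1647381355, -49689297, -189593690, -954239003, 122767107, 80421350, -3031802, 2231590, -3655387, -101237, 4829, -368, 5]))) (.node (.node (.leaf []) (.leaf [-1227439, 344052, -3405120, -1603001, 2008693, 62252, 247481, 1160822, -166652, -82400, 4290, -2124, 5184, 213, -58, 1])) (.node (.leaf []) (.leaf [3472, -238, 7960, 3323, -4401, -28, -809, -2221, 92, 113, -12, -4, 1])))) (.node (.node (.node (.leaf []) (.leaf [-3410, -685, -6336, -2357, 3271, 46, 749, 1390, 320, -105, 31, 25, -11, 0, 1])) (.node (.leaf [-1981, 183, -4289, -1692, 2221, 18,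 524, 1150, -92, -28, 2, 4, -1]) (.leaf [-17909200, 3260826, -47208027, -21862882, 27883331, 635151, 3505287, 15451811, -1416362, -1229949, 62476, 2185, 39234, 1320, -931, 1]))) (.node (.node (.leaf []) (.leaf [])) (.node (.leaf []) (.leaf [42971062, -9074946, 115572270, 54193795, -68641032, -1828023, -8422518, -38705134, 3894433, 3412262, -157797, 64403, -111940, -1288, 258, 53]))))) (.node (.node (.node (.node (.leaf []) (.leaf [-185, 4, -514, -288, 321, 63, 26, 217, -9, -71, 10, -1, 3])) (.node (.leaf []) (.leaf [-50860964, 13037756, -146306934, -71885211, 90022082, 2796641, 8646473, 52227364, -5275206, -5565033, 203780, -149562, 169968, -934, 1349, -55]))) (.node (.node (.leaf [102, -42, 581, 377, -477, -13, 34, -269, 2, 56, -4, 2, -1]) (.leaf [-4549, 1496, -15597, -8411, 10501, 325, 373, 6146, -518, -833, 42, -30, 24, -2])) (.node (.leaf []) (.leaf [2209, -294, 4978, 1993, -2622, -51, -617, -1334, 149, 59, -5, -2, 1])))) (.node (.node (.node (.leaf []) (.leaf [])) (.node (.leaf [2254851, -37408, 7258908,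 4242619, -5238003, -303352, -31664, -3118946, -270608, 884531, -41064, 39834, 1698, 3246, -934, 75]) (.leaf [-8607018, 698957, -21545078, -9804065, 12764673, 169813, 1611377, 6721661, -192356, -587771, 32326, 18898, 2562, -80, -644, -9]))) (.node (.node (.leaf [6, -1, 18, 9, -10, 1, -1, -7, 1, 0, 0, -1]) (.leaf [3593, -204, 7559, 2896, -3857, -10, -942, -1924, 115, 1, -3, -7, 3])) (.node (.leaf [17308454, -31427, 32892157, 10885415, -15347314, 252996, -5143993, -6466103, 335742, -694615, -11400, -103712, 27956, -4367, 1916, -6, 3]) (.leaf [-45136724, 10239210, -126304396, -60942767, 76847105, 2111978, 7930496, 43823294, -4253913, -4199612, 176744, -65266, 136032, 1381, -1365, -8])))))))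

def twoL84 : Janko.Tree (List ℤ) :=
  (.node (.node (.node (.node (.node (.node (.leaf [1]) (.leaf [599, 3546, -6850, -5394, 5734, 476, -675, 4823, -1646, -618, -24, -65, 69, 2, -1])) (.node (.leaf [-10298721, 2746468, -27687782, -12711708, 16005877, 445468, 2215536, 9147719, -1375008, -517542, 24918, -5672, 38409, 2521, -648, 17]) (.leaf [5763610, -599236, 13071199, 5311399, -7006196, -61270, -1449007, -3563788, 316770, 76048, -7976, -16292, -1401, -923, 430, -6, 1]))) (.node (.node (.leaf [195526, -42221, 524972, 245599, -311016, -8154, -38819, -175605, 18160, 15173, -590, 266, -464, -4, -3]) (.leaf [-106247966, 28181584, -298360935, -142836249, 179305906, 5140047, 19942919, 103424741, -12618598, -8749410, 322868, -177398, 379126, 11162, -2594, 96, 1])) (.node (.leaf [-908, 124, -2071, -840, 1092, 36, 251, 568, -68, -33, 6, -2, 1]) (.leaf [1])))) (.node (.node (.node (.leaf [1]) (.leaf [14946058, -4434442, 45377860, 23044946, -28647398, -940664, -2208052, -16941874, 1729224, 1976194, -55934, 55868, -58359,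 691, -524, 3])) (.node (.leaf []) (.leaf [-24047, 5879, -67555, -32444, 41048, 997, 4416, 23291, -2409, -2172, 76, -53, 67, -1]))) (.node (.node (.leaf [1]) (.leaf [-43453, 17388, -142607, -74876, 91454, 3609, 5405, 56310, -7490, -6288, 198, -202, 282, 5, -1])) (.node (.leaf [-60, 7, -150, -66, 88, 0, 13, 44, -2, -3]) (.leaf [65217, -17295, 181506, 86425, -108360, -3482, -12873, -62507, 7811, 5628, -234, 112, -230, -8, 1]))))) (.node (.node (.node (.node (.leaf []) (.leaf [-5354828, 933274, -13901907, -6399317, 8162976, 201799, 1096082, 4522654, -377831, -413848, 18948, -6345, 8890, -81, 175, -9])) (.node (.leaf [293, -51, 708, 301, -394, -5, -78, -205, 20, 16]) (.leaf [3, 0, 6, 3, -4, 0, 0, -2]))) (.node (.node (.leaf []) (.leaf [-89945, 28538, -318893, -182004, 221828, 9858, 2942, 137703, -6178, -25484, 554, -994, 313, -53, 6, -1])) (.node (.leaf [1]) (.leaf [273554955, -70821076, 772346043, 372176703, -467222533, -13569156, -49789967, -269373078, 31067327, 24139421, -945740, 481427, -968142, -19996, 6561,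 -196, -1])))) (.node (.node (.node (.leaf [28, 5, 58, 27, -32, 0, 0, -22, -2, -1]) (.leaf [-8, 2, -32, -17, 24, -1, 1, 11, 0, -2])) (.node (.leaf [2919697, -748294, 8212685, 3946281, -4953550, -151521, -540038, -2851477, 333689, 256999, -12446, 5582, -11092, -168, 130, -3]) (.leaf [1]))) (.node (.node (.leaf [-16, -10, -22, -4, 10, 0, 4, -3, 4, 1, 1]) (.leaf [56, -16, 156, 75, -94, 0, -10, -56, 6, 4])) (.node (.leaf [1]) (.leaf [-592436921, 122796344, -1581259700, -735749595, 934305875, 22762742, 117406598, 523690536, -54153038, -41787806, 1861170, -317783, 1476592, 46230, -14354, 143, -5])))))) (.node (.node (.node (.node (.node (.leaf []) (.leaf [])) (.node (.leaf []) (.leaf [-5442241, 585011, -12233951, -4908000, 6484514, 49460, 1398742, 3284845, -323203, -33938, 5627, 17034, 1495, 1037, -476, 9, -1]))) (.node (.node (.leaf []) (.leaf [-212564351, 78103956, -643188233, -320049029, 394734538, 14626472, 37954845, 237692971, -34787778, -23383536, 640914, -1086070, 1095652, 15576, 11626, 77, -5])) (.node (.leaf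 [-7337545, 1774481, -20585902, -9940292, 12485232, 370958, 1319019, 7186967, -748145, -699614, 28400, -14865, 23534, 109, -67, -5]) (.leaf [-75513849, 1806102, -172996872, -72855100, 97343620, 76110, 16031306, 47859458, -536219, -1995529, 220058, 403614, -41363, 6864, -10149, 69, 3])))) (.node (.node (.node (.leaf []) (.leaf [7288375, -1010117, 17286826, 7301743, -9505110, -132234, -1753093, -5005371, 505390, 188918, -12610, -13053, -7009, -1012, 497, -7, 1])) (.node (.leaf [1]) (.leaf [13803, -3733, 39486, 19158, -24027, -753, -2502, -13878, 1609, 1338, -56, 44, -47, -3]))) (.node (.node (.leaf [1]) (.leaf [])) (.node (.leaf [5868, -1688, 17567, 8803, -10934, -460, -944, -6420, 738, 735, -46, 28, -27]) (.leaf [6164790, -441847, 14740912, 6442246, -8442257, -113811, -1309454, -4363071, 142567, 340567, -26055, -8554, -880, 166, 18, 19]))))) (.node (.node (.node (.node (.leaf []) (.leaf [1])) (.node (.leaf [8074, -1418, 21712, 10255, -13098, -273, -1473, -7264, 519, 701, -40, 22, -14, 0, 1]) (.leaf [2521483, -814698,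 7110828, 3349868, -4179098, -129846, -521344, -2444184, 405249, 149678, -6164, 4352, -12285, -652, 141, -5]))) (.node (.node (.leaf [-10051344, 19752702, -55186233, -31203994, 34518317, 3007278, 2370895, 26428813, -10233448, -1795180, -53352, -367412, 327036, 15889, 8206, 177, -1]) (.leaf [1])) (.node (.leaf [1]) (.leaf [1])))) (.node (.node (.node (.leaf [1]) (.leaf [-97984280, 14917012, -253696428, -116702037, 149740460, 3016290, 19159087, 81793531, -6007915, -6831561, 346700, 38043, 153008, 1765, -4177, -51])) (.node (.leaf [1]) (.leaf [1]))) (.node (.node (.leaf [1]) (.leaf [1])) (.node (.leaf [-13992799, 3554080, -38660720, -18340979, 23053703, 674596, 2726316, 13249292, -1584728, -1139295, 45332, -28438, 46500, 1046, -104, -5]) (.leaf [1])))))))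

def twoL85 : Janko.Tree (List ℤ) :=
  (.node (.node (.node (.node (.node (.node (.leaf []) (.leaf [0, 1])) (.node (.leaf []) (.leaf [647906553, -113275972, 1698135791, 785376654, -1002229244, -23305205, -127717174, -554551526, 47805898, 46640539, -2377856, 170874, -1301666, -22709, 21978, 515, 1]))) (.node (.node (.leaf [0, 1]) (.leaf [-76873113, 16456381, -208995612, -98675966, 125026894, 3095429, 14532299, 70506838, -7036013, -6057613, 245951, -55327, 200446, 4304, -1952, 39])) (.node (.leaf [171, -76, 460, 200, -258, -4, -60, -141, 31, 15, 2]) (.leaf [-19970529, 4967487, -55208422, -26246420, 33007406, 964415, 3845322, 18944673, -2188844, -1671831, 67194, -40492, 64389, 1148, -86, -3])))) (.node (.node (.node (.leaf []) (.leaf [15036273, -4556769, 45993326, 23458824, -29121317, -979589, -2179264, -17276928, 1776106, 2042776, -58776, 60446, -61006, 820, -484, 4])) (.node (.leaf [0, 1]) (.leaf [-6585894, -1146474, -9149881, -1581344, 3019730, -345621, 2297526, 286937, 393944, 616841, -1717, 63256, -34284, 1441,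 -705, -17, -1]))) (.node (.node (.leaf [50, 46, 72, 26, -44, -3, -1, -6, -22, 3, -1]) (.leaf [0, 1])) (.node (.leaf []) (.leaf [0, 1]))))) (.node (.node (.node (.node (.leaf []) (.leaf [425389895, -55113542, 1022101005, 438417128, -570485308, -8056918, -97627827, -300437760, 27024937, 13362006, -1061157, -857272, -468487, -58292, 32026, -141, 15])) (.node (.leaf [-1491, 152, -3498, -1486, 1949, 18, 347, 1011, -60, -59, 4, 1]) (.leaf [4239672, -1163723, 12354293, 6082635, -7596645, -249797, -711549, -4426749, 506173, 437520, -20871, 11622, -18115, -182, 134, -1]))) (.node (.node (.leaf []) (.leaf [73974, -7090, 264102, 156090, -196633, -5880, 2540, -113282, -7274, 27169, -716, 863, 94, 95, -20, 1])) (.node (.leaf []) (.leaf [87526673, -9725849, 197378004, 79713741, -104823543, -1314770, -22642251, -53672123, 5153197, 1401554, -180917, -136601, -40383, -11091, 3987, 107, 9])))) (.node (.node (.node (.leaf []) (.leaf [0, 1])) (.node (.leaf [205671, -20076, 496764, 217600, -282622, -6680, -45498, -148491, 8353, 12583,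 -1263, 134, -260, 18, -8, 1]) (.leaf [0, 0, 0, 0, -1, 1]))) (.node (.node (.leaf [0, 1]) (.leaf [55, -18, 159, 77, -96, -1, -10, -58, 7, 4, 1])) (.node (.leaf [181797, -40314, 480578, 221422, -281221, -5858, -37723, -158267, 17585, 11526, -42, -55, -312, -30, -9]) (.leaf [41026755, -2477573, 86022373, 32144071, -43452353, 9588, -11273478, -20663908, 1691919, -500913, -61688, -156987, 16486, -8308, 2947, 28, 3])))))) (.node (.node (.node (.node (.node (.leaf []) (.leaf [-1106505, 317313, -3162928, -1527118, 1908119, 61329, 204348, 1111553, -145160, -95386, 4240, -3038, 4761, 106, -50])) (.node (.leaf []) (.leaf [0, 1]))) (.node (.node (.leaf []) (.leaf [60445, -17827, 182079, 91520, -115092, -2559, -9424, -66741, 6307, 7515, -27, 242, -153, 7, -10])) (.node (.leaf []) (.leaf [-81952296, 915276, -183063550, -75309323, 101257986, -52630, 18125160, 48879277, -292698, -1585625, 248466, 447641, -61067, 8254, -11408, 44, 1])))) (.node (.node (.node (.leaf []) (.leaf [-6264204, -1099253, -10713390, -3303552, 5064078,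 -255369, 1714890, 1649973, 564586, 142920, 8170, 49897, -32028, -422, -780, -14, -1])) (.node (.leaf []) (.leaf [0, 1]))) (.node (.node (.leaf []) (.leaf [])) (.node (.leaf [265046, -107701, 682916, 286523, -353851, -12733, -77340, -211253, 63801, -6277, 297, 26, -1576, -193, 20, -1]) (.leaf [5033972, -1280037, 14260630, 6898893, -8657488, -264429, -901145, -4989795, 557797, 468005, -21545, 11132, -18505, -242, 100, -1]))))) (.node (.node (.node (.node (.leaf []) (.leaf [-45, -13, -302, -232, 267, 40, -33, 172, 13, -68, 8, -2, 2, 0, 1])) (.node (.leaf [0, 1]) (.leaf [103212, -29602, 349770, 195016, -239354, -9700, -5914, -146411, 6249, 25932, -439, 1016, -269, 62, -7, 1]))) (.node (.node (.leaf []) (.leaf [-2305317, 553283, -6638923, -3286244, 4121789, 128043, 380612, 2384222, -202806, -285138, 10532, -9341, 6699, -336, 175, -7])) (.node (.leaf [-3419, 564, -8942, -4103, 5292, 109, 689, 2854, -225, -242, 13, -6, 5]) (.leaf [-642738, 123238, -1677325, -772154, 981718, 25819, 133889, 548188, -52078, -48706, 2057,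 -782, 1218, 10, 19, -1])))) (.node (.node (.node (.leaf [-306, -22, -820, -394, 528, 8, 34, 253, 15, -30, 8, -1]) (.leaf [])) (.node (.leaf []) (.leaf [-2298, 145, -5199, -2137, 2839, 20, 548, 1419, -63, -60, 8, 3, -1]))) (.node (.node (.leaf [-21285, 4952, -57340, -26641, 33881, 859, 4497, 18919, -2131, -1655, 65, -41, 60, 2, -1]) (.leaf [-61800681, 15595529, -176419123, -86208763, 108064715, 3332219, 10731196, 62531815, -6380851, -6521417, 247935, -173482, 203737, -669, 1396, -63])) (.node (.leaf [0, 1]) (.leaf [-1270437, 325930, -3519577, -1668256, 2097315, 62163, 247105, 1203342, -149296, -98932, 4811, -2391, 4653, 137, -31])))))))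

def twoL86 : Janko.Tree (List ℤ) :=
  (.node (.node (.node (.node (.node (.node (.leaf []) (.leaf [-14975, 1947, -35385, -14768, 19957, -390, 3745, 9840, -458, -473, -74, 3, -35, -2, 5])) (.node (.leaf [10796, -3206, 32087, 15965, -19874, -704, -1790, -11672, 1372, 1238, -56, 44, -47, -1]) (.leaf [14724778, -993788, 29380391, 10176759, -13943010, 97684, -4419000, -6398625, 778557, -542209, 4422, -70253, 10430, -4321, 1223, -18, 3]))) (.node (.node (.leaf [-231504, 53415, -630786, -297922, 376102, 10040, 45058, 214135, -22826, -19025, 656, -344, 588, 10, 5]) (.leaf [-81541776, 17327356, -216788694, -100306914, 127424833, 2996194, 16494526, 71396227, -7789278, -5332699, 219026, -24706, 204241, 8175, -2624, 73, -1])) (.node (.leaf [-93, -14, -207, -97, 126, 1, 12, 67, 11, -11, 1]) (.leaf [27267, -3791, 66059, 28383, -37520, -6, -6453, -19285, 1263, 1173, 34, 12, 16, 2, -5])))) (.node (.node (.node (.leaf [273, -30, 696, 318, -426, 10, -51, -217, -2, 19, 2, 0, 1]) (.leaf [323082850, -33807720, 812145147, 367268494,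 -476883530, -6587506, -62338651, -252692484, 12980756, 18573608, -1133886, -819494, -293065, -17620, 30030, -122, -7])) (.node (.leaf [-102986805, 18747863, -254183339, -109904548, 141634428, 2374085, 24072274, 76495680, -9725609, -2577222, 171964, 187569, 200543, 24298, -6669, 227, -5]) (.leaf [-22819, 5731, -64194, -30836, 38957, 964, 4218, 22187, -2366, -2058, 68, -54, 67, -1]))) (.node (.node (.leaf [-98, 39, -261, -112, 148, -3, 31, 78, -15, -4, -1]) (.leaf [3079797262, -586630438, 8032622437, 3677199530, -4688578339, -107388452, -633017769, -2600685964, 263694850, 191540107, -9434650, 263930, -6830549, -287459, 130201, 634, 37])) (.node (.leaf [0, 0, 1]) (.leaf [194496, -50080, 551285, 266740, -336326, -8546, -35495, -192651, 19937, 19135, -446, 528, -528, 2, -9]))))) (.node (.node (.node (.node (.leaf [0, 0, 1]) (.leaf [0, 0, 1])) (.node (.leaf [291, -50, 702, 298, -390, -5, -77, -203, 20, 15]) (.leaf [0, 0, 1]))) (.node (.node (.leaf []) (.leaf [16498, -911, 39478, 17414, -22618, -570, -3123, -11952,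 338, 790, -26, 28, 3, 5, 4])) (.node (.leaf [-5, 0, -6, -1, 1, 0, 2, 1]) (.leaf [0, 0, 1])))) (.node (.node (.node (.leaf [0, 0, 1]) (.leaf [733, -78, 1725, 734, -960, -12, -171, -501, 31, 30, -1])) (.node (.leaf [0, 0, 1]) (.leaf [-135505553, 43072005, -439947239, -234627747, 288814028, 11766740, 14933238, 174551290, -14633737, -25930686, 887536, -1028742, 613419, -35504, 14542, -680, 3]))) (.node (.node (.leaf [123, -18, 274, 109, -144, 1, -39, -74, 5, 9, -1]) (.leaf [0, 0, 1])) (.node (.leaf [-1, 0, 1, 0, -1, 0, 0, 1]) (.leaf [0, 0, 1])))))) (.node (.node (.node (.node (.node (.leaf [0, 0, 1]) (.leaf [-6811461, 2407376, -20833279, -10458770, 12902436, 480946, 1109869, 7748109, -1091181, -748053, 29226, -27328, 38428, 874, -67, 1, 1])) (.node (.leaf []) (.leaf []))) (.node (.node (.leaf [0, 0, 1]) (.leaf [60037, -17808, 181141, 91128, -114570, -2558, -9335, -66480, 6299, 7506, -25, 242, -153, 7, -10])) (.node (.leaf []) (.leaf [0, 0, 1])))) (.node (.node (.node (.leaf []) (.leaf [1153114193, -212753316, 2988048608,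 1362630303, -1740021617, -39224932, -239575060, -961616272, 94662750, 71661574, -3523182, 162658, -2361021, -87097, 36443, 324, 33])) (.node (.leaf [-15999, 5162, -45453, -21907, 27064, 958, 3184, 16232, -2346, -1459, 24, -42, 67, 2]) (.leaf [-6534, 1805, -17899, -8443, 10583, 252, 1339, 6167, -772, -515, 1, -10, 19, 1]))) (.node (.node (.leaf [-5, 0, -6, -1, 1, 0, 2, 1]) (.leaf [])) (.node (.leaf [0, 0, 1]) (.leaf [0, 0, 1]))))) (.node (.node (.node (.node (.leaf []) (.leaf [78343797, -11229423, 204239531, 94101213, -121290837, -1934688, -14569916, -65487610, 4785697, 4617927, -264170, -189454, -134337, -8849, 8285, -196, 1])) (.node (.leaf [123, -378, 654, 358, -330, -88, -109, -342, 196, 66, 2, 5, -6]) (.leaf [358159, -92145, 968414, 450547, -567339, -15745, -75125, -324962, 42264, 24787, -770, 610, -1104, -40, -1]))) (.node (.node (.leaf [0, 0, 1]) (.leaf [-474, 22, -1138, -499, 664, -6, 90, 337, 0, -19, 2, -1])) (.node (.leaf [-1, 0, 1, 0, -1, 0, 0, 1]) (.leaf [-5, 3, -27, -16, 23, 0, 1, 9, 0, -3])))) (.node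 (.node (.node (.leaf [-22, 45, -130, -71, 98, -12, 7, 53, -10, -4, -4, 0, -1]) (.leaf [-521733, 115138, -1397056, -651239, 825452, 19896, 105125, 465897, -49267, -38756, 1110, -574, 1154, 31, 15])) (.node (.leaf []) (.leaf [319414078, -31148368, 778014565, 342146769, -446410875, -5664268, -66761073, -233515740, 12983922, 14683845, -1025240, -817334, -209568, -23076, 27854, -48, 3]))) (.node (.node (.leaf [-21400, 4886, -57462, -26672, 33915, 866, 4513, 18941, -2106, -1656, 70, -41, 60, 2, -1]) (.leaf [243714888, -45702712, 638942141, 294356967, -375298828, -8679270, -49241074, -208250794, 19820798, 16637637, -789962, 93430, -514004, -14089, 4850, 112, 5])) (.node (.leaf [-280567, 61417, -743875, -344542, 436905, 10000, 57600, 246567, -26333, -19626, 212, -35, 490, 36, 15]) (.leaf [2846471, -710238, 7719815, 3620783, -4543843, -152308, -590424, -2614869, 321098, 235874, -11386, 8314, -9095, -85, -144, 3])))))))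

def twoL87 : Janko.Tree (List ℤ) :=
  (.node (.node (.node (.node (.node (.node (.leaf []) (.leaf [])) (.node (.leaf [7534, -1880, 20842, 9940, -12490, -358, -1449, -7193, 802, 670, -22, 16, -23]) (.leaf [32715307, -7627987, 82807726, 35957626, -45975320, -840529, -7768948, -25322876, 4172925, 427924, -37558, -67289, -102553, -11598, 3561, -133]))) (.node (.node (.leaf []) (.leaf [-17187504, 3023370, -46247236, -21930214, 27893402, 682963, 3117054, 15571642, -1154547, -1539788, 67148, -12148, 33183, -380, -309, -17])) (.node (.leaf [96, -39, 259, 112, -148, 2, -31, -77, 15, 5, 1]) (.leaf [1431, -52, 3211, 1314, -1762, 12, -328, -864, 22, 23, -10, -5, 3, -1])))) (.node (.node (.node (.leaf []) (.leaf [3168850398, -627923059, 8267513070, 3775714988, -4810262807, -110856384, -659723502, -2673829776, 287740868, 188144065, -9155528, 306882, -7422893, -352290, 136962, -136, 39])) (.node (.leaf []) (.leaf [-59, 7, -147, -64, 86, 0, 13, 43, -2, -3]))) (.node (.node (.leaf [36, 12, 85, 47, -58, -2, 1, -34, -8, 8, -1])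 (.leaf [])) (.node (.leaf [-2990603, 1154351, -10880592, -6081642, 7457645, 269476, 106980, 4555613, -417747, -619225, 20412, -14878, 20646, -277, -414, 4, 1]) (.leaf [33976710, -6428204, 83993841, 36218821, -46695715, -733455, -8003108, -25204052, 3382039, 699233, -48569, -69334, -71494, -8811, 2873, -98, 1]))))) (.node (.node (.node (.node (.leaf []) (.leaf [49886, -90608, 954528, 746586, -887599, -46766, 151774, -575267, 15192, 124629, -8257, 1788, -4362, -54, -173, 8, -1])) (.node (.leaf []) (.leaf [724473, -75878, 1955927, 940177, -1207329, -21874, -105133, -656381, 26126, 59898, -4586, -2020, -1567, -18, 190, 1]))) (.node (.node (.leaf []) (.leaf [-13807214, 4252530, -40667142, -20079015, 24944407, 870874, 2399496, 14739117, -1861167, -1473899, 58613, -53707, 62669, 634, 180, -14, 1])) (.node (.leaf []) (.leaf [54366598, -13549976, 153813753, 74905911, -93746008, -3149829, -9767939, -54398523, 5496026, 5971328, -249688, 208588, -178231, 3611, -1644, 143, 1])))) (.node (.node (.node (.leaf []) (.leaf [-82,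 27, -234, -110, 144, 1, 19, 77, -9, -8, -1])) (.node (.leaf []) (.leaf [-33750272, 7298706, -98658506, -49928748, 62596501, 2065854, 5002895, 36243448, -2142174, -5179045, 186324, -179194, 76488, -9795, 4126, -164, -3]))) (.node (.node (.leaf []) (.leaf [-207519, 51397, -571573, -268320, 339232, 9133, 40921, 191730, -24494, -13921, 1065, -297, 846, 31, -1])) (.node (.leaf [257, -64, 320, 23, -27, 14, -127, -28, 38, -35, 6, -2, 1]) (.leaf [-1809790, -394018, -1832580, 159280, 147327, -155553, 750651, -399664, 97329, 331161, -9678, 28157, -12250, 959, -483, 11, -1])))))) (.node (.node (.node (.node (.node (.leaf []) (.leaf [-15795922, 2285744, -41983392, -19946028, 25452273, 649081, 2846888, 14086325, -706562, -1644828, 81324, -31285, 21514, -2710, 798, -61])) (.node (.leaf [-1215729, 337939, -3404834, -1617675, 2027249, 62373, 237251, 1171825, -159374, -90764, 4428, -2297, 5036, 186, -50, 1]) (.leaf []))) (.node (.node (.leaf []) (.leaf [44262032, -9706672, 111489709, 48411482, -61921059, -1234953, -10402033,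 -33994863, 5386658, 666555, -89706, -94878, -140438, -14998, 5758, -157, 1])) (.node (.leaf []) (.leaf [-51782675, 2913757, -123672181, -54039733, 71078464, 721384, 10555915, 36367679, -975779, -2420456, 203346, 166902, 7561, 2113, -5567, -52, 1])))) (.node (.node (.node (.leaf []) (.leaf [156700, -33797, 420111, 196534, -248824, -6339, -31131, -140681, 14400, 12196, -434, 181, -348, -6, -3])) (.node (.leaf [-8689066, 1810087, -25438754, -12820510, 16117169, 480021, 1207436, 9254797, -615450, -1141021, 46576, -17928, 24612, -873, -40, -15]) (.leaf [252919, -54515, 660541, 301775, -383626, -8177, -53892, -215276, 23972, 15501, -139, -12, -430, -36, -11]))) (.node (.node (.leaf []) (.leaf [-233626, 87736, -691767, -336068, 413879, 15133, 44604, 249363, -43765, -17096, 632, -428, 1394, 68, -23, 1])) (.node (.leaf [382510, -125510, 982160, 422300, -528973, -15265, -101325, -306245, 70460, 1213, 108, 16, -1629, -201, 12, -1]) (.leaf [36848685, -7600518, 99724101, 47137779, -59688767, -1609267, -7028676, -33686243,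 3119500, 3216623, -144448, 67464, -91275, 384, -332, 69]))))) (.node (.node (.node (.node (.leaf []) (.leaf [-14771267, 778219, -30921338, -11563451, 15662365, -18338, 4024628, 7407676, -544606, 172024, 23633, 59828, -7438, 2918, -1083, -10, -1])) (.node (.leaf [-4089, 249, -9848, -4305, 5725, 7, 839, 2881, -33, -209, 13, -1, -5]) (.leaf [-221095058, 25989497, -509512846, -208493294, 274446514, 2031210, 54445811, 140312321, -14724996, -1039501, 352720, 805948, 202598, 52624, -25766, 391, -7]))) (.node (.node (.leaf []) (.leaf [-7183, 1728, -21799, -11046, 13963, 379, 979, 7918, -622, -939, 56, -30, 24])) (.node (.leaf [-3455, 458, -8836, -4011, 5188, 122, 699, 2765, -186, -237, 18, -6, 5]) (.leaf [7600773, 7376185, 372669, -4966189, 3382460, 1173553, -2755814, 6006252, -3664566, -938595, -39150, -176236, 146789, 4896, 956, 57, 3])))) (.node (.node (.node (.leaf []) (.leaf [108468107, -20856648, 286716999, 133111058, -169224748, -4243559, -21570918, -94528320, 8931847, 8059514, -379947, 87050, -241372, -5120,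 2018, 128, 1])) (.node (.leaf []) (.leaf [-24217, 7057, -71151, -35147, 43982, 1255, 4139, 25643, -2866, -2654, 78, -85, 87, 1]))) (.node (.node (.leaf [-86058, 20150, -227406, -104529, 131886, 3716, 18527, 74998, -9392, -5679, 232, -58, 243, 12, 3]) (.leaf [-57546993, 15282963, -167412362, -82814610, 103491406, 3334465, 9562736, 60331686, -6185108, -6568123, 246012, -190294, 205980, -1509, 1782, -70, 1])) (.node (.leaf []) (.leaf [-10404, 4740, -34997, -18381, 22362, 1099, 1427, 13814, -2157, -1554, 44, -70, 80, 5])))))))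

def twoL88 : Janko.Tree (List ℤ) :=
  (.node (.node (.node (.node (.node (.node (.leaf []) (.leaf [249112, -64606, 707792, 343431, -431472, -11930, -44548, -248930, 26602, 24235, -670, 604, -753, -2, -9])) (.node (.leaf [74, -9, 186, 82, -110, 0, -17, -54, 2, 5]) (.leaf [1]))) (.node (.node (.leaf []) (.leaf [-60, 5, -149, -66, 88, 0, 12, 44, -1, -3])) (.node (.leaf [-75110, 19440, -211618, -102195, 127808, 3861, 13451, 74399, -8567, -6645, 239, -130, 258, 4, 1]) (.leaf [-428392, 94008, -1143502, -531830, 674176, 16578, 87317, 380196, -40372, -31904, 1076, -541, 973, 19, 10])))) (.node (.node (.node (.leaf [8416, -3203, 25677, 12919, -15757, -696, -1461, -9693, 1475, 1000, -28, 28, -53, -2, 1]) (.leaf [1])) (.node (.leaf [-6, -3, -9, -5, 4, -1, -1, 6, 1, 0, 0, 1]) (.leaf [1]))) (.node (.node (.leaf []) (.leaf [15561048, -2856414, 40560760, 18585878, -23720922, -544280, -3168856, -13117360, 1276826, 986397, -53632, 600, -34242, -1356, 471, 9])) (.node (.leaf [16738, -5032, 47703, 23080, -28704, -914, -3182, -16958,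 2214, 1565, -36, 46, -67, -2]) (.leaf [-57, 16, -160, -77, 96, 0, 10, 58, -6, -4]))))) (.node (.node (.node (.node (.leaf []) (.leaf [])) (.node (.leaf []) (.leaf [411551, -106268, 1124994, 529080, -665241, -18180, -83010, -382817, 47566, 30870, -786, 584, -1150, -53]))) (.node (.node (.leaf [1]) (.leaf [706395, -149748, 1919204, 910150, -1151174, -30930, -134449, -652175, 60312, 63834, -2399, 1336, -1618, 14, -19, 1])) (.node (.leaf [146, -16, 345, 150, -194, -1, -32, -105, 5, 7]) (.leaf [-439811525, 92430955, -1163614155, -537198141, 681780095, 17392822, 90257911, 382453084, -41608749, -29749644, 1400078, -377089, 1117134, 36562, -9793, -148, -13])))) (.node (.node (.node (.leaf [169201, -49557, 490634, 239471, -298749, -9785, -30269, -174633, 22208, 16182, -713, 455, -747, -22, 3]) (.leaf [-72665, 51569, -136813, -20802, 24029, 1703, 41417, 15340, -40172, 25916, -166, 219, 1111, 166, -31, 1])) (.node (.leaf []) (.leaf [171378, -79971, 416415, 157500, -193782, -7021, -59590, -116440, 51275, -15152, 573, -198,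 -1196, -179, 20, -1]))) (.node (.node (.leaf []) (.leaf [4897, -1422, 13965, 6741, -8391, -287, -939, -4913, 669, 447, -32, 7, -27, 0, 1])) (.node (.leaf [-268940592, 55737641, -711237977, -327682514, 416860464, 9582943, 54709902, 232650244, -25392401, -16685520, 760774, -13694, 674461, 31034, -9545, 207, -1]) (.leaf [148561, -21006, 401482, 194569, -247329, -6986, -25227, -138199, 5156, 18656, -858, 470, -185, 34, -8, 1])))))) (.node (.node (.node (.node (.node (.leaf []) (.leaf [1])) (.node (.leaf [-442, 44, -1043, -446, 584, 7, 101, 304, -17, -19, 1]) (.leaf [-89544220, 1047375, -203032047, -85215833, 114009496, 272129, 19201640, 55798829, 116736, -2903548, 312786, 407924, -69021, 2926, -10882, -64, 1]))) (.node (.node (.leaf [43558248, -11718708, 120363709, 56667569, -71206348, -2004526, -8657601, -40946394, 5547318, 2925188, -113868, 43842, -161425, -8025, 2478, -70, 1]) (.leaf [51785089, -3450830, 103951007, 35002894, -48910682, 1443723, -14937244, -21263798, 3754728, -4534631, 45673, -529440, -31897, -30329,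 16053, -386, -7])) (.node (.leaf [1]) (.leaf [1])))) (.node (.node (.node (.leaf [-44, 9, -119, -55, 72, 0, 9, 38, -3, -3]) (.leaf [670773, -130928, 1753104, 807626, -1027265, -24608, -138986, -574501, 54219, 49934, -1633, 853, -1179, 8, -49, 1])) (.node (.leaf [-34497, 2848, -86499, -40009, 51508, 1434, 6746, 27761, -417, -3752, 232, -86, 10, -9, 1]) (.leaf [44678604, -24030765, 166187302, 92509763, -111304022, -5709536, -3980370, -70901121, 9615172, 10395132, -336708, 599173, -390567, 9826, -9845, 155, -3]))) (.node (.node (.leaf [62, -6, 148, 65, -84, -1, -13, -45, 2, 3]) (.leaf [1])) (.node (.leaf [-877, 83, -2170, -956, 1278, -10, 192, 638, -14, -55, 5, 0, -1]) (.leaf [-611048, 150161, -1743247, -853203, 1072385, 30699, 105490, 617760, -57986, -67198, 2132, -1857, 1707, -30, 27, -1]))))) (.node (.node (.node (.node (.leaf [1]) (.leaf [])) (.node (.leaf [-549, 59, -1352, -581, 791, -10, 131, 376, -12, -28, 2, 0, -1]) (.leaf [-61628367, 24544377, -200962006, -105307134, 128796085, 5629968, 8625099, 78974376,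 -10017850, -10200163, 362392, -526666, 372947, -7130, 8643, -168, 1]))) (.node (.node (.leaf [9826, 42045, 53566, 55687, -78242, 1666, 20350, -34728, -34404, 25455, -658, 50, 929, 148, -36, 1]) (.leaf [109556, -28619, 306806, 146113, -183836, -5503, -21029, -105163, 13161, 8789, -514, 235, -438, -18, 3])) (.node (.leaf []) (.leaf [-45987, 5923, -111501, -48299, 63178, 697, 10580, 33017, -2328, -2169, 104, -9, 12, -1, 1])))) (.node (.node (.node (.leaf []) (.leaf [1])) (.node (.leaf []) (.leaf [-183377616, 45522162, -511048539, -244451828, 307445966, 8847845, 34285445, 176442748, -19871054, -15827151, 643018, -343332, 604624, 10584, -2380, 14, 1]))) (.node (.node (.leaf [-3807, 2384, -14760, -8175, 9997, 360, 404, 6193, -899, -868, 0, -57, 38, 0, -1]) (.leaf [-43345305, 12454638, -137734371, -72747893, 89979027, 3459864, 4941967, 53757178, -4140928, -7822607, 283840, -280318, 176102, -11378, 3492, -170, 1])) (.node (.leaf [-21407, 5520, -59752, -28588, 35945, 1012, 4089, 20677, -2350, -1918, 58, -50, 70, -1])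 (.leaf [32691295, -6708352, 85900560, 39319071, -50102181, -1107236, -6757656, -27844791, 3111505, 1867895, -90298, -8296, -82170, -3931, 2047, -54, 1])))))))

def twoL89 : Janko.Tree (List ℤ) :=
  (.node (.node (.node (.node (.node (.node (.leaf [0, 1]) (.leaf [394, 3382, -6188, -4703, 4868, 498, -457, 4287, -1657, -470, -26, -55, 69, 2, -1])) (.node (.leaf [0, 1]) (.leaf []))) (.node (.node (.leaf []) (.leaf [0, 1])) (.node (.leaf [1702, 159, 2356, 427, -625, -43, -598, -195, 42, -169, -1, -14, 1]) (.leaf [-3232673, 738793, -8844073, -4186627, 5280295, 150990, 618184, 3005800, -326125, -263117, 12672, -4802, 10064, 176, -109, -1])))) (.node (.node (.node (.leaf [0, 1]) (.leaf [107691, -20473, 277102, 125402, -160875, -2757, -23180, -88430, 8437, 6585, -136, 96, -139, -4, -5])) (.node (.leaf [3, -5, 14, 5, -9, 0, -3, -2, 2, 0, 0, 1]) (.leaf [87384655, -45382744, 305183195, 162856200, -196931981, -8944522, -11187463, -124121447, 20112316, 14102986, -375008, 746547, -732245, -7840, -5516, -148, -5]))) (.node (.node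 (.leaf []) (.leaf [-364446, 66831, -981820, -466533, 591672, 15964, 67287, 332707, -24993, -35146, 1551, -740, 694, -34, 11, -1])) (.node (.leaf []) (.leaf []))))) (.node (.node (.node (.node (.leaf []) (.leaf [-4566799, 902329, -12231047, -5733350, 7275291, 188819, 880366, 4080721, -385218, -358959, 17211, -3524, 11099, 212, -111, -3])) (.node (.leaf [-20980, 3406, -52056, -22854, 29689, 442, 4886, 15784, -1369, -1156, 34, -20, 16, 0, 1]) (.leaf [-458134, 89931, -1206738, -559936, 711321, 17621, 92961, 399005, -36555, -36327, 1233, -744, 856, -18, 26, -1]))) (.node (.node (.leaf []) (.leaf [-103797323, 10286369, -247740749, -106388135, 139382910, 1403223, 22873309, 72142792, -4876108, -3216935, 283512, 329046, 74772, 13516, -10196, 62, 1])) (.node (.leaf [0, 1]) (.leaf [-260704350, 47352340, -680465449, -312868443, 398974043, 9494007, 52734776, 221070950, -20701142, -17664766, 913883, -69762, 551169, 15985, -9263, -174, -7])))) (.node (.node (.node (.leaf []) (.leaf [0, 1])) (.node (.leaf [-1222, 39, -3025,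 -1395, 1806, 19, 194, 967, -1, -82, 10, 3]) (.leaf [-851561492, 192291668, -2326962979, -1099679185, 1389841488, 36659010, 161997505, 788059007, -84605767, -66264088, 2919718, -883482, 2510189, 70682, -28839, -54, 15]))) (.node (.node (.leaf []) (.leaf [0, 1])) (.node (.leaf [520, -15, 1288, 613, -754, -65, -97, -431, 13, 79, -12, 1, -3]) (.leaf [721068, -151666, 1920337, 895163, -1133650, -30799, -146020, -639544, 64480, 57629, -2341, 1122, -1648, -18, -19, 1])))))) (.node (.node (.node (.node (.node (.leaf []) (.leaf [])) (.node (.leaf [0, 1]) (.leaf [-40167248, -1355299, -93808819, -41701366, 55507466, 467155, 7401729, 27527265, 1751580, -3188566, 218182, 105502, -68376, -8985, -2634, -173, -1]))) (.node (.node (.leaf []) (.leaf [-37007353, 9799480, -105493903, -51754033, 64474673, 2428687, 6778851, 37827702, -3824026, -4612395, 149733, -191323, 107415, -3575, 4081, -110, -7])) (.node (.leaf []) (.leaf [-414679862, 234953572, -1508140628, -821783843, 987351146, 48686986, 47277877, 631751219, -101425961, -79294454,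 2010258, -4678923, 3739326, 4481, 52007, -223, 31])))) (.node (.node (.node (.leaf [0, 1]) (.leaf [-37409, 8402, -108597, -53756, 67984, 1844, 5925, 38555, -3002, -4515, 284, -216, 136, -12, 1])) (.node (.leaf [0, 1]) (.leaf [-41664393, 3944963, -95208150, -38896327, 51517747, 126606, 9993512, 25970002, -2217084, -123312, 39693, 200984, 16856, 10014, -6201, 104, -1]))) (.node (.node (.leaf [0, 1]) (.leaf [-756, 85, -1787, -762, 998, 11, 177, 520, -33, -32, 1])) (.node (.leaf [-225026, 49493, -606346, -284238, 359921, 9139, 44518, 203448, -21068, -17658, 635, -325, 536, 6, 3]) (.leaf [3172313, 54828, 11139508, 6553054, -8348128, -162590, 277438, -4655227, -373076, 938268, -36624, -5791, 639, 2080, -88, 15, -1]))))) (.node (.node (.node (.node (.leaf [0, 0, 0, 0, -1, 1]) (.leaf [-5861148, 1467558, -16051832, -7540029, 9500753, 261197, 1160560, 5425605, -682213, -407397, 18679, -6980, 20322, 743, -328, 5])) (.node (.leaf [-20195, 4005, -52374, -23821, 30382, 781, 4422, 16804, -1776, -1394, 78, -20, 46, 2, -1]) (.leaf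 [0, 1]))) (.node (.node (.leaf []) (.leaf [0, 1])) (.node (.leaf [19612, -1276, 44583, 18347, -24714, 160, -4710, -12082, 265, 592, -12, -7, 34, 2, -1]) (.leaf [-70596511, 16975607, -183042148, -82012026, 104006770, 2625171, 16200249, 58480509, -8361892, -3241423, 145458, -64427, 204169, 12597, -922, 45, -3])))) (.node (.node (.node (.leaf []) (.leaf [-145432565, 40542628, -414169763, -200427915, 250629131, 7862514, 26926371, 145920174, -17680662, -13731319, 491706, -420488, 540978, 6894, 2056, -24, -1])) (.node (.leaf []) (.leaf [-398, 138, -1278, -656, 836, 12, 66, 473, -39, -70, 3, -5, 1]))) (.node (.node (.leaf [0, 1]) (.leaf [-44997265, 11631301, -134717155, -68704458, 85419489, 3178098, 6560731, 50381606, -4056763, -6858490, 256040, -252833, 149915, -9380, 3239, -188, -1])) (.node (.leaf [392, -39, 2018, 1228, -1688, 65, 131, -802, -66, 108, -6, 4, 2, -1]) (.leaf [17407839, -2639778, 47215346, 22716030, -28944431, -701702, -2919193, -16084165, 849873, 1805380, -83028, 15038, -28385, 1871, 342, 35])))))))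

def twoL90 : Janko.Tree (List ℤ) :=
  (.node (.node (.node (.node (.node (.node (.leaf []) (.leaf [0, 0, 1])) (.node (.leaf [-264, 41, -690, -322, 414, 3, 49, 228, -13, -20, 1]) (.leaf [-5954906, 716657, -13569379, -5506487, 7244098, 64488, 1516579, 3713500, -386511, -54432, 5011, 17305, 2597, 1179, -464, 10, -1]))) (.node (.node (.leaf []) (.leaf [-1260542, 315039, -3516596, -1680641, 2111520, 65755, 237164, 1212076, -141651, -107996, 5740, -2802, 4689, 82, -30, -1])) (.node (.leaf [0, 0, 1]) (.leaf [26342618, -2074365, 57335301, 22346406, -29850025, -118442, -6928079, -14672823, 1229093, -11539, -39112, -91272, 2929, -4843, 2000, -4, 3])))) (.node (.node (.node (.leaf []) (.leaf [-905, 107, -2390, -1108, 1480, -26, 164, 751, -4, -68, -2, 0, -1])) (.node (.leaf [3, -4, 12, 2, -6, -1, -5, 2, 1, 1, 0, 1]) (.leaf [16674806, -3192381, 46948389, 23053796, -29134610, -790552, -2643808, -16530306, 1110780, 1899566, -79316, 29750, -39142, 1593, 24, 34, -1]))) (.node (.node (.leaf []) (.leaf [-442419, 105595, -1145356,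 -511212, 649828, 14751, 101493, 363131, -53318, -17141, 756, 324, 1272, 116, -1, 1])) (.node (.leaf [31161, -5909, 81532, 37584, -47818, -1198, -6378, -26674, 2508, 2292, -112, 44, -65]) (.leaf [0, 0, 1]))))) (.node (.node (.node (.node (.leaf [971, -85, 2251, 942, -1240, -18, -236, -631, 38, 40, -6, 0, -1]) (.leaf [-402963, 88552, -1090809, -512626, 649043, 16849, 78836, 366513, -38225, -31805, 1434, -566, 1100, 12, 9])) (.node (.leaf []) (.leaf [45263883, -10234541, 131565145, 65964586, -82706913, -2661791, -6976489, -47859572, 3409734, 6268039, -226874, 193436, -117348, 8960, -3548, 142, 3]))) (.node (.node (.leaf [17, 12, 5, -9, 5, 0, -9, 12, -6, 0, 0, 0, 0, 1]) (.leaf [9829958, -1614051, 24495068, 10806073, -13911676, -261824, -2187620, -7531768, 762311, 431766, -22967, -10129, -15507, -1259, 596, -8, 1])) (.node (.leaf [55, -6, 140, 63, -82, -1, -11, -43, 2, 3]) (.leaf [0, 0, 1])))) (.node (.node (.node (.leaf [13, -3, 36, 17, -23, 0, -4, -11, 0, 3]) (.leaf [11640329, -3093840, 37410939, 20000354, -24796726,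 -901947, -1123164, -14743180, 908194, 2241826, -78252, 69398, -43024, 3750, -868, 41])) (.node (.leaf [1119, -144, 2695, 1154, -1518, -16, -265, -782, 56, 49, -2, 1]) (.leaf [0, 0, 1]))) (.node (.node (.leaf []) (.leaf [195549, -51630, 557168, 270238, -340422, -8736, -35509, -195471, 20633, 19422, -440, 564, -552, 2, -9])) (.node (.leaf []) (.leaf [805119, -172826, 2146728, 1000608, -1266035, -35122, -163828, -715601, 74317, 63968, -2582, 1227, -1907, -30, -19, 1])))))) (.node (.node (.node (.node (.node (.leaf []) (.leaf [34, -19, 129, 67, -88, 0, -7, -46, 6, 7])) (.node (.leaf [-635, 64, -1526, -666, 870, 7, 134, 458, -23, -27, 1]) (.leaf [0, 0, 1]))) (.node (.node (.leaf []) (.leaf [31822701, -1315401, 59860920, 17691694, -25976144, 1600625, -9633126, -9736259, 2504124, -4495449, 67011, -467676, -25197, -25991, 14443, -373, -9])) (.node (.leaf []) (.leaf [535502563, 63059043, 909119633, 259207456, -398723720, 21359490, -158260514, -126448891, -19737307, -35143964, -412890, -5498208, 1804056, -130016, 109617,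 -1101, 51])))) (.node (.node (.node (.leaf []) (.leaf [0, 0, 1])) (.node (.leaf [491522, -608098, 2103168, 1112994, -1272003, -87799, -106166, -905341, 332685, 26362, 1227, 6278, -11028, -693, 98, -13]) (.leaf [78480387, -25196060, 222582381, 106707615, -132383450, -5100868, -16400197, -78463330, 11266184, 7753815, -275904, 451292, -321061, -902, -9577, 175, 9]))) (.node (.node (.leaf [50, -10, 126, 56, -72, -1, -12, -39, 4, 3]) (.leaf [])) (.node (.leaf [-3672, 203, -8205, -3370, 4484, 8, 891, 2243, -56, -132, 12, 6, -3]) (.leaf [0, 0, 1]))))) (.node (.node (.node (.node (.leaf []) (.leaf [0, 0, 1])) (.node (.leaf [0, 0, 1]) (.leaf [3553737, -869482, 9154455, 4053508, -5141875, -122938, -822620, -2885112, 460904, 99608, -5804, -3182, -11661, -1129, 323, -9]))) (.node (.node (.leaf []) (.leaf [6656450, 22805250, -88626449, -77438013, 87009408, 6789654, -16977897, 64381930, -7618364, -14476226, 454052, -671342, 548026, -16193, 2260, 53, 31])) (.node (.leaf []) (.leaf [0, 0, 1])))) (.node (.node (.node (.leaf [])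 (.leaf [330734, -80273, 924648, 442977, -558164, -15775, -61029, -318578, 35110, 28764, -1495, 619, -1170, -19, -7])) (.node (.leaf [0, 0, 1]) (.leaf [-32309, 7870, -90049, -43195, 54072, 1760, 5636, 31425, -3548, -2555, 90, -126, 105, -5, -6]))) (.node (.node (.leaf [-22406, 4303, -58129, -26424, 33976, 594, 4824, 18563, -1707, -1508, 36, -41, 34, 0, 1]) (.leaf [0, 0, 1])) (.node (.leaf [-264, -32, 527, 595, -848, 74, 271, -383, -62, 76, -2, 4, 2, -1]) (.leaf [0, 0, 1])))))))

def twoL91 : Janko.Tree (List ℤ) :=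
  (.node (.node (.node (.node (.node (.node (.leaf []) (.leaf [])) (.node (.leaf [16085189, -6722301, 51166959, 25499329, -31588245, -807492, -2374333, -18815739, 3538095, 704307, -13876, -55328, -122824, -10986, 5380, -231, -1]) (.leaf [-7088295, -192153, -11727316, -2974271, 4554743, -213969, 2435815, 1468430, -132027, 598168, -4858, 50172, -16995, 2420, -811, -2, -1]))) (.node (.node (.leaf [98703, -24499, 274781, 131534, -165509, -4577, -18532, -95028, 10368, 8807, -284, 197, -292, -4, -1]) (.leaf [-2135320, -16116, -7107495, -4255467, 5253303, 303537, -39640, 3131039, 318933, -926882, 42349, -41236, -2510, -3506, 978, -77])) (.node (.leaf []) (.leaf [-8948759, 2113729, -24202599, -11309941, 14269964, 393070, 1791536, 8119652, -974394, -622809, 27270, -8419, 27792, 1068, -350, 5])))) (.node (.node (.node (.leaf [-40722, 4617, -97214, -41633, 54685, 563, 9487, 28240, -1814, -1768, 99, 7, 2, 0, 1]) (.leaf [3814, -213, 8599, 3564, -4661, -119, -904, -2389, 126, 141, -28, -2, -1, -1])) (.node (.leaf [-158121,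 33956, -423777, -198213, 251045, 6322, 31395, 141827, -14425, -12289, 434, -180, 347, 6, 3]) (.leaf [-24469, 6148, -69101, -33299, 42071, 1023, 4462, 23969, -2506, -2258, 72, -56, 67, -1]))) (.node (.node (.leaf []) (.leaf [])) (.node (.leaf [-2569, 166, -5840, -2414, 3204, 21, 606, 1606, -73, -69, 10, 4, -1]) (.leaf [15782815, -5213890, 47814688, 24043461, -29737463, -1092589, -2573772, -17770102, 2217042, 1930115, -67699, 77334, -76091, -16, -459, 19]))))) (.node (.node (.node (.node (.leaf []) (.leaf [])) (.node (.leaf [0, 0, -1, 0, 1]) (.leaf [59631334, -15090879, 170253115, 83165817, -104256406, -3198466, -10355810, -60320249, 6203458, 6233182, -237178, 162022, -198298, 162, -1100, 57]))) (.node (.node (.leaf []) (.leaf [-183550034, 47847523, -504291408, -237549761, 298583772, 8752376, 36978920, 171624934, -21742637, -14045682, 553820, -398019, 618179, 16932, 648, -18, -3])) (.node (.leaf [7259132, -1059512, 17267358, 7292858, -9480230, -138435, -1754631, -5008062, 540279, 175099, -11828, -13500, -8068,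 -1227, 511, -9, 1]) (.leaf [-139759298, 24864076, -357966407, -161723653, 206867526, 4612878, 29638858, 113746940, -11348659, -7962508, 435468, 22374, 278912, 13267, -5839, -39, -7])))) (.node (.node (.node (.leaf []) (.leaf [-2641480, 449528, -3210388, 193020, 38360, -133460, 1359882, -389868, -560986, 772040, -18592, 33999, 4717, 3594, -851, 35])) (.node (.leaf [6152582, -1478817, 17140401, 8212285, -10330407, -309399, -1136918, -5917939, 644566, 547056, -26264, 12556, -20771, -286, 106, 3]) (.leaf [-813280039, 171874709, -2192429626, -1027615063, 1302915545, 32563000, 157043805, 732936314, -75666456, -59722180, 2747280, -498620, 2185570, 68934, -32750, -20, 13]))) (.node (.node (.leaf []) (.leaf [14330114, -2818524, 37116879, 16868234, -21496613, -520980, -3061671, -11934297, 1280837, 876473, -42088, 8153, -31248, -1166, 239, -3, 1])) (.node (.leaf [-2, 0, -1, 0, 0, 0, 0, 1]) (.leaf [-464550, 101635, -1233788, -571488, 724857, 17064, 95321, 408509, -44028, -32536, 768, -312, 953, 40, 14])))))) (.node (.node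 (.node (.node (.node (.leaf []) (.leaf [1310986, -369048, 3700204, 1769079, -2213503, -70128, -250857, -1284011, 172908, 103564, -4992, 2616, -5563, -192, 56, -1])) (.node (.leaf []) (.leaf [-50569250, -5144263, -103866081, -40913804, 56795819, -461272, 11261157, 25046452, 3221942, -1653431, 217888, 271134, -152871, -6093, -4952, -185, -3]))) (.node (.node (.leaf []) (.leaf [70814, -2890615, 16259763, 12948980, -15153408, -685952, 2749859, -10294821, 1005058, 1776106, -90563, 31821, -96948, 1296, 2419, -50, -11])) (.node (.leaf []) (.leaf [-112659368, 18806203, -271170507, -115408451, 149125849, 2685144, 27531799, 79985906, -9455006, -3314582, 202598, 86926, 160003, 17243, -2908, 23, -11])))) (.node (.node (.node (.leaf []) (.leaf [-66811981, 9406101, -162851119, -70617992, 91544704, 1471577, 15098172, 48651569, -4604635, -2345811, 178817, 119668, 90165, 9523, -4890, 51, -3])) (.node (.leaf [-6202, -277, -13050, -5254, 7031, 83, 1417, 3399, 156, -241, 39, 27, -11, 0, 1]) (.leaf [-59646665, -12627272, -93189125,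 -23548452, 39399127, -3467347, 17139102, 8916929, 5071842, 4622469, 31206, 798609, -296182, 13918, -17556, 133, -3]))) (.node (.node (.leaf [-747450837, 169384023, -2036016357, -959034788, 1212478476, 31682817, 143831922, 686964539, -75318180, -56121702, 2468382, -697248, 2204074, 71662, -27594, 57, 11]) (.leaf [-1300086, 286801, -3534429, -1666406, 2104110, 58059, 247111, 1193790, -129831, -97203, 4403, -249, 3860, 151, -82, 1])) (.node (.leaf []) (.leaf [-173955, 56357, -488963, -230806, 287540, 9025, 36486, 169081, -26951, -11933, 332, -482, 767, 35, -7]))))) (.node (.node (.node (.node (.leaf []) (.leaf [-11461727, 5956463, -39319527, -20792892, 25098132, 1183561, 1640571, 15886161, -2650281, -1810804, 46646, -108688, 93333, 697, 1047, -2, 1])) (.node (.leaf []) (.leaf [89779262, -1084598, 203658943, 85513852, -114388839, -282019, -19244573, -56010283, -104714, 2928020, -313840, -407400, 68705, -2889, 10868, 65, -1]))) (.node (.node (.leaf []) (.leaf [61793449, -26688762, 204772251, 108940956, -131983004,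 -6782947, -8947475, -82763518, 10221822, 12565448, -366164, 792738, -355401, 19179, -17780, 423, 7])) (.node (.leaf [-13, 3, -37, -17, 24, 0, 4, 11, 0, -3]) (.leaf [-103224378, 16561746, -278081697, -132216868, 168777633, 3686590, 17969035, 93410638, -6084193, -9130297, 431888, 1435, 192198, -3131, -4223, -57, 5])))) (.node (.node (.node (.leaf []) (.leaf [39342624, -5564050, 90871354, 37272751, -48652295, -675097, -10118791, -25430847, 2922918, 655245, -61269, -52744, -36497, -6244, 1281, 22, 5])) (.node (.leaf []) (.leaf [310, 45, 706, 301, -413, -7, -47, -180, -14, 3, -4, -3]))) (.node (.node (.leaf [11631, 634, 21381, 6793, -10183, 623, -3384, -3747, -389, -504, 26, -43, 62, 2, -1]) (.leaf [-34404207, 8984834, -105126173, -54528821, 67600771, 2671791, 4601541, 40140238, -2894098, -5956781, 220618, -237157, 114440, -10252, 3592, -193, -1])) (.node (.leaf [1550, -120, 3279, 1258, -1667, -8, -415, -843, 64, 2, 0, -2, 1]) (.leaf [23690215, -3520863, 61576822, 28509175, -36529059, -797112, -4557473, -20008522,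 1359867, 1819320, -91640, -2119, -35460, 224, 937, 24, 1])))))))

def twoL92 : Janko.Tree (List ℤ) :=
  (.node (.node (.node (.node (.node (.node (.leaf []) (.leaf [241955, -40580, 653350, 313106, -397108, -11224, -43080, -223074, 13750, 26013, -1212, 574, -416, 38, -9, 1])) (.node (.leaf [-36971, 9146, -93539, -40685, 51692, 1376, 9091, 28901, -4817, -982, 42, -50, 108, 9, 1]) (.leaf [893, -101, 1590, 477, -625, -22, -320, -319, 73, -30, 5, -1, 0, -1]))) (.node (.node (.leaf [1]) (.leaf [2843551, -660442, 7477547, 3399558, -4308449, -108489, -613770, -2424122, 324624, 141610, -7129, 370, -8688, -556, 141, -3])) (.node (.leaf [27232962, -9279052, 83476172, 42306165, -52184780, -2115810, -4428981, -31334869, 3883970, 3707398, -144701, 175602, -136273, 1211, -3038, 71, 1]) (.leaf [1209580, -337488, 3390081, 1611278, -2018805, -62305, -235972, -1167519, 159215, 90521, -4407, 2296, -5035, -186, 50, -1])))) (.node (.node (.node (.leaf [58, 59, 190, 125, -181, 26, 39, -82, -46, 6, 2, -2, 1]) (.leaf [54, 22, -200, -208,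 256, 12, -68, 153, 4, -47, 4, -2, 1])) (.node (.leaf [-8485791, 1296172, -21070981, -9310730, 11995035, 240719, 1878059, 6475676, -594532, -420391, 25470, 5044, 12348, 668, -406, 1, -1]) (.leaf [3536431, -4385474, 24874708, 16933508, -19782171, -1214088, 1467800, -13500393, 1423687, 2703714, -69945, 136890, -82263, 4502, -1590, 29, -3]))) (.node (.node (.leaf [1]) (.leaf [])) (.node (.leaf [-694, 72, -2940, -1692, 2310, -76, -104, 1114, 70, -138, 6, -4, -2, 1]) (.leaf [5166692, -1773131, 16488619, 8623422, -10592276, -440179, -678876, -6425741, 695994, 844895, -32148, 34378, -27538, 736, -255, 15]))))) (.node (.node (.node (.node (.leaf [1]) (.leaf [])) (.node (.leaf [1]) (.leaf [1]))) (.node (.node (.leaf [55597720, -60271820, 245489789, 138238567, -159493975, -10834876, -7416638, -111644406, 29168261, 11684692, -139126, 1203245, -1013498, -26773, -14532, -189, -5]) (.leaf [10378326, -4786051, 35614707, 19051262, -23134470, -1034527, -1250588, -14436164, 2011838, 1806234, -55981, 90504, -76807, 446, -792, 14,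 -1])) (.node (.leaf [-43323240, 11681523, -119737227, -56369846, 70827379, 1994649, 8614627, 40735150, -5535298, -2900768, 112818, -43320, 161110, 8062, -2492, 71, -1]) (.leaf [1])))) (.node (.node (.node (.leaf [-48, 9, -126, -61, 76, 0, 8, 46, -2, -5]) (.leaf [-27651, 5628, -74618, -35062, 44609, 1071, 5351, 24906, -2306, -2271, 108, -48, 64, 3])) (.node (.leaf [6307668, -498654, 14037478, 5624637, -7478329, -45411, -1595823, -3724187, 263730, 79506, -17744, -13154, -1220, -877, 44, 28, -1]) (.leaf [15148, -49196, 17699, -21108, 35119, -3002, -24961, 9423, 37503, -23058, 580, 20, -1021, -149, 36, -1]))) (.node (.node (.leaf [1]) (.leaf [11103464, -2030522, 28026760, 12335042, -15886029, -234964, -2426580, -8594831, 1066885, 264113, -21456, -32800, -26076, -3216, 1113, -34, -1])) (.node (.leaf [1]) (.leaf [-170398, 36521, -454480, -211516, 268400, 6326, 34372, 151098, -15453, -12723, 424, -221, 370, 7, 3])))))) (.node (.node (.node (.node (.node (.leaf [1]) (.leaf [-6, 1, -10, -4, 4, 1, 2, 3, -1])) (.node (.leaf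 [254395314, -1753518, 514101500, 186177228, -257261004, 2791993, -68708071, -115099167, 3875540, -5418929, -389684, -1480594, 301151, -50346, 34430, -96, 15]) (.leaf [3462, -273, 7717, 3140, -4137, -36, -858, -2117, 124, 86, -8, -5, 1]))) (.node (.node (.leaf [1]) (.leaf [1])) (.node (.leaf []) (.leaf [-33422806, 9299200, -89564426, -40895995, 51419951, 1494476, 7451155, 29490222, -4678412, -1639838, 75276, -35923, 126536, 7416, -1168, 81, -1])))) (.node (.node (.node (.leaf []) (.leaf [11395, -2166, 30055, 13939, -17713, -476, -2298, -9890, 928, 887, -54, 16, -25, -1])) (.node (.leaf [-70581650, 20463258, -206446579, -101471810, 126717738, 3873948, 11988126, 74009278, -8996075, -6844741, 248092, -144618, 294289, 6624, -842, 128, 3]) (.leaf [11666819, -1908710, 30644305, 14248881, -18211689, -420031, -2249256, -10037943, 757440, 919024, -50338, 8536, -21827, 201, 122, 23]))) (.node (.node (.leaf [31423455, -9300333, 86064417, 39717692, -49832951, -1356122, -6675156, -28743775, 4799140, 1320091, -62038, -1618,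 -140066, -10578, 2778, -91, -3]) (.leaf [1])) (.node (.leaf [1698, -352, 4286, 1881, -2430, -66, -431, -1298, 158, 108, -4, 2, -2, 1]) (.leaf [-3086, 1165, -10691, -5991, 7199, 414, 271, 4574, -372, -860, 38, -33, 17, 0, -1]))))) (.node (.node (.node (.node (.leaf []) (.leaf [-574549418, 58847668, -1319944293, -542929986, 715810168, 5553816, 139665194, 364555345, -31333981, -7734935, 1059168, 1848622, 292426, 99951, -53561, 566, -37])) (.node (.leaf []) (.leaf [-16762181, 633575, -33351855, -11686931, 16108451, -135785, 4874778, 7266345, -556978, 462440, 8350, 79396, -18763, 3651, -1504, 7, -3]))) (.node (.node (.leaf []) (.leaf [4305536, 1482774, -4081935, -7718957, 8359587, 821144, -3550939, 6690183, 66784, -2431434, 73524, -101468, 48380, -6822, 736, -19, 3])) (.node (.leaf [1]) (.leaf [-599690, -444711, -2732877, -2162276, 2629098, 222668, -321167, 1620126, 532282, -823258, 34538, -40176, -10358, -3886, 1226, -81])))) (.node (.node (.node (.leaf [1]) (.leaf [-28430431, 5471501, -60728948, -21918052, 28872492,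 184915, 8951623, 14773213, -3488577, 1236399, -49224, 74041, 39081, 11579, -2227, 84, -5])) (.node (.leaf [5011, -875, 13169, 6097, -7842, -130, -1011, -4283, 308, 411, -18, 9, -4]) (.leaf [-26857954, 6163193, -74116969, -35364274, 44614123, 1224104, 4999950, 25421460, -2604244, -2352199, 88919, -39692, 75435, 960, -251, 3, -1]))) (.node (.node (.leaf []) (.leaf [-23513393, 6010576, -63566143, -29353531, 37067244, 930578, 4848229, 21049231, -2989860, -1167367, 52424, 10537, 84510, 6253, -2285, 71])) (.node (.leaf [-345825506, 73034962, -960713561, -462656326, 584873431, 15184056, 60058779, 331543471, -29704208, -31790816, 1333492, -302650, 945193, 7760, -13336, 2, 7]) (.leaf [3030, -167, 6845, 2819, -3745, -32, -713, -1867, 78, 78, -12, -6, 1, 1])))))))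

def twoL93 : Janko.Tree (List ℤ) :=
  (.node (.node (.node (.node (.node (.node (.leaf []) (.leaf [])) (.node (.leaf [0, 1]) (.leaf []))) (.node (.node (.leaf [21564, -5229, 59937, 28674, -36122, -1006, -4036, -20675, 2197, 1939, -70, 54, -68, 0, 1]) (.leaf [0, 1])) (.node (.leaf []) (.leaf [0, 1])))) (.node (.node (.node (.leaf []) (.leaf [16698224, -4319403, 46475741, 22148705, -27818786, -809900, -3196015, -16020211, 1926513, 1375154, -51905, 30726, -56962, -1494, 223, -3])) (.node (.leaf [-5702404, 613379, -12926895, -5243417, 6912702, 60944, 1441864, 3521712, -327084, -67672, 7154, 16236, 1629, 949, -449, 7, -1]) (.leaf [233581845, -22843532, 574698534, 255892509, -332801671, -5156578, -47758306, -175425334, 8704624, 13262984, -878190, -396863, -151844, -6980, 14770, 283, 5]))) (.node (.node (.leaf [3379, -276, 7506, 3030, -3995, -51, -858, -2032, 136, 80, -8, -4]) (.leaf [0, 1])) (.node (.leaf [0, 1]) (.leaf [0, 1]))))) (.node (.node (.node (.node (.leaf []) (.leaf [10655, 14830, -10932, -16047, 13242,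 3548, -5315, 16861, -8135, -2207, 66, -188, 357, 22, -7])) (.node (.leaf [87, 7, 192, 75, -106, 0, -19, -43, -2, -1, -1]) (.leaf [823494, -198420, 2557057, 1342939, -1670259, -61963, -94194, -984029, 58357, 148993, -6417, 5252, -2929, 308, -34, 3]))) (.node (.node (.leaf [0, 1]) (.leaf [0, 1])) (.node (.leaf [3143, -231, 6974, 2822, -3724, -31, -769, -1899, 111, 55, -4, -4, 1]) (.leaf [-1472, 123, -3525, -1527, 2011, 16, 317, 1032, -42, -66, 6])))) (.node (.node (.node (.leaf []) (.leaf [1734875, -473555, 4833990, 2292177, -2875232, -85906, -340438, -1659754, 220359, 130099, -5676, 3303, -6701, -224, 46, -1])) (.node (.leaf [2905, -131, 6726, 2850, -3781, -3, -607, -1908, 46, 71, -10, -5, 1]) (.leaf [0, 1]))) (.node (.node (.leaf [-21, -10, -40, -11, 21, 1, 6, 0, 4, 0, 1]) (.leaf [34066382, -6967901, 85864359, 37626395, -48223766, -901265, -7830700, -26403831, 3622421, 929018, -56207, -56827, -83101, -8717, 2288, -100])) (.node (.leaf [-12, 312, -1208, -907, 1115, 14, -106, 700, -69, -172, 2, -10, 1]) (.leaf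 [-3571, 284, -7984, -3256, 4293, 44, 889, 2190, -124, -102, 8, 4, -1])))))) (.node (.node (.node (.node (.node (.leaf []) (.leaf [0, 1])) (.node (.leaf [-4595662, 387542, -9772464, -3679261, 4946283, -2456, 1266649, 2393489, -249919, 75532, 232, 20548, -1362, 1160, -494, 11, -1]) (.leaf [0, 1]))) (.node (.node (.leaf []) (.leaf [494234, -117769, 1399349, 682270, -857096, -24441, -84977, -494156, 46669, 51510, -1949, 1364, -1476, 14, 4, 1])) (.node (.leaf [0, 1]) (.leaf [10091042, 7213932, 7454310, -1631280, -1101560, 1391293, -2861963, 3784731, -3495990, -1209107, -33418, -240961, 135456, 1363, 4572, 21])))) (.node (.node (.node (.leaf []) (.leaf [])) (.node (.leaf []) (.leaf [-2746, 385, -6671, -2935, 3759, 88, 622, 2060, -164, -165, 10, -1, 2, 1]))) (.node (.node (.leaf []) (.leaf [-84680370, 333171, -175482496, -65904516, 90364481, -658330, 21743955, 41279734, -902621, 892894, 193101, 479654, -85734, 14655, -11124, -20])) (.node (.leaf [0, 1]) (.leaf [-4168, 308, -10219, -4622, 6009, 76, 816, 3187, -47, -325,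 14, 5, -2]))))) (.node (.node (.node (.node (.leaf [0, 1]) (.leaf [0, 1])) (.node (.leaf [-708, 74, -1720, -751, 992, 2, 158, 508, -20, -40, 2]) (.leaf [-56639903, 39988324, -220450171, -121081650, 144534662, 6997324, 5952136, 93875671, -18709727, -9531765, 181764, -546213, 684179, 20091, 4924, 433, 9]))) (.node (.node (.leaf [0, 1]) (.leaf [209440, -49885, 564521, 263652, -333294, -8167, -42795, -189549, 21433, 15783, -380, 338, -507, -15, -3])) (.node (.leaf []) (.leaf [18747726, -5704337, 49234939, 21575774, -27345047, -498366, -4525487, -15429382, 3176708, 1570, 5061, -43247, -80652, -8859, 2449, -157])))) (.node (.node (.node (.leaf []) (.leaf [0, 1])) (.node (.leaf [5265, -830, 13534, 6171, -7984, -102, -1091, -4307, 278, 388, -12, 7, -1]) (.leaf [0, 1]))) (.node (.node (.leaf [0, 1]) (.leaf [0, 1])) (.node (.leaf [-5, 1, -8, -2, 4, -1, 2, 1]) (.leaf [-34120008, 1498849, -75413327, -30839535, 40875921, 583231, 8400377, 20461688, -426365, -1495926, 138604, 6219, -22095, -2975, -371, -231, -3])))))))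

def twoL94 : Janko.Tree (List ℤ) :=
  (.node (.node (.node (.node (.node (.node (.leaf []) (.leaf [42, -22, 142, 71, -92, -1, -11, -49, 8, 7])) (.node (.leaf []) (.leaf [0, 0, 1]))) (.node (.node (.leaf [-6270, 731, -14723, -6223, 8140, 102, 1514, 4241, -320, -242, 18, 6, -2, 0, 1]) (.leaf [576718, -164811, 1472789, 641242, -806291, -23757, -146064, -461955, 89391, 12473, -491, 170, -2084, -219, 20, -1])) (.node (.leaf []) (.leaf [71905932, -6985343, 160923403, 64398562, -85331745, -549567, -18368419, -42880332, 3904980, 406893, -105242, -232567, -17028, -13376, 5376, -55, 7])))) (.node (.node (.node (.leaf [0, 0, 1]) (.leaf [0, 0, 1])) (.node (.leaf [671233982, -186611508, 1886369932, 903031304, -1129686099, -35901197, -129954293, -656731967, 83461424, 58586292, -2188112, 1935726, -2475164, -52373, -8422, 336, 9]) (.leaf [-63391761, 8352717, -157892018, -69798004, 90610040, 1113170, 13113085, 48012909, -4111254, -2118572, 164994, 233442, 97359, 12598, -9616, 193, 1]))) (.node (.node (.leaf []) (.leaf [364770,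 -96015, 1000159, 470139, -591182, -16292, -73815, -340033, 43473, 26784, -824, 698, -1164, -36, -3])) (.node (.leaf [-26227, 6086, -71956, -34039, 43164, 992, 5060, 24366, -2518, -2151, 70, -48, 65]) (.leaf [475330, -150648, 1183187, 490856, -619179, -16782, -133696, -351614, 88454, -6914, -186, -28, -2173, -252, 19, -1]))))) (.node (.node (.node (.node (.leaf [1, 0, 5, 2, -2, 0, 0, -2]) (.leaf [-1409264, 292445, -3488225, -1498604, 1920222, 38992, 339847, 1049755, -160588, -23499, 2524, 2333, 3787, 484, -132, 1])) (.node (.leaf [-9, -6, -14, -7, 7, 0, -3, 7, 2, 2]) (.leaf [4, 0, 9, 3, -4, 0, -1, -2]))) (.node (.node (.leaf []) (.leaf [49352251, -9913037, 129624506, 59449752, -75741562, -1716329, -10142205, -42103275, 4526722, 2983709, -145113, -1176, -119917, -5187, 2374, -41, 1])) (.node (.leaf []) (.leaf [756, -64, 1820, 808, -1037, -38, -168, -557, 26, 65, -8, 1])))) (.node (.node (.node (.leaf [-53, 7, -123, -57, 70, 0, 9, 44, -2, -3]) (.leaf [])) (.node (.leaf [75550722, 2864933, 163308832, 66328967, -90235252,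 194945, -16756893, -42150192, -2104994, 2321867, -291152, -368686, 133453, 3561, 7180, 103, 3]) (.leaf [380, 1349, -3500, -2996, 3302, 332, -499, 2522, -547, -574, 10, -30, 27]))) (.node (.node (.leaf [-1735, 398, -4862, -2323, 2946, 96, 319, 1651, -172, -155, 8, -8, 5]) (.leaf [])) (.node (.leaf [207, -12, 487, 211, -282, 1, -47, -140, -1, 15, -1]) (.leaf [1696, -1595, 8676, 5302, -6328, -327, 84, -4111, 622, 669, -14, 32, -27, 1])))))) (.node (.node (.node (.node (.node (.leaf []) (.leaf [-10213242, 1607799, -26185573, -11907699, 15278861, 321293, 2081572, 8334819, -696668, -636294, 37698, 3872, 17982, 665, -286, -11])) (.node (.leaf []) (.leaf [181443, -40262, 477457, 219229, -278367, -5880, -38094, -156759, 17675, 11211, 8, -59, -296, -30, -11]))) (.node (.node (.leaf []) (.leaf [129537, -47194, 414003, 214912, -263750, -10333, -17274, -160433, 20069, 18227, -679, 640, -773, -8, 6])) (.node (.leaf []) (.leaf [0, 0, 1])))) (.node (.node (.node (.leaf []) (.leaf [])) (.node (.leaf [5513041, -589895, 12438603,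 5015870, -6620815, -54027, -1405832, -3362099, 320452, 49386, -6213, -16690, -1476, -993, 460, -8, 1]) (.leaf [-1037, 141, -2325, -925, 1203, 29, 279, 629, -84, -7, 2, 0, 1, 1]))) (.node (.node (.leaf []) (.leaf [147145283, -62954042, 499793378, 267104628, -325937074, -13392688, -16816105, -201322763, 25676881, 25217150, -665002, 1041308, -960990, 7067, -7845, -107, -7])) (.node (.leaf [-3764634, 865559, -10226193, -4806580, 6065155, 173050, 738789, 3447725, -390772, -286547, 14330, -5352, 11799, 280, -136, -1]) (.leaf [511, 828, -349, -544, 515, -3, -128, 603, -325, -81, -30, -20, 8, 0, -1]))))) (.node (.node (.node (.node (.leaf []) (.leaf [11155406, -7186810, 39467241, 20793581, -24813945, -1220348, -1810681, -16155922, 3386352, 1539884, -6158, 108256, -108269, -3327, -655, -47])) (.node (.leaf []) (.leaf [-41737293, 7791407, -112603864, -53305716, 67741880, 1671301, 7684705, 37897721, -3094756, -3613030, 156536, -30132, 89504, -211, -1231, -16, -1]))) (.node (.node (.leaf [8278, -2423, 20409, 8557, -10870,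 -231, -2362, -6104, 1262, 138, 12, -4, -26, -2, 1]) (.leaf [])) (.node (.leaf [519, -56, 1237, 531, -698, -7, -119, -360, 21, 23, -1]) (.leaf [9390605, -3496487, 24554032, 10365438, -13138920, -131221, -2506972, -7446005, 2060339, -428021, 32822, -42340, -49467, -6649, 1848, -143])))) (.node (.node (.node (.leaf [1, 0, 3, 1, -1, 0, 0, -1]) (.leaf [-5384328, 549769, -12048652, -4818939, 6377219, 44987, 1386185, 3216856, -303201, -33823, 5689, 17067, 868, 982, -459, 8, -1])) (.node (.leaf [206, -151, 865, 536, -610, -30, 0, -447, 46, 90, -2, 2, -1]) (.leaf [1958771055, -416014887, 5178884118, 2383706073, -3028062359, -73236620, -403120929, -1695355280, 191046683, 122116678, -5773831, 789730, -5136373, -215209, 73466, -906, 11]))) (.node (.node (.leaf [-140, -13, -224, -82, 85, 28, 45, 62, 0, -22, 3, 0, 1]) (.leaf [610673998, -86124946, 1506289507, 662515703, -856819334, -14548696, -134044201, -458479682, 39523882, 27356331, -1719352, -787424, -785752, -59663, 34378, 74, 21])) (.node (.leaf [0, 0, 1]) (.leaf [45150996,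 -13604666, 133120166, 65774780, -81905590, -2658081, -7640542, -48169054, 5924278, 4668771, -165964, 136011, -196500, -3307, 922, -18, -1])))))))

def twoL95 : Janko.Tree (List ℤ) :=
  (.node (.node (.node (.node (.node (.node (.leaf []) (.leaf [1, 0, 0, 1, 0, 0, 0, -1])) (.node (.leaf []) (.leaf [347621, 675768, -1928910, -1825014, 2007151, 172303, -446455, 1556770, -248461, -346024, 10468, -21279, 16238, -365, 131, -4, 1]))) (.node (.node (.leaf []) (.leaf [-16312, 3081, -37158, -15071, 19058, 772, 4554, 10650, -1792, -345, 15, 8, 29, 4])) (.node (.leaf []) (.leaf [-1298711, 366419, -3623885, -1714007, 2147742, 65680, 258172, 1242126, -174786, -91677, 4360, -2439, 5404, 208, -48, 1])))) (.node (.node (.node (.leaf []) (.leaf [159677, -49338, 566715, 317374, -396824, -10031, -7370, -233861, 8677, 40477, -616, 1625, -429, 90, -26, 1])) (.node (.leaf [2, 0, 2, 1, -1, 0, 0, -1]) (.leaf [2686, 136, 5125, 1764, -2473, 21, -725, -1053, -26, -67, -12, -8, 2]))) (.node (.node (.leaf []) (.leaf [14161908, -3600173, 43064607,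 22019524, -27548787, -832330, -1848278, -16023622, 1317925, 1920884, -73062, 37258, -52283, 1258, -163, -12, -1])) (.node (.leaf []) (.leaf [3051003, -570977, 7966393, 3666697, -4665681, -120008, -626392, -2598461, 246646, 220935, -11336, 2992, -6462, -67, -48, 5]))))) (.node (.node (.node (.node (.leaf []) (.leaf [-3130, 469, -7623, -3292, 4309, 38, 737, 2260, -180, -139, 0, -4])) (.node (.leaf []) (.leaf [-19687, -24731, -40773, -25779, 38097, 430, -3381, 13495, 17204, -11043, 906, -276, -359, -84, 18, -1]))) (.node (.node (.leaf []) (.leaf [1296554, -285476, 3524910, 1662250, -2098743, -58075, -246172, -1190819, 129225, 97175, -4430, 238, -3853, -151, 82, -1])) (.node (.leaf [0, 0, -1, 0, 1]) (.leaf [-6692, 10, -13835, -5185, 7141, -26, 1764, 3222, -24, -7, 18, 23, -11])))) (.node (.node (.node (.leaf [1, -1, 2, 0, -1, 0, -2, 1, 0, 1]) (.leaf [-389, 31, -829, -328, 420, 23, 110, 223, -20, -20, 2, 0, 1])) (.node (.leaf []) (.leaf [1650668, -377665, 4477854, 2102831, -2654657, -71794, -321645, -1508413, 171515,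 119490, -4969, 816, -4894, -201, 70, -1]))) (.node (.node (.leaf []) (.leaf [-589, 247, -1921, -952, 1253, -43, 95, 675, -79, -34, -7, 1])) (.node (.leaf [364, 277, -342, -550, 640, 9, -201, 465, -54, -159, 0, -10, 1]) (.leaf [0, 0, -1, 0, 1])))))) (.node (.node (.node (.node (.node (.leaf []) (.leaf [])) (.node (.leaf [-93, 15, -246, -115, 149, 0, 17, 81, -4, -7]) (.leaf [-840122, 123231, -2051909, -895870, 1158946, 19543, 192253, 621319, -53100, -40733, 1434, 319, 566, 59, 44, -1]))) (.node (.node (.leaf []) (.leaf [410379, -93215, 1166534, 573468, -719658, -22286, -68246, -415267, 35275, 47469, -1912, 1254, -1193, 32, -5, 1])) (.node (.leaf [2283, -223, 5035, 2008, -2648, -23, -595, -1355, 107, 36, 1, -3, 1]) (.leaf [114529438, -29828620, 341970913, 172650014, -215639697, -6917562, -16715128, -125861439, 11438066, 14716667, -579290, 371778, -429363, 8183, -1166, 109, -7])))) (.node (.node (.node (.leaf [-183, -5, -420, -189, 247, 1, 31, 130, 8, -14, 1]) (.leaf [-882, 99, -2314, -1071, 1428, -25, 153, 729,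 -5, -58, -2, 0, -1])) (.node (.leaf [-8, -2, -3, 3, -5, 1, 3, -1, 0, 1]) (.leaf [251711585, -35292258, 615730234, 268141907, -347484554, -5413599, -56184212, -184957378, 16972202, 9268096, -635086, -473418, -327508, -35478, 19008, -154, 11]))) (.node (.node (.leaf [0, 0, -1, 0, 1]) (.leaf [-11555849, 2128140, -29593271, -13228538, 16992941, 281037, 2442147, 9253911, -1069186, -404011, 26532, 27458, 27147, 2780, -976, 30, 1])) (.node (.leaf []) (.leaf [62412351, -13659260, 169613137, 80116948, -101271557, -2774065, -12008481, -57393833, 5820116, 5215153, -233262, 107604, -171355, -1434, 268, 75]))))) (.node (.node (.node (.node (.leaf []) (.leaf [119407816, -34657888, 352611627, 175132774, -218342525, -6986925, -19679226, -128106363, 14470022, 13328476, -459704, 390604, -481007, -678, -2236, -23, -5])) (.node (.leaf [-788, 156, -1968, -855, 1123, 11, 204, 584, -57, -50, -1, -1]) (.leaf [-1, -1, -1, 0, 0, 1]))) (.node (.node (.leaf []) (.leaf [15, -3, 48, 24, -33, -1, -4, -14, 0, 4])) (.node (.leaf []) (.leaf [33738206,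 -7774863, 85642555, 37340177, -47738482, -878478, -7918957, -26300036, 4222500, 528825, -43404, -68063, -104860, -11560, 3720, -131])))) (.node (.node (.node (.leaf []) (.leaf [-1304084, -1335368, 12670052, 12288450, -14220367, -1035106, 3339190, -9858239, -355831, 3135808, -120472, 118131, -45563, 8606, -1747, 71, -3])) (.node (.leaf []) (.leaf [2827, -2134, 8048, 3444, -4076, -198, -1122, -2701, 1137, 20, 26, 6, -29, -2, 1]))) (.node (.node (.leaf []) (.leaf [])) (.node (.leaf [82266135, -2403527, 187777539, 79095478, -105264426, -633040, -18038710, -52229659, 536762, 3063111, -290980, -290254, 49097, -393, 6612, 77, 1]) (.leaf [-551005, 131609, -1558687, -759409, 955525, 27081, 96823, 548956, -50572, -59641, 1904, -1608, 1452, -24, 26, -1])))))))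

def twoL96 : Janko.Tree (List ℤ) :=
  (.node (.node (.node (.node (.node (.node (.leaf [1]) (.leaf [1])) (.node (.leaf [-1697, 352, -4286, -1881, 2430, 66, 431, 1298, -158, -108, 4, -2, 2, -1]) (.leaf []))) (.node (.node (.leaf [14, -5, 53, 27, -38, 0, -3, -16, 1, 3]) (.leaf [357, -28, 922, 419, -568, 16, -60, -279, -2, 15, 0, 0, 1])) (.node (.leaf [1]) (.leaf [1])))) (.node (.node (.node (.leaf []) (.leaf [157071652, -91135999, 605284211, 340969344, -409575236, -19619186, -10619870, -262527609, 36833755, 36538241, -805394, 1822411, -1444539, 18692, -19944, -162, -11])) (.node (.leaf [1]) (.leaf [-8690293, 1307678, -21098120, -9102862, 11780585, 199028, 2018004, 6292499, -638149, -301672, 18535, 12070, 11179, 1170, -566, 7, -1]))) (.node (.node (.leaf []) (.leaf [])) (.node (.leaf [7803, -2363, 19242, 8045, -10200, -224, -2256, -5753, 1242, 111, 12, -4, -26, -2, 1]) (.leaf [195412, -51598, 556802, 270070, -340206, -8736, -35480, -195351, 20621, 19414, -440, 564, -552, 2, -9]))))) (.node (.node (.node (.node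 (.leaf []) (.leaf [])) (.node (.leaf [-11570136, 1214092, -29717392, -13772360, 17794382, 309355, 2106529, 9552372, -364834, -921264, 48558, 11424, 8780, -556, -620, -19]) (.leaf [-3217, 938, -9279, -4563, 5661, 166, 546, 3381, -388, -325, 7, -14, 11]))) (.node (.node (.leaf [-17, 0, -35, -13, 17, 0, 4, 8, 0, 0, 0, 0, 0, 1]) (.leaf [1335158, 427992, 918940, -444155, 252757, 147144, -603044, 567905, -140227, -281475, 10432, -23883, 13110, -656, 295, -7, 1])) (.node (.leaf [1]) (.leaf [-12496744, 2753539, -34472552, -16403635, 20754799, 493561, 2236518, 11742637, -1223713, -924082, 40054, 4398, 38309, 1713, -1412, 19])))) (.node (.node (.node (.leaf [58, -7, 146, 64, -86, 0, -13, -42, 2, 3]) (.leaf [-230193, 68680, -668526, -327245, 406903, 14289, 41205, 239608, -30772, -22923, 885, -636, 1014, 21, -7])) (.node (.leaf []) (.leaf [-1465868, -768606, -2352149, -780044, 1337194, -128754, 236289, 271419, 425197, -10542, 10931, 25050, -13537, -668, -458, -1]))) (.node (.node (.leaf []) (.leaf [614815, -193015, 1810956,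 883152, -1101236, -34132, -104876, -643862, 94573, 44417, -1810, 108, -3215, -228, 103, -3])) (.node (.leaf [17227013, 5771001, 25894407, 6711461, -11717724, 1120107, -4409226, -2121690, -2811456, -806244, -56082, -238428, 117787, 468, 4628, 25]) (.leaf [-1955626575, 415517401, -5170267171, -2379523106, 3022754643, 73082766, 402597166, 1692380496, -190891062, -121748013, 5753043, -779948, 5129793, 215874, -73461, 921, -11])))))) (.node (.node (.node (.node (.node (.leaf []) (.leaf [147934498, -39203922, 425282052, 207923016, -260473059, -7845080, -25630546, -151012122, 16494520, 14956050, -558044, 377135, -532870, -2846, -692, -11, -5])) (.node (.leaf [-106444, 25188, -293297, -139426, 176001, 4612, 20261, 100283, -10647, -9051, 324, -200, 295, 4, 1]) (.leaf [23432, -6874, 69896, 34870, -43641, -1236, -3791, -25437, 2736, 2718, -82, 86, -88, -1]))) (.node (.node (.leaf []) (.leaf [92849, -27313, 277807, 139918, -173493, -6153, -14441, -103037, 11112, 11714, -397, 355, -385, 0, -1])) (.node (.leaf [23070275, -11908290,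 85074859, 47029757, -56866047, -2555470, -1844500, -35860724, 4928621, 4649205, -131400, 210533, -199892, 595, -517, -24, -3]) (.leaf [-1683611, 431226, -4631402, -2185496, 2744211, 82904, 331887, 1578912, -200716, -124937, 5821, -2656, 5997, 208, -44, 1])))) (.node (.node (.node (.leaf [1]) (.leaf [1])) (.node (.leaf [1]) (.leaf [1]))) (.node (.node (.leaf [1]) (.leaf [-1159493, 202020, -2918997, -1300762, 1663846, 42979, 259367, 912599, -94151, -66313, 5046, -1442, 2493, 60, -41, -3])) (.node (.leaf [2715, -26, 5932, 2414, -3217, -22, -615, -1592, 4, 68, -12, -3, 1]) (.leaf [-36885, -4214, -85473, -39306, 52872, 270, 5938, 25745, 4302, -4779, 178, -50, -156, -32, 9]))))) (.node (.node (.node (.node (.leaf []) (.leaf [-18616178, 1283280, -37391607, -13027241, 17830924, -118214, 5535164, 8193320, -1031646, 722032, 1198, 93006, -8123, 5896, -2058, 28, -3])) (.node (.leaf [15194, -1950, 35946, 15032, -20304, 394, -3770, -10023, 452, 484, 74, -3, 35, 2, -5]) (.leaf [61, -7, 150, 66, -88, 0, -13, -44, 2, 3]))) (.node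 (.node (.leaf [89, -15, 240, 114, -148, 0, -15, -80, 4, 7]) (.leaf [1])) (.node (.leaf [-271, 24, -613, -251, 330, 3, 67, 170, -11, -7, 1]) (.leaf [1])))) (.node (.node (.node (.leaf [-349, 51, -890, -399, 527, 0, 75, 272, -14, -22, 0, -1]) (.leaf [-6830, 415, -15657, -6541, 8707, 23, 1569, 4358, -125, -227, 19, 4, -7, -1])) (.node (.leaf [1]) (.leaf [71583, -17245, 197070, 93463, -118059, -3001, -13824, -67212, 7286, 5980, -198, 143, -197, -1]))) (.node (.node (.leaf [-363, -39, 320, 514, -740, 76, 288, -330, -62, 81, -2, 4, 2, -1]) (.leaf [1])) (.node (.leaf [-5472, 4157, -21044, -11420, 13597, 596, 743, 8941, -1906, -870, -4, -66, 71, 2, -1]) (.leaf [344911, 214, 923941, 462940, -601829, -8840, -41507, -320351, -23416, 57207, -2022, 830, 729, 218, -49, 3])))))))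

def twoL97 : Janko.Tree (List ℤ) :=
  (.node (.node (.node (.node (.node (.node (.leaf []) (.leaf [98385, -23197, 270638, 128570, -162137, -4280, -18603, -92604, 9951, 8104, -288, 162, -273, -4, -1])) (.node (.leaf []) (.leaf [0, 1]))) (.node (.node (.leaf [0, 1]) (.leaf [47697557, -18750526, 169295749, 93892255, -114529030, -4978934, -3184886, -70688283, 6668035, 10633647, -372762, 412589, -311435, 11650, -4323, 179, -9])) (.node (.leaf [6, 0, 12, 4, -6, 1, -2, -3]) (.leaf [-194542942, 43043794, -516274694, -237891892, 301692254, 7562294, 40315014, 169609254, -19879168, -12244177, 573722, -138763, 536222, 21633, -4890, 67, -1])))) (.node (.node (.node (.leaf []) (.leaf [-10775148, 3679231, -33395931, -17027333, 21027880, 770113, 1623364, 12616678, -1538936, -1414734, 47854, -54011, 54817, -56, 384, -10, 1])) (.node (.leaf [101797, -25561, 283437, 135496, -170524, -4762, -19280, -97849, 10896, 8983, -290, 218, -306, -4, -1]) (.leaf [0, 1]))) (.node (.node (.leaf [0, 1]) (.leaf [])) (.node (.leaf [0, 1]) (.leaf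 [388782, -92179, 1014870, 455259, -579379, -12779, -86952, -322765, 46855, 14689, -872, -250, -1193, -104, -1, -1]))))) (.node (.node (.node (.node (.leaf [0, 1]) (.leaf [0, 1])) (.node (.leaf [0, 1]) (.leaf [0, 1]))) (.node (.node (.leaf []) (.leaf [1298872, -286775, 3531600, 1665199, -2102495, -58060, -246865, -1192996, 129829, 97166, -4397, 252, -3861, -151, 82, -1])) (.node (.leaf []) (.leaf [21593, -4417, 55460, 25101, -31869, -790, -4749, -17890, 1975, 1353, -46, 21, -43, -2, -1])))) (.node (.node (.node (.leaf [0, 1]) (.leaf [0, 1])) (.node (.leaf [5448200, -570184, 12239917, 4914248, -6494603, -49953, -1396525, -3287202, 313016, 40367, -6080, -16890, -1247, -996, 466, -8, 1]) (.leaf [0, 1]))) (.node (.node (.leaf [654, -13, 1523, 654, -871, 2, -130, -436, -2, 24, -4]) (.leaf [139981, -45385, 426435, 215130, -267851, -8029, -22109, -158272, 18012, 17397, -313, 594, -555, 2, -7])) (.node (.leaf [760, 34, 1535, 595, -783, -43, -196, -381, -7, 39, -7, 0, -1]) (.leaf [-744, 61, -1708, -715, 938, 10, 174, 484,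 -27, -24, 3, 1])))))) (.node (.node (.node (.node (.node (.leaf [0, 1]) (.leaf [])) (.node (.leaf [0, 1]) (.leaf [5548, -1881, 17304, 8828, -10988, -369, -868, -6474, 742, 784, -24, 28, -26, 1]))) (.node (.node (.leaf []) (.leaf [0, 1])) (.node (.leaf []) (.leaf [0, 1])))) (.node (.node (.node (.leaf []) (.leaf [-2992, 502, -6947, -2862, 3714, 89, 826, 1962, -242, -116, 4, 0, 2, -1])) (.node (.leaf [-61259, 15666, -155515, -68888, 86948, 1978, 14830, 49827, -7323, -2738, -192, 26, 70, 11, 1]) (.leaf [5963, -1702, 18010, 9064, -11307, -418, -919, -6593, 715, 749, -44, 28, -26, 1]))) (.node (.node (.leaf []) (.leaf [1396, -132, 3255, 1370, -1803, -16, -328, -926, 56, 48, -6])) (.node (.leaf [0, 1]) (.leaf [251, 17, 336, 58, -87, -2, -89, -30, -1, -22, 6, -2, 1]))))) (.node (.node (.node (.node (.leaf []) (.leaf [])) (.node (.leaf [0, 1]) (.leaf [-2841, 245, -6574, -2748, 3639, 28, 682, 1835, -99, -100, 9, 4, -1]))) (.node (.node (.leaf []) (.leaf [-660421, 107786, -1697279, -775810, 989158, 29273, 138142, 545934,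 -46016, -51516, 4208, -1728, 1598, -46, -33, -3])) (.node (.leaf [468, -50, 1108, 472, -620, -7, -110, -320, 20, 20, -1]) (.leaf [149205, -33540, 403673, 189866, -240014, -6177, -29315, -136266, 14263, 11951, -390, 187, -347, -6, -3])))) (.node (.node (.node (.leaf [0, 1]) (.leaf [-4757598, -5810506, -3919479, -408719, 2504822, -827039, 305449, -1360356, 3185477, -79095, 69773, 152727, -93313, -4787, -2978, -47, 3])) (.node (.leaf []) (.leaf [70091, -17312, 192783, 91345, -115160, -3042, -13712, -65859, 7390, 5846, -177, 140, -198, -3]))) (.node (.node (.leaf []) (.leaf [-855952, -651803, 380161, 1006311, -941923, -168523, 471398, -988874, 271722, 264354, -8074, 22705, -16214, 241, -260, 2, -1])) (.node (.leaf [0, 1]) (.leaf [6695491, -810853, 17387586, 8116817, -10434839, -217107, -1224724, -5669986, 255571, 583003, -31726, 2330, -7409, 667, -2, 21])))))))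

def twoL98 : Janko.Tree (List ℤ) :=
  (.node (.node (.node (.node (.node (.node (.leaf []) (.leaf [-52807, 12651, -143388, -67305, 85262, 1969, 10562, 48387, -5168, -4166, 39, -156, 122, -6, -3])) (.node (.leaf [0, 0, 1]) (.leaf [101850926, -29130029, 294091619, 143239598, -179053616, -5447152, -18053413, -104320042, 12963752, 9325273, -345714, 213194, -413372, -10265, 1478, -137, -3]))) (.node (.node (.leaf []) (.leaf [469, -49, 1229, 560, -755, 16, -84, -374, 4, 24, 0, 0, 1])) (.node (.leaf []) (.leaf [-16029340, 2322270, -42605136, -20241432, 25828374, 658905, 2889555, 14295819, -718306, -1669115, 82384, -31801, 21823, -2747, 812, -61])))) (.node (.node (.node (.leaf []) (.leaf [-14281339, 3162031, -38122380, -17643302, 22366246, 574955, 2913507, 12577293, -1462185, -926471, 47594, -10975, 41634, 1639, -510, 3])) (.node (.leaf [-9814, 2299, -26986, -12785, 16210, 369, 1898, 9153, -948, -822, 27, -14, 22, 0, 1]) (.leaf [2544204740, -380757808, 6303781811, 2774969014, -3583326935, -61809080, -558895685, -1924777295,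 179554704, 107692790, -6784033, -3627448, -3759273, -323666, 173778, -709, 77]))) (.node (.node (.leaf []) (.leaf [0, 0, 1])) (.node (.leaf [0, -2, 4, 2, -2, 0, 0, -2, 1]) (.leaf [0, 0, 1]))))) (.node (.node (.node (.node (.leaf []) (.leaf [])) (.node (.leaf []) (.leaf [4380127, -1201810, 12741067, 6265205, -7825714, -256448, -740248, -4559189, 523112, 448826, -21171, 11928, -18573, -186, 134, -1]))) (.node (.node (.leaf [0, 0, 1]) (.leaf [0, 0, 1])) (.node (.leaf [677, -67, 1670, 737, -972, -10, -143, -496, 22, 37, -2]) (.leaf [14410, -2433, 35214, 15339, -19643, -430, -3359, -10784, 1154, 632, -30, 2, -19, -3, -1])))) (.node (.node (.node (.leaf [57, -7, 145, 63, -84, 0, -13, -42, 2, 3]) (.leaf [-37530114, 11607114, -108284607, -52372579, 65287657, 2044053, 6980403, 38292931, -5379609, -3101519, 103950, -80874, 166573, 6415, -1609, 63])) (.node (.leaf [10414685, 2759293, 12790789, 1160877, -3561379, 889797, -3643319, 866083, -1044269, -1364283, 9100, -143294, 67285, -2305, 2425, -18, 1]) (.leaf [-5040518, 492100,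 -11144679, -4396553, 5837584, 33047, 1319009, 2917997, -283286, -2630, 4555, 17716, 459, 1018, -477, 9, -1]))) (.node (.node (.leaf []) (.leaf [53, -15, 146, 70, -87, 0, -9, -53, 6, 3])) (.node (.leaf [245360, -25875, 587743, 253539, -329022, -8859, -56320, -172492, 13073, 12286, -1908, 288, -479, 0, 10, 1]) (.leaf [1119315528, -195428131, 2865129821, 1293634561, -1657212345, -34475628, -235748424, -908449086, 88984364, 61578597, -3300154, -496402, -2168554, -113935, 59009, 67, 15])))))) (.node (.node (.node (.node (.node (.leaf []) (.leaf [])) (.node (.leaf []) (.leaf [9086, -2092, 24735, 11669, -14767, -381, -1800, -8366, 861, 783, -26, 21, -23, 1]))) (.node (.node (.leaf [0, 0, 1]) (.leaf [1691613, -357374, 4260995, 1865029, -2383212, -50930, -394037, -1313133, 187422, 47790, -3305, -1738, -4497, -486, 127, -1])) (.node (.leaf [0, 0, 1]) (.leaf [-48634035, 12225084, -135683401, -64885196, 81555796, 2377414, 9105092, 46858439, -5403136, -4129465, 171491, -86638, 165541, 3802, -1006, 5])))) (.node (.node (.node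 (.leaf []) (.leaf [])) (.node (.leaf [55609, -12099, 150065, 70360, -89290, -2130, -10946, -50244, 5076, 4354, -164, 90, -129]) (.leaf [55042162, -33422196, 205964992, 113912051, -136156633, -7209003, -5985407, -88187391, 13992262, 12177390, -277573, 781166, -512788, 7336, -12610, 105, 1]))) (.node (.node (.leaf []) (.leaf [1830, -158, 4163, 1719, -2263, -17, -446, -1161, 70, 55, -10])) (.node (.leaf [838, -68, 2051, 891, -1198, 10, -176, -589, 14, 33, -2, 0, 1]) (.leaf [0, 0, 1]))))) (.node (.node (.node (.node (.leaf [0, 0, 1]) (.leaf [103279190, -33353633, 318984498, 162785587, -201679197, -6995990, -15088953, -120139833, 13573858, 13683105, -450454, 455708, -484440, 3452, -3624, -11, -7])) (.node (.leaf [128, 5, 352, 178, -231, 2, -2, -126, -8, 8]) (.leaf [0, 0, 1]))) (.node (.node (.leaf [0, 0, 1]) (.leaf [-5010507, 392317, -11561955, -4827753, 6373024, 66629, 1172165, 3227074, -189019, -140336, 18188, 10962, 2226, 364, -547, -5])) (.node (.leaf [0, 0, 1]) (.leaf [60455, -11004, 164561, 78685, -99923, -2508,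 -10674, -56078, 4054, 5814, -281, 135, -112, 5, -3])))) (.node (.node (.node (.leaf [878, -68, 2141, 934, -1239, -2, -177, -626, 24, 29, -2, -2, 1]) (.leaf [-123, 378, -653, -358, 330, 88, 109, 342, -196, -66, -2, -5, 6])) (.node (.leaf [-10, 0, -15, -5, 6, 0, 3, 4]) (.leaf [5796, -2718, 20952, 11685, -14248, -624, -598, -8814, 876, 1539, 9, 32, -30, -1, -1]))) (.node (.node (.leaf [17122, -5324, 49316, 23945, -29812, -900, -3218, -17590, 2332, 1597, -32, 46, -65, -3]) (.leaf [110787709, -27440244, 312233894, 151105209, -189715143, -5719826, -19960258, -109346420, 11452794, 10896062, -419606, 277167, -354006, -996, -1392, 87, 1])) (.node (.leaf [403358, -112738, 1156075, 562303, -703448, -20976, -72783, -409657, 48216, 39003, -1168, 1031, -1429, -22, -9]) (.leaf [0, 0, 1])))))))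

def twoL99 : Janko.Tree (List ℤ) :=
  (.node (.node (.node (.node (.node (.node (.leaf []) (.leaf [250348, -25048, 596274, 256151, -332963, -8680, -57659, -173842, 12717, 12089, -1928, 246, -449, 0, 9, 1])) (.node (.leaf [-2991, 502, -6947, -2862, 3715, 88, 826, 1962, -242, -116, 4, 0, 2, -1]) (.leaf [116523337, -29057074, 319837538, 150584162, -189850049, -5064074, -22849548, -108331438, 13348486, 8245581, -323762, 100087, -380253, -15762, 3190, -182, 1]))) (.node (.node (.leaf []) (.leaf [11240240, -5393293, 37696881, 19859335, -24068542, -1074847, -1642082, -15121650, 2284972, 1839392, -34534, 103406, -76045, 293, -1454, 13])) (.node (.leaf []) (.leaf [-173973709, 60880021, -491130112, -230788621, 286642714, 9548904, 37927350, 169668891, -29928932, -10943151, 307698, -545087, 837595, 40021, 4466, 346, -5])))) (.node (.node (.node (.leaf []) (.leaf [])) (.node (.leaf [-2588708, 526969, -8045803, -4229120, 5295296, 174185, 251452, 3063525, -152715, -435436, 24175, -9547, 10097, -482, 188, -18, 1]) (.leaf [9551408,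 -1473871, 25210329, 11827605, -15114955, -343898, -1771032, -8339469, 539227, 821938, -38983, 5154, -14927, 437, -30, 21]))) (.node (.node (.leaf []) (.leaf [9058202, -2097111, 24661792, 11596880, -14652542, -386018, -1762849, -8315187, 941037, 667043, -28864, 9195, -27274, -821, 315, -5])) (.node (.leaf []) (.leaf [-3309448, 1074874, -9850360, -4859970, 6043908, 194019, 566925, 3566585, -486543, -315101, 11679, -10051, 16423, 416, -195, 5]))))) (.node (.node (.node (.node (.leaf []) (.leaf [-97196, 25349, -264982, -123894, 156067, 4251, 20110, 89340, -11532, -6963, 237, -174, 299, 12, 1])) (.node (.leaf []) (.leaf [24722320, -6594039, 63490154, 27589782, -35107814, -672247, -5954061, -19565355, 3705913, 95722, -18925, -56783, -96033, -11020, 3160, -132, -1]))) (.node (.node (.leaf []) (.leaf [15837, -4340, 45211, 21989, -27266, -1114, -2606, -16180, 2028, 1294, -3, 83, -66, 5, 5])) (.node (.leaf [2397, -247, 5351, 2172, -2846, -27, -612, -1481, 114, 57, -2, -4, 1]) (.leaf [9954, -2025, 24963, 11090, -14017,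 -409, -2292, -7929, 982, 522, -22, 7, -22, -3])))) (.node (.node (.node (.leaf []) (.leaf [35572099, -10764117, 101352209, 48544932, -60614548, -1864215, -6814784, -35393314, 5098368, 2658476, -97449, 60191, -156139, -7074, 1923, -71])) (.node (.leaf []) (.leaf [-38333012, 7963531, -103447825, -48729592, 61724453, 1644325, 7392565, 34807333, -3326067, -3214723, 145257, -64014, 96348, 220, 114, -61]))) (.node (.node (.leaf []) (.leaf [53, -15, 145, 70, -86, 0, -9, -53, 6, 3])) (.node (.leaf [93, 14, 206, 97, -125, -1, -12, -67, -11, 11, -1]) (.leaf [-4623, 508, -9705, -3588, 4739, 44, 1282, 2414, -347, 150, -10, 5, 0, 0, 1])))))) (.node (.node (.node (.node (.node (.leaf []) (.leaf [345, 14, 1209, 775, -867, -108, 67, -617, -4, 137, -16, 1, -5])) (.node (.leaf [-104090, 25093, -287904, -137176, 173005, 4583, 19727, 98806, -10602, -8976, 307, -203, 294, 4, 1]) (.leaf [2226, -199, 4843, 1922, -2527, -18, -584, -1303, 94, 40, -2, -4, 1]))) (.node (.node (.leaf []) (.leaf [272438, -63854, 749668, 356750, -450269,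 -11835, -51828, -256818, 26358, 24016, -763, 601, -708, -2, -5])) (.node (.leaf []) (.leaf [1069672, -122705, -541112, -1738986, 1950465, 173161, -947643, 1463956, 367584, -767097, 21165, -30852, -381, -2978, 630, -31])))) (.node (.node (.node (.leaf []) (.leaf [-2970, 487, -6584, -2589, 3367, 79, 877, 1771, -250, -67, -2, 2, 1, -1])) (.node (.leaf []) (.leaf [-62, 16, -169, -77, 100, 2, 14, 54, -6, -4, -1]))) (.node (.node (.leaf [177446, -16139, 432513, 190978, -248561, -5612, -38257, -129832, 6368, 11590, -1296, 150, -261, 12, -11, 1]) (.leaf [-113217022, 16755409, -287457388, -129988565, 167200239, 3281931, 23300853, 90713910, -7094877, -6903624, 389114, 59593, 167710, 4747, -4495, -95, -1])) (.node (.leaf [-936227, 158920, -2351879, -1047439, 1345084, 27137, 207115, 733832, -70412, -50824, 2216, -74, 1256, 79, 26, -1]) (.leaf [-16, -1, -27, -9, 11, 1, 4, 7]))))) (.node (.node (.node (.node (.leaf []) (.leaf [])) (.node (.leaf []) (.leaf [-96513, 45945, -201123, -55058, 69750, 2202, 42098, 38039, -34824,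 20230, 74, 88, 1002, 126, -28, 1]))) (.node (.node (.leaf []) (.leaf [-898193118, 141371365, -2325721851, -1067837578, 1368631823, 28611269, 177104834, 749136398, -59285118, -60205847, 3233612, 429994, 1560378, 41390, -46874, -394, 1])) (.node (.leaf [-24, -8, -42, -15, 20, 1, 3, 10, 3, 1]) (.leaf [-132089, 30329, -361082, -170995, 215973, 5687, 25417, 122863, -12777, -11124, 394, -237, 346, 4, 1])))) (.node (.node (.node (.leaf [1299, -133, 3107, 1343, -1760, -12, -285, -918, 48, 54, -2, -1]) (.leaf [275687903, -25915697, 662616601, 288298120, -376566106, -5046313, -59499892, -196294272, 10953143, 12207470, -912438, -606470, -154752, -15759, 20327, 163, 5])) (.node (.leaf [-13078583, 5829669, -42570694, -22081509, 26886187, 1142550, 2032281, 16705075, -2503034, -1923793, 39158, -102760, 82247, 120, 1304, -9]) (.leaf [-355644180, 35791040, -842992101, -359640218, 471157838, 5194235, 80142140, 243804085, -17142878, -10776464, 957614, 998862, 231134, 46138, -33596, 62, -11]))) (.node (.node (.leaf [5, 4, 12, 6,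 -9, 0, 1, -3, -2]) (.leaf [-5248912, 548533, -11734750, -4681293, 6194552, 43161, 1357486, 3124936, -307492, -21630, 5120, 17229, 1162, 1033, -474, 9, -1])) (.node (.leaf [-34449, 4826, -84262, -36688, 47907, 563, 7948, 25159, -1888, -1728, 68, -17, 11, 0, 1]) (.leaf [1247, -5805, 5781, 1732, -832, -345, -1535, -2390, 3738, -1466, 164, -53, -84, -15, 1])))))))

def twoL100 : Janko.Tree (List ℤ) :=
  (.node (.node (.node (.node (.node (.node (.leaf []) (.leaf [5081721, -205754, 11755246, 5010611, -6633457, -65275, -1110363, -3334629, 51121, 234229, -22618, -10936, 1540, 134, 55, 17])) (.node (.leaf [6260, -732, 14710, 6219, -8136, -102, -1512, -4237, 320, 243, -18, -6, 2, 0, -1]) (.leaf [43791255, -13686573, 127502677, 61926676, -77259611, -2311740, -7916668, -45233061, 6384197, 3540899, -116648, 59443, -198420, -8346, 1013, -175, -1]))) (.node (.node (.leaf []) (.leaf [-543, 426, -1891, -869, 1113, -17, 122, 640, -225, 68, -6, -11, 7])) (.node (.leaf []) (.leaf [-444958, 89867, -1212474, -578549, 732823, 19429,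 82720, 413916, -33697, -43932, 1576, -1028, 899, -32, 18, -1])))) (.node (.node (.node (.leaf []) (.leaf [-1328, 181, -3498, -1618, 2135, -22, 240, 1114, -34, -86, -2, 0, -1])) (.node (.leaf [-14584, 2688, -36946, -16563, 21190, 417, 3218, 11697, -1168, -837, 27, -4, 20, 0, 1]) (.leaf [101473243, -10361412, 235140424, 97939653, -128622287, -1485478, -24299879, -66075998, 5271114, 2357991, -263952, -239619, -60503, -13364, 7135, 40, 5]))) (.node (.node (.leaf []) (.leaf [-4592585, 156000, -9646292, -3678859, 4982302, -2790, 1213879, 2362633, -87015, -19378, 7192, 15947, -5313, 333, -381, -3, -1])) (.node (.leaf [332298, -80822, 927884, 443941, -559478, -15686, -61579, -319242, 35472, 28448, -1463, 616, -1177, -20, -7]) (.leaf [122384666, -10037651, 273940630, 109717051, -145949758, -597616, -30344880, -72454828, 6127331, -22812, -241140, -549012, -49529, -28114, 16733, -221, 5]))))) (.node (.node (.node (.node (.leaf []) (.leaf [-98488, 27623, -363016, -208651, 261846, 6150, 877, 153232, -1524, -29501, 510, -1232,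 185, -76, 18, -1])) (.node (.leaf [-8500, 3065, -28508, -15186, 18754, 691, 883, 11241, -1200, -1430, 64, -52, 50, 1]) (.leaf [-20, -5, -43, -20, 23, 0, -1, 16, 2, 1, 0, 0, 0, 1]))) (.node (.node (.leaf []) (.leaf [1])) (.node (.leaf [-48, 94, -327, -176, 243, -37, -3, 128, -35, 19, -4, 1]) (.leaf [-25276281, 6074552, -68919674, -32436027, 40877413, 1170834, 5012389, 23331244, -2718913, -1966784, 85700, -45161, 78657, 1895, -250, -11])))) (.node (.node (.node (.leaf []) (.leaf [-63221156, 8181433, -151922688, -65331728, 84868996, 1372206, 14550795, 44860867, -3917436, -2306086, 172154, 92027, 65647, 7100, -3329, -29, -3])) (.node (.leaf [1]) (.leaf [4408856, -911196, 11701287, 5418116, -6882507, -172732, -891831, -3852529, 405581, 305624, -15027, 4032, -11206, -311, 168, 1]))) (.node (.node (.leaf []) (.leaf [-33065636, -2814623, -68295655, -26544175, 36993638, -568919, 7362697, 16156319, 1512969, -275566, 110372, 251939, -79668, 1287, -5891, -1])) (.node (.leaf [-559962, 101518, -1558472, -763496, 966231, 25526,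 91093, 547703, -30722, -67706, 2220, -1646, 888, -91, 36, -2]) (.leaf [1])))))) (.node (.node (.node (.node (.node (.leaf []) (.leaf [])) (.node (.leaf [-98342, 24822, -274672, -131641, 165611, 4559, 18475, 95149, -10504, -8850, 298, -211, 300, 4, 1]) (.leaf [-122823, 35108, -351289, -170517, 212378, 7153, 22461, 124616, -15828, -11444, 424, -250, 492, 11, -1]))) (.node (.node (.leaf []) (.leaf [-12189411, 4311315, -38961444, -20293837, 24995825, 928669, 1615441, 15106109, -1711987, -1849491, 50593, -65022, 61510, -796, 412, 5])) (.node (.leaf []) (.leaf [-195917510, 36435979, -501124299, -225008680, 287978569, 6007260, 42127181, 158192572, -17344990, -9473562, 515340, 146240, 420784, 29638, -11898, 162, -7])))) (.node (.node (.node (.leaf []) (.leaf [])) (.node (.leaf [-16737, 5032, -47703, -23080, 28704, 914, 3182, 16958, -2214, -1565, 36, -46, 67, 2]) (.leaf [-24533229, 4039786, -63121774, -28750218, 36845407, 770664, 5002966, 20175533, -1754129, -1521650, 76986, 12762, 42309, 1773, -1174, 2, -1]))) (.node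 (.node (.leaf [104119, -23147, 280271, 131250, -165838, -4393, -20521, -94173, 10182, 7784, -299, 130, -268, -4, -1]) (.leaf [-210, 35, -502, -214, 276, 5, 55, 149, -14, -12])) (.node (.leaf [9015, -2128, 24520, 11561, -14593, -390, -1797, -8317, 896, 762, -24, 18, -24, 1]) (.leaf [-8557, 1080, -20755, -8981, 11744, 148, 1953, 6134, -444, -383, 27, -8, 5]))))) (.node (.node (.node (.node (.leaf []) (.leaf [])) (.node (.leaf [8869082, 920960, 20135729, 8869389, -11973379, -92050, -1539300, -5672237, -670492, 698208, -69082, -34596, 19338, 1694, 916, 51, 1]) (.leaf [70922200, -17000202, 195322657, 92575507, -116809226, -3082335, -13527324, -66553802, 7501270, 5560661, -216816, 84188, -218098, -5821, 1370, -49, -1]))) (.node (.node (.leaf []) (.leaf [880, -67, 2140, 934, -1238, -2, -176, -627, 24, 28, -2, -2, 1])) (.node (.leaf [2544732793, -380964982, 6305227976, 2775612753, -3584123933, -61839364, -559029363, -1925248369, 179674967, 107695376, -6785572, -3626916, -3763042, -323988, 173844, -711, 77]) (.leaf [1]))))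 (.node (.node (.node (.leaf []) (.leaf [1])) (.node (.leaf []) (.leaf [-213790, 50217, -574208, -267573, 338482, 8203, 43870, 192177, -21589, -15865, 386, -331, 506, 15, 3]))) (.node (.node (.leaf [36321, -5995, 88136, 38144, -49130, -771, -8575, -26712, 2683, 1512, -34, -3, -36, -4, -1]) (.leaf [39314856, -684343, 84156900, 32859745, -44575943, 216408, -9644684, -21042396, 467980, 56763, -79250, -206925, 36938, -5053, 5314, -5, 1])) (.node (.leaf [-192288, 51304, -549661, -267176, 336319, 8733, 34692, 193457, -20487, -19369, 434, -567, 553, -2, 9]) (.leaf [1])))))))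

def twoL101 : Janko.Tree (List ℤ) :=
  (.node (.node (.node (.node (.node (.node (.leaf [0, 1]) (.leaf [5653365, -432551, 13074765, 5459949, -7181640, -95438, -1294791, -3649986, 259851, 107860, -26457, -21102, -5973, -1010, 759, 1])) (.node (.leaf [0, 1]) (.leaf [-1926572, -365108, -2171139, -8740, 357698, -149099, 769342, -277433, 86302, 317325, -9218, 27771, -11880, 952, -479, 11, -1]))) (.node (.node (.leaf []) (.leaf [1532, 410, 2177, 417, -846, 203, -414, -77, -177, -234, 10, -25, 8, 0, -1])) (.node (.leaf [0, 1]) (.leaf [0, 1])))) (.node (.node (.node (.leaf [0, 1]) (.leaf [0, 1])) (.node (.leaf [521144, -106871, 1378948, 640068, -812592, -20126, -106184, -456593, 44359, 40399, -1371, 860, -1046, 8, -26, 1]) (.leaf [-26165008, -679505, -45786950, -13180577, 19453188, -644726, 8424128, 7101053, -342902, 1708123, 1370, 181575, -56915, 7454, -3540, 22, -5]))) (.node (.node (.leaf []) (.leaf [])) (.node (.leaf []) (.leaf [-54572574, 11391043, -146018412, -68132185, 86403358, 2205136, 10767955, 48572641, -4993716,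 -4014826, 180352, -45187, 138747, 3570, -1494, -8, -1]))))) (.node (.node (.node (.node (.leaf []) (.leaf [-549479, 101690, -1458065, -682618, 868038, 21754, 106882, 485378, -39639, -47005, 1860, -941, 976, -34, 13, -1])) (.node (.leaf []) (.leaf [-500352651, 74296905, -1231919565, -539129511, 696977828, 11725560, 111670636, 373359377, -35212022, -20175389, 1284170, 683967, 702770, 61190, -31101, 143, -17]))) (.node (.node (.leaf [0, 1, 0, 0, 1, -1]) (.leaf [205559030, -43543382, 549134466, 255542472, -324133691, -8189460, -41064775, -182166097, 19245429, 14729109, -665188, 182123, -530589, -14175, 4785, 21, 3])) (.node (.leaf [0, 1]) (.leaf [0, 1])))) (.node (.node (.node (.leaf [0, 1]) (.leaf [226430624, -63261802, 645395702, 312400120, -390582314, -12341185, -41839869, -227438562, 27714495, 21301770, -789886, 655647, -854551, -12577, -2395, 46, 1])) (.node (.leaf [-4016, 1079, -10881, -4975, 6323, 165, 876, 3540, -526, -200, 12, -15, 14]) (.leaf [3094, -1333, 12409, 7129, -8808, -337, 38, -5269, 473, 761,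 -39, 33, -25, -1]))) (.node (.node (.leaf [0, 1]) (.leaf [0, 1])) (.node (.leaf [-2080273, 454539, -5306085, -2352609, 2997429, 65057, 473811, 1666593, -229292, -75354, 3245, 1372, 5303, 466, -99, 3]) (.leaf [16288, -3958, 46277, 22479, -28378, -746, -2888, -16168, 1569, 1669, -70, 42, -46])))))) (.node (.node (.node (.node (.node (.leaf []) (.leaf [-1420, 68, -3380, -1468, 1949, 20, 300, 973, -12, -79, 8])) (.node (.leaf [-286, 41, -704, -313, 403, 6, 63, 219, -16, -17, 0, 1]) (.leaf [-5461197, 578593, -12305299, -4955285, 6543840, 52953, 1394739, 3318549, -315702, -46694, 6592, 16400, 1505, 969, -472, 8, -1]))) (.node (.node (.leaf [-900, 25, -2080, -883, 1174, 9, 191, 584, -5, -35, 5, 1]) (.leaf [158519, -36738, 436468, 208131, -262757, -6892, -30023, -149827, 14801, 14551, -452, 393, -398, 2, -3])) (.node (.leaf []) (.leaf [0, 1])))) (.node (.node (.node (.leaf [0, 1]) (.leaf [0, 1])) (.node (.leaf [-1523098, 345308, -4131424, -1941013, 2449817, 68191, 296377, 1391687, -157321, -111990, 5321, -1022, 4706,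 167, -86, 1]) (.leaf [0, 1]))) (.node (.node (.leaf [-12, 3, -23, -8, 10, 0, 4, 6, -1]) (.leaf [0, 1])) (.node (.leaf []) (.leaf [-3530, 183, -8008, -3320, 4398, 41, 806, 2211, -83, -93, 15, 3]))))) (.node (.node (.node (.node (.leaf []) (.leaf [0, 1])) (.node (.leaf [-1714, -4, -3515, -1318, 1783, 23, 443, 833, -25, 5, 7, 6, -1]) (.leaf [-6912375, 1183711, -17943161, -8212418, 10512903, 228112, 1396252, 5770542, -517481, -442004, 25714, 110, 14230, 508, -365, -5]))) (.node (.node (.leaf []) (.leaf [338931, -69193, 935422, 451834, -569216, -17699, -60385, -324807, 26393, 36605, -1716, 914, -876, 34, -10, 1])) (.node (.leaf []) (.leaf [-15820672, 4840056, -48155854, -24495925, 30388735, 1055846, 2389383, 18057942, -1872383, -2187508, 61331, -75449, 62272, -1400, 1176, -15])))) (.node (.node (.node (.leaf []) (.leaf [-3088161, -4471925, 10243523, 10788672, -11560353, -1261475, 2860316, -9421601, 1612544, 2410635, -62192, 161998, -95589, 3209, -3170, -4, -1])) (.node (.leaf [0, 1]) (.leaf [571951, 1524461, -1932559,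 -1783994, 1694690, 301126, -281123, 1725519, -773304, -244167, 2730, -35659, 30227, 868, 404, 11]))) (.node (.node (.leaf []) (.leaf [-61783005, 15588887, -176355378, -86173498, 108021149, 3330482, 10730049, 62505745, -6378580, -6517398, 247676, -173240, 203589, -659, 1396, -63])) (.node (.leaf [5679, -519, 13419, 5663, -7541, -17, -1300, -3770, 203, 157, -12, -3, 3]) (.leaf [59923, -16466, 171355, 83424, -104310, -3141, -10758, -60810, 6980, 5912, -165, 136, -206, -4, -1])))))))

def twoL102 : Janko.Tree (List ℤ) :=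
  (.node (.node (.node (.node (.node (.node (.leaf []) (.leaf [])) (.node (.leaf [-24672, 5665, -67618, -32043, 40550, 1028, 4732, 22981, -2338, -2100, 68, -58, 66, 0, -1]) (.leaf []))) (.node (.node (.leaf []) (.leaf [1191, -358, 2194, 551, -781, 23, -538, -333, 227, -133, 14, -6, 0, 0, -1])) (.node (.leaf [-217457, 227250, -1030110, -600486, 702668, 42461, 10342, 477208, -104959, -56775, 1412, -5002, 4106, 26, 28, 1]) (.leaf [-52950785, 13020548, -145829582, -69230025, 87070301, 2581117, 10301066, 49963034, -5678228, -4534735, 188670, -128459, 168024, 1747, 572, -63])))) (.node (.node (.node (.leaf []) (.leaf [-241, 3, -648, -306, 421, -21, 25, 203, 14, -9, 0, 0, -1])) (.node (.leaf [0, 0, 1]) (.leaf [0, 0, 1]))) (.node (.node (.leaf [0, 0, 1]) (.leaf [-8948084, 3182799, -34107813, -19729259, 24166461, 958568, -108490, 14772194, -934221, -2391879, 91854, -62255, 60488, -3215, -365, -4, 3])) (.node (.leaf []) (.leaf [0, 0, 1]))))) (.node (.node (.node (.node (.leaf [628, 1096, -4298, -3916, 4549, 324, -941,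 3116, -338, -768, 40, -42, 28, -1]) (.leaf [0, 0, 1])) (.node (.leaf []) (.leaf [3, 0, 6, 3, -3, 0, 0, -4, 0, 0, 0, 0, 0, 1]))) (.node (.node (.leaf []) (.leaf [132846712, -21738923, 327708120, 142705641, -184443895, -2897367, -30304583, -98971839, 10589783, 4565379, -263338, -193839, -204876, -21703, 5351, -131, 3])) (.node (.leaf [-59, 3, -139, -62, 78, 0, 10, 45, -2, -1, 1]) (.leaf [9519, -1995, 25492, 11941, -15063, -485, -1897, -8543, 889, 791, -49, 18, -26, -1])))) (.node (.node (.node (.leaf [-42, 6, -107, -53, 64, 1, 5, 41, -2, -3]) (.leaf [34046606, -12849054, 114427333, 61372268, -75222686, -3039400, -3552064, -45938205, 4927182, 6172942, -202450, 235230, -200380, 4423, -2039, 49, -3])) (.node (.leaf [727, -6, 1672, 745, -949, -12, -123, -529, 0, 34, -4, -4]) (.leaf [1288604, -363141, 3594370, 1699519, -2129771, -65105, -256315, -1231423, 173386, 90624, -4346, 2404, -5362, -207, 48, -1]))) (.node (.node (.leaf [-54843, 28391, -171217, -81474, 100479, 2660, 11405, 60524, -15850, -59, 100, -2, 529, 46,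 -9, 1]) (.leaf [37, -6, 95, 44, -54, 0, -6, -34, 2, 2])) (.node (.leaf [0, 0, 1]) (.leaf [4330, -458, 10739, 4776, -6235, -119, -927, -3246, 176, 282, -29, 1, 1, 2, -1])))))) (.node (.node (.node (.node (.node (.leaf []) (.leaf [-3107288, 992006, -8746387, -4115402, 5138072, 158810, 641911, 2998584, -495210, -181129, 8000, -5012, 15122, 812, -186, 7])) (.node (.leaf [-1327, 135, -3146, -1355, 1769, 19, 293, 932, -51, -55, 2, -1]) (.leaf [0, 0, 1]))) (.node (.node (.leaf [612, 173, 696, 46, -177, 82, -204, 45, -85, -80, 2, -7, 5]) (.leaf [0, 0, 1])) (.node (.leaf []) (.leaf [7, -2, 23, 9, -13, 1, -2, -5, 0, 1, 0, 0, 0, -1])))) (.node (.node (.node (.leaf [219, -58, 556, 237, -312, -4, -66, -161, 23, 15, 1]) (.leaf [166778, -36234, 446384, 208211, -264044, -6281, -33473, -148874, 15328, 12619, -416, 225, -371, -7, -3])) (.node (.leaf [0, 0, 1]) (.leaf [-47713112, 11385360, -132069221, -62906067, 79275689, 2220634, 8941463, 45249129, -5016967, -3932756, 165662, -59692, 151322, 3802, -1302, 39, -1]))) (.node (.node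 (.leaf [0, 0, 1]) (.leaf [-364776, 96014, -1000166, -470142, 591184, 16292, 73815, 340037, -43473, -26783, 824, -698, 1164, 36, 3])) (.node (.leaf [14066, -3776, 40057, 19387, -24308, -776, -2580, -14043, 1636, 1352, -56, 44, -48, -3]) (.leaf [-856637, 125092, -2091028, -912583, 1180766, 19849, 196108, 632743, -53883, -41439, 1486, 317, 571, 58, 44, -1]))))) (.node (.node (.node (.node (.leaf []) (.leaf [5600785, -1188678, 14959086, 6954519, -8819690, -226191, -1119378, -4955568, 534098, 390814, -18818, 4012, -15040, -502, 256, -1])) (.node (.leaf [-4040574, 884977, -12788624, -6824236, 8509347, 290346, 363240, 4986945, -218262, -775013, 32750, -21846, 13446, -1434, 494, -29, 1]) (.leaf [-687877, 296959, -2336792, -1245983, 1513900, 72787, 81037, 939498, -128773, -117050, 5981, -6302, 5600, -59, -54, -1]))) (.node (.node (.leaf []) (.leaf [0, 0, 1])) (.node (.leaf [3717, -208, 8521, 3568, -4723, -39, -836, -2383, 87, 110, -13, -6, 1, 1]) (.leaf [4359463, -503775, 10180120, 4238268, -5542705, -85362, -1046930,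 -2865630, 288625, 70657, -15308, -11551, -5819, -879, 384, -1])))) (.node (.node (.node (.leaf [0, 0, 1]) (.leaf [-349626, 70859, -954710, -456995, 577326, 16412, 64272, 327826, -26952, -35289, 1392, -832, 784, -26, 10, -1])) (.node (.leaf []) (.leaf [0, 0, 1]))) (.node (.node (.leaf [0, 0, 1]) (.leaf [0, 0, 1])) (.node (.leaf [2229, 1230, 1661, -428, -25, 187, -812, 808, -554, -233, -12, -39, 25]) (.leaf [-2814, 303, -7403, -3391, 4528, -37, 501, 2271, -62, -151, 6, 0, -3, 1])))))))

def twoL103 : Janko.Tree (List ℤ) :=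
  (.node (.node (.node (.node (.node (.node (.leaf []) (.leaf [-13505, 5839, -50411, -28313, 34987, 1074, 596, 21185, -1775, -3161, 18, -152, 69, -8, -1])) (.node (.leaf []) (.leaf [3339, -305, 7764, 3242, -4301, -7, -775, -2176, 126, 74, -6, -2, 2]))) (.node (.node (.leaf []) (.leaf [11, -1, 25, 12, -13, -1, -2, -9, 2, 0, 0, -1])) (.node (.leaf [173131, -43162, 473904, 223837, -280851, -8534, -34119, -161940, 19661, 13578, -564, 241, -556, -18, -1]) (.leaf [-4423263, 914879, -11740751, -5436767, 6905994, 173274, 894700, 3866050, -407122, -306797, 15050, -4059, 11244, 312, -168, -1])))) (.node (.node (.node (.leaf []) (.leaf [])) (.node (.leaf []) (.leaf [33466789, -6603045, 90114427, 42402533, -53828050, -1345827, -6315841, -30179691, 2797874, 2640530, -123994, 20175, -82366, -1527, 1293, 11]))) (.node (.node (.leaf []) (.leaf [-3932451, 174940, -8824779, -3626850, 4830939, 32258, 926112, 2390165, -72221, -110535, 13726, 11007, -1427, 160, -123, -13])) (.node (.leaf [-96765, 24208, -269544, -128954, 162315,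 4433, 18242, 93144, -10257, -8578, 282, -203, 290, 4, 1]) (.leaf [7506308, -930147, 17647774, 7391054, -9676023, -91244, -1782360, -5021875, 490855, 116517, -9216, -27086, -6158, -1691, 971, -17, 1]))))) (.node (.node (.node (.node (.leaf []) (.leaf [-28260321, 43090732, -167738387, -105171693, 119778455, 9237101, -943205, 86355245, -18472318, -14101168, 220776, -1237346, 705683, -10219, 22798, -167, -1])) (.node (.leaf [1461, -115, 3573, 1579, -2094, 13, -293, -1067, 20, 72, -4, -2, 1]) (.leaf [22216, 7837, 51842, 27441, -36477, -972, -1774, -18211, -7034, 7227, -326, 224, 198, 42, -10, 1]))) (.node (.node (.leaf []) (.leaf [95142669, -15849078, 236563023, 103662574, -133918238, -2048308, -21375165, -71984857, 7629678, 3435707, -183848, -142930, -150869, -15490, 3434, -121, 1])) (.node (.leaf [-948, 78, -2199, -924, 1218, 11, 220, 622, -33, -31, 3, 1]) (.leaf [-209, 9, -477, -201, 267, 1, 44, 134, -3, -5, 1])))) (.node (.node (.node (.leaf []) (.leaf [4, 5, 3, 3, -2, -1, 1, -2, -1, 0, 0, -1])) (.node (.leaf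 [-1832, -522, -2534, -510, 920, -36, 570, 103, 201, 100, 14, 18, -9]) (.leaf [-1763, -1096, 1439, 2602, -2791, -291, 1160, -2269, 369, 637, -22, 41, -27, -1]))) (.node (.node (.leaf []) (.leaf [101110, -24970, 281090, 134337, -169220, -4560, -19068, -96936, 10545, 8909, -296, 211, -296, -4, -1])) (.node (.leaf []) (.leaf [15683768, -3983599, 43181727, 20426536, -25674369, -756401, -3088734, -14753521, 1791630, 1246072, -49600, 30706, -51719, -1255, 88, -1])))))) (.node (.node (.node (.node (.node (.leaf []) (.leaf [-4089, 578, -10195, -4505, 5887, 60, 897, 3093, -214, -217, 8, -5, 1])) (.node (.leaf [300, 14, 675, 291, -372, -19, -52, -197, 2, 10, -4, 0, -1]) (.leaf [-264765643, 31754851, -663863167, -298177344, 386364616, 5778193, 53082644, 205802668, -13296607, -14056019, 852586, 584901, 290172, 21349, -24551, 145, -1]))) (.node (.node (.leaf []) (.leaf [])) (.node (.leaf []) (.leaf [1632311, 259221, 2270836, 387781, -747790, 96212, -577884, -71259, -92519, -157244, 5311, -17002, 9757, -263, 240, -7, 1]))))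 (.node (.node (.node (.leaf [-1312, 64, -3218, -1434, 1899, -3, 235, 967, -9, -55, 5, 2, -1]) (.leaf [172044, -38112, 463043, 216769, -274665, -6651, -34277, -155175, 16074, 13389, -438, 253, -397, -6, -3])) (.node (.leaf [-3499271, 857325, -9605749, -4536607, 5710785, 164579, 681642, 3266937, -390514, -266868, 12060, -4818, 11747, 363, -120, 1]) (.leaf [-975, 131, -2167, -854, 1110, 30, 266, 581, -81, -4, 2, 0, 1]))) (.node (.node (.leaf []) (.leaf [-32756362, 7268648, -89065054, -41939168, 53057418, 1391972, 6295050, 29998082, -3222824, -2480569, 112258, -25551, 94518, 2913, -1176, 17])) (.node (.leaf [11, 0, 19, 6, -8, 0, -4, -3]) (.leaf [-598, 8, -1299, -516, 688, -8, 121, 347, -12, 20, 2]))))) (.node (.node (.node (.node (.leaf []) (.leaf [-147670648, 39252551, -424752026, -207708448, 260171945, 7846211, 25575007, 150883475, -16528804, -14933991, 556306, -377672, 534262, 2965, 644, 14, 5])) (.node (.leaf [17310, -4519, 45560, 20651, -26024, -736, -3942, -14863, 2192, 924, -28, 30, -61, -2, 1]) (.leaf [-2577,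 187, -5913, -2460, 3263, 22, 609, 1639, -78, -79, 9, 4, -1]))) (.node (.node (.leaf []) (.leaf [])) (.node (.leaf [-170, -4, -369, -145, 199, -1, 39, 91, 1, -1, 2]) (.leaf [-15270598, 4728525, -46734421, -23850852, 29566092, 1038869, 2270679, 17600063, -1823803, -2154282, 60756, -75375, 61432, -1462, 1157, -15])))) (.node (.node (.node (.leaf [0, 0, 0, 0, 1]) (.leaf [28011709, -7321976, 74842413, 34396103, -43304134, -1337408, -6217287, -24758979, 3451886, 1856906, -75928, 70730, -87565, -3936, -1678, 21, 3])) (.node (.leaf []) (.leaf [3340636, -1614854, 12062825, 6608444, -8022576, -346477, -286224, -5010674, 670924, 634240, -21934, 28824, -28249, 137, -144, 1, -1]))) (.node (.node (.leaf []) (.leaf [19679278, -2054543, 39374858, 12921531, -17824586, 278190, -6040016, -7928741, 2038162, -1895638, -9548, -180617, -35563, -13586, 5850, -139, -1])) (.node (.leaf [5603, 155, 11186, 4047, -5640, 22, -1509, -2442, -34, -31, -22, -22, 10]) (.leaf [173546, -37135, 462846, 215587, -272942, -7263, -34978, -154141, 16151,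 13112, -506, 202, -399, -4, -5])))))))

def twoL104 : Janko.Tree (List ℤ) :=
  (.node (.node (.node (.node (.node (.node (.leaf []) (.leaf [-4758028, 1042487, -12484054, -5687867, 7220251, 185806, 1016809, 4042466, -502834, -263059, 15618, -2228, 13983, 714, -165, 1])) (.node (.leaf [-216035, 52174, -591615, -277016, 350417, 9518, 42974, 197656, -24872, -14555, 1134, -259, 863, 32, -3]) (.leaf [1]))) (.node (.node (.leaf [1]) (.leaf [4093, -293, 9724, 4210, -5538, -57, -881, -2842, 97, 197, -16, -5, 1])) (.node (.leaf []) (.leaf [-16652181, 9971873, -57861975, -30382856, 36390757, 1817691, 2715341, 23458512, -4643359, -2398103, 41199, -172662, 155035, 3039, 1562, 24])))) (.node (.node (.node (.leaf [-9, 0, -18, -5, 8, 0, 4, 2]) (.leaf [9565, -2009, 25614, 12001, -15136, -487, -1904, -8589, 894, 794, -48, 18, -26, -1])) (.node (.leaf [-13597454, 3429736, -37484714, -17764758, 22335378, 650590, 2658787, 12829777, -1524207, -1106025, 41832, -26599, 43714, 1071, -31, -5]) (.leaf [110352815, -10530378, 249241086,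 100979351, -133405482, -1221744, -27646228, -67459967, 5768744, 1344743, -246531, -303709, -45740, -17737, 8039, 25, 7]))) (.node (.node (.leaf []) (.leaf [1])) (.node (.leaf [1]) (.leaf [4791696, -1085005, 12941036, 6052686, -7654706, -200121, -946752, -4333278, 489824, 340167, -14892, 4324, -13879, -488, 163, -1]))))) (.node (.node (.node (.node (.leaf [1]) (.leaf [-8851588, 2063802, -24160058, -11388235, 14369435, 405261, 1722966, 8172868, -925302, -684831, 32518, -13031, 27827, 698, -213, -3])) (.node (.leaf [1]) (.leaf [284443, -48169, 762357, 362428, -460821, -12020, -52297, -257596, 16513, 28897, -1248, 616, -445, 36, -13, 1]))) (.node (.node (.leaf []) (.leaf [277, 61, 549, 218, -273, -30, -37, -138, 2, -14, -5, -6, 0, -1])) (.node (.leaf [-7, 1, -17, -6, 8, 0, 2, 4, -1, 1]) (.leaf [-13000279, 4789739, -40126213, -20279264, 24957583, 964318, 2135398, 15091775, -2097178, -1592373, 50972, -70591, 71173, 577, 371, -5])))) (.node (.node (.node (.leaf [1]) (.leaf [1])) (.node (.leaf []) (.leaf [3697980, -868070,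 10138715, 4799931, -6048714, -174008, -710256, -3451121, 385944, 297872, -13896, 5838, -11783, -239, 108, 1]))) (.node (.node (.leaf [-7, 0, -14, -5, 6, 0, 2, 4]) (.leaf [1])) (.node (.leaf [-1523756, 383516, -4014852, -1806444, 2293607, 46544, 333388, 1287313, -199550, -43582, 1368, 2560, 5119, 506, -180, 7]) (.leaf [-51506, 5496, -124301, -54036, 70400, 1169, 11351, 36921, -2408, -2377, 235, 15, 35, 2, -3])))))) (.node (.node (.node (.node (.node (.leaf [1]) (.leaf [-1155678, -791612, -803073, 279164, 29787, -171960, 358404, -524338, 347283, 208592, 2400, 35546, -14527, 452, -483, 15])) (.node (.leaf [1]) (.leaf [1]))) (.node (.node (.leaf [1]) (.leaf [-93586369, 8566787, -213118385, -87924452, 115604848, 1552422, 23075201, 59195430, -4044714, -2813189, 263440, 122554, 15481, 4801, -1920, -214, -7])) (.node (.leaf []) (.leaf [-726068256, 70236398, -1685206259, -702532996, 925087256, 7612194, 170578740, 472477676, -36378016, -13464176, 1619387, 2441786, 406734, 115176, -79036, 634, -25])))) (.node (.node (.node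 (.leaf []) (.leaf [-52586390, 9091544, -139119066, -64962814, 82814444, 1995714, 10047497, 45933718, -3689022, -4172028, 209042, -28509, 104241, 636, -1213, -67])) (.node (.leaf [27469, -5916, 73506, 34283, -43486, -1078, -5531, -24479, 2508, 2119, -82, 44, -65]) (.leaf [1]))) (.node (.node (.leaf []) (.leaf [4127238, -1984148, 17243571, 10339614, -12501216, -562048, 189772, -7898301, 568126, 1417115, -36472, 49294, -31307, 2312, -758, 9, -1])) (.node (.leaf [134105092, -57974521, 435025036, 223682823, -273891636, -10608322, -20284324, -167674527, 26335470, 16399079, -453858, 670374, -911078, -22900, -4341, -441, -7]) (.leaf [43420, -15118, 129776, 64410, -79321, -3262, -7894, -47664, 6913, 4877, -162, 115, -231, -8, 1]))))) (.node (.node (.node (.node (.leaf []) (.leaf [-50178867, -3844142, -100141126, -36770402, 51938419, -1222730, 12024348, 21808338, 1517046, 1026742, 102922, 468486, -111380, 9487, -12756, 115, -1])) (.node (.leaf [1]) (.leaf [-3623776, 916314, -9781771, -4540214, 5718831, 157213, 750465,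 3269156, -435848, -224948, 8461, -2728, 11824, 592, -89, 5]))) (.node (.node (.leaf [1]) (.leaf [-24850491, 5848343, -70039598, -33975852, 42739058, 1234043, 4340680, 24519016, -2401725, -2452801, 97054, -48086, 75968, 226, -13, -13])) (.node (.leaf []) (.leaf [-1765953, 482659, -4919630, -2332566, 2925553, 87626, 347044, 1689264, -224527, -132667, 5720, -3363, 6817, 235, -48, 1])))) (.node (.node (.node (.leaf [1]) (.leaf [5891, -263, 13180, 5420, -7176, -134, -1421, -3580, 118, 231, -32, -2, -3, 4])) (.node (.leaf []) (.leaf [1]))) (.node (.node (.leaf []) (.leaf [-18767, -8042, -44600, -24670, 32790, 963, 864, 16367, 7148, -7225, 324, -232, -195, -42, 10, -1])) (.node (.leaf [1]) (.leaf [30234, -3708, 72051, 30685, -40564, -97, -7203, -20786, 1246, 1265, 11, 10, 16, 2, -5])))))))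

def twoL105 : Janko.Tree (List ℤ) :=
  (.node (.node (.node (.node (.node (.node (.leaf []) (.leaf [-3891982, 777682, -9742026, -4242961, 5446905, 103425, 908239, 2967962, -406841, -102881, 8428, 4619, 9806, 922, -224, 5])) (.node (.leaf [10280, -2116, 27002, 12436, -15778, -409, -2142, -8863, 931, 729, -34, 13, -23]) (.leaf [-491114, 127914, -1294697, -587028, 741993, 16946, 109767, 422141, -61644, -22783, -204, 189, 1213, 134, 14, 1]))) (.node (.node (.leaf []) (.leaf [0, 1])) (.node (.leaf []) (.leaf [63817175, -23287819, 200871859, 103026663, -126907957, -4747960, -9500415, -76637752, 9804628, 8612061, -260700, 342348, -342866, 228, -2970, -24, -3])))) (.node (.node (.node (.leaf []) (.leaf [])) (.node (.leaf []) (.leaf [1164, -336, 2175, 703, -831, -40, -462, -556, 186, -12, 14, -6]))) (.node (.node (.leaf [-410, 55, -943, -389, 502, 17, 103, 267, -33, -8, 0, 1]) (.leaf [])) (.node (.leaf [8486, -2465, 20914, 8776, -11150, -236, -2416, -6259, 1279, 151, 12, -4, -26, -2, 1]) (.leaf [-32821727, 8573497, -93049745,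 -45033020, 56442308, 1720579, 5930398, 32661308, -3707611, -3084204, 121092, -76354, 116543, 1738, -331, -7]))))) (.node (.node (.node (.node (.leaf []) (.leaf [-14936, 2814, -38792, -17733, 22746, 412, 3158, 12511, -1077, -1082, 26, -31, 21])) (.node (.leaf [-214, 59, -543, -234, 302, 9, 61, 162, -27, -12, -1]) (.leaf [0, 1]))) (.node (.node (.leaf [0, 1]) (.leaf [-5472212, 575555, -12305211, -4945126, 6533664, 50997, 1401217, 3309358, -315173, -42523, 6148, 16821, 1302, 993, -465, 8, -1])) (.node (.leaf [-21333, 3410, -52837, -23169, 30116, 439, 4967, 15987, -1370, -1161, 37, -20, 16, 0, 1]) (.leaf [-653586, 143507, -1751306, -817055, 1035595, 25138, 131132, 584433, -61381, -48867, 1466, -717, 1451, 28, 18])))) (.node (.node (.node (.leaf []) (.leaf [-13948086, 3406935, -39380954, -19043939, 23983512, 643089, 2461779, 13738072, -1427511, -1284332, 44586, -21156, 43341, 701, -441, 12, -1])) (.node (.leaf []) (.leaf [124137, -37577, 354692, 170184, -211933, -7422, -23441, -124242, 18225, 9338, -470, 369, -589,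 -28, 1]))) (.node (.node (.leaf []) (.leaf [6417269, -1016966, 17090331, 8073113, -10295223, -255449, -1171832, -5704020, 370810, 589504, -31038, 7543, -11919, 528, 93, 15])) (.node (.leaf []) (.leaf [0, 1])))))) (.node (.node (.node (.node (.node (.leaf []) (.leaf [0, 1])) (.node (.leaf [155852, -45050, 452232, 221564, -275726, -9609, -27225, -162004, 20223, 15341, -646, 416, -678, -14, 5]) (.leaf [96241, -45974, 200514, 54794, -69396, -2199, -42053, -37868, 34841, -20245, -70, -88, -1002, -126, 28, -1]))) (.node (.node (.leaf []) (.leaf [0, 1])) (.node (.leaf [0, 1]) (.leaf [0, 1])))) (.node (.node (.node (.leaf [47, -45, 126, 42, -56, -3, -37, -27, 21, 7]) (.leaf [])) (.node (.leaf [-11977, 2296, -30714, -13774, 17666, 309, 2534, 9715, -1058, -509, 13, -13, 18, 0, 1]) (.leaf [-20217485, 3964104, -40443957, -12468244, 17245553, -649807, 6813776, 7805582, -3181839, 2823436, -119158, 219434, 37525, 18800, -6209, 287, -1]))) (.node (.node (.leaf []) (.leaf [1064732082, -276073557, 2893304141, 1346706422, -1697184819,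 -45906850, -220334279, -969591268, 129877291, 68343239, -2643852, 1351083, -3571729, -160092, 20521, -1206, 17])) (.node (.leaf [0, 1]) (.leaf [-2882, 178, -6424, -2601, 3465, -8, 676, 1739, -78, -25, 6, 1, -2]))))) (.node (.node (.node (.node (.leaf [0, 1]) (.leaf [])) (.node (.leaf [217, -7, 570, 275, -357, 4, -21, -194, -4, 12, -1]) (.leaf [0, 1]))) (.node (.node (.leaf []) (.leaf [-400447, 81476, -1074898, -506102, 640942, 17248, 77986, 361906, -32711, -35343, 1393, -810, 842, -12, 17, -1])) (.node (.leaf [0, 1]) (.leaf [0, 1])))) (.node (.node (.node (.leaf []) (.leaf [218023, -50750, 591731, 278552, -351622, -9276, -43120, -200321, 21759, 17549, -560, 318, -551, -7, -3])) (.node (.leaf []) (.leaf [-21915625, 4248661, -63880474, -32517132, 40777716, 1386742, 3087371, 23580365, -1071122, -3567474, 136602, -123545, 43413, -7678, 2467, -145, -1]))) (.node (.node (.leaf [78294, -16357, 215731, 103473, -130865, -3419, -14020, -74214, 6392, 7456, -321, 181, -177, 2, -3]) (.leaf [-11168163, 4117731, -36580555,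 -19339507, 23754160, 912819, 1342475, 14454112, -1591006, -1870388, 49468, -68553, 58921, -1322, 548, 4])) (.node (.leaf [1512, -74, 3600, 1565, -2074, -22, -318, -1040, 16, 82, -8, -1]) (.leaf [0, 1])))))))

def twoL106 : Janko.Tree (List ℤ) :=
  (.node (.node (.node (.node (.node (.node (.leaf [0, 0, 1]) (.leaf [1565339, -446371, 4423153, 2115719, -2644637, -85336, -300316, -1537570, 209700, 124151, -5880, 3234, -6677, -242, 63, -1])) (.node (.leaf []) (.leaf [14589189, 85114477, -138655677, -108438141, 109564712, 14253412, -9729084, 100837031, -41549069, -13179162, -226772, -2099917, 1495504, 31708, 33361, 552, 11]))) (.node (.node (.leaf [-19050666, 94944239, -166592538, -94201856, 95021723, 11907520, 12416555, 88175691, -50547486, -1800004, -848124, -1897228, 1460307, 76295, 36388, 849, -11]) (.leaf [-2429, 527, -6502, -3017, 3842, 105, 503, 2140, -222, -191, 9, -10, 5])) (.node (.leaf [0, 0, 1]) (.leaf [11908053, -4213813, 37891937, 19669702, -24234953, -892202, -1616057, -14636806, 1688252, 1760713, -46624,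 61244, -59627, 561, -404, -6])))) (.node (.node (.node (.leaf [0, 0, 1]) (.leaf [-220113, 49364, -595695, -279965, 354181, 9207, 43362, 200618, -21061, -17578, 626, -337, 544, 5, 3])) (.node (.leaf [11549, 1096, 30819, 15313, -19938, -944, -1209, -10131, -771, 1868, -330, 118, -52, 15, -1]) (.leaf [-842542506, 101579693, -1977882099, -827843222, 1083675657, 11771002, 200425000, 561837198, -53995054, -14549310, 1768130, 2493176, 828800, 162962, -81774, 882, -23]))) (.node (.node (.leaf [-821, 75, -1897, -791, 1040, 16, 195, 532, -38, -22, 2, 1]) (.leaf [-54559916, 3018146, -129868695, -56565727, 74550436, 606209, 11207100, 38007815, -938209, -2478627, 190588, 181413, -2918, 1519, -5183, -27])) (.node (.leaf [-58, 7, -145, -64, 86, 0, 13, 42, -2, -3]) (.leaf [-53, 15, -145, -70, 87, 0, 9, 53, -6, -3]))))) (.node (.node (.node (.node (.leaf [-1, 0, 1, 0, -1, 0, 0, 1]) (.leaf [])) (.node (.leaf [-119, 21, -313, -144, 190, 0, 25, 98, -6, -9]) (.leaf [-42998794, 9084519, -115656666, -54236282, 68692991, 1830268, 8426824,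 38736824, -3899087, -3415155, 157952, -64448, 112105, 1294, -259, -53]))) (.node (.node (.leaf []) (.leaf [0, 0, 1])) (.node (.leaf [0, 0, 1]) (.leaf [0, 0, 1])))) (.node (.node (.node (.leaf [-90, 15, -242, -114, 148, 0, 16, 80, -4, -7]) (.leaf [1148, -91, 2632, 1105, -1444, -20, -266, -752, 42, 39, -4, -2])) (.node (.leaf [0, 0, 1]) (.leaf [3564630, -799175, 9908874, 4762114, -6007157, -168256, -641146, -3422154, 330098, 332999, -14672, 7010, -10539, 25, 48, 3]))) (.node (.node (.leaf [0, 0, 1]) (.leaf [42, -15, 126, 64, -78, 0, -5, -50, 6, 3])) (.node (.leaf [-2481, 137, -5946, -2600, 3432, 40, 516, 1739, -36, -136, 12, 4, -1]) (.leaf [-373115, 78597, -981508, -451789, 573678, 13989, 77954, 322073, -34261, -25812, 915, -434, 787, 22])))))) (.node (.node (.node (.node (.node (.leaf [-3, 0, -4, -1, 1, 0, 1, 1]) (.leaf [-15419227, 3420967, -41352646, -19222068, 24354933, 626064, 3100010, 13716004, -1565767, -1038415, 50660, -11044, 44707, 1682, -513, 5])) (.node (.leaf [58, -7, 146, 64, -86, 0, -13, -42, 2, 3])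 (.leaf [-64373, -208, -262580, -171197, 212120, 7463, -13537, 127172, 14302, -35724, 572, -500, -326, -112, 24, -1]))) (.node (.node (.leaf []) (.leaf [4097911139, -847473167, 10827772947, 4993922681, -6345134270, -154761848, -836422982, -3550794766, 382169096, 268465159, -12484414, 2170374, -10212311, -387579, 135734, 538, 49])) (.node (.leaf []) (.leaf [147, -6, 373, 163, -226, 2, -33, -101, -2, 11, -1])))) (.node (.node (.node (.leaf [0, 0, 1]) (.leaf [0, 0, 1])) (.node (.leaf [27473, -5915, 73510, 34284, -43485, -1078, -5531, -24482, 2508, 2118, -82, 44, -65]) (.leaf [-693481571, 109838739, -1727563232, -763070846, 983371059, 17954203, 152896377, 531072265, -51325855, -31155998, 1809316, 694440, 1078295, 79342, -35574, 131, -25]))) (.node (.node (.leaf []) (.leaf [-29184, 6314, -78533, -36720, 46663, 1060, 5789, 26186, -2642, -2228, 80, -44, 66, -1])) (.node (.leaf [201457713, -55772506, 583754590, 285693099, -357557766, -10798386, -34657330, -207651018, 24314205, 19414884, -746758, 407912, -796134, -17216,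 828, -227, -5]) (.leaf [-3624, 333, -8189, -3325, 4424, -18, 881, 2233, -146, -32, 2, 4, -3]))))) (.node (.node (.node (.node (.leaf []) (.leaf [0, 0, 1])) (.node (.leaf [1, 0, 3, 1, -1, 0, 0, -1]) (.leaf [-1650650, 377659, -4477811, -2102812, 2654633, 71795, 321640, 1508399, -171513, -119489, 4969, -816, 4894, 201, -70, 1]))) (.node (.node (.leaf [90, -15, 243, 114, -148, 0, -16, -80, 4, 7]) (.leaf [0, 0, 1])) (.node (.leaf [-443827, 93425, -1218923, -584096, 737458, 21335, 81580, 419132, -36602, -44225, 1842, -1056, 1082, -20, 8, -1]) (.leaf [-10055968, 5219340, -33262295, -17112462, 20688405, 948346, 1719749, 13048778, -2433967, -1269810, 26628, -82173, 80087, 1801, 522, 17])))) (.node (.node (.node (.leaf [3, 0, 4, 1, -1, 0, -1, -1]) (.leaf [0, 0, 1])) (.node (.leaf [23, -18, 102, 57, -69, 0, 1, -44, 8, 2, 0, 0, 0, -1]) (.leaf [-13504, 3643, -38344, -18626, 23028, 804, 2224, 13767, -1774, -1030, 78, -38, 59, -1, -4]))) (.node (.node (.leaf []) (.leaf [-3, -1, -1, 1, 0, 0, 2, -3, 0, 0, 0, 0, 1])) (.node (.leaf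 [-112811, 15820, -265880, -111830, 146545, 1150, 28027, 76498, -6574, -3886, -26, 47, -1, -2, 11]) (.leaf [-441753, 103250, -1215682, -578366, 730280, 18961, 83865, 416130, -42706, -38558, 1238, -941, 1153, 4, 6])))))))

def twoL107 : Janko.Tree (List ℤ) :=
  (.node (.node (.node (.node (.node (.node (.leaf []) (.leaf [-84969, 11682, -204550, -88047, 115077, 1328, 20328, 60304, -4490, -4219, 100, -19, 17, -4, 5])) (.node (.leaf [-95017, 24225, -266195, -127860, 160703, 4553, 17739, 92510, -10268, -8678, 274, -203, 292, 4, 1]) (.leaf []))) (.node (.node (.leaf [47862691, -15765409, 135796861, 64645130, -80346722, -2706779, -9896342, -47481932, 7422914, 3714443, -95504, 156490, -207636, -8089, -1190, -42, 3]) (.leaf [1271, -140, 2967, 1250, -1635, -18, -303, -853, 61, 44, -3, -1])) (.node (.leaf [-1237537430, 316244578, -3442819750, -1641531993, 2063000104, 59964132, 236383157, 1186363803, -139704066, -103933427, 4000150, -2486510, 4119789, 91739, -7140, 79, -19]) (.leaf [-16347686, 9924296, -57065071, -30010582,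 35914698, 1806669, 2656202, 23195803, -4627544, -2369757, 40116, -172090, 154712, 3078, 1546, 25])))) (.node (.node (.node (.leaf [-11622343, 637479, -26292159, -10822047, 14400092, 75634, 2709453, 7145996, -316244, -230301, 29398, 47998, -2884, 1488, -1120, 9, -1]) (.leaf [0, 0, -1, 0, 1])) (.node (.leaf [53212, -12150, 151716, 74138, -93662, -2555, -9024, -53248, 4608, 5838, -329, 246, -181, 12, -1]) (.leaf [82385166, -22119100, 247517250, 125735009, -156469783, -5477295, -11976043, -92096427, 8314308, 11449101, -442312, 358892, -313527, 11038, -548, 140, 1]))) (.node (.node (.leaf []) (.leaf [-9236458, 385149, -20095164, -7950831, 10651770, 64120, 2304261, 5170573, -239915, -94739, 30602, 34019, -2234, 1031, -849, -9])) (.node (.leaf []) (.leaf [114375912, -8310312, 255897026, 103277182, -137276154, -884673, -28187238, -68283183, 4610152, 1322589, -292868, -382746, -15416, -17494, 9336, 61, 3]))))) (.node (.node (.node (.node (.leaf []) (.leaf [243165, -55004, 653075, 302165, -383466, -9661, -49599, -214813,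 26178, 14970, -1138, 235, -853, -32, -1])) (.node (.leaf []) (.leaf [22777, 1990, 49305, 20998, -28206, -562, -4860, -13509, -1699, 2258, -206, 34, 58, 12, -1]))) (.node (.node (.leaf []) (.leaf [3389684, 3200368, -3026863, -5105190, 4973003, 733383, -1994562, 4880386, -1354136, -1152412, 16868, -89724, 71070, -285, 770, 32, 3])) (.node (.leaf []) (.leaf [7521694, -95905, 18134483, 8118872, -10731024, -92451, -1375962, -5421362, -91603, 492495, -37240, -26150, 4425, 495, 706, 11])))) (.node (.node (.node (.leaf []) (.leaf [-46621816, 13492827, -137407431, -68107793, 84927427, 2705582, 7694733, 49793646, -5716014, -5032884, 178396, -140220, 191435, 1951, -642, -1, 1])) (.node (.leaf [-239, 94, -956, -533, 693, 16, 17, 368, -20, -70, 4, -5, 1]) (.leaf [115972, -35800, 327381, 155430, -193175, -7063, -22916, -113633, 17978, 7638, -312, 213, -534, -43]))) (.node (.node (.leaf [-26331029, 19867205, -105741833, -59334446, 70211480, 3900670, 2627732, 46544716, -8784824, -5907235, 103730, -413814, 317862, 754, 5620,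 71, 3]) (.leaf [-2786972, 624850, -7582408, -3572198, 4513478, 124244, 537311, 2558492, -278285, -214658, 10398, -3481, 8497, 188, -98, -1])) (.node (.leaf [-2695, 153, -6285, -2669, 3522, 34, 571, 1792, -71, -72, 10, 3]) (.leaf [-4220176, 1380655, -5037031, 513916, -317901, -244889, 2450420, -595840, -1163018, 1255805, -67840, 33460, 3835, 5256, -332, 56, -1])))))) (.node (.node (.node (.node (.node (.leaf []) (.leaf [333122, -59193, 881470, 414017, -526319, -13039, -64128, -294904, 21486, 30432, -937, 566, -397, 24, -17, 1])) (.node (.leaf [10557, -2340, 28376, 13223, -16840, -373, -2159, -9413, 950, 834, -28, 28, -21]) (.leaf [16499, -3971, 44052, 20250, -25744, -617, -3591, -14409, 1776, 1110, -48, 33, -46, -2, 1]))) (.node (.node (.leaf []) (.leaf [-1227392, 344045, -3405004, -1602949, 2008626, 62252, 247471, 1160785, -166650, -82397, 4290, -2124, 5184, 213, -58, 1])) (.node (.leaf []) (.leaf [32437, -4969, 82797, 37498, -48320, -923, -6717, -26144, 2008, 2088, -115, 29, -41, -2, 1])))) (.node (.node (.node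 (.leaf []) (.leaf [])) (.node (.leaf [-553626, 167942, -1251283, -451689, 582632, 4957, 176906, 312108, -118522, 57239, -1706, 4058, 2563, 569, -184, 7]) (.leaf [-152948956, 30004665, -381713102, -165841740, 213390248, 3332537, 35446824, 115845612, -15664996, -3331549, 176756, 331550, 332656, 40975, -12722, 520, -5]))) (.node (.node (.leaf [-232135, 62387, -640954, -302675, 379451, 11940, 46744, 219193, -28854, -17941, 736, -482, 821, 32, -3]) (.leaf [96, -14, 248, 116, -149, -1, -17, -82, 4, 7])) (.node (.leaf []) (.leaf [-323659, 34774, -1094474, -620172, 786142, 17009, 288, 446345, 16897, -87373, 2658, -1847, 125, -278, 25, -1]))))) (.node (.node (.node (.node (.leaf []) (.leaf [48233, -8633, 124158, 56865, -72312, -1621, -9817, -40493, 3644, 3182, -46, -41, -37, -10, -3])) (.node (.leaf []) (.leaf [89829, -11580, 230640, 106901, -136790, -3402, -17246, -75081, 3979, 7806, -391, 44, -75, 4, -7]))) (.node (.node (.leaf []) (.leaf [45138900, -9694314, 122294062, 57557804, -72918283, -1856933, -8665730, -41112405,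 4192880, 3504157, -151444, 41173, -120024, -2827, 949, -2])) (.node (.leaf [-460, 1241, -6371, -4600, 5432, 326, -606, 3600, -440, -697, 30, -38, 27, 1]) (.leaf [-2179, 193, -4752, -1887, 2482, 19, 567, 1278, -96, -33, 3, 4, -1])))) (.node (.node (.node (.leaf []) (.leaf [-145664, 16767, -371251, -173539, 222099, 5334, 27920, 122507, -3236, -15770, 381, -288, -73, -37, 14, -1])) (.node (.leaf []) (.leaf [7597689, -4814314, 36649401, 23403913, -27671426, -1799027, 923178, -18334216, 1163162, 4163734, -124166, 227417, -73849, 10450, -4766, 160, 1]))) (.node (.node (.leaf [-381, 15, -966, -478, 572, 64, 68, 345, -13, -76, 11, -1, 3]) (.leaf [])) (.node (.leaf []) (.leaf [16331164, -4280611, 45378534, 21571501, -27083960, -796734, -3165991, -15608606, 1930230, 1311546, -50649, 31543, -56849, -1637, 201, -2])))))))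

def twoL108 : Janko.Tree (List ℤ) :=
  (.node (.node (.node (.node (.node (.node (.leaf []) (.leaf [804636, -163109, 2342309, 1181184, -1482357, -49999, -116534, -853498, 51914, 116282, -5904, 3591, -2318, 192, -30, 3])) (.node (.leaf [1]) (.leaf [93110, -22441, 256544, 121856, -153566, -4315, -17870, -87753, 9691, 7845, -276, 175, -267, -4, -1]))) (.node (.node (.leaf [4574599, 2286806, 1835712, -2468677, 1813812, 603810, -2066478, 2862952, -835165, -1100007, 6482, -91964, 48201, -2042, 1235, 13, 1]) (.leaf [1254, -131, 2680, 1076, -1354, -69, -346, -761, 72, 65, -4, 0, -1])) (.node (.leaf [-30325, 6121, -80596, -37478, 47654, 1134, 6061, 26664, -2572, -2285, 99, -44, 65]) (.leaf [72009099, -12323628, 178488149, 78008429, -100531082, -1760296, -16428066, -54320026, 6016708, 2627567, -151050, -79696, -123077, -11027, 3787, -67, 3])))) (.node (.node (.node (.leaf [6213362, -1481852, 17056914, 8069840, -10166321, -292470, -1196096, -5803743, 667682, 487326, -23180, 9038, -20547, -513, 232, -1]) (.leaf [700356789,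 -144293939, 1865331984, 867725285, -1101116813, -27936758, -139563601, -618081714, 63177186, 50938220, -2317470, 634759, -1731436, -45974, 17241, 472, 9])) (.node (.leaf [1]) (.leaf [1]))) (.node (.node (.leaf []) (.leaf [27, -6, 74, 34, -46, 1, -6, -23, 2, 2])) (.node (.leaf [124943, -61768, 347990, 153811, -189698, -3602, -33701, -115706, 33401, -2579, 1083, -156, -690, -104, -8, -1]) (.leaf [-36972461, -2838211, -78671940, -31708963, 43655206, -382198, 7853283, 19717784, 1707126, -897466, 149972, 248156, -80596, -477, -6003, -31]))))) (.node (.node (.node (.node (.leaf []) (.leaf [-2620266, -291203, -5410405, -2162354, 3014656, -34461, 579318, 1324237, 215322, -133607, 10794, 8498, -10290, -716, 176, -19])) (.node (.leaf [-8565686, 2750543, -28296092, -15146664, 18689854, 704206, 819970, 11224448, -995546, -1534058, 58774, -46362, 44962, -1367, 312, -10, 1]) (.leaf [-60455152, 9916153, -160643952, -75430174, 96296225, 2178618, 11129344, 53244759, -3891030, -4897217, 239140, -1014, 113813, 487, -2758, -43])))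 (.node (.node (.leaf [10482070, -1796501, 28128840, 13324566, -16954499, -425510, -1907803, -9449739, 680996, 951171, -46866, 11748, -21007, 496, 34, 23]) (.leaf [1242, -62, 3005, 1328, -1748, 4, -222, -904, 18, 37, -4, -4, 1, -1])) (.node (.leaf []) (.leaf [-1142804, 87014, -5726955, -3926509, 4813168, 207482, -446913, 2942641, 247448, -808148, 28932, -20886, 2101, -2481, 295, -27])))) (.node (.node (.node (.leaf [-92, 15, -244, -114, 148, 0, 17, 80, -4, -7]) (.leaf [])) (.node (.leaf []) (.leaf [1]))) (.node (.node (.leaf [1343460, -218351, 3353578, 1457814, -1888327, -22172, -287427, -1004069, 127654, 8115, -3502, -6362, -3879, -505, 356, -5]) (.leaf [-114141, 14742, -265542, -110538, 145302, 1054, 28675, 75185, -6177, -3574, -14, 78, -18, -2, 11])) (.node (.leaf [158, 3, 372, 169, -222, -1, -27, -115, -7, 14, -1]) (.leaf [-12159679, 1370282, -31363548, -14556566, 18779334, 337802, 2220011, 10119585, -435228, -968933, 50597, 10212, 10936, -500, -615, -19])))))) (.node (.node (.node (.node (.node (.leaf [])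 (.leaf [1])) (.node (.leaf [36990, -13796, 115560, 58840, -72492, -2610, -5837, -43771, 5925, 4693, -118, 148, -196, -4, -1]) (.leaf [-12363487, 4670918, -38295840, -19358658, 23795878, 933137, 2043563, 14427722, -2067238, -1500736, 48610, -68482, 70248, 752, 328, -3]))) (.node (.node (.leaf []) (.leaf [-42971126, 12853571, -104612628, -43160914, 54391298, 1625570, 12403779, 31017119, -7193495, -88634, -31228, -40022, 139781, 16823, -456, 125, -11])) (.node (.leaf [45, -8, 116, 56, -70, 0, -7, -42, 2, 4]) (.leaf [-58437, 15149, -164826, -79617, 99866, 2971, 10789, 57732, -6385, -5662, 199, -141, 194, -3, 1])))) (.node (.node (.node (.leaf [125, -59, 320, 129, -170, -2, -54, -87, 25, 11]) (.leaf [-46093511, 7653458, -122604231, -57609696, 73498109, 1699800, 8501298, 40700609, -3004671, -3781546, 184408, -7807, 88173, 96, -1853, -39])) (.node (.leaf [-1125, -157, -3200, -1630, 2208, 10, 57, 1040, 138, -167, 24, -4, -2, 1]) (.leaf [6411413, -793434, 14920594, 6206107, -8118115, -99806, -1571938, -4220139, 404599,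 136129, -9968, -14498, -4044, -973, 447, -6, 1]))) (.node (.node (.leaf [21323, -2706, 48846, 20005, -26370, -87, -5453, -13601, 1159, 475, -1, -4, 8, 0, 1]) (.leaf [15158841, -4541171, 46154522, 23484801, -29164539, -983174, -2228678, -17284814, 1770422, 2042191, -60134, 61622, -60591, 908, -541, 7])) (.node (.leaf [52893208, -28713740, 194674890, 107532863, -129363544, -6584680, -5251160, -82449802, 11742860, 11649012, -360512, 684028, -462220, 8898, -10634, 147, -3]) (.leaf [64512, -16728, 181050, 87274, -109127, -3430, -11864, -63516, 7288, 5937, -192, 125, -215, -1, -3]))))) (.node (.node (.node (.node (.leaf []) (.leaf [150237252, -21765070, 375148341, 166480318, -215038871, -3609290, -32002486, -115406541, 10112926, 6743366, -436740, -259636, -224931, -19013, 11454, -84, 1])) (.node (.leaf []) (.leaf [-6, -42, 354, 292, -357, -14, 66, -220, 2, 53, -2, 2, -1]))) (.node (.node (.leaf [2, -3, 8, 2, -4, 1, -2, -1, 1]) (.leaf [-22233, 7093, -53445, -22264, 26691, 1494, 6122, 16818, -4668, 378, -30, 173, 91,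 26, -3])) (.node (.leaf [-828543, 700292, -3019484, -1538930, 1807585, 102390, 177508, 1213537, -375664, -48158, -624, -6964, 12163, 741, -98, 13]) (.leaf [15833464, -4138871, 44135297, 21042914, -26418646, -776774, -3033783, -15229058, 1850107, 1307294, -50260, 31670, -55048, -1411, 183, -1])))) (.node (.node (.node (.leaf []) (.leaf [750691, -145185, 2051902, 985489, -1245680, -35640, -134857, -705980, 53843, 78074, -3392, 1761, -1609, 77, -33, 2])) (.node (.leaf [1]) (.leaf [4371, -1459, 15242, 8285, -10349, -320, -314, -6050, 492, 838, -42, 32, -23, 1]))) (.node (.node (.leaf [1]) (.leaf [1])) (.node (.leaf [1]) (.leaf [12806159, -2571967, 32780215, 14662844, -18726931, -415349, -2829551, -10339600, 1249490, 587960, -31024, -4390, -30271, -2040, 744, -14, 1])))))))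

def twoL109 : Janko.Tree (List ℤ) :=
  (.node (.node (.node (.node (.node (.node (.leaf []) (.leaf [0, 1])) (.node (.leaf [-99468, 25282, -278273, -133421, 167816, 4730, 18658, 96427, -10763, -8929, 290, -222, 306, 4, 1]) (.leaf [0, 1]))) (.node (.node (.leaf [0, 1]) (.leaf [2616, -322, 6433, 2829, -3692, -37, -563, -1943, 124, 125, -6, 0, -2])) (.node (.leaf [0, 1]) (.leaf [0, 1])))) (.node (.node (.node (.leaf []) (.leaf [0, 1])) (.node (.leaf []) (.leaf [-15106160, -7941201, -9091142, 5492283, -2575101, -2117002, 5821050, -7559412, 3058634, 3417169, -39386, 388765, -161560, 7596, -6772, 113, -1]))) (.node (.node (.leaf [0, 1]) (.leaf [0, 1])) (.node (.leaf [0, 1]) (.leaf [11893673, -1249501, 29674222, 13314878, -17304272, -256302, -2366604, -9135602, 503579, 654246, -44948, -28093, -11209, -798, 848, -5]))))) (.node (.node (.node (.node (.leaf [0, 1]) (.leaf [-16092, 1342, -35336, -13911, 18928, -162, 4463, 8982, -350, -466, -30, 32, -27, -2, 5])) (.node (.leaf [0, 1]) (.leaf [2939, -299, 6661, 2732, -3598,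 -11, -722, -1858, 129, 60, -1, -4, 2]))) (.node (.node (.leaf []) (.leaf [-177799897, 16351880, -439630809, -196961547, 256264053, 3721711, 35281488, 134976695, -5954115, -10352950, 662478, 391235, 110168, 3895, -14959, -86, -1])) (.node (.leaf []) (.leaf [2488887, -415725, 2798910, -386147, 205965, 139672, -1329774, 528319, 546615, -784098, 18992, -34182, -4371, -3588, 854, -35])))) (.node (.node (.node (.leaf []) (.leaf [0, 1])) (.node (.leaf [-103126, 24490, -284639, -135640, 170951, 4670, 19486, 97733, -10365, -8970, 316, -193, 292, 4, 1]) (.leaf [-612, 62, -1025, -269, 338, 43, 236, 173, -75, 34, 4, 1, 2]))) (.node (.node (.leaf []) (.leaf [0, 1])) (.node (.leaf [0, 1]) (.leaf [152004990, -49253087, 442624886, 216168411, -268138814, -9638606, -28772800, -159164973, 21751270, 15656620, -516034, 724395, -665669, -5262, -9340, 158, 3])))))) (.node (.node (.node (.node (.node (.leaf [0, 1]) (.leaf [-4651, 582, -10875, -4555, 5965, 83, 1152, 3100, -257, -165, 10, -3, 1])) (.node (.leaf []) (.leaf [75362261, -8969274,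 190735011, 86660005, -112061344, -1852106, -14748628, -60014749, 3419564, 4807568, -269162, -109719, -76545, -1530, 4480, 31]))) (.node (.node (.leaf [0, 1]) (.leaf [-40220301, -2241690, -75712981, -25117503, 36200196, -1126650, 11051553, 14289266, 341715, 1973351, 30895, 377452, -86618, 11783, -9322, 130, -3])) (.node (.leaf [21266, -4650, 55809, 25612, -32548, -686, -4538, -18299, 1973, 1449, -30, 22, -40, 0, -1]) (.leaf [-17407839, 2639779, -47215346, -22716030, 28944431, 701702, 2919193, 16084165, -849873, -1805380, 83028, -15038, 28385, -1871, -342, -35])))) (.node (.node (.node (.leaf []) (.leaf [14142, -3624, 39265, 18741, -23535, -684, -2732, -13573, 1553, 1262, -40, 33, -45])) (.node (.leaf [0, 1]) (.leaf [0, 1]))) (.node (.node (.leaf [0, 1]) (.leaf [])) (.node (.leaf [55954442, -12508152, 153481228, 72849897, -92047019, -2492453, -10503606, -52205093, 5411637, 4615239, -203929, 64940, -162504, -3207, 1294, -15, 1]) (.leaf [0, 1]))))) (.node (.node (.node (.node (.leaf []) (.leaf [743, -60, 1708, 715,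 -938, -10, -174, -484, 27, 24, -3, -1])) (.node (.leaf [0, 1]) (.leaf [161244292, -37466075, 425716264, 195400142, -247096266, -6829646, -34872772, -139953542, 17036221, 10884480, -443034, 328221, -431224, -11067, -285, 208, 11]))) (.node (.node (.leaf [0, 1]) (.leaf [-9242, 233, -21785, -9569, 12586, 130, 1818, 6451, 27, -546, 52, 15, -6, 0, 1])) (.node (.leaf [-24438570, 4119049, -65874974, -31316550, 39874771, 984901, 4360633, 22185191, -1537885, -2257637, 115235, -24886, 49576, -1187, -384, -49]) (.leaf [415463, -97146, 1143662, 544329, -687135, -17945, -78764, -391763, 40167, 36405, -1167, 893, -1087, -4, -6])))) (.node (.node (.node (.leaf [0, 1]) (.leaf [59752455, -16246412, 170739565, 83047617, -103940392, -3172382, -10753650, -60432533, 6876664, 5919001, -190900, 168475, -206436, -1582, -1123, -3, 1])) (.node (.leaf []) (.leaf [-59975782, 13468753, -163471234, -77074727, 97556318, 2421459, 11475884, 55166077, -5890970, -4543827, 179374, -43583, 167154, 4635, -1618, 55]))) (.node (.node (.leaf []) (.leaf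 [])) (.node (.leaf [-11688583, 1932871, -29166450, -12861065, 16548688, 318259, 2590224, 8962648, -940985, -479147, 31636, 13528, 21510, 1730, -930, 9]) (.leaf [9425745, -1746550, 23477541, 10264640, -13185782, -258073, -2177016, -7176300, 872941, 332331, -19422, -8568, -18836, -1653, 619, -13, 1])))))))

def twoL110 : Janko.Tree (List ℤ) :=
  (.node (.node (.node (.node (.node (.node (.leaf []) (.leaf [19218, 3254, 80714, 54204, -66200, -4710, 5167, -39741, -5102, 12852, -979, 446, -113, 50, -7, 1])) (.node (.leaf [50562, -9539, 127201, 56564, -72414, -1412, -11487, -39915, 4196, 2739, -76, 24, -74, -4, -1]) (.leaf [-163654343, 44908695, -459047192, -219643971, 275065017, 8537918, 31746120, 159581122, -19827323, -14471178, 534688, -491731, 583976, 8656, 4723, -123, -1]))) (.node (.node (.leaf []) (.leaf [0, 0, 1])) (.node (.leaf [-268, -1, -698, -332, 439, -4, 29, 226, 10, -16, 1]) (.leaf [-1464390, 288407, -3840796, -1769196, 2241535, 65738, 300798, 1258027, -133401, -101716, 6608, -1380, 3981, 89, -31, -2]))))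 (.node (.node (.node (.leaf []) (.leaf [68109886, -29384870, 235374506, 127258468, -155014219, -6747149, -7106880, -96037918, 11681524, 12910543, -408092, 577312, -466074, 8518, -7004, 77, -7])) (.node (.leaf []) (.leaf [17760968, -1598185, 34031091, 10883680, -15008985, 90441, -5834565, -6734003, 1324042, -1014147, 3078, -68992, 2296, -6101, 1674, -12, 3]))) (.node (.node (.leaf [51, 32, 76, 30, -40, -1, -1, -19, -15, 1, -1]) (.leaf [691, -51, 1610, 685, -896, -11, -150, -468, 21, 23, -1])) (.node (.leaf []) (.leaf [2265266, -510911, 5999479, 2748445, -3487951, -83950, -473403, -1956851, 245833, 121927, -6124, 53, -6856, -379, 134, -3]))))) (.node (.node (.node (.node (.leaf [1299, -238, 3077, 1280, -1654, -48, -355, -881, 120, 51, -4, 2, -1]) (.leaf [-3520585, 115891, -9062289, -4333734, 5635756, 90837, 550745, 2982395, 94253, -428067, 19224, -1376, -3402, -1194, 280, -21])) (.node (.leaf [-14595, 3318, -40723, -19500, 24781, 577, 2693, 13904, -1312, -1353, 61, -38, 34, -1, 1]) (.leaf [79473, -20034, 276142,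 154524, -190533, -8688, -2791, -113889, 5344, 19464, -1296, 830, -508, 39, 4, 1]))) (.node (.node (.leaf []) (.leaf [0, 0, 1])) (.node (.leaf []) (.leaf [0, 0, 1])))) (.node (.node (.node (.leaf [0, 0, 1]) (.leaf [-21379, 5501, -61175, -29700, 37494, 941, 3777, 21390, -2247, -2047, 73, -57, 67, -1])) (.node (.leaf []) (.leaf [-4101, 1061, -11487, -5521, 6933, 197, 779, 4002, -441, -395, 16, -13, 13]))) (.node (.node (.leaf [630354, -229414, 1759260, 816732, -1015971, -28840, -144596, -602725, 110520, 34788, 272, 2318, -2653, -98, -50, -1]) (.leaf [-3179, 308, -7288, -2964, 3973, 3, 797, 1948, -140, -47, 6, 3, -1])) (.node (.leaf [7, 15, 10, 1, -8, 1, -1, 6, -7, 1, -1]) (.leaf [-329280, 80151, -921549, -441779, 556581, 15766, 60637, 317772, -35048, -28753, 1495, -622, 1171, 19, 7])))))) (.node (.node (.node (.node (.node (.leaf []) (.leaf [-4060, -3057, -2464, 975, -56, -366, 1253, -1725, 1479, 326, 42, 58, -64, -2, 1])) (.node (.leaf [0, 0, 1]) (.leaf [0, 0, 1]))) (.node (.node (.leaf []) (.leaf [-16775975, 5151133,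 -47071419, -22255396, 27687364, 916780, 3338942, 16271828, -2599777, -1000412, 33158, -2752, 76206, 5624, -2518, 72, -1])) (.node (.leaf [0, 0, 1]) (.leaf [-141603396, 27933868, -369709284, -169127512, 215363970, 5169172, 29486537, 119809503, -12658106, -8878242, 454914, -71566, 333173, 12169, -4187, -80, -1])))) (.node (.node (.node (.leaf []) (.leaf [-60, 7, -141, -62, 81, 0, 13, 43, -2, -3])) (.node (.leaf [4572221, -1023978, 11974491, 5439381, -6900905, -175030, -986510, -3870841, 499620, 236688, -12886, 946, -13365, -800, 164, -3]) (.leaf [193315622, -46614776, 536269936, 255955319, -322332892, -9097481, -36177044, -184389044, 20285580, 16467874, -683884, 324921, -615145, -10934, 3154, -14, -1]))) (.node (.node (.leaf [75186, -19459, 211761, 102236, -127862, -3866, -13484, -74426, 8579, 6644, -238, 130, -258, -4, -1]) (.leaf [0, 0, 1])) (.node (.leaf [0, 0, 1]) (.leaf [-298, 64, -713, -297, 387, 12, 91, 202, -27, -21, -1]))))) (.node (.node (.node (.node (.leaf [0, 0, 1]) (.leaf [-662847898, 136580931, -1764122254,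 -820024666, 1040684782, 26326396, 132356609, 584021612, -59970682, -47768801, 2172616, -572616, 1637925, 45876, -17334, -410, -9])) (.node (.leaf [96, 13, 273, 141, -187, 4, 2, -96, -12, 8, -1]) (.leaf [6, -45, 379, 300, -366, -14, 62, -227, 4, 52, -2, 2, -1]))) (.node (.node (.leaf [-519, 56, -1236, -531, 698, 7, 119, 360, -21, -23, 1]) (.leaf [-9448, 944, -22371, -9408, 12559, -140, 2085, 6316, -372, -84, 4, 6, 2, 0, 1])) (.node (.leaf []) (.leaf [413647, -97262, 1140373, 543187, -685650, -17849, -78254, -391022, 40178, 36364, -1150, 895, -1087, -4, -6])))) (.node (.node (.node (.leaf []) (.leaf [0, 0, 1])) (.node (.leaf [3, 0, 5, 1, -1, 0, -1, -1]) (.leaf [0, 0, 1]))) (.node (.node (.leaf [5508, -1772, 17652, 9151, -11387, -432, -717, -6680, 724, 816, -48, 32, -28, 1]) (.leaf [-3, 0, -3, -1, 1, 0, 1, 1])) (.node (.leaf [2926276, -551549, 7667330, 3539164, -4499734, -118008, -595885, -2510453, 238232, 216138, -11304, 3016, -6402, -68, -36, 5]) (.leaf [879420885, -231921779, 2485817630, 1199818713, -1503854702,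 -45923153, -161950956, -870414005, 100234600, 82157266, -3117434, 2267056, -3070338, -40083, -5380, 311, 9])))))))

def twoL111 : Janko.Tree (List ℤ) :=
  (.node (.node (.node (.node (.node (.node (.leaf []) (.leaf [363, -82, 1261, 683, -884, -12, -22, -476, 12, 74, -4, 3, -1])) (.node (.leaf []) (.leaf [-31002736, 35287738, -171811220, -108248795, 125865785, 8280015, -3024592, 86718668, -13948383, -15000450, 355834, -1011619, 607678, -17457, 16745, -143, 9]))) (.node (.node (.leaf [2572, 706, 4650, 1770, -2434, -98, -537, -1025, -335, 173, -38, -21, 9, 0, -1]) (.leaf [1292, -3747, 11021, 7110, -7907, -566, 179, -6028, 1756, 713, 15, 63, -71, -2, 1])) (.node (.leaf []) (.leaf [-14933916, 4509016, -45614079, -23252816, 28862003, 979863, 2174828, 17125228, -1757424, -2032210, 59946, -61637, 60525, -906, 522, -7])))) (.node (.node (.node (.leaf [-5, 0, -10, -3, 5, 0, 2, 1]) (.leaf [8245311, -1144579, 21773181, 10273388, -13153086, -290277, -1481147, -7226329, 369894, 767099, -36396, 5662, -10420, 794, -83, 23]))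 (.node (.leaf []) (.leaf [541843, -883, 1355344, 635434, -835134, -12457, -90302, -428997, -22123, 63446, -3856, 673, 606, 189, -53, 5]))) (.node (.node (.leaf []) (.leaf [])) (.node (.leaf []) (.leaf [2282662, -514795, 6047177, 2771050, -3516573, -84709, -476713, -1973015, 247476, 123397, -6194, 90, -6900, -380, 133, -3]))))) (.node (.node (.node (.node (.leaf []) (.leaf [])) (.node (.leaf []) (.leaf [4145, -409, 9155, 3662, -4830, -17, -1068, -2482, 187, 60, 0, -6, 3]))) (.node (.node (.leaf []) (.leaf [12578, -2640, 33559, 15520, -19891, -289, -2535, -10982, 1080, 818, -24, 10, -21, 1])) (.node (.leaf [3365, -163, 7537, 3081, -4094, -40, -794, -2036, 83, 76, -14, -6, 1]) (.leaf [-105236266, 17381139, -276497655, -128417800, 164191117, 3555921, 20148670, 90466915, -7083147, -7754547, 383830, 15618, 193914, 2698, -4492, -45])))) (.node (.node (.node (.leaf []) (.leaf [-2177, 129, -4965, -2054, 2738, 13, 508, 1358, -53, -57, 8, 3, -1])) (.node (.leaf [-54, 7, -140, -62, 83, 0, 11, 42, -2, -3]) (.leaf [-1021518,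 236839, -2883142, -1421814, 1776764, 68926, 185938, 1034931, -77678, -149598, 5750, -7502, 2164, -328, 268, -7]))) (.node (.node (.leaf [-1, 0, -2, -1, 1, 0, 0, 1]) (.leaf [-133780402, 27297407, -353816600, -163585325, 207803770, 5219219, 27184655, 116314683, -12107268, -9287078, 446782, -115999, 328931, 9066, -2706, -95, -1])) (.node (.leaf [-1135, -10, -2138, -629, 1007, -97, 351, 303, -1, 118, -7, 5, -5]) (.leaf [459591353, -98518799, 1240156266, 583557614, -737926701, -20520359, -89848466, -417721131, 41764325, 38445736, -1733221, 867221, -1201406, -5898, -1300, 773, 5])))))) (.node (.node (.node (.node (.node (.leaf []) (.leaf [-7242, 926, -18510, -8478, 10927, 214, 1400, 5909, -332, -522, 29, -10, 8])) (.node (.leaf []) (.leaf [159010, -32196, 410732, 183767, -234301, -6141, -34851, -128905, 17451, 6313, -1066, -67, -628, -37, 8]))) (.node (.node (.leaf []) (.leaf [])) (.node (.leaf [94397108, -23336974, 258629920, 121485595, -153305880, -3980866, -18498341, -87261281, 10870839, 6322281, -261468, 41073,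 -311937, -15207, 3399, -189, -1]) (.leaf [10891, -2068, 28243, 12896, -16424, -427, -2300, -9126, 914, 741, -39, 14, -23])))) (.node (.node (.node (.leaf [-59, 10, -151, -67, 90, -1, 13, 45, -3, -3]) (.leaf [])) (.node (.leaf []) (.leaf [-39140, 8417, -106085, -50152, 63499, 1501, 7404, 36011, -3368, -3263, 75, -79, 87, -2, 1]))) (.node (.node (.leaf []) (.leaf [-56027120, 12532286, -153704654, -72963263, 92187249, 2497246, 10514510, 52288954, -5421890, -4624072, 204218, -65202, 162864, 3210, -1295, 15, -1])) (.node (.leaf []) (.leaf [-187161, 56617, -518396, -242842, 303797, 8859, 39377, 176966, -26950, -12090, 342, -451, 742, 35, -5]))))) (.node (.node (.node (.node (.leaf []) (.leaf [-55, 6, -139, -62, 82, 1, 11, 42, -2, -3])) (.node (.leaf [-137, 29, -314, -122, 165, 5, 47, 78, -13, -7, -1]) (.leaf [11309, 41935, 56787, 56966, -79912, 1621, 19963, -35586, -34334, 25486, -662, 46, 929, 147, -36, 1]))) (.node (.node (.leaf []) (.leaf [13075, -6566, 50845, 28860, -35534, -1159, -543, -21709, 2072, 3317, -5,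 173, -77, 8, 2])) (.node (.leaf []) (.leaf [59764, -17613, 182901, 93792, -116003, -4419, -8473, -69221, 6850, 8723, -351, 290, -271, 6, 1])))) (.node (.node (.node (.leaf [64264, -17405, 180095, 86067, -107900, -3432, -12590, -62280, 7806, 5684, -232, 116, -230, -8, 1]) (.leaf [146741167, -34486518, 398955601, 187183298, -236437341, -6280107, -28931410, -134247575, 15616991, 10592181, -454596, 144693, -447236, -15494, 3795, -87, 1])) (.node (.leaf []) (.leaf [74124083, -7609688, 204841982, 100724890, -129096349, -2556130, -9830144, -70581351, 1793546, 7901339, -444102, -167632, -118196, 4354, 9540, -20, -9]))) (.node (.node (.leaf [32987569, -12655586, 99828013, 49096077, -60656770, -2031986, -5971806, -36355771, 6103298, 2667883, -69494, 71560, -191611, -9010, 384, -195, -1]) (.leaf [])) (.node (.leaf [-1224360, 48626, -317679, 1101579, -1158988, -143853, 824898, -996926, -281314, 630912, -17138, 31724, -246, 2749, -1008, 33]) (.leaf [15000170, -3283366, 40019086, 18532240, -23498725, -603054, -3051682, -13207578,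 1506352, 991455, -50276, 12272, -42698, -1568, 484, -1])))))))

def twoL112 : Janko.Tree (List ℤ) :=
  (.node (.node (.node (.node (.node (.node (.leaf []) (.leaf [9345864, -2149254, 25361941, 11905905, -15035683, -414368, -1840163, -8535404, 967167, 700198, -33916, 12518, -28669, -708, 277, 1])) (.node (.leaf [-64, 9, -155, -67, 88, 0, 15, 46, -3, -3]) (.leaf [-795, 45, -2133, -1021, 1333, 25, 119, 692, -3, -81, 9, -1, 1]))) (.node (.node (.leaf [-347939715, 79911211, -938229883, -437606631, 553670826, 14196954, 69641437, 313191149, -36295042, -23949442, 1009370, -286756, 1007905, 37758, -10990, 211, -3]) (.leaf [204324836, -47223217, 554233673, 259957432, -328507730, -8751667, -40359914, -186329495, 21143106, 15109237, -653362, 240616, -601506, -17430, 3238, -44, 1])) (.node (.leaf [113, -19, 285, 130, -166, 0, -21, -94, 7, 5]) (.leaf [81664242, -32248926, 239988892, 116246389, -142973066, -5647628, -17352448, -86758447, 14775600, 7956178, -158912, 570993, -413243, -4916, -10914, 80, 5])))) (.node (.node (.node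 (.leaf [1]) (.leaf [-31469, 7526, -87173, -41574, 52494, 1374, 5951, 29895, -3140, -2771, 98, -68, 90, 0, 1])) (.node (.leaf []) (.leaf []))) (.node (.node (.leaf [163252587, -49627160, 488014523, 243387466, -302871081, -9546266, -25936672, -178473971, 21508574, 17283958, -574052, 368646, -731716, -13921, 7578, -297, -11]) (.leaf [63394, -15417, 176342, 84515, -106314, -3085, -11888, -61007, 6499, 5879, -228, 139, -194, 3, -1])) (.node (.leaf []) (.leaf [1]))))) (.node (.node (.node (.node (.leaf []) (.leaf [-7351, 1582, -19391, -8905, 11369, 207, 1546, 6334, -653, -494, 16, -17, 13])) (.node (.leaf [4471575, 585182, 3905199, -1038446, 531978, 322071, -2190077, 1394573, 13450, -919381, 29030, -50196, 27179, -2374, 200, -22, 3]) (.leaf [11613, -2168, 32174, 15472, -19743, -452, -2008, -10943, 796, 1136, -66, 24, -24, 1]))) (.node (.node (.leaf [1]) (.leaf [-892, 101, -1590, -477, 625, 22, 320, 319, -73, 30, -5, 1, 0, 1])) (.node (.leaf [1]) (.leaf [1])))) (.node (.node (.node (.leaf [3597, -832, 9796, 4611, -5852,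 -142, -720, -3295, 338, 307, -10, 10, -9]) (.leaf [1146, -91, 2630, 1105, -1444, -20, -265, -752, 42, 39, -4, -2])) (.node (.leaf [1]) (.leaf [-909419, -4807047, -10879871, -10293882, 13680189, 8667, -3784923, 6818346, 3642250, -2903014, 177974, 54897, -43636, -12701, -2560, -101, 9]))) (.node (.node (.leaf [1]) (.leaf [])) (.node (.leaf []) (.leaf [35967892, -9955401, 99466366, 46792395, -58831429, -1557255, -7263688, -33858717, 4613322, 2449405, -67793, 48605, -125942, -5204, 504, -84, 1])))))) (.node (.node (.node (.node (.node (.leaf []) (.leaf [-495073412, 128889999, -1348517850, -629843281, 792767659, 22418272, 102223227, 454237453, -59725389, -34355151, 1319647, -890243, 1643779, 61337, -2546, 176, -13])) (.node (.leaf [2397912, 170462, 4113925, 1194095, -1784047, 59635, -757216, -627600, -54018, -100292, -1070, -14238, 8417, -221, 214, 1, 1]) (.leaf [6700, -2027, 18583, 8701, -10940, -285, -1464, -6291, 930, 491, -18, 13, -31, -2, 1]))) (.node (.node (.leaf []) (.leaf [1])) (.node (.leaf [4440015, -1233791,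 12576442, 6079163, -7596930, -247980, -844223, -4431909, 522257, 448414, -15058, 17345, -15118, 109, -309, 5]) (.leaf [1])))) (.node (.node (.node (.leaf [1041, -121, 2309, 910, -1191, -27, -279, -613, 76, 5, -4, 0, -1]) (.leaf [-195279392, 16838534, -463728582, -198836496, 261368494, 2216586, 42600475, 134143660, -7750837, -6048896, 529844, 693530, 92118, 23586, -21804, 196, -3])) (.node (.leaf [8283, -1462, 20587, 9040, -11563, -358, -1982, -6280, 754, 445, -42, -15, -21, -2, 1]) (.leaf [-619628552, 130289714, -1638560887, -754792141, 958945496, 23301683, 126939513, 536642673, -59670870, -39068188, 1875762, -245446, 1606322, 70664, -24274, 134, -9]))) (.node (.node (.leaf []) (.leaf [-34028, 8756, -87596, -39062, 49298, 1366, 8201, 28069, -4230, -1714, 12, -30, 90, 9, -1])) (.node (.leaf [1]) (.leaf [-25264483, 5294883, -65695659, -29839227, 37951239, 927434, 5445162, 21181047, -2462664, -1462561, 67352, -14446, 61023, 2829, -632, 2, -1]))))) (.node (.node (.node (.node (.leaf [2986759, -1154056, 10871727,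 6077931, -7452742, -269438, -106088, -4553122, 417624, 619106, -20400, 14882, -20647, 277, 414, -4, -1]) (.leaf [-942255100, 34271951, -2067598218, -826192988, 1109818611, 617493, 226768779, 537147240, -19869603, -7756302, 2186052, 4481314, -470379, 136474, -129231, 215, -41])) (.node (.leaf []) (.leaf [84, -23, 562, 378, -485, -12, 50, -264, -8, 56, -4, 2, -1]))) (.node (.node (.leaf []) (.leaf [74697646, -17284316, 203630926, 95881435, -121204790, -3115533, -14498323, -68741273, 7648600, 5614604, -223022, 73747, -216707, -6194, 1676, -51])) (.node (.leaf [18870, -6135, 52424, 24595, -30667, -908, -4166, -18018, 2851, 1372, -12, 28, -65, -9, 1]) (.leaf [127839072, -23366693, 340519241, 159403744, -202966917, -4804140, -24304183, -112980406, 9656049, 9968778, -475580, 54076, -275686, -3056, 4290, 71])))) (.node (.node (.node (.leaf []) (.leaf [893500, -158074, 2405841, 1146827, -1454129, -40312, -163761, -817781, 56366, 91492, -4033, 1957, -1600, 114, -45, 3])) (.node (.leaf [19089, -4674, 52668, 25035, -31506,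 -1080, -3851, -17967, 2015, 1869, -100, 57, -65, -2, 3]) (.leaf [1]))) (.node (.node (.leaf []) (.leaf [1])) (.node (.leaf [-6567839, 504551, -14477430, -5728626, 7633555, 33238, 1670734, 3774716, -300838, -8854, 10866, 26076, 282, 1280, -716, 7]) (.leaf [1])))))))

def twoL113 : Janko.Tree (List ℤ) :=
  (.node (.node (.node (.node (.node (.node (.leaf [0, 1]) (.leaf [-1886902, 653236, -5583387, -2739723, 3384934, 128975, 349876, 2023790, -303703, -184033, 7244, -7567, 9918, 282, -22, 1])) (.node (.leaf [0, 1]) (.leaf [-245645, 52561, -641320, -292982, 372578, 7893, 52255, 208889, -23086, -15049, 145, 23, 410, 34, 11]))) (.node (.node (.leaf []) (.leaf [202621414, -46926813, 549133558, 257323832, -325187452, -8656268, -40168979, -184435474, 21071348, 14841271, -640604, 235467, -597034, -17923, 3234, -47, 1])) (.node (.leaf []) (.leaf [731353, 140081, 1133638, 289885, -476035, 27549, -229705, -116804, -69402, -21148, -1773, -4223, 4231, 130, 40, 3])))) (.node (.node (.node (.leaf []) (.leaf [0, 1])) (.node (.leaf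 [0, 1]) (.leaf [12583105, -14982346, 75379458, 48616150, -56674626, -3419488, 2447320, -38892449, 5762460, 6663411, -124050, 365939, -261733, 6634, -4246, -45, -5]))) (.node (.node (.leaf [-178371, 46509, -493122, -234156, 293282, 9064, 34889, 169859, -21155, -14478, 594, -294, 617, 20, -1]) (.leaf [-9141, 2500, -22524, -9490, 12107, 219, 2533, 6737, -1279, -172, -10, 5, 25, 2, -1])) (.node (.leaf []) (.leaf [-85, 39, -231, -103, 130, 5, 31, 74, -15, -12, -1]))))) (.node (.node (.node (.node (.leaf []) (.leaf [-7447, 1591, -19636, -9019, 11517, 208, 1562, 6413, -654, -501, 16, -17, 13])) (.node (.leaf []) (.leaf [38024237, -10076640, 107016979, 51393930, -64459776, -1896873, -7084945, -37261188, 4449651, 3292000, -122265, 80206, -135191, -3104, 758, 5, -1]))) (.node (.node (.leaf [888, -79, 2066, 868, -1149, -10, -211, -580, 32, 32, -2, -1]) (.leaf [-80697846, 18438123, -219764596, -103488616, 130857157, 3369833, 15630826, 74156491, -8123190, -6123073, 247362, -80206, 230667, 6244, -1764, 46])) (.node (.leaf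 [0, 0, 0, 0, -1, 1]) (.leaf [-9800085, 1613714, -24453590, -10743415, 13822160, 274694, 2159120, 7466927, -848257, -320577, 34968, 18962, 22940, 2063, -1064, 11])))) (.node (.node (.node (.leaf []) (.leaf [23111737, -6285347, 68190713, 34010691, -42451870, -1372432, -3659903, -24813028, 2555946, 2702083, -104552, 71478, -89574, 334, -244, 15, -1])) (.node (.leaf [-184374, 31896, -453294, -197464, 254714, 4334, 43567, 137751, -14205, -8413, 190, 9, 169, 10, 13]) (.leaf [0, 1]))) (.node (.node (.leaf [-1359, 126, -3120, -1301, 1703, 19, 321, 886, -58, -38, 4, 1]) (.leaf [-102945047, 25253875, -284956865, -134970162, 170432857, 4236127, 19400191, 96912703, -11546754, -7265094, 285154, -16462, 337703, 15996, -3372, 255, 3])) (.node (.leaf [11919, -741, 24229, 8723, -11811, -2, -3392, -5611, 541, -295, 16, -43, 13, 0, -1]) (.leaf [0, 1])))))) (.node (.node (.node (.node (.node (.leaf []) (.leaf [])) (.node (.leaf [786004, -156580, 59019, -887540, 962597, 123695, -611348, 762871, 256843, -481188, 22173, -23326, 1611,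 -2131, 558, -35, 1]) (.leaf [1254, -60, 2893, 1228, -1621, -16, -274, -824, 18, 52, -6]))) (.node (.node (.leaf []) (.leaf [244403661, -86999999, 759498548, 385565076, -476131156, -16977329, -37477287, -285692750, 37946564, 29310413, -950026, 998636, -1320818, -18889, -1118, -368, -11])) (.node (.leaf []) (.leaf [496454, -101041, 1323724, 619563, -785427, -19483, -97745, -442839, 41406, 40115, -1133, 414, -925, -22, -20, 1])))) (.node (.node (.node (.leaf []) (.leaf [0, 1])) (.node (.leaf [-1525, 240, -5048, -2790, 3553, 25, 29, 2031, 47, -335, 8, -17, -3, 0, -1]) (.leaf [18596832, -14511538, 71029019, 38599409, -45401626, -2753795, -2958165, -30487958, 6698258, 3563364, -59372, 330313, -225603, -1962, -5428, 30]))) (.node (.node (.leaf [49439560, -10612126, 133568891, 62815244, -79489717, -2151729, -9616828, -44915344, 4560384, 3991319, -185462, 77627, -133322, -1546, 352, 57]) (.leaf [-45927, 12202, -124249, -57774, 72660, 2126, 9874, 41713, -5571, -3337, 88, -82, 142, 9, -1])) (.node (.leaf [213149, -52732,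 592694, 280474, -354621, -9492, -40796, -200512, 24527, 15511, -1120, 372, -867, -25, 11]) (.leaf [1512880, -1033675, 6793461, 4077951, -4846377, -278228, 56684, -3165115, 407709, 509076, -22374, 26993, -21397, 507, -220, 9, -1]))))) (.node (.node (.node (.node (.leaf []) (.leaf [0, 1])) (.node (.leaf [0, 1]) (.leaf [0, 1]))) (.node (.node (.leaf []) (.leaf [74692202, -17283854, 203618110, 95875920, -121197601, -3115402, -14497091, -68737517, 7648414, 5614320, -222994, 73750, -216705, -6194, 1676, -51])) (.node (.leaf [0, 1]) (.leaf [-1708031, 449357, -4790007, -2295105, 2875630, 90728, 321473, 1663593, -202146, -146906, 6492, -4063, 6353, 136, -48, -1])))) (.node (.node (.node (.leaf [-5, 1, -8, -3, 4, -1, 1, 3]) (.leaf [-6249369, 1235568, -16662036, -7765457, 9882933, 213946, 1206861, 5517948, -531884, -431160, 13554, 2979, 12590, 833, -122, 3])) (.node (.leaf [0, 1]) (.leaf [-211, 37, -513, -218, 285, 5, 56, 149, -15, -12]))) (.node (.node (.leaf [0, 1]) (.leaf [158, -48, 387, 163, -208, -6, -49, -116, 22,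 9, 1])) (.node (.leaf [5709678, -1512727, 16234713, 7862481, -9849042, -304120, -1028673, -5704503, 662370, 531005, -22200, 13285, -21335, -340, 134, -1]) (.leaf [-3060776, -93557, -10826028, -6403227, 8163201, 156937, -301011, 4543044, 389720, -928433, 37036, 6156, -908, -2088, 76, -15, 1])))))))

def twoL114 : Janko.Tree (List ℤ) :=
  (.node (.node (.node (.node (.node (.node (.leaf []) (.leaf [0, 0, 1])) (.node (.leaf []) (.leaf [0, 0, 1]))) (.node (.node (.leaf [0, 0, 1]) (.leaf [178064462, -16391654, 440324982, 197287485, -256680104, -3731813, -35331392, -135207109, 5967236, 10378159, -663564, -390768, -110468, -3861, 14940, 87, 1])) (.node (.leaf [0, 0, 1]) (.leaf [0, 0, 1])))) (.node (.node (.node (.leaf [158384, -35046, 426590, 197110, -251044, -5904, -31894, -139335, 16971, 9013, -872, 170, -604, -20, 1]) (.leaf [15172866, -3954331, 42390450, 20263314, -25437892, -744561, -2879658, -14670674, 1747893, 1287616, -47100, 30616, -51786, -1184, 123, -1])) (.node (.leaf [-1284019, 240702, -3482900, -1659076,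 2107625, 51418, 233318, 1182015, -89478, -121096, 4592, -1864, 2441, -87, 18, -1]) (.leaf [2002464, -4370744, 15003115, 9743027, -10996535, -850404, 265660, -8111601, 1877766, 1316468, -15031, 128264, -73392, 1900, -1955, -16, -1]))) (.node (.node (.leaf []) (.leaf [])) (.node (.leaf []) (.leaf [-8, -1, -7, -1, 0, 0, 2, 2, 0, 1]))))) (.node (.node (.node (.node (.leaf [0, 0, 1]) (.leaf [-83225, 18719, -217958, -99675, 125819, 3538, 17956, 71432, -8866, -5191, 254, -36, 224, 12, 3])) (.node (.leaf [0, 0, 1]) (.leaf [0, 0, 1]))) (.node (.node (.leaf [-184, 267, -1244, -841, 962, 50, -52, 693, -94, -136, 6, -4, 3]) (.leaf [-15906802, 3926856, -43304611, -20306117, 25578086, 729130, 3203440, 14618426, -1791867, -1169983, 49821, -26267, 51233, 1588, -304, -3])) (.node (.leaf [71, -7, 174, 77, -102, 0, -14, -52, 2, 3]) (.leaf [50231, -21741, 171078, 91221, -110542, -5415, -5492, -68842, 10014, 7762, -384, 277, -429, -12, 5])))) (.node (.node (.node (.leaf [-450, 24, -1240, -594, 796, -12, 50, 398, 4, -22, 0, 1, -1])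 (.leaf [0, 0, 1])) (.node (.leaf [96266, -9014, 222317, 92813, -122918, -812, -23529, -62224, 3205, 3783, -140, -67, 60, 6, -7]) (.leaf [112802553, -18822028, 271539192, 115580828, -149347155, -2690436, -27558491, -80106471, 9459002, 3328928, -203380, -86708, -160081, -17222, 2900, -22, 11]))) (.node (.node (.leaf [107270, -25725, 296524, 141230, -178168, -4724, -20345, -101667, 10871, 9248, -328, 210, -304, -4, -1]) (.leaf [128758004, -14918138, 312104701, 135613338, -176714132, -2223776, -28131802, -92768132, 6948396, 4703534, -347508, -331324, -122936, -15568, 11130, -73, 1])) (.node (.leaf []) (.leaf [-211856622, 55202304, -591687837, -282953700, 354985876, 10844082, 40467312, 204917296, -24303429, -18592566, 741073, -529514, 727949, 12287, 1044, -113, -3])))))) (.node (.node (.node (.node (.node (.leaf [0, 0, 1]) (.leaf [0, 0, 1])) (.node (.leaf [18672863, 255143, 32235313, 8993054, -13295711, 416376, -6230371, -4825503, 370034, -1234708, -1172, -108344, 39577, -5029, 1276, 21, 3]) (.leaf [86226, -20827,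 230035, 106399, -133979, -3951, -18357, -76486, 9758, 5950, -268, 58, -266, -14, -1]))) (.node (.node (.leaf []) (.leaf [-396651686, 15234263, -909259637, -384021017, 509349162, 4228859, 87572228, 254902585, -4416774, -15592679, 1439314, 1167600, -188856, 8807, -30516, -822, -13])) (.node (.leaf []) (.leaf [222117140, -43055713, 583406638, 268032870, -341950308, -7289392, -44847708, -189559804, 19402894, 13419303, -611567, -88136, -503966, -24638, 11796, -206, 1])))) (.node (.node (.node (.leaf [0, 0, 1]) (.leaf [-182479070, 25672467, -461095619, -206727879, 267272273, 3950588, 37092347, 143189705, -11782913, -8280495, 524174, 463500, 287179, 25186, -19794, 325, 3])) (.node (.leaf [-42838, 6904, -103758, -44875, 57787, 1023, 10129, 31378, -3122, -1841, 64, -8, 44, 4, 1]) (.leaf [3369036, -796803, 9001131, 4149016, -5253206, -129803, -700280, -2966856, 376928, 195698, -7996, 1394, -10041, -570, 150, -3]))) (.node (.node (.leaf [-660969, 107935, -1697622, -775472, 988763, 29231, 138446, 545683, -46209, -51195,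 4184, -1725, 1596, -46, -32, -3]) (.leaf [-51683, 21864, -174152, -92405, 112104, 5424, 5885, 69641, -10078, -7770, 384, -274, 428, 12, -5])) (.node (.leaf [15172647, -3732945, 44530441, 22232654, -27869589, -829804, -2295448, -16129247, 1452264, 1779879, -70856, 36308, -53109, 380, 268, 12, -1]) (.leaf [746441175, -158316033, 2020152995, 952135900, -1205344866, -31830743, -143192787, -680701699, 67366162, 60689710, -2651390, 971036, -1938308, -29104, 11550, 655, 3]))))) (.node (.node (.node (.node (.leaf []) (.leaf [-32138, 7106, -85538, -39665, 50245, 1293, 6676, 28335, -3121, -2378, 104, -34, 84, 2, -1])) (.node (.leaf [68, -38, 175, 73, -88, -6, -26, -55, 19, 3, 1]) (.leaf [-2232, 124, -4699, -1794, 2402, 8, 597, 1177, -70, -7, 4, 4, -1]))) (.node (.node (.leaf []) (.leaf [-227598942, 24407449, -563349421, -251504313, 326440169, 5167330, 46479676, 173000756, -9693128, -12767863, 819170, 390364, 193211, 7415, -16400, -136, -3])) (.node (.leaf []) (.leaf [105541308, -18200316, 280050709, 130997057, -167115146,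 -3795669, -19872739, -92586992, 7378625, 8211588, -399018, 13698, -210747, -1877, 4240, 54])))) (.node (.node (.node (.leaf [0, 0, 1]) (.leaf [])) (.node (.leaf [-164, 76, -619, -330, 428, 10, 31, 225, -26, -43, 6, -2, 1]) (.leaf [402092, 72955090, -173551214, -128479584, 138479361, 13040529, -12498123, 112256846, -33819822, -16375246, -33062, -1638570, 1319723, 16287, 21024, 749, 15]))) (.node (.node (.leaf []) (.leaf [7714, -1868, 21226, 10087, -12690, -378, -1497, -7275, 806, 677, -26, 16, -23])) (.node (.leaf [0, 0, 1]) (.leaf [250723748, -22723463, 617704461, 275744951, -359285913, -4795988, -50114421, -188653855, 8280466, 13992705, -878703, -592920, -134546, -7168, 21759, 86, 1])))))))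

def twoL115 : Janko.Tree (List ℤ) :=
  (.node (.node (.node (.node (.node (.node (.leaf []) (.leaf [5607785, -15198324, 47188153, 30973823, -34335457, -3069808, 827853, -26215358, 6825734, 4125978, -39678, 419779, -255475, 620, -7029, 18, -1])) (.node (.leaf []) (.leaf []))) (.node (.node (.leaf []) (.leaf [6311, -671, 14873, 6301, -8288, -71, -1482, -4265, 279, 225, -14, -7, 2, 0, -1])) (.node (.leaf []) (.leaf [6113419, -409176, 13172506, 5102805, -6845783, -17136, -1616257, -3329271, 233766, 11832, -7404, -21309, 3378, -851, 500, -5, 1])))) (.node (.node (.node (.leaf []) (.leaf [])) (.node (.leaf [-497, 37, -1074, -417, 556, 8, 136, 272, -22, -7, 2, 1]) (.leaf [-22256, 5595, -63328, -30645, 38736, 952, 3965, 22031, -2282, -2089, 75, -56, 67, -1]))) (.node (.node (.leaf []) (.leaf [-8733, 2463, -21466, -9009, 11456, 235, 2461, 6418, -1279, -153, -10, 5, 26, 2, -1])) (.node (.leaf [-1974, 115, -4477, -1844, 2459, 12, 465, 1218, -49, -49, 7, 3, -1]) (.leaf []))))) (.node (.node (.node (.node (.leaf []) (.leaf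 [55, 127, 985, 863, -1045, -68, 250, -643, -121, 205, -18, 7, -2, 0, 1])) (.node (.leaf []) (.leaf [-35897202, 28342587, -146783039, -83005461, 97721037, 5909438, 3572857, 65429576, -12502496, -8792478, 193826, -661910, 459018, 310, 11336, -80, 3]))) (.node (.node (.leaf [499, 8, 1087, 441, -597, -16, -122, -276, -8, 28, -2]) (.leaf [2544497, -505239, 7052331, 3409253, -4313076, -116899, -439322, -2440290, 189525, 262473, -11953, 5437, -6371, 210, 6, 5])) (.node (.leaf [4012028, -1347296, 13866933, 7569554, -9341428, -301620, -225817, -5618958, 504362, 695982, -25172, 8910, -24780, -210, 760, -5, -1]) (.leaf [869192, -213871, 2407057, 1142352, -1438304, -42767, -166415, -821279, 97962, 68734, -3944, 1519, -3240, -79, 35])))) (.node (.node (.node (.leaf []) (.leaf [19550265, -2737945, 44742943, 17874253, -23533942, -163301, -5045379, -11993307, 1739265, -313173, -30820, -87735, -31308, -7272, 2187, -67, -1])) (.node (.leaf []) (.leaf [2167536, -463809, 5847976, 2755678, -3486836, -92494, -423718, -1973686, 190110,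 186812, -6362, 3461, -4754, -28, -88, 3]))) (.node (.node (.leaf []) (.leaf [-493014, 121556, -1417162, -697933, 876669, 25513, 83083, 505777, -45894, -57112, 1816, -1617, 1382, -34, 26, -1])) (.node (.leaf [1708, -115, 4068, 1765, -2330, -27, -373, -1181, 31, 96, -7, -1]) (.leaf [-6992866, -3485836, -14183782, -6328531, 9446638, -569911, 366777, 3396653, 2100715, -441567, 31027, 152650, -62793, -2324, -4356, 35, 1])))))) (.node (.node (.node (.node (.node (.leaf []) (.leaf [])) (.node (.leaf [1258645, -333059, 3409873, 1578640, -1985917, -57779, -265050, -1137076, 163451, 73398, -3982, 1625, -4844, -234, 48, -1]) (.leaf [16181, -3922, 43271, 19914, -25300, -611, -3510, -14183, 1757, 1091, -47, 33, -47, -2, 1]))) (.node (.node (.leaf [1, 1, 0, 0, 1, -1]) (.leaf [-24198601, -50413374, 70566165, 69973665, -70129189, -8928619, 14899618, -65610621, 23438634, 10878011, 98372, 1186400, -951705, -11191, -15226, -661, -13])) (.node (.leaf [-1, 0, -2, -1, 1, 0, 0, 1]) (.leaf [479068, -126795, 1279603, 586109, -739547,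 -18177, -104474, -422137, 60688, 25210, -311, 190, -1366, -111, -2, -1])))) (.node (.node (.node (.leaf []) (.leaf [-367598402, 26172583, -869646250, -373836122, 492322799, 4118928, 78937821, 251374553, -10978009, -13145086, 1119842, 1284522, 77617, 31685, -38434, 120, -3])) (.node (.leaf [-14, 4, -39, -19, 25, -1, 3, 13, -2, -1, 0, 1]) (.leaf [-185465426, 28779367, -474543608, -215449554, 276798881, 5403487, 37731198, 150646179, -12413830, -11136411, 603062, 146394, 302693, 11877, -10198, 11, -3]))) (.node (.node (.leaf []) (.leaf [-5883, 516, -13266, -5437, 7149, 78, 1451, 3672, -242, -153, 14, 8, -1])) (.node (.leaf [213648, -52766, 593949, 281033, -355378, -9477, -40887, -200881, 24526, 15530, -1120, 372, -866, -25, 11]) (.leaf [-220203, 34220, -587975, -280166, 356577, 9332, 39789, 198824, -10730, -23420, 1008, -502, 290, -38, 13, -1]))))) (.node (.node (.node (.node (.leaf []) (.leaf [249611, -54178, 654763, 300139, -381416, -8184, -52726, -214213, 23701, 15737, -162, 2, -434, -33, -11])) (.node (.leaf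 []) (.leaf [-9577466, 2014139, -27444273, -13580014, 17100824, 487811, 1464917, 9779114, -753398, -1085501, 44658, -12822, 27184, -247, -250, -9]))) (.node (.node (.leaf [-698, 72, -1636, -697, 910, 11, 162, 477, -31, -28, 2, 1]) (.leaf [-900703, 178821, -2364830, -1091797, 1386853, 36088, 186208, 776565, -76148, -67793, 2767, -1107, 1814, 20, 23, -1])) (.node (.leaf [-4705, 393, -10875, -4561, 6011, 53, 1100, 3073, -165, -155, 14, 6, -1]) (.leaf [3822792, -152388, 7767349, 2806680, -3845371, 29602, -1073625, -1767255, 118203, -79354, -92, -19812, 4719, -803, 415, -8, 1])))) (.node (.node (.node (.leaf []) (.leaf [-16903539, 2893262, -42950618, -19297871, 24757605, 486769, 3607682, 13536791, -1298271, -908147, 38972, 10633, 26557, 1840, -555, 2, -1])) (.node (.leaf []) (.leaf [-3178, 249, -7205, -2967, 3918, 35, 770, 1991, -113, -88, 11, 4, -1]))) (.node (.node (.leaf []) (.leaf [2315, -185, 5584, 2433, -3211, -25, -490, -1638, 59, 109, -8, -1, 1])) (.node (.leaf []) (.leaf [228769785, -8627004, 538102331, 232851479,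 -308268614, -1896891, -46806477, -155280629, 1974750, 9833172, -779844, -917808, 82264, -6952, 27114, 36, -1])))))))

def twoL116 : Janko.Tree (List ℤ) :=
  (.node (.node (.node (.node (.node (.node (.leaf []) (.leaf [-8, 33, -351, -274, 341, 13, -52, 199, 0, -51, 4, -2, 1])) (.node (.leaf []) (.leaf [2773459, -473546, 7717115, 3780075, -4786394, -137323, -446086, -2699394, 149543, 335260, -16972, 8283, -6052, 573, -29, 11]))) (.node (.node (.leaf []) (.leaf [627274, -151731, 1786015, 873484, -1098494, -31327, -108207, -631836, 58390, 68814, -2262, 1886, -1741, 32, -22, 1])) (.node (.leaf [-117735819, 14035148, -288865705, -126954955, 165053643, 2257574, 25086786, 87147299, -6348072, -4948258, 339552, 284372, 122916, 12621, -9580, 77, -1]) (.leaf [1])))) (.node (.node (.node (.leaf []) (.leaf [-189609, 42536, -505393, -234428, 296788, 7720, 39279, 167649, -18796, -13766, 494, -193, 496, 7, 2])) (.node (.leaf []) (.leaf [-74010652, 7263022, -162134314, -63296511, 84089119, 572592, 19826585, 41940278, -4215756,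 -28906, 113328, 194815, 16142, 13552, -3780, -57, -7]))) (.node (.node (.leaf [-143898, 34258, -393116, -185739, 234359, 6219, 28297, 133673, -14586, -11978, 407, -269, 399, 4, -1]) (.leaf [1])) (.node (.leaf [1]) (.leaf [3269887, 385088, 13435009, 8846011, -10946071, -590888, 791622, -6466271, -832500, 1951054, -97888, 57984, 728, 6532, -638, 101, 1]))))) (.node (.node (.node (.node (.leaf []) (.leaf [2134, -180, 4970, 2107, -2768, -28, -492, -1427, 69, 88, -8, -1])) (.node (.leaf [1]) (.leaf [-82603, 489, -195226, -87685, 114515, 3312, 16771, 59131, 2116, -9031, 764, -260, -21, -38, 6, -1]))) (.node (.node (.leaf [1165, -71, 2697, 1135, -1504, -20, -264, -753, 30, 41, -4, -1]) (.leaf [935, 495, 962, 0, -258, 117, -243, 204, -213, -171, 4, -17, 11])) (.node (.leaf []) (.leaf [-103001997, 18078604, -274433553, -128819211, 164081633, 3958032, 19298703, 91209433, -7300494, -8367808, 410982, -48083, 213113, 1245, -3325, -101])))) (.node (.node (.node (.leaf []) (.leaf [-16115888, 1093970, -34678381, -13369914, 17938400,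 48405, 4269957, 8706954, -677658, 45367, 29875, 56510, -3011, 2934, -1086, -12, -1])) (.node (.leaf [52, -30, 159, 78, -97, -1, -13, -59, 11, 6, 1]) (.leaf [148601, -13717, 332752, 133982, -178714, -356, -38356, -88984, 5638, 3137, -22, -197, 133, 5, -18]))) (.node (.node (.leaf []) (.leaf [-6, 18, -17, -4, 4, 5, 14, 2, -7, -7, -1])) (.node (.leaf [1]) (.leaf [1])))))) (.node (.node (.node (.node (.node (.leaf []) (.leaf [85039453, -16684901, 221650929, 101518177, -129185748, -3310014, -17903607, -71973945, 7321493, 5884193, -276152, 100175, -179303, -3989, -546, 78, 7])) (.node (.leaf [25192598, -9465740, 73215034, 35086993, -43233969, -1629733, -5204189, -26030481, 4692058, 1810332, -68136, 90556, -146654, -5899, 1444, -48, -1]) (.leaf [1]))) (.node (.node (.leaf [1]) (.leaf [-4919830, 1180447, -13174373, -6079749, 7678415, 208259, 1020449, 4353978, -573896, -282836, 14356, -1241, 16390, 996, -352, 5])) (.node (.leaf [1]) (.leaf [-21738, 5420, -60076, -28636, 35971, 1067, 4199, 20719, -2317, -1946, 63, -51,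 69, -1])))) (.node (.node (.node (.leaf [5160, -1562, 17314, 9238, -11579, -368, -482, -6693, 544, 912, -54, 32, -26, 1]) (.leaf [1])) (.node (.leaf [1]) (.leaf [-9391420, 1802758, -25512187, -12126523, 15392165, 382175, 1701929, 8638711, -720254, -820930, 35942, -8248, 21434, 89, -154, -9]))) (.node (.node (.leaf [1]) (.leaf [-5977348, 1499962, -16258229, -7586332, 9560963, 266132, 1211266, 5453919, -712245, -387628, 19582, -6810, 21251, 867, -388, 5])) (.node (.leaf []) (.leaf [973889385, -268021563, 2679184398, 1255370327, -1577276568, -44653986, -199963223, -907857615, 126270028, 65243105, -2393818, 1597251, -3539167, -152396, 12946, -1216, 13]))))) (.node (.node (.node (.node (.leaf [1]) (.leaf [-769988, 133345, -2149677, -1052863, 1334638, 36076, 122440, 750951, -43464, -89652, 4430, -1713, 1724, -127, 1, -1])) (.node (.leaf [482210, -742648, 303738, -712865, 816224, 163462, -529222, 568080, 671630, -736662, 30284, -37810, -14807, -4013, 1264, -81]) (.leaf [68872, -17056, 189430, 89791, -113112, -3020,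 -13449, -64808, 7308, 5740, -178, 136, -196, -3]))) (.node (.node (.leaf [1]) (.leaf [1])) (.node (.leaf [4985852, -649925, 11945814, 5093054, -6619189, -116618, -1156641, -3480809, 349900, 131055, -18504, -9996, -8056, -869, 372]) (.leaf [-73, -6, -196, -91, 128, -2, 11, 55, 6, -7, 1])))) (.node (.node (.node (.leaf []) (.leaf [-106463163, 17691318, -274944310, -125811834, 161004789, 3579752, 21636461, 88474820, -7456148, -7245404, 369394, -16399, 183826, 3707, -1538, -107, -3])) (.node (.leaf []) (.leaf []))) (.node (.node (.leaf []) (.leaf [2641, -195, 6464, 2869, -3765, -52, -539, -1938, 58, 164, -16, 0, -1])) (.node (.leaf [4927, -1219, 13764, 6574, -8348, -152, -921, -4724, 472, 427, -12, 18, -12]) (.leaf [12719235, -2441740, 27053088, 9372718, -12581716, 130437, -3961224, -6101878, 1843522, -1199014, 25636, -100833, -32501, -9568, 3143, -119])))))))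

def twoL117 : Janko.Tree (List ℤ) :=
  (.node (.node (.node (.node (.node (.node (.leaf []) (.leaf [4239, -389, 9731, 4054, -5328, -47, -1012, -2749, 167, 130, -10, -4, 1])) (.node (.leaf []) (.leaf [335789139, -37074754, 783122206, 326942632, -428946604, -4464470, -79959582, -221109309, 19278717, 6558288, -745761, -946476, -254406, -54446, 31290, -210, 13]))) (.node (.node (.leaf []) (.leaf [-74977, 16615, -199065, -92267, 116748, 3108, 15615, 66067, -7224, -5623, 200, -116, 178, 2, 1])) (.node (.leaf [-7828, 1876, -21580, -10280, 12942, 355, 1487, 7421, -793, -683, 24, -16, 23]) (.leaf [-19762, 4298, -52967, -24710, 31387, 744, 3995, 17630, -1782, -1547, 50, -37, 44, -1])))) (.node (.node (.node (.leaf []) (.leaf [16441606, -4327414, 45678068, 21712949, -27251618, -808628, -3196794, -15718811, 1950675, 1327224, -50434, 32650, -57158, -1525, 100, -5])) (.node (.leaf []) (.leaf [0, 1]))) (.node (.node (.leaf []) (.leaf [364848, -96024, 1000366, 470241, -591311, -16293, -73823, -340107, 43476, 26788, -823, 697,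 -1164, -36, -3])) (.node (.leaf []) (.leaf [85758106, -26501049, 261727332, 133192538, -164805933, -6286033, -12897174, -98255096, 10725817, 11767475, -456792, 441794, -396101, 4532, -3071, 213, -1]))))) (.node (.node (.node (.node (.leaf []) (.leaf [0, 1])) (.node (.leaf [3497491, -869064, 9858258, 4759176, -5979816, -177293, -629420, -3438224, 373477, 324240, -13806, 7288, -11934, -184, 66, 1]) (.leaf [44509, -18436, 146757, 77103, -93881, -4093, -5796, -58030, 8159, 6632, -256, 202, -319, -6, 3]))) (.node (.node (.leaf []) (.leaf [0, 1])) (.node (.leaf [0, 1]) (.leaf [0, 1])))) (.node (.node (.node (.leaf [0, 1]) (.leaf [-47293156, 12115036, -130548820, -61565818, 77634137, 1963651, 9206690, 44318870, -5586686, -3242758, 118455, -28401, 161404, 6551, -2091, 112, 1])) (.node (.leaf [-514, -257, -2, 411, -457, 0, 244, -374, 43, 152, 0, 10, -1]) (.leaf [59601285, -15563285, 172407699, 84999496, -106320633, -3388269, -10038064, -61843203, 6294906, 6691683, -251835, 192360, -207138, 1563, -1964, 76, -1]))) (.node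 (.node (.leaf []) (.leaf [0, 1])) (.node (.leaf [23074, -3168, 57034, 25205, -32650, -564, -5079, -17428, 1306, 1275, -73, 5, -17, 0, -1]) (.leaf [-260730062, 65613337, -713669548, -335989008, 422855191, 12163014, 52179035, 242300323, -29554445, -20058641, 787746, -507709, 834389, 22107, -1617, -41, -7])))))) (.node (.node (.node (.node (.node (.leaf []) (.leaf [9343154, -2023152, 22993600, 9714501, -12466100, -245923, -2310706, -6767386, 1208693, -21383, -20913, -28387, -30888, -4082, 1302, -43])) (.node (.leaf [0, 1]) (.leaf []))) (.node (.node (.leaf []) (.leaf [-1382, 112, -2903, -1109, 1464, 8, 377, 748, -60, -5, 0, 3, -1])) (.node (.leaf [-20, -17, -44, -29, 34, 3, -6, 22, 10, -7, 1]) (.leaf [1774, -231, 4489, 1989, -2636, 8, -374, -1344, 77, 80, -6, 0, 2, -1])))) (.node (.node (.node (.leaf []) (.leaf [-22217383, 6877029, -70758546, -37089412, 45831886, 1745498, 2652093, 27417018, -2589412, -3600134, 145326, -122565, 108823, -2764, 1073, -62, 3])) (.node (.leaf [-4108, 679, -11419, -5526, 7133, 103, 677,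 3881, -157, -454, 14, -20, 0, 0, -1]) (.leaf [243817, -53395, 641014, 294304, -373905, -7869, -51267, -210237, 23253, 15457, -131, 5, -427, -34, -10]))) (.node (.node (.leaf []) (.leaf [0, 1])) (.node (.leaf [0, 1]) (.leaf [0, 1]))))) (.node (.node (.node (.node (.leaf []) (.leaf [-1452, 123, -3075, -1184, 1562, 9, 393, 799, -64, -8, 0, 3, -1])) (.node (.leaf [-296411, 67526, -818092, -388997, 491595, 13385, 55471, 278479, -29579, -24583, 1402, -491, 997, 16, 5]) (.leaf [-1827, 116, -4150, -1709, 2279, 11, 435, 1129, -49, -47, 6, 3, -1]))) (.node (.node (.leaf []) (.leaf [-1598, 133, -4122, -1968, 2483, 78, 254, 1403, -42, -163, 16, 1, 2])) (.node (.leaf [-339436, 62779, -927988, -447111, 565263, 16309, 59718, 320101, -22569, -36395, 1631, -754, 664, -35, 14, -1]) (.leaf [-112156660, 30738009, -320213516, -155072210, 194186651, 5825914, 20229250, 112632048, -13643028, -10039573, 385022, -217003, 428124, 10296, -1292, 125, 3])))) (.node (.node (.node (.leaf [0, 1]) (.leaf [0, 1])) (.node (.leaf [-13412, 1072,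 -27084, -9795, 13162, -92, 3936, 6481, -542, 129, -32, 31, -21, 0, -1]) (.leaf [-149, 45, -365, -155, 196, 6, 45, 112, -20, -9, -1]))) (.node (.node (.leaf [0, 1, 0, 0, 1, -1]) (.leaf [2949, -195, 7053, 3062, -4039, -51, -631, -2051, 65, 151, -16, -1])) (.node (.leaf [6004, -1648, 17449, 8526, -10817, -202, -1070, -6140, 600, 640, -16, 28, -14]) (.leaf [0, 1])))))))

def twoL118 : Janko.Tree (List ℤ) :=
  (.node (.node (.node (.node (.node (.node (.leaf [0, 0, 1]) (.leaf [0, 0, 1])) (.node (.leaf []) (.leaf [-13, 2, -34, -14, 19, -1, 3, 9, 0, -1, 0, 0, 0, 1]))) (.node (.node (.leaf []) (.leaf [0, 0, 1])) (.node (.leaf []) (.leaf [-6076215, 1537810, -16977764, -8116425, 10207034, 292291, 1135299, 5858107, -683563, -504854, 20974, -10415, 21143, 540, -192, 1])))) (.node (.node (.node (.leaf [0, 0, 1]) (.leaf [-6235823, 1413596, -16596037, -7652406, 9687931, 249487, 1286653, 5464624, -671359, -372523, 17292, 40, 18198, 975, -357, 11])) (.node (.leaf [0, 0, 1]) (.leaf [2067661, -709656, 5817494, 2744624, -3379290,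 -151472, -453048, -2026867, 359513, 155422, -11480, 10938, -12685, -92, 225, -1]))) (.node (.node (.leaf [0, 0, 1]) (.leaf [117614, -34754, 337236, 162986, -204254, -5480, -21972, -118762, 15013, 10443, -248, 347, -430, -8, -1])) (.node (.leaf [321085430, -87009475, 868013475, 403305293, -505363878, -16713712, -69696201, -292335408, 40460908, 23740702, -986476, 1075574, -1102310, -27147, -7894, 554, 17]) (.leaf [222952204, -36460181, 569839188, 258467171, -330990343, -7530540, -46481430, -181413143, 15848330, 14212729, -805028, 37828, -397526, -10166, 6466, 321, 5]))))) (.node (.node (.node (.node (.leaf []) (.leaf [])) (.node (.leaf []) (.leaf [131225, -29642, 354531, 163652, -208609, -4953, -26695, -115404, 14544, 7315, -764, 132, -543, -20, -1]))) (.node (.node (.leaf [0, 0, 1]) (.leaf [2950, -214, 7201, 3190, -4193, -35, -587, -2160, 62, 155, -11, -4])) (.node (.leaf []) (.leaf [-52772321, 9213913, -139803225, -65329540, 83252791, 2014885, 10070685, 46218193, -3747909, -4195688, 208956, -29417, 106170, 724,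 -1237, -65])))) (.node (.node (.node (.leaf []) (.leaf [33988752, -6877334, 92760560, 44202719, -55955591, -1485537, -6212872, -31602618, 2772969, 3074636, -131265, 43446, -82971, 229, 438, 30])) (.node (.leaf [0, 0, 1]) (.leaf [0, 0, 1]))) (.node (.node (.leaf [0, 0, 1]) (.leaf [578099, -41010, 1557131, 752232, -970207, -15451, -76082, -521177, 11106, 47961, -4174, -2290, -1160, -7, 188, 1])) (.node (.leaf [2823, -300, 6437, 2642, -3491, -12, -702, -1786, 128, 62, 0, -4, 2, 1]) (.leaf [-149901566, 37977935, -408050553, -191561064, 240853889, 7250774, 30790749, 138360148, -16872199, -12028191, 454870, -415749, 462726, 6947, 1567, -213, -9])))))) (.node (.node (.node (.node (.node (.leaf []) (.leaf [-19898737, 5499156, -56739209, -27502531, 34365239, 1119434, 3650260, 20022643, -2413337, -1907240, 79696, -60909, 77375, 970, 196, -18, 1])) (.node (.leaf [152226376, -71146111, 485348272, 245937346, -299549077, -12563806, -27460779, -186006346, 32361142, 18382036, -367116, 1198801, -1021405, -12968, -18133, -98,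 -5]) (.leaf [-21443956, -5066366, -36695078, -11604348, 17994098, -994168, 5287066, 5552772, 2503329, 555403, 69747, 239410, -110346, -266, -4734, -27]))) (.node (.node (.leaf [-3, 0, -4, -1, 1, 0, 1, 1]) (.leaf [-8, 3, -40, -22, 31, 0, 1, 13, 0, -3])) (.node (.leaf [410, -44, 959, 402, -532, -7, -104, -268, 17, 20, -1]) (.leaf [-331497, 72526, -890130, -415736, 527820, 12156, 66286, 296999, -30269, -25324, 762, -542, 726, 3, 7])))) (.node (.node (.node (.leaf []) (.leaf [-13730942, 3609912, -38353335, -18274921, 22953028, 672006, 2621912, 13210394, -1642503, -1092420, 48286, -25301, 50477, 1566, -471, 3])) (.node (.leaf [-3906, 596, -9456, -4059, 5265, 87, 916, 2805, -284, -129, 8, -2, 2]) (.leaf [-34452323, 7113633, -92998704, -43770371, 55507247, 1403507, 6594133, 31221390, -3003547, -2761540, 117998, -34138, 84360, 1433, -285, -17]))) (.node (.node (.leaf [67246, -202362, 682100, 458690, -517513, -40520, 29264, -379982, 92098, 55476, -1588, 5258, -4075, 14, -27, -1]) (.leaf [-681591, 154685, -1882374, -901208,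 1136037, 32366, 126481, 648663, -63191, -64398, 2494, -1560, 1846, -7, 8, -1])) (.node (.leaf [38836821, -44163666, 191346580, 114584955, -132243782, -9322749, -1790616, -92630920, 19071188, 14152613, -231677, 1202870, -707381, 8229, -21866, 150, 3]) (.leaf [-7353538, 1030487, -17399930, -7323664, 9532155, 133758, 1778819, 5018320, -529447, -166368, 10935, 16524, 7208, 1325, -560, 11, -1]))))) (.node (.node (.node (.node (.leaf []) (.leaf [])) (.node (.leaf [5220180, -523912, 11624048, 4625370, -6128012, -40246, -1353243, -3081940, 292064, 23736, -4870, -17188, -511, -988, 464, -8, 1]) (.leaf [-184, 46, -1550, -1034, 1424, -64, -173, 679, 62, -104, 4, -4, -2, 1]))) (.node (.node (.leaf [3054, -172, 6916, 2852, -3791, -32, -720, -1886, 78, 83, -12, -6, 1]) (.leaf [2881, -298, 6867, 2963, -3855, -92, -668, -2019, 128, 162, -16, 2])) (.node (.leaf [0, 0, 1]) (.leaf [-8, 3, -40, -22, 31, 0, 1, 13, 0, -3])))) (.node (.node (.node (.leaf []) (.leaf [-33420509, 8546230, -87091327, -38606594, 48969518, 1134770, 7623437,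 27430051, -4749708, -588636, 78254, 61243, 137577, 12976, -4830, 140, 1])) (.node (.leaf [0, 0, 1]) (.leaf [0, 0, 1]))) (.node (.node (.leaf [0, 0, 1]) (.leaf [0, 0, 1])) (.node (.leaf [-39378, 3873, -92443, -39075, 51555, 463, 9287, 26298, -1532, -1503, 94, 22, -4, 0, 1]) (.leaf [8769, -35, 18651, 7289, -9872, -49, -2171, -4646, 37, 123, -34, -28, 10])))))))

def twoL119 : Janko.Tree (List ℤ) :=
  (.node (.node (.node (.node (.node (.node (.leaf []) (.leaf [-11802, 4240, -37657, -19456, 24128, 740, 1633, 14407, -1654, -1665, 40, -72, 59, 1, -1])) (.node (.leaf []) (.leaf [1, 0, 0, 1, 0, 0, 0, -1]))) (.node (.node (.leaf []) (.leaf [-403723, -498910, -2202836, -1914036, 2319796, 213000, -362335, 1437911, 556677, -808471, 34570, -39818, -10840, -3903, 1222, -81])) (.node (.leaf [-28248, 5971, -75401, -35117, 44583, 1083, 5682, 25047, -2524, -2151, 84, -44, 65]) (.leaf [-12298219, 3939296, -45255702, -26401777, 32203371, 1542485, 245073, 19935726, -562998, -4249665, 124302, -203220, 41598, -12284, 5148, -177, -1]))))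 (.node (.node (.node (.leaf []) (.leaf [11288, -2225, 29062, 13062, -16731, -300, -2380, -9232, 1031, 480, -12, 14, -18, 0, -1])) (.node (.leaf []) (.leaf [126596124, -22998601, 335178667, 156257905, -198882045, -4928812, -24520854, -110729259, 9621648, 9771867, -486812, 75169, -272292, -3551, 3848, 131, 1]))) (.node (.node (.leaf []) (.leaf [])) (.node (.leaf [17628121, -2601128, 44335854, 19858136, -25596916, -460047, -3714692, -13825110, 1125442, 962176, -49204, -15852, -23334, -1219, 776, 8, 1]) (.leaf [-20363430, -3640006, -30498972, -6523337, 11614686, -1371975, 6422065, 1942456, 1207608, 2183772, -19078, 277789, -93770, 6330, -5370, 79, 1]))))) (.node (.node (.node (.node (.leaf [-6, 0, -9, -3, 4, 0, 1, 3]) (.leaf [])) (.node (.leaf [-746314947, 153171108, -1985411121, -920443163, 1170041578, 27804538, 148680833, 653899861, -68882366, -49608033, 2372970, -103484, 1921855, 69332, -32138, 577, -9]) (.leaf [39015124, -10688902, 107878393, 50788686, -63868810, -1695898, -7842882, -36733981, 4936322, 2696751,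 -77818, 52758, -135471, -5466, 540, -85, 1]))) (.node (.node (.leaf []) (.leaf [-12509, 1069, -27492, -10929, 14457, 193, 3283, 7287, -539, -243, 19, 13, -5])) (.node (.leaf [4125, -738, 11093, 5216, -6686, -136, -774, -3670, 273, 349, -14, 8, -9]) (.leaf [-4078692, 750337, -10893956, -5124778, 6509261, 167599, 771803, 3643583, -302585, -345856, 15754, -3417, 8500, -3, -39, -5])))) (.node (.node (.node (.leaf []) (.leaf [-258337, 77173, -653310, -276610, 349942, 8721, 68621, 196991, -45317, 1945, 396, 424, 1174, 140, -10, 1])) (.node (.leaf [-5, -1, -7, -2, 3, 1, 1, 1]) (.leaf [107481726, -47634721, 343872422, 176677461, -214706807, -10160655, -18483886, -133691790, 20625602, 16101346, -479658, 1063698, -686570, 5833, -19554, 423, 1]))) (.node (.node (.leaf []) (.leaf [-37621977, 7366027, -99552658, -46110949, 58670826, 1413931, 7496668, 32705089, -3243486, -2602607, 125579, -13611, 88475, 2759, -1395, 1, -1])) (.node (.leaf [-11108, 2074, -28814, -13171, 16781, 423, 2321, 9320, -910, -753, 40, -14, 24]) (.leaf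 [-229312954, 56581996, -618281247, -287457419, 362586131, 10061956, 47679473, 206646063, -25970706, -15890355, 632889, -388301, 702087, 23165, -1719, -1, -9])))))) (.node (.node (.node (.node (.node (.leaf [-5, 0, -12, -3, 6, 0, 2, 1]) (.leaf [35740901, -7469603, 95788078, 44682706, -56698243, -1413755, -7008570, -31818598, 3330283, 2524949, -120338, 15331, -94896, -3330, 1382, -11])) (.node (.leaf [21869041, 5050148, 37703355, 12045394, -18576314, 984991, -5376394, -5847079, -2502727, -526270, -72624, -238984, 110341, 320, 4714, 31]) (.leaf [-73259810, 2762154, -168472409, -71318881, 94743507, 530384, 15978544, 47304619, -724045, -2761623, 229351, 256252, -41340, 1236, -6312, -64, -3]))) (.node (.node (.leaf []) (.leaf [])) (.node (.leaf [-45, -49, -54, -16, 32, 4, 0, -2, 23, -2, 1]) (.leaf [-226306528, 44996620, -593764130, -272734019, 347192018, 8247447, 46576665, 193373221, -20140495, -14657165, 697599, -107048, 525649, 18021, -6316, -25, -5])))) (.node (.node (.node (.leaf []) (.leaf [12155656, -1274402,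 31487456, 14718703, -18979429, -357157, -2151700, -10232763, 364468, 1041048, -53500, -11258, -10074, 856, 574, 17])) (.node (.leaf [-751, 135, -1730, -734, 908, 55, 212, 528, -72, -59, 4, 2, 1]) (.leaf []))) (.node (.node (.leaf []) (.leaf [-1272, 106, -2676, -1018, 1352, 4, 350, 682, -54, -3, -1, 2, -1])) (.node (.leaf [-28172204, -12105179, -34167230, -4518788, 12056543, -2550847, 7988772, -2036787, 5549226, 2681788, 53990, 514854, -240516, 2591, -10706, 27, -1]) (.leaf [900, -6, 1880, 713, -973, -2, -237, -445, 12, 3, -6, -4, 1]))))) (.node (.node (.node (.node (.leaf []) (.leaf [38673, -7168, 96165, 42362, -54295, -1003, -8959, -29866, 3177, 1920, -40, 15, -51, -4, -1])) (.node (.leaf [-1168055, -423444, -4375785, -3022740, 3735527, 242135, -272482, 2225867, 565748, -934326, 38478, -42152, -10965, -4286, 1268, -85]) (.leaf [3, 0, 3, 1, 0, 0, -1, -1]))) (.node (.node (.leaf []) (.leaf [-250, -10, -448, -177, 190, 32, 59, 143, -10, -15, 4, 2, 1])) (.node (.leaf [-106389674, 27262255, -305706081, -149742334,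 187835744, 5523669, 18117768, 108575574, -11223542, -11006906, 408514, -257426, 364040, -290, 914, 18, 3]) (.leaf [-8, 3, -41, -22, 32, 0, 1, 13, 0, -3])))) (.node (.node (.node (.leaf []) (.leaf [])) (.node (.leaf [1, 1, 0, 0, 1, -1]) (.leaf [33236, -8122, 98477, 49325, -62085, -1846, -5079, -35591, 2953, 4320, -274, 215, -139, 12, -1]))) (.node (.node (.leaf [1035, -141, 2324, 924, -1203, -29, -279, -628, 84, 7, -2, 0, -1]) (.leaf [6133, -563, 14243, 6011, -7882, -90, -1434, -4081, 234, 230, -17, -6, 1])) (.node (.leaf [-139192, 27660, -366102, -168746, 214934, 4893, 28464, 119793, -11826, -9639, 377, -145, 271, 4, 1]) (.leaf [-446, 94, -1188, -536, 712, -11, 98, 368, -29, -23, -1, 0, -1])))))))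

def twoL120 : Janko.Tree (List ℤ) :=
  (.node (.node (.node (.node (.node (.node (.leaf []) (.leaf [12092244, -2484395, 34460382, 16987163, -21427821, -596616, -1882784, -12204601, 921421, 1352625, -59942, 19396, -33727, 517, 174, 16, -1])) (.node (.leaf [1]) (.leaf [1]))) (.node (.node (.leaf []) (.leaf [-1304348, 326687, -3640970, -1740913, 2187129, 67831, 245086, 1255858, -146526, -112152, 5839, -2878, 4821, 90, -28, -1])) (.node (.leaf [1]) (.leaf [-2618854, 678146, -7000168, -3196483, 4038402, 100546, 562596, 2291177, -342578, -114397, 5539, 342, 9533, 682, -220, 7])))) (.node (.node (.node (.leaf []) (.leaf [])) (.node (.leaf []) (.leaf [-22125, 5588, -63007, -30505, 38544, 954, 3936, 21942, -2282, -2081, 74, -56, 67, -1]))) (.node (.node (.leaf [43775, -8916, 117042, 54815, -69621, -1564, -8491, -39173, 3573, 3448, -88, 75, -86, 2, -1]) (.leaf [37173921, -10519866, 109144907, 54193280, -67573329, -2222143, -6216097, -39638779, 4251878, 4375680, -145172, 147132, -137353, 1399, -2020, 47])) (.node (.leaf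 [1264896, -324337, 3497445, 1655100, -2081063, -61659, -247658, -1193541, 149014, 97370, -4761, 2338, -4622, -135, 33]) (.leaf [1]))))) (.node (.node (.node (.node (.leaf [1]) (.leaf [379228, -70949, 1018072, 481983, -611484, -16302, -71709, -343670, 26614, 36167, -1478, 774, -713, 28, -12, 1])) (.node (.leaf [-1224527, 309641, -3431376, -1644619, 2064545, 65351, 228251, 1187199, -139424, -106685, 5753, -2796, 4687, 82, -30, -1]) (.leaf [-20834415, 2338548, -53036187, -24386998, 31472559, 588696, 3981948, 16942096, -742593, -1640073, 80203, 12037, 14961, -1377, -696, -33, -1]))) (.node (.node (.leaf []) (.leaf [1])) (.node (.leaf [5, -1, 14, 7, -10, 0, -1, -4, 0, 1]) (.leaf [-64511, 16728, -181050, -87274, 109127, 3430, 11864, 63516, -7288, -5937, 192, -125, 215, 1, 3])))) (.node (.node (.node (.leaf [-22304, 5628, -62547, -29975, 37849, 942, 4167, 21584, -2344, -1972, 62, -50, 66, -1]) (.leaf [-92, 15, -246, -115, 150, 0, 17, 80, -4, -7])) (.node (.leaf [89, -270, 1362, 985, -1220, -10, 113, -752, 45, 176, -3,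 10, -1]) (.leaf [5727, -1690, 17479, 8844, -11014, -419, -866, -6445, 711, 744, -43, 28, -26]))) (.node (.node (.leaf [45004905, -12271546, 124183600, 58405904, -73428916, -1993898, -9093053, -42241171, 5678224, 3126480, -96560, 65533, -156317, -6109, 486, -86, 1]) (.leaf [-67896785, 2861746, -157533260, -67044846, 88989237, 471164, 14568978, 44526888, -901834, -2441124, 217444, 257441, -24118, 2832, -6878, -13, -1])) (.node (.leaf [-2725, -28, -6079, -2516, 3379, 42, 602, 1622, 26, -108, 22, 0, -2, 1]) (.leaf [43169080, -6881074, 132618973, 69673776, -88071759, -2115382, -3615286, -49997140, 1370377, 6899135, -288154, 17141, -105508, 9420, 2039, 30, -7])))))) (.node (.node (.node (.node (.node (.leaf [1]) (.leaf [1])) (.node (.leaf [-23183, 6056, -66066, -31994, 40357, 1016, 4195, 23080, -2470, -2220, 68, -58, 68, -1]) (.leaf [1294914, -286006, 3519712, 1659126, -2094858, -57782, -246595, -1188542, 129579, 96813, -4443, 206, -3864, -158, 78, -1]))) (.node (.node (.leaf []) (.leaf [23, -36, 392, 293, -368, -12,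 49, -211, 0, 53, -4, 2, -1])) (.node (.leaf []) (.leaf [1])))) (.node (.node (.node (.leaf [1]) (.leaf [751158, -185496, 2060949, 969567, -1220251, -37511, -148201, -696447, 88390, 53917, -3463, 1045, -2925, -104, 35])) (.node (.leaf []) (.leaf []))) (.node (.node (.leaf []) (.leaf [261592, -39925, 702056, 335918, -428854, -9518, -46202, -238078, 11068, 28465, -1026, 596, -267, 54, -16, 1])) (.node (.leaf [-6718, 1248, -15929, -6657, 8469, 332, 1798, 4623, -753, -201, 40, 14, 21, 2, -1]) (.leaf [88885344, -2049166, 201592566, 84077772, -112429137, -227636, -19389383, -55084665, 709243, 2227935, -281360, -438828, 47836, -7698, 11475, -28, -1]))))) (.node (.node (.node (.node (.leaf []) (.leaf [])) (.node (.leaf [1]) (.leaf [-141780476, 30947462, -386068701, -181349863, 230241543, 5100698, 26611501, 129155208, -14154772, -9167280, 385306, 131878, 413141, 24178, -9621, 394, 3]))) (.node (.node (.leaf [-108971, 29548, -307715, -147931, 185823, 5028, 20455, 107285, -12647, -9669, 280, -268, 361, 6, 1]) (.leaf [1010114,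 -169271, 2528644, 1124214, -1444745, -28291, -224710, -787280, 73678, 55386, -1991, 31, -1172, -76, -45, 1])) (.node (.leaf [2534640, -575490, 6624758, 2997767, -3804755, -92884, -550846, -2132919, 285172, 118536, -6280, -318, -7583, -512, 138, -3]) (.leaf [1113366, -193650, 2791052, 1239064, -1591455, -30993, -249250, -868603, 86092, 58084, -2101, 37, -1417, -102, -41, 1])))) (.node (.node (.node (.leaf []) (.leaf [1])) (.node (.leaf []) (.leaf [1]))) (.node (.node (.leaf []) (.leaf [2949, -197, 7051, 3062, -4039, -50, -631, -2051, 65, 151, -16, -1])) (.node (.leaf [1]) (.leaf [1])))))))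

def twoL121 : Janko.Tree (List ℤ) :=
  (.node (.node (.node (.node (.node (.node (.leaf []) (.leaf [8431, 256, 16378, 5762, -8032, 35, -2346, -3473, -45, -80, -29, -40, 19, 0, -1])) (.node (.leaf []) (.leaf [30813507, -6481348, 83933989, 39785652, -50360322, -1328285, -5763714, -28444568, 2723166, 2600017, -114668, 36040, -80632, -940, 579, 15]))) (.node (.node (.leaf [0, 1]) (.leaf [88, 1098, -5312, -4247, 5024, 297, -788, 3319, -339, -736, 37, -40, 26, -2])) (.node (.leaf [2135, -213, 5136, 2227, -2927, -21, -466, -1514, 76, 93, -4, -1]) (.leaf [0, 1])))) (.node (.node (.node (.leaf []) (.leaf [0, 1])) (.node (.leaf [1048, 764, 2332, 1240, -1743, -51, 34, -684, -444, 277, -39, -15, 8, 0, -1]) (.leaf [248822, -33693, 644378, 300031, -385043, -8282, -47690, -210695, 10114, 22983, -954, 442, -173, 44, -20, 1]))) (.node (.node (.leaf [0, 1]) (.leaf [0, 1])) (.node (.leaf [0, 1]) (.leaf [-216876, 214950, -1008156, -586804, 689420, 40073, 11154, 464453, -96898, -58314, 1536, -4976, 3871, -14, 48, 1]))))) (.node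 (.node (.node (.node (.leaf []) (.leaf [-2669, 407, -7054, -3279, 4255, 66, 522, 2270, -124, -234, 10, -6, 1])) (.node (.leaf [-779933, 94466, -2078561, -998312, 1280280, 26288, 131724, 702942, -17218, -90035, 3013, -1318, 194, -190, 68, -3]) (.leaf [80649646, -17955576, 217137509, 101356050, -128414838, -3181775, -16011888, -72424392, 8009028, 5679551, -229637, 56794, -218759, -7265, 2124, -59, 1]))) (.node (.node (.leaf []) (.leaf [-19118512, 4876992, -52812679, -25023394, 31465547, 900424, 3725561, 18069672, -2193893, -1502572, 57725, -32863, 63759, 1868, -272, 3])) (.node (.leaf [1706, 173, -1040, -2487, 2812, 292, -1386, 1992, 88, -722, 53, -23, 19, 0, 1]) (.leaf [6599398, -1323420, 17645724, 8237834, -10477293, -231032, -1271392, -5858383, 570482, 461930, -15090, -2307, -13880, -859, 118, -3])))) (.node (.node (.node (.leaf []) (.leaf [51603432, -944504, 115216086, 47224043, -63526962, 87407, -11608083, -30665467, 347328, 934034, -145052, -265907, 36488, -4313, 6940, -43])) (.node (.leaf [50808, -16051,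 149550, 73729, -91494, -3289, -9151, -54108, 7118, 5483, -199, 122, -227, -8, 1]) (.leaf [0, 1]))) (.node (.node (.leaf [-2407, 876, -6960, -3379, 4173, 122, 493, 2527, -368, -244, -2, -11, 9]) (.leaf [59980774, -13470301, 163487932, 77083611, -97567461, -2421789, -11476368, -55172525, 5891502, 4544689, -179418, 43615, -167177, -4634, 1618, -55])) (.node (.leaf []) (.leaf [-124588324, 28475327, -354589500, -173560848, 218399971, 6225264, 20586145, 125180623, -11371789, -12974124, 547177, -230793, 390023, -1467, -2799, -87, 5])))))) (.node (.node (.node (.node (.node (.leaf []) (.leaf [36636803, -7631255, 97952730, 45606274, -57883067, -1439412, -7228776, -32464508, 3414572, 2551070, -122674, 14863, -96778, -3436, 1432, -11])) (.node (.leaf []) (.leaf [711645, -266993, 2318861, 1217290, -1489664, -66390, -91463, -909812, 112100, 113995, -5599, 5532, -4766, 80, 44, 1]))) (.node (.node (.leaf [0, 1]) (.leaf [-29524366, 18061765, -97830786, -50282405, 59717053, 3668427, 6455265, 39249631, -8060410, -4997064, 94151,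 -533190, 243531, -4490, 11253, -262, -5])) (.node (.leaf []) (.leaf [137850213, -25984541, 337649383, 145735233, -186739784, -4303451, -33512690, -102189258, 12982034, 5129133, -329768, 60314, -270252, -16919, 1910, 125, 7])))) (.node (.node (.node (.leaf [-8238, 1324, -20318, -8864, 11392, 313, 1946, 6118, -700, -386, 52, 14, 20, 2, -1]) (.leaf [14953, -3667, 41143, 19553, -24586, -702, -2897, -14133, 1572, 1294, -43, 31, -45])) (.node (.leaf [0, 1]) (.leaf [0, 1]))) (.node (.node (.leaf [0, 1]) (.leaf [-891, 92, -1734, -597, 788, 9, 288, 400, -57, 10, -2, 4, -1])) (.node (.leaf [0, 1]) (.leaf [31817816, 2035922, 67670796, 26908817, -37213779, 568356, -6846188, -16644586, -1092512, 210241, -82288, -271453, 66874, -3242, 5596, -77, -1]))))) (.node (.node (.node (.node (.leaf []) (.leaf [])) (.node (.leaf [-10, -5, -16, -6, 8, -1, 0, 5, 3]) (.leaf [0, 1]))) (.node (.node (.leaf [0, 1]) (.leaf [-1038, 128, -2021, -733, 899, 50, 326, 538, -86, -18, 4, 2])) (.node (.leaf []) (.leaf [13494, -3568, 37991, 18280, -22957,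 -655, -2542, -13247, 1504, 1265, -38, 35, -44])))) (.node (.node (.node (.leaf []) (.leaf [-1734919, 473515, -4833959, -2292098, 2875187, 85862, 340480, 1659659, -220328, -130082, 5676, -3300, 6700, 226, -46, 1])) (.node (.leaf [-7297, -25, -15476, -6030, 8203, 38, 1821, 3806, 0, -119, 34, 24, -9]) (.leaf [2126, -258, 4501, 1712, -2244, -22, -608, -1170, 134, 5, 6, -3, 1]))) (.node (.node (.leaf [-1927, 90, -4352, -1803, 2388, 35, 450, 1193, -41, -66, 9, 3]) (.leaf [-47804, 11775, -130164, -60999, 76962, 1931, 9507, 43952, -5298, -3344, 144, -100, 148, 0, -1])) (.node (.leaf []) (.leaf [-2524459, 794842, -8111635, -4282368, 5281902, 201255, 285669, 3176066, -292774, -426016, 14485, -12882, 12070, -384, 97, -3])))))))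

def twoL122 : Janko.Tree (List ℤ) :=
  (.node (.node (.node (.node (.node (.node (.leaf []) (.leaf [-3553737, 869482, -9154454, -4053508, 5141875, 122938, 822620, 2885112, -460904, -99608, 5804, 3182, 11661, 1129, -323, 9])) (.node (.leaf [-375831512, 34170463, -898533718, -387610053, 508394831, 4878712, 81286144, 262388363, -15530680, -12732742, 1042124, 1266798, 204193, 43873, -38740, 375, -5]) (.leaf [-26289701, 13586773, -85829198, -43563337, 52806514, 2213614, 4633927, 33134120, -6559812, -2654131, 45389, -164400, 212727, 8842, -705, 73, 1]))) (.node (.node (.leaf [35809570, -9058116, 97544600, 45524197, -57499585, -1419402, -7247238, -32706839, 4204066, 2287363, -78750, 26114, -114581, -5331, 972, -67, -1]) (.leaf [-18216400, 4707892, -50357112, -23842319, 29967108, 865635, 3563636, 17223403, -2140551, -1404007, 55781, -31058, 62808, 2003, -339, 5])) (.node (.leaf []) (.leaf [387808, -60485, 995045, 457283, -585981, -11790, -78870, -322544, 20842, 31566, -809, 442, -189, 30, -26, 1])))) (.node (.node (.node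 (.leaf []) (.leaf [664289660, -180584818, 1859598534, 886666606, -1111974618, -32976778, -128154560, -642673031, 81959387, 53477335, -2012958, 1301374, -2424228, -74026, 6699, -523, 9])) (.node (.leaf []) (.leaf [-23241, 6064, -66222, -32067, 40453, 1016, 4206, 23129, -2472, -2225, 68, -58, 69, -1]))) (.node (.node (.leaf [-1581, 213, -3803, -1630, 2129, 32, 375, 1113, -93, -66, 4, -1, 1]) (.leaf [-9235842, 1048933, -21467941, -8934711, 11707123, 137770, 2229138, 6052196, -547362, -184367, 19670, 23878, 6717, 1498, -715, 5])) (.node (.leaf []) (.leaf [-10347, 1360, -25047, -10802, 14042, 276, 2424, 7367, -671, -442, 52, 14, 18, 0, -1]))))) (.node (.node (.node (.node (.leaf [-321, 39, -769, -325, 430, 7, 81, 216, -17, -15, 1]) (.leaf [-3991766442, 845803387, -10599252241, -4903225077, 6222924640, 154386858, 810364484, 3492183300, -381663904, -266215183, 12153934, -2510848, 10326687, 386188, -129904, -262, -43])) (.node (.leaf [0, 0, 1]) (.leaf [278942, 799377, -7490274, -6799439, 7909291, 519799, -1620465, 5455133,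 198180, -1703727, 47251, -63414, 18878, -5340, 834, -30, 1]))) (.node (.node (.leaf []) (.leaf [12681213, -3332718, 37222081, 18545345, -23163509, -754416, -2008577, -13513895, 1337479, 1497541, -59447, 40161, -46837, 294, 15, 13])) (.node (.leaf [0, 0, 1]) (.leaf [-712337078, 67043683, -1657174833, -693630974, 913082773, 7780378, 165794506, 466711615, -33993570, -15085431, 1672476, 2342245, 369972, 104147, -75673, 465, -23])))) (.node (.node (.node (.leaf []) (.leaf [0, 0, 1])) (.node (.leaf [-16498, 911, -39477, -17414, 22618, 570, 3123, 11952, -338, -790, 26, -28, -3, -5, -4]) (.leaf [-9697, 2297, -24828, -11166, 14162, 215, 2231, 8057, -969, -547, -21, 0, 16]))) (.node (.node (.leaf []) (.leaf [])) (.node (.leaf [0, 0, 1]) (.leaf [0, 0, 1])))))) (.node (.node (.node (.node (.node (.leaf []) (.leaf [-95, 26, -264, -125, 163, 0, 22, 88, -8, -10, 0, 0, 0, -1])) (.node (.leaf [0, 0, 1]) (.leaf [0, 0, 1]))) (.node (.node (.leaf []) (.leaf [294645, -65067, 796883, 374668, -474235, -12009, -57597, -268391, 27567,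 23469, -836, 426, -698, -10, -5])) (.node (.leaf []) (.leaf [3423931, -1001629, 9940766, 4850887, -6056025, -190265, -602420, -3536523, 452872, 311210, -12735, 7538, -15045, -406, 192, -5])))) (.node (.node (.node (.leaf []) (.leaf [0, 0, 1])) (.node (.leaf [-3099, 357, -7139, -3007, 3876, 85, 756, 2088, -166, -133, 9, 2, 1]) (.leaf []))) (.node (.node (.leaf []) (.leaf [-46950688, 15554184, -137773349, -67519073, 83623101, 3112912, 8757736, 49768153, -6979768, -4829978, 166456, -216024, 217434, 3750, 2072, -21, -3])) (.node (.leaf [28493, -1772, 62805, 24947, -33626, 114, -7217, -16282, 743, 345, -48, -57, 39, 0, -1]) (.leaf [0, 0, 1]))))) (.node (.node (.node (.node (.leaf [0, 0, 1]) (.leaf [0, 0, 1])) (.node (.leaf [-406, 55, -1022, -449, 604, -12, 89, 301, -12, -18, 0, 0, -1]) (.leaf [80699557, 15312396, 123183973, 28393888, -48871144, 4932674, -24451673, -9629538, -5275649, -7905492, 33366, -1138324, 370228, -27566, 25860, -317, 5]))) (.node (.node (.leaf []) (.leaf [-10990, 3417, -32242, -15874, 19768,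 638, 1976, 11639, -1446, -1192, 30, -38, 45])) (.node (.leaf [1123, -106, 2348, 885, -1175, -3, -319, -593, 52, 3, 2, -2, 1]) (.leaf [18490, -3953, 48789, 22516, -28572, -694, -3858, -16075, 1700, 1328, -46, 26, -41])))) (.node (.node (.node (.leaf []) (.leaf [9, 2, 27, 15, -19, 0, 1, -11, -2, 2])) (.node (.leaf []) (.leaf [10826385, -2802371, 29916314, 14181217, -17811589, -525164, -2126668, -10257124, 1255648, 872522, -31928, 21712, -35970, -978, 58, 3]))) (.node (.node (.leaf []) (.leaf [2883, -202, 6959, 3033, -4013, -38, -608, -2027, 63, 143, -14, -1, 1])) (.node (.leaf []) (.leaf [193, -13, 457, 195, -259, 0, -40, -131, 4, 5])))))))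

def twoL123 : Janko.Tree (List ℤ) :=
  (.node (.node (.node (.node (.node (.node (.leaf []) (.leaf [])) (.node (.leaf [-143820727, 827269, -321850895, -133695337, 179435731, 395179, 31700508, 87102463, 817944, -4803557, 477154, 589802, -162139, 2017, -13186, -173, -7]) (.leaf []))) (.node (.node (.leaf []) (.leaf [5274, -461, 11855, 4850, -6398, -17, -1296, -3283, 192, 123, -6, -10, 3])) (.node (.leaf [38895434, -5888434, 101859007, 47457770, -60742407, -1337535, -7349745, -33374765, 2218765, 3142107, -151663, 3332, -59190, 974, 1070, 44, 1]) (.leaf [-20813626, 9376317, -67388508, -34669794, 42220817, 1819441, 3355317, 26180838, -4199218, -2781881, 73385, -153234, 142005, 1620, 1124, 5])))) (.node (.node (.node (.leaf []) (.leaf [])) (.node (.leaf [4801, -1487, 15162, 7828, -9707, -389, -627, -5732, 628, 681, -44, 26, -25, -1]) (.leaf [-1191, 168, -3126, -1453, 1883, 27, 227, 1008, -52, -100, 6, -2, 1]))) (.node (.node (.leaf [-30590, 3032, -70662, -29238, 39068, -108, 7514, 19481, -1021, -873, -8, 15, -33,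 -2, 5]) (.leaf [-9022889, 1821037, -25843196, -12820219, 16154691, 460492, 1356919, 9223269, -652740, -1061816, 44366, -13398, 24145, -535, -150, -13])) (.node (.leaf [1268249, -324020, 3503744, 1657335, -2084118, -61658, -248442, -1194936, 148928, 97269, -4759, 2311, -4613, -136, 31]) (.leaf [970, -88, 2349, 1020, -1352, 4, -202, -688, 28, 33, -2, -1, 1, -1]))))) (.node (.node (.node (.node (.leaf []) (.leaf [-4306, 582, -10892, -4910, 6384, 87, 901, 3392, -194, -297, 13, -6, 1])) (.node (.leaf []) (.leaf [16060532, -14122477, 64545782, 35650933, -41616039, -2673101, -2437957, -28424953, 6537325, 3394065, -50094, 329929, -221766, -1932, -5534, 27]))) (.node (.node (.leaf []) (.leaf [-75741509, 16674105, -209147265, -99797497, 126098367, 3372030, 13722802, 71481307, -7244410, -6274944, 303897, -57608, 234074, 5391, -4523, 22, 1])) (.node (.leaf []) (.leaf [-678842, 149171, -1811670, -842473, 1067823, 25885, 137759, 602583, -64343, -49370, 1366, -618, 1470, 46, 17])))) (.node (.node (.node (.leaf [5, 0, 8, 2,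 -3, 0, -2, -1]) (.leaf [60765761, 6265220, 114000372, 39305224, -56588292, 1344805, -15958510, -22390835, -2940694, -766922, -167850, -415747, 191435, -2593, 6936, 168, 3])) (.node (.leaf [-8053, 580, -18628, -7826, 10326, 99, 1818, 5256, -256, -229, 22, 8, 2]) (.leaf [-209, 9, -481, -203, 271, 1, 44, 134, -3, -5, 1]))) (.node (.node (.leaf [-5004155, 873268, -13018919, -6004975, 7655113, 193435, 1018487, 4246366, -353506, -393320, 18572, -6209, 8604, -72, 154, -9]) (.leaf [-787606, 238386, -2235881, -1088338, 1350701, 53442, 162110, 802063, -91556, -103691, 2376, -6188, 2134, -174, 234, -3])) (.node (.leaf [-12649, 3615, -35690, -17152, 21436, 660, 2459, 12511, -1573, -1168, 29, -33, 46]) (.leaf [122003892, -17194407, 318653457, 148348227, -190338497, -3912633, -22715856, -103952538, 6340588, 9656383, -504044, -26496, -178298, 3199, 4344, 172, -1])))))) (.node (.node (.node (.node (.node (.leaf []) (.leaf [])) (.node (.leaf [-27606598, 7354105, -73857893, -33934688, 42688392, 1331024, 6154735, 24455231, -3488464,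 -1804327, 72460, -70286, 88553, 4141, 1622, -16, -3]) (.leaf [5539775, -595220, 12501311, 5041119, -6653642, -54633, -1413219, -3379386, 323545, 49329, -6330, -16638, -1551, -996, 464, -8, 1]))) (.node (.node (.leaf []) (.leaf [16121398, 4869498, 7179374, -9127650, 7667271, 1872993, -8334018, 9761643, -1000743, -4513530, 101418, -285797, 132408, -11845, 4459, -51, 7])) (.node (.leaf []) (.leaf [-1445318281, 412156761, -4085377531, -1957864459, 2449216721, 75456464, 277341992, 1424283470, -187200784, -120710139, 4429712, -3484798, 5615742, 157814, -3968, 858, -9])))) (.node (.node (.node (.leaf []) (.leaf [])) (.node (.leaf [-797, 66, -1846, -777, 1021, 12, 185, 525, -29, -28, 3, 1]) (.leaf [-22366, 4719, -58385, -26707, 33999, 705, 4785, 19027, -1998, -1497, 35, -22, 40, 0, 1]))) (.node (.node (.leaf [1396, 84, 3209, 1390, -1869, 14, -217, -911, -49, 22, -6, -5, 1]) (.leaf [])) (.node (.leaf [5188497, -2695761, 22395325, 13515908, -16309445, -740993, 343667, -10344674, 837601, 1783249, -49338, 62245, -46981,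 2468, -267, 5, -1]) (.leaf [19506472, -1612440, 48457027, 21550544, -28390479, 60436, -3586850, -14571002, 710687, 466415, -12858, -154870, -7742, -4411, 3785, -155, -3]))))) (.node (.node (.node (.node (.leaf []) (.leaf [-246791503, 81697967, -728491257, -357882640, 443857085, 15403679, 44594242, 263503202, -36900863, -24310338, 830440, -916511, 1175245, 25458, 3573, 166, 3])) (.node (.leaf [19484333, 2168119, 33039433, 8942459, -14094327, 1066147, -5666468, -4072100, -261131, -2184837, -3622, -288915, 42452, -10949, 7795, -133, -3]) (.leaf [43142297, -4732097, 99470838, 40653077, -53727989, -148544, -10377399, -27210640, 2808357, -162500, -53260, -220080, -41207, -12420, 7230, -145, -1]))) (.node (.node (.leaf [-110013, 29844, -310567, -149215, 187495, 5021, 20666, 108193, -12779, -9673, 276, -275, 362, 6, 1]) (.leaf [567105, -296679, 1825130, 918843, -1117531, -50394, -116475, -696689, 134412, 71302, -464, 6030, -3840, -53, -172, -1])) (.node (.leaf [107101177, -25106141, 292336376, 137844372, -174022676,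 -4651110, -20847266, -98995451, 11068797, 8304586, -323489, 135696, -312487, -8077, 1592, -44, 3]) (.leaf [1082, -101, 2595, 1128, -1476, -14, -233, -769, 38, 48, -4, -1])))) (.node (.node (.node (.leaf []) (.leaf [])) (.node (.leaf [-7, 0, -13, -4, 6, 0, 2, 3]) (.leaf [-2286, 219, -5037, -2008, 2648, 23, 595, 1355, -106, -36, 0, 3, -1]))) (.node (.node (.leaf []) (.leaf [1594, -99, 3706, 1576, -2075, -31, -359, -1056, 37, 72, -7, -1])) (.node (.leaf [41112030, 146806, 84602689, 31166790, -43185251, 703180, -10428391, -19149561, 637299, -1349344, -68565, -344594, 31778, -12840, 9718, -136, -1]) (.leaf [-338230579, 22544269, -797526325, -342175743, 451177612, 3533853, 72651193, 229631332, -9303274, -11963827, 1043134, 1213556, 45201, 28442, -33178, 27, 1])))))))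

def twoL124 : Janko.Tree (List ℤ) :=
  (.node (.node (.node (.node (.node (.node (.leaf [1]) (.leaf [1])) (.node (.leaf [-6380476, 1257206, -16031922, -7029416, 9014866, 169700, 1458337, 4928956, -644985, -190091, 10240, 9821, 14519, 1434, -751, 18, -1]) (.leaf [400463, -81480, 1074946, 506124, -640972, -17247, -77990, -361921, 32712, 35345, -1393, 810, -842, 12, -17, 1]))) (.node (.node (.leaf [4266647, -920080, 13391059, 7110708, -8874101, -299860, -404395, -5190099, 229398, 798726, -33780, 22352, -13739, 1470, -508, 30, -1]) (.leaf [1])) (.node (.leaf [1]) (.leaf [1, 0, 2, 0, 1, 0, 0, 0, 0, 0, 0, 0, 0, -1])))) (.node (.node (.node (.leaf [1]) (.leaf [50, -7, 123, 55, -72, -1, -11, -38, 1, 4, 0, 1])) (.node (.leaf [-142543417, -21176404, -240249619, -70990592, 108040738, -3859736, 41671704, 35291149, 9374949, 4112443, 430512, 960779, -585533, 602, -11311, -609, -19]) (.leaf [-762152, 138124, -2117217, -1029610, 1308984, 35448, 130581, 733283, -41326, -93492, 5348, -5018, 1783, -271, 68, -7]))) (.node (.node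 (.leaf []) (.leaf [-41, 5, -98, -45, 54, 0, 6, 36, -2, -1])) (.node (.leaf [10685897, 13007619, -100505, -7429366, 4226847, 2642858, -2518908, 9582280, -6082862, -2711144, -26718, -479874, 209670, -3198, 14968, -24, -7]) (.leaf [-148600, 13717, -332752, -133982, 178714, 356, 38356, 88984, -5638, -3137, 22, 197, -133, -5, 18]))))) (.node (.node (.node (.node (.leaf []) (.leaf [11415, -1115, 22406, 7680, -10351, 100, -3550, -5066, 665, -352, 36, -25, 13, 0, 1])) (.node (.leaf [1127, 1082, -2567, -2949, 3260, 320, -962, 2478, -394, -613, 26, -40, 27]) (.leaf [1]))) (.node (.node (.leaf [1]) (.leaf [-608762, 146926, -1734411, -848826, 1067505, 30328, 104508, 614058, -56348, -66979, 2177, -1831, 1677, -34, 26, -1])) (.node (.leaf []) (.leaf [-3346302, 690378, -8899941, -4143566, 5257108, 133358, 672695, 2955063, -292344, -258011, 9844, -4089, 7258, 95, 99, -3])))) (.node (.node (.node (.leaf [63, -6, 157, 70, -94, 1, -12, -47, 1, 3]) (.leaf [-198389, 50866, -540477, -253478, 318433, 9272, 40349, 183277, -23333, -14529,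 512, -300, 631, 22, 1])) (.node (.leaf []) (.leaf [-1564565, 52205, -4057210, -1949073, 2527295, 52911, 242354, 1341674, 37180, -199142, 12971, -3256, 231, -736, 8, -11]))) (.node (.node (.leaf [1]) (.leaf [1])) (.node (.leaf [-15836, 1956, -38580, -16909, 21890, 426, 3507, 11661, -862, -813, 62, 8, 15]) (.leaf [140079548, -24922879, 358842097, 162145086, -207401739, -4627290, -29695356, -114047902, 11369121, 7996710, -436918, -21571, -279498, -13228, 5823, 40, 7])))))) (.node (.node (.node (.node (.node (.leaf []) (.leaf [35701362, -7461935, 95684487, 44635183, -56637530, -1412420, -7000353, -31785051, 3326974, 2522278, -120206, 15301, -94812, -3331, 1381, -11])) (.node (.leaf []) (.leaf [324, 184, -157, -391, 452, -5, -190, 342, -20, -114, -4, -8]))) (.node (.node (.leaf []) (.leaf [969281, -234893, 2677154, 1269027, -1599130, -46801, -185835, -911571, 106874, 76580, -4387, 1796, -3510, -74, 29])) (.node (.leaf [1]) (.leaf [16, -36, 380, 289, -363, -12, 51, -208, 0, 53, -4, 2, -1])))) (.node (.node (.node (.leaf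 []) (.leaf [-94155358, 23284783, -257997446, -121196243, 152938090, 3973008, 18447048, 87054837, -10847924, -6307322, 261330, -41089, 311525, 15173, -3409, 189, 1])) (.node (.leaf [-1122, 561, -3365, -1647, 1948, 167, 298, 1255, -288, -165, 8, -6, 9]) (.leaf [-518182, 123468, -1415225, -666918, 841970, 22077, 101571, 479201, -54372, -39925, 1462, -650, 1491, 49, 5]))) (.node (.node (.leaf [-43770, -15424, -79272, -31808, 46825, -1000, 8697, 17648, 11314, -6350, 316, -42, -439, -52, 19, -1]) (.leaf [14742635, -10611677, 70831174, 43881835, -52153132, -2863078, 1407606, -34203562, 3646837, 6139775, -178134, 297276, -187951, 8784, -4548, 74, -5])) (.node (.leaf [4527, -1639, 15466, 8290, -10268, -403, -450, -6093, 642, 813, -46, 32, -27, 1]) (.leaf [1]))))) (.node (.node (.node (.node (.leaf []) (.leaf [-1875078, 654385, -6313317, -3414937, 4188596, 169356, 168852, 2551541, -238776, -358526, 12046, -11219, 10534, -353, 75, -1])) (.node (.leaf [-356, 28, -922, -419, 568, -16, 60, 279, 2, -15, 0, 0, -1]) (.leaf [71161188,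 -11231041, 170001795, 71077885, -92701143, -803790, -17102873, -48585263, 6404012, 66371, -78830, -287178, -128133, -22900, 10428, -270, -1]))) (.node (.node (.leaf []) (.leaf [1])) (.node (.leaf [-2817, 2098, -7680, -3158, 3718, 186, 1175, 2495, -1137, 33, -30, -4, 28, 2, -1]) (.leaf [1])))) (.node (.node (.node (.leaf [1]) (.leaf [82002, -17075, 131682, 25326, -32756, -1902, -34711, -15636, 17827, -14735, 168, -1003, -306, -100, 17, -1])) (.node (.leaf [1]) (.leaf [1768, -162, 3808, 1483, -1960, -13, -473, -998, 82, 13, 0, -2, 1]))) (.node (.node (.leaf [1]) (.leaf [-122524658, 22158426, -326963225, -153666949, 195305746, 5086302, 23144321, 109078696, -9009272, -10288726, 521886, -122754, 271065, 562, -3276, -234, -1])) (.node (.leaf [-1764208, 512459, -5252074, -2630073, 3265524, 121056, 283487, 1929310, -214109, -217449, 10407, -8348, 8068, -120, -16, -3]) (.leaf [25470, -5824, 69381, 32724, -41376, -1093, -4952, -23475, 2480, 2066, -78, 57, -70, 1, 1])))))))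

def twoL125 : Janko.Tree (List ℤ) :=
  (.node (.node (.node (.node (.node (.node (.leaf []) (.leaf [196123, -51173, 550814, 264718, -332192, -9533, -36556, -191918, 22090, 17557, -586, 400, -656, -10, -1])) (.node (.leaf [0, 1]) (.leaf [25403637, -5960236, 71467986, 34623736, -43565394, -1251078, -4460174, -24978794, 2450501, 2486064, -97627, 48156, -76808, -286, -7, 13]))) (.node (.node (.leaf []) (.leaf [3308, -424, 7100, 2745, -3622, 21, -939, -1880, 180, 30, 16, -10, 2, 1])) (.node (.leaf []) (.leaf [-12936389, 4734054, -39861256, -20129794, 24782872, 954596, 2129566, 14972188, -2071749, -1579449, 51286, -69685, 70337, 558, 382, -5])))) (.node (.node (.node (.leaf []) (.leaf [138635008, -26756475, 358495603, 162772758, -207600372, -4854187, -29466094, -115052209, 12191478, 8247607, -417661, 56341, -304866, -12329, 3763, 77, 3])) (.node (.leaf [0, 1]) (.leaf [0, 1]))) (.node (.node (.leaf [-2239, 257, -5210, -2179, 2845, 59, 556, 1477, -127, -83, 9, 1, 1]) (.leaf [22, 8, 49, 24, -31, 1, 3, -18, -3, -2]))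 (.node (.leaf []) (.leaf [4781998, -826354, 12422537, 5727096, -7302671, -183908, -974351, -4048858, 331995, 377456, -17462, 5954, -7882, 88, -147, 9]))))) (.node (.node (.node (.node (.leaf [444, -57, 1136, 518, -676, -3, -87, -358, 16, 30, -1]) (.leaf [-4733, 679, -11834, -5272, 6850, 103, 1038, 3642, -245, -302, 11, -6, 1])) (.node (.leaf []) (.leaf [1307, -118, 2720, 1028, -1352, -8, -364, -699, 65, 0, 1, -3, 1]))) (.node (.node (.leaf []) (.leaf [787, -266, 2403, 1163, -1528, 42, -134, -821, 86, 40, 7, -1])) (.node (.leaf [0, 1]) (.leaf [-4913010, 858163, -13303490, -6348629, 8067877, 202667, 870963, 4513925, -316426, -468885, 22002, -6472, 9961, -305, -51, -11])))) (.node (.node (.node (.leaf []) (.leaf [-110870, 29947, -312630, -150110, 188665, 5031, 20860, 108807, -12816, -9714, 277, -275, 362, 6, 1])) (.node (.leaf [-298444, 71088, -811634, -379201, 479402, 13016, 59922, 271039, -33407, -20385, 1350, -343, 1081, 40]) (.leaf [-305968, 50537, -822173, -392286, 498940, 12764, 55193, 278775, -16689, -31865,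 1354, -620, 452, -45, 12, -1]))) (.node (.node (.leaf []) (.leaf [-99582, 8313, -217118, -85075, 114286, -217, 26710, 55948, -3433, -1346, -70, 176, -126, -6, 15])) (.node (.leaf [-5124, 1237, -13428, -6047, 7680, 207, 1153, 4301, -611, -243, 16, -13, 15]) (.leaf [-14127838, 5754433, -52407251, -29760881, 36229966, 1604487, 503898, 22470735, -1916176, -3602267, 125871, -138416, 98240, -5195, 1297, -47, 3])))))) (.node (.node (.node (.node (.node (.leaf [-9, 3, -19, -7, 10, 0, 3, 4, -1]) (.leaf [0, 1])) (.node (.leaf [0, 1]) (.leaf [0, 1]))) (.node (.node (.leaf []) (.leaf [0, 1])) (.node (.leaf [-747809, 176335, -2057762, -976738, 1232139, 34115, 143373, 701732, -76594, -62765, 2774, -1190, 2304, 30, 16]) (.leaf [-112000064, 20306801, -282783120, -125345147, 161164372, 2837282, 24795351, 87648554, -9719769, -4605407, 230030, 118945, 210492, 17997, -3857, 136, -1])))) (.node (.node (.node (.leaf [-7, 2, -10, -4, 4, 1, 2, 3, -1]) (.leaf [-63, -7, -147, -63, 90, -2, 11, 37, 5, -3, 1])) (.node (.leaf [-1486, 183,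 -3589, -1554, 2033, 19, 340, 1062, -72, -68, 4, 1]) (.leaf []))) (.node (.node (.leaf []) (.leaf [0, 1])) (.node (.leaf [-84670028, 20613679, -240958915, -117717692, 147752201, 4479979, 14585550, 85226596, -8312802, -8986613, 349362, -225617, 267756, -1831, 1704, -96, 1]) (.leaf [7228392, 2054609, 10183832, 1980241, -3801127, 526174, -2053490, -306464, -704507, -905961, -8350, -145103, 33445, -3955, 3843, -32, -1]))))) (.node (.node (.node (.node (.leaf []) (.leaf [-78735, 22606, -234259, -117157, 145869, 4853, 12244, 85858, -9370, -9013, 284, -287, 313, -2, -6])) (.node (.leaf [277, -32, 620, 249, -326, -4, -74, -169, 16, 6, -1]) (.leaf [-6738289, -232507, -14221157, -5560955, 7661104, -83582, 1578090, 3466592, 137522, -60221, 16975, 40930, -12731, 222, -909, 6, -1]))) (.node (.node (.leaf [19, -9, 50, 19, -27, 1, -9, -12, 2, 2, 0, 1]) (.leaf [-4991015, 474541, -11033997, -4357676, 5787862, 32804, 1301845, 2890622, -271446, -8057, 4862, 17297, 223, 980, -472, 8, -1])) (.node (.leaf [0, 1]) (.leaf [-20, 7, -74,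 -37, 51, -1, 4, 24, -1, -4])))) (.node (.node (.node (.leaf [366, -33, 931, 429, -560, -3, -66, -296, 5, 28, -1]) (.leaf [1177818, 169959, 2692016, 1241518, -1672648, -8188, -186552, -808701, -158012, 164972, -8336, 441, 5389, 896, -166, 15])) (.node (.leaf []) (.leaf [-11842, -3092, -24524, -10840, 14841, 464, 2142, 6624, 2196, -2001, 194, -49, -53, -12]))) (.node (.node (.leaf [-174401, 46001, -503478, -246648, 310700, 7846, 30144, 178487, -17848, -18464, 434, -537, 505, -6, 7]) (.leaf [-760, -33, -1535, -595, 783, 43, 196, 381, 7, -39, 7, 0, 1])) (.node (.leaf [-1703223, 500657, -5081563, -2546813, 3159832, 118898, 273450, 1869678, -210338, -210672, 10205, -8276, 7970, -110, -16, -3]) (.leaf [-7887643, 1163522, -19260168, -8383509, 10845242, 184999, 1803152, 5804857, -533754, -336936, 16882, 7141, 8453, 673, -288, 1, -1])))))))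

def twoL126 : Janko.Tree (List ℤ) :=
  (.node (.node (.node (.node (.node (.node (.leaf []) (.leaf [])) (.node (.leaf [171377712, 6217561, 314736326, 98473909, -143248580, 5078197, -50125516, -54853347, 1667545, -11635183, -61622, -1624431, 299263, -67375, 38815, -454, 3]) (.leaf [0, 0, 1]))) (.node (.node (.leaf [-9812930, -674147, -22778899, -10131183, 13556451, 142100, 1718459, 6583639, 556278, -775069, 73360, 32662, -15512, -1592, -960, -51, -1]) (.leaf [-5941, 1683, -17955, -9040, 11280, 417, 909, 6571, -707, -747, 45, -28, 26])) (.node (.leaf [116, -19, 296, 134, -172, 0, -22, -96, 7, 5]) (.leaf [-1808073, 481276, -5007883, -2367637, 2973279, 87399, 356930, 1711782, -223131, -134036, 5701, -3167, 6631, 237, -39, 1])))) (.node (.node (.node (.leaf [-628, -1096, 4299, 3916, -4549, -324, 941, -3116, 338, 768, -40, 42, -28, 1]) (.leaf [-70, 6, -177, -80, 106, -1, 13, 54, -2, -3, 0, 1])) (.node (.leaf []) (.leaf [-1208286, 292898, -3353539, -1599582, 2012723, 60844, 228157, 1151530, -129956, -103843, 5416,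 -2504, 4242, 70, -26, -1]))) (.node (.node (.leaf []) (.leaf [0, 0, 1])) (.node (.leaf [0, 0, 1]) (.leaf [-9602576, -5661578, -12647167, -2951443, 6188226, -957318, 1890033, 78354, 2947077, 331966, 56880, 193974, -100748, -2601, -4084, -17, 1]))))) (.node (.node (.node (.node (.leaf [0, 0, 1]) (.leaf [0, 0, 1])) (.node (.leaf [-5876, 1689, -17588, -8814, 10948, 460, 945, 6428, -738, -736, 46, -28, 27]) (.leaf [869, -126, 2000, 835, -1069, -35, -228, -582, 63, 41, -2, -1]))) (.node (.node (.leaf [-5, 0, -6, -1, 1, 0, 2, 1]) (.leaf [0, 0, 1])) (.node (.leaf [213, -61, 535, 228, -294, -8, -62, -159, 28, 11, 1]) (.leaf [-678849, 149170, -1811678, -842475, 1067824, 25885, 137760, 602586, -64343, -49369, 1366, -618, 1470, 46, 17])))) (.node (.node (.node (.leaf [39, 29, -230, -220, 269, 13, -61, 163, 1, -49, 4, -2, 1]) (.leaf [0, 0, 1])) (.node (.leaf [-509101813, 81528801, -1270693714, -561950188, 723454248, 13626246, 111807116, 391506745, -38594698, -22645958, 1419294, 519848, 865906, 62808, -31934, -6, -9]) (.leaf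 [0, 0, 1]))) (.node (.node (.leaf [-5562, 1780, -17791, -9214, 11471, 432, 729, 6722, -726, -820, 48, -32, 28, -1]) (.leaf [-154679135, 67336985, -525455392, -279424768, 341080057, 13807944, 17915740, 210363709, -28692553, -24412593, 768763, -996351, 1104675, 7385, 1564, 116, 27])) (.node (.leaf [31537, -10888, 96957, 49061, -60593, -2155, -4914, -36346, 4718, 3756, -101, 104, -154, -4, -1]) (.leaf [0, 0, 1])))))) (.node (.node (.node (.node (.node (.leaf [0, 0, 1]) (.leaf [220045413, -8233264, 461972556, 174421376, -236824896, 782094, -58080854, -111307873, 6120590, -2159530, -357908, -1058447, 150920, -40180, 25679, -63, 15])) (.node (.leaf [16, -4, 54, 25, -36, 1, -4, -14, 2, 1, 0, -1]) (.leaf [24012585, -4062381, 64767008, 30800604, -39212344, -968489, -4278952, -21824690, 1519386, 2217965, -112644, 23772, -48934, 1126, 382, 47]))) (.node (.node (.leaf [0, 0, 1]) (.leaf [12142, -2579, 32157, 14864, -18924, -401, -2520, -10577, 1080, 878, -27, 10, -22, 0, -1])) (.node (.leaf [-330736, 80273, -924649, -442978,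 558164, 15775, 61029, 318580, -35110, -28764, 1495, -619, 1170, 19, 7]) (.leaf [48, -29, 447, 311, -400, -12, 41, -215, -4, 54, -4, 2, -1])))) (.node (.node (.node (.leaf [0, 0, 1]) (.leaf [-5392638, 579387, -12117560, -4859109, 6420390, 48573, 1386872, 3251744, -320515, -32476, 5502, 17003, 1481, 1032, -477, 9, -1])) (.node (.leaf [0, 0, 1]) (.leaf [32792568, -6715786, 89417163, 42446967, -53778600, -1392845, -6032762, -30298115, 2815215, 2759156, -128083, 29568, -86332, -1201, 1197, 13]))) (.node (.node (.leaf [0, 0, 1]) (.leaf [-14858, 5181, -46761, -23887, 29738, 918, 2220, 17544, -2099, -1953, 56, -66, 72, -1])) (.node (.leaf [67141993, -34426351, 237592242, 128907402, -155538633, -7570211, -7988397, -98571861, 14144164, 13390090, -345150, 776604, -520437, 9295, -12236, 144, 1]) (.leaf [-279391808, 71713618, -768649255, -362171115, 455979302, 12596352, 55357866, 261088637, -32856795, -20333493, 790552, -387114, 936378, 34510, -3207, 273, -1]))))) (.node (.node (.node (.node (.leaf []) (.leaf [])) (.node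 (.leaf [0, 0, 1]) (.leaf [0, 0, 1]))) (.node (.node (.leaf []) (.leaf [-26431, 5841, -70663, -32908, 41691, 1074, 5406, 23533, -2496, -2044, 74, -46, 65, -1])) (.node (.leaf [-36988, 13795, -115553, -58838, 72488, 2610, 5835, 43771, -5925, -4692, 118, -148, 196, 4, 1]) (.leaf [26663353, -5089364, 70908323, 33024102, -42040673, -993140, -5177873, -23406322, 2198137, 1923364, -93017, 4293, -61426, -1866, 870, -1])))) (.node (.node (.node (.leaf []) (.leaf [5200793, -1249408, 13943514, 6443343, -8135498, -221532, -1075615, -4616578, 604542, 305453, -15190, 1666, -17240, -1018, 348, -5])) (.node (.leaf [-761, 85, -1805, -771, 1010, 11, 178, 526, -33, -33, 1]) (.leaf [-5162370, 1071873, -14021307, -6655776, 8415728, 235202, 975730, 4766470, -432504, -473846, 20390, -10852, 12441, -157, 136, -10]))) (.node (.node (.leaf [1, 0, 3, 1, -1, 0, 0, -1]) (.leaf [-171112100, 97139516, -646690488, -361390062, 433877815, 21872146, 14205305, 278056939, -39543856, -39287982, 1054126, -2180874, 1557848, -24446, 29974, -279, 11]))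 (.node (.leaf [0, 0, 1]) (.leaf [0, 0, 1])))))))

def twoL127 : Janko.Tree (List ℤ) :=
  (.node (.node (.node (.node (.node (.node (.leaf []) (.leaf [150114662, -25962393, 381071538, 170908556, -219021723, -4702042, -32335113, -119874178, 11975952, 7986687, -446652, -56217, -282098, -15405, 6825, 22, 9])) (.node (.leaf [39200, -8201, 103646, 47810, -60824, -1386, -8012, -34031, 3563, 2617, -94, 59, -83, 0, -1]) (.leaf [-1974312, -4828994, 16284636, 14974734, -16598889, -1430228, 3371654, -12677405, 1491650, 3174454, -71033, 174300, -100427, 5900, -2321, 7, -3]))) (.node (.node (.leaf []) (.leaf [3024, -419, 6493, 2500, -3309, 45, -864, -1717, 170, 11, 20, -10, 3, 1])) (.node (.leaf []) (.leaf [2046828, -510836, 5701889, 2724633, -3426750, -97007, -382348, -1966903, 225275, 170740, -6286, 2831, -6648, -204, 56, -1])))) (.node (.node (.node (.leaf []) (.leaf [-249417, 58337, -682757, -323439, 408077, 10994, 48130, 232691, -24841, -20907, 710, -412, 657, 10, 3])) (.node (.leaf [-280075971, 25173806, -665902154,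 -286815757, 375541467, 4648219, 61682830, 194532798, -10933215, -11139157, 882088, 667422, 127393, 18783, -21349, -146, -7]) (.leaf [1632, -445, 19148, 14909, -17410, -1782, 3098, -11291, 83, 2730, -313, 31, -114, 10, 4]))) (.node (.node (.leaf []) (.leaf [8030609, -2953910, 27713465, 15116452, -18536508, -743234, -631573, -11297661, 1096558, 1568116, -57608, 50958, -50112, 1175, -341, 7, -1])) (.node (.leaf []) (.leaf [5086558, -894643, 13257595, 6122332, -7802620, -197350, -1032195, -4331414, 362058, 401929, -18862, 6423, -8874, 72, -154, 9]))))) (.node (.node (.node (.node (.leaf [-1, -1, -1, 0, 0, 1]) (.leaf [557947, -139500, 1464723, 663531, -840137, -18770, -124022, -475951, 66649, 26548, 26, -143, -1311, -132, -15, -1])) (.node (.leaf [1755, -164, 4284, 1881, -2491, 8, -370, -1272, 40, 87, -4, -2, 1]) (.leaf [5556, -1818, 16946, 8541, -10642, -314, -891, -6274, 728, 688, -16, 22, -24, 1]))) (.node (.node (.leaf [3204, -553, 8434, 3886, -5003, -108, -643, -2710, 222, 234, -12, 6, -5]) (.leaf [-83560, 21681,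 -237160, -114922, 144165, 4300, 15041, 83273, -9254, -7997, 299, -179, 282, 3, 1])) (.node (.leaf [81520044, -13631760, 215229250, 100481723, -128284734, -3011853, -15558997, -70906396, 5381958, 6590514, -324887, 43076, -148235, 647, 474, 89, 3]) (.leaf [898978, -223734, 2489513, 1180577, -1485638, -44758, -172997, -849268, 103203, 70256, -4018, 1600, -3400, -92, 33])))) (.node (.node (.node (.leaf [-50, -53, -177, -118, 172, -26, -38, 78, 44, -6, -2, 1, -1]) (.leaf [-16878, 16391, -27862, 65, -112, -1807, 11510, 730, -11436, 9030, -821, 399, 107, 62, -3, 1])) (.node (.leaf [6, -3, 28, 16, -22, 0, -1, -10, 0, 3]) (.leaf [-88328, -2687, -223738, -108647, 141386, 3138, 12762, 74379, 6116, -13639, 747, -196, -173, -57, 14, -1]))) (.node (.node (.leaf []) (.leaf [-235, 2, -424, -144, 176, 21, 68, 101, -12, 0, 2, -2, 1])) (.node (.leaf [-1481, 206, -3490, -1463, 1911, 35, 374, 996, -98, -53, 3, 0, 1]) (.leaf [-487259802, 56238042, -1207314403, -537709629, 697436959, 10973236, 100695144, 370330403, -23452519, -25762132,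 1660142, 862246, 480587, 27199, -34647, -174, -3])))))) (.node (.node (.node (.node (.node (.leaf []) (.leaf [32133666, -7302507, 87807741, 41462223, -52400532, -1395039, -6140861, -29702463, 3241609, 2470740, -110382, 29072, -96053, -2880, 1140, -19])) (.node (.leaf [-97999, 24451, -273030, -130750, 164467, 4582, 18400, 94501, -10363, -8770, 282, -197, 292, 4, 1]) (.leaf [1671553, -437503, 4624804, 2187440, -2746626, -83571, -329115, -1580174, 203252, 126639, -6132, 3180, -6265, -193, 50]))) (.node (.node (.leaf []) (.leaf [-742905, 153034, -1961886, -908683, 1154208, 27274, 151816, 648137, -63963, -55159, 1446, -769, 1358, 40, 33, -1])) (.node (.leaf []) (.leaf [2507, -167, 5708, 2362, -3141, -7, -583, -1577, 59, 64, -4, -1, 1])))) (.node (.node (.node (.leaf []) (.leaf [-60, 7, -145, -63, 84, 0, 13, 43, -2, -3])) (.node (.leaf [110248, -27021, 302038, 142745, -179625, -5004, -21483, -103054, 11974, 8643, -299, 185, -337, -6, -1]) (.leaf [-5887, 8213, -39866, -25889, 30348, 1769, -1610, 20490, -3422, -3222,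 160, -216, 203, -8, -3]))) (.node (.node (.leaf []) (.leaf [53480673, -13814680, 154311611, 75929809, -95041176, -2994629, -9028031, -55181276, 5629795, 5872674, -227716, 160640, -186004, 738, -1432, 66, -1])) (.node (.leaf [-1041, 121, -2311, -911, 1192, 27, 279, 614, -76, -5, 4, 0, 1]) (.leaf [99013512, -11184593, 241695013, 105779096, -137817526, -1688148, -21087578, -72374815, 5132044, 3811688, -281994, -279978, -98448, -11991, 9720, -82, -1]))))) (.node (.node (.node (.node (.leaf []) (.leaf [38663, -7167, 96118, 42340, -54259, -1003, -8959, -29858, 3175, 1923, -40, 15, -51, -4, -1])) (.node (.leaf [-126040, 35668, -359742, -174408, 217384, 7261, 23112, 127332, -16052, -11681, 436, -256, 497, 12, -1]) (.leaf [-93874, 27524, -275420, -135601, 169342, 5653, 16355, 98761, -11865, -10000, 414, -330, 390, 9, -3]))) (.node (.node (.leaf []) (.leaf [-35680353, 9029871, -103988036, -52062283, 64818065, 2417023, 5790004, 38083512, -3307564, -4946126, 185752, -187382, 111494, -5490, 3146, -164, -2])) (.node (.leaf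 []) (.leaf [288341, -64944, 792777, 376711, -476249, -12592, -54150, -269958, 27657, 24345, -1154, 519, -844, -11, -5])))) (.node (.node (.node (.leaf []) (.leaf [-2008, 259, -4881, -2106, 2776, 12, 455, 1432, -96, -77, 2, -3])) (.node (.leaf []) (.leaf [210223233, -84071270, 656059433, 331630691, -406785470, -16210771, -35447007, -247922949, 37817522, 24995934, -749456, 1212846, -1254633, -20466, -10488, -105, -3]))) (.node (.node (.leaf []) (.leaf [89491, -24131, 236730, 107257, -134186, -5042, -20354, -77375, 12870, 4261, -394, 156, -375, -26, 11])) (.node (.leaf [3183439, -565064, 7479649, 3064600, -3977759, -52137, -820663, -2107885, 327446, -9399, -1382, -10190, -5653, -1202, 256, -7]) (.leaf [19671135, -4166981, 56524475, 28032514, -35300958, -1011954, -3010619, -20197417, 1511085, 2323576, -98416, 42891, -56249, 1631, 227, 34, -1])))))))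

def twoL128 : Janko.Tree (List ℤ) :=
  (.node (.node (.node (.node (.node (.node (.leaf []) (.leaf [])) (.node (.leaf [-15226006, 2025187, -37040123, -16018347, 20864490, 244662, 3401234, 10974712, -987021, -456740, 32998, 39855, 17387, 2487, -1093, 26]) (.leaf [-7034514, 1675259, -19879352, -9661847, 12142080, 365156, 1231836, 6979357, -684325, -720204, 31434, -18621, 22756, -197, 33, -9]))) (.node (.node (.leaf [1]) (.leaf [-5984, -2116, -48072, -37796, 45632, 3310, -7070, 28286, 3958, -9901, 792, -450, 114, -37, -3, -1])) (.node (.leaf []) (.leaf [903187925, -264459963, 2576539485, 1243497444, -1552210545, -50020574, -171055637, -907418317, 118290426, 81798673, -2920470, 2776450, -3584720, -74134, -13128, 17, 11])))) (.node (.node (.node (.leaf []) (.leaf [49342606, -5896354, 116291507, 49139373, -64166294, -864145, -11702655, -33497509, 2862095, 1470491, -115955, -85311, -35967, -5792, 2140, 34, 3])) (.node (.leaf []) (.leaf [-706, 146, -1506, -567, 704, 12, 193, 422, -94, 38, -6, 2, 0, 3]))) (.node (.node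 (.leaf [1]) (.leaf [-500008, 113034, -1350070, -633897, 801508, 20300, 98981, 455149, -47808, -39670, 1134, -726, 1118, 19, 9])) (.node (.leaf []) (.leaf [1198869, -338708, 3379515, 1636200, -2039415, -73285, -238709, -1197977, 134399, 140633, -3779, 6988, -3391, 158, -234, 3]))))) (.node (.node (.node (.node (.leaf []) (.leaf [2047038, 357563, 2463615, 140337, -528968, 145616, -793953, 187362, -85653, -306603, 8576, -27643, 11935, -916, 469, -10, 1])) (.node (.leaf [3751, -465, 8182, 3225, -4250, 18, -1025, -2210, 192, 49, 16, -10, 2, 1]) (.leaf [-13006099, 2169513, -32537741, -14387115, 18501081, 369250, 2882574, 10034018, -1040115, -577595, 37178, 11157, 23896, 1612, -756, 9, -1]))) (.node (.node (.leaf [873, -90, 2044, 864, -1136, -10, -206, -585, 37, 32, -2, -1]) (.leaf [2199, -152, 4861, 1960, -2572, -43, -542, -1318, 94, 36, -10, -5, 1])) (.node (.leaf [29277912, -5124692, 82343866, 40406709, -51265630, -1241563, -4427002, -28795697, 1795896, 3111794, -141472, 5364, -68690, 955, 1778, 20, -1]) (.leaf [9149938,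 -2309624, 25338147, 12024753, -15125820, -432896, -1756805, -8673489, 1047556, 712019, -30678, 13881, -31646, -957, 317, -5])))) (.node (.node (.node (.leaf [-30624, 2979, -70810, -29346, 39228, -133, 7472, 19551, -976, -880, -11, 16, -34, -2, 5]) (.leaf [64, -9, 159, 69, -92, 0, -15, -46, 3, 3])) (.node (.leaf [1]) (.leaf [-7346234, 1178990, -19391625, -9081572, 11593111, 278987, 1385987, 6408981, -445498, -630210, 32332, -7178, 13056, -411, -60, -15]))) (.node (.node (.leaf [-2773464, 473547, -7717132, -3780082, 4786404, 137322, 446087, 2699399, -149543, -335260, 16972, -8283, 6052, -573, 29, -11]) (.leaf [-194492, 50079, -551274, -266736, 336320, 8546, 35493, 192649, -19937, -19134, 446, -528, 528, -2, 9])) (.node (.leaf [-30597923, -3318495, -60834956, -22713172, 32148831, -658739, 7099560, 13397694, 1670174, 27872, 109186, 242824, -83770, 1172, -5606, -25, 1]) (.leaf [1])))))) (.node (.node (.node (.node (.node (.leaf []) (.leaf [-2088769, 486431, -5617253, -2612628, 3300676, 93360, 427448, 1870443, -224666,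 -145881, 7416, -2922, 6471, 219, -18, -1])) (.node (.leaf []) (.leaf [1163452, -199993, 3956030, 2233721, -2787606, -101474, -29353, -1630226, -4440, 320819, -13882, 10314, -2982, 910, -182, 9]))) (.node (.node (.leaf []) (.leaf [61939, -13435, 172756, 83171, -105432, -2675, -11106, -59465, 5164, 6182, -341, 234, -180, 12, -3])) (.node (.leaf []) (.leaf [-288, -5, -442, -110, 155, -6, 102, 68, 0, 12, -2, 2, -1])))) (.node (.node (.node (.leaf []) (.leaf [33303276, -35818624, 178323562, 111421610, -129853081, -8404131, 2631782, -89006931, 14167564, 15236860, -367258, 1016946, -615369, 17460, -16688, 146, -9])) (.node (.leaf [6331714, -781996, 14709520, 6100049, -7985903, -95991, -1558395, -4141238, 405668, 120588, -10474, -14776, -4415, -1020, 492, -7, 1]) (.leaf [-22466049, 9750968, -71885944, -36762088, 44886194, 1868320, 3668685, 27664609, -4381715, -2859235, 76858, -149846, 147604, 2147, 870, 9]))) (.node (.node (.leaf [94695, -21987, 257314, 121196, -152857, -4244, -18783, -87061, 9644, 7708, -352, 108, -271,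 -10, -3]) (.leaf [1259418, -322501, 3483880, 1649378, -2073935, -61373, -245933, -1189400, 148057, 97107, -4744, 2338, -4597, -134, 31])) (.node (.leaf [1]) (.leaf [76617287, -2696107, 181754464, 79702134, -105170291, -980492, -15384509, -53404320, 195700, 4321001, -315100, -224727, 33398, 4190, 5176, 103, -1]))))) (.node (.node (.node (.node (.leaf [1]) (.leaf [1])) (.node (.leaf [1]) (.leaf [1]))) (.node (.node (.leaf []) (.leaf [6510, -1832, 18406, 8878, -11086, -342, -1230, -6485, 794, 605, -14, 16, -23])) (.node (.leaf [-23, -6, -52, -24, 30, 0, -1, 18, 2, 2]) (.leaf [-59853308, 14578042, -164500883, -77975537, 98129386, 2873480, 11658063, 56220868, -6383858, -5029317, 210314, -131826, 188112, 2452, 238, -53])))) (.node (.node (.node (.leaf [1]) (.leaf [-4218, 609, -10318, -4464, 5835, 56, 956, 3065, -260, -149, 6, -5, 2])) (.node (.leaf []) (.leaf [1]))) (.node (.node (.leaf []) (.leaf [1])) (.node (.leaf [-4122, 785, -11033, -5138, 6653, 72, 837, 3593, -246, -361, 7, -10, 1]) (.leaf [91830365, -21843772,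 251812965, 119125649, -150165314, -4188468, -17734336, -85684254, 9672152, 7314833, -310922, 138486, -285770, -6632, 1864, 17])))))))

def twoL129 : Janko.Tree (List ℤ) :=
  (.node (.node (.node (.node (.node (.node (.leaf [0, 1]) (.leaf [-6, 2, -14, -6, 8, 1, 2, 3, -1])) (.node (.leaf [-37048527, 6207845, -92879315, -41056995, 52862541, 948978, 8135960, 28604402, -3016786, -1481134, 92920, 54513, 68057, 6024, -2543, 48, -1]) (.leaf [494832, -112969, 1322163, 614282, -777815, -18691, -101530, -440324, 49048, 35298, -739, 423, -1075, -45, -13]))) (.node (.node (.leaf [156330311, -70282945, 511380099, 264258293, -322386261, -13181792, -23703052, -199128028, 31662833, 20372149, -545346, 980445, -1093748, -20519, -4622, -277, -7]) (.leaf [0, 1])) (.node (.leaf [-310991671, 19786591, -754370208, -333314407, 437861755, 3765877, 61291274, 225117069, -6673162, -14718192, 1083389, 1173962, 69869, 17714, -36334, 139, 7]) (.leaf [804312140, -244564520, 2300638874, 1109043958, -1382604629, -44932012, -154195899, -810842271,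 111140947, 70484925, -2445081, 2496868, -3355467, -84550, -9074, -253, 7])))) (.node (.node (.node (.leaf [0, 1]) (.leaf [-25496, 1822, -57230, -23147, 31296, -289, 6373, 15162, -473, -573, -22, 33, -45, -2, 5])) (.node (.leaf []) (.leaf [19490, -1887, 41555, 16020, -21182, -73, -5387, -10794, 928, 158, 12, -46, 14, -1]))) (.node (.node (.leaf [6440, -532, 14526, 5933, -7863, -35, -1579, -3975, 231, 141, -12, -7, 4, 0, -1]) (.leaf [-378959, 86454, -1029479, -485007, 612956, 15762, 73872, 348263, -36979, -30140, 1030, -562, 933, 21, 7])) (.node (.leaf []) (.leaf [0, 1]))))) (.node (.node (.node (.node (.leaf []) (.leaf [-32952, 7924, -97392, -48825, 61734, 1457, 4878, 35240, -2558, -4187, 83, -156, 71, -8, -1])) (.node (.leaf [0, 1]) (.leaf []))) (.node (.node (.leaf [0, 1]) (.leaf [0, 1])) (.node (.leaf [-194097, 49742, -552340, -268197, 337013, 9692, 34654, 194026, -20679, -19241, 804, -554, 663, -3, 1]) (.leaf [689169, -617430, 2368046, 1133980, -1316486, -80893, -189730, -903410, 358072, -17416, 1822, 3358,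 -11049, -973, 149, -13])))) (.node (.node (.node (.leaf [0, 1]) (.leaf [0, 1])) (.node (.leaf [217, -40, 474, 187, -237, -5, -63, -134, 21, 3]) (.leaf [-37697707, 9320936, -104192655, -49543425, 62312834, 1834892, 7254100, 35747231, -4097541, -3187041, 134474, -82502, 122798, 2043, -210, -27]))) (.node (.node (.leaf [0, 1]) (.leaf [])) (.node (.leaf [2189, -243, 4619, 1748, -2322, 22, -614, -1187, 113, -14, 7, -4, 3]) (.leaf [-1254, 61, -2893, -1228, 1621, 16, 274, 824, -18, -52, 6])))))) (.node (.node (.node (.node (.node (.leaf []) (.leaf [-12, 3, -23, -8, 11, -1, 4, 6, -1])) (.node (.leaf []) (.leaf []))) (.node (.node (.leaf []) (.leaf [0, 1])) (.node (.leaf [0, 1]) (.leaf [0, 1])))) (.node (.node (.node (.leaf []) (.leaf [0, 1])) (.node (.leaf []) (.leaf [0, 1]))) (.node (.node (.leaf []) (.leaf [0, 1])) (.node (.leaf []) (.leaf [-1702854, -120958, -5440690, -3291613, 4047026, 272773, -9091, 2431555, 347312, -832081, 36134, -41483, -6036, -3439, 1228, -79]))))) (.node (.node (.node (.node (.leaf []) (.leaf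 [5626311, -1430334, 15425198, 7242030, -9121465, -251279, -1117708, -5214152, 670194, 382884, -17620, 6454, -20004, -780, 342, -6])) (.node (.leaf []) (.leaf [43267411, -3389842, 97692571, 39621226, -52712531, -57780, -10395786, -26252162, 1917673, 136630, -51096, -214446, -5419, -9488, 6117, -86, 1]))) (.node (.node (.leaf [0, 1]) (.leaf [-54564, 12177, -153879, -74674, 94421, 2549, 9509, 53564, -4666, -5744, 326, -241, 178, -12, 1])) (.node (.leaf []) (.leaf [27716, -6048, 73490, 34014, -43118, -1062, -5724, -24324, 2614, 1987, -61, 42, -67, 1])))) (.node (.node (.node (.leaf []) (.leaf [708, -73, 1720, 751, -992, -2, -158, -508, 20, 40, -2])) (.node (.leaf [-689, 50, -1593, -676, 882, 12, 149, 463, -21, -21, 1]) (.leaf [-8, 10, -32, -16, 19, 1, 4, 12, -4, -2]))) (.node (.node (.leaf []) (.leaf [195, -6, 442, 184, -247, 0, -45, -120, 0, 8, -1])) (.node (.leaf [0, 1]) (.leaf [89968289, -21446396, 246870667, 116853094, -147280835, -4124512, -17364472, -84069830, 9471010, 7229715, -306425, 144415, -279974, -6091,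 1571, 25])))))))

def twoL130 : Janko.Tree (List ℤ) :=
  (.node (.node (.node (.node (.node (.node (.leaf []) (.leaf [0, 0, 1])) (.node (.leaf [0, 0, 1]) (.leaf [490177, -112392, 1311877, 610213, -772402, -18744, -100265, -437571, 48819, 35244, -754, 434, -1080, -45, -13]))) (.node (.node (.leaf []) (.leaf [])) (.node (.leaf []) (.leaf [917801924, -266049373, 2606246816, 1253877751, -1566231392, -50012410, -175554051, -914105842, 119411140, 81236227, -2916494, 2723522, -3586227, -78844, -12286, 6, 13])))) (.node (.node (.node (.leaf []) (.leaf [330089, -79993, 922715, 442032, -557064, -15683, -60918, -317844, 34926, 28740, -1487, 617, -1162, -19, -7])) (.node (.leaf [0, 0, 1]) (.leaf [348, 1190, -4652, -3922, 4560, 276, -829, 3145, -402, -660, 24, -38, 26, 1]))) (.node (.node (.leaf [1, 0, 0, 0, 1, 0, 0, -1]) (.leaf [-214249, 50613, -583295, -275065, 347024, 9138, 42191, 198029, -21692, -17344, 530, -318, 547, 11, 3])) (.node (.leaf [-2093, 136, -4783, -1982, 2640, 12, 492, 1313, -55, -58, 7, 3, -1]) (.leaf [207876438,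 -57134805, 573282071, 269235482, -337976035, -9811053, -42202184, -194837912, 27052304, 14052639, -562740, 341819, -782998, -35602, 6792, -129, -3]))))) (.node (.node (.node (.node (.leaf []) (.leaf [-124326865, 15850234, -315173224, -143205145, 184803609, 3332200, 24707617, 99467726, -6147463, -8147726, 458740, 105707, 142669, 853, -5601, -142, -1])) (.node (.leaf [2238, -308, 5064, 2106, -2752, 52, -567, -1488, 84, 77, 14, -10, 3, 2]) (.leaf []))) (.node (.node (.leaf [2183, -469, 5855, 2713, -3459, -106, -460, -1911, 205, 176, -10, 7, -5]) (.leaf [2120, -155, 4680, 1880, -2471, -44, -535, -1259, 92, 40, -8, -5, 1])) (.node (.leaf [150134654, -69399121, 531374019, 289608854, -352111133, -14764692, -14026904, -219438565, 27990906, 28388345, -700412, 1145962, -1082017, 8426, -7598, -220, -11]) (.leaf [-678842, 149171, -1811670, -842473, 1067823, 25885, 137759, 602583, -64343, -49370, 1366, -618, 1470, 46, 17])))) (.node (.node (.node (.leaf [-20939, 3412, -52021, -22858, 29696, 441, 4873, 15785, -1368, -1165,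 35, -20, 16, 0, 1]) (.leaf [-1294858, 285998, -3519567, -1659062, 2094772, 57782, 246582, 1188500, -129577, -96809, 4443, -206, 3864, 158, -78, 1])) (.node (.leaf [-496, 34, -1254, -554, 760, -14, 102, 355, 2, -27, 2, 0, -1]) (.leaf [0, 0, 1]))) (.node (.node (.leaf []) (.leaf [0, 0, 1])) (.node (.leaf [313461694, -39264942, 776473675, 344377678, -446431157, -6872619, -65950750, -237495238, 17137006, 15197883, -938766, -583006, -335838, -26910, 22562, -81, 5]) (.leaf [-1362, -4, -2928, -1174, 1561, 22, 311, 769, -8, -23, 8, 3])))))) (.node (.node (.node (.node (.node (.leaf []) (.leaf [0, 0, 1])) (.node (.leaf []) (.leaf [-16318, 3707, -43968, -20520, 26077, 535, 3280, 14671, -1544, -1201, 34, -30, 39, -1]))) (.node (.node (.leaf [96, -14, 250, 117, -150, -1, -17, -83, 4, 7]) (.leaf [14598, -2691, 36999, 16590, -21228, -417, -3220, -11713, 1168, 840, -27, 4, -20, 0, -1])) (.node (.leaf [-1579767853, 249840937, -3968034098, -1766825691, 2273898511, 42541685, 339533163, 1231778615, -115958293, -75312276, 4437572,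 1780425, 2617892, 190066, -103889, 166, -33]) (.leaf [-100, -18, -295, -163, 204, 14, -6, 113, 8, -17, 2, 0, 1])))) (.node (.node (.node (.leaf [-3795, 735, -10313, -4881, 6240, 136, 715, 3447, -272, -344, 12, -8, 9]) (.leaf [-131456368, 57439774, -390997211, -188702857, 231111397, 9240831, 28792561, 141644537, -27525430, -11041488, 180536, -881318, 781881, 22782, 15674, 81, -3])) (.node (.leaf []) (.leaf [13883, -5020, 42088, 21051, -25949, -927, -2404, -15652, 2203, 1577, -34, 51, -69, -3]))) (.node (.node (.leaf []) (.leaf [])) (.node (.leaf [-39535233, 3419605, -89484147, -36260731, 48180385, 47306, 9552323, 24085813, -1960192, -15579, 34598, 201118, 9557, 9556, -6018, 100, -1]) (.leaf [0, 0, 1]))))) (.node (.node (.node (.node (.leaf []) (.leaf [])) (.node (.leaf [1, 0, 3, 1, -1, 0, 0, -1]) (.leaf [103653825, -31679361, 301282294, 146464851, -182798929, -5497388, -18577083, -106911143, 14654564, 8611253, -302972, 158468, -467179, -16846, 6448, -340, -1]))) (.node (.node (.leaf []) (.leaf [-94595, 22399,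 -267116, -130199, 163412, 5276, 16776, 94152, -8819, -10578, 422, -295, 284, -4, 1])) (.node (.leaf [0, 0, 1]) (.leaf [0, 0, 1])))) (.node (.node (.node (.leaf []) (.leaf [1505, -164, 3505, 1476, -1916, -46, -364, -1008, 82, 60, -6, 0, -2])) (.node (.leaf [0, 0, 1]) (.leaf [-2988620, 555160, -7808826, -3597146, 4577923, 117962, 611173, 2548156, -239200, -218218, 11530, -3022, 6391, 56, 47, -5]))) (.node (.node (.leaf [0, 0, 1]) (.leaf [1, 0, 3, 1, -1, 0, 0, -1])) (.node (.leaf [4289409, -266368, 11189270, 5362793, -6930910, -133343, -682856, -3720914, -33182, 508133, -24554, 3354, 808, 1246, -246, 25]) (.leaf [59977010, -14606832, 164839526, 78135704, -98331946, -2878611, -11682026, -56335797, 6396001, 5039548, -210684, 132062, -188441, -2453, -238, 53])))))))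

def twoL131 : Janko.Tree (List ℤ) :=
  (.node (.node (.node (.node (.node (.node (.leaf []) (.leaf [])) (.node (.leaf [15658586, -7662305, 50160300, 25013202, -30593564, -974403, -2705109, -18832408, 3884241, 950936, 2916, 15515, -123631, -8530, 2101, -140, -3]) (.leaf [19367, -4520, 51710, 23999, -30407, -673, -4044, -17223, 1912, 1419, -27, 24, -41, 0, -1]))) (.node (.node (.leaf []) (.leaf [6578, -690, 15641, 6672, -8805, -43, -1517, -4505, 263, 248, -14, -7, 3, 0, -1])) (.node (.leaf [45, -11, 113, 54, -63, -1, -7, -44, 5, 2]) (.leaf [-89, 26, -257, -123, 160, 0, 20, 87, -8, -10, 0, 0, 0, -1])))) (.node (.node (.node (.leaf []) (.leaf [2, 0, 2, 1, -1, 0, 0, -1])) (.node (.leaf [-2222249, -1121627, -2570490, -331153, 972159, -226814, 610449, -205158, 590142, 121388, 3124, 33088, -24812, -699, -416, -11]) (.leaf [-1188, 132, -2739, -1146, 1491, 32, 298, 783, -60, -54, 4, 0, 1]))) (.node (.node (.leaf []) (.leaf [-5610016, 1323596, -15086892, -7006688, 8855083, 233573, 1144016, 5020358, -616388, -364206, 16178,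 -4654, 17152, 754, -195, 3])) (.node (.leaf []) (.leaf [-31412287, 6596332, -85181689, -40181026, 50901624, 1323510, 5954958, 28684954, -2836980, -2501924, 116006, -29125, 84076, 1666, -894, -7]))))) (.node (.node (.node (.node (.leaf []) (.leaf [])) (.node (.leaf []) (.leaf [579, -58, 1345, 562, -739, -9, -136, -379, 29, 13, -1, -1]))) (.node (.node (.leaf []) (.leaf [94686, -21556, 264700, 128351, -161628, -4635, -16884, -92687, 8100, 10207, -284, 301, -238, 16, -6])) (.node (.leaf []) (.leaf [0, 0, -1, 0, 1])))) (.node (.node (.node (.leaf []) (.leaf [293725, -48241, 783149, 371639, -472672, -12289, -54367, -263970, 16240, 29959, -1279, 550, -432, 39, -10, 1])) (.node (.leaf [-59945251, 23223824, -183464945, -91308588, 112524102, 3959245, 10500466, 67921814, -10746846, -5854550, 148592, -237368, 343588, 11493, -492, 118, 3]) (.leaf [-23159962, 4514979, -67195730, -34051301, 42723887, 1434940, 3337136, 24672167, -1196342, -3643941, 140428, -122880, 46986, -7482, 2384, -143, -1]))) (.node (.node (.leaf []) (.leaf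 [23642178, -5545867, 64354074, 30300196, -38219006, -1081344, -4665604, -21771062, 2448659, 1877215, -81350, 42841, -70599, -1374, 140, 15])) (.node (.leaf [-537302, 115592, -1418294, -653940, 830619, 19021, 111773, 466584, -49960, -36765, 867, -366, 1039, 46, 15]) (.leaf [-2112, 112, -4333, -1612, 2151, 26, 594, 1056, -72, -11, 6, 3, -1])))))) (.node (.node (.node (.node (.node (.leaf []) (.leaf [-205562, 30523, -546947, -260528, 331695, 8851, 37071, 184688, -9256, -22175, 990, -472, 250, -38, 14, -1])) (.node (.leaf [-1015, 662, -3895, -2160, 2596, 121, 113, 1666, -271, -227, 1, -13, 10]) (.leaf [0, 0, -2, 0, 1]))) (.node (.node (.leaf [-5, 0, -8, -1, 2, 0, 2, 1]) (.leaf [-1761294, 462005, -4647417, -2090635, 2640469, 69282, 394019, 1495603, -246193, -55927, 4098, 1137, 6973, 604, -211, 5])) (.node (.leaf [2113782, -522138, 6130313, 3025599, -3797070, -117476, -343559, -2186918, 214119, 231900, -11670, 5435, -8274, 92, 111, -1]) (.leaf [3432, -372, 7822, 3211, -4241, 2, -848, -2181, 152, 70, -1, -3, 3]))))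 (.node (.node (.node (.leaf [1, 1, 6, 5, -5, 1, 1, -4, 0, 0, 0, -1]) (.leaf [233244819, -76046005, 691947287, 342075472, -424299351, -14837817, -41108243, -251881157, 33404154, 24933039, -864602, 986590, -1085638, -12285, -7970, 82, -5])) (.node (.leaf [277732, -64308, 758321, 358629, -452762, -12075, -53825, -257783, 27360, 23064, -794, 457, -722, -10, -3]) (.leaf [234, -16, 641, 345, -395, -63, -39, -256, 13, 75, -10, 1, -3]))) (.node (.node (.leaf []) (.leaf [17397084, -4376178, 34575225, 10614443, -14199133, 144936, -6411964, -7031733, 3046664, -1880037, 102019, -79819, -32170, -12304, 2925, -134, 5])) (.node (.leaf [-17276653, 2983880, -45868973, -21466341, 27375513, 632929, 3248246, 15174757, -1215440, -1347580, 65150, -810, 34306, 548, -664, -7]) (.leaf [37514259, -8584846, 129226477, 71513482, -89373052, -2343970, -674005, -52106190, 2398942, 7005413, -297662, -55396, -182738, 4163, 7308, -230, -13]))))) (.node (.node (.node (.node (.leaf []) (.leaf [795383192, -171126326, 2142221534, 1003465772, -1270932587,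 -32891597, -155562008, -716830085, 75104199, 59644453, -2623786, 743374, -2119136, -58022, 22428, 167, 9])) (.node (.leaf []) (.leaf [457843, -97392, 1145163, 502243, -636667, -17190, -107913, -357114, 50978, 16455, -936, -424, -1128, -99, 10, -1]))) (.node (.node (.leaf []) (.leaf [-27350, 5885, -73122, -34080, 43227, 1080, 5522, 24332, -2502, -2103, 82, -44, 65])) (.node (.leaf []) (.leaf [26035, -5931, 69912, 32631, -41282, -1053, -5284, -23400, 2550, 1984, -60, 44, -68, 1])))) (.node (.node (.node (.leaf [-28926224, 5332117, -75400747, -34611951, 44134449, 1066319, 5930025, 24463447, -2318938, -1984780, 102054, -19788, 60923, 1318, -602, -30, -1]) (.leaf [40706, -4761, 97344, 41736, -54777, -578, -9521, -28345, 1869, 1814, -96, -9, -2, 0, -1])) (.node (.leaf [-1, -1, -1, 0, 0, 1]) (.leaf [-64094, 17352, -179388, -85656, 107376, 3415, 12594, 61993, -7795, -5630, 227, -114, 229, 8, -1]))) (.node (.node (.leaf [0, 0, 0, 0, 1]) (.leaf [17499, -1921, 44755, 20892, -26432, -1009, -3059, -14818, 802, 1458, -88,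 27, -21, 4, 5])) (.node (.leaf [807306048, -172521896, 2185958992, 1028009743, -1302429872, -32989491, -154400963, -734033852, 75584112, 60900434, -2777794, 574052, -2212878, -64852, 31532, 42, -15]) (.leaf [52931921, -13015022, 145774407, 69202944, -87036320, -2580202, -10297749, -49943342, 5675956, 4532790, -188620, 128399, -167956, -1748, -572, 63])))))))

def twoL132 : Janko.Tree (List ℤ) :=
  (.node (.node (.node (.node (.node (.node (.leaf []) (.leaf [1])) (.node (.leaf []) (.leaf []))) (.node (.node (.leaf []) (.leaf [])) (.node (.leaf [-136, -21, -360, -179, 238, -3, 2, 121, 15, -8, 1]) (.leaf [-2532, 406, -6743, -3148, 4079, 66, 494, 2185, -124, -231, 9, -6, 1])))) (.node (.node (.node (.leaf [5739, -1692, 19435, 10436, -13113, -388, -477, -7548, 548, 1050, -56, 36, -26, 1]) (.leaf [1])) (.node (.leaf [27380770, -2907440, 57242639, 20996530, -28071138, -162088, -8068610, -13760864, 1848520, -464408, -17678, -64030, -2211, -6213, 1244, 32, 3]) (.leaf [-14754815, -6198141, -10428603, 4547662, -1876572,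 -1887190, 5939602, -6461055, 2117188, 3414370, -50530, 341068, -132874, 8724, -5862, 108, -1]))) (.node (.node (.leaf [-894, 53, -2051, -862, 1131, 21, 202, 580, -26, -32, 4, 1]) (.leaf [6579, 373, 14196, 5884, -7857, -133, -1406, -3805, -216, 335, -52, -23, 10, 0, -1])) (.node (.leaf []) (.leaf [1]))))) (.node (.node (.node (.node (.leaf [1]) (.leaf [1])) (.node (.leaf [-86468674, 19426280, -235575105, -111094327, 140539786, 3598002, 16609622, 79552700, -8471864, -6696560, 276782, -88924, 243343, 5874, -1536, 18, 1]) (.leaf [-48768, 8575, -125725, -57666, 73382, 1645, 9846, 41005, -3604, -3259, 62, 39, 39, 10, 3]))) (.node (.node (.leaf []) (.leaf [-3996119, -7576701, 14367817, 14429901, -15052344, -1756166, 3340548, -13004330, 3070746, 2939737, -40804, 243991, -148825, 3148, -2954, 0, -3])) (.node (.leaf [1]) (.leaf [20004989, -5312267, 57957151, 28593829, -35744407, -1143557, -3383576, -20828961, 2143565, 2264466, -77768, 64777, -68241, 603, -782, 15])))) (.node (.node (.node (.leaf []) (.leaf [-2750, 296,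 -7248, -3324, 4438, -37, 486, 2227, -60, -148, 6, 0, -3, 1])) (.node (.leaf [165, -45, 42, -124, 163, -2, -122, 84, 42, -46, 6, -2, 1]) (.leaf [1]))) (.node (.node (.leaf [-4526, 1639, -15466, -8290, 10268, 403, 450, 6093, -642, -813, 46, -32, 27, -1]) (.leaf [-58795196, 14166907, -156206683, -71282544, 90372993, 2128068, 12491736, 50828156, -7052561, -2703783, 136274, 27797, 194256, 13875, -4308, 147, 1])) (.node (.leaf [2976, -307, 6434, 2510, -3321, 10, -796, -1704, 142, 12, 4, -5, 3]) (.leaf [237922, -22346, 629752, 302452, -388859, -9053, -39278, -211297, 2413, 28575, -1544, 638, -147, 81, -22, 1])))))) (.node (.node (.node (.node (.node (.leaf [1]) (.leaf [190, 84, 362, 143, -214, 6, -24, -71, -41, 6, -6, -1])) (.node (.leaf [1]) (.leaf [-2325679, 716224, -6528795, -3076929, 3845613, 118084, 474248, 2238788, -353006, -143641, 6370, -3978, 10801, 524, -122, 5]))) (.node (.node (.leaf [1]) (.leaf [22862482, -15090653, 75566668, 37206805, -44588432, -1858290, -4950479, -28766988, 7995073, 888827, 50446, 103492,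 -242565, -17412, 2442, -224, -1])) (.node (.leaf []) (.leaf [1])))) (.node (.node (.node (.leaf [1]) (.leaf [1])) (.node (.leaf [192854, 37036, 530102, 290874, -379580, -6969, -6681, -200242, -43094, 56635, -1848, 1038, 1219, 280, -58, 3]) (.leaf [1]))) (.node (.node (.leaf []) (.leaf [186028176, -34820755, 469582221, 208116909, -266798654, -5373424, -41646635, -146026000, 16832570, 7969275, -433152, -104206, -383330, -27176, 8974, -143, 5])) (.node (.leaf [-34132175, 13296365, -113077393, -59594403, 73074751, 2884660, 4007011, 44510039, -5699544, -5069263, 198696, -168914, 230627, 2038, -1452, 34, 5]) (.leaf [-426227, 334429, -1600404, -845838, 998353, 56684, 71218, 663052, -170608, -48676, 1385, -4976, 5975, 242, -8, 3]))))) (.node (.node (.node (.node (.leaf []) (.leaf [11024246, -2560099, 28952683, 13190341, -16713746, -426672, -2404450, -9423550, 1200480, 638094, -24442, 12840, -29513, -1373, 217, -1, 1])) (.node (.leaf [-109620284, 25524055, -304646283, -145987456, 184029582, 5101159, 20038417, 105042803,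 -10814020, -9761718, 397974, -179542, 331530, 2884, -1940, 28, 1]) (.leaf [1]))) (.node (.node (.leaf [3057616, -782435, 7844360, 3452730, -4376599, -111176, -739250, -2461353, 407440, 96699, -5886, 1934, -10211, -773, 74, -1]) (.leaf [1])) (.node (.leaf [1]) (.leaf [11901955, -4522851, 37301128, 19056362, -23395165, -938916, -1890181, -14235412, 1926053, 1618937, -49142, 78159, -65697, 219, -814, 15])))) (.node (.node (.node (.leaf []) (.leaf [1])) (.node (.leaf []) (.leaf [1296137132, -258073053, 3445394343, 1602945670, -2036653426, -50679049, -256711028, -1139587642, 111560278, 95470772, -4400566, 978038, -3053505, -64955, 29379, 547, 31]))) (.node (.node (.leaf [1]) (.leaf [3460410, -2598757, 14640317, 8934140, -10289636, -972573, -305379, -7200964, 755872, 1857922, -24763, 138780, -18187, 4447, -4131, 72, 7])) (.node (.leaf [-160812869, 27751488, -411063259, -185385221, 237569024, 4903200, 33819510, 130066302, -12786252, -8571912, 474168, 122616, 315785, 17806, -9850, 76, -1]) (.leaf [1])))))))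

def twoL133 : Janko.Tree (List ℤ) :=
  (.node (.node (.node (.node (.node (.node (.leaf []) (.leaf [])) (.node (.leaf [6604724, -513921, 14578869, 5776733, -7694026, -34904, -1678018, -3809553, 304844, 11998, -10948, -25999, -391, -1280, 716, -7]) (.leaf [0, 1]))) (.node (.node (.leaf [15985355, -3365647, 40390912, 17758472, -22763066, -377577, -3694325, -12506022, 1658066, 517735, -11169, -18474, -32694, -2956, 696, -56, 1]) (.leaf [])) (.node (.leaf [0, 1]) (.leaf [1804, -438, 4638, 1982, -2582, -13, -412, -1375, 243, -38, -3, 9, -8])))) (.node (.node (.node (.leaf []) (.leaf [263373, -58844, 713701, 335957, -424968, -10852, -51381, -240889, 24972, 21091, -728, 380, -632, -10, -5])) (.node (.leaf [51660287, -1097670, 100268017, 34105641, -47458999, 591627, -15221763, -20822763, 1404902, -1776397, -34624, -267236, 64181, -11061, 6080, 10, 5]) (.leaf [-5178, 1113, -13916, -6558, 8276, 223, 1023, 4719, -449, -466, 21, -13, 12]))) (.node (.node (.leaf [0, 1]) (.leaf [])) (.node (.leaf [0, 1]) (.leaf [71873000,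 -2604323, 151977408, 57907247, -78635745, 340052, -18702566, -36995461, 1812652, -516602, -102340, -356691, 61099, -12785, 6300, -74, 7]))))) (.node (.node (.node (.node (.leaf []) (.leaf [])) (.node (.leaf []) (.leaf [0, 1]))) (.node (.node (.leaf []) (.leaf [-7951967, 1003220, -19255167, -8368449, 10863429, 178343, 1790281, 5757604, -448012, -353122, 22066, 8689, 6978, 448, -450, -3, -1])) (.node (.leaf [-4839, 510, -11396, -4815, 6346, 50, 1139, 3249, -215, -161, 10, 6, -2, 0, 1]) (.leaf [-1256593, 276238, -3414047, -1608877, 2031937, 55820, 239141, 1152058, -125250, -93538, 4318, -115, 3729, 153, -78, 1])))) (.node (.node (.node (.leaf []) (.leaf [10135, -750931, 999766, 644541, -576988, -127968, -69208, -659828, 388621, 62993, 2234, 23787, -12567, -220, -412, 13])) (.node (.leaf [-107820, 26083, -298530, -142446, 179493, 4845, 20355, 102719, -11008, -9426, 310, -206, 304, 4, 1]) (.leaf [3712116, -692382, 10047382, 4777450, -6063420, -163452, -683811, -3401263, 264141, 354583, -17486, 8030, -8110, 333, -8,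 7]))) (.node (.node (.leaf [-9923131, 1795683, -24649198, -10771833, 13838691, 270584, 2284317, 7529574, -896071, -351737, 19664, 10403, 18811, 1723, -673, 14, -1]) (.leaf [-61565710, 10669679, -159872159, -73241662, 93707939, 2016415, 12451683, 51541534, -4603169, -4007331, 199513, 8427, 115702, 3764, -2000, -5, -1])) (.node (.leaf [2207, -476, 4075, 1177, -1511, -23, -785, -837, 361, -259, 24, -5, 0, 0, -1]) (.leaf [115473, -24140, 303644, 139327, -178013, -3330, -24219, -98854, 9995, 7680, -158, 159, -195, -4, -3])))))) (.node (.node (.node (.node (.node (.leaf [-12, 2, -23, -8, 10, 0, 4, 6, -1]) (.leaf [0, 1])) (.node (.leaf []) (.leaf [231698, -62338, 639905, 302216, -378855, -11923, -46641, -218880, 28838, 17907, -735, 482, -821, -32, 3]))) (.node (.node (.leaf [10, -2, 19, 6, -8, 0, -4, -4, 1]) (.leaf [-76638904, 19524033, -217491720, -105614996, 132454733, 4015651, 13643412, 76555123, -8204811, -7582816, 288599, -191592, 257256, 1630, 768, -51])) (.node (.leaf []) (.leaf [-4444627, 253284, -9347209, -3522965,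 4760803, -6886, 1205382, 2271824, -159981, 35476, 2366, 18974, -3795, 780, -401, 6, -1])))) (.node (.node (.node (.leaf []) (.leaf [24462, -5688, 67599, 32243, -40796, -955, -4587, -23167, 2283, 2175, -73, 55, -61, -3])) (.node (.leaf [-11289, 2225, -29067, -13066, 16736, 300, 2379, 9235, -1030, -481, 12, -14, 18, 0, 1]) (.leaf [85206973, -20863362, 233977215, 110236306, -139137445, -3579821, -16501214, -79184965, 9580477, 5938356, -233924, 40084, -273397, -12407, 2561, -170, -1]))) (.node (.node (.leaf [0, 1]) (.leaf [360857, -93897, 986726, 463186, -582653, -15957, -73145, -334826, 42518, 26249, -808, 662, -1133, -36, -3])) (.node (.leaf [-2247738, 351401, -6285244, -3104268, 3933407, 114327, 343029, 2213665, -97165, -292005, 15477, -7502, 4640, -579, 14, -11]) (.leaf [0, 1]))))) (.node (.node (.node (.node (.leaf [0, 1]) (.leaf [0, 1])) (.node (.leaf [91267201, -14694557, 240510486, 112048449, -143427919, -2923705, -17137198, -78844592, 5853936, 6796561, -325970, -40578, -160902, -1990, 3906, 16, -1]) (.leaf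 [195461, -29434, 521711, 249176, -316960, -8620, -35080, -176852, 8862, 21576, -952, 464, -243, 38, -14, 1]))) (.node (.node (.leaf []) (.leaf [1342, -417, 3924, 1921, -2435, -60, -274, -1383, 140, 181, 2, 7, -2])) (.node (.leaf []) (.leaf [0, 1])))) (.node (.node (.node (.leaf [0, 1]) (.leaf [])) (.node (.leaf [-149870, 44605, -438048, -215452, 267684, 9545, 25953, 157867, -20058, -15112, 625, -420, 679, 14, -5]) (.leaf [0, 1]))) (.node (.node (.leaf []) (.leaf [0, 1])) (.node (.leaf []) (.leaf [142912, -36756, 396891, 189134, -237960, -6499, -27626, -136774, 15707, 12329, -344, 307, -411, -8, -1])))))))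

def twoL134 : Janko.Tree (List ℤ) :=
  (.node (.node (.node (.node (.node (.node (.leaf []) (.leaf [-55, 6, -139, -63, 82, 1, 11, 43, -2, -3])) (.node (.leaf []) (.leaf [-2273693, 46462, -5089167, -2086265, 2802888, 3919, 512848, 1353999, -22604, -41343, 8584, 10247, -674, 227, -408, -1]))) (.node (.node (.leaf [0, 0, 1]) (.leaf [0, 0, 1])) (.node (.leaf [-216, 7, -567, -274, 355, -2, 20, 194, 4, -12]) (.leaf [-110286429, 10505245, -249033550, -100873806, 133275620, 1217074, 27635853, 67381275, -5757749, -1336724, 246330, 303997, 45357, 17731, -8038, -25, -7])))) (.node (.node (.node (.leaf [0, 0, 1]) (.leaf [2962578, -717245, 7863874, 3592123, -4548804, -110607, -631984, -2567285, 351686, 145994, -6437, 192, -9392, -618, 187, -5])) (.node (.leaf [49563447, -4599524, 105869273, 40150844, -53619028, -284113, -13806076, -26369552, 2812705, -361712, -57212, -135710, 236, -9767, 2750, 41, 5]) (.leaf [-9592090, -52201306, 143026932, 120936280, -131531253, -13114382, 19356553, -104631469, 19193974, 24788511, -375494,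 1940510, -914228, 46977, -38416, 260, -3]))) (.node (.node (.leaf []) (.leaf [0, 0, 1])) (.node (.leaf [-8897222, 1473765, -21704927, -9385323, 12103073, 233356, 2107088, 6524683, -708118, -346904, 17668, 4508, 12011, 1029, -174, 5, -1]) (.leaf [80696185, -18437928, 219760922, 103487124, -130855226, -3369797, -15630379, -74155459, 8123108, 6123003, -247362, 80207, -230667, -6243, 1764, -45]))))) (.node (.node (.node (.node (.leaf [2, 0, 4, 1, -2, 0, -1]) (.leaf [-3779953, 934046, -9803601, -4369210, 5535204, 136556, 863812, 3115545, -489908, -121354, 6700, 2606, 12607, 1151, -330, 9])) (.node (.leaf [-1031063156, 181049128, -2642558694, -1194140782, 1529450003, 31773448, 216684187, 838902053, -82420954, -56840424, 2998428, 482168, 2010608, 106804, -56034, 39, -15]) (.leaf [56304, -12553, 165805, 83461, -104574, -3853, -8354, -60324, 4510, 7984, -616, 443, -266, 26, 7]))) (.node (.node (.leaf []) (.leaf [-5126343, 525967, -11419621, -4538477, 6011505, 40081, 1331720, 3024078, -298048, -14488, 4950, 17295, 1006,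 1031, -484, 9, -1])) (.node (.leaf [-5, -4, -10, -5, 6, 0, -1, 4, 2]) (.leaf [17664, -4951, 51898, 25708, -32209, -866, -2917, -18740, 1957, 1963, -63, 63, -63, -3, 1])))) (.node (.node (.node (.leaf []) (.leaf [])) (.node (.leaf [0, 0, 1]) (.leaf []))) (.node (.node (.leaf [0, 0, 1]) (.leaf [-1145673, 237357, -3182398, -1542491, 1945437, 56988, 200764, 1108930, -88149, -125142, 5382, -3273, 2804, -136, 38, -3])) (.node (.leaf [0, 0, 1]) (.leaf [299709, -64819, 802498, 374126, -475317, -10754, -60146, -267052, 26988, 22626, -666, 476, -635, -7, -7])))))) (.node (.node (.node (.node (.node (.leaf [6, 3, 16, 8, -12, 0, 0, -4, -2, 1]) (.leaf [-36411, -4603, -83997, -38531, 52047, 150, 5761, 25079, 4473, -4618, 178, -45, -160, -32, 9])) (.node (.leaf []) (.leaf [-2697283, 670791, -7664312, -3725125, 4676712, 141263, 471180, 2693897, -284287, -263123, 11146, -5924, 9312, 106, -56, -1]))) (.node (.node (.leaf [21041, -3430, 52236, 22942, -29798, -443, -4897, -15851, 1378, 1161, -33, 20, -16, 0, -1]) (.leaf [-119065793,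 13864713, -293378345, -129793321, 168535612, 2503776, 24991161, 89242222, -6016259, -5687467, 375998, 248982, 118996, 9671, -8732, 5, -1])) (.node (.leaf [0, 0, 1]) (.leaf [-725311029, 173843529, -2005249406, -953614235, 1201997332, 32933106, 136350174, 686108348, -76935634, -58223137, 2460894, -938700, 2321934, 66782, -24326, 85, 15])))) (.node (.node (.node (.leaf [-50, 10, -125, -56, 72, 1, 12, 39, -4, -3]) (.leaf [99875736, -22792718, 264853704, 121390142, -154049740, -3626412, -20885453, -86479847, 10928187, 5350522, -236594, -18011, -287103, -18253, 4374, -202, 1])) (.node (.leaf [0, 0, 1]) (.leaf [-9020986, 1618587, -22597831, -9979127, 12801822, 269703, 2038367, 6988601, -778125, -400947, 22213, 4283, 16883, 1188, -487, 7, -1]))) (.node (.node (.leaf [75154, -19454, 211748, 102259, -127888, -3861, -13458, -74447, 8572, 6649, -239, 130, -258, -4, -1]) (.leaf [0, 0, 1])) (.node (.leaf [0, 0, 1]) (.leaf [-1945093, 582299, -5394897, -2527077, 3156400, 102312, 405347, 1837651, -289950, -118748, 5765, -2960,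 8621, 498, -98, 3]))))) (.node (.node (.node (.node (.leaf []) (.leaf [-49367295, 5898105, -116346859, -49161729, 64196550, 863847, 11708840, 33512136, -2862538, -1471036, 115930, 85343, 35922, 5790, -2135, -34, -3])) (.node (.leaf [628, 1096, -4298, -3916, 4549, 324, -941, 3116, -338, -768, 40, -42, 28, -1]) (.leaf [29068477, 11912437, 36615666, 5684808, -13529392, 2509900, -8157518, 1199746, -5472162, -2597539, -57480, -512556, 238258, -2540, 10682, -25, 1]))) (.node (.node (.leaf [1810, -93, 2758, 666, -826, -82, -687, -460, 128, -73, 2, -6, -1, 1]) (.leaf [-756, 64, -1819, -808, 1037, 38, 168, 557, -26, -65, 8, -1])) (.node (.leaf [-26, -6, -49, -23, 26, 0, -1, 20, 2, 2]) (.leaf [13418094, -5016456, 41236496, 20751219, -25527519, -991483, -2276787, -15454328, 2216105, 1599084, -48481, 73987, -73251, -789, -559, 3])))) (.node (.node (.node (.leaf []) (.leaf [18739955, -3497447, 50024362, 23420421, -29806072, -710472, -3560879, -16607761, 1472892, 1430060, -68197, 4498, -41935, -942, 702, 3])) (.node (.leaf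 [-1568198, 336284, -4223119, -1976388, 2502413, 65472, 305627, 1410526, -152147, -112290, 5438, -186, 4461, 175, -69, 1]) (.leaf [-43249, 5620, -104698, -45312, 59231, 679, 10013, 30997, -2216, -2062, 94, -2, 10, 0, 1]))) (.node (.node (.leaf [3, 0, 4, 1, -1, 0, -1, -1]) (.leaf [124, -14, 302, 132, -169, 0, -24, -94, 7, 2, -1])) (.node (.leaf [100157971, -25736203, 279699364, 133001523, -167587415, -4283431, -18683245, -95791349, 11911500, 7040060, -273964, 25434, -360765, -17315, 7336, -273, -1]) (.leaf [-43768, 8678, -112183, -50615, 64613, 1296, 9599, 35886, -3762, -2602, 71, -33, 74, 5, 1])))))))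

def twoL135 : Janko.Tree (List ℤ) :=
  (.node (.node (.node (.node (.node (.node (.leaf []) (.leaf [-126540, 24210, -328407, -149712, 191782, 3548, 26693, 105695, -9948, -8239, 224, -132, 183, 5, 5])) (.node (.leaf []) (.leaf [-832, 32, -1896, -798, 1053, 14, 183, 533, -12, -31, 4, 1]))) (.node (.node (.leaf []) (.leaf [-200848, 45399, -535254, -245656, 311466, 8432, 42047, 174296, -22840, -11101, 1145, -61, 783, 41, -1])) (.node (.leaf [24458, -5658, 67052, 31769, -40194, -1029, -4712, -22788, 2342, 2087, -68, 58, -66, 0, 1]) (.leaf [2200, -561, 5642, 2440, -3134, -45, -522, -1720, 301, 6, -4, 7, -8])))) (.node (.node (.node (.leaf []) (.leaf [-1477779, -361572, -1604169, 5883, 273488, -108142, 585821, -235138, 131130, 192373, -3087, 16190, -10705, 223, -209, 0, -1])) (.node (.leaf [50589830, -6176996, 113400932, 44963021, -59348760, -354931, -13269776, -30160011, 3627498, -265607, -38450, -177580, -35483, -12514, 5084, -88, 1]) (.leaf [-3864, 817, -10474, -4992, 6275, 188, 737, 3605, -324, -387, 20, -10, 10])))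 (.node (.node (.leaf []) (.leaf [])) (.node (.leaf []) (.leaf [31478038, -29387279, 147229060, 87736567, -102739071, -6291156, -595707, -69730346, 12284448, 10564157, -208430, 734743, -484640, 7265, -11312, 23, -3]))))) (.node (.node (.node (.node (.leaf []) (.leaf [])) (.node (.leaf []) (.leaf [-27073, 3916, -74477, -36419, 46292, 896, 3925, 26007, -1147, -2756, 72, 42, 4, 6, 3]))) (.node (.node (.leaf [0, 0, -1, 0, 1]) (.leaf [-892, -9, -1941, -791, 1056, 35, 216, 506, 6, -50, 6])) (.node (.leaf [211486, -49996, 569122, 265541, -335804, -8181, -43273, -190805, 21482, 15829, -387, 335, -506, -15, -3]) (.leaf [-2301436, -13143898, 37643851, 31465434, -34433875, -3198969, 5330197, -27002805, 5102890, 5793457, -110390, 415892, -258234, 7398, -4576, 19, -7])))) (.node (.node (.node (.leaf []) (.leaf [-1972, 117, -4481, -1849, 2465, 12, 464, 1222, -49, -51, 7, 3, -1])) (.node (.leaf [1459, 272, 2582, 839, -1255, 72, -332, -456, -126, -78, -3, -8, 7]) (.leaf [-16324837, 4303011, -45371963, -21572751, 27072551, 805285,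 3172112, 15619291, -1940538, -1319528, 50292, -32521, 56973, 1521, -106, 5]))) (.node (.node (.leaf [-1392595647, 202754465, -3404713080, -1479131157, 1915511581, 30192400, 314033170, 1021470117, -98838780, -48669278, 3395500, 2437944, 1952072, 205791, -109846, 740, -35]) (.leaf [-1145606, 237348, -3182233, -1542419, 1945341, 56989, 200748, 1108882, -88147, -125138, 5382, -3273, 2804, -136, 38, -3])) (.node (.leaf []) (.leaf [-25489, 5825, -69195, -32530, 41187, 1019, 5018, 23313, -2474, -2008, 70, -47, 66, -3])))))) (.node (.node (.node (.node (.node (.leaf []) (.leaf [])) (.node (.leaf []) (.leaf [-36676, -4545, -84827, -38970, 52621, 118, 5770, 25405, 4483, -4648, 172, -46, -161, -32, 9]))) (.node (.node (.leaf []) (.leaf [-235, 45, -586, -253, 335, 5, 63, 169, -17, -16])) (.node (.leaf []) (.leaf [84424, -21959, 239760, 116175, -145812, -4257, -15191, -84155, 9343, 8042, -292, 178, -282, -3, -1])))) (.node (.node (.node (.leaf []) (.leaf [])) (.node (.leaf [711496457, -159056297, 1942853679, 919609936, -1161707272,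 -31453073, -135359479, -659474991, 68658949, 58186881, -2460645, 950562, -2007399, -40143, 15926, 299, 5]) (.leaf [99503342, -23058783, 267975688, 124535813, -157717300, -3848618, -19997823, -89011124, 10728341, 6220860, -254540, 11690, -291575, -15209, 3663, -193, 1]))) (.node (.node (.leaf []) (.leaf [])) (.node (.leaf [4459, -1597, 14957, 7943, -9829, -391, -491, -5845, 640, 758, -42, 30, -26, 1]) (.leaf [-561950, 167843, -1478196, -659860, 825867, 26079, 134650, 478232, -89876, -17451, 819, -290, 2267, 216, -22, 1]))))) (.node (.node (.node (.node (.leaf []) (.leaf [-15268, 1712, -39870, -18946, 23872, 991, 2474, 13500, -704, -1416, 86, -31, 22, -4, -5])) (.node (.leaf [0, 0, -1, 0, 1]) (.leaf [205595, -30543, 547074, 260595, -331783, -8851, -37079, -184733, 9262, 22183, -990, 472, -250, 38, -14, 1]))) (.node (.node (.leaf [1, 0, 2, 1, -1, 0, 0, -1]) (.leaf [108662679, -9960018, 248171858, 102661529, -134970368, -1770571, -26614095, -69139894, 4682042, 3296502, -307698, -149374, -21167, -5904, 2530, 247,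 7])) (.node (.leaf []) (.leaf [217655, -51565, 597351, 283523, -357436, -9726, -41858, -204273, 21831, 18588, -609, 422, -581, -8, -2])))) (.node (.node (.node (.leaf []) (.leaf [222702, -63097, 635660, 308114, -383914, -13281, -41093, -224850, 28481, 20952, -856, 541, -921, -22, 7])) (.node (.leaf []) (.leaf [-16701, 921, -37738, -15450, 20925, -192, 4014, 10094, -122, -482, 6, 9, -34, -2, 1]))) (.node (.node (.leaf [82783, -11421, 208034, 93823, -120565, -2467, -17045, -65667, 4603, 5294, -346, 83, -93, 0, 3]) (.leaf [9572, -1594, 24312, 10907, -14139, -132, -2064, -7601, 595, 556, -12, 6, -6, 0, -1])) (.node (.leaf [2572335, -642121, 7380073, 3615090, -4533445, -140716, -434656, -2617335, 268296, 266643, -11620, 5924, -9160, -72, 76, 1]) (.leaf [-32036, 6486, -81238, -36261, 46343, 835, 7256, 25715, -2835, -1705, 18, -17, 50, 4, 1])))))))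

def twoL136 : Janko.Tree (List ℤ) :=
  (.node (.node (.node (.node (.node (.node (.leaf [1]) (.leaf [-66039482, 17736664, -199655684, -102054276, 126812123, 4599295, 9334103, 74892659, -6487402, -9719959, 380210, -327812, 252466, -11316, 863, -183, -1])) (.node (.leaf [-1970620, 449351, -5276602, -2448430, 3096558, 86048, 405312, 1750285, -206679, -136728, 6970, -2551, 5884, 193, -17, -1]) (.leaf [7389633, -1699997, 20175698, 9521976, -12012796, -344056, -1428112, -6831187, 762291, 579876, -29118, 10455, -23550, -523, 235, 1]))) (.node (.node (.leaf []) (.leaf [667875, -150735, 1583138, 650267, -829305, -20295, -181481, -458349, 86460, 1860, -351, -720, -1627, -219, 10, -1])) (.node (.leaf [1237, -104, 2959, 1275, -1686, -1, -260, -861, 39, 36, -3, -2, 1]) (.leaf [1])))) (.node (.node (.node (.leaf []) (.leaf [4386412, -998746, 12254246, 5913118, -7451776, -211402, -782013, -4256589, 406409, 427003, -18108, 9733, -12958, 89, 15, 5])) (.node (.leaf [1]) (.leaf [1]))) (.node (.node (.leaf []) (.leaf [60015789,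 -28813554, 194846492, 98924506, -120642732, -4583292, -9893128, -74617849, 13932224, 5728755, -106430, 234791, -460686, -21302, 3981, -349, -5])) (.node (.leaf [-30915637, 6470202, -78323143, -34560814, 44204543, 876468, 7093121, 24361845, -3217326, -1106576, 43660, 20822, 70042, 6512, -2248, 51, -3]) (.leaf [-24130481, 4388513, -60662564, -26768374, 34303603, 753271, 5390205, 18730728, -2249925, -898476, 74198, 26858, 58407, 5408, -1986, -5]))))) (.node (.node (.node (.node (.leaf []) (.leaf [37404722, -7065631, 99364593, 46291136, -58929247, -1398970, -7258563, -32815875, 3017128, 2747811, -129936, 11474, -83768, -2019, 1610, 5, 1])) (.node (.leaf [1]) (.leaf [-1553940, 411038, -4069136, -1814734, 2298853, 49814, 353480, 1296767, -218416, -36048, 760, 2658, 5425, 591, -120, 7]))) (.node (.node (.leaf [1]) (.leaf [1])) (.node (.leaf [-1, -4, 0, -1, 0, 0, -2, 2, 2]) (.leaf [50023835, -1376019, 114910955, 48804429, -64977282, -399374, -10864567, -32243917, 60413, 2250926, -172407, -149774, 46149, 885, 882, 87,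 3])))) (.node (.node (.node (.leaf [1]) (.leaf [44787956, -18444060, 135215411, 66434297, -81455953, -3318096, -8878945, -49685246, 8691452, 4361115, -127004, 273172, -268052, -6888, -3070, -8, 1])) (.node (.leaf []) (.leaf [-17111381, 4416637, -47464970, -22546524, 28336452, 813876, 3307618, 16293970, -1985428, -1361250, 51926, -30052, 58382, 1661, -271, 5]))) (.node (.node (.leaf [2772, -236, 6457, 2741, -3598, -32, -633, -1862, 90, 110, -10, -1]) (.leaf [13, 0, 32, 13, -17, 0, -2, -8, 0, 0, 0, 0, 0, -1])) (.node (.leaf []) (.leaf [4380554, -999273, 12244922, 5910914, -7448385, -211536, -780183, -4255544, 406319, 427703, -18050, 9749, -12963, 89, 14, 5])))))) (.node (.node (.node (.node (.node (.leaf []) (.leaf [-778917234, 236640104, -2231797531, -1077898849, 1343392206, 44093484, 148524235, 788352326, -106890178, -70007104, 2421920, -2523406, 3231468, 74652, 12626, 135, -11])) (.node (.leaf [-12817508, 13439937, -56062198, -31804402, 36702372, 2581823, 1759293, 25706293, -6207814, -3252308, 43722, -333098,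 213301, 1368, 5832, -37]) (.leaf [1]))) (.node (.node (.leaf [31423, -6484, 82276, 37646, -47970, -1385, -6908, -26561, 2814, 2421, -123, 68, -76, -2, 3]) (.leaf [1])) (.node (.leaf [-82764, 11384, -207652, -93533, 120202, 2455, 17095, 65458, -4603, -5241, 342, -81, 92, 0, -3]) (.leaf [-17975880, 1133002, -35683954, -12238528, 16831797, -141623, 5401709, 7628460, -963811, 762727, 310, 93320, -9639, 5816, -2065, 27, -3])))) (.node (.node (.node (.leaf [-5390, 1110, -13086, -5527, 7041, 271, 1458, 3819, -669, -179, 44, 15, 20, 2, -1]) (.leaf [38562705, -8017434, 102491213, 47468608, -60298370, -1473921, -7749640, -33753540, 3614778, 2571071, -118586, 11466, -98143, -3918, 1567, -25, 1])) (.node (.leaf [28175, -6076, 74577, 34487, -43741, -1070, -5827, -24642, 2618, 2021, -64, 42, -67, 1]) (.leaf [-170823, 34969, -517003, -268903, 334639, 13892, 20597, 195760, -10461, -30271, 1964, -1151, 702, -74, 3, -1]))) (.node (.node (.leaf [41, -19, 138, 70, -92, 0, -9, -48, 6, 7]) (.leaf [-38869916, 10665227, -107515143,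 -50629000, 63662601, 1692088, 7810565, 36623555, -4924358, -2691315, 77210, -52926, 135156, 5427, -546, 85, -1])) (.node (.leaf []) (.leaf [32330142, -11226270, 110470073, 60717057, -74239988, -3342128, -2688120, -45559471, 3592018, 7427287, -255032, 320624, -165271, 12894, -4516, 195, -1]))))) (.node (.node (.node (.node (.leaf []) (.leaf [])) (.node (.leaf [1]) (.leaf [-7578421, 7267040, -42383090, -27579422, 32193917, 2307284, -1230558, 21923845, -2318420, -4757408, 145524, -302378, 120983, -10182, 6394, -138, -1]))) (.node (.node (.leaf [1]) (.leaf [-3564, 223, -8341, -3580, 4691, 88, 790, 2413, -87, -183, 22, 1])) (.node (.leaf []) (.leaf [14249248, -3694263, 39225512, 18522105, -23272514, -680040, -2833981, -13389098, 1675100, 1100538, -41686, 27328, -47754, -1325, 19, -3])))) (.node (.node (.node (.leaf []) (.leaf [-4370, 1459, -15242, -8285, 10349, 320, 314, 6050, -492, -838, 42, -32, 23, -1])) (.node (.leaf [1]) (.leaf [38684, 4420, 89249, 40758, -54954, -178, -6271, -26607, -4400, 4701, -186, 44, 160,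 32, -9]))) (.node (.node (.leaf []) (.leaf [])) (.node (.leaf [-11327, 866, -24818, -9858, 13050, 162, 2915, 6566, -456, -172, 14, 16, -4]) (.leaf [1])))))))

def twoL137 : Janko.Tree (List ℤ) :=
  (.node (.node (.node (.node (.node (.node (.leaf []) (.leaf [-2905, 132, -6726, -2850, 3781, 3, 607, 1908, -46, -71, 10, 5, -1])) (.node (.leaf [0, 1]) (.leaf [8388, -2101, 23166, 11006, -13883, -361, -1647, -7935, 877, 736, -21, 19, -23, 1]))) (.node (.node (.leaf []) (.leaf [0, 1])) (.node (.leaf [1124, -112, 2701, 1155, -1535, -3, -254, -771, 44, 37, -3, -2, 1]) (.leaf [-60445, 17828, -182079, -91520, 115092, 2559, 9424, 66741, -6307, -7515, 27, -242, 153, -7, 10])))) (.node (.node (.node (.leaf [1, 1, 0, 0, 1, -1]) (.leaf [17203, -4248, 46473, 21598, -27327, -655, -3510, -15522, 1910, 1101, -19, 33, -43, 1, -1])) (.node (.leaf []) (.leaf [7126, 60, 15125, 5911, -8047, -28, -1755, -3729, -22, 117, -33, -24, 9]))) (.node (.node (.leaf []) (.leaf [307150538, -34781708, 769270880, 346144989, -448847170, -6734434, -61126953,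 -238626291, 13907916, 17306817, -1031886, -650849, -291376, -16239, 25233, -129, 3])) (.node (.leaf []) (.leaf [0, 1]))))) (.node (.node (.node (.node (.leaf [0, 1]) (.leaf [])) (.node (.leaf []) (.leaf [-1227, 109, -2409, -831, 1100, 25, 380, 548, -83, 30, -1, 2]))) (.node (.node (.leaf []) (.leaf [-10042, 1219, -25073, -11207, 14559, 230, 2086, 7716, -468, -592, 40, -4, 8])) (.node (.leaf [432, -56, 1031, 436, -576, -7, -109, -292, 23, 20, -1]) (.leaf [80828925, -12479830, 202849235, 90505037, -116492263, -2291194, -17421891, -63082525, 5564551, 4336326, -247071, -42552, -120090, -6003, 2442, 46, 3])))) (.node (.node (.node (.leaf [-107, 1, -259, -111, 152, 0, 23, 69, 1, -5, 1]) (.leaf [0, 1])) (.node (.leaf [-558, 24, -1324, -577, 767, -3, 110, 388, 0, -25, 2]) (.leaf [22, -6, 78, 39, -53, 1, -4, -26, 1, 4]))) (.node (.node (.leaf [0, 1]) (.leaf [])) (.node (.leaf [298, 17, 666, 289, -384, -6, -59, -190, -16, 25, -2]) (.leaf [0, 1])))))) (.node (.node (.node (.node (.node (.leaf [0, 1]) (.leaf [-2793, 420,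 -7366, -3419, 4439, 66, 545, 2366, -128, -239, 10, -6, 1])) (.node (.leaf [0, 1]) (.leaf [195754, -63238, 549433, 258758, -321669, -11343, -41306, -189287, 31576, 12760, -592, 372, -913, -62, 11]))) (.node (.node (.leaf [84, -20, 155, 45, -58, -5, -35, -31, 13, -2, 1]) (.leaf [7, 0, 12, 4, -6, 1, -2, -3])) (.node (.leaf [20649497, -8865191, 76264542, 43377893, -52529096, -2656435, -1149801, -32975303, 2798449, 5851350, -189547, 298119, -131068, 10808, -6442, 188, -1]) (.leaf [0, 1])))) (.node (.node (.node (.leaf [0, 1]) (.leaf [49781546, -7420098, 121576757, 52773530, -68262486, -1189489, -11385252, -36489538, 3590896, 1875186, -127746, -64646, -67939, -6492, 2673, -17, 3])) (.node (.leaf []) (.leaf [280588, -61412, 743844, 344504, -436848, -10015, -57625, -246539, 26338, 19630, -214, 35, -490, -36, -15]))) (.node (.node (.leaf [-5294, 4284, -20846, -11401, 13501, 662, 724, 8966, -1980, -912, -2, -70, 73, 2, -1]) (.leaf [7714047, -2013768, 21354592, 10125841, -12705855, -394355, -1518230, -7323735, 917136, 622449,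 -27502, 16903, -27423, -654, 12, -1])) (.node (.leaf [0, 1]) (.leaf [0, 1]))))) (.node (.node (.node (.node (.leaf []) (.leaf [-104430869, 37038462, -334492638, -174269671, 214523443, 8308879, 13851358, 129637625, -14932335, -15925189, 545900, -612721, 564776, -6823, 5733, -88, 7])) (.node (.leaf [-383983045, 32577886, -917874199, -397135673, 520960857, 5254569, 82318119, 268715831, -14104112, -14483855, 1169750, 1209178, 173866, 35456, -36095, 94, -1]) (.leaf [-25894, 6061, -71084, -33640, 42623, 1008, 5007, 24101, -2521, -2137, 70, -48, 66, -1]))) (.node (.node (.leaf []) (.leaf [0, 1])) (.node (.leaf []) (.leaf [-2001628, 479516, -5425612, -2538406, 3199247, 88780, 398256, 1824625, -223996, -135708, 5130, -408, 6147, 338, -95, 3])))) (.node (.node (.node (.leaf []) (.leaf [2774724, -2466532, 13053116, 7838039, -9179291, -577117, 24877, -6207939, 1040751, 946680, -27998, 58805, -44964, 459, -593, 4, -1])) (.node (.leaf []) (.leaf [41017, 3619, 95596, 43709, -58633, -324, -6881, -28766, -4073, 4964, -178, 53,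 156, 32, -9]))) (.node (.node (.leaf [0, 1]) (.leaf [0, 1])) (.node (.leaf [0, 1]) (.leaf [4276729, -1193622, 12119742, 5859892, -7320589, -240446, -813850, -4273796, 505657, 433148, -14449, 16861, -14610, 98, -306, 5])))))))

def twoL138 : Janko.Tree (List ℤ) :=
  (.node (.node (.node (.node (.node (.node (.leaf []) (.leaf [-12127717, 4551029, -40345803, -21511934, 26396018, 1024696, 1343026, 16096263, -1745472, -2118892, 60408, -77952, 67514, -1365, 847, -10, 1])) (.node (.leaf [80169454, -27389133, 239827486, 118562411, -146992890, -4922184, -14007039, -87399396, 12395918, 7883296, -241240, 259314, -400016, -10067, 108, -160, -3]) (.leaf [0, 0, 1]))) (.node (.node (.leaf [-37, -29, 245, 228, -280, -12, 62, -169, -2, 50, -4, 2, -1]) (.leaf [-691900868, 119463054, -1804851143, -829384170, 1061120971, 22307695, 137353941, 583502401, -52186814, -44199552, 2328245, 405998, 1409933, 48875, -38180, 379, -7])) (.node (.leaf [0, 0, 1]) (.leaf [243444566, -53729793, 642352522, 294818250, -374011019, -9345076, -51320759,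 -210192436, 24653961, 15256497, -651864, 218527, -634382, -24471, 5755, -13, 9])))) (.node (.node (.node (.leaf []) (.leaf [3340, 668, 7797, 3589, -5028, 134, -365, -2258, -586, 323, -3, 18, 20, 5, -1])) (.node (.leaf [24143, -5875, 67764, 32528, -41162, -997, -4436, -23344, 2407, 2173, -77, 53, -67, 1]) (.leaf [5696257, -1351865, 15664590, 7423800, -9351089, -271458, -1087823, -5338566, 608618, 452750, -22210, 8176, -19074, -452, 240, -1]))) (.node (.node (.leaf [0, 0, 1]) (.leaf [2524270, -12102921, 25860635, 15413517, -16438044, -1346804, -270128, -13600929, 6801270, -286466, 98130, 78569, -226994, -18774, 3773, -295, -3])) (.node (.leaf [-10850700, 5154150, -35474548, -18182952, 22180818, 846144, 1725778, 13731572, -2385002, -1223054, 14088, -55388, 76763, 2696, -726, 54, -1]) (.leaf [-497431, 123066, -1432524, -706250, 887063, 25843, 83443, 511838, -46416, -57955, 1860, -1649, 1406, -35, 26, -1]))))) (.node (.node (.node (.node (.leaf []) (.leaf [-3153665558, 623450668, -8221498135, -3752367201, 4781229902,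 109905696, 657471815, 2656673042, -285999354, -186143058, 9098528, -250482, 7364209, 353018, -137500, 140, -39])) (.node (.leaf []) (.leaf [9829441, -2563142, 27219252, 12908344, -16200735, -498040, -1929919, -9334677, 1167326, 789036, -34704, 20870, -34946, -881, 54, -1]))) (.node (.node (.leaf [-3, 0, -4, -1, 1, 0, 1, 1]) (.leaf [-3468, 764, -9558, -4571, 5788, 150, 647, 3276, -292, -338, 10, -10, 8])) (.node (.leaf [0, 0, 1]) (.leaf [0, 0, 1])))) (.node (.node (.node (.leaf []) (.leaf [-23135, 6048, -65933, -31935, 40275, 1017, 4184, 23043, -2468, -2217, 68, -58, 68, -1])) (.node (.leaf [-3301, 393, -8343, -3760, 4922, 30, 652, 2583, -118, -192, 6, -4, 1]) (.leaf [0, 0, 1]))) (.node (.node (.leaf [-37, 35, -139, -72, 86, 4, 8, 57, -16, -3, -2]) (.leaf [0, 0, 1])) (.node (.leaf [-957, 75, -2226, -939, 1236, 10, 215, 634, -34, -27, 4, 1]) (.leaf [73713, -17599, 201486, 95110, -120139, -3081, -14505, -68377, 7493, 6015, -197, 136, -198, -3])))))) (.node (.node (.node (.node (.node (.leaf []) (.leaf [39645663,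 20437199, 4116978, -31793943, 28278285, 5968994, -20041174, 32807168, -6289150, -12686335, 187338, -991840, 426294, -30713, 20626, -111, 11])) (.node (.leaf [-838747844, 251873663, -2402915824, -1161589249, 1448266688, 47335587, 158889640, 849086740, -113134402, -76336447, 2661166, -2692812, 3431320, 74166, 13954, 76, -11]) (.leaf []))) (.node (.node (.leaf [0, 0, 1]) (.leaf [636661, -136398, 1736667, 823256, -1040912, -29259, -120335, -588952, 57873, 54953, -2829, 1216, -1818, -3, 0, 1])) (.node (.leaf [-1639, 54, -3543, -1417, 1870, 34, 399, 940, -38, -34, 8, 3]) (.leaf [757540639, -163767268, 2043413954, 958372628, -1213352089, -31686256, -147788742, -684995794, 71687610, 57582567, -2534972, 780680, -2034140, -52668, 19092, 272, 5])))) (.node (.node (.node (.leaf []) (.leaf [58135443, -9141183, 143706639, 62985646, -81267231, -1464072, -13062745, -43740117, 4362324, 2387339, -146327, -65954, -88160, -7616, 3003, -20, 3])) (.node (.leaf []) (.leaf [284223, -61643, 752018, 347840, -441315, -9984, -58482, -248757,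 26415, 19688, -216, 29, -486, -36, -15]))) (.node (.node (.leaf [0, 0, 1]) (.leaf [-81252239, 6842024, -180863659, -71987617, 95917684, 201205, 20459689, 47533538, -4015707, 73204, 119234, 338673, 17375, 16802, -9152, 98, -3])) (.node (.leaf [-75041288, 12815649, -198359839, -92533748, 118078934, 2713589, 14265138, 65352876, -5230586, -5756912, 281382, -7102, 146582, 1890, -3128, -40, -1]) (.leaf [13, -2, 35, 14, -19, 1, -3, -9, 0, 1, 0, 0, 0, -1]))))) (.node (.node (.node (.node (.leaf []) (.leaf [0, 0, 1])) (.node (.leaf [10659859, -1369753, 28303598, 13423152, -17217318, -344549, -1815112, -9414673, 434303, 962791, -45144, -7418, -13086, 474, 552, 11]) (.leaf [0, 0, 1]))) (.node (.node (.leaf [2822, -2099, 7694, 3165, -3728, -186, -1176, -2499, 1137, -32, 30, 4, -28, -2, 1]) (.leaf [-421, 194, -1202, -540, 677, 21, 114, 392, -102, -9, 1, -4, 4])) (.node (.leaf [-330087, 79993, -922712, -442031, 557064, 15683, 60918, 317842, -34926, -28740, 1487, -617, 1162, 19, 7]) (.leaf [0, 0, 1])))) (.node (.node (.node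 (.leaf [0, 0, 1]) (.leaf [208691984, -71364538, 688013974, 367172109, -451560246, -17934434, -22152402, -273388678, 26442567, 37579404, -1360873, 1352716, -1120071, 34067, -14830, 503, -25])) (.node (.leaf [-5, 0, -8, -2, 2, 0, 2, 2]) (.leaf [37153, 4347, 85224, 38751, -52415, -70, -6153, -25199, -4357, 4536, -166, 45, 162, 32, -9]))) (.node (.node (.leaf []) (.leaf [1826, -36, 4044, 1680, -2204, -73, -432, -1114, 14, 105, -12])) (.node (.leaf [-4157, 792, -11110, -5167, 6691, 73, 848, 3613, -250, -361, 7, -10, 1]) (.leaf [-20411292, 4260830, -56210168, -26889235, 34034443, 872690, 3650124, 19235830, -1744507, -1809042, 75552, -19339, 53563, 581, -724, -5])))))))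

def twoL139 : Janko.Tree (List ℤ) :=
  (.node (.node (.node (.node (.node (.node (.leaf []) (.leaf [-99087, 18569, -254090, -114687, 147285, 2448, 21439, 80762, -7632, -5949, 116, -82, 118, 4, 5])) (.node (.leaf [36037487, -29851804, 134657424, 73330045, -84474395, -7127940, -7802183, -59188881, 13002851, 9727643, -290605, 1159914, -439705, 18076, -26688, 857, 5]) (.leaf [271876, -63226, 739015, 345125, -437073, -11830, -54207, -246012, 29654, 18479, -1271, 381, -973, -33, 11]))) (.node (.node (.leaf []) (.leaf [-17669415, -6857957, -27426576, -8006998, 13519996, -1090994, 3957043, 2875134, 3510677, 368082, 98735, 249704, -126964, -2515, -5170, -60, 1])) (.node (.leaf [1546, -107, 3332, 1310, -1726, -20, -392, -881, 63, 8, 0, -4, 1]) (.leaf [-2564509, 461993, -7955279, -4200456, 5271094, 169383, 230159, 3033402, -110897, -450552, 25196, -9413, 9004, -655, 209, -19, 1])))) (.node (.node (.node (.leaf []) (.leaf [34024, -8252, 94526, 45335, -57100, -1503, -6312, -32794, 3306, 3171, -65, 98, -91, 2, -1])) (.node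 (.leaf [154747231, -44001701, 439527322, 212236314, -264947885, -8860771, -29446130, -154781713, 19262366, 14927857, -560891, 564874, -586597, -4814, -5824, 157, 5]) (.leaf [-130420, 16009, -359408, -178093, 226108, 6797, 19718, 126554, -2456, -19027, 948, -466, 154, -43, 8, -1]))) (.node (.node (.leaf []) (.leaf [])) (.node (.leaf [-23221, 6062, -66169, -32040, 40418, 1016, 4203, 23111, -2472, -2222, 68, -58, 68, -1]) (.leaf [564727, -36053, 1515629, 731217, -944244, -14600, -73932, -505566, 8998, 46351, -4144, -2345, -1092, -4, 188, 1]))))) (.node (.node (.node (.node (.leaf []) (.leaf [230, 7, 240, 1, -7, 8, -94, 1, 6, -33, 4, -2, 1])) (.node (.leaf [-27255817, 10877870, -74548604, -33566906, 41434471, 1556069, 7041457, 24859203, -5745572, -909420, 10874, -102354, 147454, 10466, 1030, 74, -3]) (.leaf [5572, -8213, 39145, 25585, -29944, -1759, 1674, -20291, 3420, 3212, -158, 216, -203, 8, 3]))) (.node (.node (.leaf []) (.leaf [-6238, 1136, -15865, -7059, 9121, 156, 1390, 4918, -490, -323, 16, -15, 9])) (.node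 (.leaf [330729, -80277, 924637, 442972, -558158, -15775, -61030, -318574, 35112, 28764, -1495, 619, -1170, -19, -7]) (.leaf [58764676, -10759888, 154959378, 71909567, -91636081, -2194133, -11595060, -50892485, 4522275, 4383404, -211676, 34582, -121346, -1721, 779, 42, 1])))) (.node (.node (.node (.leaf []) (.leaf [-229625377, 21223006, -560428368, -247905690, 323195635, 4417214, 47385454, 169411230, -8099749, -12079832, 778801, 500028, 116598, 7519, -17510, -122, -5])) (.node (.leaf [149, -1, 346, 147, -196, -1, -30, -95, 1, 3, -1, -1]) (.leaf [25815, -9066, 75859, 36933, -45736, -1743, -5079, -27176, 4210, 2479, -70, 89, -130, -7, 1]))) (.node (.node (.leaf []) (.leaf [-7533796, -107243, -12859385, -3479917, 5200030, -199128, 2533745, 1825221, -173260, 577183, -3556, 50192, -15949, 2491, -806, -2, -1])) (.node (.leaf []) (.leaf [-209, 9, -477, -201, 267, 1, 44, 134, -3, -5, 1])))))) (.node (.node (.node (.node (.node (.leaf []) (.leaf [135989, -42598, 403891, 200553, -248191, -9252, -22679, -147718, 19288, 14316,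 -600, 408, -669, -14, 5])) (.node (.leaf [5342, -646, 13297, 5925, -7734, -96, -1141, -4062, 216, 341, -20, 5, -1]) (.leaf [6946254, -5639371, 31856207, 19067427, -22494517, -1305399, 76823, -14994902, 2282908, 2328269, -58444, 134125, -97805, 1601, -1438, 5, -1]))) (.node (.node (.leaf []) (.leaf [893982472, -184869228, 2385267817, 1110680693, -1409499065, -35347641, -177302383, -791176641, 81002166, 64808906, -2928242, 722822, -2234236, -60887, 24144, 412, 7])) (.node (.leaf []) (.leaf [5561, -1596, 18356, 9712, -12220, -353, -551, -7008, 544, 930, -54, 32, -25, 1])))) (.node (.node (.node (.leaf []) (.leaf [-13392, 3606, -37556, -18018, 22594, 653, 2564, 13091, -1537, -1224, 32, -35, 44])) (.node (.leaf [27882, -5913, 74529, 34750, -44104, -1075, -5589, -24795, 2498, 2137, -84, 44, -65]) (.leaf [55453510, -23317087, 171037029, 85443988, -104504099, -4375977, -10326082, -64135750, 10703495, 6223162, -165598, 369833, -336613, -6090, -4475, 5, 1]))) (.node (.node (.leaf []) (.leaf [1, 0, 0, 1, 0, 0, 0, -1]))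 (.node (.leaf [38819545, -9440525, 107889663, 51565743, -64873302, -1880055, -7243291, -37183920, 4130340, 3337369, -140336, 63884, -126147, -2595, 792, -2]) (.leaf [-99822069, 22775592, -264689740, -121307083, 153946627, 3623072, 20877282, 86418646, -10921219, -5343765, 236391, 18218, 286872, 18247, -4376, 202, -1]))))) (.node (.node (.node (.node (.leaf []) (.leaf [-196311265, 62381495, -579772728, -286187695, 355385025, 12196179, 34467947, 210408464, -27310392, -20719670, 694044, -755087, 876916, 10977, 3966, 17, 1])) (.node (.leaf []) (.leaf [-25879, 6057, -71046, -33624, 42601, 1009, 5002, 24091, -2520, -2136, 70, -48, 66, -1]))) (.node (.node (.leaf []) (.leaf [-3705390, 967198, -10310877, -4902068, 6159983, 176667, 711903, 3542686, -439199, -289069, 11258, -5879, 13061, 430, -110, 3])) (.node (.leaf []) (.leaf [425927, -59434, 1054309, 465054, -601514, -12267, -93996, -321302, 26448, 22428, -1924, 413, -610, -4, 4, 1])))) (.node (.node (.node (.leaf []) (.leaf [-1826, 174, -4472, -1966, 2605, -8, 385,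 1329, -42, -93, 4, 2, -1])) (.node (.leaf []) (.leaf [44122, 3538, 103060, 46992, -63009, -305, -7459, -30955, -4089, 5100, -198, 51, 158, 32, -9]))) (.node (.node (.leaf [-42920, 4871, -102171, -43651, 57350, 570, 10063, 29608, -1912, -1835, 98, 10, 0, 0, 1]) (.leaf [969, -45, 2255, 944, -1281, 11, -213, -612, 6, 23, 0, -1, 1])) (.node (.leaf [-761772, 157910, -2018854, -938523, 1190202, 30046, 154908, 670402, -65744, -59693, 1926, -1138, 1550, -4, 50, -1]) (.leaf [-36344745, 6892910, -95630273, -44040844, 56217362, 1197037, 7247345, 31111839, -3081529, -2251411, 106116, 17359, 81444, 4028, -1953, 33])))))))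

def twoL140 : Janko.Tree (List ℤ) :=
  (.node (.node (.node (.node (.node (.node (.leaf []) (.leaf [1])) (.node (.leaf [33606761, -35903892, 179163875, 111815646, -130348948, -8417050, 2569933, -89291400, 14208144, 15255908, -368014, 1017276, -616550, 17408, -16682, 145, -9]) (.leaf [1]))) (.node (.node (.leaf [931270763, -169126623, 2436609679, 1121581032, -1431472942, -32354296, -186688803, -792041875, 73705502, 62068346, -3150120, 97374, -1967127, -62616, 36858, 477, -5]) (.leaf [93632827, -15273835, 241168454, 109909557, -140909304, -2893832, -18954162, -77074352, 6678935, 5715518, -313352, -59282, -171353, -6678, 5453, -7, 1])) (.node (.leaf []) (.leaf [-62429, 17486, -177342, -85636, 106997, 3580, 11856, 62250, -7783, -5949, 232, -125, 237, 8, -1])))) (.node (.node (.node (.leaf []) (.leaf [])) (.node (.leaf [22529, -5593, 63816, 30809, -38944, -961, -4044, -22144, 2289, 2087, -77, 55, -67, 1]) (.leaf [379266, 505732, 2130088, 1880757, -2275840, -212636, 367074, -1415963, -560948, 808723, -34104, 39766,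 11120, 3916, -1224, 81]))) (.node (.node (.leaf []) (.leaf [135147016, -10044669, 312991392, 130532523, -173156157, -473286, -30543904, -86810055, 5323224, 1794187, -296424, -660141, -47000, -25419, 18869, -285, -3])) (.node (.leaf [1]) (.leaf [-234987, 78302, -715795, -360502, 447927, 14007, 37854, 265716, -31999, -28522, 483, -858, 941, 23, 10]))))) (.node (.node (.node (.node (.leaf [-19619193, 5092951, -54980512, -26343099, 33066349, 977364, 3676866, 19067025, -2254660, -1683363, 65946, -38732, 68697, 1581, -380, 3]) (.leaf [1])) (.node (.leaf []) (.leaf [1]))) (.node (.node (.leaf []) (.leaf [513, -166, 1307, 541, -708, 5, -147, -374, 88, -12, 0, -1, -1])) (.node (.leaf [-10879, 2566, -39606, -22728, 27778, 1890, 238, 16707, -642, -3584, 466, -330, 154, -24, -7]) (.leaf [31771691, -9850960, 91529141, 44170755, -55066076, -1730432, -5948127, -32279275, 4622559, 2532750, -90685, 62908, -144091, -5970, 1616, -63])))) (.node (.node (.node (.leaf []) (.leaf [1])) (.node (.leaf []) (.leaf [1]))) (.node (.node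 (.leaf [-485795, 84258, -1274410, -592827, 755673, 18222, 95718, 420099, -32204, -40570, 1634, -770, 747, -34, 12, -1]) (.leaf [-49635415, 7558686, -127466080, -58717378, 74951288, 2034174, 10140593, 41397142, -2774407, -4356202, 230219, -110784, 68816, -6030, 2344, -216, -1])) (.node (.leaf [1]) (.leaf [30456694, -5738845, 82118311, 38795895, -49297075, -1220042, -5628697, -27574431, 2344902, 2537631, -119300, 18971, -70001, -649, 1045, 21])))))) (.node (.node (.node (.node (.node (.leaf []) (.leaf [])) (.node (.leaf []) (.leaf [-1263907, 333479, -3422965, -1584592, 1993584, 57956, 266007, 1141205, -163614, -73732, 4012, -1627, 4851, 234, -48, 1]))) (.node (.node (.leaf []) (.leaf [-11893590, 4833836, -38365263, -19464914, 24185015, 675324, 1750875, 14322243, -2268621, -1083925, 28792, -12438, 75222, 5658, 2006, 61, 3])) (.node (.leaf []) (.leaf [-524826, 126152, -1497516, -734116, 923540, 25937, 89491, 531085, -47514, -58855, 1844, -1672, 1403, -37, 24, -1])))) (.node (.node (.node (.leaf []) (.leaf [1])) (.node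 (.leaf [1]) (.leaf [-57485295, 12979904, -159823159, -77124685, 96933638, 3077172, 10430018, 55650013, -5234671, -5946563, 267110, -172519, 168911, -3109, 441, -145, -1]))) (.node (.node (.leaf [806198, -163236, 2345817, 1182634, -1484239, -50047, -116916, -854486, 51981, 116339, -5910, 3589, -2319, 192, -30, 3]) (.leaf [1])) (.node (.leaf [-482209, 742648, -303738, 712865, -816224, -163462, 529222, -568080, -671630, 736662, -30284, 37810, 14807, 4013, -1264, 81]) (.leaf [-125943085, 58851429, -414913247, -215459284, 261705971, 11700750, 19533209, 163197875, -26241814, -17977525, 504719, -1014510, 908663, 7878, 9938, 15, 3]))))) (.node (.node (.node (.node (.leaf [1]) (.leaf [1])) (.node (.leaf [2390735, -748858, 7707972, 4080470, -5032816, -192225, -263444, -3026318, 272301, 411440, -14188, 12530, -11444, 412, -101, 3]) (.leaf [-168378559, 14153462, -414015734, -184923898, 241079056, 3298795, 33434946, 126333251, -4956431, -9656051, 631168, 401362, 80868, 2960, -14591, -90, -1]))) (.node (.node (.leaf []) (.leaf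 [1])) (.node (.leaf []) (.leaf [-145933, 31218, -389015, -181169, 229278, 6183, 29418, 129572, -13642, -10991, 423, -158, 334, 4, 5])))) (.node (.node (.node (.leaf [-2, -1, -2, 0, -1, 1, 0, 1]) (.leaf [16711154, -5515967, 48742202, 23615664, -29409189, -887009, -3116438, -17309644, 2588460, 1314098, -35378, 30077, -78493, -3382, 557, -61])) (.node (.leaf [14926871, -4508280, 45597826, 23246048, -28853111, -979774, -2173113, -17120642, 1757098, 2031996, -59934, 61646, -60527, 906, -521, 7]) (.leaf [-1977937, 930621, -6800556, -3651586, 4426262, 201268, 245507, 2777876, -377118, -370388, 8788, -19520, 13424, -284, 389, -3]))) (.node (.node (.leaf []) (.leaf [1])) (.node (.leaf [-7899, 616, -16606, -6279, 8340, 128, 2222, 4134, -384, -32, 12, 18, -4]) (.leaf [646228, -132678, 1744304, 824096, -1044027, -27308, -124139, -589252, 52855, 57624, -2178, 1213, -1387, 19, -16, 1])))))))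

def twoL141 : Janko.Tree (List ℤ) :=
  (.node (.node (.node (.node (.node (.node (.leaf [0, 1]) (.leaf [])) (.node (.leaf []) (.leaf [11518522, -3417123, 28919790, 12112900, -15342312, -387819, -3078728, -8599266, 2072892, -210031, -18661, -20220, -55727, -6344, 1370, -60, -1]))) (.node (.node (.leaf [0, 1]) (.leaf [1836121, -10431861, 31340594, 22990062, -25037382, -2738767, 1651592, -19799840, 4045773, 4560552, -80013, 430330, -164134, 9187, -9074, 176, 3])) (.node (.leaf [0, 1]) (.leaf [-1342, 418, -3924, -1921, 2435, 60, 274, 1383, -140, -181, -2, -7, 2])))) (.node (.node (.node (.leaf [0, 1]) (.leaf [0, 1])) (.node (.leaf []) (.leaf [66641183, -15067143, 183349296, 87013446, -109973669, -2886742, -12374981, -62325678, 6680531, 5182737, -242242, 47388, -207501, -6566, 3669, -42, -1]))) (.node (.node (.leaf []) (.leaf [415722710, -73277571, 1111966959, 522167146, -665900436, -14773152, -76451894, -369205158, 30459300, 31437108, -1582510, -137923, -916762, -22470, 26356, -51, -17])) (.node (.leaf [28696896,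 -23040022, 113968643, 62908505, -74178569, -4146141, -3655250, -49586584, 10652138, 5527578, -68436, 435121, -368190, -6015, -5386, -98, -1]) (.leaf [77735063, -24509724, 236061915, 120143092, -148335013, -5994204, -12381572, -88987706, 9450796, 11637216, -399992, 554292, -325312, 13572, -9248, 326, 3]))))) (.node (.node (.node (.node (.leaf []) (.leaf [-107017, 25928, -296543, -141584, 178364, 4834, 20148, 102128, -10950, -9377, 311, -206, 304, 4, 1])) (.node (.leaf [37419078, -7883568, 101470698, 47964459, -60700431, -1645291, -7146560, -34303071, 3283869, 3215076, -145553, 67188, -97058, -71, -114, 61]) (.leaf [128854565, -24688929, 339893875, 157467908, -200356332, -4946379, -25813735, -111700489, 10577057, 9446854, -444689, 100605, -280309, -5218, 1356, 102, 3]))) (.node (.node (.leaf [0, 1]) (.leaf [-1606, -5, -3516, -1459, 1914, 68, 371, 964, 4, -94, 12])) (.node (.leaf [0, 1]) (.leaf [78744443, -6463084, 174860295, 69307371, -92445408, -138084, -19768046, -45627800, 4044356, -504417, -99317, -394484,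 -19439, -20772, 12053, -196, 5])))) (.node (.node (.node (.leaf [0, 1]) (.leaf [-108411, 20618, -279219, -126419, 162251, 2689, 23275, 89125, -8457, -6610, 130, -95, 138, 4, 5])) (.node (.leaf [0, 1]) (.leaf [-88, -1097, 5312, 4247, -5024, -297, 788, -3319, 339, 736, -37, 40, -26, 2]))) (.node (.node (.leaf []) (.leaf [])) (.node (.leaf []) (.leaf [-43971, 8638, -122178, -58800, 74895, 1764, 7640, 41803, -3113, -4402, 268, -217, 117, -18, 4])))))) (.node (.node (.node (.node (.node (.leaf []) (.leaf [212574, -54754, 586972, 277738, -348908, -10613, -41862, -200558, 25044, 16655, -747, 420, -727, -26, 3])) (.node (.leaf []) (.leaf [0, 1]))) (.node (.node (.leaf []) (.leaf [-2398, -529, -4430, -1731, 2315, 80, 504, 1076, 257, -163, 28, 24, -8, 0, 1])) (.node (.leaf [0, 1]) (.leaf [-5626311, 1430335, -15425198, -7242030, 9121465, 251279, 1117708, 5214152, -670194, -382884, 17620, -6454, 20004, 780, -342, 6])))) (.node (.node (.node (.leaf []) (.leaf [928604, -209629, 2610545, 1287575, -1609140, -63314, -169757,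 -937158, 65951, 139667, -5335, 7178, -1777, 336, -271, 7])) (.node (.leaf [52240, -11850, 142315, 67121, -85008, -2093, -10163, -48074, 4972, 4250, -154, 94, -130, -1]) (.leaf [-20228134, 5124992, -59754025, -30373805, 37642777, 1585293, 3150283, 22332609, -1734963, -3285121, 140830, -154521, 68433, -6527, 1935, -157, -1]))) (.node (.node (.leaf []) (.leaf [])) (.node (.leaf [-3379, 277, -7506, -3030, 3995, 51, 858, 2032, -136, -80, 8, 4]) (.leaf [0, 1]))))) (.node (.node (.node (.node (.leaf []) (.leaf [-280588, 61413, -743844, -344504, 436848, 10015, 57625, 246539, -26338, -19630, 214, -35, 490, 36, 15])) (.node (.leaf [0, 3, -3, -2, 2, 0, 0, 2, -1]) (.leaf [0, 1]))) (.node (.node (.leaf []) (.leaf [-2949, 196, -7053, -3062, 4039, 51, 631, 2051, -65, -151, 16, 1])) (.node (.leaf [0, 1]) (.leaf [946284, -162202, 2382444, 1062787, -1364176, -27775, -208755, -745094, 71783, 52035, -2253, 118, -1302, -81, -26, 1])))) (.node (.node (.node (.leaf [360, -44, 935, 432, -563, -4, -68, -298, 12, 28, -2]) (.leaf [-4,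 3, -11, -4, 6, 0, 2, 2, -1])) (.node (.leaf [0, 1]) (.leaf [2793, -419, 7366, 3419, -4439, -66, -545, -2366, 128, 239, -10, 6, -1]))) (.node (.node (.leaf [7, 1, 12, 4, -4, -1, -2, -3]) (.leaf [22616, -1574, 50621, 20404, -27669, 301, -5694, -13316, 368, 506, 28, -29, 44, 2, -5])) (.node (.leaf [-5001, 480, -11184, -4508, 5961, 55, 1287, 3023, -226, -103, 5, 6, -3]) (.leaf [0, 1])))))))

def twoL142 : Janko.Tree (List ℤ) :=
  (.node (.node (.node (.node (.node (.node (.leaf []) (.leaf [27, 6, 57, 21, -34, 1, -7, -8, -3, 1, -1])) (.node (.leaf [75640986, -60714319, 349904591, 211054585, -249183850, -14541268, 1464447, -165924378, 23472434, 27516427, -703904, 1638346, -1021791, 31346, -26544, 304, -17]) (.leaf [-143469439, -664003, -269426939, -86567321, 123775839, -3507236, 42490890, 50128129, -3322279, 8771567, -33220, 1191533, -212240, 51442, -30323, 509, -19]))) (.node (.node (.leaf []) (.leaf [0, 0, 1])) (.node (.leaf []) (.leaf [-490463, 93177, -1291687, -600406, 763119, 19474, 99061, 426965, -37407, -40535,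 1590, -711, 899, -12, 21, -1])))) (.node (.node (.node (.leaf []) (.leaf [808251, -141435, 2251389, 1099958, -1394521, -37457, -130176, -784494, 46970, 92274, -4528, 1773, -1808, 127, -2, 1])) (.node (.leaf [0, 0, 1]) (.leaf [0, 0, 1]))) (.node (.node (.leaf []) (.leaf [0, 0, 1])) (.node (.leaf []) (.leaf [-32492671, 7902529, -89264071, -42249046, 53196195, 1540538, 6321585, 30429398, -3512754, -2626895, 113288, -60092, 103725, 2349, -384, -12]))))) (.node (.node (.node (.node (.leaf []) (.leaf [-433666, -1634825, 1097299, 901035, -626535, -242556, -67407, -1078620, 858259, 71039, 13384, 45280, -25947, -886, -781, 5])) (.node (.leaf [0, 0, 1]) (.leaf [6100, -1766, 18723, 9508, -11869, -432, -892, -6910, 726, 810, -48, 30, -28, 1]))) (.node (.node (.leaf []) (.leaf [-898, -10, -1947, -792, 1056, 35, 217, 508, 6, -49, 6])) (.node (.leaf [-6334, 679, -14888, -6293, 8278, 74, 1501, 4259, -283, -227, 14, 6, -2, 0, 1]) (.leaf [-3557446, 869744, -9162618, -4056776, 5146213, 122965, 823556, 2887289, -461029, -99673,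 5812, 3188, 11659, 1129, -323, 9])))) (.node (.node (.node (.leaf []) (.leaf [66, -9, 171, 76, -102, 0, -14, -50, 3, 3])) (.node (.leaf [267, -32, 601, 243, -319, -4, -71, -164, 15, 7, -1]) (.leaf [2272, -3144, 12562, 7435, -8808, -420, -88, -5840, 1435, 651, 6, 41, -54, -3, 1]))) (.node (.node (.leaf []) (.leaf [-188845, 55295, -551374, -270397, 338710, 9874, 33168, 196874, -23143, -19239, 505, -670, 679, 7, 4])) (.node (.leaf [6431, -499, 14168, 5654, -7514, -22, -1631, -3774, 231, 89, -8, -9, 5, 0, -1]) (.leaf [0, 0, 1])))))) (.node (.node (.node (.node (.node (.leaf []) (.leaf [-487315, -9313, -1216277, -572923, 755086, 10856, 78381, 384909, 26535, -60283, 3732, -600, -699, -194, 55, -5])) (.node (.leaf [0, 0, 1]) (.leaf []))) (.node (.node (.leaf []) (.leaf [0, 0, 1])) (.node (.leaf [-67, -21, -144, -71, 90, 5, 4, 49, 13, -11, 1]) (.leaf [-42826802, 8853759, -113637710, -52640890, 66842746, 1674076, 8653301, 37456524, -3931710, -2980997, 139108, -33266, 107131, 3176, -1110, -12, -1])))) (.node (.node (.node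 (.leaf [5510, -1772, 17658, 9154, -11391, -432, -717, -6682, 724, 816, -48, 32, -28, 1]) (.leaf [32230547, -5932183, 80439655, 35353043, -45368524, -899432, -7392279, -24778419, 2856762, 1328216, -57280, -21040, -56201, -4892, 1370, -27, 3])) (.node (.leaf []) (.leaf [-36356924, 11428680, -114147311, -59439897, 73254620, 3002137, 4842212, 44086546, -4295849, -5989368, 233665, -246756, 172635, -6980, 1968, -141, 1]))) (.node (.node (.leaf []) (.leaf [695, -72, 1633, 696, -909, -11, -161, -476, 31, 28, -2, -1])) (.node (.leaf [82806968, -16362661, 229431721, 110801640, -140124163, -3865128, -14194999, -79253921, 6392260, 8200891, -383364, 109868, -214356, 1630, 1818, 91, -1]) (.leaf [194, -18, 489, 218, -292, 2, -42, -145, 2, 15, -1]))))) (.node (.node (.node (.node (.leaf [-3, 0, -4, -1, 1, 0, 1, 1]) (.leaf [10933317, -2830335, 30212970, 14322164, -17988703, -530067, -2147373, -10359181, 1268036, 881054, -32189, 21928, -36321, -984, 58, 3])) (.node (.leaf [0, 0, 1]) (.leaf [50912911, -12215551, 140788230, 66974487,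 -84392791, -2366246, -9593394, -48182336, 5415894, 4134340, -174482, 62310, -162820, -4368, 1438, -44, 1]))) (.node (.node (.leaf [0, 0, 1]) (.leaf [6511, -1832, 18406, 8878, -11085, -342, -1230, -6486, 794, 605, -14, 16, -23])) (.node (.leaf [35047082, -1488376, 66149758, 21198515, -29720371, 429045, -11096743, -12756227, 1540966, -1737722, 4076, -168772, 39225, -10100, 2634, 15, 5]) (.leaf [0, 0, 1])))) (.node (.node (.node (.leaf [-127, 4, -299, -126, 173, 1, 28, 79, 0, -5]) (.leaf [0, 0, 1])) (.node (.leaf []) (.leaf [-32, -12, -43, -10, 16, -1, 6, 5, 5, 3]))) (.node (.node (.leaf [0, 0, 1]) (.leaf [178, 35, -18, -158, 202, -6, -107, 117, 8, -46, 2, -2, 1])) (.node (.leaf [0, 0, 1]) (.leaf [15289615, -4734875, 46793869, 23881288, -29603925, -1040020, -2273416, -17622490, 1826305, 2156835, -60834, 75467, -61519, 1459, -1156, 15])))))))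

def twoL143 : Janko.Tree (List ℤ) :=
  (.node (.node (.node (.node (.node (.node (.leaf []) (.leaf [])) (.node (.leaf [-14029679, -7705359, -3792857, 8957201, -7177590, -1875001, 6465831, -9956270, 2750478, 3638973, -13130, 316324, -154763, 7567, -5590, -9, -5]) (.leaf [-237016780, 58633405, -659091611, -314733607, 395966215, 11255936, 44495687, 227089337, -25695551, -20054602, 793379, -396410, 770928, 16711, -4278, 55, -1]))) (.node (.node (.leaf []) (.leaf [92106180, -15527732, 235236437, 105658254, -135954045, -2236049, -19153221, -73764707, 7342305, 4054553, -225552, -180801, -179644, -14897, 8581, -193, -1])) (.node (.leaf []) (.leaf [-1967447, 441069, -5270578, -2449764, 3100025, 85183, 401324, 1750181, -200303, -140101, 7024, -2647, 5720, 156, -9, -1])))) (.node (.node (.node (.leaf []) (.leaf [-1135, 108, -2732, -1189, 1558, 14, 244, 810, -40, -51, 4, 1])) (.node (.leaf []) (.leaf [-19932031, 5690882, -65676275, -35434903, 43814693, 1662306, 1691489, 26175969, -1815791, -3891894, 156479, -118719, 92343,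 -5044, 1252, -83, 3]))) (.node (.node (.leaf [-59, 7, -148, -64, 86, 0, 13, 43, -2, -3]) (.leaf [-669685235, 111708970, -1714895151, -776726217, 996013360, 20435293, 139061564, 544676712, -49442455, -39121564, 2067114, 300258, 1186005, 54237, -29197, -133, -11])) (.node (.leaf []) (.leaf [-85994, 56627, -318927, -170233, 205970, 7567, 11304, 130427, -26340, -11096, -46, -572, 838, 52, -10, 1]))))) (.node (.node (.node (.node (.leaf []) (.leaf [481, -115, 1455, 729, -934, -26, -79, -510, 38, 70, -4, 2, -1])) (.node (.leaf [101286913, -23145811, 280645668, 134982950, -169804145, -5273823, -18788904, -97361983, 9247080, 10400008, -409674, 312150, -270758, 4835, -4478, 221, 7]) (.leaf [108460130, -22513728, 289115486, 134112352, -170389253, -4037533, -21488812, -95341569, 10257769, 7014371, -344980, -4094, -291469, -12506, 5524, -79, -1]))) (.node (.node (.leaf [41841, -4825, 99939, 42804, -56206, -602, -9792, -29040, 1899, 1849, -102, -6, -2, 0, -1]) (.leaf [-213, -37, -385, -155, 189, 34, 57, 104, 18, -39, 4, -1]))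 (.node (.leaf [-195782672, 2077894, -396358361, -144084191, 198514314, -1748264, 53098039, 89553966, -3077043, 3404852, 302092, 1049665, -237035, 34006, -23427, -6, -15]) (.leaf [-195462095, 2685743, -356211826, -106106202, 154000118, -5615389, 61597775, 59489715, -8436707, 16914534, -189188, 1780776, -207241, 94591, -44143, 892, -15])))) (.node (.node (.node (.leaf [-1660, 97, -3855, -1635, 2161, 31, 375, 1089, -35, -74, 7, 1]) (.leaf [-428438907, 44485797, -1047021111, -461177792, 600723469, 8135710, 89865193, 315542056, -18819745, -20024867, 1395660, 991645, 336112, 30581, -33907, -56, -1])) (.node (.leaf []) (.leaf [-293, -1089, 4839, 4046, -4757, -296, 830, -3185, 336, 731, -36, 40, -26, 2]))) (.node (.node (.leaf [4274, -390, 9514, 3817, -5064, -26, -1091, -2554, 182, 64, -2, -6, 4]) (.leaf [-2459, 509, -6386, -2888, 3734, 50, 556, 2022, -188, -172, 0, -6, 1])) (.node (.leaf [1871, -145, 4060, 1605, -2125, -14, -489, -1076, 66, 34, -2, -2, 1]) (.leaf [51226945, -9078189, 137358979, 64790107, -82472432,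 -1988021, -9414320, -45923872, 3638297, 4264877, -205794, 20770, -109377, -497, 2064, 37])))))) (.node (.node (.node (.node (.node (.leaf []) (.leaf [])) (.node (.leaf []) (.leaf [1674, -34, 3869, 1633, -2190, -10, -354, -1066, 6, 54, -10, -1, 1]))) (.node (.node (.leaf []) (.leaf [2779620, -133598, 4829874, 1295662, -1899727, 63882, -981082, -711130, 169162, -250087, 8130, -19928, 4465, -1308, 312, -15, 1])) (.node (.leaf []) (.leaf [-43856, 827259, -2776701, -2117165, 2363588, 192110, -297198, 1773609, -347124, -319741, 10370, -22290, 18224, -158, 118, -1, 1])))) (.node (.node (.node (.leaf []) (.leaf [1022052, -237601, 2886669, 1424049, -1779465, -68937, -185780, -1036703, 77955, 149781, -5742, 7517, -2174, 328, -268, 7])) (.node (.leaf [75074, -18979, 208852, 99646, -125585, -3259, -14321, -71915, 8032, 6469, -196, 158, -219, -3]) (.leaf [378, -16, 965, 479, -574, -64, -68, -344, 13, 77, -11, 1, -3]))) (.node (.node (.leaf [-1, 0, -2, -1, 1, 0, 0, 1]) (.leaf [])) (.node (.leaf [4592192, -387254, 9764724,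 3676122, -4942148, 2508, -1265776, -2391379, 249780, -75618, -224, -20544, 1362, -1160, 494, -11, 1]) (.leaf [-3073, 2309, -12857, -7307, 8842, 377, 280, 5602, -886, -838, 1, -57, 39, 0, -1]))))) (.node (.node (.node (.node (.leaf []) (.leaf [8374479, -652754, 33703424, 20347772, -25789017, -307996, 1631926, -14565622, -349715, 2082815, -87692, -109646, -39818, 556, 6012, -160, -5])) (.node (.leaf [-160306614, 36920390, -439800063, -208800105, 263463060, 7266838, 30543029, 150057820, -15744240, -13665047, 537272, -280196, 451112, 5880, 556, -74, -3]) (.leaf [-12578, 2640, -33560, -15520, 19892, 289, 2535, 10982, -1080, -818, 24, -10, 21, -1]))) (.node (.node (.leaf []) (.leaf [-23538, 14779, -90497, -50997, 60103, 4326, 2441, 39635, -6505, -6267, 290, -357, 319, -6, -7])) (.node (.leaf [564, 1114, -4095, -3673, 4246, 278, -890, 2960, -374, -644, 26, -38, 25, 1]) (.leaf [-8885931, 1612483, -23949458, -11340247, 14415888, 359051, 1621229, 8054830, -640041, -769558, 37102, -7605, 19547, -18, -211, -13])))) (.node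 (.node (.node (.leaf []) (.leaf [49715720, -6612892, 117126592, 49044487, -64042161, -784946, -12008586, -33426601, 3481536, 912343, -93928, -122304, -52701, -9538, 3820, -55, 3])) (.node (.leaf []) (.leaf [1, 0, 3, 2, -2, 0, 0, -1]))) (.node (.node (.leaf [-43073903, 4714322, -99282386, -40563982, 53616142, 145009, 10363622, 27146311, -2800262, 168098, 53028, 220188, 40977, 12412, -7230, 145, 1]) (.leaf [-333503777, 79790911, -899372605, -419686185, 529155183, 15244545, 68328841, 301698156, -36054697, -24697652, 1023244, -629421, 986976, 29247, -1367, -289, -9])) (.node (.leaf []) (.leaf [-2425, 217, -5334, -2136, 2812, 19, 624, 1446, -102, -45, 3, 4, -1])))))))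

def twoL144 : Janko.Tree (List ℤ) :=
  (.node (.node (.node (.node (.node (.node (.leaf []) (.leaf [3050415, 1140439, 688755, -2222533, 2011549, 389998, -1650528, 2254489, -297997, -895762, 19270, -54178, 30114, -2058, 506, 9, 1])) (.node (.leaf []) (.leaf [-4053668, 238077, -8038729, -2758782, 3799908, -38541, 1209280, 1716263, -207813, 176739, -2283, 24019, -3063, 1372, -534, 12, -1]))) (.node (.node (.leaf [-38062286, 228375, -71997642, -23616653, 33272699, -400634, 11557618, 14000284, -828216, 1405025, 66418, 173354, -51360, 7731, -2224, -67, -3]) (.leaf [358507883, -83572585, 974527679, 457548702, -577930520, -15459562, -70439116, -328163426, 37643640, 26275502, -1142542, 409166, -1086327, -36466, 11223, 1, -3])) (.node (.leaf [-3360, 428, -7226, -2802, 3694, -18, 948, 1920, -182, -32, -16, 10, -2, -1]) (.leaf [-943314073, 126434555, -2269896089, -972889098, 1265091402, 17694660, 216718584, 667363492, -63470658, -26917593, 2237152, 2131930, 1153481, 152620, -81316, 708, -27])))) (.node (.node (.node (.leaf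 [477837, -136834, 1644070, 917290, -1126155, -49946, -26065, -683049, 35868, 119320, -5374, 4458, -2407, 250, -20, 3]) (.leaf [448832, -82051, 1200072, 564796, -718466, -17678, -84874, -401031, 32221, 38660, -1764, 543, -886, -9, -23, 1])) (.node (.leaf [1]) (.leaf [10607, -1592, 26476, 11788, -15154, -346, -2323, -8211, 714, 615, -46, 2, -17]))) (.node (.node (.leaf [1]) (.leaf [])) (.node (.leaf []) (.leaf [56707461, -8404401, 137178993, 58823835, -76266703, -1229826, -13219823, -40501745, 4299862, 1599148, -139780, -104734, -84154, -9769, 4299, -64, 3]))))) (.node (.node (.node (.node (.leaf []) (.leaf [781720806, -112997031, 1906596637, 826642005, -1070564875, -16852122, -176672655, -570690028, 55717651, 26130060, -1850459, -1533041, -1086144, -126870, 68698, -491, 31])) (.node (.leaf []) (.leaf [6098, -1769, 18719, 9506, -11865, -432, -892, -6910, 728, 809, -48, 30, -28, 1]))) (.node (.node (.leaf []) (.leaf [-239003, 41833, -605671, -271531, 349498, 6007, 52551, 190327, -16992, -14424, 333, -179, 237, -2,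 11])) (.node (.leaf []) (.leaf [17257784, -3422815, 44530770, 19949334, -25589342, -416852, -3666062, -13997953, 1721041, 582842, -31209, -41656, -43116, -4330, 1829, -69])))) (.node (.node (.node (.leaf []) (.leaf [1])) (.node (.leaf [63626750, -8389931, 158518783, 70095965, -90989309, -1123058, -13156005, -48224323, 4123272, 2143041, -166048, -232918, -97675, -12561, 9602, -192, -1]) (.leaf [6110009, -1380937, 16245999, 7484820, -9478232, -243102, -1262750, -5342690, 657103, 361358, -16920, -296, -17792, -963, 355, -11]))) (.node (.node (.leaf [1]) (.leaf [1])) (.node (.leaf [-1308, 120, -2979, -1240, 1615, 45, 327, 840, -57, -61, 4, 1]) (.leaf [2110972, -595488, 5986857, 2877831, -3600202, -112702, -398476, -2091741, 270622, 180088, -7256, 4810, -8347, -251, 49, -1])))))) (.node (.node (.node (.node (.node (.leaf [1]) (.leaf [1])) (.node (.leaf [4490, -672, 11256, 5024, -6517, -103, -988, -3480, 244, 293, -9, 6, -1]) (.leaf [-6822937, 1640308, -18820103, -8936753, 11256910, 320473, 1297756, 6432315, -729137,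 -551631, 24256, -10590, 22164, 530, -186, -1]))) (.node (.node (.leaf [48, -7, 118, 54, -68, 0, -9, -40, 2, 3]) (.leaf [-114009, 18094, -232777, -79780, 108905, -3374, 36258, 52229, -10537, 7046, -988, 730, -185, 57, 4, 1])) (.node (.leaf [-879913615, 110572406, -2153421119, -943559676, 1224249716, 19155514, 191409585, 649353674, -50752948, -37589784, 2665380, 1586148, 992569, 90821, -63842, -174, -7]) (.leaf [1])))) (.node (.node (.node (.leaf [1]) (.leaf [4918, -448, 11001, 4488, -5901, -45, -1237, -3044, 189, 139, -5, -7, 1])) (.node (.leaf []) (.leaf [104606, -27199, 293684, 141015, -177423, -4673, -19573, -102074, 11402, 9406, -263, 251, -311, -4, -1]))) (.node (.node (.leaf [1]) (.leaf [-206794986, 17889602, -462166972, -185164775, 245501460, 1585314, 51806965, 122931533, -10611800, -715363, 429102, 783629, 87885, 42446, -24689, 85, -7])) (.node (.leaf [1]) (.leaf [-213706, 50157, -573970, -267473, 338354, 8199, 43828, 192106, -21563, -15854, 387, -331, 506, 15, 3]))))) (.node (.node (.node (.node (.leaf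 []) (.leaf [-10389017, 1216556, -26609055, -12226538, 15796825, 257380, 1944578, 8481421, -440557, -711272, 37162, 17644, 10401, 297, -780, -3])) (.node (.leaf [-15913, 5203, -46487, -22788, 28230, 946, 2939, 16831, -2294, -1607, 36, -47, 68, 3]) (.leaf [16747806, -3991321, 46125058, 21930331, -27615287, -794632, -3198170, -15799305, 1729176, 1431003, -58286, 31976, -50797, -803, 2, 11]))) (.node (.node (.leaf []) (.leaf [295883496, -72541608, 767673913, 342840382, -435477855, -9659415, -67879787, -244283495, 36226592, 11325411, -389356, 23058, -863461, -63554, 9556, -634, 7])) (.node (.leaf [275145, -41447, 706904, 325902, -416779, -9916, -55489, -229683, 14676, 23457, -902, 324, -267, 21, -12, 1]) (.leaf [259669, -25877033, 105049990, 84097765, -95098159, -7169432, 14411146, -69557370, 8935926, 14961063, -387702, 774261, -547894, 18049, -5824, -1, -25])))) (.node (.node (.node (.leaf [-39019, 12886, -117622, -58854, 72884, 2534, 6441, 43437, -5590, -4417, 122, -124, 178, 4, 1]) (.leaf [3067342, -726778, 8329782,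 3903009, -4924638, -141574, -614067, -2799196, 332840, 226556, -11666, 4661, -9973, -302, 49, 1])) (.node (.leaf [-8891318, 2049994, -23846374, -11066622, 13991123, 378842, 1815952, 7918837, -953634, -589960, 30120, -9328, 27511, 971, -352, 1]) (.leaf [774347, 130532, 1249056, 343801, -544312, 25869, -238330, -155419, -65321, -17872, -1892, -4155, 4125, 127, 40, 3]))) (.node (.node (.leaf [-111637, 80765, -323003, -137624, 162492, 8667, 38087, 107521, -48391, 7704, -504, -320, 1326, 162, -16, 1]) (.leaf [-788, 96, -2238, -1104, 1430, 34, 116, 759, -18, -103, 6, -2, 1])) (.node (.leaf [620001, -162107, 1532714, 650501, -820462, -24542, -162058, -465286, 92208, 6479, -894, -176, -2166, -222, 30, -1]) (.leaf [-1250447, 229236, -3210363, -1454226, 1860262, 39690, 267165, 1025486, -98817, -77899, 3032, -758, 1990, 77, 35, -1])))))))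

def twoL145 : Janko.Tree (List ℤ) :=
  (.node (.node (.node (.node (.node (.node (.leaf []) (.leaf [])) (.node (.leaf [60728037, -16212711, 176211530, 86931864, -108646748, -3490807, -10222080, -63319370, 6642016, 6760912, -254827, 195524, -219598, 860, -1642, 64, -1]) (.leaf [0, 1]))) (.node (.node (.leaf []) (.leaf [0, 1])) (.node (.leaf []) (.leaf [-508014, 118546, -1432471, -697753, 876254, 26547, 88454, 504854, -46795, -54452, 2151, -1428, 1492, -20, 6, -1])))) (.node (.node (.node (.leaf []) (.leaf [-2937, 10, -6974, -3069, 4067, 63, 564, 2027, 31, -185, 27, -1, -1, 1])) (.node (.leaf []) (.leaf [5566, 162, 11597, 4482, -6122, -18, -1366, -2805, -68, 84, -28, -22, 8]))) (.node (.node (.leaf [0, -2, 3, 2, -2, 0, 0, -2, 1]) (.leaf [2, -3, 10, 3, -5, -1, -3, 0, 2])) (.node (.leaf [201707375, -15675055, 451167574, 181645481, -241459124, -1273317, -50011459, -120232532, 8700640, 1791657, -400877, -732550, -15272, -33118, 18830, -116, 17]) (.leaf [0, 1]))))) (.node (.node (.node (.node (.leaf [0, 1]) (.leaf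 [0, 1])) (.node (.leaf [0, 1]) (.leaf [40857977, -13355045, 114003233, 53131866, -66382206, -1911188, -8757422, -38742827, 6714065, 2045373, -49372, 36861, -183456, -12327, 705, -203, 1]))) (.node (.node (.leaf []) (.leaf [0, 1])) (.node (.leaf [-74818, 17229, -203675, -95994, 121430, 3013, 14621, 68881, -7291, -6005, 207, -131, 193, 5]) (.leaf [0, 1])))) (.node (.node (.node (.leaf []) (.leaf [-876690456, 259680301, -2501438512, -1206353447, 1505222599, 48735108, 167061926, 880844263, -116720865, -78615199, 2773677, -2727328, 3522435, 77322, 13178, 45, -13])) (.node (.leaf []) (.leaf [0, 1]))) (.node (.node (.leaf [-28, 1657, -4464, -3293, 3756, 228, -296, 2743, -630, -529, -12, -49, 29, 0, -1]) (.leaf [12, -2, 23, 8, -11, 1, -4, -6, 1])) (.node (.leaf [0, 1]) (.leaf [1110855, -367705, 3187276, 1521501, -1890783, -64676, -220204, -1114045, 183263, 74706, -3652, 2068, -5855, -308, 88, -3])))))) (.node (.node (.node (.node (.node (.leaf []) (.leaf [-281, 48, -677, -287, 375, 6, 74, 196, -20, -14])) (.node (.leaf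 [2527, -406, 6732, 3145, -4076, -65, -493, -2182, 123, 232, -9, 6, -1]) (.leaf [-339, -15, -1191, -766, 857, 109, -68, 610, 5, -137, 16, -2, 5]))) (.node (.node (.leaf [0, 1]) (.leaf [0, 1])) (.node (.leaf [218829, -59258, 611710, 292741, -365552, -12042, -42190, -213079, 26925, 19016, -760, 378, -803, -26, 1]) (.leaf [73365683, -47030616, 257975210, 135527525, -161543064, -8643192, -12611005, -105215273, 22166206, 10729100, -201314, 884691, -732571, -15616, -10922, -45, 3])))) (.node (.node (.node (.leaf [5201, -491, 8864, 2310, -3367, 190, -1955, -1371, 307, -383, 38, -11, 14, 0, 1]) (.leaf [0, 1])) (.node (.leaf [0, 1]) (.leaf [0, 1]))) (.node (.node (.leaf [0, 0, 0, 0, -1, 1]) (.leaf [])) (.node (.leaf [40344, -18185, 138650, 74334, -90131, -4103, -4533, -56250, 7955, 6763, -250, 216, -323, -6, 3]) (.leaf [-13992790, 3553979, -38660296, -18340665, 23053317, 674580, 2726345, 13249059, -1584701, -1139230, 45330, -28436, 46499, 1045, -104, -5]))))) (.node (.node (.node (.node (.leaf [0, 1]) (.leaf [-2939, 300,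 -6661, -2732, 3598, 11, 722, 1858, -129, -60, 1, 4, -2])) (.node (.leaf []) (.leaf [13821545, -3439809, 38458104, 18391454, -23115911, -676635, -2602234, -13289060, 1490944, 1214918, -46986, 28962, -44396, -736, 38, 6]))) (.node (.node (.leaf []) (.leaf [43964, -4921, 114087, 53373, -68735, -1085, -7634, -37342, 1432, 3532, -144, -49, 2, -4, -3])) (.node (.leaf [1436294, -378394, 3741490, 1658762, -2103491, -44289, -330336, -1183255, 203927, 26514, -639, -2786, -5072, -571, 122, -7]) (.leaf [0, 1])))) (.node (.node (.node (.leaf [0, 1]) (.leaf [31604, -6427, 80220, 35838, -45785, -828, -7143, -25431, 2809, 1688, -16, 17, -50, -4, -1])) (.node (.leaf []) (.leaf [-113698402, 21552728, -321134228, -157910640, 199705506, 5312992, 17690157, 113074844, -7571585, -12797112, 566795, -168513, 281216, -9969, -1519, -184, 5]))) (.node (.node (.leaf [0, 1]) (.leaf [7, 2, 12, 4, -4, 0, -2, -3, 0, 0, -1])) (.node (.leaf []) (.leaf [133361, -32191, 365560, 172972, -218299, -5605, -26035, -124557, 13657, 11000, -315, 237, -357,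 -6, -2])))))))

def twoL146 : Janko.Tree (List ℤ) :=
  (.node (.node (.node (.node (.node (.node (.leaf [0, 0, 1]) (.leaf [-173245428, 26462765, -423141010, -183464180, 237226413, 3994184, 39731962, 127002625, -12899493, -6155118, 383188, 256024, 238800, 25806, -10074, 93, -13])) (.node (.leaf [0, 0, 1]) (.leaf [-1006477012, 276559746, -2771609503, -1300105983, 1633339610, 46365114, 205851528, 940308459, -129966855, -68302685, 2513825, -1673076, 3655421, 154175, -13290, 1210, -13]))) (.node (.node (.leaf [5720093, 2617974, 15828365, 8851175, -12114086, 285990, 622758, -5643685, -1884950, 1135696, -43578, -116882, 43197, 3941, 4004, -44, -1]) (.leaf [668674, -150800, 1584988, 651044, -830325, -20307, -181666, -458875, 86489, 1887, -354, -721, -1627, -219, 10, -1])) (.node (.leaf [-2996, 357, -7244, -3149, 4122, 40, 682, 2154, -126, -158, 8, -2, 1, -1]) (.leaf [-14149984, -24177592, 2779898, 10340942, -4284136, -4784700, 885648, -14668832, 11644584, 3920076, 78256, 1004964, -356533, 4130, -28604, 338, 11])))) (.node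 (.node (.node (.leaf []) (.leaf [0, 0, 1])) (.node (.leaf [-714435972, 226517453, -2064392836, -1000050017, 1244142934, 41445808, 135673301, 733292457, -103350469, -63984061, 2156102, -2380739, 3151267, 83103, 9687, 375, -5]) (.leaf [14649, -1758, 35699, 15676, -20281, -406, -3215, -10814, 776, 767, -62, -8, -15]))) (.node (.node (.leaf [6, -3, 34, 21, -28, 0, 1, -14, 0, 3]) (.leaf [-1471, 34, -3316, -1380, 1829, 18, 321, 914, -20, -38, 10, 3])) (.node (.leaf [0, 0, 1]) (.leaf [-29221270, 7045359, -80203700, -37963066, 47809467, 1386578, 5683436, 27333659, -3115519, -2388114, 103452, -55524, 91877, 1905, -251, -16]))))) (.node (.node (.node (.node (.leaf []) (.leaf [434, -99, 1049, 440, -572, -12, -127, -303, 42, 25, 1])) (.node (.leaf []) (.leaf [0, 0, 1]))) (.node (.node (.leaf [0, 0, 1]) (.leaf [-12521778, 4418109, -39986401, -20816256, 25644613, 949779, 1664450, 15491059, -1754338, -1893563, 51771, -66481, 62920, -802, 423, 5])) (.node (.leaf []) (.leaf [-2281, 77, -5086, -2110, 2768, 35, 493, 1426, -43,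 -45, 4, 6])))) (.node (.node (.node (.leaf [0, 0, 1]) (.leaf [])) (.node (.leaf [-228438546, 1978479, -468462041, -173621623, 238381993, -1725056, 60449232, 108614355, -2769808, 2433747, 427176, 1162324, -274142, 33924, -26144, -109, -15]) (.leaf []))) (.node (.node (.leaf [3795, -735, 10314, 4881, -6240, -136, -715, -3447, 272, 344, -12, 8, -9]) (.leaf [61, -13, 151, 66, -86, 0, -15, -46, 5, 3])) (.node (.leaf [-545, 52, -1251, -523, 681, 11, 128, 358, -27, -15, 2, 1]) (.leaf [0, 0, 1])))))) (.node (.node (.node (.node (.node (.leaf []) (.leaf [1, 0, 3, 1, -1, 0, 0, -1])) (.node (.leaf [-160931, 43909, -464442, -227432, 285436, 7884, 28192, 165267, -17605, -16900, 374, -473, 500, -2, 7]) (.leaf [0, 0, 1]))) (.node (.node (.leaf [50, -13, 130, 57, -74, 0, -13, -40, 5, 3]) (.leaf [27323, -5859, 73146, 34132, -43294, -1074, -5480, -24370, 2485, 2108, -84, 44, -65])) (.node (.leaf [937332, -676704, 3304217, 1691100, -2005077, -109541, -184226, -1316707, 353980, 77837, -1217, 7214, -11693, -626, 79, -11]) (.leaf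 [367, -3, 814, 339, -448, -10, -83, -223, 0, 18, -2, 0, -1])))) (.node (.node (.node (.leaf [3, 0, 5, 1, -1, 0, -1, -1]) (.leaf [-6479322, 1754232, -17450288, -8027843, 10093793, 295431, 1404088, 5787933, -868492, -354895, 16607, -7242, 23977, 1448, -249, 7])) (.node (.leaf []) (.leaf [8619, -4175, 31319, 17150, -21069, -579, -680, -12952, 1560, 1574, -13, 69, -49, -2, -1]))) (.node (.node (.leaf []) (.leaf [586672, 282711, -392664, -903721, 922989, 136218, -402230, 826555, -34733, -335523, 11508, -22632, 7111, -1035, 606, -16, 1])) (.node (.leaf [39, 29, -240, -226, 278, 12, -62, 167, 2, -50, 4, -2, 1]) (.leaf [43351989, 2396138, 61760758, 8862748, -17498070, 2746512, -16389368, -1174105, 1485604, -7388624, 174610, -606084, 110095, -31531, 13981, -348, 5]))))) (.node (.node (.node (.node (.leaf []) (.leaf [357945, -70167, 848335, 350444, -447679, -14830, -95274, -243877, 42277, 4826, -1962, 344, -1240, -87, 46, 1])) (.node (.leaf [-2948950, 704993, -8011669, -3752231, 4733218, 136832, 592236, 2691634, -324695,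 -215721, 11302, -4500, 9795, 305, -56, -1]) (.leaf [-70970180, 20257825, -194840442, -90529019, 113801146, 3041702, 14825028, 65408220, -10014854, -3748951, 139498, -36926, 280609, 17578, -3432, 242, 1]))) (.node (.node (.leaf []) (.leaf [0, 0, 1])) (.node (.leaf []) (.leaf [212413178, -62328482, 623793436, 307660896, -383606538, -12192098, -35815617, -224871252, 27172192, 21547322, -819264, 585238, -911370, -16311, 4174, -37, -15])))) (.node (.node (.node (.leaf [21568, -5230, 59946, 28676, -36126, -1006, -4038, -20675, 2197, 1939, -70, 54, -68, 0, 1]) (.leaf [27296312, -6477913, 76873724, 37236770, -46834740, -1358200, -4804147, -26872244, 2690187, 2651589, -107358, 52050, -85579, -425, 168, 9])) (.node (.leaf [413959, -75241, 1114612, 529618, -673551, -16044, -76660, -377151, 26286, 40613, -1460, 860, -673, 44, -14, 1]) (.leaf [499941000, -55257787, 1230313059, 545940431, -708667898, -11490100, -104706780, -375479647, 22382172, 27274749, -1767708, -694846, -421118, -16256, 27213, 587, 7]))) (.node (.node (.leaf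 []) (.leaf [0, 0, 1])) (.node (.leaf [7606166, -2075672, 20544931, 9461284, -11891266, -346430, -1634095, -6823474, 1039562, 398618, -19618, 6078, -29450, -1870, 450, -11]) (.leaf [-237674, 51674, -622585, -285067, 362368, 7447, 50301, 203532, -22530, -14700, 86, 23, 401, 34, 10])))))))

def twoL147 : Janko.Tree (List ℤ) :=
  (.node (.node (.node (.node (.node (.node (.leaf []) (.leaf [11, -3, 27, 13, -17, 1, -3, -9, 1, 1])) (.node (.leaf []) (.leaf [134, -58, 674, 420, -529, -13, 23, -303, 9, 61, -5, 2, -1]))) (.node (.node (.leaf []) (.leaf [-43631894, 19235766, -134411843, -66713393, 81426033, 3490063, 8520419, 50209583, -9038753, -4569759, 124602, -308723, 282580, 6436, 3553, -7, -1])) (.node (.leaf []) (.leaf [108864, -38692, 319790, 155832, -191994, -7704, -21039, -115363, 18572, 9884, -356, 330, -575, -28, -3])))) (.node (.node (.node (.leaf []) (.leaf [])) (.node (.leaf [-1725838, -1245560, -1201048, 316542, 157144, -251162, 513620, -671303, 647256, 159691, 1048, 33938, -26646, -751, -398, -11]) (.leaf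 [9126, -1305, 22757, 10039, -13068, -163, -1948, -6921, 556, 378, -15, 7, -5, 0, -1]))) (.node (.node (.leaf []) (.leaf [23575, -6528, 63300, 29157, -36678, -961, -5266, -21092, 3016, 1527, -26, 22, -64, -9, 1])) (.node (.leaf []) (.leaf [-3245303, 1481189, -10195613, -5109648, 6252427, 221465, 588534, 3853310, -680422, -323673, -2376, -16687, 19831, 786, 74, 11]))))) (.node (.node (.node (.node (.leaf []) (.leaf [782, -153, 1939, 839, -1100, -11, -203, -574, 57, 47, 1, 1])) (.node (.leaf [27211570, -20986367, 93978849, 47068049, -55572678, -3137793, -6492786, -36955226, 10873622, 2075229, 17620, 302804, -325726, -18372, -6622, -194, 3]) (.leaf [46109601, -11760433, 126984029, 59771226, -75354134, -1964898, -9033561, -43005871, 5483446, 3112953, -128831, 29878, -160089, -7063, 1788, -95, -1]))) (.node (.node (.leaf []) (.leaf [-6287310, 1397930, -16619047, -7620802, 9661882, 243306, 1313726, 5429928, -669774, -355312, 17287, 940, 17873, 1031, -357, 11])) (.node (.leaf [-13, -2, -32, -15, 21, -1, 1, 10, 1]) (.leaf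 [20835476, -14430669, 81835471, 46195179, -54638613, -3300598, -2131922, -36216896, 5970215, 5475633, -122784, 396146, -217366, 5083, -7132, 108, 3])))) (.node (.node (.node (.leaf []) (.leaf [36259508, -6338281, 99421725, 47897423, -60838457, -1545424, -6155186, -34066713, 2284006, 3648650, -170812, 41982, -76419, 2289, 532, 59, -1])) (.node (.leaf [2253259, 34462149, -98801304, -79343172, 86650595, 8661975, -10706604, 68230905, -13138146, -15541765, 306714, -1293164, 616158, -27674, 25494, -323, 9]) (.leaf [-138048, 26017, -395840, -198133, 249041, 8253, 20571, 142775, -8167, -19333, 1108, -607, 406, -23, -5, -1]))) (.node (.node (.leaf []) (.leaf [83625026, 888077, 183639098, 74910924, -101312040, 228042, -18581860, -48158380, -857245, 1890705, -264950, -444384, 103700, -3626, 11298, 37, 1])) (.node (.leaf [-101488695, 21894258, -264265571, -119561771, 152222098, 3418202, 21907407, 84767371, -10570053, -4956375, 232033, 32639, 262702, 17542, -4098, 174, -3]) (.leaf [28551780, -6867132, 80445649, 38943521,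 -48960663, -1429247, -5050377, -28118881, 2877885, 2744936, -111346, 54626, -91398, -688, 252, 7])))))) (.node (.node (.node (.node (.node (.leaf []) (.leaf [])) (.node (.leaf [2689, -88, 5981, 2435, -3249, -32, -630, -1594, 48, 59, -12, -6, 1]) (.leaf []))) (.node (.node (.leaf []) (.leaf [-576702, 164805, -1472748, -641224, 806267, 23758, 146059, 461943, -89389, -12472, 491, -170, 2084, 219, -20, 1])) (.node (.leaf []) (.leaf [8665, -837, 19736, 8149, -10727, -63, -2119, -5525, 354, 237, -14, -10, 3])))) (.node (.node (.node (.leaf [-4117, 738, -11080, -5213, 6681, 138, 771, 3668, -274, -349, 14, -8, 9]) (.leaf [25759, -4047, 59689, 24720, -31809, -813, -6710, -17159, 2135, 722, -34, -19, -24, -4, -1])) (.node (.leaf [151970, -30029, 397457, 182178, -232885, -4567, -31700, -128963, 12420, 10245, -294, 179, -249, -2, -5]) (.leaf [98937, -26682, 288698, 143319, -178878, -5531, -16139, -104766, 10644, 11363, -295, 241, -319, 2, -5]))) (.node (.node (.leaf []) (.leaf [697, -73, 1635, 698, -910, -11, -162, -478,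 31, 29, -2, -1])) (.node (.leaf [9223, -2119, 25059, 11802, -14939, -373, -1828, -8461, 882, 767, -26, 18, -23, 1]) (.leaf [-1056, -22, -2257, -907, 1210, 7, 227, 596, 6, -9, 3, 4, -1]))))) (.node (.node (.node (.node (.leaf []) (.leaf [-2887, 281, -6422, -2588, 3406, 33, 739, 1750, -135, -55, 2, 4, -1])) (.node (.leaf [-19989, 1822, -45073, -18445, 24297, 179, 4937, 12471, -817, -474, 28, 29, -9, -2, 1]) (.leaf [-57202492, 7469241, -147326837, -67963052, 87356450, 1850954, 10926846, 47428905, -2788948, -4345729, 246218, 20466, 74766, -672, -2308, -87, -1]))) (.node (.node (.leaf []) (.leaf [-210, 72, -845, -479, 618, 17, 11, 331, -15, -67, 5, -2, 1])) (.node (.leaf [728, -62, 1354, 442, -588, -3, -241, -292, 42, -17, 2, -4, 1]) (.leaf [170357755, -63327432, 527306911, 266130830, -327916900, -12069957, -27625555, -197814472, 28222896, 19568692, -619968, 791426, -957338, -18020, -1280, -100, -13])))) (.node (.node (.node (.leaf []) (.leaf [-63, -227, -609, -583, 733, 71, -113, 379, 187, -285, 32, 1, 3, 0, -1]))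 (.node (.leaf []) (.leaf [-1243584, 326528, -3350700, -1544428, 1944509, 55445, 264933, 1111311, -160993, -69091, 3632, -1367, 4662, 246, -44, 1]))) (.node (.node (.leaf []) (.leaf [99057, -18530, 253680, 114387, -146908, -2435, -21485, -80546, 7630, 5896, -112, 80, -117, -4, -5])) (.node (.leaf [0, 0, -2, 0, 1]) (.leaf [-265411, 57140, -691203, -315099, 400505, 8649, 56988, 224783, -25256, -16074, 153, 8, 453, 38, 11])))))))

def twoL148 : Janko.Tree (List ℤ) :=
  (.node (.node (.node (.node (.node (.node (.leaf []) (.leaf [1])) (.node (.leaf []) (.leaf [286222, -82132, 842305, 417041, -521541, -15639, -47940, -304186, 33531, 31728, -999, 998, -1025, -13, 4]))) (.node (.node (.leaf [1]) (.leaf [-24639692, 1886615, -53430649, -20772514, 27768666, 93536, 6501191, 13631651, -1104255, 3558, 31133, 86135, -6147, 4182, -1796, 6, -3])) (.node (.leaf []) (.leaf [-3419319, 754739, -9490441, -4560063, 5755597, 159576, 614192, 3274470, -309021, -321202, 14136, -6553, 9860, -54, -47, -3])))) (.node (.node (.node (.leaf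 [1]) (.leaf [-717762121, 226572816, -2071587183, -1002911502, 1248002128, 41452348, 136482834, 735138965, -103371173, -64045973, 2166664, -2368877, 3148121, 83252, 9551, 363, -5])) (.node (.leaf []) (.leaf [-36954463, 19756643, -138780578, -77534485, 93536484, 4340471, 2727903, 59338358, -7895670, -8259551, 212726, -399320, 317416, -5350, 4764, 15, 5]))) (.node (.node (.leaf [16, -3, 56, 29, -40, 0, -2, -18, 0, 3]) (.leaf [])) (.node (.leaf [437807, 25251, 1069774, 500494, -665288, -7595, -69520, -331687, -33602, 54849, -3538, 478, 925, 202, -56, 5]) (.leaf [-146402285, 33042399, -416281542, -203846248, 256587726, 7366408, 24218066, 146948161, -13001738, -15573343, 656920, -294033, 444559, -4364, -1104, -118, 5]))))) (.node (.node (.node (.node (.leaf [25872, -6058, 71036, 33621, -42597, -1008, -5000, -24089, 2520, 2136, -70, 48, -66, 1]) (.leaf [1])) (.node (.leaf [37881990, -23599009, 122240707, 59570152, -71670498, -3146854, -8628660, -45713088, 12457496, 1745313, 26558, 205614, -374363, -25442, -2044, -334,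 -1]) (.leaf [-2703699, 671773, -7679684, -3731688, 4685261, 141350, 472751, 2698427, -284688, -263395, 11150, -5926, 9313, 108, -56, -1]))) (.node (.node (.leaf []) (.leaf [20330770, -5152122, 60051418, 30520782, -37826454, -1590880, -3167326, -22439855, 1745810, 3296611, -141134, 154757, -68751, 6529, -1941, 157, 1])) (.node (.leaf [3, 87, -27, -7, -14, 8, 27, 27, -42, -1, -4, -1]) (.leaf [-19761997, 3639076, -50209873, -22355232, 28692233, 530277, 4303281, 15658231, -1779961, -795361, 45348, 27907, 41861, 3623, -1238, 35])))) (.node (.node (.node (.leaf []) (.leaf [844330758, -101920818, 1982177704, 829642594, -1085991551, -11819836, -200878161, -563086462, 54188392, 14569683, -1772293, -2495589, -833137, -163499, 81975, -884, 23])) (.node (.leaf [1]) (.leaf [-62707, 5633, -141273, -57507, 76056, 594, 15668, 38562, -2586, -1381, 99, 77, -29, 1, 1]))) (.node (.node (.leaf [35293, -11599, 105471, 52487, -65363, -1894, -6140, -38614, 4708, 4072, -30, 105, -131, -2, -7]) (.leaf [-2056526, 714187, -5785118, -2725632,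 3353492, 151737, 453853, 2014319, -364166, -151091, 11388, -10808, 12803, 126, -232, 1])) (.node (.leaf [-192034131, 92052426, -643459743, -337091701, 409088246, 18270371, 28146497, 255699239, -40738814, -28702124, 785162, -1587680, 1427666, 10954, 17114, 90, 7]) (.leaf [1])))))) (.node (.node (.node (.node (.node (.leaf []) (.leaf [1])) (.node (.leaf [3, 1, 2, 0, 1, -1, 0, -1]) (.leaf [4193, -589, 10506, 4660, -6098, -47, -904, -3199, 210, 222, -8, 5]))) (.node (.node (.leaf [8, 0, 14, 5, -6, 0, -2, -4]) (.leaf [323955, -55483, 857985, 403015, -513845, -12150, -62072, -285753, 19591, 29913, -1121, 628, -442, 35, -18, 1])) (.node (.leaf [10148, -1927, 25934, 11609, -14845, -413, -2305, -8111, 942, 592, -53, -3, -25, -2, 1]) (.leaf [132, -3, 394, 190, -273, 20, -9, -118, -10, 2, 0, 0, 1])))) (.node (.node (.node (.leaf [-1534, 100, -3580, -1524, 2012, 30, 349, 1017, -35, -74, 6, 1]) (.leaf [-53057138, 29572833, -178345723, -91598912, 110487190, 4978830, 9035264, 70019463, -14420283, -5717276, 122895, -362171,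 481662, 19165, 1416, 230, 7])) (.node (.leaf []) (.leaf [15016453, -1964633, 36491477, 15772628, -20554886, -237756, -3351439, -10796633, 957548, 448672, -33482, -39835, -16894, -2451, 1087, -25]))) (.node (.node (.leaf []) (.leaf [1])) (.node (.leaf [-20, 36, -388, -291, 366, 12, -49, 209, 0, -53, 4, -2, 1]) (.leaf [1]))))) (.node (.node (.node (.node (.leaf []) (.leaf [144491, -33329, 391037, 183843, -232044, -6078, -28595, -132251, 14316, 11460, -344, 178, -347, -8, -3])) (.node (.leaf [1]) (.leaf [1]))) (.node (.node (.leaf [1]) (.leaf [114437, -27632, 311801, 146783, -184892, -5097, -22562, -105810, 12281, 8751, -308, 187, -341, -6, -1])) (.node (.leaf [-7794, 2359, -19208, -8027, 10176, 224, 2255, 5741, -1241, -109, -12, 4, 26, 2, -1]) (.leaf [-6509, 1832, -18406, -8878, 11086, 342, 1230, 6485, -794, -605, 14, -16, 23])))) (.node (.node (.node (.leaf [25230, -6328, 70544, 33771, -42659, -1050, -4760, -24312, 2604, 2262, -66, 54, -68, 1]) (.leaf [0, 0, -2, 0, -1, 0, 0, 0, 0, 0, 0, 0, 0, 1])) (.node (.leaf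 [23741649, -6602299, 64926871, 30133807, -37889569, -1025583, -4931494, -21749170, 3284092, 1234034, -48014, 5162, -92841, -6470, 2138, -67, 1]) (.leaf [-275, 10, -654, -278, 376, -3, 58, 181, -1, -9, 2]))) (.node (.node (.leaf [6347, -1828, 17483, 8272, -10343, -256, -1304, -6064, 784, 511, 2, 10, -19, -1]) (.leaf [1])) (.node (.leaf [66887345, -11050235, 162685808, 69388865, -90126423, -891622, -15595593, -47827068, 5887434, 825386, -48850, -233593, -110142, -18456, 8443, -256, 1]) (.leaf [-498536, -1542003, 2131833, 1877627, -1812867, -304192, 266423, -1792920, 780851, 249968, -2908, 35792, -30424, -870, -404, -11])))))))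

def twoL149 : Janko.Tree (List ℤ) :=
  (.node (.node (.node (.node (.node (.node (.leaf []) (.leaf [-6989, 723, -16684, -7143, 9437, 29, 1587, 4823, -264, -263, 14, 7, -4, 0, 1])) (.node (.leaf []) (.leaf [19629024, -3953045, 54585725, 26358165, -33315492, -938373, -3346003, -18848718, 1610696, 1882551, -107058, 30623, -60753, 156, 530, 42, -3]))) (.node (.node (.leaf []) (.leaf [-11843850, 1435855, -28804488, -12600717, 16361622, 248659, 2603888, 8673422, -617060, -554370, 29585, 18668, 8480, 626, -504, -1, -1])) (.node (.leaf [0, 1]) (.leaf [0, 1])))) (.node (.node (.node (.leaf []) (.leaf [263220, -58801, 713350, 335812, -424789, -10845, -51334, -240782, 24950, 21085, -729, 381, -632, -10, -5])) (.node (.leaf [0, 1]) (.leaf []))) (.node (.node (.leaf []) (.leaf [356, -123, 838, 341, -425, -8, -117, -256, 55, 14, 2, 2])) (.node (.leaf []) (.leaf [-10002732, 976144, -25388712, -11658670, 15107491, 236989, 1859073, 8051980, -293878, -737681, 38747, 15151, 5705, -250, -592, -13]))))) (.node (.node (.node (.node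 (.leaf []) (.leaf [0, 0, 0, 0, -1, 1])) (.node (.leaf []) (.leaf [230339, -62247, 636683, 300839, -377021, -11916, -46342, -217967, 28809, 17854, -730, 483, -821, -32, 3]))) (.node (.node (.leaf []) (.leaf [0, 1])) (.node (.leaf [0, 1]) (.leaf [0, 1])))) (.node (.node (.node (.leaf [-327, 11, -762, -322, 432, 0, 69, 211, -3, -9, 2]) (.leaf [0, 1])) (.node (.leaf [5, 3, 6, 3, -3, -1, 0, -2, -1]) (.leaf [11804398, -2822693, 32144088, 15069828, -19009053, -529588, -2329478, -10813089, 1320540, 814694, -41002, 8453, -39626, -1655, 622, -13]))) (.node (.node (.leaf [-137, 20, -340, -147, 194, 2, 30, 99, -9, -3]) (.leaf [0, 1])) (.node (.leaf []) (.leaf [1174195, -341442, 3331790, 1594726, -1993118, -64084, -224814, -1159099, 161783, 91265, -4574, 2514, -5296, -179, 56, -1])))))) (.node (.node (.node (.node (.node (.leaf [0, 1]) (.leaf [])) (.node (.leaf []) (.leaf [-1751, 119, -3909, -1628, 2112, 32, 410, 1125, -48, -68, 6, 2, -2]))) (.node (.node (.leaf []) (.leaf [54157, -12009, 146613, 68863, -87313, -2117, -10643,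 -49236, 5051, 4289, -159, 91, -129, -1])) (.node (.leaf [-11771, -647, -21688, -6930, 10361, -619, 3405, 3841, 399, 493, -25, 43, -62, -2, 1]) (.leaf [0, 1])))) (.node (.node (.node (.leaf [0, 1]) (.leaf [-13401, 3605, -37574, -18027, 22603, 653, 2565, 13098, -1538, -1224, 32, -33, 44])) (.node (.leaf []) (.leaf [0, 1]))) (.node (.node (.leaf [0, 1]) (.leaf [-793, 94, -1902, -820, 1072, 12, 181, 561, -36, -35, 1])) (.node (.leaf [3081667, -700723, 8413248, 3965794, -5017736, -126821, -589793, -2838902, 310769, 229321, -9996, 2804, -9210, -274, 140, -1]) (.leaf [1266030, -315486, 3529008, 1685745, -2118279, -65751, -238480, -1215519, 141824, 108120, -5745, 2792, -4685, -82, 30, 1]))))) (.node (.node (.node (.node (.leaf []) (.leaf [0, 1])) (.node (.leaf []) (.leaf [-150920, 44790, -440954, -216840, 269493, 9547, 26136, 158836, -20101, -15212, 628, -424, 679, 14, -5]))) (.node (.node (.leaf []) (.leaf [-4542, 872, -12024, -5563, 7140, 97, 895, 3937, -331, -313, 11, -11, 6])) (.node (.leaf [891, -91, 1734, 597,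 -788, -9, -288, -400, 57, -10, 2, -4, 1]) (.leaf [28006699, -5373611, 59577210, 21375373, -28187364, -166233, -8867992, -14383560, 3446294, -1270990, 50516, -74627, -37925, -11568, 2236, -84, 5])))) (.node (.node (.node (.leaf []) (.leaf [0, 1])) (.node (.leaf [0, 1]) (.leaf [-40, 3556, -8156, -5931, 6386, 525, -524, 5216, -1663, -658, -18, -64, 70, 2, -1]))) (.node (.node (.leaf []) (.leaf [])) (.node (.leaf [-202433, 62507, -592807, -291520, 361546, 13246, 35853, 214098, -28215, -20680, 802, -589, 946, 22, -7]) (.leaf [-2409339, 961391, -7862761, -4133148, 5053668, 212496, 331711, 3107809, -380152, -408992, 10668, -19993, 13197, -396, 434, -5])))))))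

def twoL150 : Janko.Tree (List ℤ) :=
  (.node (.node (.node (.node (.node (.node (.leaf []) (.leaf [69, -19, 200, 95, -126, 0, -15, -64, 6, 7])) (.node (.leaf [905, -107, 2391, 1108, -1480, 26, -164, -751, 4, 68, 2, 0, 1]) (.leaf [0, 0, 1]))) (.node (.node (.leaf [3, 0, 5, 1, -1, 0, -1, -1]) (.leaf [2203494, -4609989, 21960124, 15615375, -17979740, -1236321, 1687949, -12644283, 1644730, 2517201, -68194, 135307, -91311, 3164, -1638, 12, -3])) (.node (.leaf []) (.leaf [-194, 18, -488, -218, 292, -2, 42, 145, -2, -15, 1])))) (.node (.node (.node (.leaf [-1115, 265, -3282, -1645, 2086, 46, 174, 1185, -74, -156, 2, -6, 1]) (.leaf [-621238014, 104745081, -1619133212, -746288038, 953715003, 21624854, 123063427, 525790720, -44092981, -43758998, 2284264, -65299, 1182801, 21403, -22595, -515, -1])) (.node (.leaf [-161192394, 12381580, -394217123, -175600311, 229291280, 2991306, 32029403, 119659828, -4138390, -9148660, 605600, 407066, 56838, 2019, -14754, -107, -1]) (.leaf [3133368, -814714, 8537807, 3985399, -5011458,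 -142332, -638635, -2875128, 389870, 199382, -8184, 2562, -11084, -554, 128, -5]))) (.node (.node (.leaf [0, 0, 1]) (.leaf [])) (.node (.leaf [351, -29, 921, 419, -570, 16, -60, -277, -2, 16, 0, 0, 1]) (.leaf [0, 0, 1]))))) (.node (.node (.node (.node (.leaf [0, 0, 1]) (.leaf [6, 1, 8, 1, -2, 0, -2, 0, 0, -1])) (.node (.leaf [66719494, -13666110, 179605364, 84706568, -107105018, -3092648, -12913696, -60599650, 5645436, 5903924, -273024, 136740, -164317, 1454, 356, 132, 3]) (.leaf [-13229, 652, -27210, -10007, 13533, -1, 3600, 6450, -497, 273, -8, 48, -13, 0, 1]))) (.node (.node (.leaf [677, -66, 1670, 736, -971, -11, -143, -495, 22, 37, -2]) (.leaf [870175884, -173352927, 2307192644, 1070993070, -1360942032, -33679811, -173524785, -761346382, 75380647, 62714898, -2867884, 640622, -2034789, -52923, 22647, 550, 15])) (.node (.leaf [175, -47, 430, 176, -232, -6, -57, -117, 22, 9]) (.leaf [1999299, -460343, 5440385, 2560819, -3231389, -89052, -387862, -1837923, 207798, 149437, -6539, 1678, -6055, -222, 70, -1]))))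 (.node (.node (.node (.leaf [1029, -99, 2603, 1179, -1548, -9, -198, -803, 25, 67, -5]) (.leaf [])) (.node (.leaf [-355, 31, -920, -417, 565, -16, 61, 278, 0, -14, 0, 0, -1]) (.leaf [34264269, -5607074, 89720322, 41612469, -53185252, -1198976, -6628595, -29316371, 2270742, 2576957, -126644, -448, -60951, -488, 1362, 19, 1]))) (.node (.node (.leaf [0, 0, 1]) (.leaf [-33559298, 8914585, -96059528, -46800397, 58574859, 1828525, 5905865, 33998645, -3843970, -3285514, 132688, -79664, 124937, 1732, -318, -5, 1])) (.node (.leaf []) (.leaf [-109236, 23126, -285298, -131192, 166426, 3927, 23188, 93954, -9514, -8031, 58, -129, 143, -6, 3])))))) (.node (.node (.node (.node (.node (.leaf []) (.leaf [-10449236, 2455346, -28304043, -13244880, 16717159, 461766, 2082725, 9503138, -1124946, -743336, 33726, -11574, 32505, 1131, -348, 3])) (.node (.leaf [0, 0, 1]) (.leaf [957, -75, 2227, 939, -1236, -10, -215, -634, 34, 27, -4, -1]))) (.node (.node (.leaf [7, 0, 13, 4, -4, 0, -2, -4]) (.leaf [-577995, 40965, -1556830, -752092,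 970031, 15451, 76057, 521073, -11086, -47956, 4174, 2290, 1160, 7, -188, -1])) (.node (.leaf [0, 0, 1]) (.leaf [-146, 10, -359, -174, 210, 22, 31, 125, -4, -29, 2, 0, 1])))) (.node (.node (.node (.leaf [1141, -428, 3399, 1666, -2052, -106, -242, -1227, 196, 143, -6, 8, -5]) (.leaf [36996969, -7743985, 99297114, 46402072, -58853652, -1492609, -7237450, -33064739, 3420163, 2698984, -127132, 23365, -97379, -2965, 1100, -3])) (.node (.leaf [0, 0, 1]) (.leaf [348061, -81435, 955583, 452403, -570934, -15425, -66440, -324780, 36185, 27326, -1234, 362, -1074, -42, -9]))) (.node (.node (.leaf []) (.leaf [-61, 7, -152, -67, 88, 0, 13, 46, -2, -3])) (.node (.leaf [0, 0, 1]) (.leaf [53737060, -12373695, 140706218, 63787472, -80975712, -1927650, -11726630, -45438636, 5969648, 2697561, -110205, 14252, -148970, -9606, 2710, -58, 3]))))) (.node (.node (.node (.node (.leaf [0, 0, 1]) (.leaf [374609, -86322, 1019650, 480901, -607530, -15620, -72846, -345565, 36922, 29909, -996, 562, -929, -25, -7])) (.node (.leaf []) (.leaf [-351,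 29, -920, -419, 570, -16, 60, 277, 2, -16, 0, 0, -1]))) (.node (.node (.leaf [-22147, 5624, -63396, -30797, 38911, 966, 3887, 22152, -2282, -2134, 78, -58, 68, -1]) (.leaf [-18525704, 14510632, -70854620, -38518065, 45296214, 2750891, 2945292, 30432166, -6700504, -3554309, 58828, -330170, 225671, 2000, 5418, -29])) (.node (.leaf [0, 0, 1]) (.leaf [-5419, 1740, -15697, -7668, 9493, 336, 1022, 5662, -770, -551, 12, -16, 23])))) (.node (.node (.node (.leaf [23229, -6062, 66181, 32044, -40423, -1016, -4205, -23114, 2472, 2222, -68, 58, -68, 1]) (.leaf [-9357, 1999, -25137, -11800, 14869, 487, 1860, 8455, -891, -789, 47, -18, 26, 1])) (.node (.leaf [82500192, -18458777, 222098339, 103610529, -131263996, -3247817, -16412977, -74040740, 8270732, 5740860, -232768, 55626, -226080, -7861, 2350, -66, 1]) (.leaf [234172, -52249, 624018, 289704, -366620, -9473, -48254, -207420, 22928, 17162, -640, 284, -578, -14, -3]))) (.node (.node (.leaf []) (.leaf [1, 0, 3, 1, -1, 0, 0, -1])) (.node (.leaf [1471, -34, 3317, 1380, -1829,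 -18, -321, -914, 20, 38, -10, -3]) (.leaf [-59787716, 13491831, -163006637, -76862760, 97270202, 2426167, 11460682, 55030844, -5897091, -4548329, 177470, -47152, 166623, 4531, -1400, 54])))))))

def twoL151 : Janko.Tree (List ℤ) :=
  (.node (.node (.node (.node (.node (.node (.leaf []) (.leaf [113451633, 54764877, 154062650, 35993565, -70199174, 8070808, -26584242, -4751112, -27816362, -3260588, -754658, -1749211, 996154, 23217, 34290, 633, -2])) (.node (.leaf []) (.leaf [128300831, -23666988, 336175953, 155274263, -197747953, -4857576, -25855193, -109988073, 10031393, 9396034, -432111, 91900, -257880, -3762, 1962, 118, 5]))) (.node (.node (.leaf []) (.leaf [-43181799, 2855923, -91770580, -34868827, 46925727, 42107, 11654792, 22609195, -1821889, 328086, 53668, 167077, -17143, 8254, -3343, 5, -5])) (.node (.leaf [367, -32, 951, 430, -585, 15, -66, -283, 0, 16, 0, 0, 1]) (.leaf [194297, -43795, 516184, 236244, -299652, -8035, -40990, -167513, 22158, 10384, -1096, 39, -758, -39, 1])))) (.node (.node (.node (.leaf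 []) (.leaf [-18199, 5485, -52054, -25177, 31419, 917, 3451, 18438, -2386, -1671, 34, -46, 65, 3])) (.node (.leaf [7131163, 198494, 11842932, 3038092, -4637116, 212070, -2438277, -1513759, 121994, -584008, 4898, -49687, 17438, -2344, 796, 3, 1]) (.leaf [2, 0, 3, 1, -1, 0, -1]))) (.node (.node (.leaf []) (.leaf [-384, 343, -1374, -742, 785, 160, 118, 613, -198, -119, 8, -5, 7])) (.node (.leaf []) (.leaf [-32545442, 4142197, -79205714, -34697988, 44941514, 794518, 7265689, 23973984, -1728396, -1714027, 94534, 10523, 25329, 809, -630, -78, -1]))))) (.node (.node (.node (.node (.leaf []) (.leaf [-18419, 4294, -61855, -33823, 41822, 2297, 1391, 24629, -1278, -4520, 521, -360, 177, -24, -7])) (.node (.leaf []) (.leaf [-11095, 150, -22456, -8253, 11203, 83, 3026, 5221, -198, 41, 25, 42, -13]))) (.node (.node (.leaf [-107867, 27451, -301753, -144853, 181845, 5522, 20308, 104806, -11789, -9988, 368, -245, 352, 6, -3]) (.leaf [-973757, 235244, -2687784, -1273603, 1605145, 46876, 186817, 914653, -107021, -76770, 4408, -1788,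 3510, 74, -29])) (.node (.leaf [36, -36, 138, 72, -86, -3, -8, -57, 16, 3, 2]) (.leaf [16067, -1291, 36010, 14643, -19347, -220, -3993, -9800, 613, 378, -32, -17, 5])))) (.node (.node (.node (.leaf [-342, 40, -809, -340, 450, 6, 86, 227, -17, -15, 1]) (.leaf [-111447, 27228, -304921, -143971, 181222, 5023, 21788, 103900, -12062, -8693, 299, -185, 337, 6, 1])) (.node (.leaf [1686, -138, 3744, 1507, -1992, -21, -428, -1007, 69, 33, -4, -3, 1]) (.leaf [17496429, -2664060, 47472406, 22842329, -29102489, -706485, -2934347, -16176058, 860040, 1814621, -83362, 15279, -28710, 1867, 342, 35]))) (.node (.node (.leaf []) (.leaf [289, -47, 742, 326, -442, 12, -64, -218, 10, 11, 2, 0, 1])) (.node (.leaf [0, 0, -1, 0, 1]) (.leaf [-81607, 20454, -229543, -111669, 139232, 4471, 14293, 81637, -8620, -8081, 162, -71, 208, 13, 3])))))) (.node (.node (.node (.node (.node (.leaf []) (.leaf [])) (.node (.leaf []) (.leaf [4099, -580, 10224, 4519, -5906, -60, -900, -3101, 214, 219, -8, 5, -1]))) (.node (.node (.leaf [7, 0, 12, 4, -5,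 0, -2, -3]) (.leaf [52210520, -9094602, 138278450, 64607572, -82339185, -1990963, -9963509, -45700998, 3699593, 4146109, -207060, 28355, -104884, -734, 1249, 65])) (.node (.leaf []) (.leaf [6138, -8188, 40622, 26268, -30892, -1734, 1603, -20723, 3381, 3242, -161, 217, -201, 8, 3])))) (.node (.node (.node (.leaf []) (.leaf [-2375, 192, -5729, -2496, 3295, 25, 503, 1681, -61, -112, 8, 1, -1])) (.node (.leaf []) (.leaf [838881, -184956, 2270868, 1068666, -1351973, -35161, -163639, -765542, 78672, 67657, -2644, 1294, -2135, -49, -25, 1]))) (.node (.node (.leaf [-98490, 24492, -274218, -131261, 165155, 4578, 18512, 94836, -10372, -8794, 284, -197, 292, 4, 1]) (.leaf [22357055, -3912335, 62034395, 30258088, -38388073, -962934, -3630757, -21595106, 1259343, 2521525, -95478, 32629, -39102, 2736, -88, 33, 1])) (.node (.leaf [419938, -96423, 1160065, 555885, -699242, -21003, -78042, -401036, 39872, 40124, -1636, 1016, -1183, 4, -10, 1]) (.leaf [1257680, -315235, 3514411, 1681636, -2112397, -65779, -235580, -1213179, 141444,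 108610, -5729, 2806, -4694, -83, 28, 1]))))) (.node (.node (.node (.node (.leaf []) (.leaf [])) (.node (.leaf [101718, -24259, 279898, 132805, -167713, -4329, -19560, -95499, 10262, 8546, -304, 204, -282, -3]) (.leaf [40273, -11068, 112891, 54066, -67739, -1917, -7761, -39345, 4786, 3536, -86, 90, -131, -5]))) (.node (.node (.leaf []) (.leaf [-6003, 945, -16344, -7855, 10057, 172, 1003, 5559, -274, -603, 24, -10, 6])) (.node (.leaf [853264, -240978, 2259093, 1020263, -1282728, -35556, -196318, -737178, 122033, 35682, -962, 830, -2953, -239, 2, -1]) (.leaf [-27510, 3034, -69175, -31520, 40862, 399, 5331, 21955, -796, -1991, 87, -13, -1, -6, 1])))) (.node (.node (.node (.leaf [6, 0, 10, 3, -5, 0, -2, -1]) (.leaf [1709, -155, 4179, 1837, -2436, 9, -358, -1239, 36, 85, -4, -2, 1])) (.node (.leaf [3796, -292, 8747, 3660, -4835, -37, -882, -2457, 122, 117, -12, -4, 1]) (.leaf [146555, -31366, 390115, 181403, -229988, -5726, -29785, -129623, 13370, 11077, -396, 200, -331, -2, -1]))) (.node (.node (.leaf [13915, -3584,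 38711, 18505, -23228, -679, -2672, -13411, 1535, 1250, -40, 34, -45]) (.leaf [17974, 856, 40654, 18073, -23701, -757, -3708, -12069, -1059, 2234, -170, 47, 32, 10, -1])) (.node (.leaf [1375, -56, 3144, 1319, -1744, -20, -304, -876, 28, 42, -8, -3]) (.leaf [-7811821, 11072471, -47645765, -30751748, 35156612, 2750588, -840248, 25131310, -4300979, -4838135, 96990, -383922, 176042, -7697, 7493, -129, -1])))))))

def twoL152 : Janko.Tree (List ℤ) :=
  (.node (.node (.node (.node (.node (.node (.leaf []) (.leaf [-60047904, 13599818, -163820262, -77270861, 97774151, 2441550, 11505435, 55334858, -5945496, -4574596, 177634, -48176, 168055, 4590, -1403, 55])) (.node (.leaf [17289899, -30673911, 130533409, 87841807, -100392284, -7645704, 5289955, -71755247, 11874994, 13831728, -338568, 996112, -543337, 20102, -17028, 213, -9]) (.leaf [367386, -106034, 1086577, 541738, -675272, -21910, -60666, -396418, 42702, 44185, -1341, 1194, -1314, -22, -19, 1]))) (.node (.node (.leaf [44950426, -5217000, 104656751, 43178049, -56888806,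 -245860, -10693056, -29044322, 3021452, 6596, -60084, -216374, -48205, -12586, 7314, -146, -1]) (.leaf [1])) (.node (.leaf [-15669241, 332918, -40655181, -19663579, 25404238, 656730, 2320476, 13556066, 432872, -2077304, 131992, -19436, -2835, -4989, -118, -128, -1]) (.leaf [-14946057, 4434442, -45377860, -23044946, 28647398, 940664, 2208052, 16941874, -1729224, -1976194, 55934, -55868, 58359, -691, 524, -3])))) (.node (.node (.node (.leaf [-260, 218, -1120, -613, 792, -10, 63, 439, -64, -85, 6, -4, 1]) (.leaf [-119358343, 28978059, -324831327, -151971528, 191907299, 5005610, 23742970, 109039300, -13474313, -7943908, 340234, -73737, 382906, 17800, -3601, 166, 1])) (.node (.leaf [273423924, -37064226, 699702395, 319893956, -411705267, -8079080, -53614545, -222949656, 14769248, 18457131, -1051380, -204934, -369023, -8610, 14522, 283, 3]) (.leaf [1]))) (.node (.node (.leaf []) (.leaf [1])) (.node (.leaf [1]) (.leaf [1]))))) (.node (.node (.node (.node (.leaf [-5855850, 1390247, -16096104, -7625537, 9605681, 278402,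 1120403, 5483559, -625666, -464771, 22646, -8438, 19517, 470, -240, 1]) (.leaf [4, 1, 6, 1, -2, 0, -1, 0, 0, -1])) (.node (.leaf []) (.leaf [-137243, 182771, -601970, -325452, 374943, 26811, 39294, 265702, -84720, -30340, -1181, -5037, 2268, 28, 183, 1]))) (.node (.node (.leaf [17, -3, 43, 20, -26, 0, -3, -14, 1, 1]) (.leaf [-46920023, 13227768, -138947177, -69471070, 86550854, 2896532, 7536403, 50848307, -5294007, -5752352, 200898, -184193, 178257, -1967, 2232, -66, 1])) (.node (.leaf [503, -108, 1248, 538, -700, -14, -133, -369, 46, 27, 1]) (.leaf [-1147233, 237617, -3186290, -1544242, 1947672, 57022, 201108, 1110176, -88246, -125251, 5384, -3271, 2805, -136, 38, -3])))) (.node (.node (.node (.leaf [21390, -2689, 48964, 20031, -26426, -85, -5481, -13597, 1152, 474, -3, -4, 8, 0, 1]) (.leaf [-80832416, 12486160, -202837751, -90487186, 116472102, 2287616, 17429071, 63068741, -5570063, -4327419, 246413, 42924, 120031, 6051, -2444, -45, -3])) (.node (.leaf [-409, 54, -1024, -449, 603, -12, 89, 302, -12, -17, 0,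 0, -1]) (.leaf [1]))) (.node (.node (.leaf [-137, 18, -342, -147, 194, 3, 30, 99, -9, -3]) (.leaf [59, -13, 149, 66, -86, 0, -14, -46, 5, 3])) (.node (.leaf [1]) (.leaf [-16065424, 1281871, -39711885, -17845392, 23266465, 332630, 3131391, 12183541, -413290, -997887, 68768, 33351, 7679, 35, -965, -21])))))) (.node (.node (.node (.node (.node (.leaf []) (.leaf [18663652, -3406265, 49268181, 22851670, -29133389, -670816, -3641087, -16159992, 1470324, 1308085, -65876, -428, -40841, -1243, 898, 1])) (.node (.leaf [72268600, -12295719, 182209541, 80791475, -104040441, -1669780, -15580823, -56327795, 6038904, 2635993, -158422, -152020, -142124, -13753, 7422, -137, -1]) (.leaf [1]))) (.node (.node (.leaf [1]) (.leaf [-28900640, 7006358, -81376261, -39349296, 49462458, 1446161, 5143467, 28418146, -2957608, -2742897, 111010, -54622, 93379, 929, -278, -5])) (.node (.leaf []) (.leaf [-11490034, 2762594, -31339757, -14736773, 18573228, 522804, 2261976, 10596587, -1261012, -846209, 37598, -14281, 37002, 1207, -403, 5]))))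 (.node (.node (.node (.leaf []) (.leaf [-55285747, 14316250, -157912318, -76892476, 96478179, 2781576, 9654793, 55747644, -6026264, -5383062, 194474, -120531, 190154, 1611, -146, 15, 1])) (.node (.leaf []) (.leaf [5, 0, 6, 2, -2, 0, -1, -2]))) (.node (.node (.leaf []) (.leaf [])) (.node (.leaf [20787315, -16470308, 76004980, 39560922, -46555277, -2630895, -3976103, -31178793, 8427770, 2098094, -9332, 221186, -274218, -13589, -882, -156, -1]) (.leaf [-2359, 278, -5742, -2566, 3317, 15, 496, 1807, -73, -154, -1, 5, -1, -3]))))) (.node (.node (.node (.node (.leaf []) (.leaf [-309671, 105826, -641000, -203198, 257412, 5934, 117214, 143628, -75139, 37150, -1465, 1518, 1340, 300, -40, 3])) (.node (.leaf [842581, -123476, 2057320, 898034, -1161789, -19566, -192900, -622788, 53213, 40786, -1436, -323, -565, -59, -44, 1]) (.leaf [120, -29, 642, 412, -527, -12, 41, -290, -6, 58, -4, 2, -1]))) (.node (.node (.leaf []) (.leaf [1])) (.node (.leaf [15226007, -2025187, 37040123, 16018347, -20864490, -244662, -3401234, -10974712,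 987021, 456740, -32998, -39855, -17387, -2487, 1093, -26]) (.leaf [-3029, 167, -6845, -2819, 3745, 32, 713, 1867, -78, -78, 12, 6, -1, -1])))) (.node (.node (.node (.leaf [1]) (.leaf [-12551, 2511, -32555, -14862, 18849, 575, 2728, 10551, -1136, -910, 52, -18, 28])) (.node (.leaf [-18523, 5372, -54178, -26604, 33377, 916, 3234, 19335, -2222, -1908, 54, -56, 68, -1]) (.leaf [42257947, -9991373, 115102332, 54070043, -68174606, -1880390, -8220687, -38835049, 4652815, 2922908, -124544, 10066, -134229, -6971, 3240, -71, 1]))) (.node (.node (.leaf [1]) (.leaf [-338131, 69122, -933662, -451155, 568284, 17733, 60189, 324362, -26361, -36638, 1722, -918, 879, -34, 10, -1])) (.node (.leaf [1]) (.leaf [-71, -4, -186, -83, 118, -2, 13, 49, 4, -5, 1])))))))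

def twoL153 : Janko.Tree (List ℤ) :=
  (.node (.node (.node (.node (.node (.node (.leaf [0, 1]) (.leaf [0, 1])) (.node (.leaf [0, 1]) (.leaf []))) (.node (.node (.leaf [-2327, 251, -5199, -2112, 2761, 27, 597, 1446, -116, -57, 2, 4, -1]) (.leaf [-569535, 114697, -1542622, -731868, 927213, 24195, 107106, 523330, -44807, -52345, 2012, -1091, 1186, -24, 20, -1])) (.node (.leaf []) (.leaf [744648, -154286, 4246486, 2888424, -3565434, -126578, 377064, -2134905, -68555, 462581, -24257, 5923, -8025, 967, 42, 3, -1])))) (.node (.node (.node (.leaf []) (.leaf [0, 1])) (.node (.leaf [38813059, -5391033, 96903864, 43310403, -55904085, -999271, -8251793, -30100646, 2210417, 2269912, -107598, -24839, -37817, -1122, 1111, 24, 3]) (.leaf [17517, -4156, 59880, 33048, -40808, -2296, -1133, -24091, 1220, 4504, -525, 361, -178, 24, 7]))) (.node (.node (.leaf []) (.leaf [])) (.node (.leaf []) (.leaf [2746, -384, 6671, 2935, -3759, -88, -622, -2060, 164, 165, -10, 1, -2, -1]))))) (.node (.node (.node (.node (.leaf []) (.leaf [41296,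 -8689, 111380, 52469, -66544, -1524, -7889, -37588, 3460, 3379, -79, 81, -87, 2, -1])) (.node (.leaf [0, 1]) (.leaf [0, 1]))) (.node (.node (.leaf [0, 1]) (.leaf [0, 1])) (.node (.leaf []) (.leaf [-5966055, 1145796, -16202243, -7734565, 9788489, 271166, 1089677, 5531975, -435834, -585368, 25788, -12300, 12788, -448, 162, -13])))) (.node (.node (.node (.leaf [0, 1]) (.leaf [])) (.node (.leaf [38, -32, 116, 51, -61, -6, -18, -38, 16, 4, 1]) (.leaf [-49363729, 10592574, -133355629, -62712379, 79361043, 2147834, 9603166, 44840489, -4551763, -3984632, 185222, -77497, 133063, 1542, -353, -57]))) (.node (.node (.leaf [-6553, 718, -15458, -6548, 8612, 77, 1548, 4432, -301, -236, 14, 8, -2, 0, 1]) (.leaf [-5773, 587, -13263, -5494, 7225, 80, 1423, 3711, -268, -175, 21, 2, -1])) (.node (.leaf [-10725, 2340, -28768, -13396, 17065, 375, 2187, 9531, -951, -838, 29, -27, 21]) (.leaf [0, 1])))))) (.node (.node (.node (.node (.node (.leaf []) (.leaf [-6, 1, -12, -4, 6, -1, 2, 3])) (.node (.leaf [2327, -250, 5199, 2112, -2761,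 -27, -597, -1446, 116, 57, -2, -4, 1]) (.leaf [1602, -112, 3703, 1561, -2057, -29, -370, -1046, 46, 64, -6, -1]))) (.node (.node (.leaf []) (.leaf [28900, -6066, 77238, 36011, -45743, -1108, -5790, -25660, 2550, 2229, -90, 45, -65])) (.node (.leaf [1659, -212, 4136, 1827, -2395, -29, -372, -1239, 81, 101, -11, 1, -1]) (.leaf [-356684, -369174, 683597, 896325, -926947, -123677, 268820, -816553, 93408, 281057, -4709, 20782, -6053, 867, -562, 9])))) (.node (.node (.node (.leaf [-1630, 110, -3806, -1622, 2143, 30, 373, 1082, -36, -82, 6, 1]) (.leaf [-313116, 2737524, -5299192, -3322882, 3448421, 350206, 5646, 3009759, -1503670, -26359, -21228, -30414, 50473, 3621, -634, 49])) (.node (.leaf [-1446, 117, -3031, -1160, 1527, 8, 391, 787, -63, -4, 0, 3, -1]) (.leaf [2937, -9, 6974, 3069, -4067, -63, -564, -2027, -31, 185, -27, 1, 1, -1]))) (.node (.node (.leaf [-99450, 24606, -276628, -132322, 166565, 4555, 18693, 95557, -10415, -8802, 284, -195, 292, 4, 1]) (.leaf [0, 1])) (.node (.leaf []) (.leaf [1041, -121, 2509,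 1061, -1432, 12, -255, -696, 35, 42, -2, 0, 2, -1]))))) (.node (.node (.node (.node (.leaf []) (.leaf [0, 1])) (.node (.leaf [0, 1]) (.leaf [0, 1]))) (.node (.node (.leaf [0, 1]) (.leaf [24014130, -4062667, 64770465, 30801972, -39214109, -968539, -4279410, -21825638, 1519532, 2218001, -112640, 23772, -48934, 1126, 382, 47])) (.node (.leaf [1363405285, -198723978, 3336487304, 1450841930, -1878600165, -29696746, -306794985, -1002181894, 96655495, 48238199, -3339830, -2372661, -1917989, -199773, 107597, -720, 33]) (.leaf [125440664, -30958670, 345225979, 163090402, -205589777, -5540667, -24290351, -117342320, 14050182, 9294952, -377470, 130824, -408768, -14666, 3109, -136, -1])))) (.node (.node (.node (.leaf []) (.leaf [])) (.node (.leaf []) (.leaf [545, -150, 2022, 1134, -1451, -34, -20, -802, 20, 146, -6, 6, -1]))) (.node (.node (.leaf [-302, 30, -773, -360, 464, 3, 49, 254, -7, -20, 1]) (.leaf [0, 3, -7, -4, 6, 0, 0, 2, -1])) (.node (.leaf [1502, -61, 3436, 1441, -1908, -21, -331, -956, 30, 44, -8, -3]) (.leaf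 [4264341, -76173, 8728184, 3238896, -4427949, 18436, -1153329, -2046192, 52142, -9243, -5716, -16563, 6474, -314, 388, 3, 1])))))))

def twoL154 : Janko.Tree (List ℤ) :=
  (.node (.node (.node (.node (.node (.node (.leaf []) (.leaf [])) (.node (.leaf []) (.leaf [-45065, 4965, -109773, -48103, 62537, 1134, 9772, 32946, -2178, -2236, 223, 8, 39, 2, -4]))) (.node (.node (.leaf []) (.leaf [2823, -323, 6817, 2953, -3884, -16, -638, -2009, 111, 131, -5, -3, 1])) (.node (.leaf [0, 0, 1]) (.leaf [-843502370, 176330741, -2257718204, -1054122119, 1336567042, 34324614, 166568986, 751805772, -76729572, -63215431, 2830922, -869046, 2131257, 49624, -17610, -560, -9])))) (.node (.node (.node (.leaf [0, 0, 1]) (.leaf [])) (.node (.leaf []) (.leaf [13322, -2446, 34735, 15969, -20461, -356, -2746, -11275, 944, 977, -32, 10, -19, 1]))) (.node (.node (.leaf [1072, -105, 2033, 639, -866, -34, -364, -394, 94, -52, 2, 0, -1, -1]) (.leaf [5, 0, 4, -1, 1, 0, -3, 1])) (.node (.leaf [-3, 0, -3, -1, 1, 0, 1, 1]) (.leaf [59873060, -13552017,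 163314580, 77023166, -97462746, -2433287, -11474710, -55155203, 5926601, 4556025, -177216, 47635, -167531, -4592, 1412, -55]))))) (.node (.node (.node (.node (.leaf []) (.leaf [0, 0, 1])) (.node (.leaf [-6590443, 1060158, -17564671, -8297259, 10576470, 263997, 1205910, 5866174, -390467, -603139, 31606, -7786, 12476, -510, -92, -15]) (.leaf []))) (.node (.node (.leaf []) (.leaf [-60967756, 17381870, -176438736, -86559006, 107983075, 3575944, 10866485, 63246273, -7257433, -6640630, 216062, -230805, 220511, -358, 3344, -28, -3])) (.node (.leaf [-2, -7, 6, 4, -7, 0, -3, -1, 2, 3]) (.leaf [0, 0, 1])))) (.node (.node (.node (.leaf [-20299, 3352, -50463, -22176, 28798, 431, 4735, 15325, -1348, -1131, 33, -20, 16, 0, 1]) (.leaf [0, 0, 1])) (.node (.leaf [0, 0, 1]) (.leaf [-1, 0, 1, 0, -1, 0, 0, 1]))) (.node (.node (.leaf [-306288, 68395, -839128, -396984, 502266, 13443, 58216, 283728, -30092, -24544, 1408, -466, 992, 16, 7]) (.leaf [0, 0, 1])) (.node (.leaf [-17217, 2122, -42336, -18674, 24261, 404, 3751, 12846, -854,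 -949, 64, -4, 11]) (.leaf [-494266, 145489, -1280561, -563252, 708085, 19603, 122096, 406685, -77863, -11264, 214, -151, 1782, 198, -5, 1])))))) (.node (.node (.node (.node (.node (.leaf [0, 0, 1]) (.leaf [0, 0, 1])) (.node (.leaf []) (.leaf [2318, -281, 5398, 2235, -2971, 13, -562, -1510, 108, 40, 4, 1, 2]))) (.node (.node (.leaf [10, 0, 16, 5, -6, 0, -3, -4]) (.leaf [-613010, 126179, -1657117, -783935, 992834, 26149, 117304, 560776, -50120, -55254, 2078, -1172, 1323, -19, 16, -1])) (.node (.leaf []) (.leaf [0, 0, 1])))) (.node (.node (.node (.leaf [0, 0, 1]) (.leaf [0, 0, 1])) (.node (.leaf [8, -3, 41, 22, -31, 0, -1, -13, 0, 3]) (.leaf [0, 0, 1]))) (.node (.node (.leaf [0, 0, 1]) (.leaf [2935264, -638093, 8004529, 3788665, -4788057, -133209, -554848, -2712397, 276756, 241372, -11899, 4344, -8655, -104, 90, 3])) (.node (.leaf [12092518, -2130806, 30704631, 13759733, -17629730, -380733, -2621871, -9655530, 984322, 639986, -34574, -3138, -22753, -1203, 544, -3, 1]) (.leaf [-371247, 83259, -987874, -457714, 580292,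 13374, 76446, 327615, -36091, -25761, 472, -208, 756, 37, 13]))))) (.node (.node (.node (.node (.leaf []) (.leaf [1115, -96, 2211, 757, -1053, 53, -326, -493, 44, -61, 10, -4, 4])) (.node (.leaf []) (.leaf [-578, 50, -1043, -327, 434, -4, 188, 223, -34, 27, -4, 2, -1]))) (.node (.node (.leaf []) (.leaf [-440466, 107111, -1194823, -557923, 704676, 17952, 88571, 400619, -49174, -29526, 1154, -432, 1339, 77, 14])) (.node (.leaf []) (.leaf [0, 0, 1])))) (.node (.node (.node (.leaf []) (.leaf [0, 0, 1])) (.node (.leaf [0, 0, 1]) (.leaf [-1, -1, -1, 0, 1, -1, 0, 0, 1]))) (.node (.node (.leaf []) (.leaf [0, 0, 1])) (.node (.leaf []) (.leaf [-10, 3, -44, -24, 33, 0, 1, 15, 0, -3])))))))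

def twoL155 : Janko.Tree (List ℤ) :=
  (.node (.node (.node (.node (.node (.node (.leaf []) (.leaf [2284973, -572052, 6463040, 3127475, -3932533, -115182, -412207, -2258377, 239638, 222397, -9244, 5900, -7715, 5, -18, 1])) (.node (.leaf []) (.leaf [515908, -128352, 1439717, 692185, -867935, -26873, -95882, -501666, 54689, 48607, -1731, 1166, -1602, -18, -14, 1]))) (.node (.node (.leaf [-8, 0, -13, -4, 6, 0, 2, 3]) (.leaf [-30375732, 7876397, -86061671, -41636234, 52208215, 1568675, 5467323, 30181071, -3410836, -2820537, 110488, -65038, 107348, 1848, -554, -3])) (.node (.leaf []) (.leaf [-3622840, 807243, -10053495, -4827487, 6090830, 170503, 654154, 3467932, -332884, -338266, 14878, -6972, 10584, -34, -53, -3])))) (.node (.node (.node (.leaf []) (.leaf [12698335, -8505979, 58980023, 36121977, -43050394, -2306475, 1023885, -28022053, 3019564, 4820506, -158978, 217606, -160214, 5921, -2129, 41, -5])) (.node (.leaf [-1483, 213, -3086, -1157, 1493, 23, 448, 808, -114, -8, -4, 4]) (.leaf [521, 41, 1072, 424, -577,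 -1, -112, -269, -24, 11, 0, -2, 1]))) (.node (.node (.leaf [-2156, 191, -4684, -1855, 2438, 18, 563, 1259, -94, -32, 2, 4, -1]) (.leaf [48012920, -15014134, 148240328, 75811750, -93973791, -3284983, -6819348, -55867921, 6064933, 6448774, -218830, 189859, -220180, 1152, -689, -22, -1])) (.node (.leaf []) (.leaf [308181, 813585, -2002840, -1812494, 1949632, 198111, -380237, 1577875, -337000, -326466, 9632, -24622, 18191, -238, 280, -2, 1]))))) (.node (.node (.node (.node (.leaf []) (.leaf [104363497, -5667849, 232855434, 93284024, -125391957, 555923, -24703369, -60684399, 3746241, -733712, -166659, -672823, -4927, -26917, 18704, -358, -3])) (.node (.leaf [-14849162, 2750904, -42820296, -21476978, 27087793, 785297, 2100359, 15431641, -849582, -1977642, 88248, -36284, 36576, -2571, 72, -44, 1]) (.leaf [138920, -27509, 364830, 167952, -213965, -4865, -28509, -119179, 11802, 9528, -381, 139, -271, -4, -1]))) (.node (.node (.leaf []) (.leaf [-336, 98, -981, -448, 610, -35, 59, 304, -35, 11, -3, 1])) (.node (.leaf [24,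 -7, 69, 33, -44, 0, -6, -21, 2, 3]) (.leaf [])))) (.node (.node (.node (.leaf []) (.leaf [-244826390, 82678534, -715469635, -347698683, 431344966, 14654237, 46346287, 255991940, -38423063, -21371054, 684751, -835144, 1186420, 40221, -694, 156, 7])) (.node (.leaf [1971367, 274856, 3314702, 974770, -1494515, 68383, -586954, -485930, -137630, -50564, -480, -13418, 10095, 133, 142, 1, 1]) (.leaf [87388517, -23768148, 241896743, 113867504, -143143479, -3927279, -17388941, -82259529, 11268404, 5759306, -221370, 80706, -325524, -15838, 3184, -202, -1]))) (.node (.node (.leaf []) (.leaf [-21892094, -5044116, -37769101, -12077249, 18616487, -983974, 5380557, 5870065, 2500265, 524056, 72692, 238926, -110273, -321, -4714, -31])) (.node (.leaf [-102788, 24937, -285013, -136155, 171581, 4578, 19382, 98199, -10433, -9141, 306, -207, 291, 4, 1]) (.leaf [142571, -21527, 380266, 181180, -230921, -6167, -26055, -128209, 6395, 15826, -764, 413, -206, 35, -7, 1])))))) (.node (.node (.node (.node (.node (.leaf []) (.leaf [-239065258,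 59910106, -670736991, -321310889, 404639694, 10892401, 43622538, 231486295, -26799284, -19203376, 793704, -204474, 835794, 28640, -7594, 364, 7])) (.node (.leaf []) (.leaf [696, -86, 1533, 595, -798, 14, -173, -403, 40, -25, 8, 0, 1]))) (.node (.node (.leaf [-47656749, 14195380, -143579991, -72380735, 89899751, 3142492, 7344953, 53153629, -5839754, -5949310, 224116, -183850, 207243, -168, 1610, -52, 3]) (.leaf [-4212240, 1157774, -12280796, -6048337, 7553143, 248732, 706036, 4402248, -503654, -435410, 20792, -11578, 18051, 182, -134, 1])) (.node (.leaf []) (.leaf [-33815368, 8803092, -96383231, -46913020, 58751038, 1824353, 5983011, 34065561, -3729144, -3371974, 128838, -86747, 118730, 919, -39, -17])))) (.node (.node (.node (.leaf []) (.leaf [39, -21, 139, 71, -93, 1, -10, -50, 6, 8, 0, 0, 0, 1])) (.node (.leaf []) (.leaf [40406, -10921, 114673, 55352, -69556, -1842, -7437, -40139, 4610, 3685, -104, 98, -130, -4]))) (.node (.node (.leaf []) (.leaf [])) (.node (.leaf []) (.leaf [56701428, -30935419, 234318876,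 137006730, -165476031, -7254313, 836604, -104648016, 11620261, 15391668, -467453, 530628, -567924, 9307, -342, -182, -17]))))) (.node (.node (.node (.node (.leaf [51, -3, 110, 46, -60, 0, -13, -31, 0, 3]) (.leaf [])) (.node (.leaf [-4047, 377, -9274, -3858, 5066, 47, 971, 2619, -164, -123, 10, 4, -1]) (.leaf [80522, -21095, 281437, 157834, -194219, -9131, -2746, -116581, 5880, 19945, -1332, 856, -536, 39, 4, 1]))) (.node (.node (.leaf []) (.leaf [951626, -654260, 3314894, 1694526, -2016451, -107389, -184438, -1313789, 338908, 83250, -1522, 7358, -11207, -561, 64, -10])) (.node (.leaf []) (.leaf [22126904, -11512006, 82125859, 45568745, -55071669, -2486213, -1684710, -34776917, 4719229, 4588147, -126586, 209098, -191831, 1029, -780, -17, -3])))) (.node (.node (.node (.leaf [66487735, -10879047, 171366855, 78192351, -100261629, -2067238, -13504220, -54849132, 4631736, 4261272, -217282, -17756, -112510, -3490, 2052, 22, 1]) (.leaf [-2, -1, -2, 0, -1, 1, 0, 0, 0, 0, 0, 0, 0, 1])) (.node (.leaf [111804281, -19438640,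 285896943, 128735776, -165169017, -3145604, -23499710, -90230132, 9027072, 5584603, -305608, -117936, -221081, -14578, 6868, -69, -1]) (.leaf [0, 0, -1, 0, 1]))) (.node (.node (.leaf []) (.leaf [6375052, -1000876, 16932619, 7982588, -10185292, -250016, -1170849, -5635769, 365655, 577731, -30496, 7118, -11599, 511, 96, 15])) (.node (.leaf [1132, -161, 2979, 1389, -1797, -27, -214, -965, 50, 97, -6, 2, -1]) (.leaf [-10, 3, -45, -24, 34, 0, 1, 15, 0, -3])))))))

def twoL156 : Janko.Tree (List ℤ) :=
  (.node (.node (.node (.node (.node (.node (.leaf [2, 0, 2, 0, 0, 0, -1]) (.leaf [-177575, 32441, -467492, -217320, 276802, 6354, 35111, 154213, -12988, -13983, 560, -130, 298, -3, 3])) (.node (.leaf [828499700, -268537691, 2402235844, 1166235687, -1448644872, -49923480, -158385881, -857008705, 121737776, 77447321, -2619736, 3281308, -3725705, -72211, -29560, -22, 1]) (.leaf [29680308, -18085943, 98241463, 50475394, -59963355, -3674256, -6484527, -39386160, 8068623, 5011592, -94768, 533433, -243710, 4512, -11263, 262,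 5]))) (.node (.node (.leaf [1]) (.leaf [5968022, -1145962, 16207028, 7736655, -9791270, -271156, -1090094, -5533376, 435872, 585462, -25794, 12299, -12787, 448, -162, 13])) (.node (.leaf [355419, 1760023, -1056922, -595039, 310952, 135200, 120657, 795632, -1093518, 329175, -29668, -4242, 32041, 3690, -822, 61]) (.leaf [1])))) (.node (.node (.node (.leaf []) (.leaf [-5811304, 635925, -13230631, -5388812, 7096832, 66238, 1460645, 3624803, -337837, -76088, 7892, 16319, 2057, 985, -443, 7, -1])) (.node (.leaf [1]) (.leaf [6492, -1814, 18897, 9306, -11645, -356, -1128, -6773, 742, 719, -24, 20, -25, 1]))) (.node (.node (.leaf [58, -19, 172, 81, -106, 0, -12, -56, 8, 3]) (.leaf [])) (.node (.leaf [1]) (.leaf [11975026, -1982394, 32004190, 15031646, -19217084, -405148, -2157327, -10583455, 822060, 884041, -47563, -10782, -25671, -812, 876, -9]))))) (.node (.node (.node (.node (.leaf []) (.leaf [1272749, -280212, 3457283, 1629120, -2057295, -56524, -242501, -1166803, 126943, 94874, -4345, 142, -3772, -155, 78, -1]))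 (.node (.leaf [-212589017, 62249713, -634938282, -317884876, 395830395, 12759244, 33327951, 232895248, -25874684, -24526351, 832232, -640364, 886538, 3903, -1806, 91, 9]) (.leaf [50144, -16038, 130484, 56755, -71412, -1544, -12529, -41082, 8922, -30, 0, -22, -200, -28, 6]))) (.node (.node (.leaf []) (.leaf [32209560, -12255799, 108270152, 58070082, -71137375, -2913744, -3416254, -43495801, 4692951, 5896687, -193456, 234774, -189844, 4572, -2948, 61, -3])) (.node (.leaf [-29, 0, -68, -29, 40, 0, 8, 18, 2, -4]) (.leaf [-2495234, 498285, -6956987, -3381717, 4275521, 115272, 421695, 2424740, -180776, -268864, 11160, -5717, 5911, -266, 34, -5])))) (.node (.node (.node (.leaf []) (.leaf [-4744431, 907264, -12524332, -5800540, 7381309, 186349, 949623, 4111023, -393507, -345053, 18732, -4914, 11099, 165, -138, -5])) (.node (.leaf [1]) (.leaf [-1809481, 450396, -5056366, -2423611, 3042547, 95448, 337181, 1750429, -199810, -160957, 8509, -4436, 6641, 91, -27, -1]))) (.node (.node (.leaf [1]) (.leaf [115589834, -3134118,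 251477373, 100597150, -135007718, -600904, -28263433, -65462598, 1229554, 2570216, -351486, -352768, 101021, -2773, 6454, 270, 7])) (.node (.leaf [-8442, 2220, -23834, -11442, 14481, 325, 1597, 8241, -879, -784, 19, -31, 21]) (.leaf [-73066, 18617, -217652, -109951, 137077, 4524, 10382, 80322, -7284, -9212, 414, -229, 263, -3, 3])))))) (.node (.node (.node (.node (.node (.leaf []) (.leaf [])) (.node (.leaf [1]) (.leaf [-1099, 123, -2862, -1321, 1727, 10, 196, 907, -34, -73, 4, -1, 2]))) (.node (.node (.leaf []) (.leaf [-2201598, 341327, -6161675, -3046675, 3860287, 112666, 333753, 2172524, -92922, -288567, 15370, -7438, 4537, -581, 14, -11])) (.node (.leaf [-1746, 109, -3821, -1526, 2015, 37, 449, 1012, -62, -44, 8, 3]) (.leaf [1])))) (.node (.node (.node (.leaf []) (.leaf [-947660488, 125230741, -2272866182, -971526252, 1264156003, 17433101, 218802657, 665719779, -63053310, -26283329, 2229548, 2156157, 1116795, 153195, -81348, 627, -29])) (.node (.leaf [1507601986, -353952022, 4128724840, 1951065940, -2462688627,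 -66196498, -290345065, -1401189415, 156464607, 117546791, -4785236, 1845132, -4518337, -125040, 35786, -531, 19]) (.leaf [7493771, -1009602, 18248762, 7936388, -10287999, -170462, -1684232, -5468435, 475980, 302046, -22720, -9812, -9380, -815, 246, 10]))) (.node (.node (.leaf [38696, -8722, 105370, 49897, -63083, -1556, -7419, -35899, 3501, 3334, -76, 93, -90, 2, -1]) (.leaf [])) (.node (.leaf [1140, 13, 2560, 1079, -1451, 12, -230, -712, -30, 42, -4, 0, 1]) (.leaf [1]))))) (.node (.node (.node (.node (.leaf [1]) (.leaf [])) (.node (.leaf []) (.leaf [40120, -10896, 112930, 54248, -68034, -1908, -7591, -39418, 4680, 3584, -98, 94, -132, -3]))) (.node (.node (.leaf []) (.leaf [1])) (.node (.leaf [1]) (.leaf [2394525, -674907, 6949520, 3418039, -4260596, -146087, -418336, -2496749, 285392, 262544, -10406, 8995, -9434, -9, -41, 3])))) (.node (.node (.node (.leaf []) (.leaf [7261515, -3039292, 21909808, 10760761, -13132958, -594305, -1457698, -8076705, 1465018, 712153, -29492, 49362, -48411, -953, 38, 3])) (.node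 (.leaf [-297993, 37419, -729196, -319649, 413115, 10582, 66733, 219775, -17672, -16291, 1962, -420, 575, -6, -12, -1]) (.leaf [7, -1, 10, 4, -4, -1, -2, -3, 1]))) (.node (.node (.leaf [1]) (.leaf [-3643, 209, -6921, -2380, 3110, 94, 1123, 1593, -178, 27, 4, 9, 0, -1])) (.node (.leaf []) (.leaf [-14272591, 3728286, -39739614, -18934840, 23771849, 700813, 2746701, 13703741, -1664434, -1181492, 45609, -29555, 49355, 1182, -101, -1])))))))

def twoL157 : Janko.Tree (List ℤ) :=
  (.node (.node (.node (.node (.node (.node (.leaf []) (.leaf [76224, -22230, 209675, 97824, -122728, -3690, -16239, -70921, 10505, 5036, -126, 204, -279, -15, -1])) (.node (.leaf []) (.leaf [730549598, -227021513, 2096190440, 1011072455, -1259395543, -41296821, -140378481, -740089355, 103857476, 63487327, -2168189, 2301392, -3133469, -86808, -8259, -370, 7]))) (.node (.node (.leaf []) (.leaf [0, 1])) (.node (.leaf []) (.leaf [-37887162, 7913883, -100695365, -46614523, 59213567, 1443225, 7626765, 33146795, -3580592, -2499916, 115062, -10036,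 97116, 4034, -1601, 28, -1])))) (.node (.node (.node (.leaf []) (.leaf [-54827, 13478, -153205, -73655, 92586, 2719, 10179, 53217, -5671, -5187, 204, -124, 171, -3, 1])) (.node (.leaf [-3906398, 854078, -10226410, -4651092, 5902946, 150824, 835311, 3306547, -415976, -206370, 11636, -355, 11305, 734, -224, 1]) (.leaf [947611874, -125224089, 2272748205, 971475231, -1264089492, -17432132, -218791307, -665684831, 63050462, 26281090, -2229400, -2156159, -1116769, -153193, 81346, -627, 29]))) (.node (.node (.leaf [0, 1]) (.leaf [])) (.node (.leaf [-34600, 4843, -84624, -36847, 48112, 564, 7978, 25271, -1895, -1732, 68, -17, 11, 0, 1]) (.leaf [0, 1]))))) (.node (.node (.node (.node (.leaf [0, 1]) (.leaf [0, 1])) (.node (.leaf []) (.leaf [849322603, -196276955, 2331692410, 1105186347, -1395072716, -37711063, -160931556, -793445363, 86140939, 67943499, -2946064, 1089823, -2574756, -66140, 24859, 175, -13]))) (.node (.node (.leaf []) (.leaf [49857041, -14725582, 149933851, 75532451, -93851362, -3266171, -7705344, -55441410,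 6032867, 6225821, -234327, 193026, -213687, 508, -1784, 59, -3])) (.node (.leaf [0, 1]) (.leaf [-16638988, 2774153, -41342435, -18065630, 23340661, 355690, 3727671, 12528472, -1394766, -506116, 33856, 35375, 29711, 3433, -1202, 37])))) (.node (.node (.node (.leaf []) (.leaf [0, 1])) (.node (.leaf [-14142, 3625, -39265, -18741, 23535, 684, 2732, 13573, -1553, -1262, 40, -33, 45]) (.leaf [78735, -22605, 234259, 117157, -145869, -4853, -12244, -85858, 9370, 9013, -284, 287, -313, 2, 6]))) (.node (.node (.leaf []) (.leaf [1661, -188, 3593, 1393, -1843, -11, -463, -938, 92, 15, 2, -2, 1])) (.node (.leaf [0, 1]) (.leaf [-3008426, 713064, -8170526, -3828428, 4830239, 139332, 602265, 2745663, -327014, -222064, 11538, -4553, 9828, 295, -50, -1])))))) (.node (.node (.node (.node (.node (.leaf []) (.leaf [0, 1])) (.node (.leaf [-174, 100, -627, -303, 418, -37, 25, 207, -35, 14, -4, 1]) (.leaf [2708, -443, 6803, 2987, -3900, -35, -591, -2059, 190, 93, -2, 6, -2]))) (.node (.node (.leaf [0, 1]) (.leaf [52240, -11849, 142303,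 67108, -84996, -2094, -10170, -48058, 4973, 4249, -155, 94, -130, -1])) (.node (.leaf [0, 1]) (.leaf [300095121, -71622505, 810653733, 377346154, -477078838, -12176963, -60666004, -270354171, 33266288, 19401048, -790804, 171014, -912045, -42906, 8949, -431, 3])))) (.node (.node (.node (.leaf []) (.leaf [-200113502, -15855756, -341735511, -96191599, 145695754, -6773230, 61389971, 48604379, 2210846, 14782578, 91182, 1929479, -528229, 66891, -44324, 291, -19])) (.node (.leaf [0, 1]) (.leaf [819242, -178758, 2214092, 1041128, -1317533, -34235, -159899, -745383, 76045, 65807, -2618, 1222, -2061, -49, -26, 1]))) (.node (.node (.leaf [706, -27, 1826, 844, -1120, -8, -116, -561, -1, 52, -8, 1]) (.leaf [42992, -11135, 120149, 57483, -72336, -1898, -8147, -41586, 4728, 3740, -108, 92, -130, -3])) (.node (.leaf [0, 1]) (.leaf [-2077567, 571459, -5152727, -2192984, 2774572, 63467, 549884, 1574534, -302406, -28893, -5486, 2564, 4462, 759, 76, 11, -1]))))) (.node (.node (.node (.node (.leaf [9, -2, 19, 7, -10, 0, -3, -4, 1])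 (.leaf [137001, -28029, 370824, 175946, -222587, -5841, -25804, -126128, 11019, 12500, -412, 219, -267, 4, -7])) (.node (.leaf []) (.leaf [-46433, 13252, -134100, -65509, 81938, 2381, 8273, 47769, -5610, -4615, 132, -117, 169, 2, 1]))) (.node (.node (.leaf [0, 1, 0, 0, 1, -1]) (.leaf [1150, -167, 2697, 1130, -1471, -28, -297, -773, 77, 47, -2, -1])) (.node (.leaf [735453431, -199462737, 2062963658, 985683019, -1235922549, -36886842, -140820213, -714604616, 89996833, 60617402, -2308259, 1515918, -2686513, -75366, 5068, -435, 5]) (.leaf [1906883, -662197, 5664422, 2787988, -3442217, -133177, -349488, -2060708, 307177, 190990, -7786, 7878, -10201, -269, 24, -1])))) (.node (.node (.node (.leaf []) (.leaf [])) (.node (.leaf []) (.leaf [0, 1]))) (.node (.node (.leaf []) (.leaf [])) (.node (.leaf []) (.leaf [-2487, 264, -5399, -2108, 2767, 37, 672, 1427, -148, -15, 2, 3])))))))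

def twoL158 : Janko.Tree (List ℤ) :=
  (.node (.node (.node (.node (.node (.node (.leaf [0, 0, 1]) (.leaf [-249660, 55141, -671681, -314416, 398096, 10108, 49709, 225095, -23546, -19400, 688, -368, 597, 11, 3])) (.node (.leaf [-15633325, -26598815, 60855925, 61884053, -66312783, -6850386, 15073918, -54417850, 9208636, 14029995, -222594, 994014, -501586, 26235, -19674, 39, -11]) (.leaf [47646856, -18690440, 134045136, 63037531, -77303436, -3516676, -11665716, -47167323, 8650153, 4484789, -111212, 444689, -225940, 254, -9631, 262, 7]))) (.node (.node (.leaf [-129, 67, -327, -135, 166, 9, 55, 100, -31, -13, -1]) (.leaf [894683, -156584, 2407738, 1148164, -1454596, -41934, -163599, -818972, 56418, 92331, -4576, 2168, -1780, 132, -28, 3])) (.node (.leaf []) (.leaf [1767928, -1097039, 6081705, 3128850, -3773051, -137931, -296447, -2411505, 530591, 156921, 7146, 9171, -16105, -980, 177, -15])))) (.node (.node (.node (.leaf []) (.leaf [0, 0, 1])) (.node (.leaf [1, 0, 0, 0, 1, 0, 0, -1]) (.leaf [0, 0, 1]))) (.node (.node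 (.leaf [22, 34, 30, 15, -24, -3, 6, -4, -17, 4, -1]) (.leaf [0, 0, 1])) (.node (.leaf [-157, 7, -399, -180, 242, -1, 30, 118, 1, -11, 1]) (.leaf [426526, 1706400, -1116557, -878244, 589283, 239890, 93319, 1070718, -908212, -38023, -15685, -44474, 27013, 1114, 732, -1]))))) (.node (.node (.node (.node (.leaf [99466, -25282, 278273, 133422, -167818, -4730, -18658, -96427, 10763, 8930, -290, 222, -306, -4, -1]) (.leaf [54, 9, 111, 42, -60, 2, -10, -25, -4, -1, -1])) (.node (.leaf [0, 0, 1]) (.leaf [0, 0, 1]))) (.node (.node (.leaf []) (.leaf [14858, -5181, 46762, 23887, -29738, -918, -2220, -17544, 2099, 1953, -56, 66, -72, 1])) (.node (.leaf [-26, -2, -57, -25, 34, 0, 5, 16, 2, -2]) (.leaf [0, 0, 1])))) (.node (.node (.node (.leaf []) (.leaf [1, 1, 2, 0, -1, 1, 0, 0, -1])) (.node (.leaf [-276733856, 13466299, -660607901, -288367348, 380784157, 2368734, 55341166, 193115812, -4271174, -11506922, 945286, 1199394, -4941, 18268, -35178, 167, 7]) (.leaf [22088350, -9713928, 71065972, 36445312, -44462864, -1867765, -3565546,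 -27455625, 4361730, 2859703, -76946, 150969, -147836, -2067, -836, -9]))) (.node (.node (.leaf [-5, 0, -6, -1, 1, 0, 2, 1]) (.leaf [-5029718, 1159191, -12724386, -5564243, 7095289, 158846, 1204127, 3934213, -600507, -146655, 6298, 2264, 13457, 1156, -484, 20, -1])) (.node (.leaf [-3155, 58, -10270, -5711, 7343, 159, -9, 4014, 260, -765, 49, -34, -4, -2, 1]) (.leaf [111397205, -4795013, 246553363, 99432024, -133205185, -234844, -26732101, -65015041, 2393588, 1593337, -261194, -454399, 60146, -11759, 10175, 29, 5])))))) (.node (.node (.node (.node (.node (.leaf []) (.leaf [-13986, 2818, -46701, -25657, 31660, 1923, 993, 18659, -751, -3675, 476, -327, 153, -24, -7])) (.node (.leaf [-120, 5, -289, -125, 170, 0, 27, 79, 0, -7, 1]) (.leaf [0, 0, 1]))) (.node (.node (.leaf []) (.leaf [-6622784, 1330331, -17715876, -8273355, 10520926, 232860, 1274780, 5884771, -573550, -464749, 15208, 2238, 13995, 859, -116, 3])) (.node (.leaf []) (.leaf [918661310, -142184852, 2252078977, 976611561, -1263997206, -19316245, -208750318,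 -675225400, 71066473, 28299227, -2013688, -1805636, -1444557, -160839, 76647, -1190, 25])))) (.node (.node (.node (.leaf []) (.leaf [-926948434, 123786159, -2228336579, -954383204, 1241158642, 17376938, 213297124, 654547672, -62161820, -26358840, 2197278, 2081004, 1121847, 149347, -79816, 631, -27])) (.node (.leaf [1247877674, -309083818, 3459668594, 1648215828, -2073886050, -59322809, -237316882, -1189072486, 135488856, 105028340, -4142707, 2333418, -4001690, -82551, 10382, 62, 17]) (.leaf [904790, -195692, 2506800, 1206659, -1523512, -41782, -162547, -866871, 76448, 89941, -3556, 2062, -2309, 13, -34, 2]))) (.node (.node (.leaf [701, -24, 1804, 832, -1103, -8, -114, -554, -2, 50, -8, 1]) (.leaf [])) (.node (.leaf [1029, 66, 2282, 970, -1307, 15, -180, -639, -54, 33, -4, 0, 1]) (.leaf [-5843449, 1527456, -16547904, -7992715, 10019461, 307169, 1060367, 5792073, -671668, -532475, 22895, -12958, 21595, 368, -142, 1]))))) (.node (.node (.node (.node (.leaf [65, -7, 164, 74, -98, 0, -12, -50, 2, 3]) (.leaf [])) (.node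 (.leaf [0, 0, 1]) (.leaf [420, 28, -172, -448, 652, -74, -302, 285, 64, -76, 2, -4, -2, 1]))) (.node (.node (.leaf [0, 0, 1]) (.leaf [5, -3, 28, 16, -23, 0, -1, -9, 0, 3])) (.node (.leaf [-3, 0, -5, -3, 3, 0, 0, 4, 0, 0, 0, 0, 0, -1]) (.leaf [-11117668, 2419923, -28922904, -13036599, 16662858, 274820, 2396570, 9226582, -1154104, -460238, 10836, 13480, 26187, 1799, -580, 44])))) (.node (.node (.node (.leaf [0, 0, 1]) (.leaf [-1198614933, 188898863, -2996386028, -1327075400, 1709894607, 30616761, 260399927, 923618642, -89383392, -52290268, 3194468, 1669410, 1984565, 163124, -85730, 592, -25])) (.node (.leaf []) (.leaf [-54, -9, -110, -42, 60, -2, 10, 25, 4, 1, 1]))) (.node (.node (.leaf [-3717, 208, -8520, -3568, 4723, 39, 836, 2383, -87, -110, 13, 6, -1, -1]) (.leaf [-6716656, 539552, -14880469, -5917853, 7872337, 39737, 1700607, 3910780, -316005, -20714, 11274, 25814, 689, 1291, -718, 7])) (.node (.leaf [0, 0, 1]) (.leaf [2762, -173, 6075, 2439, -3254, -2, -699, -1617, 64, 68, -6, -6, 3])))))))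

def twoL159 : Janko.Tree (List ℤ) :=
  (.node (.node (.node (.node (.node (.node (.leaf []) (.leaf [-6579111, 2864260, -19519004, -9313781, 11428837, 410607, 1390367, 6957534, -1495282, -308384, 3268, -12716, 44710, 3104, -889, 45])) (.node (.leaf []) (.leaf []))) (.node (.node (.leaf []) (.leaf [])) (.node (.leaf []) (.leaf [99549612, -27214819, 279489863, 133319231, -167280062, -4794396, -18992582, -96572963, 12505481, 7662313, -288532, 141022, -373062, -13858, 2097, -171, -1])))) (.node (.node (.node (.leaf []) (.leaf [433693, 22586, 1066578, 501010, -664745, -8176, -68378, -332908, -32154, 55249, -3538, 480, 868, 191, -54, 5])) (.node (.leaf []) (.leaf [4892747, -562502, 10843813, 4259947, -5636926, -35814, -1303050, -2844141, 330544, -22913, -2043, -17552, -1688, -1161, 515, -13, 1]))) (.node (.node (.leaf []) (.leaf [5171, -447, 11986, 5037, -6632, -59, -1206, -3399, 189, 171, -16, -6, 1])) (.node (.leaf []) (.leaf [1256228, 1425580, 1280240, 267196, -834331, 191463, -69955, 232272, -766792, 15492, -18773,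 -42642, 22283, 884, 800, -3]))))) (.node (.node (.node (.node (.leaf []) (.leaf [-71037, 20781, -212168, -106111, 133151, 3493, 11525, 77347, -7699, -8744, 111, -288, 211, -7, 6])) (.node (.leaf []) (.leaf [5150736, -505518, 11402197, 4504311, -5977899, -35371, -1345575, -2991611, 290377, 5270, -4925, -17840, -565, -1035, 484, -9, 1]))) (.node (.node (.leaf [-10, 1, -26, -11, 15, 0, 3, 7, 0, -1]) (.leaf [-3667, 190, -7418, -2717, 3639, -1, 1014, 1791, -123, 45, -2, 10, -4])) (.node (.leaf [-21994, 7132, -72032, -38067, 47614, 1306, 2406, 27942, -2267, -3740, 46, -165, 76, -8, -1]) (.leaf [127872453, -32092285, 351033587, 165264795, -208274023, -5616056, -25155306, -118958742, 14747604, 9092225, -355444, 122619, -419623, -17071, 3182, -183, 1])))) (.node (.node (.node (.leaf [988, -99, 2509, 1138, -1495, -9, -192, -774, 25, 67, -5]) (.leaf [42883584, -82395438, 361415973, 248116995, -284002683, -20683532, 20380302, -202218054, 32176622, 37530836, -973102, 2383732, -1573871, 31217, -26485, 520, -49])) (.node (.leaf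 []) (.leaf [181518, -40208, 477823, 219451, -278688, -5882, -38059, -156878, 17643, 11233, 2, -58, -296, -30, -11]))) (.node (.node (.leaf []) (.leaf [23240032, -5066617, 62259068, 28988558, -36728477, -947466, -4655335, -20695332, 2265859, 1649479, -75336, 22820, -63617, -1878, 766, 3])) (.node (.leaf [-18547, 4719, -51601, -24593, 30978, 1007, 3730, 17656, -2016, -1820, 93, -58, 62, 2, -3]) (.leaf [-5618, 685, -12082, -4570, 6065, 1, 1528, 3081, -407, 154, -18, 6, -4, 0, 1])))))) (.node (.node (.node (.node (.node (.leaf []) (.leaf [])) (.node (.leaf []) (.leaf [3412, -503, 8566, 3786, -4957, -34, -737, -2598, 192, 156, -6, 5, -1]))) (.node (.node (.leaf [-649, 9, -1383, -513, 728, -2, 182, 298, -6, 0, 2, 1, -1]) (.leaf [3844074, -430456, 8873573, 3637933, -4773989, -68483, -940956, -2441697, 266894, 23693, -14430, -12339, -5844, -958, 421, -3])) (.node (.leaf []) (.leaf [11961772, -4678217, 37383815, 18994255, -23296889, -941803, -1969963, -14202931, 2049789, 1531947, -45604, 74914, -68792, -445, -670, 7]))))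 (.node (.node (.node (.leaf [6, 0, 11, 4, -4, 0, -2, -3]) (.leaf [-182798021, -18431588, -300259573, -78559582, 122816173, -7123475, 57258966, 36466933, 3523081, 15230868, 61344, 1895124, -549077, 63867, -43037, 264, -17])) (.node (.leaf [-62670876, 24120933, -189683926, -94134555, 115700197, 4611266, 11658510, 70183757, -10931225, -6880475, 205488, -376600, 343853, 4995, 4566, -34, -1]) (.leaf [672172, -143722, 1813806, 852633, -1079697, -27822, -130631, -609782, 60944, 53895, -2218, 954, -1656, -38, -28, 1]))) (.node (.node (.leaf [44323, -4908, 115040, 53825, -69341, -1092, -7680, -37634, 1420, 3564, -152, -48, 2, -4, -3]) (.leaf [1272501, 1357215, -27442, -888617, 564034, 272165, -420491, 1081658, -700603, -190021, 872, -34493, 28290, 822, 394, 11])) (.node (.leaf []) (.leaf [258495829, -2896225, 524682641, 189923873, -262338930, 3137230, -69302302, -117374649, 5514096, -7398725, -362854, -1736548, 243745, -70680, 42460, -339, 7]))))) (.node (.node (.node (.node (.leaf []) (.leaf [-378, 16, -965, -479, 575,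 64, 68, 344, -13, -77, 11, -1, 3])) (.node (.leaf [52, -27, 121, 49, -57, -5, -19, -40, 14, 0, 2, 0, 0, 1]) (.leaf [0, 0, -1, 0, 1]))) (.node (.node (.leaf [-3809, 292, -8774, -3670, 4849, 37, 885, 2464, -122, -117, 12, 4, -1]) (.leaf [2269678, -237344, 5272282, 2207815, -2895199, -40481, -549669, -1493717, 109538, 77294, -6672, -2220, -908, -84, 72, 3])) (.node (.leaf [106237612, -21297172, 281947359, 130975620, -166407025, -4155037, -21229917, -93134731, 9202070, 7808163, -353160, 95298, -246491, -5288, 1024, 69, 3]) (.leaf [-1411416, -395935, -2610414, -974032, 1441919, -47656, 282354, 522740, 231032, -51094, 9048, 11455, -8205, -444, -85, -11])))) (.node (.node (.node (.leaf []) (.leaf [609119, -148122, 1737278, 850409, -1069488, -30207, -104598, -615332, 56850, 66939, -2140, 1852, -1686, 34, -25, 1])) (.node (.leaf []) (.leaf [-149, 1, -336, -138, 186, -1, 31, 91, 0, -2, 1]))) (.node (.node (.leaf [136055266, -43178058, 441403260, 235306807, -289677378, -11787649, -15042491, -175034480, 14676107, 25975695,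 -889018, 1029326, -614356, 35500, -14570, 681, -3]) (.leaf [-73435, 17328, -200177, -94473, 119283, 3093, 14500, 67949, -7323, -6116, 206, -133, 197, 2, -1])) (.node (.leaf []) (.leaf [772, -25, 1747, 733, -966, -14, -170, -489, 10, 28, -4, -1])))))))

def twoL160 : Janko.Tree (List ℤ) :=
  (.node (.node (.node (.node (.node (.node (.leaf []) (.leaf [122824, -35108, 351289, 170517, -212378, -7153, -22461, -124616, 15828, 11444, -424, 250, -492, -11, 1])) (.node (.leaf [1]) (.leaf [1]))) (.node (.node (.leaf []) (.leaf [-400, 1201, -6515, -4777, 5688, 323, -665, 3699, -391, -768, 38, -39, 27, -1])) (.node (.leaf [179, -41, 431, 182, -236, -5, -51, -126, 17, 10, 2, -1]) (.leaf [189610, -42536, 505393, 234428, -296788, -7720, -39279, -167649, 18796, 13766, -494, 193, -496, -7, -2])))) (.node (.node (.node (.leaf [1]) (.leaf [-119726054, 21345126, -287193579, -121664188, 156499752, 3422228, 30063060, 84784868, -10926430, -3611244, 271342, -25716, 208995, 15507, -1682, -126, -7])) (.node (.leaf [36893, -8357, 107149,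 53053, -67032, -1877, -5862, -38081, 3022, 4471, -286, 215, -137, 12, -1]) (.leaf [-51791924, 19362820, -180218719, -99068546, 121378979, 4916673, 4001369, 74274055, -6620972, -11182616, 360092, -443054, 299298, -16351, 5910, -134, 7]))) (.node (.node (.leaf []) (.leaf [1])) (.node (.leaf []) (.leaf [1, 0, 2, 0, 1, 0, 0, 0, 0, 0, 0, 0, 0, -1]))))) (.node (.node (.node (.node (.leaf []) (.leaf [-44, 6, -116, -53, 70, 0, 8, 36, -2, -2])) (.node (.leaf [-19616928, 2869708, -50054455, -22767256, 29286261, 556686, 3961755, 15902113, -1163764, -1267728, 59628, 13190, 24989, 687, -878, -6, -1]) (.leaf [-10713851, 3473416, -30558098, -14585586, 18152629, 583331, 2136167, 10687501, -1665323, -775059, 24110, -23984, 49227, 2329, -270, 19]))) (.node (.node (.leaf [1]) (.leaf [1])) (.node (.leaf [48, -94, 202, 89, -119, 8, -38, -66, 36, 5, 4, 0, 1]) (.leaf [-60204646, 14251433, -165362510, -78228512, 98825762, 2497497, 11494242, 56172315, -6272590, -4600678, 165236, -54225, 177925, 5356, -1544, 69])))) (.node (.node (.node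 (.leaf [-42, 9, -111, -49, 66, 0, 11, 32, -3, -3]) (.leaf [3, 0, 6, 3, -4, 0, 0, -2])) (.node (.leaf [-15533284, 2722276, -44156527, -22156120, 27912800, 881198, 2326145, 15968444, -651685, -2346704, 75597, -63268, 19009, -4574, 1500, -65, -3]) (.leaf [-106646774, -58826252, -157244201, -47659290, 84324206, -7485068, 19292898, 13713566, 32023414, -1856031, 950288, 1657562, -1029619, -46586, -32399, -771, 11]))) (.node (.node (.leaf [2414, -339, 5908, 2628, -3367, -72, -542, -1848, 128, 172, -8, 0, -1]) (.leaf [75, -14, 195, 89, -118, 0, -18, -60, 3, 8])) (.node (.leaf [-3915, 841, -10484, -4897, 6218, 141, 786, 3501, -340, -315, 12, -10, 9]) (.leaf [3070863, -619196, 8451335, 4058050, -5136172, -136294, -546630, -2903859, 238680, 299775, -12884, 5791, -7438, 175, -13, 5])))))) (.node (.node (.node (.node (.node (.leaf []) (.leaf [])) (.node (.leaf []) (.leaf [200114683, 15855671, 341738790, 96193192, -145697875, 6773243, -61390129, -48605451, -2210870, -14782457, -91184, -1929477, 528229, -66891, 44324, -291,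 19]))) (.node (.node (.leaf [8, 0, 14, 5, -6, 0, -2, -4]) (.leaf [37487, -10955, 107438, 52051, -65165, -1789, -6951, -37966, 4689, 3452, -72, 94, -131, -3])) (.node (.leaf []) (.leaf [-74697645, 17284316, -203630926, -95881435, 121204790, 3115533, 14498323, 68741273, -7648600, -5614604, 223022, -73747, 216707, 6194, -1676, 51])))) (.node (.node (.node (.leaf [1]) (.leaf [-39342285, -20496536, -3341103, 32142887, -28724680, -5978114, 19974004, -33053549, 6315059, 12704051, -187807, 992020, -426761, 30699, -20642, 111, -11])) (.node (.leaf [-1264895, 324337, -3497445, -1655100, 2081063, 61659, 247658, 1193541, -149014, -97370, 4761, -2338, 4622, 135, -33]) (.leaf [1]))) (.node (.node (.leaf []) (.leaf [1])) (.node (.leaf [8559, -2082, 23402, 11067, -13943, -390, -1704, -7979, 884, 740, -24, 18, -24, 1]) (.leaf [16, -36, 380, 289, -363, -12, 51, -208, 0, 53, -4, 2, -1]))))) (.node (.node (.node (.node (.leaf [-5, -5, -10, -5, 6, 0, -2, 4, 2, 1]) (.leaf [1])) (.node (.leaf []) (.leaf [-99778348, 13079720, -246990965,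 -109065751, 141339869, 2126229, 21155278, 75214250, -6096860, -4167901, 284930, 237422, 130872, 13412, -10002, 101, -1]))) (.node (.node (.leaf []) (.leaf [1])) (.node (.leaf [194053491, -39750773, 520755272, 243890806, -309517092, -7737894, -37722123, -173759518, 17002079, 14924975, -659904, 173782, -474088, -8764, 2898, 66, 3]) (.leaf [1])))) (.node (.node (.node (.leaf []) (.leaf [-11650190, 1902548, -30593194, -14222880, 18179950, 418822, 2246600, 10018356, -754745, -916928, 50276, -8486, 21737, -200, -123, -23])) (.node (.leaf []) (.leaf [37402280, -7877418, 101412546, 47932851, -60661121, -1644172, -7145217, -34279646, 3281966, 3211796, -145528, 67038, -96989, -80, -115, 61]))) (.node (.node (.leaf []) (.leaf [-202863, 30277, -524632, -243910, 312049, 6994, 40169, 172268, -9307, -19223, 636, -439, 137, -27, 18, -1])) (.node (.leaf [-5391, 457, -12828, -5506, 7264, 70, 1202, 3698, -176, -227, 22, 4]) (.leaf [1])))))))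

def twoL161 : Janko.Tree (List ℤ) :=
  (.node (.node (.node (.node (.node (.node (.leaf []) (.leaf [0, 1])) (.node (.leaf []) (.leaf [29855892, -7098714, 81913588, 38787001, -48870650, -1404222, -5770640, -27906043, 3131789, 2440578, -107800, 53327, -93168, -1913, 439, 17]))) (.node (.node (.leaf [39, -17, 130, 72, -84, -2, -1, -59, 7, 5]) (.leaf [373032658, -78752218, 985607171, 453964716, -576421899, -14384199, -76885186, -322990826, 35886318, 24116557, -1136787, 228470, -957533, -37847, 10695, -10, 11])) (.node (.leaf []) (.leaf [-80413, 15354, -226638, -110180, 139819, 3703, 12766, 78333, -6191, -7713, 596, -211, 264, 2, 3])))) (.node (.node (.node (.leaf []) (.leaf [653317197, -179172231, 1838706771, 880387660, -1103171941, -33221315, -124417718, -638861087, 80774356, 54604696, -2050734, 1376782, -2419755, -66965, 4126, -462, 7])) (.node (.leaf [0, 1]) (.leaf [21027596, -15625363, 75495106, 39551358, -46637317, -2740073, -4121748, -31143546, 7515811, 3016638, -27074, 308724, -236485, -5687, -4808, -25,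 2]))) (.node (.node (.leaf [0, 1]) (.leaf [76370, -13786, 195756, 88694, -113459, -2365, -16261, -62587, 5870, 4813, -200, 61, -122, 2, -1])) (.node (.leaf [-46692, 16162, -139806, -69517, 85660, 3457, 8386, 51442, -7312, -5324, 179, -134, 241, 8, -1]) (.leaf [-13464809, 5025597, -41355550, -20804813, 25595824, 993006, 2287139, 15492364, -2220099, -1601928, 48564, -74027, 73333, 790, 560, -3]))))) (.node (.node (.node (.node (.leaf []) (.leaf [73, 6, 165, 67, -94, 1, -16, -40, -3, 2, -1])) (.node (.leaf []) (.leaf [0, 1]))) (.node (.node (.leaf []) (.leaf [0, 0, 0, 0, -1, 1])) (.node (.leaf [-366, -146, -459, -104, 143, 53, 109, 35, 51, -25, 9, -1]) (.leaf [1197260, -338620, 3375792, 1634609, -2037325, -73282, -238385, -1196887, 134372, 140593, -3778, 6990, -3393, 158, -234, 3])))) (.node (.node (.node (.leaf []) (.leaf [-1654106, 330328, -3967017, -1651112, 2124011, 43521, 424958, 1147349, -191133, -7571, 3243, 2802, 4315, 572, -210, 3])) (.node (.leaf [-4833, 316, -11306, -4807, 6357, 47, 1064, 3219, -121,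 -172, 21, 5, -1]) (.leaf [-582239011, 137543867, -1613722730, -771027155, 971284610, 27576153, 108324497, 555166533, -59052911, -50981201, 2201966, -1122204, 1818724, 23459, -5372, -518, 18]))) (.node (.node (.leaf [0, 1]) (.leaf [305, -74, 768, 329, -433, -4, -87, -224, 30, 18, 1])) (.node (.leaf [38497, -6367, 93416, 40458, -52025, -909, -9086, -28369, 2885, 1637, -48, 5, -43, -4, -1]) (.leaf [1162066, -251159, 3105750, 1448481, -1835713, -45539, -233696, -1036021, 106380, 88981, -2760, 1532, -2521, -57, -33, 1])))))) (.node (.node (.node (.node (.node (.leaf [0, 1]) (.leaf [])) (.node (.leaf [-185, 11, -444, -192, 257, 0, 39, 126, -2, -8, 1]) (.leaf [1781, -117, 4193, 1801, -2377, -31, -396, -1204, 37, 90, -7, -1]))) (.node (.node (.leaf []) (.leaf [0, 1])) (.node (.leaf [-1682, 98, -3656, -1454, 1919, 37, 434, 964, -58, -41, 8, 3]) (.leaf [0, 1])))) (.node (.node (.node (.leaf []) (.leaf [0, 1])) (.node (.leaf [-40611195, 17916000, -124126529, -61310166, 74776658, 3297649, 8204793, 46174308, -8427711, -4246811,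 116359, -305684, 258370, 5257, 4446, -26, -1]) (.leaf [11463, -3082, 32749, 15965, -19959, -617, -2034, -11636, 1290, 1162, -37, 37, -45, -1, 1]))) (.node (.node (.leaf [0, 1]) (.leaf [])) (.node (.leaf []) (.leaf [115109496, -32017595, 346666616, 175224532, -218496646, -6944958, -16781644, -128100774, 12718457, 14352525, -526538, 345251, -464440, 3235, 71, -6, -7]))))) (.node (.node (.node (.node (.leaf []) (.leaf [-32746672, 7636679, -82899285, -36002906, 46031831, 842347, 7774196, 25355931, -4176529, -431391, 37663, 67210, 102665, 11597, -3560, 133])) (.node (.leaf [-4239, 390, -9731, -4054, 5328, 47, 1012, 2749, -167, -130, 10, 4, -1]) (.leaf [0, 1]))) (.node (.node (.leaf [0, 1]) (.leaf [-2298, 145, -5199, -2137, 2839, 20, 548, 1419, -63, -60, 8, 3, -1])) (.node (.leaf []) (.leaf [-35900844, 8786208, -113016931, -59454350, 74138344, 2428356, 3631211, 43418292, -2868845, -5864029, 239329, -114856, 139955, -5991, -860, -29, 3])))) (.node (.node (.node (.leaf []) (.leaf [-468433, 158544, -1413816, -696522,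 865576, 27918, 75643, 509699, -79741, -32758, 1427, 154, 2819, 224, -103, 3])) (.node (.leaf [0, 1]) (.leaf [6032880, -1559141, 16866146, 8052880, -10112499, -299405, -1134224, -5818717, 711380, 483262, -21490, 8691, -22287, -702, 208, -7]))) (.node (.node (.leaf [0, 1]) (.leaf [0, 1])) (.node (.leaf [17076, -3114, 43495, 19509, -24966, -651, -3812, -13661, 1445, 1035, -70, 7, -36, -2, 1]) (.leaf [-22, 7, -78, -39, 53, -1, 4, 26, -1, -4])))))))

def twoL162 : Janko.Tree (List ℤ) :=
  (.node (.node (.node (.node (.node (.node (.leaf []) (.leaf [1906676, 2547412, 1815163, 770773, -1622119, 95964, -114677, -18120, -1729926, 841901, -59950, 23880, 51279, 7735, -2355, 148, -1])) (.node (.leaf [3, 0, 5, 1, -1, 0, -1, -1]) (.leaf [3396050, -1506861, 10611717, 5312995, -6510007, -228956, -613906, -3998559, 687789, 342914, 1654, 17134, -20059, -747, -91, -10]))) (.node (.node (.leaf [0, 0, 1]) (.leaf [-3094, 1371, -12276, -7032, 8657, 374, 45, 5205, -492, -816, 50, -36, 27, -1])) (.node (.leaf [0, 0, 1]) (.leaf [169146,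 -37779, 448621, 207291, -262540, -6776, -35510, -148146, 16789, 11968, -418, 141, -430, -7, -3])))) (.node (.node (.node (.leaf [-1, 0, -2, 0, 1, 0, 1, -1]) (.leaf [-125279047, 25583280, -313628699, -137847294, 175692124, 4467734, 29659832, 97434247, -12515925, -5704695, 328848, -128107, 285416, 13369, -615, -132, -5])) (.node (.leaf [-780636, -281994, -1550095, -685077, 976859, -12687, 115300, 403049, 205901, -126146, 7176, 595, -6818, -918, 158, -15]) (.leaf [-87167200, 33956999, -309433845, -171655230, 209981102, 8570761, 5837332, 129007142, -11532528, -19682673, 616800, -782080, 529249, -29279, 10734, -201, 13]))) (.node (.node (.leaf []) (.leaf [-1, 1, -6, -3, 4, 0, 1, 2, 0, -1])) (.node (.leaf []) (.leaf [2525310, -494822, 6923241, 3305908, -4188701, -103763, -439800, -2358436, 209849, 207342, -10189, -819, -6929, -199, 245, -1]))))) (.node (.node (.node (.node (.leaf [0, 0, 1]) (.leaf [0, 0, 1])) (.node (.leaf [-23285106, 3766844, -60350220, -27755349, 35528558, 766572, 4627183, 19521846, -1538786, -1647398,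 75384, 2856, 36621, 618, -768, -10, -1]) (.leaf [-30, 10, -80, -37, 46, 1, 7, 27, -5, -1]))) (.node (.node (.leaf [3, -3, 4, 0, 0, 0, -2, 0, 2, -1]) (.leaf [-19620026, 5930739, -58542637, -28875869, 36246137, 936542, 3198998, 20930053, -2655541, -1735564, 60654, -15776, 85408, 5196, 2078, 41, 3])) (.node (.leaf [1306, -69, 3161, 1396, -1838, 4, -236, -951, 20, 40, -4, -4, 1]) (.leaf [7080756, -1602534, 19699484, 9600117, -11994181, -448844, -1299283, -6984477, 584754, 899224, -39464, 40995, -19008, 1265, -734, 61, -1])))) (.node (.node (.node (.leaf [0, 0, 1]) (.leaf [0, 0, 1])) (.node (.leaf []) (.leaf [0, 0, 1]))) (.node (.node (.leaf []) (.leaf [0, 0, 1])) (.node (.leaf [0, 0, 1]) (.leaf [-5625, 684, -12090, -4572, 6066, 1, 1529, 3084, -407, 155, -18, 6, -4, 0, 1])))))) (.node (.node (.node (.node (.node (.leaf []) (.leaf [])) (.node (.leaf [0, 0, 1]) (.leaf [1770, -118, 4175, 1794, -2370, -31, -394, -1198, 36, 91, -6, -1]))) (.node (.node (.leaf [0, 0, 1]) (.leaf [-6969, 399, -15997, -6723, 8877, 112, 1597,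 4493, -156, -279, 37, 4, -3, 1])) (.node (.leaf [0, 0, 1]) (.leaf [52787838, -19528824, 166664348, 85404496, -105194205, -3887258, -7773129, -63515279, 8425368, 6786802, -214916, 253958, -299127, -3021, -182, -46, -3])))) (.node (.node (.node (.leaf [-443, 56, -1139, -521, 680, 3, 86, 360, -15, -31, 1]) (.leaf [])) (.node (.leaf [0, 0, 1]) (.leaf [16610457, -2661339, 44554466, 21146486, -26968093, -623940, -2939993, -14955241, 971316, 1499179, -69266, 5084, -29101, 505, 456, 21]))) (.node (.node (.leaf [25, 1, 63, 30, -40, 1, -2, -21, -1, 1]) (.leaf [2495297, -517274, 6689931, 3132914, -3967818, -105863, -488694, -2236391, 224273, 194557, -9252, 2439, -6453, -105, 56, 1])) (.node (.leaf [624, -1246, 6837, 4822, -5740, -310, 593, -3745, 434, 698, -30, 38, -26, -1]) (.leaf [-178, -35, 19, 158, -202, 6, 107, -117, -8, 46, -2, 2, -1]))))) (.node (.node (.node (.node (.leaf [0, 0, 1]) (.leaf [-35804628, 29814677, -134034937, -73033612, 84097258, 7117972, 7759859, 58978434, -12990854, -9703124, 289540, -1159384, 439384,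 -18037, 26674, -856, -5])) (.node (.leaf []) (.leaf [-38079876, 7571735, -94656085, -41214309, 52760286, 1150933, 9049278, 28959827, -3817932, -1332010, 74754, 8680, 82197, 6702, -1942, 28, -3]))) (.node (.node (.leaf [-370483, 100711, -1022407, -482038, 605495, 16728, 74672, 349317, -45623, -27478, 792, -769, 1232, 38, 3]) (.leaf [-1436132263, 277650476, -3791816937, -1756086661, 2234532850, 54224462, 287214990, 1245712695, -120223736, -102505045, 4815562, -852612, 3220003, 74874, -33824, -639, -37])) (.node (.leaf [0, 0, 1]) (.leaf [-472, 66, -1196, -534, 706, 5, 104, 361, -19, -32, -1])))) (.node (.node (.node (.leaf [26588, -6048, 71637, 33526, -42426, -1068, -5348, -24036, 2580, 2071, -68, 44, -67, 1]) (.leaf [57853, -11408, 149810, 68321, -87057, -1899, -12347, -48522, 4842, 3878, -132, 56, -102, 0, -1])) (.node (.leaf [-467, 43, -1071, -446, 585, 7, 107, 306, -15, -13, 0, -3]) (.leaf [0, 0, 1]))) (.node (.node (.leaf []) (.leaf [-28187, 6091, -74614, -34507, 43761, 1072, 5831, 24661, -2624, -2023, 63,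 -42, 67, -1])) (.node (.leaf [-220, -50, -521, -208, 333, -37, 24, 103, 34, 19, 2, -2]) (.leaf [-3175356, 608055, -8332869, -3848307, 4890791, 128110, 646875, 2732012, -263297, -233815, 11913, -3335, 7016, 86, 38, -5])))))))

def twoL163 : Janko.Tree (List ℤ) :=
  (.node (.node (.node (.node (.node (.node (.leaf [5, 0, 10, 3, -5, 0, -2, -1]) (.leaf [])) (.node (.leaf []) (.leaf [71289175, -14075893, 173761778, 73791761, -95035247, -1599021, -17618839, -51441536, 7516665, 1153158, -86480, -97315, -152994, -18127, 4563, -118, 3]))) (.node (.node (.leaf [-1, -1, -1, 0, 0, 1]) (.leaf [-60, 7, -147, -65, 86, 0, 12, 45, -2, -3])) (.node (.leaf []) (.leaf [-146276, 29044, -398823, -189075, 239941, 6319, 26807, 134445, -12377, -12173, 788, -223, 425, 4, 5])))) (.node (.node (.node (.leaf []) (.leaf [61729020, -15578599, 176221298, 86114517, -107945872, -3328989, -10717704, -62463968, 6373651, 6515270, -247722, 173363, -203539, 670, -1395, 63])) (.node (.leaf [-17706067, -9840378, -19162244, -1066479, 6180131, -2210989,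 4484308, -3295096, 4228827, 2707511, 34522, 502463, -160056, 7515, -13947, 181, 1]) (.leaf [2340428, -487871, 6379511, 3032394, -3835705, -101611, -433869, -2170744, 201076, 204520, -7991, 2237, -5738, -64, 27, 1]))) (.node (.node (.leaf []) (.leaf [3001, -169, 6378, 2486, -3283, -35, -772, -1664, 101, 27, -8, -5, 1])) (.node (.leaf []) (.leaf [634965, -53382, 1710787, 824346, -1061742, -17629, -87261, -572655, 16267, 52480, -4348, -2197, -1290, -8, 188, 1]))))) (.node (.node (.node (.node (.leaf []) (.leaf [-15827, 4338, -45183, -21977, 27250, 1115, 2602, 16172, -2028, -1292, 3, -83, 66, -5, -5])) (.node (.leaf [-4, 0, -7, -2, 4, 0, 1, 1]) (.leaf [10083751, -1814322, 25677498, 11516255, -14747804, -318190, -2180797, -8086384, 849051, 518899, -28496, -4224, -20206, -1124, 582, -8, 1]))) (.node (.node (.leaf []) (.leaf [129342986, -30599794, 390078422, 199795728, -249741283, -7954022, -16641422, -145458262, 10635446, 18430109, -728528, 374380, -443086, 15877, 2004, 196, -7])) (.node (.leaf [443, -154, 1343, 640,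 -847, 26, -79, -447, 54, 13, 4, -1]) (.leaf [-1859, 193, -4750, -2180, 2839, 16, 325, 1514, -52, -110, 4, -1, -1])))) (.node (.node (.node (.leaf []) (.leaf [-4258698, 875662, -11292953, -5225927, 6639879, 166242, 861919, 3714371, -390318, -293454, 14618, -3758, 10799, 300, -166, -1])) (.node (.leaf [-1031, 78, -2440, -1050, 1380, 7, 216, 714, -30, -33, 2, 2]) (.leaf [-399388117, 83357888, -1065139480, -495534760, 628429447, 16315492, 79763782, 353160677, -36827700, -29001347, 1442738, -467321, 1050512, 26345, -8724, -541, 10]))) (.node (.node (.leaf []) (.leaf [])) (.node (.leaf [-3046, 474, -7101, -2951, 3824, 105, 814, 2025, -229, -129, 5, -2, 1]) (.leaf [-164774, 33922, -445307, -210811, 266756, 6998, 31319, 151038, -13519, -14724, 510, -264, 336, -4, 7])))))) (.node (.node (.node (.node (.node (.leaf []) (.leaf [811243, -96212, 2482883, 1345689, -1690421, -62603, -72697, -974675, -26713, 211978, -8264, 8726, -106, 804, -283, 11])) (.node (.leaf []) (.leaf [1217, -73, 2800, 1174, -1554, -20, -279, -780, 30,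 43, -4, -1]))) (.node (.node (.leaf []) (.leaf [102769, -24860, 284431, 135679, -170952, -4639, -19441, -97832, 10512, 8982, -301, 194, -292, -4, -1])) (.node (.leaf []) (.leaf [-869827056, 173285773, -2306242930, -1070538895, 1360366458, 33664492, 173461171, 761021791, -75356114, -62679673, 2866515, -639811, 2034118, 52958, -22663, -549, -15])))) (.node (.node (.node (.leaf []) (.leaf [])) (.node (.leaf [-73011645, 23401314, -208422808, -100008343, 124329187, 4316639, 14652339, 73376489, -10785527, -6339399, 222060, -288585, 319304, 7835, 3139, -31, -1]) (.leaf [-6943, 2048, -19541, -9347, 11682, 324, 1365, 6837, -902, -580, 8, -14, 24, -1]))) (.node (.node (.leaf []) (.leaf [])) (.node (.leaf [0, 0, -1, 0, 1]) (.leaf [-6478, 1721, -17784, -8415, 10543, 295, 1298, 6129, -749, -530, 10, -15, 21]))))) (.node (.node (.node (.node (.leaf []) (.leaf [-25070733, 6621790, -64411758, -28035717, 35679774, 687391, 6009777, 19877322, -3706330, -141190, 21466, 55830, 96190, 10881, -3122, 130, 1])) (.node (.leaf [-2762487,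 647707, -7275911, -3310247, 4192917, 106849, 595665, 2361938, -319596, -137090, 7048, -352, 8627, 561, -148, 3]) (.leaf [-32129183, 7305429, -87813636, -41470639, 52409680, 1396237, 6137464, 29709557, -3242694, -2472664, 110470, -29222, 96159, 2876, -1144, 19]))) (.node (.node (.leaf []) (.leaf [-65229, 16911, -182253, -87156, 109704, 2891, 12411, 63025, -7174, -5690, 162, -143, 197, 3])) (.node (.leaf [104097092, -12845136, 253634886, 110973093, -144038137, -2329208, -22948595, -76364702, 5622287, 4891290, -308977, -129412, -91628, -6701, 3398, 84, 5]) (.leaf [509, -4, 1233, 541, -728, -12, -101, -345, -4, 31, -4])))) (.node (.node (.node (.leaf [-3481, 320, -7886, -3245, 4267, 36, 855, 2198, -142, -95, 8, 4, -1]) (.leaf [39982434, -16872262, 130198182, 67125058, -82381620, -2955404, -5652622, -50192221, 7692262, 4671540, -116678, 134604, -270132, -7518, 3070, -257, -1])) (.node (.leaf []) (.leaf [-611625515, 162220043, -1716646908, -822075173, 1031444476, 30531864, 115476766, 595453514, -72284669, -51864211,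 1995356, -1238770, 2178813, 53744, -5301, 263, -3]))) (.node (.node (.leaf []) (.leaf [-1764, 179, -3825, -1488, 1972, 13, 483, 997, -89, -17, 0, 2, -1])) (.node (.leaf [27, -14, 90, 49, -59, -3, -3, -37, 5, 4, 1]) (.leaf [64657, -19670, 180479, 84874, -106331, -3194, -13460, -61694, 9279, 4387, -112, 199, -254, -13, -1])))))))

def twoL164 : Janko.Tree (List ℤ) :=
  (.node (.node (.node (.node (.node (.node (.leaf [1]) (.leaf [-12943, 24695, -39494, -11008, 11280, -798, 9185, 10974, -15354, 7650, -714, 142, 326, 60, -11, 1])) (.node (.leaf [6872965, 3672825, 7263915, 369221, -2267131, 829953, -1869164, 1197502, -1721894, -815786, -5862, -154756, 70737, -480, 3654, -12, -1]) (.leaf [1]))) (.node (.node (.leaf []) (.leaf [1])) (.node (.leaf [9399491, -1376570, 22944392, 9982443, -12912068, -221882, -2141777, -6910737, 640830, 388603, -22088, -8885, -10781, -889, 457, 1, 1]) (.leaf [1])))) (.node (.node (.node (.leaf [-1450, 149, -3544, -1547, 2043, 4, 310, 1046, -52, -60, 4, 2, -1]) (.leaf [1])) (.node (.leaf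 [-3913, 358, -8707, -3543, 4619, 83, 996, 2414, -179, -117, 11, 5, 1]) (.leaf [-1241, 62, -3005, -1328, 1748, -4, 222, 904, -18, -37, 4, 4, -1, 1]))) (.node (.node (.leaf [-5230756, 1505940, -14682720, -6971185, 8725299, 271274, 1033318, 5060097, -715460, -383370, 18128, -10462, 22215, 751, -240, 9]) (.leaf [-9, 6, -35, -19, 22, 1, 1, 15, -3, -1])) (.node (.leaf [-4695, 408, -10384, -4157, 5490, 60, 1209, 2786, -204, -86, 8, 6, -2]) (.leaf [125899905, -36286903, 349745819, 165145724, -206656157, -6424876, -25798125, -120117897, 16801280, 9559341, -354572, 373056, -483878, -15300, -1664, 119, -3]))))) (.node (.node (.node (.node (.leaf []) (.leaf [-31749, 4315, -76751, -32934, 43511, 37, 7482, 22377, -1479, -1310, -24, -15, -15, -2, 5])) (.node (.leaf [1]) (.leaf [1]))) (.node (.node (.leaf []) (.leaf [-3094347, 701576, -8450817, -3995215, 5041746, 142739, 592874, 2866166, -310057, -248687, 12069, -4494, 9536, 173, -100, -1])) (.node (.leaf [1]) (.leaf [1])))) (.node (.node (.node (.leaf []) (.leaf [12966341,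 -2842088, 35737754, 17003974, -21516457, -513292, -2324299, -12170935, 1256806, 968858, -41830, -3510, -39184, -1679, 1396, -18])) (.node (.leaf []) (.leaf [-547092779, 152820868, -1498503849, -700063208, 878603009, 25783087, 115201973, 507194909, -71496778, -37690913, 1298032, -1240982, 1950063, 70562, 8056, 250, -11]))) (.node (.node (.leaf []) (.leaf [1747, -109, 3821, 1526, -2015, -37, -449, -1012, 62, 44, -8, -3])) (.node (.leaf [-1008856277, 277213378, -2778387525, -1303379086, 1637437720, 46492312, 206287501, 942682867, -130262668, -68511475, 2523476, -1677726, 3665287, 154362, -13434, 1215, -13]) (.leaf [-3435063, 1052263, -9782679, -4676268, 5833916, 183376, 662721, 3410937, -507564, -245316, 10130, -5411, 15840, 733, -241, 9])))))) (.node (.node (.node (.node (.node (.leaf [-48, 15, -130, -59, 76, 0, 12, 42, -6, -3]) (.leaf [1])) (.node (.leaf [1]) (.leaf [30366, -8177, 92324, 46896, -59131, -1450, -4300, -34006, 2665, 4162, -66, 171, -77, 8, 1]))) (.node (.node (.leaf [61, -9, 153, 68, -90, 0, -13,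 -46, 3, 3]) (.leaf [-1963576, 1372615, -10508182, -7057346, 8182348, 716028, -387912, 5619693, -259476, -1534276, 73360, -107501, 27891, -4856, 2553, -133, 3])) (.node (.leaf [-2720, 104, -6144, -2559, 3375, 31, 597, 1715, -55, -64, 13, 7, -1]) (.leaf [-572262, 110724, -1544385, -732515, 928790, 24310, 107301, 523049, -42272, -53617, 2088, -1097, 1108, -37, 19, -1])))) (.node (.node (.node (.leaf []) (.leaf [-21125212, -26453463, 57512207, 65391640, -69371343, -7894809, 18247752, -57991400, 8119442, 16957854, -331604, 1185292, -507504, 38926, -24294, 259, -9])) (.node (.leaf [4866723, -1333424, 13356502, 6725231, -8214473, -563600, -1220849, -5086257, 137068, 1419154, -39750, 144861, 6822, 6817, -6753, 195, 1]) (.leaf [1]))) (.node (.node (.leaf []) (.leaf [-276, -61, -549, -218, 273, 30, 37, 138, -2, 14, 5, 6, 0, 1])) (.node (.leaf [18619655, -4689514, 53243518, 26077745, -32707806, -958993, -3193780, -18927829, 1871164, 1991283, -59616, 45194, -55825, 298, -218, 0, 1]) (.leaf [-6988, 1855, -19698, -9478, 11901,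 340, 1311, 6868, -792, -642, 20, -16, 23]))))) (.node (.node (.node (.node (.leaf []) (.leaf [168548735, -29296994, 426186545, 190019020, -243894128, -4839532, -36637861, -133019345, 13869058, 7887785, -445860, -148522, -319515, -23244, 9494, -91, 7])) (.node (.leaf [9, 1, 4, -2, 4, 0, -3, 0, 0, -1]) (.leaf [-39159711, 8720277, -108933505, -52432540, 66117612, 1860742, 6988581, 37691473, -3589376, -3697741, 157948, -66508, 113217, 267, -297, -29]))) (.node (.node (.leaf [-689887928, 163433877, -1896920937, -899429405, 1134025043, 31269196, 131581275, 646867445, -71980698, -55463311, 2290132, -973556, 2124627, 53676, -18056, -34, 1]) (.leaf [69206752, -9276633, 170259113, 74268095, -96535058, -1149557, -14870933, -50973124, 4762118, 1834346, -163372, -260010, -106394, -15412, 10492, -218, -1])) (.node (.leaf []) (.leaf [1])))) (.node (.node (.node (.leaf []) (.leaf [-333885813, 103424144, -964115782, -466931433, 581936452, 18504390, 62315730, 341531885, -47418162, -28782252, 952010, -828976, 1452170, 46952, -4379,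 567, -5])) (.node (.leaf []) (.leaf [-426633, 86931, -1128628, -523939, 666662, 14674, 86417, 373556, -34678, -32854, 618, -670, 686, -14, 11, 1]))) (.node (.node (.leaf [-73907284, 10283470, -190296134, -87051602, 112346327, 1832586, 14329066, 60501693, -4153535, -4618696, 240842, 116750, 97370, 5760, -1434, 23, 1]) (.leaf [-2450195, 656029, -6878666, -3291116, 4128535, 120105, 461467, 2385060, -295822, -199132, 6837, -3816, 8765, 298, -84, 3])) (.node (.leaf []) (.leaf [-9389997, 3495281, -24547189, -10360601, 13133130, 130936, 2507591, 7442268, -2059934, 428714, -32854, 42378, 49442, 6648, -1848, 143])))))))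

def twoL165 : Janko.Tree (List ℤ) :=
  (.node (.node (.node (.node (.node (.node (.leaf []) (.leaf [2429709, -527405, 6599334, 3110414, -3933198, -108236, -464604, -2224093, 233539, 189502, -9673, 2748, -7292, -140, 101, 1])) (.node (.leaf [6941, -1791, 19379, 9303, -11645, -355, -1305, -6764, 776, 633, -24, 16, -23]) (.leaf []))) (.node (.node (.leaf [99527, -22700, 269064, 126111, -159898, -3682, -20044, -90205, 9521, 7909, -268, 110, -239, -8, -7]) (.leaf [343405904, -73400318, 882832439, 395837779, -504191666, -11730724, -76929977, -280563696, 35002324, 17090664, -765250, 185035, -815472, -47572, 5832, -47, 15])) (.node (.leaf [3451, -204, 7236, 2762, -3678, -9, -913, -1837, 115, -1, -2, -7, 3]) (.leaf [-51744741, 12856250, -142693285, -67752327, 85189255, 2525070, 10069426, 48916984, -5632520, -4399000, 182103, -124685, 167142, 2027, 399, -55])))) (.node (.node (.node (.leaf [0, 1]) (.leaf [])) (.node (.leaf [-63881, 13634, -176946, -84819, 107572, 2713, 11632, 60595, -5276, -6213, 345, -229, 180, -12,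 3]) (.leaf [968, -37, 2123, 866, -1124, -36, -230, -583, 32, 28, -7, -2, -1]))) (.node (.node (.leaf []) (.leaf [])) (.node (.leaf [-34511, 4842, -84432, -36769, 48013, 564, 7963, 25216, -1891, -1738, 68, -18, 11, 0, 1]) (.leaf [33396628, -8855714, 93771962, 44909626, -56439499, -1550190, -6301659, -32513641, 3860763, 2843925, -95655, 73224, -114411, -1860, -132, -11, 1]))))) (.node (.node (.node (.node (.leaf []) (.leaf [0, 1])) (.node (.leaf [306639, -68423, 840046, 397402, -502835, -13427, -58276, -284004, 30090, 24560, -1408, 466, -991, -16, -7]) (.leaf [-25048111, 22979541, -97708945, -51612335, 60557137, 3295387, 4624030, 40902404, -11805622, -2445269, -27422, -277445, 383650, 20945, 3674, 319, 3]))) (.node (.node (.leaf [0, 1]) (.leaf [21087073, -6616230, 66038937, 34231362, -42330464, -1579708, -2832406, -25313963, 2500261, 3278732, -116380, 124284, -96413, 3204, -1383, 56, -1])) (.node (.leaf []) (.leaf [-3975, 271, -8955, -3681, 4897, 1, 960, 2457, -90, -117, 8, 7, -4])))) (.node (.node (.node (.leaf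 []) (.leaf [-12909649, 13082774, -55458352, -31290162, 36192537, 2499887, 1829293, 25228331, -6031183, -3172436, 41211, -323728, 205690, 1220, 5760, -35])) (.node (.leaf [0, 1]) (.leaf [-397914231, 119601034, -1099293984, -514597746, 643683514, 19769836, 84966031, 374683189, -56536050, -27387157, 862966, -1103691, 1548705, 56710, 10468, 203, -7]))) (.node (.node (.leaf [293, 168, -436, -593, 721, -4, -225, 474, 2, -156, 4, -10, 1]) (.leaf [0, 1])) (.node (.leaf []) (.leaf [-8702249, 2003797, -23685440, -11137534, 14075000, 370051, 1691058, 7982940, -898886, -640607, 28038, -8526, 26137, 785, -317, 5])))))) (.node (.node (.node (.node (.node (.leaf []) (.leaf [12, 21, 7, 2, -6, 1, 2, 2, -11, 2, -1])) (.node (.leaf []) (.leaf [3419, -563, 8942, 4103, -5292, -109, -689, -2854, 225, 242, -13, 6, -5]))) (.node (.node (.leaf []) (.leaf [7742633, -1861521, 23223502, 11799600, -14794062, -409322, -1014239, -8569729, 680946, 973658, -27075, 6052, -24161, 162, 763, -27, 1])) (.node (.leaf []) (.leaf [5195502, -1111875,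 15145681, 7614426, -9560977, -285461, -746601, -5511891, 376402, 684280, -26141, 13520, -14377, 733, -70, 11])))) (.node (.node (.node (.leaf [-374, 48, -968, -447, 582, 3, 70, 310, -12, -28, 1]) (.leaf [-5699359, 634832, -12936273, -5244924, 6910997, 61177, 1445317, 3525922, -341320, -60723, 6724, 16406, 2019, 1013, -466, 8, -1])) (.node (.leaf [0, 1]) (.leaf [2935, -10, 6974, 3070, -4069, -63, -564, -2027, -31, 186, -27, 1, 1, -1]))) (.node (.node (.leaf []) (.leaf [0, 1])) (.node (.leaf [0, 1]) (.leaf [0, 1]))))) (.node (.node (.node (.node (.leaf []) (.leaf [21881964, -6590213, 62305221, 29743467, -37185359, -1095346, -4157046, -21633268, 3218181, 1437464, -59692, 13839, -100735, -5944, 2123, -70, -1])) (.node (.leaf []) (.leaf []))) (.node (.node (.leaf [-461, 86, -1198, -530, 711, -10, 104, 356, -26, -19, -2, 0, -1]) (.leaf [-268, 144, -1110, -619, 798, 18, 28, 433, -41, -78, 1, -3, 1])) (.node (.leaf [-14, 5, -41, -19, 27, -1, 4, 12, -1, -2]) (.leaf [-2, 4, -10, -3, 5, 1, 3, 0, -2])))) (.node (.node (.node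 (.leaf [0, 1]) (.leaf [0, 1])) (.node (.leaf []) (.leaf [-742551, 179713, -2338463, -1240246, 1540410, 58264, 77501, 910293, -50932, -141432, 6131, -4854, 2706, -288, 31, -3]))) (.node (.node (.leaf []) (.leaf [])) (.node (.leaf [-407, 325, -2230, -1383, 1762, -9, -47, 1017, -51, -199, 3, -10]) (.leaf [-20811, 5498, -57554, -27367, 34346, 938, 4104, 19880, -2352, -1785, 39, -44, 63, 1])))))))

def twoL166 : Janko.Tree (List ℤ) :=
  (.node (.node (.node (.node (.node (.node (.leaf []) (.leaf [102942, 8698, 232694, 103062, -138376, -1901, -19689, -66923, -8652, 11386, -672, 88, 334, 62, -23, 1])) (.node (.leaf []) (.leaf [-74671454, 14602942, -191774780, -86301757, 110278150, 2331515, 16170140, 60890233, -6838063, -3782989, 164209, 23109, 157691, 10280, -3858, 52, -5]))) (.node (.node (.leaf []) (.leaf [-295132798, 28866464, -724050043, -320695190, 417966059, 5460530, 60496286, 219266169, -11673522, -14579597, 983662, 740576, 203165, 18289, -26020, 47, -1])) (.node (.leaf []) (.leaf [-33138058, 6815115, -89521764,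 -42189180, 53501380, 1362793, 6327927, 30098086, -2840427, -2726633, 115950, -41018, 79683, 854, 29, -26])))) (.node (.node (.node (.leaf []) (.leaf [284748621, -209234626, 1177983435, 674686233, -799401699, -44500132, -18049027, -528027957, 89176879, 73035213, -1708381, 4667829, -3463702, 11905, -54820, 273, -39])) (.node (.leaf [0, 0, 1]) (.leaf [-201848620, 46762212, -547414203, -256665625, 324335469, 8641249, 39933625, 183979422, -20977076, -14850819, 641408, -235388, 595917, 17701, -3248, 50, -1]))) (.node (.node (.leaf [0, 0, 1]) (.leaf [457, -47, 1078, 457, -599, -5, -105, -311, 21, 15, -2, 0, -1])) (.node (.leaf [-26389, 4149, -66158, -29330, 38173, 468, 5934, 20240, -1570, -1544, 52, -28, 15, 0, 1]) (.leaf [950067720, -213580155, 2591272334, 1222682746, -1546001125, -40342770, -181482567, -875683167, 94194730, 72826297, -3217690, 929082, -2785022, -79704, 34732, -43, -15]))))) (.node (.node (.node (.node (.leaf []) (.leaf [-228379, 61823, -631472, -298449, 373934, 11874, 45922, 216289, -28653, -17713,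 730, -476, 820, 32, -3])) (.node (.leaf [10700, -2417, 38709, 22180, -27048, -1958, -244, -16293, 661, 3497, -474, 324, -158, 24, 7]) (.leaf [-122790042, 19935442, -249932158, -85196794, 113870021, 450341, 40324596, 55914779, -13535068, 6268648, -150316, 313350, 100107, 50506, -5282, 111, -17]))) (.node (.node (.leaf []) (.leaf [0, 0, 1])) (.node (.leaf [119, -21, 314, 144, -190, 0, -25, -98, 6, 9]) (.leaf [-2120, 155, -4679, -1880, 2471, 44, 535, 1259, -92, -40, 8, 5, -1])))) (.node (.node (.node (.leaf []) (.leaf [6014175, -6484799, 28255781, 16536209, -19126220, -1340783, -436151, -13296091, 2962902, 1783497, -36150, 151330, -109539, -1160, -2268, -5, 1])) (.node (.leaf [-245695211, 14788824, -520363730, -196154167, 265219079, -712966, 65803368, 126111812, -10593219, 4191901, 316063, 1202616, -53372, 59159, -32800, 307, -15]) (.leaf [0, 0, 1]))) (.node (.node (.leaf []) (.leaf [-657, 2, -1581, -695, 937, -13, 108, 459, 12, -15, 2, 0, -1])) (.node (.leaf [-170081706, 28129091, -430128061, -191830842, 246875013,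 4350109, 36251307, 133769755, -13432218, -7370256, 444160, 287688, 318057, 27049, -13248, 236, -1]) (.leaf [-261202, 63853, -725014, -344653, 434425, 11899, 49074, 247721, -29065, -20086, 1048, -280, 918, 44, 5])))))) (.node (.node (.node (.node (.node (.leaf [0, 0, 1]) (.leaf [])) (.node (.leaf [-677, 67, -1669, -737, 972, 10, 143, 496, -22, -37, 2]) (.leaf [0, 0, 1]))) (.node (.node (.leaf [0, 0, 1]) (.leaf [318422247, -100576456, 923816155, 448473337, -558378896, -17964750, -59162276, -328504446, 46141264, 27810021, -899074, 828776, -1417971, -45552, 3897, -575, 5])) (.node (.leaf []) (.leaf [0, 0, 1])))) (.node (.node (.node (.leaf [0, 0, 1]) (.leaf [0, 0, 1])) (.node (.leaf []) (.leaf [2, 0, 5, 2, -2, 0, 0, -2]))) (.node (.node (.leaf [0, 0, 1]) (.leaf [-417822904, 201647640, -1399907039, -730768194, 887840012, 37852809, 60781649, 553714993, -91230359, -57323376, 1487239, -2951046, 3186117, 63363, 12217, 677, 31])) (.node (.leaf [-85564642, 7370984, -207470512, -91200855, 119275801, 1406503, 17769498, 62025352,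 -2842906, -4131703, 291444, 215910, 39940, 3054, -7300, -19, -1]) (.leaf [-7714, 1868, -21225, -10087, 12690, 378, 1497, 7275, -806, -677, 26, -16, 23]))))) (.node (.node (.node (.node (.leaf []) (.leaf [0, 0, 1])) (.node (.leaf [0, 0, 1]) (.leaf [58550762, -12764115, 159265854, 75323698, -95203214, -2621864, -11218399, -53965696, 5405939, 4970385, -223150, 104948, -160225, -913, 134, 77]))) (.node (.node (.leaf [-118342581, 29428499, -365302918, -189824869, 236575540, 7846978, 13828243, 138779703, -9994570, -18340089, 715878, -407888, 440107, -17883, -1066, -212, 9]) (.leaf [13504, -3643, 38345, 18626, -23028, -804, -2224, -13767, 1774, 1030, -78, 38, -59, 1, 4])) (.node (.leaf [-19, -11, -27, -11, 13, 0, -2, 9, 4, 3]) (.leaf [12496927, -2745379, 34443326, 16380426, -20729013, -491506, -2240662, -11723120, 1220238, 920761, -39978, -4538, -38127, -1706, 1413, -19])))) (.node (.node (.node (.leaf []) (.leaf [-2775764, 473692, -7722329, -3782219, 4789243, 137342, 446635, 2700818, -149606, -335320, 16980, -8280,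 6051, -573, 29, -11])) (.node (.leaf [0, 0, 1]) (.leaf [-282307, 61690, -754871, -351413, 445957, 10588, 57095, 251030, -26196, -20987, 640, -402, 611, 9, 7]))) (.node (.node (.leaf [0, 0, 1]) (.leaf [0, 0, 1])) (.node (.leaf [1761564, -460036, 4642418, 2086711, -2635946, -69065, -394485, -1492349, 245505, 55232, -4110, -1196, -6944, -604, 210, -5]) (.leaf [0, 0, 1])))))))

def twoL167 : Janko.Tree (List ℤ) :=
  (.node (.node (.node (.node (.node (.node (.leaf []) (.leaf [])) (.node (.leaf [-6, 0, -9, -2, 4, 0, 2, 1]) (.leaf [-338105, 81126, -942023, -450359, 567820, 15902, 62785, 323616, -35459, -29075, 1510, -619, 1169, 19, 7]))) (.node (.node (.leaf []) (.leaf [-5546, 1684, -18629, -9967, 12481, 401, 506, 7237, -570, -1002, 50, -34, 25, -1])) (.node (.leaf [-30633, 10368, -107943, -59314, 73640, 2649, 2092, 43637, -3289, -6754, 444, -403, 227, -22, 3]) (.leaf [1048938, -174212, 2805398, 1334606, -1694007, -46985, -192120, -949783, 60370, 107883, -5020, 2230, -1754, 149, -48, 4])))) (.node (.node (.node (.leaf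 []) (.leaf [-1149056, -995109, 5790404, 6234944, -6954567, -698809, 1761112, -5212520, -109453, 1871482, -65166, 100364, -25581, 6100, -1777, 82, -1])) (.node (.leaf []) (.leaf [1709, -70, 3914, 1642, -2174, -21, -374, -1091, 33, 48, -9, -3]))) (.node (.node (.leaf [629, -1248, 6853, 4830, -5751, -310, 591, -3750, 434, 700, -30, 38, -26, -1]) (.leaf [25410, -3567, 62381, 27254, -35557, -480, -5838, -18681, 1403, 1339, -52, 12, -15, 0, -1])) (.node (.leaf []) (.leaf [-17, -12, -3, 10, -8, 0, 9, -11, 6, 0, 0, 0, 0, -1]))))) (.node (.node (.node (.node (.leaf []) (.leaf [332370510, -38909721, 845690091, 386340944, -499047432, -8751442, -63695066, -267745420, 14768281, 22073772, -1308958, -504037, -371127, -7730, 23889, 172, -3])) (.node (.leaf []) (.leaf [-15077497, 825446, -31775381, -11985915, 16196641, -1798, 4071714, 7709590, -557073, 130517, 25806, 58681, -6847, 2841, -1067, -12, -1]))) (.node (.node (.leaf [-17500, 4123, -46902, -21691, 27549, 727, 3770, 15421, -1818, -1315, 59, -33, 51, 2, -1]) (.leaf [620147581,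 -81605674, 1492374792, 640846299, -833628742, -11696112, -142261623, -439549017, 39746292, 19761705, -1456216, -1232190, -667589, -84706, 46088, -309, 31])) (.node (.leaf []) (.leaf [2455, -1588, 9841, 5578, -6674, -365, -160, -4293, 684, 584, -14, 29, -29, 1])))) (.node (.node (.node (.leaf []) (.leaf [-18532367, 14512926, -70875733, -38529105, 45309832, 2751230, 2946128, 30440447, -6701316, -3555319, 58834, -330190, 225700, 2000, 5418, -29])) (.node (.leaf [-28264, 5964, -75440, -35134, 44613, 1080, 5684, 25053, -2518, -2153, 84, -44, 65]) (.leaf [-291086205, 69788810, -743517910, -327317167, 416871125, 8703708, 68877284, 232322943, -35560948, -8907727, 306493, 67945, 809018, 68264, -10729, 677, -9]))) (.node (.node (.leaf [0, 0, -1, 0, 1]) (.leaf [11824676, 4726303, 9537231, -2293293, 269049, 950482, -4739166, 3902728, -1868892, -1694633, -24308, -151204, 102352, -1621, 2110, 82, 3])) (.node (.leaf [-873236, 192928, -2514902, -1251700, 1569541, 51998, 137862, 906106, -68880, -113607, 5262, -3376, 2600, -134,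 36, -3]) (.leaf [0, 0, -1, 0, 1])))))) (.node (.node (.node (.node (.node (.leaf []) (.leaf [1938161, -369935, 5439431, 2668995, -3373860, -91243, -312256, -1915272, 122757, 227495, -8811, 4961, -4080, 311, -28, 5])) (.node (.leaf []) (.leaf [82971, -15186, 212723, 96259, -123195, -2530, -17777, -67897, 6483, 5156, -212, 76, -132, 2, -1]))) (.node (.node (.leaf []) (.leaf [26510187, -6700389, 78420387, 39313996, -49218062, -1471393, -3900808, -28570222, 2648908, 3096902, -109044, 43105, -93749, -170, 1366, -42, 1])) (.node (.leaf [123, -22, 310, 142, -182, 0, -27, -101, 6, 10]) (.leaf [-6117350, 1730533, -20934187, -11642456, 14352276, 569387, 345583, 8651487, -416884, -1491263, 50356, -50693, 24278, -3045, 769, -31])))) (.node (.node (.node (.leaf [-1, -1, -1, 0, 0, 1]) (.leaf [-26068114, 2730388, -59563235, -24440681, 32157596, 364746, 6497104, 16448803, -1389164, -540270, 53278, 54822, 8644, 3181, -686, -6, -3])) (.node (.leaf [-17811332, 15564214, -69028334, -37227017, 43422379, 2781367, 3225618, 29700649,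 -7463251, -3074835, 27818, -326279, 242462, 5114, 5099, 19, -1]) (.leaf [40227, -10954, 114315, 55218, -69363, -1846, -7400, -40064, 4624, 3686, -100, 98, -130, -4]))) (.node (.node (.leaf []) (.leaf [3333, -272, 7593, 3148, -4148, -33, -795, -2125, 115, 98, -9, -3, 1])) (.node (.leaf [455203, -110399, 1300631, 638297, -802228, -23129, -77626, -462129, 41880, 51502, -1572, 1336, -1215, 16, -24, 1]) (.leaf [-4225, 1560, -12630, -6282, 7649, 378, 786, 4709, -738, -492, 19, -17, 25]))))) (.node (.node (.node (.node (.leaf []) (.leaf [-71033466, -293592, -146907979, -55412985, 76069913, -584191, 18135691, 34689602, -181174, 293665, 146320, 385169, -100178, 8580, -8154, -21, -5])) (.node (.leaf []) (.leaf [-360798, 93872, -986226, -462837, 582207, 15948, 73201, 334580, -42523, -26200, 804, -660, 1132, 36, 3]))) (.node (.node (.leaf []) (.leaf [-488, 25, -1186, -522, 697, -5, 94, 350, 0, -23, 2, -1])) (.node (.leaf [127806456, -32701111, 349284676, 163526195, -206051160, -5511317, -25720675, -117757397, 15274304, 8507078,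 -341744, 133720, -436434, -19144, 4668, -111, -1]) (.leaf [21120, -3426, 52704, 23254, -30200, -455, -4853, -16065, 1363, 1208, -39, 22, -17, 0, -1])))) (.node (.node (.node (.leaf []) (.leaf [-12788820, 5388329, -48658631, -28353227, 34176282, 1867411, 334416, 21663386, -1492480, -4213849, 137846, -210112, 79530, -9217, 4114, -156, -1])) (.node (.leaf []) (.leaf []))) (.node (.node (.leaf [-164180457, 32009655, -426003735, -192853318, 246572709, 5012698, 34416663, 135801577, -15403033, -7855830, 448475, 179366, 406103, 27245, -11292, 343, -1]) (.leaf [61, -14, 150, 66, -87, 1, -16, -46, 5, 3, 0, 0, 0, 1])) (.node (.leaf [-133, 305, -1513, -1053, 1313, 7, -90, 798, -56, -187, 3, -10, 1]) (.leaf [-6894, 1881, -18816, -8851, 11110, 255, 1419, 6456, -802, -530, 0, -10, 18, 1])))))))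

def twoL168 : Janko.Tree (List ℤ) :=
  (.node (.node (.node (.node (.node (.node (.leaf []) (.leaf [])) (.node (.leaf [1]) (.leaf [871532206, -108219199, 2056276818, 864581115, -1130117584, -12987389, -206176556, -588173692, 56926644, 16714805, -1845491, -2463971, -907053, -165286, 82677, -906, 25]))) (.node (.node (.leaf []) (.leaf [-320940744, 31535451, -782238078, -344147542, 448929620, 5733924, 67056533, 234958442, -13158851, -14801273, 1030903, 814236, 215080, 23150, -27902, 48, -3])) (.node (.leaf [1]) (.leaf [3177862, -608361, 8339002, 3850993, -4894311, -128150, -647440, -2733842, 263403, 233959, -11920, 3337, -7017, -85, -38, 5])))) (.node (.node (.node (.leaf []) (.leaf [8040, -1989, 22096, 10477, -13181, -378, -1580, -7565, 857, 690, -23, 17, -24, -1])) (.node (.leaf [15790102, 29525, 31384231, 11129518, -15495211, 196489, -4354940, -6774332, 191016, -392045, -25158, -95504, 22199, -3413, 1564, -5, 1]) (.leaf [1]))) (.node (.node (.leaf [85212, -21479, 250880, 125533, -157006, -4836, -12782, -91413,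 8392, 10129, -424, 272, -288, 2, -3]) (.leaf [1])) (.node (.leaf []) (.leaf [1770, -294, 4049, 1650, -2149, -26, -476, -1141, 134, 37, 9, -2, 1]))))) (.node (.node (.node (.node (.leaf [1]) (.leaf [-7845341, 1044707, -18568130, -7835027, 10211314, 136280, 1875808, 5359446, -527103, -192784, 13220, 16870, 7013, 1252, -599, 9, -1])) (.node (.leaf [-37705345, 13749647, -124648982, -66269797, 81381172, 3221824, 4227619, 49469899, -5325002, -6488784, 216788, -241547, 213011, -4136, 1935, -49, 3]) (.leaf [8558, -1080, 20755, 8981, -11744, -148, -1953, -6134, 444, 383, -27, 8, -5]))) (.node (.node (.leaf [3, -5, 6, 2, -2, 0, -3, -2, 2, 1]) (.leaf [-7238565, 1904430, -26185357, -15122989, 18622869, 747516, 28845, 11261613, -257945, -2168226, 72802, -71232, 26769, -5305, 1156, -51])) (.node (.leaf [-3079805772, 586574574, -8032686429, -3677275401, 4688680576, 107389291, 632988447, 2600736707, -263647610, -191578983, 9435662, -264650, 6829303, 287220, -130158, -636, -37]) (.leaf [-29500284, 5790769, -75571786, -34001103,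 43357919, 1038812, 6481943, 24033401, -2691965, -1642973, 85223, -18611, 64942, 2976, -406, -31, -1])))) (.node (.node (.node (.leaf [1]) (.leaf [1])) (.node (.leaf [-2171066966, 360403072, -5534072936, -2495851559, 3202511349, 64864999, 455993758, 1748338130, -161533593, -121376018, 6548958, 1224141, 3845936, 185153, -108433, -75, -61]) (.leaf [2709, -1366, 12341, 7420, -9186, -322, 239, -5482, 408, 919, -50, 40, -27, 1]))) (.node (.node (.leaf [1]) (.leaf [-667874, 150735, -1583138, -650267, 829305, 20295, 181481, 458349, -86460, -1860, 351, 720, 1627, 219, -10, 1])) (.node (.leaf [181516, -40208, 477811, 219444, -278678, -5882, -38058, -156875, 17644, 11231, 2, -58, -296, -30, -11]) (.leaf [16648302, -2774956, 41369469, 18079085, -23358649, -355467, -3728797, -12537539, 1394457, 507311, -33902, -35331, -29703, -3429, 1202, -37])))))) (.node (.node (.node (.node (.node (.leaf []) (.leaf [1])) (.node (.leaf [-179, 99, -643, -313, 431, -37, 25, 214, -34, 12, -4, 1]) (.leaf [1]))) (.node (.node (.leaf []) (.leaf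 [7635180, -2000880, 20678125, 9568380, -12060257, -319409, -1591122, -6883237, 977906, 417916, -16712, 3060, -26899, -1739, 390, -17])) (.node (.leaf [1]) (.leaf [14526338, -11002496, 64830100, 38515375, -45679655, -2506109, 18733, -30121692, 4354627, 4696635, -124397, 274161, -189238, 4707, -3795, 20, -5])))) (.node (.node (.node (.leaf []) (.leaf [3476, -315, 7851, 3227, -4239, -36, -853, -2189, 142, 92, -8, -5, 1])) (.node (.leaf [-95436101, 48839637, -306354206, -154523293, 186863349, 8767939, 18363884, 117729537, -23223983, -10765003, 238110, -811155, 732810, 19666, 9317, 43, -5]) (.leaf [4562, -595, 10468, 4309, -5645, -37, -1158, -2949, 265, 107, 3, -7, 3, -3]))) (.node (.node (.leaf [-110202643, 31743397, -324318907, -160670823, 200280324, 6508372, 18266499, 117452980, -13505026, -11928711, 443206, -326578, 455831, 4341, -1052, 8, 3]) (.leaf [])) (.node (.leaf [-14459, 8197, -57773, -32831, 39656, 1864, 478, 24991, -3474, -3289, 184, -190, 190, -8, -1]) (.leaf [1]))))) (.node (.node (.node (.node (.leaf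 [69, -11, 172, 76, -100, 0, -15, -52, 4, 3]) (.leaf [3430756, -851469, 9671391, 4669353, -5867436, -173908, -616912, -3372843, 365838, 318220, -13650, 7179, -11716, -181, 69, 1])) (.node (.leaf []) (.leaf []))) (.node (.node (.leaf [1]) (.leaf [30120516, -786450, 67308489, 27174580, -36721785, 307772, -6681202, -17495614, 716514, -345112, -54517, -259380, 2043, -9222, 8341, -169, -1])) (.node (.leaf [-34569640, 7660147, -93767032, -44178454, 55840483, 1536102, 6737994, 31650675, -3293282, -2833781, 126690, -62544, 95955, 1040, -54, -43]) (.leaf [261193207, -33218705, 645520775, 285230588, -369935036, -5465895, -55375612, -196570778, 14923948, 11667548, -731388, -559326, -288971, -28109, 19871, -191, 5])))) (.node (.node (.node (.leaf [14345939, -2399706, 37808442, 17598381, -22484439, -498660, -2732623, -12407415, 980430, 1073078, -52122, -2958, -26537, -587, 560, 5]) (.leaf [-42925039, -10892857, -74251507, -23879912, 37174439, -2308999, 9950742, 11320361, 5259720, 1506000, 122244, 591082, -221107, 2939, -14618,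 107, -1])) (.node (.leaf []) (.leaf [-49, 7, -123, -55, 72, 1, 11, 38, -1, -4, 0, -1]))) (.node (.node (.leaf [2223, -486, 6502, 3295, -4158, -108, -330, -2397, 102, 362, -8, 20, 2, 0, 1]) (.leaf [11, -1, 20, 8, -10, 0, -3, -6, 0, 1])) (.node (.leaf [1]) (.leaf [-11506554, 4572359, -36188792, -18453585, 22611827, 922286, 1870096, 13818876, -1995271, -1510745, 43832, -74769, 67119, 363, 702, -7])))))))

def twoL169 : Janko.Tree (List ℤ) :=
  (.node (.node (.node (.node (.node (.node (.leaf []) (.leaf [0, 1])) (.node (.leaf [-19076, 4667, -52632, -25019, 31484, 1080, 3845, 17957, -2012, -1867, 100, -57, 65, 2, -3]) (.leaf [0, 1]))) (.node (.node (.leaf [0, 1]) (.leaf [-286502366, 25385954, -691305488, -301921116, 395079270, 4481752, 60389711, 205124697, -10515388, -12350186, 900412, 812605, 139649, 21120, -26236, 48, -3])) (.node (.leaf [-294625, 65030, -796492, -374375, 473867, 11997, 57646, 268180, -27567, -23415, 832, -424, 697, 10, 5]) (.leaf [0, 1])))) (.node (.node (.node (.leaf []) (.leaf [])) (.node (.leaf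 [287549223, -26369397, 707109518, 315114853, -410477979, -5629624, -57939266, -215632532, 9739383, 15958430, -999747, -665738, -153273, -8582, 22984, 95, 5]) (.leaf [17944, -1887, 43957, 19339, -25394, -76, -3729, -13219, 623, 805, -38, -3, -4, 0, -1]))) (.node (.node (.leaf [0, 1]) (.leaf [-431003, 114302, -1181157, -555275, 697171, 20296, 87800, 402059, -52128, -32187, 1017, -804, 1418, 48, 1])) (.node (.leaf [1927, -89, 4352, 1803, -2388, -35, -450, -1193, 41, 66, -9, -3]) (.leaf [5178, -1112, 13916, 6558, -8276, -223, -1023, -4719, 449, 466, -21, 13, -12]))))) (.node (.node (.node (.node (.leaf []) (.leaf [-56824726, 2710347, -132910535, -56963416, 75375650, 512573, 12047793, 38003153, -916307, -2170974, 192503, 208727, -9785, 2561, -5994, -18])) (.node (.leaf []) (.leaf [0, 1]))) (.node (.node (.leaf []) (.leaf [0, 1])) (.node (.leaf []) (.leaf [25483366, -5357133, 66326953, 30147687, -38336212, -939506, -5483948, -21406362, 2489517, 1484215, -68036, 15017, -61834, -2843, 632, -2, 1])))) (.node (.node (.node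 (.leaf [4, 0, 8, 2, -4, 1, -2, -1]) (.leaf [-1746068, 477561, -4863745, -2305693, 2891771, 86669, 343354, 1669829, -222359, -130850, 5655, -3314, 6751, 234, -48, 1])) (.node (.leaf [-1267, 84, -3238, -1487, 1953, 21, 224, 1005, -17, -92, 11, -1, 1]) (.leaf [-291160510, 65157355, -729694574, -316624053, 404959262, 7842397, 70379137, 223257893, -33678536, -7302143, 305902, 172365, 726872, 69242, -12266, 600, -11]))) (.node (.node (.leaf [-169, 31, -446, -202, 262, 4, 33, 141, -13, -7, -1]) (.leaf [-2189, 244, -4619, -1748, 2322, -22, 614, 1187, -113, 14, -7, 4, -3])) (.node (.leaf [0, 1]) (.leaf [2216014, -437625, 6202795, 3027910, -3827445, -103440, -366852, -2172136, 154214, 247199, -10090, 5393, -5121, 275, -26, 5])))))) (.node (.node (.node (.node (.node (.leaf []) (.leaf [-44973199, 57977953, -227831246, -134294560, 154147463, 10460318, 2512128, 109255840, -27530475, -12365044, 135957, -1155804, 1010394, 24475, 8410, 188, 16])) (.node (.leaf [0, 1]) (.leaf [9683828, -1194992, 29371835, 15463199, -19587455,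 -506735, -788078, -11039840, 95474, 1666053, -76871, 8072, -19118, 3015, 712, 20, -1]))) (.node (.node (.leaf []) (.leaf [19762, -4297, 52967, 24710, -31387, -744, -3995, -17630, 1782, 1547, -50, 37, -44, 1])) (.node (.leaf [0, -2, 7, 4, -6, 0, 0, -2, 1]) (.leaf [-36573398, 10247647, -106509128, -52510416, 65495737, 2158405, 6236465, 38346561, -4321136, -3967960, 148779, -118202, 142032, 628, 510, -27, 1])))) (.node (.node (.node (.leaf []) (.leaf [0, 1])) (.node (.leaf [-83202950, 48674309, -284323140, -148011121, 177437752, 9038818, 14400066, 114063102, -22769895, -11642039, 245536, -897639, 750924, 14926, 10984, 19, -3]) (.leaf [0, 1]))) (.node (.node (.leaf []) (.leaf [5668980, -633299, 12871143, 5220470, -6875945, -63559, -1437449, -3510724, 341506, 61585, -6960, -16292, -2171, -1014, 472, -8, 1])) (.node (.leaf [0, 1]) (.leaf [-146180205, 38038003, -419714709, -205379803, 257374392, 7749192, 25198682, 149103999, -15774819, -15104225, 562316, -384830, 508080, 420, 1825, -39, 5]))))) (.node (.node (.node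 (.node (.leaf [0, 1]) (.leaf [0, 1])) (.node (.leaf []) (.leaf [0, 1]))) (.node (.node (.leaf [1556, -62, 3556, 1489, -1974, -20, -344, -987, 29, 46, -8, -3]) (.leaf [0, 1])) (.node (.leaf [2968, -116, 6724, 2779, -3716, -15, -672, -1825, 47, 69, -11, -6, 2]) (.leaf [0, 1])))) (.node (.node (.node (.leaf []) (.leaf [19443872, 3958392, 16474359, -5145204, 2343903, 2089600, -8867611, 7120118, -274745, -5102817, 110672, -367919, 104142, -17223, 7416, -168, 3])) (.node (.leaf []) (.leaf []))) (.node (.node (.leaf [0, 1]) (.leaf [-7100521, 1609746, -19470010, -9241752, 11662592, 328725, 1347615, 6633855, -693723, -603433, 28670, -12998, 21314, 170, -122, -5])) (.node (.leaf [418254, -107250, 969767, 382196, -484528, -14645, -123280, -270151, 67356, -9514, -382, -580, -1438, -210, 30, -1]) (.leaf [0, 1])))))))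

def twoL170 : Janko.Tree (List ℤ) :=
  (.node (.node (.node (.node (.node (.node (.leaf [0, 0, 1]) (.leaf [101406, -25600, 283455, 136003, -171022, -4700, -18895, -98395, 10815, 9113, -276, 208, -304, -4, -1])) (.node (.leaf [13613, -1576, 28443, 10537, -14035, 50, -3976, -7075, 814, -146, 34, -19, 12, 0, 1]) (.leaf [-22781698, 9600319, -79189298, -43058136, 52464274, 2273530, 2152292, 32472680, -3762315, -4429683, 144758, -183839, 155153, -2862, 1751, -32, 3]))) (.node (.node (.leaf []) (.leaf [-299955746, 30030381, -736985452, -326670481, 425508557, 5668170, 61494407, 223547432, -12241092, -14858304, 998362, 739156, 219614, 19268, -26382, 52, -1])) (.node (.leaf [1, -1, 7, 3, -4, 0, -1, -2, 0, 1]) (.leaf [3195612, -613529, 8389716, 3875589, -4925029, -129062, -650765, -2751828, 265595, 235691, -11957, 3389, -7082, -86, -38, 5])))) (.node (.node (.node (.leaf []) (.leaf [0, 0, 1])) (.node (.leaf [23135, -6048, 65934, 31935, -40275, -1017, -4184, -23043, 2468, 2217, -68, 58, -68, 1]) (.leaf [78681, 302924, -123957,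 -75613, 23160, 25078, 31453, 117145, -174770, 34849, -4714, -4320, 4562, 396, 94, 7]))) (.node (.node (.leaf [33516, -8122, 99222, 49674, -62566, -1830, -5113, -35819, 2936, 4336, -274, 216, -138, 12, -1]) (.leaf [4268125, -1025919, 11507049, 5345626, -6750417, -180478, -869033, -3833444, 484507, 269139, -12546, 3374, -13831, -630, 211, -3])) (.node (.leaf []) (.leaf [22504332, -5117091, 59633756, 27398005, -34718426, -875234, -4726950, -19559215, 2395137, 1351494, -56950, 12799, -62833, -3081, 854, -17, 1]))))) (.node (.node (.node (.node (.leaf []) (.leaf [])) (.node (.leaf [55957208, -24145882, 161839005, 76201878, -93369056, -3729020, -13056755, -57084640, 12184677, 3358666, -62370, 310566, -345394, -17483, -2062, 11, -3]) (.leaf [-350640, 204375, -1042739, -487039, 584431, 33872, 101280, 374046, -103410, -25811, -123, -4166, 2633, 94, 164, 1]))) (.node (.node (.leaf [0, 0, 1]) (.leaf [29363, -6035, 78060, 36270, -46108, -1092, -5909, -25820, 2545, 2194, -90, 44, -65])) (.node (.leaf [28993842, -6223830,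 84317898, 42132616, -53005814, -1510824, -4200759, -30392761, 2271472, 3476697, -147734, 48142, -88088, 1409, 1125, 35, -1]) (.leaf [0, 0, 1])))) (.node (.node (.node (.leaf []) (.leaf [4, 0, 9, 3, -4, 0, -1, -2])) (.node (.leaf []) (.leaf [10, -3, 45, 24, -33, 0, -1, -15, 0, 3]))) (.node (.node (.leaf [2, 1, 4, 2, -2, -1, 0, -1]) (.leaf [-269179565, 20815747, -643206763, -279096542, 366419307, 3644723, 57016278, 188613197, -8431891, -11004633, 847757, 843078, 77969, 19121, -25866, 41, -3])) (.node (.leaf [-94324, 36969, -230943, -91692, 114862, 1711, 28930, 67132, -22167, 5910, -800, 498, 343, 90, 2, 1]) (.leaf [259799, -57408, 712974, 338520, -428265, -11262, -48676, -242288, 24445, 21806, -1087, 455, -753, -9, -5])))))) (.node (.node (.node (.node (.node (.leaf []) (.leaf [72861818, 57649752, -21101996, -77863401, 69296954, 15186222, -35885308, 79935469, -22275397, -25370896, 358212, -2431938, 1158048, -41179, 37889, -681, 23])) (.node (.leaf [599, -51, 1637, 782, -1051, 31, -80, -531, -14, 43, 2, 0, 1]) (.leaf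 [-50, -22, 208, 211, -260, -12, 67, -155, -4, 47, -4, 2, -1]))) (.node (.node (.leaf []) (.leaf [14944, -3691, 41065, 19463, -24521, -663, -2935, -14045, 1568, 1273, -38, 32, -43, 1])) (.node (.leaf [-447959, 96068, -1253078, -610242, 767306, 23874, 77358, 440170, -36660, -49818, 2174, -1190, 1194, -38, 18, -1]) (.leaf [0, 0, 1])))) (.node (.node (.node (.leaf []) (.leaf [-11543, 2187, -29835, -13453, 17275, 302, 2389, 9467, -1003, -510, 18, -15, 18, 0, 1])) (.node (.leaf []) (.leaf [-1999, 149, -3889, -1384, 1783, 73, 615, 941, -115, -13, 5, 5, 1, -1]))) (.node (.node (.leaf [32749139, -7637075, 82904445, 36004706, -46034267, -842298, -7774912, -25357132, 4176787, 431179, -37640, -67212, -102661, -11597, 3559, -133]) (.leaf [0, 0, 1])) (.node (.leaf [-94589, 34908, -301978, -156375, 191961, 7441, 12944, 116656, -15036, -12983, 460, -384, 561, 8, -3]) (.leaf [-636070197, 114821454, -1675425930, -775672787, 990035142, 21838272, 124395344, 547880738, -49376510, -43629652, 2124396, 98974, 1336254, 43122, -30058,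 67, 1]))))) (.node (.node (.node (.node (.leaf [16, -5, 37, 14, -18, 0, -6, -10, 2, 1]) (.leaf [801094442, -184666485, 2181497919, 1026796939, -1297442346, -34452126, -155956132, -736141402, 82014522, 60718144, -2539174, 876976, -2338470, -69973, 17302, -328, 13])) (.node (.leaf []) (.leaf [648031640, -111065087, 1678073462, 768435352, -982229598, -22335158, -131733498, -541238515, 47662474, 43523043, -2255094, 120924, -1221372, -28282, 20701, 553, 11]))) (.node (.node (.leaf [-180, 85, -554, -261, 348, -12, 45, 183, -26, -12, -4, 0, -1]) (.leaf [47578462, -30007103, 188356154, 106709531, -127620451, -6374922, -2930711, -82535564, 12598055, 11102268, -263061, 559924, -499109, 661, -5440, -84, -7])) (.node (.leaf [9475845, -2176522, 25708364, 12064700, -15239160, -418547, -1866931, -8646778, 980018, 707375, -34514, 12612, -29092, -728, 276, 1]) (.leaf [21036, -3416, 52206, 22924, -29779, -441, -4896, -15835, 1372, 1160, -34, 20, -16, 0, -1])))) (.node (.node (.node (.leaf [0, 0, 1]) (.leaf [-25489674, -11573851,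 -38715612, -11002927, 19553058, -2210721, 5070314, 3216019, 5815650, 1159528, 102286, 510618, -205810, -741, -13183, 110, 1])) (.node (.leaf []) (.leaf [0, 0, 1]))) (.node (.node (.leaf [-200278, 43953, -540362, -253605, 320950, 8472, 39462, 181511, -18843, -15881, 612, -288, 488, 4, 3]) (.leaf [0, 0, 1])) (.node (.leaf []) (.leaf [-13593989, 4965800, -42040598, -21321976, 26240137, 1020315, 2207161, 15874438, -2126237, -1754414, 54021, -80199, 71657, 21, 743, -13])))))))

def twoL171 : Janko.Tree (List ℤ) :=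
  (.node (.node (.node (.node (.node (.node (.leaf []) (.leaf [-8521669, 1529052, -21125057, -9224782, 11852506, 238858, 1974055, 6445207, -756429, -319549, 18038, 6920, 15612, 1382, -519, 9, -1])) (.node (.leaf [-4127, 739, -11099, -5220, 6689, 137, 774, 3674, -275, -349, 14, -7, 9]) (.leaf [4276459, -1466196, 14173329, 7577190, -9337577, -339404, -425620, -5636317, 540754, 744635, -18953, 19175, -21200, 619, 115, -17, 1]))) (.node (.node (.leaf [-2720, 86, -6042, -2457, 3279, 32, 636, 1609, -48, -57, 12, 6, -1]) (.leaf [-507, 198, -2261, -1373, 1745, 11, -59, 1001, -6, -185, -2, -4])) (.node (.leaf []) (.leaf [1038189, -77959, 2979819, 1534501, -1956295, -51370, -107964, -1084284, -16405, 176736, -9077, 2212, -918, 478, 22, 7])))) (.node (.node (.node (.leaf [0, 0, -1, 0, 1]) (.leaf [16773620, -3636700, 39134160, 15550575, -20186014, -238017, -4671278, -10697753, 2213979, -411332, -4268, -46387, -44997, -7015, 2239, -81, 1])) (.node (.leaf [1, 0, 0, 1, 0, 0, 0, -1]) (.leaf [-411233, 94860, -1137966, -546003,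 686966, 20509, 76427, 393891, -38754, -40093, 1558, -1018, 1129, -6, 12, -1]))) (.node (.node (.leaf []) (.leaf [-50, -20, 205, 210, -258, -14, 68, -154, -4, 47, -4, 2, -1])) (.node (.leaf [4182, -506, 9786, 4125, -5351, -104, -991, -2842, 250, 129, -12, 4, -3]) (.leaf [4124, -969, 11456, 5532, -6924, -209, -744, -4026, 395, 414, -20, 13, -12]))))) (.node (.node (.node (.node (.leaf []) (.leaf [-1708, 115, -4069, -1765, 2331, 27, 373, 1181, -31, -96, 7, 1])) (.node (.leaf [4, 1, 7, 3, -4, -1, 0, -2, -1, 0, 0, 1]) (.leaf [59809571, -15229925, 171066975, 83668351, -104845792, -3241801, -10360335, -60719158, 6242641, 6328599, -239259, 169397, -199838, 486, -1326, 59]))) (.node (.node (.leaf []) (.leaf [81745, 44778, 174856, 90442, -126073, 1596, -505, -54765, -30515, 16997, 629, -2478, 1350, -33, 4, -1])) (.node (.leaf [117, -22, 311, 143, -189, 1, -25, -97, 6, 9]) (.leaf [733560295, -157457619, 1989494227, 938614088, -1187698247, -31508860, -140412942, -671468984, 67245490, 59679084, -2599542, 958279, -1946860,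 -31347, 12615, 569, 1])))) (.node (.node (.node (.leaf []) (.leaf [7942996, -4620632, 27669259, 14604183, -17527997, -865448, -1234514, -11246023, 2113924, 1211520, -23508, 83342, -71439, -1008, -754, -9])) (.node (.leaf [-59809937, 15229906, -171067698, -83668619, 104846158, 3241798, 10360425, 60719328, -6242634, -6328599, 239262, -169396, 199838, -486, 1326, -59]) (.leaf [8785954, 544713, 17869008, 6810417, -9485168, 132359, -2132782, -4175393, -357938, 137234, -19028, -43554, 25200, 640, 758, 17, 1]))) (.node (.node (.leaf []) (.leaf [1, 1, 1, 0, 1, -1])) (.node (.leaf []) (.leaf [704395498, -126728529, 1850925473, 856580583, -1092293058, -25548655, -139068415, -605562512, 54003442, 50317132, -2515628, 202402, -1470483, -30642, 24834, 432, 3])))))) (.node (.node (.node (.node (.node (.leaf [7, 0, 10, 3, -3, 0, -2, -3]) (.leaf [160649361, -26007322, 410827729, 186066558, -238794716, -4753735, -33110333, -130305038, 11495816, 9271025, -494216, -125502, -278920, -13342, 8378, -1, 1])) (.node (.leaf [322964310,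 -75054981, 866752283, 401746499, -508586840, -12769916, -65836049, -287228709, 35012978, 20205706, -876154, 141986, -960869, -46559, 11412, -387, 3]) (.leaf [2975, -241, 7046, 3032, -3982, -53, -658, -2049, 91, 137, -12, -1, 1]))) (.node (.node (.leaf []) (.leaf [281547964, -65519116, 767524468, 361716672, -456588305, -12424197, -54863275, -259700941, 28994930, 21850308, -909488, 371656, -833373, -21626, 6094, -9, 3])) (.node (.leaf [-15432449, 891654, -32716365, -12425972, 16756318, 11800, 4141053, 8022624, -582904, 100586, 26932, 58142, -6266, 2823, -1050, -12, -1]) (.leaf [161247, -51035, 448609, 210357, -262264, -8054, -34174, -153957, 24680, 10175, -266, 383, -686, -33, 3])))) (.node (.node (.node (.leaf [-46, 12, -127, -62, 75, 1, 6, 49, -5, -3]) (.leaf [-339209, 115229, -655367, -168163, 224978, -4851, 136306, 108343, -95154, 74641, -2616, 4525, 1832, 559, -184, 7])) (.node (.leaf []) (.leaf [-8655, 2206, -23853, -11298, 14233, 373, 1709, 8158, -951, -710, 19, -15, 25, -1]))) (.node (.node (.leaf []) (.leaf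 [114121498, -27536434, 308855046, 143922480, -181819468, -4747164, -23071452, -103203476, 12819197, 7470242, -316481, 79091, -356250, -15952, 3074, -157, 1])) (.node (.leaf []) (.leaf [46269, -9263, 120398, 55137, -70142, -1677, -9898, -39175, 3937, 3348, -144, 52, -100, 1, 1]))))) (.node (.node (.node (.node (.leaf []) (.leaf [])) (.node (.leaf [-10701, 3603, -31046, -15104, 18651, 700, 2080, 11163, -1670, -1019, 24, -22, 52, 2]) (.leaf [-1225975, 330714, -3381344, -1592448, 1998784, 53884, 242935, 1153253, -156755, -80248, 2104, 403, 4296, 238, -77, 5]))) (.node (.node (.leaf []) (.leaf [-74965, 16578, -198688, -91976, 116382, 3096, 15667, 65859, -7225, -5568, 196, -114, 177, 2, 1])) (.node (.leaf [-20200, 2432, -44796, -17783, 23453, 116, 5409, 12056, -1155, -238, -8, 12, -7, 0, -1]) (.leaf [-135645, 42687, -403080, -200191, 247665, 9280, 22646, 147510, -19346, -14304, 594, -409, 670, 14, -5])))) (.node (.node (.node (.leaf [37852, -10988, 108593, 52667, -65958, -1810, -6976, -38393, 4684, 3526, -78, 96, -132,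 -3]) (.leaf [-1, -1, -1, 0, 0, 1])) (.node (.leaf [-35740906, 7469603, -95788090, -44682710, 56698249, 1413755, 7008571, 31818601, -3330283, -2524949, 120338, -15331, 94896, 3330, -1382, 11]) (.leaf [-1574150, 307724, -4281323, -2039017, 2587276, 64324, 288281, 1455107, -117506, -146560, 5602, -2479, 3234, -89, 23, -1]))) (.node (.node (.leaf []) (.leaf [])) (.node (.leaf [-33127449, 6540337, -89202929, -41970450, 53279884, 1331071, 6252032, 29871684, -2774552, -2607679, 122610, -19480, 81733, 1553, -1304, -10]) (.leaf [45913, -2251, 99327, 40015, -52922, -452, -11402, -26861, 669, 1418, 101, -186, 133, -10, -8])))))))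

def twoL172 : Janko.Tree (List ℤ) :=
  (.node (.node (.node (.node (.node (.node (.leaf []) (.leaf [])) (.node (.leaf [937, -1269, 5033, 2728, -3465, -68, -151, -1982, 580, 118, -12, 49, -17, -2, 1]) (.leaf []))) (.node (.node (.leaf [710995, -215750, 1845118, 814074, -1020076, -28488, -176515, -591398, 113740, 18352, 340, 64, -2431, -246, 16, -3]) (.leaf [-222131508, 43055699, -583438218, -268045756, 341967514, 7289556, 44850902, 189568214, -19402947, -13419607, 611659, 88180, 503950, 24636, -11794, 206, -1])) (.node (.leaf []) (.leaf [-12193178, 3133599, -33984803, -16187627, 20355548, 576904, 2312717, 11686364, -1414927, -965552, 41074, -19946, 43522, 1211, -441, 7])))) (.node (.node (.node (.leaf [1]) (.leaf [])) (.node (.leaf [1]) (.leaf []))) (.node (.node (.leaf []) (.leaf [-19026, 5419, -55152, -26931, 33822, 908, 3390, 19549, -2249, -1887, 51, -55, 67, -1])) (.node (.leaf [1]) (.leaf [1]))))) (.node (.node (.node (.node (.leaf []) (.leaf [1992968, -402869, 5163568, 2334044, -2974464, -76232, -432898,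 -1646712, 194611, 109783, -8442, 1286, -5655, -238, 31, 1])) (.node (.leaf []) (.leaf [4123, -785, 11033, 5138, -6653, -72, -837, -3593, 246, 361, -7, 10, -1]))) (.node (.node (.leaf [28805, -1475, 62464, 24418, -33101, 219, -7381, -15801, 626, 176, -41, -67, 45, 0, -1]) (.leaf [-31771690, 9850960, -91529141, -44170755, 55066076, 1730432, 5948127, 32279275, -4622559, -2532750, 90685, -62908, 144091, 5970, -1616, 63])) (.node (.leaf [17618, -2290, 43936, 19614, -25366, -460, -3702, -13583, 947, 1012, -76, 8, -18, 0, -1]) (.leaf [-10379465, 8564133, -37864122, -18993462, 22768471, 702987, 2000510, 14727216, -4725215, 147304, -72060, 21307, 145816, 12628, -4327, 351, -1])))) (.node (.node (.node (.leaf []) (.leaf [3725, -930, 9929, 4458, -5763, -98, -853, -3107, 426, 167, -5, 14, -9])) (.node (.leaf []) (.leaf [3246624, -57491, 6168589, 2022413, -2851578, 57762, -980441, -1207254, 91364, -152929, 3532, -21907, 5745, -942, 472, -10, 1]))) (.node (.node (.leaf [-3, 3, -12, -4, 6, -1, 2, 3, -1]) (.leaf [3429722, -130772,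 8754234, 4146912, -5385571, -96323, -557945, -2853075, -60872, 387338, -20741, 818, 1651, 1026, -162, 21])) (.node (.leaf []) (.leaf [-35996269, 1722968, -68758719, -22427704, 31267177, -385630, 11278771, 13640510, -1654297, 1676265, -1227, 169358, -35782, 10327, -2736, -12, -5])))))) (.node (.node (.node (.node (.node (.leaf [1]) (.leaf [11150228, -7185231, 39449873, 20784333, -24802338, -1219983, -1810176, -16149235, 3385803, 1538968, -6104, 108224, -108243, -3328, -655, -47])) (.node (.leaf []) (.leaf [7253, -1853, 20138, 9610, -12069, -358, -1402, -6954, 800, 646, -22, 16, -23]))) (.node (.node (.leaf [70, -9, 171, 74, -98, 0, -16, -50, 3, 3]) (.leaf [1])) (.node (.leaf [66, -13, 176, 80, -106, 0, -15, -54, 4, 5]) (.leaf [1])))) (.node (.node (.node (.leaf [1]) (.leaf [86050, -19576, 233622, 109876, -139141, -3384, -16895, -78729, 8280, 6802, -242, 148, -214, -3])) (.node (.leaf [1]) (.leaf [-11522, 2318, -29683, -13448, 17131, 390, 2509, 9549, -1020, -713, 22, -10, 21, -1]))) (.node (.node (.leaf [1]) (.leaf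 [3099585, -991063, 8726696, 4106371, -5126443, -158575, -640461, -2992283, 494862, 180596, -7969, 5002, -15113, -812, 186, -7])) (.node (.leaf [15914, -5203, 46487, 22788, -28230, -946, -2939, -16831, 2294, 1607, -36, 47, -68, -3]) (.leaf [-115575884, 45895523, -386204962, -204708181, 250840554, 9881251, 13212928, 153236423, -19107713, -18234702, 636816, -679918, 759170, 888, 175, 16, 21]))))) (.node (.node (.node (.node (.leaf [7, 0, 10, 4, -4, 0, -1, -4]) (.leaf [1])) (.node (.leaf [152966221, -36702830, 408740968, 188335747, -238232040, -6041394, -32028760, -134831006, 17415435, 8958846, -394040, 103044, -475319, -24319, 5956, -92, -1]) (.leaf [1]))) (.node (.node (.leaf []) (.leaf [-4157, 1745, -12986, -6555, 8099, 223, 737, 4904, -712, -504, -14, -17, 21, -1])) (.node (.leaf [11, -118, 113, 58, -44, -12, -28, -70, 56, 4, 6, 1]) (.leaf [191601, -49574, 544235, 263655, -332372, -8496, -34800, -190463, 19738, 18965, -440, 528, -528, 2, -9])))) (.node (.node (.node (.leaf [24646625, -8045689, 73276318, 36306761,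 -45011944, -1578606, -4297197, -26755928, 3516052, 2674441, -84670, 100324, -112365, -1374, -596, -1]) (.leaf [63, -7, 154, 68, -90, 0, -13, -46, 2, 3])) (.node (.leaf [1]) (.leaf [1]))) (.node (.node (.leaf [2, 0, 0, 0, -1, 0, -1, 0, 0, 0, 0, 0, 0, 1]) (.leaf [-2344, 290, -5217, -2072, 2735, 44, 658, 1388, -136, -65, 2, 0, -1, -1])) (.node (.leaf [-16237032, 2364272, -43459606, -20679000, 26421982, 600327, 2810074, 14579906, -798193, -1529478, 72130, -3484, 24996, -1106, -501, -21]) (.leaf [-898955, 290745, -1992000, -691783, 891654, 2770, 300806, 478748, -209386, 112530, -4512, 9020, 4226, 1039, -265, 15])))))))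

def twoL173 : Janko.Tree (List ℤ) :=
  (.node (.node (.node (.node (.node (.node (.leaf []) (.leaf [])) (.node (.leaf [-355, 44, -928, -432, 562, 4, 65, 299, -11, -29, 2]) (.leaf [124015614, -15775363, 314328090, 142810995, -184305374, -3318621, -24644442, -99185921, 6112235, 8126636, -457376, -106085, -141543, -811, 5600, 142, 1]))) (.node (.node (.leaf []) (.leaf [0, 1])) (.node (.leaf []) (.leaf [-1084767, 273376, -2836129, -1261121, 1605774, 28427, 241090, 894787, -148280, -15881, 444, 3129, 3846, 443, -180, 7])))) (.node (.node (.node (.leaf []) (.leaf [0, 1])) (.node (.leaf [-1004719, 248703, -2778189, -1316849, 1657703, 49289, 193711, 947242, -113887, -78858, 4296, -1784, 3679, 96, -31]) (.leaf [1511, -74, 3493, 1477, -1950, -21, -328, -988, 32, 49, -7, -2]))) (.node (.node (.leaf []) (.leaf [0, 1])) (.node (.leaf [-30, -20, -44, -8, 22, -3, 8, -5, 9, 1, 2]) (.leaf [-147359, 35739, -406837, -191085, 241870, 6543, 28624, 136103, -17373, -9584, 907, -214, 667, 21, -2]))))) (.node (.node (.node (.node (.leaf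 [0, 1]) (.leaf [-56092, 26337, -168863, -81157, 98683, 4191, 12377, 61028, -13978, -3267, 203, -68, 439, 42, -7])) (.node (.leaf [0, 1]) (.leaf []))) (.node (.node (.leaf []) (.leaf [0, 1])) (.node (.leaf [0, 1]) (.leaf [-51603432, 944505, -115216086, -47224043, 63526962, -87407, 11608083, 30665467, -347328, -934034, 145052, 265907, -36488, 4313, -6940, 43])))) (.node (.node (.node (.leaf [0, 1]) (.leaf [0, 1])) (.node (.leaf [968, 6, 2192, 935, -1236, -30, -206, -616, -12, 60, -6]) (.leaf [-832940609, 85564359, -1909195368, -783043970, 1031859290, 8582843, 203089673, 525769734, -46982421, -9308738, 1645862, 2746486, 533642, 160143, -96253, 577, -31]))) (.node (.node (.leaf [0, 1]) (.leaf [-22553022, -3966357, -41860432, -14642922, 21532476, -768917, 5329216, 7980273, 2008931, 235025, 75574, 216040, -91465, -112, -4678, -19])) (.node (.leaf [-682808895, 84484044, -1623329843, -689204541, 900103515, 10626100, 159076502, 469953157, -41970021, -17872373, 1442920, 1652826, 617050, 100877, -53418, 602, -37]) (.leaf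 [20216612, -7089821, 76437679, 44105227, -54034477, -2186320, 101488, -33005611, 2043455, 5432873, -206281, 150820, -132532, 7725, -108, 34, -5])))))) (.node (.node (.node (.node (.node (.leaf [7, -1, 19, 7, -10, 0, -3, -4, 1]) (.leaf [592, -102, 1425, 606, -787, -18, -153, -416, 46, 28])) (.node (.leaf [10973, -2494, 29353, 13655, -17311, -409, -2273, -9770, 1058, 836, -23, 11, -23, 0, -1]) (.leaf [268862576, -63333794, 680823442, 297430748, -379376464, -7715488, -64564571, -210610726, 32620119, 7251823, -267874, -100485, -726860, -65382, 10698, -605, 9]))) (.node (.node (.leaf [0, 1]) (.leaf [25894, -6060, 71084, 33640, -42623, -1008, -5007, -24101, 2521, 2137, -70, 48, -66, 1])) (.node (.leaf []) (.leaf [-67976017, 29352695, -235010953, -127087450, 154798879, 6740968, 7080056, 95914641, -11667417, -12899780, 407740, -577086, 465706, -8528, 7004, -77, 7])))) (.node (.node (.node (.leaf []) (.leaf [13744, -855, 32044, 13657, -18018, -229, -3081, -9148, 290, 640, -64, -4, 0, 3])) (.node (.leaf [1661833, -361152,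 4232649, 1869785, -2384077, -53153, -380048, -1320532, 187868, 53166, -3472, -1609, -4682, -480, 124, -1]) (.leaf [-310613, 67092, -831008, -387196, 491907, 11186, 62469, 276360, -27993, -23383, 698, -489, 659, 6, 7]))) (.node (.node (.leaf []) (.leaf [0, 1])) (.node (.leaf []) (.leaf [0, 1]))))) (.node (.node (.node (.node (.leaf []) (.leaf [-24659332, 6552463, -63315767, -27517771, 35020476, 670625, 5932934, 19509779, -3681770, -101692, 19758, 56613, 95563, 10933, -3146, 131, 1])) (.node (.leaf [0, 1]) (.leaf [19782668, 3455182, 29805448, 6449915, -11407648, 1334881, -6218422, -1984233, -1118121, -2147435, 20224, -273140, 88860, -6474, 5335, -82, -1]))) (.node (.node (.leaf []) (.leaf [259, 1154, -1879, -1568, 1550, 232, -207, 1477, -566, -204, -15, -22, 24, -1])) (.node (.leaf [-525, 55, -1233, -522, 687, 4, 122, 354, -22, -18, 2]) (.leaf [188623, -48777, 535922, 259786, -327385, -8462, -34227, -187724, 19399, 18838, -448, 519, -520, 2, -9])))) (.node (.node (.node (.leaf []) (.leaf [1927, -135, 4652, 2026,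 -2701, 16, -401, -1355, 25, 86, -7, -2, 1])) (.node (.leaf []) (.leaf [-125985, 28919, -339056, -158641, 200269, 5523, 25448, 113960, -12597, -9828, 330, -198, 315, 8, 1]))) (.node (.node (.leaf []) (.leaf [])) (.node (.leaf [0, 1]) (.leaf [-16392835, 4314231, -45541562, -21647831, 27169715, 806540, 3187464, 15671609, -1944954, -1323291, 50350, -32542, 57009, 1522, -101, 5])))))))

def twoL174 : Janko.Tree (List ℤ) :=
  (.node (.node (.node (.node (.node (.node (.leaf []) (.leaf [0, 0, 1])) (.node (.leaf [0, 0, 1]) (.leaf [-211534345, 55901979, -581733479, -274034172, 344266189, 10138654, 42774451, 198157292, -25447465, -16147585, 608106, -465639, 717581, 19857, -317, 8, -7]))) (.node (.node (.leaf [0, 0, 1]) (.leaf [49413982, -7474522, 126876965, 58459950, -74629804, -2026898, -10083110, -41208496, 2727976, 4357570, -231055, 111164, -67828, 6178, -2356, 218, 1])) (.node (.leaf []) (.leaf [0, 0, 1])))) (.node (.node (.node (.leaf [-3, 0, -4, -1, 1, 0, 1, 1]) (.leaf [850264202, -166939763, 2249711689, 1043375222,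 -1326489192, -32659912, -169751741, -741165514, 72298430, 61322097, -2822354, 611300, -1939324, -47969, 20762, 611, 15])) (.node (.leaf [-61924, 13434, -172710, -83148, 105400, 2675, 11105, 59451, -5164, -6181, 341, -234, 180, -12, 3]) (.leaf [0, 0, 1]))) (.node (.node (.leaf []) (.leaf [])) (.node (.leaf [-132, 20, -632, -390, 506, 10, -28, 267, 8, -55, 6, -2, 1]) (.leaf [273374771, -32375123, 644269924, 271969868, -355278845, -4629052, -64548166, -185176964, 16178593, 7331847, -647792, -600243, -225788, -37979, 18495, -5, 15]))))) (.node (.node (.node (.node (.leaf [819, -100, 2076, 935, -1224, -13, -171, -638, 31, 57, -3]) (.leaf [-47, 7, -126, -58, 77, 0, 9, 39, -2, -3])) (.node (.leaf []) (.leaf [-4675309, 287093, -10685187, -4440961, 5889789, 49909, 1088008, 2946437, -131488, -131760, 17411, 11652, 665, 250, -526, -5]))) (.node (.node (.leaf [64, -7, 162, 73, -97, 0, -12, -49, 2, 3]) (.leaf [28385727, 12052405, 34760885, 4799704, -12411738, 2541353, -8029635, 1835967, -5524688, -2666253, -55111, -514482,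 239649, -2616, 10717, -27, 1])) (.node (.leaf [-1, 2, -7, -3, 4, 0, 1, 2, -1]) (.leaf [0, 0, 1])))) (.node (.node (.node (.leaf []) (.leaf [-302017, 85031, -960083, -504391, 632204, 16610, 35029, 368883, -24022, -52693, 1015, -1920, 859, -80, 24, -1])) (.node (.leaf []) (.leaf [3203366, 7841719, -16656129, -15525376, 16413836, 1802732, -3184853, 13805976, -3203060, -2993855, 43772, -245519, 153233, -2921, 2890, 2, 3]))) (.node (.node (.leaf [-181, 35, -462, -206, 266, 4, 37, 145, -16, -5, -1]) (.leaf [-31122169, 6674407, -85780319, -41085150, 51917493, 1394913, 5642493, 29469871, -2689096, -2895935, 114023, -51686, 80513, -154, -174, -31])) (.node (.leaf []) (.leaf [0, 0, 1])))))) (.node (.node (.node (.node (.node (.leaf []) (.leaf [150, 28, 315, 136, -175, -1, -13, -95, -10, -3, -2])) (.node (.leaf []) (.leaf [0, 0, 1]))) (.node (.node (.leaf []) (.leaf [59159068, -1341404, 139311896, 60660735, -80504493, -429329, -11778150, -40289071, -110350, 2881826, -228163, -240094, 33296, 1224, 6410, 3, 1])) (.node (.leaf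 [0, 0, 1]) (.leaf [-730331378, 149922637, -1946134167, -905897153, 1149627044, 29134649, 145099300, 645206983, -65476016, -53433438, 2435184, -652624, 1800161, 46624, -18298, -492, -9])))) (.node (.node (.node (.leaf [28, 1, 64, 27, -38, 0, -7, -16, -2, 3]) (.leaf [-13875, 5020, -42071, -21045, 25941, 927, 2402, 15648, -2203, -1577, 34, -51, 69, 3])) (.node (.leaf [1, 0, 0, 0, 1, 0, 0, -1]) (.leaf [-11999, 2318, -31326, -14368, 18337, 400, 2492, 10174, -980, -820, 32, -12, 22, -1]))) (.node (.node (.leaf []) (.leaf [2093, -136, 4788, 1984, -2644, -12, -492, -1313, 55, 58, -7, -3, 1])) (.node (.leaf [10800058, -1886290, 28999209, 13732894, -17466104, -439640, -1974312, -9747444, 721029, 974742, -46990, 12454, -21901, 459, 40, 23]) (.leaf [843517295, -196337073, 2301443394, 1083804265, -1368822741, -36476468, -163481498, -777429800, 88123454, 62799258, -2751104, 894110, -2581968, -85932, 31744, -148, -9]))))) (.node (.node (.node (.node (.leaf [-2, 0, -3, -1, 2, 0, 1]) (.leaf [-199755774, 22880701, -507712508,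 -231787628, 299639444, 5034828, 38127697, 160466071, -8680254, -12984527, 753492, 369805, 215049, 6810, -16054, -30, 1])) (.node (.leaf [27174505, 12395706, 27771163, -80932, -6501838, 2864077, -8587903, 5536922, -5356864, -3687607, -10875, -554316, 249237, -6061, 11378, -60, 1]) (.leaf [1048629, -273301, 2935958, 1402077, -1759495, -54977, -198745, -1012775, 125619, 86026, -4562, 2102, -4144, -112, 39]))) (.node (.node (.leaf []) (.leaf [-107095, 27426, -300624, -144422, 181578, 5208, 19964, 104402, -11706, -9727, 325, -242, 336, 3, 1])) (.node (.leaf [0, 0, 1]) (.leaf [189565, -48673, 537656, 260376, -328229, -8432, -34458, -188075, 19347, 18810, -448, 517, -518, 2, -9])))) (.node (.node (.node (.leaf [-6578368, 887821, -16873315, -7881174, 9989716, 352398, 1299384, 5593348, -284724, -709151, 37130, -21620, 7283, -1158, 62, -46, -1]) (.leaf [0, 0, 1])) (.node (.leaf []) (.leaf [-66, 9, -170, -76, 102, 0, 14, 50, -3, -3]))) (.node (.node (.leaf [95, -26, 265, 125, -163, 0, -22, -88, 8, 10, 0, 0, 0, 1]) (.leaf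 [14275373, -699146, 29990683, 11297098, -15280816, -6557, -3850274, -7246367, 486026, -107708, -29637, -54080, 6583, -2533, 1096, 17, 1])) (.node (.leaf []) (.leaf [0, 0, 1])))))))

def twoL175 : Janko.Tree (List ℤ) :=
  (.node (.node (.node (.node (.node (.node (.leaf []) (.leaf [-1256670, 740177, -3873092, -1830658, 2200376, 101926, 306283, 1401021, -411271, -22443, -768, -3773, 12218, 1015, -133, 13])) (.node (.leaf [-1, -1, -1, 0, 0, 1]) (.leaf []))) (.node (.node (.leaf []) (.leaf [668231, -150798, 1584227, 650830, -830013, -20332, -181528, -458745, 86481, 1927, -357, -718, -1629, -219, 10, -1])) (.node (.leaf [7, -1, 18, 9, -10, 1, -1, -7, 1, 0, 0, -1]) (.leaf [176790, -48797, 475647, 218745, -274831, -7456, -38347, -158355, 23798, 9417, -279, 188, -588, -41, 5])))) (.node (.node (.node (.leaf []) (.leaf [-36476883, 11679046, -109406424, -54537090, 67716647, 2255948, 5995527, 40114088, -5087454, -3944999, 130412, -122467, 170429, 2994, -714, 22, 1])) (.node (.leaf []) (.leaf [-1163630, 270931, -3268961,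 -1602971, 2005382, 75051, 214501, 1165248, -92498, -160754, 6106, -7762, 2555, -318, 266, -7]))) (.node (.node (.leaf [-40597, 4645, -96951, -41524, 54535, 565, 9475, 28172, -1826, -1773, 98, 7, 2, 0, 1]) (.leaf [-1709, 70, -3915, -1642, 2175, 21, 374, 1091, -33, -48, 9, 3])) (.node (.leaf []) (.leaf [158854922, -28998269, 406774255, 183156691, -234440225, -4910305, -33876177, -128762755, 13559889, 8160440, -429624, -101513, -326691, -20845, 8709, -104, 7]))))) (.node (.node (.node (.node (.leaf []) (.leaf [-47, 7, -127, -58, 78, 0, 9, 39, -2, -3])) (.node (.leaf [-66171, 16908, -191033, -93774, 118022, 3034, 11032, 67929, -6615, -6910, 228, -226, 192, -1, 1]) (.leaf [1920, -194, 4809, 2160, -2825, -37, -392, -1472, 60, 131, -11, 2, -1]))) (.node (.node (.leaf []) (.leaf [-5864280, 1463968, -16351993, -7803641, 9808817, 294755, 1096028, 5625349, -668961, -474150, 25203, -9298, 22050, 640, -256, 1])) (.node (.leaf []) (.leaf [-2454887, 3458112, -8663294, -3507040, 4059771, 14854, 1038788, 2883269, -2180472, 906817,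 -74650, 39478, 55506, 7852, -2104, 208, -1])))) (.node (.node (.node (.leaf [-15165, 3957, -42024, -19992, 25059, 952, 3142, 14400, -1751, -1531, 86, -49, 56, 2, -3]) (.leaf [3812619, -123022, 7690334, 2760512, -3793281, 31059, -1073678, -1727790, 103587, -79931, -711, -19909, 5134, -762, 416, -7, 1])) (.node (.leaf [3463, -459, 8854, 4021, -5199, -122, -700, -2773, 186, 238, -18, 6, -5]) (.leaf [-1381, 93, -2960, -1154, 1541, -5, 358, 770, -40, -10, 0, 2, -2]))) (.node (.node (.leaf [-413, 57, -971, -403, 532, 7, 108, 271, -25, -16, 1]) (.leaf [11162, -129, 22594, 8320, -11287, -87, -3031, -5267, 186, -31, -27, -42, 13])) (.node (.leaf [-2227, 207, -4871, -1941, 2551, 18, 581, 1318, -98, -40, 2, 4, -1]) (.leaf [35943703, -8796909, 113127170, 59503128, -74200142, -2430081, -3641370, -43453076, 2874353, 5865577, -239396, 114920, -140085, 5981, 859, 29, -3])))))) (.node (.node (.node (.node (.node (.leaf []) (.leaf [-22701800, 2426116, -51994178, -21287642, 28038101, 260357, 5611598, 14304220, -1311203, -295367,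 48780, 61025, 14876, 4091, -1589, -7, -1])) (.node (.leaf [1, 1, 1, 0, 1, -1]) (.leaf [5562, -539, 12908, 5430, -7125, -70, -1313, -3688, 226, 194, -13, -6, 1]))) (.node (.node (.leaf []) (.leaf [-62, 16, -169, -77, 100, 2, 14, 54, -6, -4, -1])) (.node (.leaf []) (.leaf [259397, -75980, 722888, 341805, -427549, -12678, -52599, -249019, 35312, 18925, -546, 592, -987, -37, 2])))) (.node (.node (.node (.leaf []) (.leaf [2038, -181, 4411, 1741, -2287, -18, -537, -1181, 90, 30, -2, -4, 1])) (.node (.leaf [187690, -25303, 448762, 194193, -248817, -5787, -43004, -135991, 12294, 8271, -702, -52, -278, -12, 8, 1]) (.leaf [-10, -3, 966, 749, -1038, 49, 201, -485, -66, 89, -6, 4, 1, -1]))) (.node (.node (.leaf []) (.leaf [])) (.node (.leaf [77918, -16341, 214744, 103063, -130249, -3472, -13955, -73980, 6399, 7485, -324, 182, -180, 2, -3]) (.leaf [18865, -5398, 55070, 27011, -33930, -901, -3290, -19604, 2220, 1922, -54, 56, -67, 1]))))) (.node (.node (.node (.node (.leaf [6, 0, 8, 3, -3, 0, -1, -3]) (.leaf [-181646169, 41336505,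 -482736674, -221945232, 281456936, 6846851, 37786246, 158258746, -19566994, -10444426, 478702, -38071, 528714, 28717, -7564, 211, -1])) (.node (.leaf [-4968003, 456785, -10902666, -4270485, 5685333, 26949, 1309374, 2821567, -266400, 5385, 4329, 18050, -149, 990, -468, 9, -1]) (.leaf [29856290, 4113811, 54075906, 17805149, -26327808, 973468, -7827606, -9576575, -1843205, -841613, -71410, -267560, 107637, -2555, 5513, 20, 1]))) (.node (.node (.leaf []) (.leaf [5850683, -12926744, 67329561, 49547981, -57068495, -4141431, 6216039, -40044036, 3960346, 9013450, -264492, 465748, -255605, 15790, -6472, 75, -5])) (.node (.leaf []) (.leaf [192568, -49920, 546996, 265010, -334029, -8553, -35020, -191485, 19871, 19110, -446, 531, -530, 2, -9])))) (.node (.node (.node (.leaf []) (.leaf [378403, -71597, 1018507, 482919, -612498, -16276, -71221, -344555, 26842, 36282, -1464, 790, -722, 28, -12, 1])) (.node (.leaf []) (.leaf [-77898, 24671, -200231, -84308, 107972, 1120, 20392, 59425, -14568, 2531, -34, 249, 382, 43, 1, 1])))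 (.node (.node (.leaf [6, 0, 6, 1, -1, 0, -2, -1]) (.leaf [-319, 40, -659, -216, 331, -51, 89, 132, -9, 44, -8, 2, -3])) (.node (.leaf []) (.leaf [3695054, -688653, 10005975, 4759832, -6041034, -162807, -679381, -3388808, 262164, 354075, -17488, 8051, -8060, 336, -8, 7])))))))

def twoL176 : Janko.Tree (List ℤ) :=
  (.node (.node (.node (.node (.node (.node (.leaf [1]) (.leaf [112487953, -30818368, 321139836, 155516036, -194745908, -5841710, -20290346, -112951217, 13678161, 10068412, -386524, 217623, -429295, -10315, 1285, -125, -3])) (.node (.leaf []) (.leaf [-510075753, 58237193, -1257673097, -557611203, 723901213, 11129432, 106614189, 383495544, -24598147, -25845790, 1699036, 933467, 483069, 31278, -36217, -177, -5]))) (.node (.node (.leaf [-2016, -142, -3000, -682, 940, 68, 682, 374, -58, 154, 4, 14]) (.leaf [-111142084, 25443720, -303599892, -143347800, 181165631, 4733952, 21329031, 102775600, -11170334, -8623409, 349002, -113529, 320567, 8378, -2585, 62, -1])) (.node (.leaf [1]) (.leaf [-1, -1, 0, 1, -2,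 0, 0, 0, 0, 1])))) (.node (.node (.node (.leaf []) (.leaf [-43392868, 13246619, -128418105, -63568661, 79111201, 2583018, 7294408, 46592625, -5777529, -4519313, 160170, -133211, 192756, 3316, -981, 21, 1])) (.node (.leaf [-14602, 2690, -37002, -16591, 21228, 417, 3220, 11715, -1168, -839, 27, -4, 20, 0, 1]) (.leaf [-8773543, 2369208, -24384245, -11514171, 14456189, 422610, 1713524, 8315628, -1146343, -579500, 29406, -6395, 35866, 1796, -771, 21]))) (.node (.node (.leaf [1]) (.leaf [4965223, -1125511, 13417687, 6278942, -7940311, -207956, -980227, -4495804, 506965, 355317, -15560, 4710, -14401, -480, 161, -1])) (.node (.leaf [275249, -60895, 737144, 340928, -432894, -11079, -56104, -242184, 28667, 17370, -1226, 306, -912, -30, 11]) (.leaf [12268, -4701, 36436, 17737, -21975, -704, -2470, -13120, 2141, 1126, -20, 51, -67, -2, 1]))))) (.node (.node (.node (.node (.leaf []) (.leaf [34094683, -8515356, 89702559, 40492462, -51279316, -1257341, -7573135, -28910779, 4332573, 1377285, -67502, -12619, -112578, -8705, 1593,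 -99])) (.node (.leaf []) (.leaf [-249, 2, -536, -214, 286, -2, 58, 142, 0, -4, 2]))) (.node (.node (.leaf [47, -13, 118, 52, -66, 0, -11, -38, 6, 1]) (.leaf [-580657, 41438, -1563807, -755312, 974171, 15534, 76621, 523325, -11259, -48190, 4187, 2288, 1162, 7, -188, -1])) (.node (.leaf []) (.leaf [1])))) (.node (.node (.node (.leaf []) (.leaf [5, 5, 9, 5, -7, 0, 2, -4, -2, -1, 0, 0, 0, 1])) (.node (.leaf []) (.leaf [-940076, 170281, -2599782, -1261437, 1598908, 42550, 157645, 900366, -58990, -102410, 4691, -1932, 2035, -125, 3, -1]))) (.node (.node (.leaf []) (.leaf [6657293, -1339768, 17811909, 8319004, -10578325, -234416, -1281696, -5917827, 577608, 467704, -15259, -2173, -14098, -860, 115, -3])) (.node (.leaf [1]) (.leaf [1465869, 768606, 2352149, 780044, -1337194, 128754, -236289, -271419, -425197, 10542, -10931, -25050, 13537, 668, 458, 1])))))) (.node (.node (.node (.node (.node (.leaf [-70, 9, -171, -74, 98, 0, 16, 50, -3, -3]) (.leaf [-292, 51, -708, -301, 394, 5, 78, 205, -20, -16])) (.node (.leaf [1])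 (.leaf []))) (.node (.node (.leaf []) (.leaf [10210858, -4940797, 41541876, 24892351, -29796884, -1739108, 93919, -19191820, 1339395, 3920427, -122230, 203376, -73520, 8783, -4116, 147, 1])) (.node (.leaf [-343166, 70749, -950366, -460000, 579319, 18066, 60689, 330837, -26962, -37441, 1764, -950, 903, -33, 10, -1]) (.leaf [13, -36, 376, 288, -362, -12, 52, -207, 0, 53, -4, 2, -1])))) (.node (.node (.node (.leaf []) (.leaf [43454, -17388, 142607, 74876, -91454, -3609, -5405, -56310, 7490, 6288, -198, 202, -282, -5, 1])) (.node (.leaf [-771, 41, -1363, -418, 559, -2, 252, 277, -36, 32, -2, 3, -1]) (.leaf [1]))) (.node (.node (.leaf []) (.leaf [-63, 7, -154, -67, 88, 0, 14, 46, -2, -3])) (.node (.leaf []) (.leaf [50907218, -13047048, 146427628, 71940597, -90092532, -2798331, -8656312, -52266721, 5279142, 5568429, -203928, 149616, -170069, 935, -1348, 55]))))) (.node (.node (.node (.node (.leaf [1]) (.leaf [-19504347, 2040156, -38936522, -12718896, 17562552, -283294, 6006587, 7787949, -2037020, 1913518, 8888, 180899,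 35681, 13641, -5868, 140, 1])) (.node (.leaf [-186313490, 42170743, -509417970, -240572340, 304235587, 7870735, 35417547, 172240043, -18704908, -14135198, 627973, -148244, 559838, 15901, -7962, 162, 1]) (.leaf [150327, -44712, 439468, 216184, -268625, -9545, -26000, -158396, 20075, 15176, -626, 426, -679, -14, 5]))) (.node (.node (.leaf [1]) (.leaf [-63393, 15417, -176342, -84515, 106314, 3085, 11888, 61007, -6499, -5879, 228, -139, 194, -3, 1])) (.node (.leaf [211, -35, 502, 214, -276, -5, -55, -149, 14, 12]) (.leaf [660928, -148910, 2040050, 1071904, -1334464, -49650, -74621, -784032, 40728, 121877, -5458, 4194, -2194, 266, -27, 3])))) (.node (.node (.node (.leaf [1]) (.leaf [63979175, -19396253, 188876395, 93185522, -116153471, -3611953, -10772415, -68151913, 8599568, 6249390, -217138, 137220, -281843, -7099, 752, -142, -3])) (.node (.leaf [87, -30, 256, 122, -160, 0, -20, -85, 10, 9, 1]) (.leaf [-25469, 5824, -69381, -32724, 41376, 1093, 4952, 23475, -2480, -2066, 78, -57, 70, -1, -1]))) (.node (.node (.leaf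 [1]) (.leaf [-70955291, -69944, -147455110, -55775055, 76414969, -495872, 17997996, 34977586, -468202, 460503, 175045, 393968, -76835, 10586, -9722, -28, -1])) (.node (.leaf [-542574, 112506, -1437993, -668076, 847750, 21085, 110449, 476935, -46771, -42215, 1408, -906, 1110, -8, 26, -1]) (.leaf [38518, -9710, 114545, 57435, -72156, -2241, -5880, -41526, 3642, 4975, -313, 242, -164, 12, -1])))))))

def twoL177 : Janko.Tree (List ℤ) :=
  (.node (.node (.node (.node (.node (.node (.leaf []) (.leaf [])) (.node (.leaf [-248449, 57172, -676070, -315996, 400408, 10674, 49094, 225055, -26851, -16782, 1212, -334, 901, 28, -9]) (.leaf [16013341, -1054066, 34429796, 13289883, -17837166, -48375, -4244217, -8655498, 629013, -946, -28540, -52300, 5376, -2561, 825, 15, 1]))) (.node (.node (.leaf []) (.leaf [-6088820, 21255212, -58820312, -38296123, 42116337, 3588648, -991072, 32772404, -10155064, -3935940, -34796, -451067, 362902, 9158, 5446, 137, 3])) (.node (.leaf [23786, -4833, 63006, 29327, -37211, -887, -4774, -20955,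 1977, 1862, -57, 33, -50, 0, 1]) (.leaf [-215525, 46227, -589789, -279719, 354181, 9351, 40269, 199824, -19713, -18002, 972, -363, 623, 6, 5])))) (.node (.node (.node (.leaf [0, 1]) (.leaf [-65829435, 14672810, -174220897, -80015246, 101517255, 2480667, 13759505, 57036020, -6834356, -3928969, 166912, -30955, 178539, 8946, -3147, 48, -3])) (.node (.leaf [-3468042, 740365, -9312918, -4349405, 5508840, 142492, 679366, 3104878, -333353, -245694, 12379, -2374, 9911, 308, -188, -1]) (.leaf [1410767, 306204, 4798149, 2904008, -3756787, -61636, 183060, -2018931, -368664, 526464, -20914, 1155, 5985, 1914, -94, 17]))) (.node (.node (.leaf [4052, -375, 9205, 3777, -4986, -36, -997, -2541, 173, 93, -8, -6, 2, 0, -1]) (.leaf [-1502, 62, -3436, -1441, 1908, 21, 331, 956, -30, -44, 8, 3])) (.node (.leaf [0, 1]) (.leaf [-1674, 134, -3828, -1576, 2093, 10, 393, 1053, -60, -29, 4, -1]))))) (.node (.node (.node (.node (.leaf []) (.leaf [0, 1])) (.node (.leaf []) (.leaf [29082206, 309210, 52491588, 16012737, -23053670, 401407, -9264567,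 -9061579, 479646, -1357553, -52474, -129790, 49497, -5779, 1296, 81, 3]))) (.node (.node (.leaf []) (.leaf [54104, -11985, 146465, 68798, -87230, -2117, -10628, -49189, 5039, 4289, -159, 91, -129, -1])) (.node (.leaf []) (.leaf [2068, -189, 4595, 1858, -2442, -18, -521, -1262, 88, 41, -2, -3, 1])))) (.node (.node (.node (.leaf []) (.leaf [63379098, 4910539, 128366451, 47887833, -67550860, 1669410, -14705499, -28492001, -1945324, -1308077, -141952, -630359, 129266, -12396, 17177, -221, -1])) (.node (.leaf [0, 1]) (.leaf [1452, -122, 3075, 1184, -1562, -9, -393, -799, 64, 8, 0, -3, 1]))) (.node (.node (.leaf []) (.leaf [0, 1])) (.node (.leaf []) (.leaf [-37437453, 9428691, -94170827, -40413346, 51519190, 1031482, 9296779, 28574710, -5267264, -228644, 24613, 68032, 125329, 15114, -3889, 160, -1])))))) (.node (.node (.node (.node (.node (.leaf []) (.leaf [0, 1])) (.node (.leaf [-813, 189, -2318, -1140, 1446, 12, 132, 827, -58, -88, 2, -1, 1]) (.leaf [0, 1]))) (.node (.node (.leaf []) (.leaf [0, 1])) (.node (.leaf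 []) (.leaf [-294088799, 36602170, -731426345, -326273279, 422189578, 7342028, 61294776, 225472533, -15509669, -16009088, 1018008, 380611, 323529, 18680, -18147, -237, -7])))) (.node (.node (.node (.leaf [0, 1]) (.leaf [3990939062, -845687329, 10597261659, 4902369403, -6221819229, -154360313, -810167885, -3491593330, 381606874, 266178692, -12149902, 2510126, -10325284, -386151, 129868, 259, 43])) (.node (.leaf [0, 1]) (.leaf [-3559, 273, -7739, -3091, 4044, 73, 924, 2091, -141, -93, 9, 5, 1]))) (.node (.node (.leaf []) (.leaf [-11, 7, -29, -10, 15, -1, 6, 6, -1, -1, 0, -1])) (.node (.leaf [0, 1]) (.leaf [60079979, -15178821, 171435292, 83714581, -104953543, -3215773, -10446733, -60711268, 6239134, 6268932, -238396, 162758, -199136, 180, -1126, 58]))))) (.node (.node (.node (.node (.leaf []) (.leaf [-32732492, 7635191, -82864804, -35987768, 46012129, 841958, 7771012, 25345635, -4175912, -430506, 37568, 67192, 102645, 11597, -3558, 133])) (.node (.leaf []) (.leaf [-68831249, 15357167, -187721450, -88559139, 112039082,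 2882796, 13109297, 63363050, -6797469, -5215124, 234407, -47776, 201921, 5918, -2564, 44, 1]))) (.node (.node (.leaf []) (.leaf [-127927463, 23383595, -340752001, -159511032, 203104726, 4806116, 24322048, 113056115, -9662500, -9974905, 475704, -54185, 275799, 3056, -4286, -71])) (.node (.leaf [826, -88, 1970, 856, -1111, -14, -178, -595, 32, 37, 0, 1]) (.leaf [1485, -121, 3720, 1671, -2201, -26, -303, -1122, 32, 109, -14, 2, -1])))) (.node (.node (.node (.leaf []) (.leaf [11152198, -7185437, 39454713, 20786448, -24805153, -1219974, -1810609, -16150652, 3385857, 1539068, -6108, 108222, -108242, -3328, -655, -47])) (.node (.leaf [0, 1]) (.leaf [-98734, 18531, -253229, -114288, 146818, 2379, 21358, 80472, -7590, -5901, 106, -83, 117, 4, 5]))) (.node (.node (.leaf [33360428, -6578476, 89830211, 42270510, -53661338, -1341203, -6293735, -30084987, 2786876, 2632703, -123686, 20040, -82074, -1518, 1290, 11]) (.leaf [0, 1])) (.node (.leaf [92934, -83018, 276444, 115389, -132906, -8136, -35799, -92961, 50205, -10117, 857,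 216, -1320, -184, 18, -1]) (.leaf [7191, -8038, 1178, -10397, 12052, 1849, -7813, 7864, 6347, -7125, 651, -340, 4, -33, -2, -1])))))))

def twoL178 : Janko.Tree (List ℤ) :=
  (.node (.node (.node (.node (.node (.node (.leaf []) (.leaf [-273198726, 37027813, -699098197, -319605374, 411338465, 8069180, 53573909, 222744514, -14757557, -18432871, 1050346, 205477, 368702, 8647, -14535, -282, -3])) (.node (.leaf []) (.leaf []))) (.node (.node (.leaf []) (.leaf [0, 0, 1])) (.node (.leaf [75223, -18961, 210834, 101615, -127393, -3800, -13796, -73711, 8088, 7021, -224, 127, -236, -2, -3]) (.leaf [0, 0, 1])))) (.node (.node (.node (.leaf []) (.leaf [])) (.node (.leaf [0, 0, 1]) (.leaf [5451230, -764004, 13601829, 6072930, -7823929, -155494, -1162203, -4224584, 329108, 312123, -19238, -2692, -7124, -242, 66, 11]))) (.node (.node (.leaf [-58384, 9084, -147473, -66064, 85214, 1434, 12368, 46083, -3830, -3209, 190, -46, 68, 0, -3]) (.leaf [0, 0, 1])) (.node (.leaf [1867, -70, 3768, 1376, -1852, -6, -519, -892, 54, -16, -4,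 -5, 2]) (.leaf [1620402, -414494, 4224963, 1880131, -2380397, -60020, -370239, -1339751, 225093, 40832, -3788, -1501, -6335, -576, 207, -5]))))) (.node (.node (.node (.node (.leaf []) (.leaf [-71, 18, -201, -95, 126, 0, 15, 64, -6, -6])) (.node (.leaf []) (.leaf [0, 0, 1]))) (.node (.node (.leaf [42, -15, 121, 56, -72, 0, -10, -40, 6, 3]) (.leaf [31382219, -6588834, 85098202, 40141210, -50851451, -1322207, -5949244, -28656219, 2833798, 2499349, -115920, 29064, -83988, -1663, 894, 7])) (.node (.leaf []) (.leaf [-95649, 19467, -166507, -40919, 52836, 2232, 37577, 26558, -18912, 14136, -142, 990, 324, 100, -16, 1])))) (.node (.node (.node (.leaf [0, 0, 1]) (.leaf [3, 0, 6, 3, -3, 0, 0, -4, 0, 0, 0, 0, 0, 1])) (.node (.leaf [11359026, -1859812, 28290755, 12455963, -16035362, -305178, -2522015, -8673085, 908654, 456131, -30810, -13986, -20720, -1706, 936, -9]) (.leaf [34501593, -6958853, 93962910, 44698608, -56603073, -1492941, -6344025, -31941764, 2815600, 3080814, -131574, 42729, -83428, 115, 434, 29]))) (.node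 (.node (.leaf [-150, -28, -314, -136, 175, 1, 13, 95, 10, 3, 2]) (.leaf [298, -64, 714, 297, -387, -12, -91, -202, 27, 21, 1])) (.node (.leaf [-758, 106, -939, -78, 128, -58, 343, 60, -64, 107, -24, 12, -3]) (.leaf [2771896, -473402, 7713746, 3778755, -4784651, -137315, -445669, -2698503, 149473, 335243, -16972, 8286, -6053, 573, -29, 11])))))) (.node (.node (.node (.node (.node (.leaf [0, 0, 1]) (.leaf [-101410, 25599, -283458, -136004, 171022, 4700, 18895, 98397, -10815, -9112, 276, -208, 304, 4, 1])) (.node (.leaf [-337, 12, -920, -434, 590, -13, 42, 285, 8, -17, 1, 0, -1]) (.leaf [1611, -72, 3656, 1524, -2014, -39, -373, -1010, 32, 65, -8, -1]))) (.node (.node (.leaf []) (.leaf [31702721, 11496421, 41162047, 6733687, -15045737, 2534812, -9209569, 628277, -5065177, -2984665, -59280, -525848, 231606, -4642, 11232, -29, 1])) (.node (.leaf [-1816, 90, -2759, -665, 822, 82, 686, 462, -128, 76, -2, 6, 1, -1]) (.leaf [-381, -1, -581, -138, 197, -2, 142, 80, -6, 16, -2, 2, -1])))) (.node (.node (.node (.leaf [])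 (.leaf [0, 0, 1])) (.node (.leaf [3396528, -863829, 9454062, 4529724, -5680956, -184026, -656141, -3281585, 364144, 332323, -13366, 12509, -10573, 84, -238, 7]) (.leaf [-1, 0, 1, 0, -1, 0, 0, 1]))) (.node (.node (.leaf [0, 0, 1]) (.leaf [0, 0, 1])) (.node (.leaf [49103230, -9406737, 136130621, 65375159, -83128721, -1779489, -8108936, -46444509, 3946949, 3914792, -194818, -52857, -137626, -4662, 5303, -88, -5]) (.leaf [50134646, -13485717, 146727450, 72888295, -91014314, -2952328, -8190956, -53172558, 5405606, 5890759, -214192, 174514, -180853, 1704, -1894, 72, -1]))))) (.node (.node (.node (.node (.leaf [5, 0, 8, 3, -4, 0, -1, -2]) (.leaf [0, 0, 1])) (.node (.leaf [0, 0, 1]) (.leaf [0, 0, 1]))) (.node (.node (.leaf [1, 0, 3, 1, -1, 0, 0, -1]) (.leaf [0, 0, 1])) (.node (.leaf [209, -34, 496, 211, -272, -5, -54, -147, 14, 11]) (.leaf [30, -10, 81, 37, -46, -1, -7, -27, 5, 1])))) (.node (.node (.node (.leaf []) (.leaf [-236426, -48781, -813284, -498187, 645022, 10485, -28217, 348518, 70019, -102746, 3447, -2306,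 -1462, -453, 94, -5])) (.node (.leaf [597, -64, 1408, 593, -782, -5, -143, -400, 27, 21, -3]) (.leaf [49466331, -9918327, 129910489, 59583403, -75915115, -1719854, -10162952, -42195218, 4524894, 2997186, -145860, -961, -119822, -5149, 2355, -40, 1]))) (.node (.node (.leaf []) (.leaf [77291723, -17923355, 210475148, 98981205, -125133797, -3206774, -15063993, -70954201, 7969916, 5721157, -227649, 72928, -225100, -6842, 1870, -57])) (.node (.leaf [0, 0, 1]) (.leaf [0, 0, 1])))))))

def twoL179 : Janko.Tree (List ℤ) :=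
  (.node (.node (.node (.node (.node (.node (.leaf []) (.leaf [-3006166, 554391, -8300623, -4020947, 5091027, 141870, 511565, 2873051, -196383, -326924, 15714, -7431, 6843, -394, 15, -9])) (.node (.leaf []) (.leaf [-2, 0, -1, 0, 0, 0, 0, 1]))) (.node (.node (.leaf []) (.leaf [-74712424, 17286743, -203673123, -95902181, 121231574, 3115737, 14500381, 68755869, -7649216, -5616076, 223074, -73771, 216716, 6191, -1673, 51])) (.node (.leaf [5599, 526, 11480, 4572, -6218, 14, -1208, -2904, -310, 187, -34, -26, 15, 0, -1]) (.leaf [2613517, -545703, 7327094, 3570301, -4504832, -125530, -440492, -2567014, 202777, 283120, -11596, 6210, -6640, 249, -17, 5])))) (.node (.node (.node (.leaf []) (.leaf [13399, -3607, 37574, 18027, -22603, -653, -2565, -13098, 1538, 1224, -32, 34, -44])) (.node (.leaf []) (.leaf [2059, -122, 4539, 1830, -2412, -47, -511, -1218, 70, 49, -8, -2]))) (.node (.node (.leaf []) (.leaf [-1269744, 324151, -3507201, -1658775, 2086023, 61673, 248800, 1195900, -148986, -97315, 4767, -2311, 4613, 136, -31]))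 (.node (.leaf [8137, -637, 18892, 7981, -10459, -129, -1815, -5417, 301, 237, -31, -5, -1]) (.leaf [-3251724, 812099, -9188524, -4445902, 5582969, 166681, 580900, 3215015, -346721, -307555, 12602, -6953, 11034, 156, -57, -1]))))) (.node (.node (.node (.node (.leaf []) (.leaf [44484, -8828, 117626, 54656, -69458, -1596, -8828, -38996, 3617, 3317, -88, 69, -86, 2, -1])) (.node (.leaf []) (.leaf [208215, -31083, 553566, 263407, -335427, -8897, -37730, -186697, 9483, 22302, -981, 476, -251, 37, -14, 1]))) (.node (.node (.leaf [50, -11, 130, 58, -77, 0, -12, -39, 4, 3]) (.leaf [49925, -11694, 137065, 64960, -82139, -2075, -9611, -46635, 4903, 4191, -146, 97, -131, -1])) (.node (.leaf [-1195411, 338867, -3372470, -1633516, 2035739, 73269, 237858, 1196303, -134480, -140576, 3764, -6995, 3396, -158, 234, -3]) (.leaf [3392, -320, 7657, 3145, -4124, -39, -836, -2139, 146, 88, -6, -5, 1])))) (.node (.node (.node (.leaf []) (.leaf [77897, -2193, 192566, 89818, -116339, -3038, -14182, -61749, -1794, 9575, -560, 160, 62, 38,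 -10, 1])) (.node (.leaf []) (.leaf [0, 0, -1, 0, 1]))) (.node (.node (.leaf [128893, -32818, 349651, 163581, -205611, -5904, -26470, -118256, 14933, 9414, -286, 201, -386, -14, -1]) (.leaf [297, -65, 713, 297, -387, -11, -91, -202, 27, 21, 1])) (.node (.leaf [-4513989, 1240541, -11471508, -4954048, 6270293, 157589, 1139551, 3535655, -687434, -54813, 5544, 1880, 17324, 1683, -316, 11]) (.leaf [44889446, -13321542, 135708814, 68283925, -84974587, -2789155, -6698863, -49985350, 5731015, 5071395, -217306, 110750, -215080, -3059, 2757, -47, -3])))))) (.node (.node (.node (.node (.node (.leaf []) (.leaf [-59980719, 13470249, -163487424, -77083257, 97567018, 2421776, 11476415, 55172268, -5891494, -4544634, 179414, -43613, 167176, 4633, -1618, 55])) (.node (.leaf []) (.leaf [855, -22, 2056, 877, -1214, 26, -169, -553, -11, 16, 1, -1, 1]))) (.node (.node (.leaf [-324, 37, -840, -392, 509, 1, 56, 274, -8, -24, 1]) (.leaf [15006, -3701, 41223, 19534, -24614, -662, -2948, -14093, 1571, 1276, -38, 32, -43])) (.node (.leaf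 [3016, -278, 6702, 2701, -3556, -34, -766, -1825, 134, 56, -2, -4, 1]) (.leaf [-3093, 346, -6035, -2150, 2722, 109, 972, 1518, -227, -15, 0, 7, 0, -1])))) (.node (.node (.node (.leaf []) (.leaf [41313410, -5532602, 110341119, 52247806, -67090863, -1199333, -6883533, -36580275, 2009961, 3262040, -171772, -73771, -69913, -699, 5509, -46, -1])) (.node (.leaf []) (.leaf [18322082, -4377674, 48310717, 22054640, -27855872, -772626, -3981302, -15803928, 2110893, 1041253, -48109, 18867, -55711, -2999, 724, 6, 1]))) (.node (.node (.leaf []) (.leaf [])) (.node (.leaf []) (.leaf [64121676, -15392500, 180056027, 87040794, -109434094, -3216492, -11513005, -62870683, 6351960, 6288406, -241428, 148004, -194802, -238, -870, 55, 1]))))) (.node (.node (.node (.node (.leaf [-23491758, -3572630, -44153355, -15594429, 22683831, -681680, 5669826, 8701175, 1823208, 151220, 78188, 198558, -88075, -498, -4356, -30, -1]) (.leaf [-39102699, 648052, -83581534, -32582810, 44224983, -226340, 9607093, 20844684, -456278, -32769, 78266, 207507,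 -37286, 5090, -5326, 6, -1])) (.node (.leaf []) (.leaf []))) (.node (.node (.leaf []) (.leaf [-68262535, 13984185, -172236969, -75833522, 96959021, 2067323, 15749084, 53398383, -7033482, -2491311, 144406, 31154, 163230, 13153, -3822, 64, -3])) (.node (.leaf []) (.leaf [1, 0, 3, 2, -2, 0, 0, -1])))) (.node (.node (.node (.leaf [331393611, -101065032, 948899196, 456853802, -570050675, -17815723, -63097206, -333611959, 46645006, 27263262, -900726, 761372, -1403604, -49122, 5184, -582, 7]) (.leaf [1915, -167, 4663, 2041, -2709, 8, -403, -1373, 40, 91, -5, -2, 1])) (.node (.leaf []) (.leaf [7, -1, 18, 9, -10, 1, -1, -7, 1, 0, 0, -1]))) (.node (.node (.leaf [-55806185, 12555349, -150135147, -70011170, 88579085, 2340120, 11165519, 50069194, -5695518, -3917891, 177244, -48922, 160828, 5466, -2020, 28, -1]) (.leaf [-12643977, -302097, -22633968, -6783920, 9937004, -370801, 3924951, 3746138, -152724, 830248, -12897, 103596, -28640, 3902, -2348, 40, -3])) (.node (.leaf []) (.leaf [30963537, -8232022, 86220802, 41044817,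 -51482624, -1563343, -6024957, -29735978, 3697967, 2565065, -102036, 74077, -109965, -2584, 119, 11])))))))

def twoL180 : Janko.Tree (List ℤ) :=
  (.node (.node (.node (.node (.node (.node (.leaf []) (.leaf [1])) (.node (.leaf []) (.leaf [1]))) (.node (.node (.leaf [-100395, 24503, -278834, -133272, 167903, 4524, 18872, 96125, -10336, -8866, 304, -196, 293, 4, 1]) (.leaf [-22371434, 5091510, -59300750, -27250669, 34530412, 870876, 4696370, 19455115, -2383052, -1344965, 56693, -12803, 62608, 3067, -861, 17, -1])) (.node (.leaf [164898, -44700, 475128, 232469, -291865, -8026, -28983, -168837, 17887, 17288, -390, 481, -504, 2, -7]) (.leaf [1, -1, -3, -3, 4, 0, -1, 2, 1, -1])))) (.node (.node (.node (.leaf []) (.leaf [1])) (.node (.leaf [-1249596, 274964, -3356622, -1571347, 1989008, 50344, 249066, 1125843, -116261, -98175, 2958, -1701, 2802, 55, 37, -1]) (.leaf [-18982566, 4707167, -52544794, -25018143, 31450589, 932290, 3634467, 18062907, -2070264, -1615795, 67840, -40330, 62209, 1033, -176, -11]))) (.node (.node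 (.leaf [16, -5, 57, 29, -40, 0, -3, -18, 1, 3]) (.leaf [])) (.node (.leaf [-119, 29, -642, -412, 527, 12, -41, 290, 6, -58, 4, -2, 1]) (.leaf [-140941713, 19624496, -357152583, -161211222, 207991782, 3530396, 28504837, 112021928, -8425516, -7818970, 450244, 217326, 200323, 10926, -10192, 30, 1]))))) (.node (.node (.node (.node (.leaf [1]) (.leaf [1])) (.node (.leaf [1]) (.leaf [1]))) (.node (.node (.leaf [59, -7, 146, 65, -86, 0, -12, -44, 2, 3]) (.leaf [-5750243, 1408611, -15819963, -7480983, 9417014, 272748, 1111955, 5385795, -644122, -438641, 21060, -7996, 19915, 591, -260, 3])) (.node (.leaf [-181, 46, -459, -200, 256, 9, 49, 140, -21, -11, -1]) (.leaf [4230, -389, 9714, 4049, -5322, -47, -1010, -2744, 166, 131, -10, -4, 1])))) (.node (.node (.node (.leaf []) (.leaf [222662, -34290, 592485, 281422, -358493, -9270, -40647, -199444, 10871, 23196, -1034, 498, -281, 40, -13, 1])) (.node (.leaf [-9506, 2174, -25726, -12095, 15293, 400, 1902, 8679, -910, -794, 26, -18, 24, -1]) (.leaf [1]))) (.node (.node (.leaf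 []) (.leaf [])) (.node (.leaf [-40332, 17452, -136785, -72959, 88714, 3722, 4496, 55161, -7519, -6392, 196, -214, 294, 5, -1]) (.leaf [946714, -248079, 2626554, 1242041, -1558036, -46198, -180519, -897127, 122025, 60424, -2851, -458, -3806, -242, 115, -3])))))) (.node (.node (.node (.node (.node (.leaf []) (.leaf [-1553992744, 243855701, -3895429141, -1731592205, 2229558537, 41266566, 335049221, 1206369056, -113517644, -72748592, 4334882, 1829626, 2540088, 190052, -103818, 178, -33])) (.node (.leaf [-67566072, 39448893, -269604033, -155055853, 186112117, 9351352, 2869062, 119412300, -14980711, -18567134, 497009, -964828, 631712, -19833, 16180, -130, 7]) (.leaf [18875603, -607329, 38558021, 14239715, -19242173, -179991, -5265880, -9082299, 482965, 24853, -64620, -44747, 12725, -1945, 1230, 84, 1]))) (.node (.node (.leaf [1]) (.leaf [1])) (.node (.leaf [-10, 1, -20, -8, 10, 0, 3, 6, 0, -1]) (.leaf [-5613717, 83505, -13548011, -6058331, 7999625, 73673, 1022661, 4045794, 42690, -342727, 29191, 22497, -1878, -143,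 -664, -1])))) (.node (.node (.node (.leaf [-137859, -9881, -267158, -95173, 134289, -348, 37259, 55875, 4738, -1241, 930, 224, -293, -29, -10, -1]) (.leaf [1])) (.node (.leaf [-274074, 64069, -753361, -358227, 452233, 11807, 52247, 257821, -26456, -24006, 759, -597, 707, 2, 5]) (.leaf [1796734, -632203, 5338787, 2624826, -3239369, -125692, -331724, -1941456, 294945, 176729, -7008, 7465, -9696, -274, 29, -1]))) (.node (.node (.leaf []) (.leaf [])) (.node (.leaf [-13, 1, -31, -13, 16, -1, 3, 10, -1, 0, 0, 1]) (.leaf [1]))))) (.node (.node (.node (.node (.leaf []) (.leaf [-78181, 2178, -193114, -90034, 116604, 3067, 14256, 61899, 1794, -9599, 564, -160, -61, -38, 10, -1])) (.node (.leaf [1]) (.leaf [1]))) (.node (.node (.leaf [1561, -69, 3582, 1504, -1991, -20, -343, -1000, 32, 46, -8, -3]) (.leaf [1])) (.node (.leaf []) (.leaf [-9991425, 972533, -25357392, -11643858, 15089044, 236543, 1856658, 8041029, -292331, -736771, 38770, 15173, 5669, -251, -592, -13])))) (.node (.node (.node (.leaf []) (.leaf [-362599, 579963,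 -1757749, -951507, 1067677, 82603, 80449, 789608, -320652, -16437, -1545, -6146, 10746, 688, -101, 13])) (.node (.leaf []) (.leaf [2530278, 318381, 5143858, 2030436, -2850155, 40072, -563901, -1227970, -227038, 123729, -10392, -8832, 10681, 724, -179, 19]))) (.node (.node (.leaf [-418244, 107250, -969742, -382186, 484514, 14646, 123278, 270144, -67356, 9514, 382, 580, 1438, 210, -30, 1]) (.leaf [1])) (.node (.leaf []) (.leaf [-271360424, 102354389, -840860626, -425412705, 522969181, 20597478, 44874027, 317045560, -44964450, -33571599, 1059116, -1553213, 1507802, 13299, 14540, -57, 1])))))))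

def twoL181 : Janko.Tree (List ℤ) :=
  (.node (.node (.node (.node (.node (.node (.leaf [0, 1]) (.leaf [])) (.node (.leaf [0, 1]) (.leaf [-567, 12, -1142, -422, 571, 0, 149, 274, -5, 4, -4, 2, -1]))) (.node (.node (.leaf [0, 1]) (.leaf [8058, -748, 18439, 7657, -10071, -88, -1953, -5180, 322, 250, -18, -12, 2])) (.node (.leaf [0, 1]) (.leaf [0, 1])))) (.node (.node (.node (.leaf []) (.leaf [6954013, -1827256, 19544451, 9345299, -11732091, -342862, -1288882, -6753169, 850648, 532549, -25380, 6655, -27333, -1060, 536, -15])) (.node (.leaf []) (.leaf [181536, -40242, 478193, 219732, -279040, -5895, -38009, -157082, 17642, 11285, -2, -55, -297, -30, -11]))) (.node (.node (.leaf [0, 1]) (.leaf [1872, -100, 4345, 1844, -2439, -39, -420, -1226, 35, 86, -7, -1])) (.node (.leaf [17435, -3123, 44314, 19852, -25420, -653, -3887, -13890, 1450, 1042, -72, 6, -36, -2, 1]) (.leaf [-851736, 195453, -2346441, -1120459, 1414086, 38061, 160446, 806308, -78785, -79343, 2477, -1828, 2054, 6, 24, -1]))))) (.node (.node (.node (.node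 (.leaf []) (.leaf [-380362, 164049, -1324349, -720119, 884151, 24963, 33855, 543846, -58388, -69363, -834, -1471, 1593, -20, 71, 3])) (.node (.leaf [-6103101, 745523, -14097736, -5808425, 7614921, 86205, 1517013, 3934143, -393973, -96368, 9438, 15308, 4097, 1057, -505, 8, -1]) (.leaf [-1240244, 309845, -3463160, -1656349, 2080869, 64837, 232503, 1194633, -139214, -106714, 5695, -2750, 4627, 82, -28, -1]))) (.node (.node (.leaf [0, 1]) (.leaf [-153393, 33576, -412626, -193428, 244773, 6240, 30349, 138588, -14271, -12087, 416, -185, 345, 4, 3])) (.node (.leaf [0, 1]) (.leaf [-28900, 6067, -77238, -36011, 45743, 1108, 5790, 25660, -2550, -2229, 90, -45, 65])))) (.node (.node (.node (.leaf [21, 11, 40, 11, -21, -1, -6, 0, -4, 0, -1]) (.leaf [0, 1])) (.node (.leaf [-7859, 1915, -21680, -10326, 12995, 360, 1509, 7458, -810, -694, 24, -16, 23]) (.leaf [2042, -1372, 10246, 6323, -7696, -365, 252, -4757, 471, 832, -42, 37, -27, 1]))) (.node (.node (.leaf [-66897, 17409, -185241, -87946, 110353, 3522, 13284, 63529, -7875,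 -5670, 240, -109, 230, 8, -1]) (.leaf [44351779, -13501577, 131122357, 64868519, -80741212, -2632945, -7473784, -47534103, 5890646, 4604341, -163730, 135351, -196324, -3388, 997, -21, -1])) (.node (.leaf [0, 1]) (.leaf [0, 1])))))) (.node (.node (.node (.node (.node (.leaf []) (.leaf [-22552831, 5752759, -56890375, -24332877, 31092092, 523356, 5560900, 17150861, -3300823, 95879, 10906, 65833, 82200, 10586, -3077, 127, 1])) (.node (.leaf []) (.leaf [25496, -1821, 57230, 23147, -31296, 289, -6373, -15162, 473, 573, 22, -33, 45, 2, -5]))) (.node (.node (.leaf []) (.leaf [23122866, -4550398, 67001859, 33901523, -42529867, -1431987, -3366634, -24566878, 1234423, 3600026, -138930, 121810, -47691, 7246, -2349, 141, 1])) (.node (.leaf [0, 1]) (.leaf [8068, -748, 18342, 7572, -9970, -64, -1971, -5130, 311, 232, -13, -9, 3])))) (.node (.node (.node (.leaf []) (.leaf [7988057, -1591037, 23467372, 11886945, -14952854, -442567, -1063141, -8572654, 511519, 1089954, -44834, 15920, -21642, 992, 34, 15])) (.node (.leaf [-2517,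 247, -5526, -2212, 2894, 28, 654, 1511, -121, -48, 3, 5, -1]) (.leaf [-806552, 163264, -2346739, -1183053, 1484808, 50031, 116976, 854764, -51979, -116354, 5910, -3589, 2318, -192, 30, -3]))) (.node (.node (.leaf [-96170, 8983, -222086, -92723, 122801, 806, 23495, 62164, -3187, -3782, 140, 67, -60, -6, 7]) (.leaf [40660, -10912, 114621, 55107, -69220, -1864, -7618, -39972, 4646, 3631, -102, 94, -130, -3])) (.node (.leaf [-1, -1, 0, 0, -1, 0, 0, 0, 0, 0, 0, 1]) (.leaf [291073559, -69789671, 743484126, 327300416, -416849358, -8702766, -68875865, -232311759, 35561676, 8905719, -306168, -68061, -808967, -68282, 10730, -677, 9]))))) (.node (.node (.node (.node (.leaf [0, 1]) (.leaf [17150370, -14472926, 68070555, 37519328, -43915082, -2769525, -2563332, -29812492, 6665804, 3591095, -58396, 337571, -227423, -1696, -5604, 30])) (.node (.leaf [-39603601, 8917709, -107481333, -50613683, 63951499, 1754744, 7751403, 36288488, -3855205, -3205052, 136208, -69580, 110419, 1414, -315, -34, -1]) (.leaf [-1759993, 480133, -4907264,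 -2328322, 2920626, 87325, 344677, 1685858, -223030, -132942, 5806, -3384, 6793, 231, -47, 1]))) (.node (.node (.leaf [0, 1]) (.leaf [-5516575, 591434, -12442092, -5014345, 6619577, 53632, 1408710, 3360404, -321642, -48317, 6272, 16697, 1508, 1004, -459, 8, -1])) (.node (.leaf [43187, -5606, 104536, 45237, -59135, -678, -10000, -30944, 2211, 2058, -94, 2, -10, 0, -1]) (.leaf [-64004741, 14443665, -178209936, -86096647, 108261822, 3371160, 11556039, 62115344, -5754173, -6679725, 287131, -192917, 182886, -3875, 1045, -156, -1])))) (.node (.node (.node (.leaf []) (.leaf [0, 1])) (.node (.leaf []) (.leaf [0, 1]))) (.node (.node (.leaf []) (.leaf [122315355, -34960905, 356737595, 175571305, -219207998, -6853468, -20965809, -128164581, 14853605, 12744070, -435360, 357224, -478040, -3472, -1265, -61, -3])) (.node (.leaf [1830, -85, 4091, 1671, -2214, -33, -434, -1105, 47, 46, -10, -1]) (.leaf [0, 1])))))))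

def twoL182 : Janko.Tree (List ℤ) :=
  (.node (.node (.node (.node (.node (.node (.leaf []) (.leaf [7744317, -2272702, 18919995, 7696131, -9820188, -168761, -2170405, -5435623, 1373063, -248713, 8618, -22013, -30512, -4501, 707, -61])) (.node (.leaf []) (.leaf [-455, -8, -1045, -451, 600, 5, 89, 298, 11, -25, 3]))) (.node (.node (.leaf [-701, 24, -1803, -832, 1103, 8, 114, 554, 2, -50, 8, -1]) (.leaf [-50506919, 12899586, -147254957, -73046101, 91429506, 2841426, 8071275, 53083661, -5187270, -5728091, 223406, -132198, 180367, -958, -572, -21, 1])) (.node (.leaf [-13891, 1621, -29203, -10899, 14506, -46, 4028, 7325, -825, 116, -32, 19, -12, 0, -1]) (.leaf [-2970135, 712776, -7892549, -3611123, 4571112, 113563, 628711, 2580823, -350465, -148986, 7392, -232, 9648, 610, -198, 5])))) (.node (.node (.node (.leaf [0, 0, 1]) (.leaf [-439063236, 95527756, -1185653519, -557786338, 705008413, 19739132, 86185636, 399557252, -40716345, -36563319, 1636388, -857587, 1168469, 7212, 1893, -731, -5])) (.node (.leaf [24105, -1354,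 58037, 25778, -33842, -176, -4749, -17597, 99, 1524, -102, -4, 22, 5, -1]) (.leaf [26786304, -6146015, 73920518, 35271215, -44496691, -1221044, -4985948, -25354467, 2597012, 2346095, -88716, 39556, -75238, -958, 250, -3, 1]))) (.node (.node (.leaf []) (.leaf [-47468579, 68412528, -254868299, -153584042, 174447870, 13546990, 2775048, 126439922, -31206475, -17629608, 194141, -1738480, 1111292, 6765, 30278, -130, 1])) (.node (.leaf [0, 0, 1]) (.leaf [-19704560, -10665035, -4313672, 13329555, -11097638, -2673780, 9350224, -14394976, 3876164, 5088923, -55340, 426244, -230349, 9134, -6930, -30, -5]))))) (.node (.node (.node (.node (.leaf [648, -124, 1728, 792, -1046, 10, -133, -545, 34, 41, 2, 0, 1]) (.leaf [-40, 23, -140, -70, 92, 0, 11, 48, -8, -7])) (.node (.leaf []) (.leaf [-252, 2, -537, -214, 286, -2, 59, 142, 0, -4, 2]))) (.node (.node (.leaf [58, -7, 145, 64, -84, 0, -12, -44, 2, 3]) (.leaf [-10716125, 1835992, -30239944, -15111014, 18992235, 675444, 1648046, 10892042, -479730, -1612510, 74164, -55082, 20395,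 -3311, 1030, -85])) (.node (.leaf [641, -44, 1448, 595, -786, -5, -153, -400, 19, 17, -3]) (.leaf [248, -9, -75, -286, 356, 14, -184, 208, 36, -90, 10, -4, 1, -1])))) (.node (.node (.node (.leaf [-64, 7, -161, -73, 97, 0, 12, 49, -2, -3]) (.leaf [-1687835, 337537, -4151400, -1775959, 2280595, 44460, 408939, 1240142, -185137, -27453, 3164, 2720, 4223, 556, -131, 1])) (.node (.leaf [-3764, 468, -8211, -3236, 4266, -20, 1030, 2217, -192, -50, -16, 10, -2, -1]) (.leaf [3200, -1368, 12611, 7201, -8893, -358, -42, -5313, 486, 813, -50, 34, -27, 1]))) (.node (.node (.leaf []) (.leaf [0, 0, 1])) (.node (.leaf [213856, -22923, 546534, 253858, -326335, -8069, -40703, -177107, 5887, 20913, -1271, 506, -158, 51, -4, 1]) (.leaf [-1926, 165, -4094, -1569, 2078, 29, 531, 1042, -95, -9, -2, 6, -2])))))) (.node (.node (.node (.node (.node (.leaf []) (.leaf [-5508, 1772, -17651, -9151, 11387, 432, 717, 6680, -724, -816, 48, -32, 28, -1])) (.node (.leaf []) (.leaf [-5556935, 601234, -12591188, -5101682, 6726535, 59459, 1408524,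 3425355, -322588, -62569, 7272, 15803, 1825, 940, -465, 7, -1]))) (.node (.node (.leaf []) (.leaf [93937470, -21470006, 249927854, 114516908, -145537107, -3104467, -19327218, -81428131, 10546623, 4387523, -204050, -113472, -289111, -20486, 9108, -359, 1])) (.node (.leaf [-54, -11, -118, -59, 72, 3, 4, 44, 7, -8, 1]) (.leaf [10950666, -2770424, 30526582, 14624474, -18346942, -567979, -2070560, -10589077, 1201177, 996996, -39805, 27476, -36116, -313, -89, 5])))) (.node (.node (.node (.leaf []) (.leaf [-4282330, 83906, -10155854, -4422318, 5895336, 4453, 824061, 2917314, -1944, -160594, 15494, 23996, -1618, 250, -624, 9])) (.node (.leaf [0, 0, 1]) (.leaf [0, 0, 1]))) (.node (.node (.leaf [-12627, 1586, -30910, -13463, 17699, 80, 2804, 9175, -585, -545, 24, 1, -2, 0, 1]) (.leaf [])) (.node (.leaf [46, -10, 118, 51, -68, -1, -12, -34, 3, 3, 0, 1]) (.leaf [563, -61, 1392, 618, -808, -10, -118, -421, 22, 32, -2, 0, -1]))))) (.node (.node (.node (.node (.leaf []) (.leaf [3, 3, 13, 6, -10, 0, 1, -3, -2, 0, 0, 0, 1]))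 (.node (.leaf [230096, -68664, 668268, 327124, -406747, -14289, -41187, -239522, 30768, 22915, -885, 636, -1014, -21, 7]) (.leaf [-18680, 2200, -55112, -28206, 35613, 1691, 2142, 19850, -668, -3045, 357, -165, 103, -14, 1]))) (.node (.node (.leaf [-975, 84, -2251, -942, 1239, 18, 236, 632, -38, -39, 6, 0, 1]) (.leaf [32309, -7870, 90050, 43195, -54072, -1760, -5636, -31425, 3548, 2555, -90, 126, -105, 5, 6])) (.node (.leaf []) (.leaf [-25238628, 7055949, -80005993, -42077603, 52211458, 1839404, 2791005, 30958123, -2443962, -4198893, 157848, -116264, 107008, -4368, 665, -45, 3])))) (.node (.node (.node (.leaf [0, 0, 1]) (.leaf [-81726, -44784, -174809, -90422, 126047, -1595, 499, 54751, 30517, -16996, -629, 2478, -1350, 33, -4, 1])) (.node (.leaf []) (.leaf [-140163, 27820, -367646, -169069, 216245, 4082, 29117, 119746, -11046, -10001, 181, -192, 201, 0, 6]))) (.node (.node (.leaf [0, 0, 1]) (.leaf [-12076572, 7473397, -42085511, -22064439, 26389930, 1281579, 2000703, 17093396, -3501171, -1653286, 8597, -114706,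 111074, 3175, 876, 45])) (.node (.leaf [611, 10, 971, 246, -320, -40, -213, -146, 40, -35, -6, -1, -2]) (.leaf [-261347144, 100788989, -813778162, -412515751, 506481581, 20241448, 43167829, 307962697, -44379448, -32703487, 1013538, -1556562, 1487911, 13369, 15070, -58, 1])))))))

def twoL183 : Janko.Tree (List ℤ) :=
  (.node (.node (.node (.node (.node (.node (.leaf []) (.leaf [20132102, -3275087, 50753682, 22599233, -29108654, -501278, -4314714, -15746579, 1540801, 890913, -51256, -30667, -34642, -2815, 1181, -23])) (.node (.leaf [-1696, 99, -3711, -1485, 1965, 16, 410, 995, -53, -16, 0, 4, -1]) (.leaf [-11, -51, 218, 168, -212, -5, 21, -119, 16, 33, -6, 2, -1]))) (.node (.node (.leaf []) (.leaf [42841533, -12060887, 126326926, 62768823, -78348347, -2460259, -6932265, -45834527, 5005414, 4758346, -170228, 130682, -169641, -930, 344, 18, -1])) (.node (.leaf [97360, -24384, 271457, 130050, -163551, -4579, -18270, -94019, 10345, 8734, -280, 197, -292, -4, -1]) (.leaf [-45989772, 5439232, -107068148, -44130980,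 58126956, 257216, 10981585, 29699958, -3158443, 24923, 59758, 219930, 50852, 13057, -7432, 151, 1])))) (.node (.node (.node (.leaf []) (.leaf [])) (.node (.leaf [-3590, 205, -7560, -2897, 3861, 10, 942, 1923, -115, -2, 3, 7, -3]) (.leaf [1329, -106, 2763, 1040, -1378, -8, -370, -696, 58, 0, 0, -2, 1]))) (.node (.node (.leaf []) (.leaf [24703, -4642, 64616, 29823, -38017, -838, -5031, -21164, 1869, 1850, -60, 27, -44, 0, 1])) (.node (.leaf []) (.leaf [109745, -29378, 304792, 144811, -180880, -6352, -21445, -105127, 13930, 8708, -428, 224, -441, -12, 5]))))) (.node (.node (.node (.node (.leaf []) (.leaf [-1671561, 445191, -4785700, -2327574, 2914884, 89258, 292685, 1689276, -195803, -155123, 6300, -3291, 6417, 160, -78, 1])) (.node (.leaf [100396457, -27458700, 284829279, 137298746, -171971365, -5186029, -18542741, -99686143, 12242127, 8796940, -339784, 210530, -379429, -8875, 774, -76, -1]) (.leaf [5851523, -1534460, 22324158, 13291069, -16323497, -677633, 241792, -9937345, 86201, 2061843, -67577, 68352, -21369,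 5467, -1192, 51]))) (.node (.node (.leaf []) (.leaf [-145994, 36076, -405065, -193112, 243393, 6881, 28136, 139113, -15230, -13188, 572, -463, 468, -15, 2])) (.node (.leaf []) (.leaf [-1539, 147, -3937, -1804, 2354, 45, 295, 1227, -44, -123, 10, -1, 1])))) (.node (.node (.node (.leaf []) (.leaf [43596, -17818, 144755, 76452, -93308, -3740, -5209, -57543, 7631, 6564, -204, 216, -294, -4, 1])) (.node (.leaf [-7353, 1863, -20389, -9739, 12220, 358, 1409, 7062, -800, -657, 22, -16, 23]) (.leaf [188035887, -27301357, 485844733, 223242047, -286880584, -5508043, -36355928, -156044688, 11102346, 12582881, -673952, -182008, -289598, -7901, 11662, 22, -1]))) (.node (.node (.leaf [-1682, 105, -4000, -1737, 2293, 27, 363, 1163, -27, -94, 7, 1]) (.leaf [359143858, -40410653, 845465344, 356993577, -467199222, -5501463, -84148789, -242497852, 19920872, 9634326, -835897, -845222, -257204, -46695, 27768, -64, 17])) (.node (.leaf [-5042, -477, -10072, -3934, 5291, 99, 1175, 2493, 236, -213, 39, 25, -11, 0, 1]) (.leaf [199655431,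 -40695100, 526990985, 243047304, -309013526, -7494184, -40743789, -172647075, 18185035, 13301360, -624986, 121134, -485021, -15839, 5276, 25, 3])))))) (.node (.node (.node (.node (.node (.leaf []) (.leaf [-63, 14, -172, -80, 105, -1, 13, 56, -4, -5])) (.node (.leaf [-801, 13, -1855, -792, 1052, 7, 159, 524, -5, -22, 3, 3]) (.leaf [74404969, -21591140, 203335760, 93421147, -117746379, -2711895, -15704176, -67244305, 11265994, 2486631, -99028, -107240, -321980, -26148, 9712, -491, -1]))) (.node (.node (.leaf []) (.leaf [-123494487, 24737071, -328368722, -153327821, 194402447, 5336761, 24706544, 109323629, -10243040, -10287691, 443016, -228920, 266455, -387, 2762, -223, -9])) (.node (.leaf [200766232, -35847938, 519133619, 236366331, -302208280, -6557128, -41328230, -166413794, 16232351, 11770286, -624076, -92896, -418713, -19714, 11398, -62, 1]) (.leaf [-270883419, 91777782, -834559690, -422692973, 523097892, 18262643, 41466522, 312255911, -39515193, -32493664, 1096813, -1047780, 1383109, 15701, 1066, 306, 13]))))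 (.node (.node (.node (.leaf []) (.leaf [-72236, 19362, -204494, -98963, 123752, 3819, 13222, 72053, -8362, -6835, 204, -141, 246, 2, 3])) (.node (.leaf []) (.leaf [-560972477, 96759852, -1444086090, -656769899, 840241244, 18588175, 116028639, 461938991, -42866296, -34436602, 1857476, 35114, 1086037, 40807, -24830, -385, -5]))) (.node (.node (.leaf [-11482, 1419, -28188, -12308, 16189, 67, 2519, 8383, -517, -497, 22, 1, -2, 0, 1]) (.leaf [-1954661, 485606, -5440502, -2598501, 3268504, 92573, 365185, 1875302, -214543, -162214, 6040, -2593, 6338, 200, -56, 1])) (.node (.leaf [73593, -15963, 205215, 99209, -125229, -3368, -12839, -71357, 6207, 7350, -312, 188, -179, 2, -3]) (.leaf [2666, -169, 6548, 2904, -3845, -31, -531, -1939, 38, 153, -14, 0, -1]))))) (.node (.node (.node (.node (.leaf []) (.leaf [])) (.node (.leaf []) (.leaf [-2116637, 628335, -6210916, -3069023, 3816699, 134382, 366060, 2248872, -269118, -235202, 9244, -8418, 9011, 41, 30, -2]))) (.node (.node (.leaf [1659, -59, 3589, 1435, -1892, -34, -404,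 -954, 40, 34, -8, -3]) (.leaf [156803511, -33673208, 412458603, 188569894, -239813496, -5516269, -32823554, -133932590, 15835706, 8725800, -389540, -17479, -405539, -23592, 6028, -218, 3])) (.node (.leaf [0, 0, -1, 0, 1]) (.leaf [-1145305, 237034, -3180206, -1541120, 1943707, 57013, 200887, 1107901, -88057, -125041, 5384, -3267, 2802, -136, 38, -3])))) (.node (.node (.node (.leaf [11648247, -643546, 26363292, 10855714, -14442751, -76641, -2714461, -7170115, 318766, 232441, -29468, -47950, 2818, -1487, 1120, -9, 1]) (.leaf [-47393, 21808, -161686, -85562, 103448, 5192, 5457, 64753, -10547, -6434, 335, -288, 439, 12, -3])) (.node (.leaf []) (.leaf [-377598, 125008, -970732, -417494, 522663, 15204, 100152, 302983, -70251, -1036, -120, -20, 1630, 201, -12, 1]))) (.node (.node (.leaf []) (.leaf [142837692, -39895217, 417332212, 206105029, -257414552, -8078595, -23973483, -150362473, 16649975, 15458579, -546033, 428922, -546608, -1081, -1934, -13, -5])) (.node (.leaf [-187945, 25294, -449117, -194255, 248899, 5813,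 43114, 136017, -12312, -8265, 708, 52, 279, 12, -8, -1]) (.leaf [-76861904, 15268177, -273969209, -157824373, 195647188, 7171803, -1044523, 116176816, -1065646, -21472639, 880924, -439912, 286756, -45856, -2220, -402, 13])))))))

def twoL184 : Janko.Tree (List ℤ) :=
  (.node (.node (.node (.node (.node (.node (.leaf []) (.leaf [-8, 2, -28, -15, 20, 1, 1, 9, 0, -2])) (.node (.leaf [439937, -14485, 1037368, 456739, -600652, -10276, -92486, -307304, -3584, 35701, -2476, 464, 317, 104, -34, 3]) (.leaf [32554237, -6644369, 88750704, 42131526, -53384369, -1381244, -5984530, -30067897, 2781900, 2742071, -127652, 29022, -85407, -1164, 1198, 13]))) (.node (.node (.leaf []) (.leaf [1])) (.node (.leaf []) (.leaf [-86655, 19644, -235128, -110546, 140017, 3394, 17021, 79187, -8304, -6836, 244, -148, 214, 3])))) (.node (.node (.node (.leaf []) (.leaf [39545, -8196, 104484, 48192, -61328, -1383, -8062, -34289, 3555, 2632, -96, 57, -83, 0, -1])) (.node (.leaf [-6332048, 5289205, -36845094, -24702516, 29038609, 1976910, -1648332,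 19495272, -1215705, -4683685, 145592, -270419, 85924, -11869, 6445, -182, 1]) (.leaf [1]))) (.node (.node (.leaf []) (.leaf [1])) (.node (.leaf []) (.leaf [10766020, -1850585, 30388497, 15185131, -19084963, -677806, -1655911, -10946258, 485531, 1617996, -74266, 55205, -20568, 3304, -1031, 85]))))) (.node (.node (.node (.node (.leaf [135, 311, 1113, 923, -1243, -22, 207, -577, -265, 306, -34, 0, 1, 0, 1]) (.leaf [-239, -3543, 7486, 5647, -6000, -528, 584, -5033, 1661, 649, 20, 64, -70, -2, 1])) (.node (.leaf [-687, 1177, -7026, -4947, 5914, 329, -589, 3808, -387, -763, 41, -39, 27, -1]) (.leaf [-201730139, 15680740, -451231286, -181675985, 241497659, 1274269, 50015719, 120254482, -8703003, -1793662, 400941, 732500, 15338, 33117, -18830, 116, -17]))) (.node (.node (.leaf []) (.leaf [1])) (.node (.leaf [-47627585, 15728174, -135169790, -64347029, 79967269, 2696891, 9853397, 47270422, -7410890, -3689965, 94450, -155966, 207320, 8126, 1176, 43, -3]) (.leaf [-132254, 22009, -355619, -169752, 215803, 5550, 23783, 120737,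 -7313, -13720, 558, -267, 186, -18, 9])))) (.node (.node (.node (.leaf []) (.leaf [1051660, -689998, 4473594, 2651884, -3177969, -138198, -4416, -2066421, 226320, 349960, -984, 18216, -8287, 573, -292, 3])) (.node (.leaf [6934901, 3639479, 7459086, 463574, -2382835, 826699, -1882177, 1126490, -1704566, -813767, -5812, -154586, 70203, -513, 3664, -13, -1]) (.leaf [4134, -1383, 14584, 7972, -9950, -330, -277, -5811, 471, 831, -49, 31, -25, 1]))) (.node (.node (.leaf [1]) (.leaf [1605, -268, 3670, 1496, -1943, -21, -426, -1042, 124, 27, 9, -2, 1])) (.node (.leaf [338866630, -67772903, 899987535, 417554925, -530984676, -12517010, -67057928, -296527680, 30066475, 23017946, -1071602, 39654, -827989, -30236, 15518, -136, 1]) (.leaf [1255324, -276561, 3411363, 1607870, -2030309, -56023, -238961, -1151571, 125457, 93644, -4320, 123, -3735, -153, 78, -1])))))) (.node (.node (.node (.node (.node (.leaf [1]) (.leaf [15178096, -3970999, 42355142, 20218862, -25381191, -744118, -2898252, -14638530, 1763952, 1271233, -46738,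 30648, -52093, -1256, 127, -1])) (.node (.leaf [1]) (.leaf [1]))) (.node (.node (.leaf []) (.leaf [90253106, -10282464, 219493070, 95651870, -124697167, -1475406, -19441017, -65393977, 4791845, 3255925, -244512, -260598, -89214, -11629, 8885, -80, -1])) (.node (.leaf [-171070, 39375, -462651, -217358, 274456, 7146, 33942, 156279, -16895, -13531, 412, -222, 414, 7, 3]) (.leaf [1])))) (.node (.node (.node (.leaf []) (.leaf [12701391, -2438112, 27006436, 9351486, -12554528, 130981, -3957396, -6086928, 1841924, -1200112, 25698, -100854, -32458, -9566, 3142, -119])) (.node (.leaf []) (.leaf [12159680, -1370282, 31363548, 14556566, -18779334, -337802, -2220011, -10119585, 435228, 968933, -50597, -10212, -10936, 500, 615, 19]))) (.node (.node (.leaf [1]) (.leaf [])) (.node (.leaf [63773015, -10225278, 169071121, 79414413, -101338539, -2435363, -11799533, -56050288, 3931174, 5404817, -276116, 29210, -116150, 912, 1670, 97, 1]) (.leaf [-596, 43, -1716, -863, 1117, 32, 72, 590, 0, -88, 8, -2, 1]))))) (.node (.node (.node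 (.node (.leaf [-3, 0, -6, -2, 2, 0, 1, 2]) (.leaf [1])) (.node (.leaf [72790, -24153, 223722, 113504, -140409, -4793, -10925, -83958, 10258, 8842, -289, 262, -360, -3, 1]) (.leaf []))) (.node (.node (.leaf []) (.leaf [22134, -5727, 62278, 29906, -37703, -958, -4129, -21588, 2392, 1978, -56, 50, -65, 1])) (.node (.leaf [1]) (.leaf [-93, 18, -226, -91, 126, 3, 34, 55, -5, -11])))) (.node (.node (.node (.leaf [14601, -3693, 40501, 19324, -24299, -691, -2820, -13971, 1568, 1309, -42, 34, -45]) (.leaf [392, -52, 994, 439, -593, 12, -85, -292, 10, 19, 0, 0, 1])) (.node (.leaf [1]) (.leaf [-1516392, 417594, -4264773, -2037201, 2552470, 78619, 290572, 1476727, -192663, -121703, 5480, -3052, 6064, 194, -52, 1]))) (.node (.node (.leaf [-74835, 19597, -265766, -150326, 184981, 8686, 1640, 111049, -5152, -19401, 1296, -836, 511, -39, -4, -1]) (.leaf [-22017351, 5793613, -61192273, -28969040, 36448157, 968575, 4218238, 20903695, -2719470, -1489490, 49021, -3124, 78094, 4246, -1860, 75, -1])) (.node (.leaf [19625337, -6368308,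 67427220, 37040829, -45630017, -1725785, -1307548, -27544627, 2049154, 4139808, -147378, 127952, -102250, 5299, -1488, 58, -3]) (.leaf [-2093, 256, -4628, -1812, 2396, 28, 577, 1209, -144, -7, 0, 6, -1])))))))

def twoL185 : Janko.Tree (List ℤ) :=
  (.node (.node (.node (.node (.node (.node (.leaf []) (.leaf [0, 1])) (.node (.leaf []) (.leaf [1220, -351, 3585, 1765, -2241, -47, -222, -1271, 119, 149, 1, 6, -1]))) (.node (.node (.leaf [-654, 14, -1523, -654, 871, -2, 130, 436, 2, -24, 4]) (.leaf [34464394, 1656163, 75587200, 31222445, -42427411, 115022, -7182636, -19861422, -1107410, 1075513, -150838, -197371, 54078, -116, 5202, 59, -1])) (.node (.leaf [0, 1]) (.leaf [-109860, 25120, -299016, -140914, 178337, 4440, 21463, 101025, -10618, -8851, 321, -198, 281, 3])))) (.node (.node (.node (.leaf [0, 1]) (.leaf [0, 1])) (.node (.leaf []) (.leaf [13, -2, 30, 13, -15, 0, -3, -10, 2, 0, 0, -1]))) (.node (.node (.leaf []) (.leaf [-7, 0, -12, -4, 4, 1, 2, 3])) (.node (.leaf [1402, -34, 3206, 1349, -1790, -16, -295, -894,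 16, 38, -8, -2]) (.leaf [0, 1]))))) (.node (.node (.node (.node (.leaf [0, 1]) (.leaf [0, 1])) (.node (.leaf [0, 1]) (.leaf [-98561011, 37201395, -321876310, -169002582, 207650953, 7864045, 12339394, 126186995, -15113958, -15200508, 449729, -554336, 564863, -3898, 3636, 57, 7]))) (.node (.node (.leaf [0, 1]) (.leaf [-1388, 214, -3261, -1367, 1776, 37, 363, 939, -95, -62, 2, -1])) (.node (.leaf [-5356637, 553064, -12086600, -4879900, 6449899, 48088, 1360014, 3265539, -295021, -55194, 6176, 15842, 938, 892, -448, 7, -1]) (.leaf [1406, -151, 3574, 1643, -2119, -31, -248, -1152, 50, 88, -4, 1, 0, 1])))) (.node (.node (.node (.leaf [0, 1]) (.leaf [6218, -1721, 17629, 8532, -10654, -333, -1157, -6228, 741, 600, -19, 16, -22])) (.node (.leaf [0, 1]) (.leaf [3701, -1469, 13639, 7568, -9390, -345, -223, -5560, 518, 825, -43, 32, -25, 1]))) (.node (.node (.leaf []) (.leaf [-192253, 49856, -546198, -264656, 333573, 8548, 34945, 191236, -19845, -19092, 446, -531, 530, -2, 9])) (.node (.leaf []) (.leaf [0, 1])))))) (.node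 (.node (.node (.node (.node (.leaf [-1, 0, 0, 0, -1, 1]) (.leaf [])) (.node (.leaf []) (.leaf [20996, -14560, 84707, 48603, -56943, -4311, -1836, -38016, 6416, 6204, -288, 359, -320, 6, 7]))) (.node (.node (.leaf [0, 1]) (.leaf [0, 1])) (.node (.leaf [0, 1]) (.leaf [13640, -5004, 41430, 20700, -25546, -863, -2363, -15392, 2190, 1502, -24, 50, -66, -3])))) (.node (.node (.node (.leaf [0, 1]) (.leaf [11579331, -1215094, 29738339, 13780811, -17805650, -309288, -2108770, -9558035, 365334, 921206, -48548, -11439, -8773, 556, 618, 19])) (.node (.leaf [-63, -7, -147, -63, 90, -2, 11, 37, 5, -3, 1]) (.leaf [59, 6, 133, 53, -78, 2, -13, -29, -3, 1, -1]))) (.node (.node (.leaf []) (.leaf [])) (.node (.leaf [64017085, -10318752, 170117245, 80059562, -102121010, -2475246, -11776481, -56538710, 3946704, 5509189, -280540, 33526, -117957, 1177, 1643, 99, 1]) (.leaf [0, 1]))))) (.node (.node (.node (.node (.leaf []) (.leaf [])) (.node (.leaf [-61546782, 10935535, -164454504, -77463741, 98674179, 2322947, 11547555, 54931643,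 -4165737, -5374837, 236271, -70878, 115236, -3165, 950, -93, 1]) (.leaf [0, 1]))) (.node (.node (.leaf []) (.leaf [-10091042, -7213931, -7454310, 1631280, 1101560, -1391293, 2861963, -3784731, 3495990, 1209107, 33418, 240961, -135456, -1363, -4572, -21])) (.node (.leaf [751, -57, 1746, 743, -970, -12, -162, -509, 24, 23, -1]) (.leaf [114094, -14741, 265456, 110519, -145264, -1051, -28647, -75186, 6179, 3567, 14, -78, 18, 2, -11])))) (.node (.node (.node (.leaf []) (.leaf [251802808, -41451626, 634918140, 282905755, -363869251, -6742310, -54140256, -197447411, 19531989, 11531999, -673346, -320363, -449219, -34647, 17387, -185, 7])) (.node (.leaf [-781, 70, -1836, -784, 1025, 13, 172, 536, -28, -28, 1]) (.leaf [0, 1]))) (.node (.node (.leaf []) (.leaf [-667657, 151873, -1588325, -654538, 834306, 20644, 180655, 461708, -86823, -2648, 393, 678, 1656, 218, -10, 1])) (.node (.leaf [2261, -205, 4682, 1753, -2265, -73, -624, -1198, 160, -27, -4, -3, -1]) (.leaf [-266116498, 79899232, -714707324, -325256771, 407946013,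 11943607, 61317142, 235768307, -40107294, -12522249, 403048, -474167, 1035844, 63806, -20, 443, -11])))))))

def twoL186 : Janko.Tree (List ℤ) :=
  (.node (.node (.node (.node (.node (.node (.leaf [0, 0, 1]) (.leaf [647, -103, 1548, 651, -856, -11, -172, -440, 43, 31, -1])) (.node (.leaf [0, 0, 1]) (.leaf [-542227, 112287, -1436697, -667358, 846891, 21031, 110402, 476380, -46685, -42125, 1409, -900, 1108, -8, 26, -1]))) (.node (.node (.leaf []) (.leaf [-12380886, 1445538, -30156895, -13220102, 17171975, 282597, 2711144, 9084217, -610300, -626892, 46994, 6706, 12306, 399, -154, -42, 1])) (.node (.leaf [3593, -203, 7566, 2905, -3867, -10, -939, -1932, 114, 4, -3, -8, 3]) (.leaf [2363653, -533208, 6516499, 3109256, -3924811, -107425, -438558, -2233391, 223298, 209388, -8998, 4723, -6821, -11, 8, 3])))) (.node (.node (.node (.leaf []) (.leaf [10070076, -1215676, 26763494, 12741106, -16355498, -333616, -1689960, -8923933, 343607, 969021, -43806, -4851, -10519, 848, 439, 12, 1])) (.node (.leaf [-1, 0, 1]) (.leaf [-367,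 31, -947, -428, 581, -16, 64, 284, 0, -14, 0, 0, -1]))) (.node (.node (.leaf []) (.leaf [])) (.node (.leaf []) (.leaf [-147, 6, -372, -163, 226, -2, 33, 101, 2, -11, 1]))))) (.node (.node (.node (.node (.leaf []) (.leaf [-6829, 676, -16244, -6964, 9157, 89, 1547, 4716, -258, -287, 20, -1, 1])) (.node (.leaf []) (.leaf [-187870114, 5491314, -388674206, -144278881, 196967239, -940605, 50406159, 91109339, -4738953, 2630278, 309705, 938106, -156495, 36101, -21130, 73, -21]))) (.node (.node (.leaf [75, -18, 201, 91, -120, 1, -17, -63, 6, 5]) (.leaf [527, 17, 1339, 595, -847, 49, -72, -370, -37, 5, 0, 1, 1])) (.node (.leaf []) (.leaf [0, 0, 1])))) (.node (.node (.node (.leaf []) (.leaf [3031022, -738459, 8082060, 3706981, -4689447, -116940, -639763, -2652759, 360474, 157043, -7080, 518, -9848, -603, 192, -5])) (.node (.leaf [7498195, -12532363, 43280474, 26383951, -29708841, -2448183, -451827, -21946786, 5733106, 3119723, -34180, 339972, -204566, -316, -6224, 42, -1]) (.leaf [23895379, -4330844, 60026431, 26470681,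 -33928533, -743047, -5342255, -18516082, 2224340, 880825, -73704, -27215, -57762, -5389, 1990, 5]))) (.node (.node (.leaf [-44, 7, -116, -53, 70, 0, 9, 36, -2, -3]) (.leaf [3, 24, -225, -182, 228, 9, -31, 129, 0, -43, 7, -2, 1])) (.node (.leaf [5513291, -588562, 12446949, 5023172, -6629775, -55183, -1404233, -3367153, 319276, 52089, -6773, -16346, -1596, -961, 472, -8, 1]) (.leaf [-2761315, 633550, -7244449, -3288871, 4170475, 104166, 596820, 2343033, -312026, -135568, 7019, -94, 8331, 542, -140, 3])))))) (.node (.node (.node (.node (.node (.leaf []) (.leaf [0, 0, 1])) (.node (.leaf [-4, 0, -8, -3, 4, 0, 1, 2]) (.leaf [-677, 59, -1932, -962, 1249, 32, 91, 656, -4, -96, 8, -2, 1]))) (.node (.node (.leaf [178, -42, 438, 184, -242, -4, -53, -125, 17, 11, 1]) (.leaf [-71052370, 9839768, -176092940, -77319403, 100298074, 1305025, 15101176, 53230716, -4975422, -2140822, 178098, 247745, 115961, 15030, -10494, 212, 1])) (.node (.leaf []) (.leaf [-10170, 540, -23958, -10334, 13645, 193, 2206, 6901, -149, -546, 55, 0,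 1, -3])))) (.node (.node (.node (.leaf []) (.leaf [0, 0, 1])) (.node (.leaf [-97233808, 23529577, -265667020, -124713596, 157512521, 4044217, 19048643, 89481627, -10861477, -6606632, 271566, -45121, 308930, 14270, -3103, 176, 1]) (.leaf [0, 0, 1]))) (.node (.node (.leaf []) (.leaf [15350182, -517829, 20404577, 1600905, -3895583, 791881, -6737370, 371464, 1295437, -2802059, 96351, -147289, 33548, -10756, 2771, -86, 5])) (.node (.leaf [-47684305, 16663786, -131967276, -60677143, 75641736, 2181413, 10882241, 44428436, -8551730, -1899308, 36970, -74032, 234795, 15629, -1632, 159, 3]) (.leaf [-3728, 312, -9025, -3969, 5182, 90, 789, 2699, -116, -215, 22, 0, 1]))))) (.node (.node (.node (.node (.leaf [0, 0, 1]) (.leaf [-3, 0, -3, -1, 1, 0, 1, 1])) (.node (.leaf [0, 0, 1]) (.leaf [-1765047, 480757, -4918767, -2332969, 2926749, 87384, 345947, 1689007, -223360, -132955, 5802, -3384, 6789, 229, -46, 1]))) (.node (.node (.leaf [0, 0, 1]) (.leaf [0, 0, 1])) (.node (.leaf [15, -10, 56, 29, -37, 0, -3, -21, 4, 2]) (.leaf [100344,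 -8405, 218948, 85854, -115320, 207, -26899, -56466, 3466, 1386, 68, -176, 126, 6, -15])))) (.node (.node (.node (.leaf [15052, -3731, 41374, 19608, -24707, -665, -2962, -14147, 1582, 1283, -36, 32, -43]) (.leaf [406, -55, 1023, 449, -604, 12, -89, -301, 12, 18, 0, 0, 1])) (.node (.leaf [-4123, 554, -10382, -4661, 6024, 142, 870, 3219, -228, -269, 18, -6, 5]) (.leaf [-4041042, 944048, -11371663, -5509024, 6937470, 197711, 711336, 3970465, -383971, -400694, 16540, -9249, 12323, -72, -12, -3]))) (.node (.node (.leaf [3590, -1395, 12179, 6504, -7954, -378, -379, -4846, 608, 607, -38, 26, -25, -1]) (.leaf [0, 0, 1])) (.node (.leaf [13626708, -3678444, 47468162, 26621357, -32897366, -1252173, -502800, -19699092, 847872, 3360576, -133306, 102720, -61199, 6589, -1706, 83, -3]) (.leaf [-2435, 184, -5235, -2043, 2705, 26, 643, 1362, -102, -21, 2, 6, -1])))))))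

def twoL187 : Janko.Tree (List ℤ) :=
  (.node (.node (.node (.node (.node (.node (.leaf []) (.leaf [])) (.node (.leaf [996, -109, 2182, 853, -1114, -27, -268, -576, 72, 1, -4, 0, -1, 1]) (.leaf [-523, -29, -1188, -519, 687, 9, 94, 345, 23, -35, 5]))) (.node (.node (.leaf []) (.leaf [-6546568, 1049989, -17449994, -8245028, 10510366, 262205, 1196117, 5828807, -385849, -600250, 31506, -7715, 12364, -517, -89, -15])) (.node (.leaf []) (.leaf [1, 0, 3, 2, -2, 0, 0, -1])))) (.node (.node (.node (.leaf []) (.leaf [16868319, -648012, 50000212, 26796273, -34005152, -1140853, -1242126, -19024941, -949341, 3882256, -184494, 87953, 1913, 12039, -1855, 170, 1])) (.node (.leaf [1, 0, 0, 0, 1, 0, 0, -1]) (.leaf [-924, 78, -2174, -935, 1214, 31, 209, 637, -37, -47, 4, 1, 1]))) (.node (.node (.leaf []) (.leaf [-43626, 17861, -145256, -76814, 93782, 3735, 5146, 57795, -7626, -6615, 207, -218, 295, 4, -1])) (.node (.leaf [896, 18, 1970, 802, -1077, -9, -196, -514, -1, 16, -9, -3]) (.leaf [-240320, 71313, -670256, -316785, 396064,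 11599, 48754, 231061, -33300, -17058, 446, -535, 922, 35, 1]))))) (.node (.node (.node (.node (.leaf [98372, -24495, 273978, 131174, -165033, -4579, -18481, -94784, 10372, 8796, -283, 197, -292, -4, -1]) (.leaf [51573813, -10778669, 136579176, 63420677, -80228702, -2338829, -10597090, -45325177, 4669660, 4080006, -193998, 106449, -127489, -454, 328, 101, 3])) (.node (.leaf [1500, -213, 3791, 1688, -2232, 5, -330, -1146, 59, 91, 0, -1, 1]) (.leaf [-23, -2, -46, -19, 25, -1, 3, 14, 1, 1]))) (.node (.node (.leaf []) (.leaf [-1365331, 338940, -3583426, -1606130, 2042032, 39540, 299566, 1142153, -178460, -33717, 1096, 2870, 4582, 480, -182, 7])) (.node (.leaf [118, -21, 312, 143, -189, 0, -25, -97, 6, 9]) (.leaf [-90, 14, -240, -113, 145, 1, 15, 80, -4, -7, 0, 0, 0, 1])))) (.node (.node (.node (.leaf []) (.leaf [-507, 63, -1183, -497, 636, 27, 128, 342, -39, -22, 4, 0, 1])) (.node (.leaf [-1196, 135, -2217, -723, 913, 50, 405, 504, -111, 24, 2, 4]) (.leaf [-154585799, 43980668, -439095535, -212028541, 264682926, 8853608,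 29418420, 154634848, -19257356, -14908564, 559992, -564446, 586449, 4856, 5810, -156, -5]))) (.node (.node (.leaf [-409582732, 137953908, -1217168774, -600477389, 744133502, 25936449, 73066795, 442751959, -61856190, -41639222, 1300069, -1556486, 1959981, 40302, 6837, 431, -7]) (.leaf [115, -43, 308, 137, -174, -5, -36, -98, 17, 12, 1])) (.node (.leaf [-6, -2, 1, 5, -7, 1, 3, -3, 0, 1]) (.leaf [-2114, -137, -4470, -1786, 2481, -96, 435, 1138, 119, -20, 4, 7, -7])))))) (.node (.node (.node (.node (.node (.leaf []) (.leaf [-324661020, 99304156, -933937422, -451290326, 562887514, 17690264, 60928457, 329726435, -45577432, -27519040, 916432, -766042, 1387563, 45984, -4709, 564, -5])) (.node (.leaf [-74025839, 13189414, -188393365, -84138691, 108081930, 1859570, 15791575, 58887780, -6405456, -2977334, 165794, 133254, 155114, 13528, -7042, 135, 1]) (.leaf [-265, 159, -676, -250, 346, -65, 90, 189, -67, 51, -8, 3, -1]))) (.node (.node (.leaf [1150, -180, 2682, 1108, -1439, -35, -307, -757, 93, 37, -3, 0, -1]) (.leaf [14417,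 -2891, 39977, 19116, -24663, -45, -2436, -13565, 866, 1157, -3, 29, -7, -2, 1])) (.node (.leaf []) (.leaf [-9738, 485, -22857, -9830, 12989, 191, 2123, 6551, -134, -517, 54, 0, 1, -3])))) (.node (.node (.node (.leaf []) (.leaf [-259389, 75980, -722868, -341795, 427539, 12679, 52598, 249011, -35311, -18925, 546, -593, 986, 37, -2])) (.node (.leaf [10, -3, 41, 23, -30, 0, -1, -15, 0, 3]) (.leaf [-1, -1, -1, 0, 0, 1]))) (.node (.node (.leaf []) (.leaf [2576, -188, 5912, 2460, -3263, -22, -610, -1638, 78, 80, -9, -4, 1])) (.node (.leaf [2, 0, 2, 1, -1, 0, 0, -1]) (.leaf [-99927, 25373, -278636, -133312, 167622, 4776, 18930, 96377, -10865, -8869, 289, -219, 307, 4, 1]))))) (.node (.node (.node (.node (.leaf []) (.leaf [])) (.node (.leaf [-5067069, 489561, -11188826, -4408454, 5857595, 30269, 1327612, 2923465, -280932, -1455, 4324, 17774, 228, 1014, -472, 9, -1]) (.leaf [-1382, 100, -2930, -1133, 1499, 7, 360, 765, -50, -4, -2, 1, -1]))) (.node (.node (.leaf [0, 0, 0, 0, 1]) (.leaf [126955619, -36998610, 381099698,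 191932513, -238663617, -8256806, -19675482, -140755603, 14964310, 16051317, -612478, 521506, -533896, 5500, -4408, 140, -5])) (.node (.leaf []) (.leaf [116980, -12125, 264135, 107115, -142304, -406, -30146, -71669, 4994, 2722, 20, -138, 83, 4, -13])))) (.node (.node (.node (.leaf []) (.leaf [13078512, -5829675, 42570473, 22081392, -26886028, -1142555, -2032285, -16704996, 2503042, 1923788, -39158, 102760, -82247, -121, -1304, 9])) (.node (.leaf []) (.leaf [13465247, -5025641, 41356513, 20805201, -25596321, -993028, -2287260, -15492629, 2220125, 1601949, -48566, 74027, -73334, -791, -560, 3]))) (.node (.node (.leaf [6903, -1817, 19282, 9249, -11575, -358, -1318, -6726, 788, 635, -22, 16, -23]) (.leaf [159315674, -43070246, 461662780, 226909336, -283901492, -8668451, -27041415, -165113744, 18024482, 16634135, -597264, 418464, -585827, -2706, -466, -40, -3])) (.node (.leaf []) (.leaf [-212292, 50107, -595441, -288280, 362478, 10311, 37682, 208431, -20224, -21112, 723, -449, 579, -2, 7])))))))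

def twoL188 : Janko.Tree (List ℤ) :=
  (.node (.node (.node (.node (.node (.node (.leaf []) (.leaf [213791, -50217, 574208, 267573, -338482, -8203, -43870, -192177, 21589, 15865, -386, 331, -506, -15, -3])) (.node (.leaf [-2280, 76, -5078, -2105, 2760, 36, 493, 1424, -44, -44, 4, 6]) (.leaf [-743362, 155210, -1971424, -916103, 1160529, 31548, 151942, 654113, -66410, -58166, 2360, -1100, 1669, 22, 20, -1]))) (.node (.node (.leaf [47, -9, 140, 71, -90, -2, -5, -51, 3, 5]) (.leaf [])) (.node (.leaf [-3750, 465, -8182, -3225, 4250, -18, 1025, 2210, -192, -49, -16, 10, -2, -1]) (.leaf [-306638, 68423, -840050, -397405, 502839, 13427, 58275, 284006, -30089, -24561, 1408, -466, 991, 16, 7])))) (.node (.node (.node (.leaf [-1, -2, -1, 0, 0, 0, 0, 0, 1]) (.leaf [-1107, 121, -2985, -1418, 1845, 25, 182, 974, -31, -101, 9, -1, 1])) (.node (.leaf [1]) (.leaf [1]))) (.node (.node (.leaf [1]) (.leaf [216275976, -47583534, 521300774, 216640043, -279054379, -4235957, -56699373, -151240329, 26208047, 531260, -23052, -303353,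 -496634, -66368, 11101, -631, 11])) (.node (.leaf [3654, -249, 7716, 2846, -3914, 46, -982, -1807, 154, -125, 14, -7, 7, 0, -1]) (.leaf [1828825, -256077, 5149830, 2570136, -3258554, -96234, -260218, -1830514, 56088, 258181, -14204, 6944, -3525, 591, -6, 11]))))) (.node (.node (.node (.node (.leaf [2295, -147, 5058, 2042, -2679, -46, -565, -1372, 90, 44, -10, -6, 1]) (.leaf [])) (.node (.leaf []) (.leaf [-3, 0, -8, -3, 4, 0, 1, 2]))) (.node (.node (.leaf [1]) (.leaf [-4801723, 438104, -10489689, -4084959, 5444665, 22101, 1274069, 2693932, -260340, 18041, 3744, 18045, -188, 1015, -482, 9, -1])) (.node (.leaf [-59700, 15560, -156815, -70664, 89517, 2028, 13569, 50713, -7473, -2669, 44, -116, 169, 8, 1]) (.leaf [1])))) (.node (.node (.node (.leaf [4, 5, 6, 3, -4, 0, 2, -2, -2, -1]) (.leaf [27535, -6542, 75352, 35590, -45051, -1066, -5406, -25547, 2720, 2266, -64, 48, -66, 1])) (.node (.leaf [1]) (.leaf [1]))) (.node (.node (.leaf [-471061770, 124263494, -1280695248, -596465283, 750650834, 21181432, 98428643, 430294099,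 -58080468, -31548425, 1183171, -838581, 1580652, 63847, -2809, 237, -15]) (.leaf [67, -9, 163, 71, -94, 0, -15, -48, 3, 3])) (.node (.leaf [1]) (.leaf [-9724269, 2188492, -25990520, -12022103, 15232626, 395470, 1988877, 8573734, -1025378, -614282, 33036, -7007, 29695, 1242, -340, 3])))))) (.node (.node (.node (.node (.node (.leaf []) (.leaf [249535, -59749, 668068, 310780, -392184, -9958, -51706, -223969, 26070, 18111, -260, 260, -534, -19, -5])) (.node (.leaf []) (.leaf [187, 58, -22, -166, 205, -4, -107, 130, -2, -47, 0, -2, 1]))) (.node (.node (.leaf []) (.leaf [-58653981, 3715435, -135028725, -56489427, 74874121, 410691, 13284024, 37596602, -1723434, -1426519, 151458, 228894, -2489, 6114, -5492, 31, -1])) (.node (.leaf [34378, -6196, 90608, 41979, -53658, -1208, -6828, -29608, 2526, 2600, -138, 46, -64, -1]) (.leaf [])))) (.node (.node (.node (.leaf [-17286, 4098, -45420, -20853, 26353, 610, 3772, 15027, -1760, -1200, 8, -22, 40, -1]) (.leaf [-51235, 15634, -148949, -72913, 90562, 3251, 9379, 53413, -7036,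 -5220, 198, -107, 227, 8, -1])) (.node (.leaf [1]) (.leaf [1]))) (.node (.node (.leaf [-10534, 897, -24170, -10008, 13269, 29, 2500, 6705, -386, -233, 22, 19, -4, 0, 1]) (.leaf [1])) (.node (.leaf [1]) (.leaf [19485139, -5538165, 56388615, 27626185, -34469396, -1128352, -3441513, -20169771, 2369768, 2020898, -72610, 63625, -75404, -677, -277, 11]))))) (.node (.node (.node (.node (.leaf [2, 2, 1, 0, 0, 0, 0, 0, -1]) (.leaf [1])) (.node (.leaf []) (.leaf [-19358, 4451, -51680, -23978, 30281, 901, 4038, 17180, -2008, -1426, 51, -31, 47, 2, 1]))) (.node (.node (.leaf [1]) (.leaf [1])) (.node (.leaf [41782124, -10351312, 117949714, 57146091, -71729184, -2170185, -7470202, -41361386, 4335724, 4108158, -162846, 102186, -136876, -466, 28, 31]) (.leaf [-42018563, 4636684, -115483536, -56476655, 72458241, 1376150, 5930427, 39590098, -1060639, -4510723, 234624, 48730, 59676, -5205, -3600, -22, 5])))) (.node (.node (.node (.leaf []) (.leaf [492, -33, 1240, 547, -751, 14, -101, -350, -2, 26, -2, 0, 1])) (.node (.leaf [])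 (.leaf [-2262, 94, -5225, -2249, 2913, 92, 501, 1526, -44, -147, 26, -2, 1, 1]))) (.node (.node (.leaf [45493, -12201, 119311, 53600, -67530, -2038, -10564, -38531, 6191, 1989, -72, 84, -154, -13, -1]) (.leaf [-318301, 106613, -660236, -210945, 267665, 6004, 119407, 148827, -75502, 36997, -1464, 1530, 1335, 300, -40, 3])) (.node (.leaf []) (.leaf [-1098, 261, -3229, -1619, 2051, 46, 170, 1169, -74, -152, 2, -6, 1, -1])))))))

def twoL189 : Janko.Tree (List ℤ) :=
  (.node (.node (.node (.node (.node (.node (.leaf []) (.leaf [296411, -67525, 818092, 388997, -491595, -13385, -55471, -278479, 29579, 24583, -1402, 491, -997, -16, -5])) (.node (.leaf [-27249, 4081, -67876, -30001, 39049, 488, 6102, 20690, -1556, -1534, 52, -22, 15, 0, 1]) (.leaf [385175, 344351, 608322, 275742, -453718, 27745, -14841, -113370, -227009, 92682, -5913, -2813, 6778, 760, -48, 11]))) (.node (.node (.leaf [0, 1]) (.leaf [-130863301, 12344582, -293854946, -119044315, 156932596, 1892104, 33344940, 79821961, -6244282, -2800225, 321270, 196691,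 23141, 11182, -3332, -287, -9])) (.node (.leaf []) (.leaf [-1927, 136, -4652, -2026, 2701, -16, 401, 1355, -25, -86, 7, 2, -1])))) (.node (.node (.node (.leaf []) (.leaf [167647, -35435, 446946, 208108, -263766, -6853, -33694, -148587, 15338, 12593, -489, 191, -374, -4, -5])) (.node (.leaf []) (.leaf [-2103364, 439326, -5992762, -2955186, 3730441, 101990, 335251, 2124479, -153732, -247735, 9748, -5483, 5308, -263, 24, -3]))) (.node (.node (.leaf []) (.leaf [0, 1])) (.node (.leaf [0, 1]) (.leaf [28012791, -6426683, 79426166, 38724822, -48734864, -1412154, -4717485, -27906877, 2626197, 2827336, -128101, 52129, -90549, -165, 790, 21, -1]))))) (.node (.node (.node (.node (.leaf []) (.leaf [-113549424, 18979618, -273566977, -116540835, 150561911, 2722815, 27700503, 80793479, -9523972, -3393939, 206106, 85534, 161917, 17236, -2878, 21, -11])) (.node (.leaf []) (.leaf [120431, -26519, 332172, 158879, -201001, -4831, -21983, -114086, 10519, 10932, -388, 222, -285, 2, -1]))) (.node (.node (.leaf []) (.leaf [0, 1])) (.node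 (.leaf [0, 1]) (.leaf [-23626, 5785, -66150, -31694, 40088, 975, 4383, 22763, -2383, -2098, 72, -53, 67, -1])))) (.node (.node (.node (.leaf []) (.leaf [72010406, -12241300, 181461313, 80415933, -103569393, -1654529, -15542336, -56055897, 6020843, 2600430, -156809, -153000, -141390, -13808, 7430, -138, -1])) (.node (.leaf []) (.leaf [-17001441, 1712065, -42330156, -19072779, 24757260, 390184, 3378731, 13127478, -598788, -1085751, 59356, 27263, 9905, -80, -1027, -10, -1]))) (.node (.node (.leaf [0, 1]) (.leaf [-358588, 68465, -968448, -460763, 583389, 16191, 66881, 329357, -25746, -35321, 1457, -750, 721, -26, 12, -1])) (.node (.leaf [86481, -33049, 268483, 135192, -165848, -7038, -14060, -100603, 15757, 9191, -404, 376, -572, -21, 5]) (.leaf [730243, 140150, 1130609, 288330, -474147, 27670, -229597, -115655, -69430, -21318, -1756, -4224, 4236, 130, 40, 3])))))) (.node (.node (.node (.node (.node (.leaf [0, 1]) (.leaf [186045, -42683, 491119, 226369, -286238, -6996, -39320, -162707, 18699, 12628, -122, 120, -332,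 -17, -5])) (.node (.leaf [0, 1]) (.leaf [220, -40, 535, 226, -297, -5, -60, -153, 17, 12]))) (.node (.node (.leaf [-206, 7, -550, -269, 350, -3, 18, 189, 5, -13]) (.leaf [11168163, -4117730, 36580555, 19339507, -23754160, -912819, -1342475, -14454112, 1591006, 1870388, -49468, 68553, -58921, 1322, -548, -4])) (.node (.leaf []) (.leaf [140492, -33150, 383125, 180971, -228258, -6001, -27452, -130343, 14175, 11457, -339, 187, -346, -9, -3])))) (.node (.node (.node (.leaf []) (.leaf [1472, -122, 3525, 1527, -2011, -16, -317, -1032, 42, 66, -6])) (.node (.leaf [140768, -36943, 450210, 241871, -299190, -10934, -13189, -179599, 9233, 28720, -556, 1079, -342, 61, -7, 1]) (.leaf [65805369, -4974675, 152555799, 63783527, -84401695, -453381, -14896363, -42531254, 2630674, 1101358, -169116, -293653, -25574, -11812, 8280, -97, -1]))) (.node (.node (.leaf [0, 1]) (.leaf [13469537, -4220611, 41773310, 21483632, -26620484, -914124, -1874034, -15867209, 1624023, 1930496, -53338, 60257, -56544, 995, -553, 5])) (.node (.leaf [52921,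 -8983, 134899, 61337, -78224, -1662, -10915, -43493, 3792, 3319, -62, -46, -36, -10, -3]) (.leaf [-192139, 88159, -523873, -250826, 290689, 29319, 58282, 199269, -37068, -38228, 1091, -4128, 577, -151, 192, -1]))))) (.node (.node (.node (.node (.leaf [0, 1]) (.leaf [149, -44, 365, 155, -196, -6, -45, -112, 20, 9, 1])) (.node (.leaf []) (.leaf [-3731, 2898, -16039, -9263, 10922, 744, 183, 7214, -1332, -980, 26, -52, 54, 3]))) (.node (.node (.leaf []) (.leaf [-220, 41, -535, -226, 297, 5, 60, 153, -17, -12])) (.node (.leaf [0, 1]) (.leaf [-79, 98, -134, -9, 7, 2, 61, 16, -50, 26, -14, 2, -1])))) (.node (.node (.node (.leaf [0, 1]) (.leaf [0, 1])) (.node (.leaf [988, -175, 2301, 954, -1237, -8, -266, -668, 74, 36, -2, 2]) (.leaf [43189, -8890, 111679, 50789, -64594, -1491, -9394, -36159, 3851, 2834, -81, 47, -84, -1, -1]))) (.node (.node (.leaf [0, 1]) (.leaf [])) (.node (.leaf [-160165294, 37721290, -432957641, -202313153, 255408975, 7031567, 32257390, 145156938, -17165826, -11501543, 504176, -202188, 482193, 15410,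 -2938, 48, -3]) (.leaf [-1021037195, 170009234, -2539923957, -1114276428, 1436663293, 24340221, 228142210, 775006860, -83689804, -36543308, 2315990, 1638218, 1819934, 173238, -78097, 1330, -25])))))))

def twoL190 : Janko.Tree (List ℤ) :=
  (.node (.node (.node (.node (.node (.node (.leaf []) (.leaf [])) (.node (.leaf [-36867, 4911, -89668, -38939, 50855, 600, 8465, 26686, -1937, -1775, 72, -10, 11, 0, 1]) (.leaf [3624, -333, 8190, 3325, -4424, 18, -881, -2233, 146, 32, -2, -4, 3]))) (.node (.node (.leaf [-345, 36, -862, -385, 512, -1, 73, 258, -7, -23, 1]) (.leaf [-5875889, -2471639, 5547921, 10594413, -11307790, -1189894, 4646467, -9387404, -51536, 3597383, -65629, 178518, -52319, 11022, -3147, 57, -1])) (.node (.leaf [-1880, 1610, -9096, -5479, 6564, 334, -31, 4226, -622, -691, 14, -32, 27, -1]) (.leaf [0, 0, 1])))) (.node (.node (.node (.leaf [0, 0, 1]) (.leaf [0, 0, 1])) (.node (.leaf [-6, 0, -8, -2, 2, 0, 2, 2]) (.leaf [-286779336, 25433231, -692047642, -302273936, 395527622, 4493374, 60440572, 205375744,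 -10531706, -12378074, 901538, 812062, 140073, 21089, -26218, 47, -3]))) (.node (.node (.leaf [31144812, -6506549, 78936360, 34853099, -44576376, -886398, -7134583, -24569316, 3229040, 1130856, -44734, -20290, -70362, -6475, 2234, -50, 3]) (.leaf [54509, -12173, 153751, 74618, -94348, -2548, -9498, -53526, 4665, 5742, -326, 241, -178, 12, -1])) (.node (.leaf [-125, 57, -324, -133, 175, 2, 53, 90, -24, -12]) (.leaf [-89538548, 189303, -140626800, -27958621, 46897893, -4822900, 32977807, 10623063, -5225668, 13802429, -358648, 1096952, -151490, 62492, -21720, 837, -11]))))) (.node (.node (.node (.node (.leaf [0, 0, 1]) (.leaf [-94263555, 17869761, -232915425, -101227732, 129872833, 2729706, 22477657, 70938691, -8773558, -3590363, 177150, 7930, 170413, 13442, -1288, 24, -9])) (.node (.leaf [0, 0, 1]) (.leaf [0, 0, 1]))) (.node (.node (.leaf [121, -21, 316, 144, -190, 0, -26, -98, 6, 9]) (.leaf [102232290, -25103407, 283022728, 134053697, -169273417, -4205096, -19264212, -96256231, 11486128, 7201013, -282736, 15134,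 -336087, -16010, 3392, -256, -3])) (.node (.leaf []) (.leaf [-23586, 5814, -66378, -31910, 40352, 987, 4319, 22924, -2387, -2138, 75, -53, 67, -1])))) (.node (.node (.node (.leaf [0, 0, 1]) (.leaf [0, 0, 1])) (.node (.leaf []) (.leaf [-3991706, 1691321, -14451133, -7991640, 9798546, 322786, 203937, 6001625, -655149, -727458, 5740, -5315, 24539, 468, -895, 50, -1]))) (.node (.node (.leaf []) (.leaf [0, 0, 1])) (.node (.leaf [-1142, -1081, 2533, 2936, -3242, -320, 967, -2470, 394, 612, -26, 40, -27]) (.leaf [0, 0, 1])))))) (.node (.node (.node (.node (.node (.leaf []) (.leaf [87036, -21508, 225474, 101773, -128618, -2982, -19891, -73373, 9792, 4760, 122, 20, -136, -8, -1])) (.node (.leaf [-932921, 141719, -2281101, -993692, 1278876, 31717, 216870, 689634, -68348, -45339, 4384, -912, 1734, 42, -38, -3]) (.leaf [0, 0, 1]))) (.node (.node (.leaf [0, 0, 1]) (.leaf [-48984045, 11159721, -135281457, -64659933, 81517680, 2339683, 9103149, 46494274, -4678474, -4466342, 190826, -100322, 141397, 874, 772, -63])) (.node (.leaf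 [0, 0, 1]) (.leaf [0, 0, 1])))) (.node (.node (.node (.leaf [0, 0, 1]) (.leaf [-15770, 3647, -42127, -19418, 24709, 587, 3358, 13788, -1624, -1070, 42, -22, 46, 2, -1])) (.node (.leaf [-49087722, 19741470, -146742198, -71759376, 88056645, 3606002, 9904963, 53598313, -9286126, -4743381, 143446, -305080, 283683, 6605, 3884, -21, -1]) (.leaf [1]))) (.node (.node (.leaf []) (.leaf [14281339, -3162031, 38122381, 17643302, -22366246, -574955, -2913507, -12577293, 1462185, 926471, -47594, 10975, -41634, -1639, 510, -3])) (.node (.leaf [3294, -493, 6880, 2463, -3264, 5, -954, -1671, 326, -194, 19, -4, 2, 0, -1]) (.leaf [0, 0, 1]))))) (.node (.node (.node (.node (.leaf [-46, 17, -135, -67, 82, 0, 7, 52, -7, -3]) (.leaf [792, 2, 1578, 584, -786, -4, -207, -379, 2, 1, 0, -2, 1])) (.node (.leaf []) (.leaf [0, 0, 1]))) (.node (.node (.leaf [3, 0, 4, 1, -1, 0, -1, -1]) (.leaf [-549342549, 225410668, -1741364184, -886737372, 1087279104, 42147285, 87744124, 663565541, -101763164, -65410030, 1861350, -2903336, 3441632, 76735,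 9994, 730, 27])) (.node (.leaf []) (.leaf [-1, -1, -1, 0, 1, -1, 0, 0, 1])))) (.node (.node (.node (.leaf []) (.leaf [-132, 22, 21, 138, -180, -2, 97, -93, -30, 49, -6, 2, -1])) (.node (.leaf []) (.leaf [14219, -4996, 43735, 22111, -27414, -842, -2278, -16370, 2040, 1749, -24, 61, -65, -1]))) (.node (.node (.leaf []) (.leaf [-1115, 96, -2210, -757, 1053, -53, 326, 493, -44, 61, -10, 4, -4])) (.node (.leaf [101486770, -21886280, 264240727, 119544557, -152204187, -3415009, -21908666, -84752759, 10565183, 4954334, -231734, -32768, -262415, -17531, 4089, -174, 3]) (.leaf [0, 0, 1])))))))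

def twoL191 : Janko.Tree (List ℤ) :=
  (.node (.node (.node (.node (.node (.node (.leaf []) (.leaf [-6313, 671, -14874, -6301, 8288, 71, 1482, 4266, -279, -225, 14, 7, -2, 0, 1])) (.node (.leaf []) (.leaf [1040665, -221424, 2770800, 1289721, -1635367, -40254, -210191, -921808, 93493, 79040, -2298, 1225, -2129, -50, -37, 1]))) (.node (.node (.leaf []) (.leaf [513, 1067, -4240, -3767, 4378, 310, -861, 2997, -338, -723, 37, -40, 27, -1])) (.node (.leaf [-1, 0, -2, 1, 1, 0, 2, -3]) (.leaf [267822, -43477, 709357, 334701, -426286, -10715, -50345, -237407, 14747, 26195, -1088, 535, -362, 34, -15, 1])))) (.node (.node (.node (.leaf []) (.leaf [])) (.node (.leaf [-15129342, 1987695, -36785392, -15907700, 20726395, 241779, 3375326, 10893187, -966947, -457063, 33580, 39714, 17037, 2447, -1084, 25]) (.leaf [-19836, 6703, -61219, -31043, 38547, 1257, 3079, 22876, -2744, -2518, 68, -91, 91, 1]))) (.node (.node (.leaf [-15943519, 1799326, -35768785, -14274654, 18832000, 185429, 4162289, 9557652, -1029120, -74040, 30484, 39026,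 10510, 3169, -1000, -4, -1]) (.leaf [29439, -2917, 67958, 28092, -37573, 138, -7250, -18702, 963, 836, 12, -15, 34, 2, -5])) (.node (.leaf []) (.leaf [144486919, -26323513, 386428481, 181536705, -231085088, -5492653, -27056420, -128707358, 10797700, 11520826, -553110, 55506, -316004, -3196, 5539, 73]))))) (.node (.node (.node (.node (.leaf []) (.leaf [32966217, -7518524, 90109188, 42551070, -53768935, -1435211, -6304610, -30488737, 3340466, 2534756, -113224, 30621, -99040, -2968, 1156, -19])) (.node (.leaf [-53129385, 13381221, -166526191, -87559184, 108732340, 4060351, 5790221, 64205943, -4417279, -9117193, 403808, -257791, 215326, -10830, 1517, -221, 5]) (.leaf [-24455037, 6614396, -70932405, -34954274, 43665993, 1404212, 4146955, 25478451, -2734731, -2681460, 97738, -76642, 89479, -19, 332, -21]))) (.node (.node (.leaf []) (.leaf [1377984, -207032, 3372010, 1464012, -1901872, -25350, -316762, -1009518, 93312, 54469, -2394, -1317, -1290, -156, 0, 1])) (.node (.leaf [-43952, 8895, -117112, -54726, 69487, 1607,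 8577, 39110, -3600, -3406, 83, -75, 86, -2, 1]) (.leaf [-48210214, 9224230, -133735472, -64250786, 81702651, 1743733, 7934909, 45641873, -3872048, -3841216, 192097, 54004, 135725, 4646, -5336, 89, 5])))) (.node (.node (.node (.leaf []) (.leaf [25884541, 9736078, 36992385, 8944092, -16341866, 1626300, -6765717, -2177087, -4894330, -887473, -112816, -335334, 199727, 4432, 5126, 75, 1])) (.node (.leaf [202357, -54850, 363383, 89521, -116953, -3376, -84367, -58668, 44994, -30071, 620, -1134, -723, -216, 31, -1]) (.leaf [16288640, -5305065, 53911829, 28934150, -35617229, -1429333, -1581146, -21499418, 1900120, 3050136, -122372, 108904, -86686, 3130, -1208, 63, -3]))) (.node (.node (.leaf [-15124, 1953, -35792, -14972, 20219, -391, 3754, 9987, -454, -484, -75, 3, -35, -2, 5]) (.leaf [-3794964, 870030, -10315510, -4852305, 6124343, 173000, 742310, 3480159, -390475, -291318, 14328, -5462, 11775, 266, -134, -1])) (.node (.leaf []) (.leaf [])))))) (.node (.node (.node (.node (.node (.leaf []) (.leaf [-1273, 160, -2388,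 -795, 991, 68, 429, 560, -128, 19, 0, 4, 1])) (.node (.leaf [5798, -680, 14349, 6374, -8316, -102, -1238, -4375, 228, 357, -20, 5, -1]) (.leaf [-195814353, 30628453, -510994084, -236536974, 303061142, 6325775, 37750907, 166142174, -12154790, -14455509, 715018, 36470, 319308, 202, -5679, -66, 1]))) (.node (.node (.leaf []) (.leaf [-60036415, 12528878, -164648880, -78638623, 99447474, 2715421, 10976967, 56298300, -5066494, -5545738, 239080, -98682, 152782, -263, 464, -78, -1])) (.node (.leaf [27759, -5668, 75123, 35392, -44999, -1084, -5307, -25174, 2314, 2304, -108, 50, -64, -1]) (.leaf [63342, -16209, 177622, 85242, -107416, -2716, -11809, -61612, 6704, 5684, -151, 157, -177, -1, -1])))) (.node (.node (.node (.leaf []) (.leaf [-72534, 19427, -205207, -99260, 124140, 3831, 13313, 72255, -8389, -6856, 203, -141, 245, 2, 3])) (.node (.leaf []) (.leaf [4965140, -230095, 10653450, 4156680, -5587711, -13181, -1284209, -2704288, 115413, 54479, -8540, -15121, 4557, -306, 365, 4, 1]))) (.node (.node (.leaf []) (.leaf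 [-46987808, 1478844, -104105193, -41775375, 56242194, -105244, 10900262, 26996773, -1152403, 81998, 144208, 287847, 2376, 10686, -8670, 57, 5])) (.node (.leaf [-352830261, 38573114, -887594591, -401265841, 520482078, 7586341, 68670041, 276494741, -15063719, -20426183, 1254315, 799633, 347055, 18210, -30422, 52, 7]) (.leaf [-2964541, 735587, -8032927, -3766096, 4727594, 157495, 614686, 2718861, -332222, -244797, 11728, -8477, 9370, 91, 145, -3]))))) (.node (.node (.node (.node (.leaf []) (.leaf [-514, 69, -1036, -381, 481, 33, 173, 262, -43, -23, 2, 1, 1])) (.node (.leaf [-13216942, 2386907, -34240000, -15646885, 19961835, 487159, 2737152, 11043421, -1054316, -873947, 47308, -6249, 27365, 653, -482, -5, -1]) (.leaf [-2729, 2857, -13604, -8194, 9485, 762, -5, 6505, -1336, -942, 22, -52, 55, 3]))) (.node (.node (.leaf []) (.leaf [12312, -2051, 31473, 14272, -18266, -409, -2569, -10039, 885, 780, -45, 10, -21])) (.node (.leaf []) (.leaf [0, 0, -1, 0, 1])))) (.node (.node (.node (.leaf [85122094, -17986222, 231198526,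 109377916, -138414369, -3684447, -16113274, -78234993, 7557752, 7160754, -297806, 101530, -215235, -2754, 1082, 31, 3]) (.leaf [-21912694, 5668797, -59844665, -28017490, 35252690, 1003237, 4460418, 20204918, -2643026, -1518595, 62368, -33264, 75262, 2997, -432, 7])) (.node (.leaf []) (.leaf [-1976, 173, -4777, -2080, 2760, -9, 426, 1401, -41, -96, 6, 2, -1]))) (.node (.node (.leaf []) (.leaf [-191718910, 31408120, -496879476, -227734511, 291824088, 5946780, 38141620, 159893022, -13429283, -12322907, 643525, 104354, 351012, 11510, -10080, -37, 1])) (.node (.leaf []) (.leaf [-294820421, 66203832, -783477103, -360703723, 457579605, 11042979, 60998656, 257141539, -30974507, -17476631, 751318, -59924, 815627, 43047, -9986, 395, -5])))))))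

def twoL192 : Janko.Tree (List ℤ) :=
  (.node (.node (.node (.node (.node (.node (.leaf []) (.leaf [1])) (.node (.leaf [-97947, 24442, -272916, -130702, 164407, 4582, 18386, 94465, -10361, -8766, 282, -197, 292, 4, 1]) (.leaf [26875458, -3952098, 70568830, 32741377, -42045483, -841704, -4954533, -22864427, 1683587, 1792366, -120295, -37799, -54253, -2130, 2365, -27]))) (.node (.node (.leaf []) (.leaf [89554438, -19367740, 244044818, 115935360, -146297785, -4301620, -17059153, -83216814, 7979374, 8256430, -368360, 215281, -237838, 2244, -1004, 185, 1])) (.node (.leaf [14042, -2487, 36466, 16799, -21434, -495, -2880, -11890, 975, 1100, -38, 15, -24, 0, 1]) (.leaf [-107247, 25040, -292718, -138152, 174657, 4378, 20925, 99219, -10614, -8680, 300, -196, 282, 3])))) (.node (.node (.node (.leaf []) (.leaf [-3556168, 869674, -9160063, -4055845, 5144978, 122957, 823198, 2886668, -460981, -99686, 5812, 3185, 11660, 1129, -323, 9])) (.node (.leaf []) (.leaf [2598948, -1659711, 8965454, 4548470, -5528516, -139964, -445515,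 -3480134, 834187, 128179, 11619, 2396, -25143, -1460, 144, -53, -1]))) (.node (.node (.leaf [358175728, -58588353, 930274926, 426850562, -547107446, -10942240, -70615003, -299548742, 25287223, 22566262, -1175352, -323272, -656615, -28018, 21983, -217, -1]) (.leaf [])) (.node (.leaf [204855509, -41554632, 540550169, 249305487, -317026063, -7659080, -41766516, -177052273, 18530614, 13675984, -642500, 122140, -493592, -15818, 5390, 29, 3]) (.leaf [1]))))) (.node (.node (.node (.node (.leaf []) (.leaf [-186, 10, -441, -189, 252, -1, 38, 126, -3, -5, 1])) (.node (.leaf [577094, -187495, 1661081, 817185, -1008682, -44302, -120365, -606815, 69698, 86496, -1830, 5787, -1545, 182, -234, 3]) (.leaf [-45225045, 9996854, -122680306, -58059313, 73119218, 2306778, 8847371, 41751203, -4206828, -4153999, 198578, -130317, 126776, -1229, 427, -129, -1]))) (.node (.node (.leaf [119, -21, 314, 144, -190, 0, -25, -98, 6, 9]) (.leaf [428393, -94008, 1143502, 531830, -674176, -16578, -87317, -380196, 40372, 31904, -1076, 541, -973,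 -19, -10])) (.node (.leaf [7415, -801, 17782, 7636, -10089, -33, -1691, -5155, 286, 301, -14, -7, 4, 0, -1]) (.leaf [-23420, 5842, -65297, -31182, 39392, 977, 4438, 22437, -2435, -2038, 61, -50, 66])))) (.node (.node (.node (.leaf [-71710217, 11391729, -171657427, -71905580, 93736696, 836682, 17188388, 49186374, -6472830, -127567, 82320, 284952, 130921, 22905, -10460, 270, 1]) (.leaf [772485, -175682, 2295996, 1159778, -1460297, -41330, -107970, -836469, 60694, 102148, -4610, 2648, -2593, 128, -4, 1])) (.node (.leaf [21460, -3421, 53153, 23311, -30302, -439, -4988, -16085, 1374, 1164, -37, 20, -16, 0, -1]) (.leaf [-229241817, 86793106, -710638058, -359579730, 441911100, 17497320, 37983998, 268078514, -38144817, -28441096, 897373, -1329061, 1277098, 11201, 13320, -59, 1]))) (.node (.node (.leaf [-48, 7, -126, -57, 76, 0, 10, 38, -2, -3]) (.leaf [5766276, -375247, 12942604, 5285945, -7026458, -45128, -1403222, -3504588, 164369, 142835, -12494, -14764, 2665, -263, 324, 4, 1])) (.node (.leaf [-18012, 4156, -47287,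 -21699, 27502, 558, 3887, 15596, -1754, -1215, 4, -18, 37]) (.leaf [1648308, -376494, 4483095, 2110427, -2663423, -72816, -318437, -1514202, 170350, 122155, -5208, 823, -4921, -192, 74, -1])))))) (.node (.node (.node (.node (.node (.leaf []) (.leaf [3764977, -866770, 10232063, 4810868, -6070213, -173336, -738192, -3451097, 391205, 287182, -14354, 5386, -11823, -281, 136, 1])) (.node (.leaf [-6, 0, -10, -3, 4, 0, 2, 2]) (.leaf [1]))) (.node (.node (.leaf [-128, -7, -356, -182, 236, -2, 1, 129, 9, -9]) (.leaf [44033865, -10282806, 120681277, 57179970, -72091835, -2055767, -8482098, -41111099, 4467842, 3685556, -161032, 85916, -133086, -1781, 306, 39])) (.node (.leaf [58376, -9085, 147464, 66062, -85212, -1434, -12366, -46081, 3830, 3210, -190, 46, -68, 0, 3]) (.leaf [32895912, -12593324, 99611891, 49026285, -60575660, -2026144, -5931274, -36301268, 6060160, 2685692, -69785, 71490, -190460, -8862, 350, -194, -1])))) (.node (.node (.node (.leaf [98144, -27577, 362078, 208203, -261255, -6160, -824, -152921, 1522,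 29473, -512, 1232, -185, 76, -18, 1]) (.leaf [1])) (.node (.leaf [4963890, -446511, 10613299, 4015230, -5385455, -3332, -1366517, -2621825, 283872, -75757, -809, -21168, 843, -1262, 488, -11, 1]) (.leaf [230723972, -21256057, 562345742, 248449183, -323850075, -4716258, -47885392, -169704846, 8207942, 12229636, -844382, -445635, -123830, -9126, 15193, 268, 5]))) (.node (.node (.leaf [-112716649, 48087317, -362936803, -186429346, 227964738, 9271436, 17527882, 139967768, -21557554, -14484266, 429420, -686210, 746005, 11792, 4025, 143, 3]) (.leaf [208079383, -36546042, 546606335, 252891082, -323026385, -7014997, -40655517, -178433275, 15528145, 14395660, -705424, -38867, -422043, -11257, 9842, 32, -1])) (.node (.leaf [490, -276, 784, 78, -78, 3, -227, -91, 214, -199, 21, 2, 0, 0, -1]) (.leaf [1]))))) (.node (.node (.node (.node (.leaf [-11, 7, -28, -7, 12, 0, 8, 2, -4, 1]) (.leaf [-131, 3, -394, -190, 273, -20, 9, 118, 10, -2, 0, 0, -1])) (.node (.leaf [1]) (.leaf [16980211, -4467173, 49500911, 24581272, -30716875,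 -989946, -2789187, -17920010, 1745940, 2040358, -67614, 58913, -55971, 1044, -882, 17]))) (.node (.node (.leaf []) (.leaf [])) (.node (.leaf [-73760, 17613, -201612, -95172, 120214, 3083, 14512, 68425, -7498, -6018, 196, -136, 198, 3]) (.leaf [7, -1, 10, 4, -4, -1, -2, -3, 1])))) (.node (.node (.node (.leaf [-123653539, 24753153, -328776091, -153518435, 194647297, 5342770, 24736156, 109456891, -10246226, -10304487, 443838, -229240, 266501, -426, 2776, -224, -9]) (.leaf [2261, -1538, 10692, 6478, -7918, -208, 197, -4936, 486, 760, -10, 28, -22, 1])) (.node (.leaf []) (.leaf [5272761, 738789, 6406206, 364795, -1299628, 318246, -2118473, 435398, -113947, -771639, 12376, -54542, 25501, -2299, 660, 8, 1]))) (.node (.node (.leaf [-2639, 321, -6332, -2730, 3564, 66, 626, 1860, -128, -145, 8, -2, 2, -1]) (.leaf [700372957, -189996191, 1954706159, 931779501, -1167256310, -36424590, -136916721, -676284188, 85135229, 59418368, -2264154, 1885516, -2497287, -55804, -6924, 356, 11])) (.node (.leaf [1]) (.leaf [5409738, -1111476,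 14683288, 6970907, -8816994, -245523, -1020656, -4989981, 445336, 499615, -21514, 11405, -12780, 195, -151, 11])))))))

def twoL193 : Janko.Tree (List ℤ) :=
  (.node (.node (.node (.node (.node (.node (.leaf [0, 1]) (.leaf [-2141, -17268, 46240, 37531, -39475, -4643, 6498, -33009, 8600, 4982, -221, 293, -436, -14, 11])) (.node (.leaf [0, 1]) (.leaf [-26137, 1311, -56374, -21891, 29741, -246, 6751, 14129, -559, -90, 30, 63, -44, 0, 1]))) (.node (.node (.leaf []) (.leaf [0, 1])) (.node (.leaf []) (.leaf [20105181, -4193000, 55366918, 26488363, -33527105, -859336, -3593249, -18949272, 1715255, 1783573, -74113, 18803, -52596, -568, 732, 5])))) (.node (.node (.node (.leaf []) (.leaf [-63955777, -4810562, -129905904, -48616619, 68477261, -1645296, 14813723, 29010294, 1910119, 1251198, 144297, 629126, -128339, 12328, -17152, 219, 1])) (.node (.leaf [0, 1]) (.leaf [-1296330, 285450, -3524378, -1662022, 2098443, 58076, 246121, 1190664, -129215, -97168, 4429, -238, 3853, 151, -82, 1]))) (.node (.node (.leaf [0, 1]) (.leaf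 [-10342, 1047, -24306, -10299, 13554, 132, 2434, 6959, -420, -404, 25, 9, -4, 0, 1])) (.node (.leaf [-1220, 352, -3585, -1765, 2241, 47, 222, 1271, -119, -149, -1, -6, 1]) (.leaf [193254094, -48664699, 525292141, 245669364, -309437948, -8779853, -39575415, -176959910, 22219558, 14013858, -558780, 361798, -614759, -18748, 147, 3, 5]))))) (.node (.node (.node (.node (.leaf []) (.leaf [0, 1])) (.node (.leaf [79858, -19709, 230002, 113144, -141726, -4935, -13636, -81913, 7968, 9417, -656, 471, -353, 22, 7]) (.leaf [-1444, 125, -3066, -1181, 1559, 9, 392, 796, -65, -8, 0, 3, -1]))) (.node (.node (.leaf []) (.leaf [-1964870, -316873, -3254709, -944379, 1466532, -66245, 585772, 455224, 167068, 34187, 3441, 9260, -10353, -371, -122, -9, -1])) (.node (.leaf [1491, -151, 3498, 1486, -1949, -18, -347, -1011, 60, 59, -4, -1]) (.leaf [326345, -73596, 907624, 438102, -550992, -16577, -58909, -316170, 29389, 33466, -1475, 910, -938, 13, -2, 1])))) (.node (.node (.node (.leaf []) (.leaf [63517, -13571, 176089, 84457, -107117,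 -2687, -11533, -60342, 5237, 6193, -342, 230, -179, 12, -3])) (.node (.leaf [-10, 3, -19, -6, 8, 0, 4, 4, -1]) (.leaf [0, 1]))) (.node (.node (.leaf []) (.leaf [2247762, -351414, 6285310, 3104297, -3933443, -114327, -343038, -2213687, 97171, 292007, -15477, 7502, -4640, 579, -14, 11])) (.node (.leaf [2832514, -661801, 7462678, 3397622, -4303821, -109533, -609400, -2424313, 325321, 142729, -7243, 466, -8772, -559, 146, -3]) (.leaf [-20022661, 5314777, -58000073, -28612433, 35768465, 1144064, 3387696, 20841782, -2144772, -2265262, 77838, -64761, 68263, -601, 782, -15])))))) (.node (.node (.node (.node (.node (.leaf []) (.leaf [0, 1])) (.node (.leaf []) (.leaf [3238, -274, 7201, 2924, -3843, -38, -812, -1979, 127, 80, -6, -5, 1]))) (.node (.node (.leaf []) (.leaf [-415463, 97147, -1143662, -544329, 687135, 17945, 78764, 391763, -40167, -36405, 1167, -893, 1087, 4, 6])) (.node (.leaf [0, 1]) (.leaf [-51402343, -10556319, -80233106, -20389425, 33910470, -2686164, 15158973, 7889815, 4520759, 3244784, 56080, 565646,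 -270128, 6676, -8555, -27, -5])))) (.node (.node (.node (.leaf []) (.leaf [])) (.node (.leaf [12659729, -7030048, 38019140, 18538705, -21945945, -1480743, -3396839, -14518826, 3191763, 1816692, -22531, 223963, -82577, 2396, -4930, 141, 5]) (.leaf [0, 1]))) (.node (.node (.leaf [-30402423, 644288, -69897537, -30057368, 39860521, 396458, 6579429, 20014486, 336683, -1971973, 123728, 23497, -40192, -5389, 1884, -163, -1]) (.leaf [0, 1])) (.node (.leaf [-2886123, 741995, -8125668, -3906528, 4902826, 150380, 533022, 2823335, -331011, -254749, 12355, -5542, 11028, 168, -130, 3]) (.leaf [23028674, 13086530, 13287631, -8051756, 3616539, 2898453, -8810859, 11232942, -5654362, -4017201, -144, -473082, 274276, -2902, 6535, 44, 5]))))) (.node (.node (.node (.node (.leaf []) (.leaf [-740, 105, -1463, -506, 653, 29, 247, 341, -75, 11, 0, 3])) (.node (.leaf []) (.leaf [-360847, 93898, -986707, -463177, 582645, 15957, 73144, 334818, -42517, -26250, 808, -663, 1133, 36, 3]))) (.node (.node (.leaf [0, 1]) (.leaf [-158, 49, -387,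 -163, 208, 6, 49, 116, -22, -9, -1])) (.node (.leaf []) (.leaf [0, 1])))) (.node (.node (.node (.leaf []) (.leaf [2967, -324, 7148, 3092, -4071, -17, -668, -2099, 111, 135, -6, -3, 1])) (.node (.leaf [0, 1]) (.leaf [0, 1]))) (.node (.node (.leaf []) (.leaf [0, 1])) (.node (.leaf [-388, 101, -1395, -762, 1005, -25, 11, 534, 0, -70, -2, -1]) (.leaf [4395040, -982467, 11985950, 5680582, -7163979, -210043, -845424, -4080646, 417255, 386116, -17468, 9636, -12323, -35, -68, 7])))))))

def twoL194 : Janko.Tree (List ℤ) :=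
  (.node (.node (.node (.node (.node (.node (.leaf []) (.leaf [-11294, -14904, 10276, 16047, -13220, -3496, 5620, -16912, 8135, 2219, -64, 193, -360, -22, 7])) (.node (.leaf [673, -54, 1678, 750, -990, -5, -132, -506, 13, 39, -3]) (.leaf [-648033, 133447, -1713080, -794981, 1008731, 25124, 132490, 567559, -55330, -50431, 1565, -989, 1275, -4, 47, -1]))) (.node (.node (.leaf []) (.leaf [3254100, -812284, 9194636, 4448698, -5586684, -166662, -581323, -3216895, 346741, 307706, -12614, 6952, -11033, -156, 57, 1])) (.node (.leaf [0, 0, 1]) (.leaf [-11378, 2183, -27853, -10961, 15434, -433, 3359, 6744, -914, 80, 112, -137, 57, -10, -5])))) (.node (.node (.node (.leaf []) (.leaf [-7, 2, -22, -9, 13, -1, 2, 5, 0, -1, 0, 0, 0, 1])) (.node (.leaf [2064705, -847794, 6441766, 3219813, -3962429, -140748, -350008, -2396991, 406414, 186614, -6334, 7672, -13985, -553, 208, -7]) (.leaf []))) (.node (.node (.leaf []) (.leaf [0, 0, 1])) (.node (.leaf [4865866, -442268, 10896496, 4378970, -5809495, -33838, -1231311, -2912375, 236334,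 46210, -5922, -15970, 110, -778, 454, -7, 1]) (.leaf [-3655728, 999369, -10437899, -5068449, 6335853, 207249, 665130, 3687007, -434815, -358557, 15094, -11353, 14061, 146, 15, -3]))))) (.node (.node (.node (.node (.leaf []) (.leaf [-4408242, 911112, -11699781, -5417443, 6881641, 172705, 891683, 3852063, -405556, -305561, 15026, -4032, 11206, 311, -168, -1])) (.node (.leaf [79862, -19712, 230014, 113148, -141732, -4935, -13638, -81915, 7969, 9417, -656, 471, -353, 22, 7]) (.leaf [-237554, 37429, -632259, -300077, 382099, 9879, 43610, 212819, -12125, -24468, 1053, -518, 312, -37, 14, -1]))) (.node (.node (.leaf [0, 0, 1]) (.leaf [0, 0, 1])) (.node (.leaf [1642, -177, 3880, 1651, -2167, -19, -382, -1122, 71, 63, -4, -1]) (.leaf [0, 0, 1])))) (.node (.node (.node (.leaf []) (.leaf [888443, -220488, 2458685, 1165399, -1466799, -44085, -171111, -838118, 101786, 69119, -3980, 1564, -3353, -92, 33])) (.node (.leaf [0, 0, 1]) (.leaf [497582718, -129484381, 1355459377, 633153738, -796938693, -22534876, -102692317, -456620727,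 59982789, 34568371, -1328015, 893855, -1651373, -61511, 2582, -176, 13]))) (.node (.node (.leaf [0, 0, 1]) (.leaf [-5762745, -3823112, -3895703, 1403408, 28158, -901530, 1765643, -2466348, 1734889, 1025226, -6106, 161326, -73560, 1036, -3632, 21, 1])) (.node (.leaf [0, 0, 1]) (.leaf [0, 0, 1])))))) (.node (.node (.node (.node (.node (.leaf [0, 0, 1]) (.leaf [893702, 10039, 1985984, 797646, -1083997, 4906, -187189, -501551, 16581, -20578, -4970, -8660, -1098, -367, 416, -3])) (.node (.leaf [0, 0, 1]) (.leaf [252, -13, 588, 250, -334, 0, -56, -165, 2, 11, -1]))) (.node (.node (.leaf []) (.leaf [-33578464, 6801260, -91682498, -43701377, 55318057, 1470161, 6130785, 31245984, -2743063, -3040923, 130232, -43118, 82362, -231, -467, -29])) (.node (.leaf [-3994, 417, -9106, -3744, 4928, 42, 997, 2531, -190, -102, 6, 6, -2, 0, 1]) (.leaf [53536897, -14014555, 143922306, 66058044, -83434220, -2078464, -11425995, -47391554, 6942674, 2600989, -101886, -4001, -185129, -12707, 1887, -190, 1])))) (.node (.node (.node (.leaf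 []) (.leaf [779703, -94367, 2077936, 998029, -1279932, -26272, -131661, -702730, 17171, 90022, -3017, 1318, -194, 190, -68, 3])) (.node (.leaf [49064153, 3796399, 72376284, 12711983, -23183618, 2978530, -17545167, -3243023, 774662, -7421338, 141934, -676590, 133608, -30796, 16568, -352, 5]) (.leaf [-136464410, 49914877, -442382914, -231010625, 284644729, 9899760, 16781309, 171890569, -20778843, -19061821, 512670, -488008, 764955, 7297, -4902, 384, 11]))) (.node (.node (.leaf []) (.leaf [56655660, -9816413, 146875796, 67112168, -85921731, -1799679, -11492616, -47177425, 4317233, 3493899, -180468, -23341, -109814, -4526, 2586, -13, 1])) (.node (.leaf [0, 0, 1]) (.leaf [-90274026, 24743901, -256327837, -123369402, 154689087, 4452215, 16557347, 89454071, -11220659, -7409648, 287960, -132612, 348854, 11593, -2423, 143, 3]))))) (.node (.node (.node (.node (.leaf [0, 0, 1]) (.leaf [0, 0, 1])) (.node (.leaf [-7206792, -261272, -11734785, -2888745, 4475889, -225148, 2494076, 1383251, -100429, 616545, -5220, 50770, -18970,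 2438, -694, -9, -1]) (.leaf [542320, -115512, 1470627, 695859, -880756, -23189, -104242, -498410, 46388, 48419, -1790, 1175, -1238, 14, -14, 1]))) (.node (.node (.leaf []) (.leaf [0, 0, 1])) (.node (.leaf []) (.leaf [-104, 49, -294, -138, 170, 4, 29, 105, -20, -11, -1])))) (.node (.node (.node (.leaf [392277960, -49183525, 992766089, 450747782, -581652159, -10643152, -77876497, -312961647, 19248222, 25429911, -1433064, -419562, -439966, -7036, 22626, 281, 7]) (.leaf [2822, -376, 5898, 2211, -2920, 30, -834, -1519, 166, -4, 18, -10, 2, 1])) (.node (.leaf [43766, 15423, 79269, 31807, -46825, 1000, -8697, -17646, -11314, 6351, -316, 42, 439, 52, -19, 1]) (.leaf [-43334830, 4757606, -99980355, -40895643, 54038106, 155909, 10411554, 27381872, -2814804, 141488, 54151, 219616, 41359, 12374, -7216, 144, 1]))) (.node (.node (.leaf [0, 0, 1]) (.leaf [25796798, -10889762, 73311744, 33737928, -41768400, -1384384, -6318255, -24933438, 5649003, 971883, -4680, 85478, -148245, -12136, -4510, -72, -1])) (.node (.leaf [2317, -58,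 5596, 2489, -3301, -14, -430, -1663, -18, 134, -10, -4, 2]) (.leaf [17214566, -4262159, 47421198, 22437045, -28250802, -799696, -3335224, -16162220, 1927366, 1326708, -58252, 26848, -57865, -1619, 546, -4])))))))

def twoL195 : Janko.Tree (List ℤ) :=
  (.node (.node (.node (.node (.node (.node (.leaf []) (.leaf [])) (.node (.leaf []) (.leaf [-511, -19, -1184, -523, 692, 9, 91, 349, 19, -36, 5, -1]))) (.node (.node (.leaf []) (.leaf [452880230, -97719548, 1210937463, 563693886, -714075476, -18787782, -90967281, -402430900, 43457640, 32797694, -1500642, 491083, -1204445, -32873, 8868, 172, 11])) (.node (.leaf []) (.leaf [0, 0, -1, 0, 1])))) (.node (.node (.node (.leaf []) (.leaf [1, 0, 0, 1, 0, 0, 0, -1])) (.node (.leaf [-540, 25, -1164, -457, 609, 8, 138, 299, -16, -7, 2, 1]) (.leaf [5, 0, 5, 1, 0, 1, -1, -2, 0, -1]))) (.node (.node (.leaf [35878, -17246, 127300, 69239, -83812, -3688, -3406, -52653, 7383, 6385, -184, 223, -297, -4, 1]) (.leaf [-3138, 107, -6986, -2839, 3811, 30, 751, 1847, -38, -88, 14, 1, -3]))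 (.node (.leaf [180996, -52933, 511782, 245285, -305576, -10572, -35115, -179043, 24750, 15166, -640, 428, -745, -30, 3]) (.leaf [-1109879775, 203876511, -2826000775, -1265166816, 1619725861, 33892720, 240703940, 889095136, -96929077, -53345661, 2933500, 690458, 2316925, 157040, -65359, 492, -31]))))) (.node (.node (.node (.node (.leaf []) (.leaf [-6756704, 951391, -15922660, -6664754, 8684822, 118091, 1654271, 4558619, -494202, -136175, 10351, 14261, 6883, 1203, -509, 9, -1])) (.node (.leaf [-3053, 1330, -11838, -6720, 8263, 361, 91, 4981, -490, -765, 46, -32, 26, -1]) (.leaf [-7878530, 1564798, -23164336, -11742407, 14770584, 437730, 1042493, 8468527, -500491, -1080406, 44516, -15713, 21339, -996, -35, -15]))) (.node (.node (.leaf []) (.leaf [-22123733, -12212429, -26475526, -4806937, 11391734, -1848759, 5573573, -911779, 6738686, 75550, 101070, 288488, -264535, -12939, -3064, -180, -7])) (.node (.leaf [1363, -240, 3167, 1333, -1684, -71, -374, -941, 122, 80, -4, -2, -1]) (.leaf [-207383351, 61169626, -609713352,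 -300854688, 375039039, 11939562, 34918030, 219965228, -26702388, -21043481, 797730, -572108, 896260, 16498, -4248, 46, 15])))) (.node (.node (.node (.leaf []) (.leaf [4782981, -915274, 9729837, 3076427, -4273566, 161794, -1587998, -1910995, 720184, -630869, 25714, -50826, -8539, -4014, 1412, -81, 1])) (.node (.leaf []) (.leaf [487511031, -130675652, 1338673403, 628471448, -789744713, -22838674, -99599467, -454351397, 60388264, 35090662, -1304443, 969646, -1686341, -59969, 1634, -209, 12]))) (.node (.node (.leaf []) (.leaf [2252213, -352990, 6300220, 3112212, -3943242, -114717, -343526, -2219506, 97802, 292762, -15520, 7532, -4666, 580, -14, 11])) (.node (.leaf [3349062, -808668, 9200799, 4352581, -5480501, -158875, -646683, -3132697, 365870, 261431, -12398, 5076, -11239, -291, 128, -1]) (.leaf [-30100960, 5726391, -77726685, -35325537, 45061794, 1055954, 6403545, 24973859, -2545636, -1887251, 84806, -16237, 59446, 2043, -194, -16, -1])))))) (.node (.node (.node (.node (.node (.leaf []) (.leaf [-3136, 324, -7044,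 -2863, 3760, 36, 796, 1944, -152, -69, 3, 4, -1])) (.node (.leaf [348474010, -22172239, 811419635, 343623278, -454470730, -2907154, -76767852, -229465379, 9794007, 10096301, -978660, -1354924, -15281, -36007, 38854, -189, 7]) (.leaf [1950, -1436, 8753, 5171, -6216, -288, 9, -3979, 562, 592, -11, 28, -26, 1]))) (.node (.node (.leaf [46, -12, 125, 62, -74, -1, -6, -49, 5, 3]) (.leaf [])) (.node (.leaf []) (.leaf [22722133, -27476780, 120078377, 73046029, -84512448, -5518361, 496478, -58837573, 12263872, 8082326, -137052, 576327, -480138, -3761, -6583, -170, -5])))) (.node (.node (.node (.leaf []) (.leaf [-16009578, -15150821, 12345607, 22836720, -21796159, -3526976, 8837226, -22293439, 6069799, 5926440, -33069, 494950, -296838, 5678, -7556, -48, -5])) (.node (.leaf [1481, -213, 3085, 1157, -1493, -23, -448, -807, 114, 8, 4, -4]) (.leaf [187170, -56652, 518757, 243122, -304149, -8872, -39325, -177167, 26949, 12143, -346, 454, -743, -35, 5]))) (.node (.node (.leaf []) (.leaf [15002115, -3283502, 40023541, 18534086,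 -23501183, -603065, -3052143, -13208802, 1506407, 991510, -50282, 12269, -42697, -1568, 484, -1])) (.node (.leaf []) (.leaf [-27470532, 6526760, -77338327, -37448245, 47101225, 1364619, 4843219, 27025157, -2713769, -2659822, 107422, -52332, 86130, 459, -160, -9]))))) (.node (.node (.node (.node (.leaf []) (.leaf [2912, -201, 6407, 2589, -3402, -40, -723, -1749, 96, 70, -7, -4, 1])) (.node (.leaf [71066, -20793, 212239, 106141, -133190, -3492, -11535, -77368, 7704, 8745, -111, 288, -211, 7, -6]) (.leaf [20115, -1969, 42981, 16614, -21941, -99, -5549, -11208, 970, 187, 10, -46, 13, -1]))) (.node (.node (.leaf [-20972, 3395, -52037, -22848, 29682, 442, 4879, 15780, -1364, -1156, 34, -20, 16, 0, 1]) (.leaf [-39312, 8219, -103977, -47976, 61041, 1386, 8026, 34147, -3565, -2631, 94, -59, 83, 0, 1])) (.node (.leaf [-3649, 299, -8433, -3530, 4664, 39, 856, 2369, -124, -118, 10, 4, -1]) (.leaf [-368, 47, -910, -392, 526, 3, 92, 257, -14, -24, 1])))) (.node (.node (.node (.leaf []) (.leaf [3, 0, 3, 1, 0, 0, -1, -1])) (.node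 (.leaf []) (.leaf [-3787, 339, -8701, -3629, 4789, 11, 898, 2457, -128, -115, 6, 6, -2]))) (.node (.node (.leaf [1168, 182, 2205, 805, -1128, 50, -228, -501, -86, -40, -6, -6, 4, -1]) (.leaf [-2077820, 2753759, -12444206, -8394624, 9292075, 1124734, -182299, 7029192, -905129, -1922805, 77732, -176468, 49318, -7403, 1424, -120, -3])) (.node (.leaf [5893, -566, 14194, 6166, -8088, -94, -1281, -4185, 215, 270, -20, 0, -1]) (.leaf [29980143, -6410619, 81203470, 38289484, -48451051, -1306370, -5776213, -27385718, 2723134, 2482126, -114346, 48499, -79791, -606, 21, 37])))))))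

def twoL196 : Janko.Tree (List ℤ) :=
  (.node (.node (.node (.node (.node (.node (.leaf []) (.leaf [774024, -195843, 2221039, 1089343, -1368639, -38827, -132950, -789501, 76014, 85295, -2564, 2394, -2245, 33, -34, 1])) (.node (.leaf []) (.leaf [1]))) (.node (.node (.leaf [1]) (.leaf [644, 1060, -3919, -3627, 4186, 312, -890, 2908, -338, -715, 36, -40, 27, -1])) (.node (.leaf []) (.leaf [407293, -153802, 1122733, 507623, -628807, -21948, -97649, -372780, 85990, 6909, -753, 417, -2525, -230, 30, -1])))) (.node (.node (.node (.leaf [1]) (.leaf [1])) (.node (.leaf [-4, 0, -6, -2, 2, 0, 1, 2]) (.leaf [-1009506, 279283, -2819344, -1339357, 1677152, 47270, 193924, 972367, -133112, -69146, 1946, 636, 3816, 214, -84, 5]))) (.node (.node (.leaf [-669235112, 123511198, -1779292621, -830160142, 1057586223, 24374946, 128103990, 587960458, -52339680, -49202683, 2381106, -94200, 1483352, 37166, -30524, -228, 11]) (.leaf [145834, -34451, 397741, 187731, -236981, -6262, -28752, -135011, 14653, 12092, -414, 270, -399, -4, 1]))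 (.node (.leaf [1]) (.leaf [-22050, 7615, -64693, -31409, 39200, 1126, 4319, 23005, -3372, -2019, 28, -65, 96, 5]))))) (.node (.node (.node (.node (.leaf []) (.leaf [-107452424, 26376034, -294720238, -138921628, 175300311, 4547106, 20998639, 99899564, -11842206, -7910060, 286078, -114553, 332490, 10886, -2174, 141, -1])) (.node (.leaf [403315, -88581, 1091730, 513045, -649613, -16833, -78896, -366790, 38223, 31821, -1434, 566, -1099, -12, -9]) (.leaf [1]))) (.node (.node (.leaf [-4455, 376, -10224, -4233, 5568, 60, 1015, 2863, -200, -53, 8, 0, 1]) (.leaf [-2235, -84, -4247, -1538, 2012, 99, 611, 1003, -1, -54, 19, 2])) (.node (.leaf [1]) (.leaf [10165, -630, 24544, 10698, -14596, 166, -2340, -6936, -224, 838, 10, 10, 38, 2, -2])))) (.node (.node (.node (.leaf [1]) (.leaf [19706076, -1469419, 63737211, 35131511, -44576943, -1001178, -193033, -25025554, -517053, 4002440, -208327, -21493, -45141, 7319, 3502, 49, -9])) (.node (.leaf []) (.leaf [-248831945, 94262347, -764765414, -383893831, 472305684, 18230518, 42672743,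 285805779, -42291654, -28487634, 895403, -1314037, 1394734, 22187, 10255, 97, 3]))) (.node (.node (.leaf [-231, -300, -560, -395, 509, 75, -38, 227, 180, -192, 27, 1, 3, 0, -1]) (.leaf [1])) (.node (.leaf [355, -28, 922, 419, -570, 16, -60, -277, -2, 15, 0, 0, 1]) (.leaf [3240122, -614403, 8320974, 3749383, -4789332, -112381, -699691, -2639833, 291016, 174198, -11090, 95, -7649, -408, 96, 1])))))) (.node (.node (.node (.node (.node (.leaf []) (.leaf [-248066, 135216, -641204, -258376, 308214, 14992, 82208, 198722, -85104, 19186, -1100, 468, 2143, 290, -34, 3])) (.node (.leaf [46383, -17975, 150823, 78845, -96520, -3729, -5912, -59117, 7704, 6586, -211, 210, -290, -4, 1]) (.leaf [70339755, -28758496, 223135067, 114288718, -139821894, -5860472, -11387097, -85772017, 12456903, 9673920, -283044, 515971, -420057, -450, -7324, 94, -1]))) (.node (.node (.leaf [-15054, 3729, -41371, -19607, 24703, 665, 2960, 14149, -1582, -1281, 36, -32, 43]) (.leaf [])) (.node (.leaf [8756, -1890, 22319, 9999, -12609, -486, -2098, -7092,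 952, 597, -50, 1, -29, -2, 1]) (.leaf [-253897110, 82948070, -749647795, -368768841, 457578486, 15795003, 45413874, 271335883, -37216952, -25395511, 874888, -931423, 1192087, 23967, 3588, 146, 3])))) (.node (.node (.node (.leaf []) (.leaf [26004362, -5626464, 70536336, 33255334, -42079150, -1123854, -5005899, -23787840, 2413359, 2111345, -97103, 38530, -71060, -912, 218, 25])) (.node (.leaf []) (.leaf [-1153, -1047, 2763, 3139, -3546, -299, 1000, -2581, 333, 694, -34, 41, -27, 1]))) (.node (.node (.leaf [350, -51, 890, 399, -527, 0, -75, -272, 14, 22, 0, 1]) (.leaf [122864873, -19539573, 315641959, 144234915, -184669679, -4173174, -25017387, -101334730, 8069877, 8567631, -437178, 34673, -195128, -2648, 2642, 213, 3])) (.node (.leaf [-9716449, 1507317, -23893832, -10398858, 13433014, 234698, 2193208, 7200437, -759035, -323468, 25956, 16305, 16956, 1649, -983, 11]) (.leaf [-39538385, 9481711, -107339702, -50253116, 63424802, 1714773, 7904375, 36088147, -4322366, -2812173, 119790, -49781, 122417, 4370, -1008, 3])))))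 (.node (.node (.node (.node (.leaf []) (.leaf [-2016, 81, -4537, -1875, 2485, 36, 468, 1239, -39, -65, 10, 3])) (.node (.leaf [27650091, -11100113, 75736629, 34130773, -42112704, -1593674, -7147886, -25291053, 5856610, 941847, -10958, 106738, -150382, -10564, -1193, -75, 3]) (.leaf [-1149, 91, -2634, -1105, 1444, 20, 267, 752, -42, -39, 4, 2]))) (.node (.node (.leaf []) (.leaf [1])) (.node (.leaf [1]) (.leaf [486597, -110491, 1231710, 543054, -687719, -18568, -114429, -386924, 57582, 17613, -908, -306, -1311, -120, 11, -1])))) (.node (.node (.node (.leaf []) (.leaf [-196753492, 51171042, -583354677, -291521717, 365212790, 10306624, 28966394, 211699985, -21169862, -21117890, 823772, -207926, 776222, 10956, -14175, 367, 17])) (.node (.leaf [-7, 0, -14, -5, 6, 0, 2, 4]) (.leaf [32824227, -8575576, 93056356, 45035785, -56445144, -1721068, -5931481, -32663730, 3708884, 3084230, -121076, 76352, -116572, -1742, 330, 7]))) (.node (.node (.leaf [29077133, -5864210, 79112908, 37609270, -47636488, -1267698, -5391645, -26869846,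 2348386, 2642572, -119818, 51690, -70827, 840, -202, 51]) (.leaf [-750690, 145185, -2051902, -985489, 1245680, 35640, 134857, 705980, -53843, -78074, 3392, -1761, 1609, -77, 33, -2])) (.node (.leaf []) (.leaf [1])))))))

def twoL197 : Janko.Tree (List ℤ) :=
  (.node (.node (.node (.node (.node (.node (.leaf []) (.leaf [0, 1])) (.node (.leaf []) (.leaf [-219480, 62823, -628104, -304916, 379692, 13240, 40345, 222708, -28366, -20829, 839, -543, 921, 22, -7]))) (.node (.node (.leaf [206, -6, 550, 269, -350, 3, -18, -189, -5, 13]) (.leaf [-388970, 106091, -1049136, -483755, 609947, 14554, 83734, 349175, -49972, -21725, 110, -156, 1123, 92, -4, 1])) (.node (.leaf [19785, -1814, 44599, 18245, -24031, -177, -4895, -12338, 814, 469, -27, -29, 9, 2, -1]) (.leaf [0, 1])))) (.node (.node (.node (.leaf []) (.leaf [-1132262, 647937, -2842261, -1082555, 1287336, 78787, 418110, 827436, -421914, 112202, -3432, 760, 10490, 1524, -129, 15])) (.node (.leaf []) (.leaf [0, 1]))) (.node (.node (.leaf []) (.leaf [366, 147, 459, 104,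 -143, -53, -109, -35, -51, 25, -9, 1])) (.node (.leaf [-139, 67, -378, -163, 211, 4, 53, 114, -28, -14, -1]) (.leaf [-2213, 2021, -6162, -2422, 2623, 451, 1062, 1957, -1313, 136, -4, -5, 40, 6, -1]))))) (.node (.node (.node (.node (.leaf [0, 1]) (.leaf [10113791, 7208197, 7517950, -1600809, -1140003, 1390325, -2866218, 3762759, -3493592, -1207119, -33476, -240911, 135391, 1364, 4572, 21])) (.node (.leaf [0, 1]) (.leaf [23283710, -9246820, 73723123, 38244389, -46653646, -2224951, -3878571, -28830995, 3526691, 4208965, -100780, 265590, -106906, 6626, -6707, 118, 7]))) (.node (.node (.leaf []) (.leaf [0, 1])) (.node (.leaf [305021, -68473, 837308, 396631, -501754, -13409, -57761, -283560, 30043, 24666, -1406, 474, -992, -16, -7]) (.leaf [279485973, 19201474, 563983980, 213001106, -296172486, 2586023, -67945344, -129769006, -10139538, 2862009, -1008772, -1542164, 666032, -6365, 32260, 874, 17])))) (.node (.node (.node (.leaf []) (.leaf [2169223, 2704630, 15984909, 12650030, -16242944, -191329, 3283106, -8852450,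 -2366152, 2612637, -151327, -52640, 7247, 8513, 3512, 39, -9])) (.node (.leaf []) (.leaf []))) (.node (.node (.leaf [-1512, 75, -3600, -1565, 2074, 22, 318, 1040, -16, -82, 8, 1]) (.leaf [-39256061, -3071811, -59061366, -12354652, 20324116, -1075809, 14224640, 4809057, 305275, 3166971, 30378, 222223, -128487, 8513, -3212, -182, -9])) (.node (.leaf [-92499, 22445, -255030, -121172, 152640, 4335, 17783, 87301, -9712, -7826, 275, -175, 268, 4, 1]) (.leaf [1208944, -337622, 3388612, 1610536, -2017935, -62204, -235942, -1166973, 159248, 90439, -4388, 2300, -5031, -186, 50, -1])))))) (.node (.node (.node (.node (.node (.leaf []) (.leaf [-3025, 314, -6782, -2755, 3610, 37, 766, 1878, -149, -64, 2, 4, -1])) (.node (.leaf [0, 1]) (.leaf [845, -69, 1864, 755, -981, -29, -219, -511, 39, 30, -3, -1, -1]))) (.node (.node (.leaf []) (.leaf [0, 1])) (.node (.leaf [-1241, 68, -2628, -1013, 1336, 31, 329, 669, -53, -9, 6, 3, -1]) (.leaf [-74692202, 17283855, -203618110, -95875920, 121197601, 3115402, 14497091, 68737517, -7648414,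 -5614320, 222994, -73750, 216705, 6194, -1676, 51])))) (.node (.node (.node (.leaf [0, 1]) (.leaf [1258593, -314886, 3512239, 1678865, -2109180, -65734, -236692, -1210878, 141578, 107960, -5739, 2806, -4690, -82, 30, 1])) (.node (.leaf [0, 1]) (.leaf [0, 1]))) (.node (.node (.leaf [0, 1]) (.leaf [-151794, 15864, -393908, -186298, 238822, 6219, 27469, 130546, -2975, -17257, 875, -357, 70, -41, 10, -1])) (.node (.leaf []) (.leaf [0, 1]))))) (.node (.node (.node (.node (.leaf []) (.leaf [-42169, 5674, -104778, -46337, 60088, 1061, 9097, 31930, -2504, -2115, 190, -16, 50, 2, -5])) (.node (.leaf [0, 1]) (.leaf [-4989591, 389849, -13206397, -6377495, 8218253, 161764, 779689, 4448771, 4925, -605264, 26594, -4895, -132, -1441, 280, -25]))) (.node (.node (.leaf [-4, 1, -8, -2, 4, -1, 2, 1]) (.leaf [-1328, 32, -2755, -1043, 1396, 20, 351, 674, -34, -5, 8, 3, -1])) (.node (.leaf [221, -33, 517, 217, -284, -3, -59, -148, 13, 12, -1]) (.leaf [1852923, -735664, 4834310, 2046927, -2537635, -87061, -518584, -1497457, 445368,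 -53743, 1522, -3175, -11511, -1574, 282, -15])))) (.node (.node (.node (.leaf [0, 1]) (.leaf [0, 1])) (.node (.leaf []) (.leaf [-4788209, 1084606, -12933637, -6049866, 7651022, 200059, 945761, 4331360, -489589, -340160, 14890, -4330, 13879, 488, -163, 1]))) (.node (.node (.leaf []) (.leaf [81684600, -19641101, 228412525, 110176381, -138446446, -4207810, -14965222, -79637807, 8047227, 8159346, -314434, 235469, -241592, 1349, -2753, 137, 3])) (.node (.leaf []) (.leaf [-58758823, 10753688, -154942003, -71902657, 91628343, 2193846, 11592666, 50886619, -4518453, -4384685, 211831, -34636, 121266, 1705, -778, -42, -1])))))))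

def twoL198 : Janko.Tree (List ℤ) :=
  (.node (.node (.node (.node (.node (.node (.leaf [0, 0, 1]) (.leaf [605745, -146839, 1727895, 846233, -1064059, -30260, -103756, -612362, 56288, 66903, -2160, 1834, -1679, 34, -25, 1])) (.node (.leaf []) (.leaf [9793, -852, 23029, 9808, -12857, -158, -2189, -6652, 382, 340, -42, -4, -2, -1]))) (.node (.node (.leaf [-27058, 5846, -72456, -33804, 42868, 1076, 5450, 24139, -2486, -2095, 84, -44, 65]) (.leaf [-5804, 1700, -19602, -10514, 13215, 388, 489, 7601, -550, -1055, 56, -36, 27, -1])) (.node (.leaf []) (.leaf [-57853, 11408, -149809, -68321, 87057, 1899, 12347, 48522, -4842, -3878, 132, -56, 102, 0, 1])))) (.node (.node (.node (.leaf []) (.leaf [-306581614, 7293613, -695457370, -288787757, 387408938, -292112, 67032234, 188223670, -3194494, -5791697, 936639, 1756554, -124447, 29568, -41721, 689, -1])) (.node (.leaf [0, 0, 1]) (.leaf [3052917, -765146, 8648497, 4191844, -5262263, -158298, -541374, -3032252, 326573, 291651, -12087, 6604, -10501, -140, 56, 1]))) (.node (.node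 (.leaf [0, 0, 1]) (.leaf [-53, 15, -145, -70, 87, 0, 9, 53, -6, -3])) (.node (.leaf [1, 0, 3, 1, -1, 0, 0, -1]) (.leaf [-27350, 9114, -79177, -38283, 47678, 1482, 5417, 28088, -4063, -2503, 40, -81, 118, 3, -1]))))) (.node (.node (.node (.node (.leaf []) (.leaf [])) (.node (.leaf [494331, -108296, 1323780, 617544, -782117, -20053, -99766, -441605, 46731, 37715, -1386, 588, -1214, -12, -9]) (.leaf [-6, -4, -7, -3, 4, 0, 0, 2, 2]))) (.node (.node (.leaf [1818, -288, 4698, 2116, -2782, -10, -406, -1438, 96, 132, -14, 1, -1]) (.leaf [21060, -5557, 60096, 29109, -36690, -939, -3801, -21015, 2291, 1993, -59, 54, -68])) (.node (.leaf [59, -7, 146, 65, -86, 0, -12, -44, 2, 3]) (.leaf [0, 0, 1])))) (.node (.node (.node (.leaf []) (.leaf [51001500, -26893403, 157335484, 77563948, -93074766, -5262839, -12021717, -59652270, 12575098, 6324175, -144787, 682800, -363885, -996, -15304, 331, 7])) (.node (.leaf []) (.leaf [0, 0, 1]))) (.node (.node (.leaf [-47, 7, -126, -58, 77, 0, 9, 39, -2, -3]) (.leaf [177066654, -32889833,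 462444775, 212965136, -271245436, -6785123, -36262401, -150821640, 13944791, 12973756, -603576, 183022, -347432, -4642, -46, 240, 11])) (.node (.leaf [351, -29, 918, 418, -569, 16, -60, -276, -2, 16, 0, 0, 1]) (.leaf [25395466, -5421090, 71340646, 34752495, -43810924, -1254718, -4293229, -24995342, 2081638, 2703164, -114450, 53895, -69219, 1317, -170, 38, -1])))))) (.node (.node (.node (.node (.node (.leaf []) (.leaf [122321648, -23089376, 322903855, 149044724, -190346734, -3875616, -24044689, -105246298, 10317448, 7495528, -355088, -95752, -278851, -13932, 7628, -156, -1])) (.node (.leaf [1699, -338, 4669, 2232, -2855, -57, -315, -1585, 106, 179, -3, 6, -1]) (.leaf []))) (.node (.node (.leaf [0, 0, 1]) (.leaf [])) (.node (.leaf []) (.leaf [-67876135, 4997396, -163692587, -71680263, 94149598, 787953, 13870387, 48447503, -1914970, -2870755, 203642, 252905, 17361, 4875, -7596, 83])))) (.node (.node (.node (.leaf [-21566, 5229, -59937, -28673, 36120, 1006, 4036, 20675, -2197, -1938, 70, -54, 68, 0, -1]) (.leaf [0,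 0, 1])) (.node (.leaf [35599430, -8833998, 102188167, 50134385, -62921745, -1839655, -5958261, -36314407, 3593362, 3733103, -137982, 73202, -116547, -422, -36, 5, -1]) (.leaf [-833314604, 79552243, -1893424557, -770660875, 1018422873, 7277492, 204678465, 515034776, -44456200, -7238387, 1617258, 2930262, 422811, 161771, -98681, 596, -33]))) (.node (.node (.leaf [-2284, 680, -6623, -3236, 4044, 132, 425, 2358, -286, -246, 8, -9, 9]) (.leaf [0, 0, 1])) (.node (.leaf [29325, -11232, 96599, 50966, -62508, -2304, -3427, -38173, 4617, 4472, -146, 152, -180, 3, -1]) (.leaf [-85535622, 23669708, -240788900, -114958865, 144199794, 4119162, 16263082, 83311324, -10928380, -6516514, 243104, -112422, 326866, 12859, -2002, 177, 1]))))) (.node (.node (.node (.node (.leaf []) (.leaf [-62, -14, 67, 96, -137, 30, 62, -73, -11, -1, 2, 1, 1])) (.node (.leaf [-2865640, 694033, -7862466, -3712579, 4675675, 134222, 555713, 2670696, -317653, -216045, 10028, -3174, 9629, 327, -121, 1]) (.leaf [0, 0, 1]))) (.node (.node (.leaf [0, 0, 1])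 (.leaf [-1465790, 304969, -3925408, -1836645, 2328609, 59810, 289364, 1310716, -129212, -115726, 4706, -1768, 3400, 28, 48, -1])) (.node (.leaf [94, -15, 249, 116, -150, 0, -17, -82, 4, 7]) (.leaf [0, 0, 1])))) (.node (.node (.node (.leaf []) (.leaf [-217074493, 61217078, -633008777, -310521555, 388473028, 11161812, 36256730, 225954162, -27217361, -19749716, 687140, -215720, 893386, 28800, -15656, 629, 5])) (.node (.leaf [0, 0, 1]) (.leaf [0, 0, 1]))) (.node (.node (.leaf [18907984, -1340819, 38186613, 13407643, -18311895, 104668, -5588644, -8465879, 1053196, -692401, -2404, -92304, 7512, -5872, 2044, -27, 3]) (.leaf [30355913, -7420596, 85956501, 41542731, -52297457, -1439170, -5269166, -29927946, 3269476, 2605584, -120160, 30535, -110007, -3150, 2259, -30, -1])) (.node (.leaf [0, 0, 1]) (.leaf [775, 8, 1876, 841, -1120, -9, -136, -553, -19, 52, -7])))))))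

def twoL199 : Janko.Tree (List ℤ) :=
  (.node (.node (.node (.node (.node (.node (.leaf []) (.leaf [1086883, -2545451, 9960952, 6862049, -7807923, -539644, 542789, -5662197, 1008360, 999050, -2514, 58452, -41403, 639, -560, -27])) (.node (.leaf []) (.leaf [3749, -338, 8830, 3747, -4945, -47, -871, -2514, 138, 149, -18, -2]))) (.node (.node (.leaf []) (.leaf [-85, 46, -564, -374, 477, 13, -36, 264, -2, -60, 4, -2, 1])) (.node (.leaf [3590, -205, 7558, 2897, -3860, -10, -942, -1923, 115, 2, -3, -7, 3]) (.leaf [-907711, 275267, -2617947, -1262502, 1576679, 47665, 164908, 919602, -132593, -65133, 2375, -703, 4243, 261, -101, 3])))) (.node (.node (.node (.leaf []) (.leaf [])) (.node (.leaf []) (.leaf []))) (.node (.node (.leaf []) (.leaf [99056, -24308, 275179, 131624, -165625, -4622, -18608, -95064, 10299, 8822, -294, 196, -292, -4, -1])) (.node (.leaf []) (.leaf [-5790, 2267, -14363, -5871, 7317, 233, 1865, 4285, -1253, 18, -22, 3, 29, 4, -1]))))) (.node (.node (.node (.node (.leaf []) (.leaf [-15000167, 3283365,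 -40019081, -18532238, 23498723, 603054, 3051680, 13207577, -1506352, -991454, 50276, -12272, 42698, 1568, -484, 1])) (.node (.leaf [115629, -23024, 300397, 137929, -175304, -4076, -24398, -98433, 9345, 8566, -126, 122, -142, 3, -3]) (.leaf [2246083, -276931, 5224229, 2172226, -2842809, -39288, -556830, -1475085, 137613, 58165, -5386, -2494, -1609, -217, 98, 1]))) (.node (.node (.leaf []) (.leaf [-209, 9, -481, -203, 271, 1, 44, 134, -3, -5, 1])) (.node (.leaf [334, -706, 2476, 1543, -1902, -27, -17, -1197, 218, 228, 14, 22, -3]) (.leaf [8194240, -1098779, 20734281, 9377244, -12092987, -230855, -1664850, -6514016, 450788, 513746, -33389, -3924, -11483, -174, 203, 15])))) (.node (.node (.node (.leaf [55037934, -14589618, 154826151, 74252262, -93177344, -2712615, -10269506, -53783476, 6505653, 4629740, -172367, 99744, -197283, -5514, 1876, -37, 1]) (.leaf [-59809413, 15229927, -171066634, -83668212, 104845609, 3241799, 10360302, 60719065, -6242641, -6328597, 239258, -169397, 199838, -486, 1326, -59])) (.node (.leaf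 [-6030, 633, -11072, -3321, 4693, -174, 2137, 2055, -358, 313, -30, 10, -13, 0, -1]) (.leaf [-196327822, 58756452, -617657580, -322101543, 398668034, 14809085, 24461274, 237738696, -21643920, -31415284, 1169060, -1045941, 872714, -28589, 9534, -443, 9]))) (.node (.node (.leaf []) (.leaf [-111073659, 29942276, -309756922, -147203617, 184872061, 5267956, 21604132, 106521362, -13626386, -8600628, 300092, -172759, 391789, 12291, -1753, 226, -7])) (.node (.leaf [-512947, 52641, -1191645, -500570, 657126, 7869, 123661, 339162, -21960, -19456, 1018, 412, -57, 23, 32, -1]) (.leaf [-352, -15, -1218, -777, 869, 108, -66, 620, 4, -136, 16, -1, 5])))))) (.node (.node (.node (.node (.node (.leaf []) (.leaf [])) (.node (.leaf []) (.leaf [888, -80, 2072, 873, -1156, -9, -210, -583, 31, 33, -2, -1]))) (.node (.node (.leaf []) (.leaf [-6226, 735, -14627, -6187, 8087, 103, 1506, 4221, -322, -245, 17, 8, -2, 0, 1])) (.node (.leaf [4720, -1125, 11935, 5231, -6573, -287, -1212, -3692, 652, 226, -38, -11, -22, -2, 1]) (.leaf [4039,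 -397, 9508, 4054, -5323, -44, -936, -2754, 148, 174, -12, -3, 1])))) (.node (.node (.node (.leaf []) (.leaf [-26347034, 10783987, -92201713, -50518432, 61623172, 2651703, 2256737, 38060836, -4009047, -5487598, 174742, -227706, 169441, -5314, 3276, -66, 3])) (.node (.leaf [-735, 410, -1875, -831, 947, 65, 260, 687, -192, -72, -10, 0, 1]) (.leaf [-106951831, 28112789, -307175465, -150166065, 188128876, 5656628, 18463326, 109044919, -11838691, -10764354, 399360, -253233, 381351, 2854, -654, 22, 1]))) (.node (.node (.leaf []) (.leaf [])) (.node (.leaf [-4046, 998, -9842, -4138, 5218, 205, 1130, 2916, -588, -104, 19, 12, 17, 2, -1]) (.leaf [-125524005, 30976059, -345444528, -163190865, 205717329, 5543860, 24307923, 117413914, -14057732, -9300845, 377691, -130929, 408943, 14668, -3107, 136, 1]))))) (.node (.node (.node (.node (.leaf []) (.leaf [-990, 75, -2220, -908, 1197, 27, 252, 604, -35, -40, 3, 1])) (.node (.leaf []) (.leaf [84158, 14393, 154640, 55892, -81483, 2371, -21562, -31943, -10910, 4998, -190, -42, 568,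 49, -24, 1]))) (.node (.node (.leaf []) (.leaf [-14986, 3665, -41171, -19539, 24580, 703, 2923, 14111, -1574, -1292, 44, -31, 45])) (.node (.leaf []) (.leaf [64722528, -17093753, 186700584, 91713420, -114712318, -3647182, -11072244, -66721184, 7069579, 6977143, -266866, 196214, -231293, 118, -1415, 63, -1])))) (.node (.node (.node (.leaf []) (.leaf [-135524116, 7276669, -323801198, -141532455, 186419233, 1420702, 27255881, 95166892, -2391377, -5897080, 466394, 539602, 8525, 6114, -19050, 43, 3])) (.node (.leaf [2943661, -27267, 5629599, 1885348, -2646111, 41924, -875238, -1134211, 56536, -101569, 1020, -17346, 5801, -644, 348, -6, 1]) (.leaf [-57745427, 8397632, -139711537, -59710959, 77712457, 813910, 13217104, 40965889, -4436906, -988901, 92540, 196920, 86828, 13813, -7362, 147, 1]))) (.node (.node (.leaf []) (.leaf [])) (.node (.leaf [1457, 10, 2954, 1109, -1487, -4, -360, -720, 16, -18, -4, -7, 1]) (.leaf [2295, -90, 4837, 1863, -2504, 12, -581, -1225, 42, -1, 0, -4, 2])))))))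

def twoL200 : Janko.Tree (List ℤ) :=
  (.node (.node (.node (.node (.node (.node (.leaf [-31187421, 9263000, -85435347, -39418823, 49452496, 1346206, 6631957, 28531748, -4787046, -1295618, 60980, 2142, 139749, 10615, -2792, 92, 3]) (.leaf [67, -19, 198, 94, -126, 0, -15, -62, 6, 7])) (.node (.leaf [1]) (.leaf [-709763, 188253, -1991430, -952960, 1194118, 38130, 134760, 689908, -85988, -60058, 2937, -1485, 2797, 74, -25]))) (.node (.node (.leaf [-26759, 5999, -72161, -33914, 42867, 1142, 5359, 24337, -2487, -2276, 70, -48, 67, 0, -1]) (.leaf [-5357929, 1270941, -14724621, -6975499, 8785734, 255586, 1024468, 5016643, -572928, -424281, 20706, -7602, 17893, 429, -246, 1])) (.node (.leaf [1]) (.leaf [-13712, 3513, -39095, -18995, 23862, 720, 2440, 13731, -1478, -1365, 62, -41, 46, 1])))) (.node (.node (.node (.leaf []) (.leaf [552350, -46471, 1504882, 748589, -958120, -21971, -78115, -528737, -6910, 84576, -2821, 1576, 300, 258, -63, 3])) (.node (.leaf [1]) (.leaf [5916, -492, 12480, 4776, -6278, -118, -1651, -3198,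 298, 66, -16, -10, 0, 1]))) (.node (.node (.leaf []) (.leaf [-31382272, 6588841, -85098343, -40141275, 50851533, 1322202, 5949247, 28656269, -2833803, -2499343, 115921, -29064, 83988, 1663, -894, -7])) (.node (.leaf []) (.leaf [1]))))) (.node (.node (.node (.node (.leaf [-10, 0, -18, -6, 8, 0, 3, 4]) (.leaf [1])) (.node (.leaf []) (.leaf [470223, -105378, 1269148, 595395, -753174, -19588, -93515, -426598, 45098, 37343, -1327, 645, -1187, -8, -11]))) (.node (.node (.leaf []) (.leaf [37844180, -9365054, 104626602, 49758649, -62580135, -1844539, -7278380, -35904966, 4117250, 3202531, -135155, 82952, -123487, -2056, 214, 27])) (.node (.leaf [62393, -10931, 160976, 73398, -94108, -1732, -12849, -51737, 4417, 4044, -124, 60, -82, 2, -3]) (.leaf [-2069308, 952094, -7042022, -3762483, 4566163, 205159, 264851, 2857607, -387206, -375916, 8943, -19619, 13653, -276, 389, -3])))) (.node (.node (.node (.leaf []) (.leaf [1])) (.node (.leaf [9316, -1581, 23718, 10657, -13806, -133, -2006, -7435, 593, 546, -11, 6, -6, 0, -1])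 (.leaf [-16230064, 4077521, -41758375, -18407247, 23378078, 533101, 3830705, 13088471, -2159571, -412882, 21062, 14209, 52522, 4933, -863, 63]))) (.node (.node (.leaf [-64, 17, -182, -85, 112, 0, 14, 58, -6, -5]) (.leaf [1])) (.node (.leaf [2640, -321, 6332, 2730, -3564, -66, -626, -1860, 128, 145, -8, 2, -2, 1]) (.leaf [1])))))) (.node (.node (.node (.node (.node (.leaf []) (.leaf [-111806090, 19438809, -285901364, -128737715, 165171585, 3145600, 23500091, 90231441, -9027117, -5584689, 305612, 117938, 221080, 14578, -6868, 69, 1])) (.node (.leaf [-10856638, 2840119, -29986752, -14195555, 17827271, 522803, 2145139, 10270917, -1280746, -856274, 30321, -21000, 36327, 1096, -62, -1]) (.leaf [221511016, -46425918, 599744212, 281639054, -357687406, -8194442, -41865290, -200474079, 20582828, 15545867, -698890, -57001, -605237, -20416, 13159, -457, -5]))) (.node (.node (.leaf [18524, -5372, 54178, 26604, -33377, -916, -3234, -19335, 2222, 1908, -54, 56, -68, 1]) (.leaf [50744, -15989, 153049, 76772, -95236, -3453, -8147,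 -56425, 6880, 5966, -212, 188, -237, -3, 1])) (.node (.leaf [1]) (.leaf [2315, -311, 4832, 1787, -2360, 19, -679, -1226, 161, -39, 8, -5, 3])))) (.node (.node (.node (.leaf []) (.leaf [-8771, 34, -18655, -7293, 9876, 49, 2170, 4650, -36, -124, 34, 28, -10])) (.node (.leaf [-150409712, 41742639, -437977549, -215705665, 269582168, 8344244, 25447080, 157213974, -17569790, -15812757, 558600, -412576, 572489, 3362, 426, 62, 3]) (.leaf [72, 4, 186, 83, -118, 2, -13, -49, -4, 5, -1]))) (.node (.node (.leaf []) (.leaf [])) (.node (.leaf [1]) (.leaf [-1812783, 654485, -5739679, -2994878, 3669796, 162682, 272902, 2244095, -239502, -330076, 9688, -18187, 8030, -599, 445, -9]))))) (.node (.node (.node (.node (.leaf [1]) (.leaf [26289856, 40561421, -75785163, -82659226, 85744636, 10984378, -20679478, 74809372, -14692472, -20401289, 382062, -1678392, 768357, -40910, 32568, -414, 15])) (.node (.leaf []) (.leaf [-21720, 5530, -61834, -29933, 37788, 953, 3880, 21554, -2271, -2044, 73, -55, 67, -1]))) (.node (.node (.leaf [])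 (.leaf [-13912, 3582, -38710, -18504, 23230, 679, 2672, 13408, -1534, -1251, 40, -34, 45])) (.node (.leaf [11780614, -6015571, 40184390, 21206168, -25622077, -1197708, -1698643, -16181145, 2671644, 1843244, -47988, 109388, -93931, -663, -1062, 3, -1]) (.leaf [14342044, -2650799, 39659056, 19187818, -24319166, -643182, -2412027, -13687464, 978876, 1468494, -69386, 19774, -33632, 828, 283, 25])))) (.node (.node (.node (.leaf [39220887, -7990088, 101645413, 46620845, -58969176, -1762942, -8522791, -33370792, 3331946, 3191046, -135002, 125584, -78548, 2378, -2360, 197, -1]) (.leaf [-1186283638, 184082096, -2944232431, -1295168763, 1671299744, 28829422, 261617257, 899400218, -88204544, -47759286, 3047486, 1723618, 1898420, 168696, -92148, 549, -25])) (.node (.leaf [-4606614, 1030173, -12065124, -5481368, 6954573, 176238, 993342, 3900455, -502146, -239287, 13024, -992, 13429, 801, -164, 3]) (.leaf [-2674867, 510187, -6974867, -3200236, 4070894, 105803, 555016, 2267571, -226718, -184661, 10236, -2256, 6094, 126, 29,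 -5]))) (.node (.node (.leaf [1]) (.leaf [-116285630, 27067682, -310572835, -143184471, 181415710, 4425666, 24026462, 102249827, -12839715, -6698902, 287340, -12205, 343733, 19781, -4612, 206, -1])) (.node (.leaf []) (.leaf [-104764779, 17990670, -277995711, -130075657, 165949625, 3768330, 19700100, 91928476, -7264595, -8195603, 398358, -15140, 207690, 1514, -4138, -57])))))))

def twoL201 : Janko.Tree (List ℤ) :=
  (.node (.node (.node (.node (.node (.node (.leaf []) (.leaf [4, -2, 9, 3, -5, 1, -2, -2, 1])) (.node (.leaf [-360, 45, -935, -432, 563, 4, 68, 298, -12, -28, 2]) (.leaf [320942592, -31535684, 782242668, 344149566, -448932272, -5733954, -67056944, -234959817, 13158940, 14801379, -1030914, -814235, -215081, -23150, 27902, -48, 3]))) (.node (.node (.leaf [0, 1]) (.leaf [0, 1])) (.node (.leaf []) (.leaf [-2967, 325, -7148, -3092, 4071, 17, 668, 2099, -111, -135, 6, 3, -1])))) (.node (.node (.node (.leaf []) (.leaf [2738730, -574267, 7161362, 3239250, -4145248, -69592, -571083, -2284452, 280855, 106011,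 -4485, -4130, -7300, -664, 337, -5])) (.node (.leaf [-43557778, 4539170, -110761512, -50690977, 65794973, 936403, 8192351, 34932599, -1493438, -2985530, 151641, 84850, 26796, 182, -1476, 9, -1]) (.leaf [6147, -2296, 15288, 6291, -7887, -217, -1927, -4563, 1251, -2, 22, -3, -28, -4, 1]))) (.node (.node (.leaf []) (.leaf [0, 1])) (.node (.leaf [0, 1]) (.leaf [-9511756, 3383671, -24725243, -10446217, 13272709, 121320, 2515270, 7482222, -1976250, 384503, -31619, 41543, 46512, 6205, -1745, 137]))))) (.node (.node (.node (.node (.leaf []) (.leaf [-227348, 51309, -607158, -282236, 356934, 9327, 46739, 202248, -22585, -16736, 622, -278, 576, 14, 3])) (.node (.leaf []) (.leaf [-52240, 11850, -142303, -67108, 84996, 2094, 10170, 48058, -4973, -4249, 155, -94, 130, 1]))) (.node (.node (.leaf [0, 1]) (.leaf [18480089, -4771254, 51079215, 24184269, -30398226, -876936, -3614936, -17469989, 2167357, 1426022, -56382, 31534, -63516, -2013, 336, -5])) (.node (.leaf []) (.leaf [-14339328, 2650451, -39652651, -19185103, 24315624,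 643140, 2411370, 13685599, -978730, -1468385, 69381, -19774, 33632, -828, -283, -25])))) (.node (.node (.node (.leaf [427, -62, 1012, 421, -556, -6, -113, -283, 27, 17, -1]) (.leaf [1259, -108, 2592, 971, -1276, -8, -353, -661, 61, -2, 1, -3, 1])) (.node (.leaf [0, 1]) (.leaf [8490229, -426631, 21331238, 9851088, -12863188, -168857, -1482563, -6723350, -7014, 716311, -40608, -14147, 1664, 1041, 514, 23]))) (.node (.node (.leaf []) (.leaf [3991850, -406773, 12201640, 6673171, -8305045, -388339, -313062, -4866789, -137354, 1084805, -50481, 45568, -3349, 3548, -944, 79])) (.node (.leaf [0, 1]) (.leaf [-17412, 3851, -46639, -21751, 27561, 687, 3530, 15561, -1636, -1341, 46, -29, 42])))))) (.node (.node (.node (.node (.node (.leaf [0, 1]) (.leaf [0, 1])) (.node (.leaf [-8853800, 1016278, -22557608, -10343947, 13347300, 244121, 1681187, 7181457, -366761, -627946, 36384, 10086, 9817, -172, -840, -7]) (.leaf [0, 1]))) (.node (.node (.leaf []) (.leaf [])) (.node (.leaf [-48638, 8666, -125203, -57337, 72952, 1606, 9887,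 40807, -3643, -3199, 46, 40, 36, 10, 3]) (.leaf [0, 1])))) (.node (.node (.node (.leaf []) (.leaf [0, 1])) (.node (.leaf [9573603, -1479473, 25273515, 11858191, -15153606, -344852, -1774985, -8361466, 541513, 824025, -39057, 5210, -14994, 438, -30, 21]) (.leaf [0, 1]))) (.node (.node (.leaf [-8383, 1504, -21444, -9641, 12483, 116, 1819, 6738, -571, -487, 8, -6, 4, 0, 1]) (.leaf [-17524, 5288, -51677, -25482, 31908, 893, 3031, 18578, -2190, -1841, 43, -56, 67, -1])) (.node (.leaf []) (.leaf [2030605, -559360, 5633531, 2659905, -3337187, -99397, -406774, -1926071, 261274, 147919, -6241, 4194, -7695, -271, 40, -1]))))) (.node (.node (.node (.node (.leaf []) (.leaf [-1136, 111, -2755, -1204, 1583, 23, 253, 811, -37, -67, 3, 0, 1])) (.node (.leaf [291753560, -92665117, 871411177, 433072652, -538089393, -17876949, -48664125, -318142700, 40608294, 30943799, -1069609, 937042, -1354076, -23185, 602, -306, -9]) (.leaf [-24894, 5972, -68999, -32859, 41577, 1010, 4719, 23584, -2478, -2134, 71, -50, 67, -1]))) (.node (.node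 (.leaf [0, 1]) (.leaf [6106, 1028, 12718, 5372, -7275, -92, -1157, -3368, -620, 497, -62, -43, 21, 0, -2])) (.node (.leaf [0, 1]) (.leaf [2064816, -951702, 7031041, 3757635, -4559710, -205234, -263919, -2854329, 387164, 375669, -8939, 19626, -13660, 276, -389, 3])))) (.node (.node (.node (.leaf []) (.leaf [94509, 2564608, -2590655, -1260513, 1036102, 140100, 217956, 1364778, -1663220, 632588, -48523, 20924, 48597, 6898, -2193, 132, -1])) (.node (.leaf []) (.leaf [-103561575, 21530623, -278664116, -130751826, 165748577, 4277182, 20081825, 93274262, -9244764, -8093715, 362526, -104146, 261561, 5009, -1417, -47, -1]))) (.node (.node (.leaf [-81941132, 1860971, -186138882, -78194527, 104255937, 552162, 17972095, 51480810, -238278, -3040800, 291978, 296326, -59248, -228, -6523, -89, -1]) (.leaf [0, 1])) (.node (.leaf [-41709, 8728, -112333, -52868, 67065, 1524, 7982, 37863, -3481, -3384, 82, -79, 86, -2, 1]) (.leaf [744, -60, 1708, 715, -938, -10, -174, -484, 27, 24, -3, -1])))))))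

def twoL202 : Janko.Tree (List ℤ) :=
  (.node (.node (.node (.node (.node (.node (.leaf []) (.leaf [0, 0, 1])) (.node (.leaf [-794, 100, -1950, -860, 1110, 30, 180, 591, -46, -51, 6, 0, 1]) (.leaf [0, 0, 1]))) (.node (.node (.leaf [2335, -218, 5674, 2491, -3270, -18, -482, -1700, 70, 106, -4, -1]) (.leaf [365527, -73653, 995571, 475806, -601219, -17006, -67652, -341206, 28024, 36672, -1442, 822, -798, 24, -12, 1])) (.node (.leaf [29184, -6314, 78534, 36720, -46663, -1060, -5789, -26186, 2642, 2228, -80, 44, -66, 1]) (.leaf [2536611, -677910, 7122650, 3409082, -4276808, -124142, -476949, -2470510, 304925, 207203, -7078, 4009, -9024, -300, 82, -3])))) (.node (.node (.node (.leaf []) (.leaf [0, 0, 1])) (.node (.leaf [489858, -113806, 1271867, 571136, -724711, -18595, -110658, -406036, 57099, 22424, -1459, 98, -1491, -101, -4]) (.leaf [-23564, 7034, -69578, -34454, 43036, 1294, 4008, 25181, -2894, -2610, 74, -84, 90, 1]))) (.node (.node (.leaf []) (.leaf [])) (.node (.leaf [-71, 55, -193, -78, 97, 4, 37, 58, -26,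 -6, -1]) (.leaf [-75318657, 5760075, -179536882, -77696750, 102086804, 971473, 16043160, 52440848, -2361059, -2980413, 245682, 234318, 25535, 4688, -7281, 10]))))) (.node (.node (.node (.node (.leaf [0, 0, 1]) (.leaf [-480637120, 129709129, -1322425270, -621621484, 780834053, 22704836, 97920370, 449649645, -59916115, -34889959, 1293983, -979071, 1681015, 59127, -1404, 204, -11])) (.node (.leaf []) (.leaf [0, 0, 1]))) (.node (.node (.leaf []) (.leaf [0, 0, 1])) (.node (.leaf [0, 0, 1]) (.leaf [0, 0, 1])))) (.node (.node (.node (.leaf [0, 0, 1]) (.leaf [-187, 100, -656, -317, 435, -37, 27, 218, -35, 13, -4, 1])) (.node (.leaf [21850, -4301, 56903, 25881, -33370, -484, -4741, -18156, 1639, 1502, -28, 44, -24, 0, -1]) (.leaf [-34877867, 7064173, -88347722, -38972245, 49914386, 963895, 7903500, 27378615, -3595747, -1141008, 64472, 48101, 83208, 7913, -2005, 89]))) (.node (.node (.leaf [-69, 19, -199, -95, 126, 0, 15, 64, -6, -7]) (.leaf [64, -9, 162, 71, -94, 0, -14, -48, 3, 3])) (.node (.leaf [-1825128, 520088, -5062313,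 -2386591, 2994343, 84670, 372955, 1732305, -238242, -133698, 3846, -4428, 6471, 174, 58, 1]) (.leaf [11024, -2153, 28771, 13191, -16797, -408, -2300, -9353, 938, 754, -36, 13, -23])))))) (.node (.node (.node (.node (.node (.leaf []) (.leaf [-5197, 1549, -17599, -9465, 11838, 408, 445, 6864, -531, -979, 62, -34, 28, -1])) (.node (.leaf [10937651, -1342229, 27941299, 12788487, -16509629, -278221, -2087684, -8879697, 511272, 720394, -38327, -17724, -11985, -466, 798, 3]) (.leaf [-5382055, 549252, -12038838, -4812906, 6369730, 44686, 1386549, 3212457, -303167, -32979, 5631, 17086, 853, 981, -460, 8, -1]))) (.node (.node (.leaf []) (.leaf [12562728, -979096, 32088219, 14833082, -19287280, -281757, -2188910, -10168001, 270341, 912274, -60743, -32006, -8884, 119, 1141, -3])) (.node (.leaf [-85338, 21500, -251191, -125673, 157186, 4836, 12810, 91513, -8398, -10138, 424, -272, 288, -2, 3]) (.leaf [1440995, -400996, 4014850, 1899571, -2381364, -72228, -285868, -1375995, 189570, 103940, -4773, 2704, -5817, -218, 50, -1]))))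 (.node (.node (.node (.leaf [0, 0, 1]) (.leaf [3670367, -931649, 9945692, 4628707, -5822964, -170945, -755167, -3333766, 447590, 235293, -11748, 4194, -13128, -580, 180, -3])) (.node (.leaf [22141, -5624, 63387, 30794, -38907, -966, -3885, -22150, 2282, 2134, -78, 58, -68, 1]) (.leaf [11541603, -11846779, 34797068, 14436129, -16183286, -1254067, -4993099, -12089789, 6879955, -1024005, 97431, 176499, -180319, -15736, -1291, -15, -3]))) (.node (.node (.leaf []) (.leaf [1731, -264, 4047, 1688, -2197, -24, -446, -1166, 117, 60, -4, 1])) (.node (.leaf []) (.leaf [0, 0, 1]))))) (.node (.node (.node (.node (.leaf [-36, 9, -89, -40, 50, 0, 8, 30, -4, -1]) (.leaf [-33303950, 35818635, -178325088, -111422260, 129853928, 8404166, -2631632, 89007362, -14167570, -15236903, 367262, -1016946, 615371, -17460, 16688, -146, 9])) (.node (.leaf [181399621, -72784393, 586001856, 303539778, -372157667, -14740034, -26057923, -227116409, 31348579, 25351543, -783921, 1089672, -1117487, -6461, -9064, -153, -9]) (.leaf [0, 0, 1]))) (.node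 (.node (.leaf []) (.leaf [-2236212, 656603, -6534991, -3221288, 4008648, 139744, 390025, 2358464, -281452, -244762, 9584, -8626, 9349, 51, 28, -2])) (.node (.leaf [-72762, 24147, -223645, -113465, 140363, 4793, 10923, 83926, -10256, -8840, 289, -262, 360, 3, -1]) (.leaf [-16808, 2685, -40587, -17519, 22517, 438, 3973, 12264, -1260, -686, 30, 2, 17, 3, 1])))) (.node (.node (.node (.leaf [0, 0, 1]) (.leaf [0, 0, 1])) (.node (.leaf [-425587, 59412, -1053414, -464646, 600953, 12284, 93939, 321037, -26456, -22410, 1924, -412, 611, 4, -4, -1]) (.leaf [219, -29, 551, 243, -321, -1, -45, -165, 11, 7, 0, 0, 1]))) (.node (.node (.leaf []) (.leaf [-4359292, 339353, -9315993, -3548135, 4766103, 3510, 1184827, 2312156, -206243, 34495, 2412, 16479, -1892, 841, -384, 7, -1])) (.node (.leaf []) (.leaf [-31830580, -4818975, -24341906, 11682990, -7935783, -3821092, 15559183, -13965597, -1123458, 10223397, -294800, 714748, -144738, 38886, -16022, 479, -7])))))))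

def twoL203 : Janko.Tree (List ℤ) :=
  (.node (.node (.node (.node (.node (.node (.leaf []) (.leaf [-6084944, 4955262, -24810171, -13891218, 16356311, 942638, 650062, 10957246, -2269568, -1292524, 23100, -98248, 82231, 1109, 907, 10, 1])) (.node (.leaf [-2233, 185, -5636, -2554, 3351, 49, 433, 1726, -50, -161, 14, -1, 1]) (.leaf [4256, -349, 9336, 3713, -4912, -36, -1105, -2485, 173, 72, -11, -7, 2]))) (.node (.node (.leaf [-7760, 2036, -22310, -10992, 13735, 483, 1396, 7988, -792, -977, 31, -23, 28, 0, -1]) (.leaf [-2966414, 578013, -7782510, -3588118, 4558944, 119562, 608333, 2547999, -254127, -212274, 10959, -2901, 6792, 122, 24, -4])) (.node (.leaf [-78826628, 20657325, -223382063, -107865725, 135320930, 3981186, 14244283, 78137853, -9079964, -7021146, 278274, -147936, 286553, 6636, -2350, 33, 1]) (.leaf [-59732, 11583, -153909, -69939, 89195, 1914, 12846, 49611, -4927, -3906, 133, -53, 101, 0, 1])))) (.node (.node (.node (.leaf []) (.leaf [5284717, -540323, 11810770, 4716494, -6242464, -43656, -1363602,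 -3147780, 299552, 29191, -5277, -16940, -816, -986, 471, -8, 1])) (.node (.leaf [-29968593, 7292801, -83473536, -39840931, 50236949, 1318368, 5524343, 28659027, -3240694, -2376131, 98831, -24468, 100092, 2875, -1256, 43, 1]) (.leaf [-247, 13, -667, -309, 424, -16, 31, 204, 4, -5, 0, 0, -1]))) (.node (.node (.leaf []) (.leaf [71845, -18333, 201832, 99448, -125037, -2803, -13317, -73093, 4671, 10246, 431, 298, 115, 19, -12])) (.node (.leaf [-278, 67, -704, -303, 399, 5, 78, 206, -27, -17, -1]) (.leaf [172790, -33760, 396608, 158461, -203035, -4933, -47453, -110483, 21002, -1687, -320, -272, -460, -55, 10]))))) (.node (.node (.node (.node (.leaf [46677817, 8710689, 83407169, 27533721, -41362924, 1855554, -11521326, -14269298, -4126346, -1272481, -121498, -510644, 200478, -3440, 11378, -21, 1]) (.leaf [189, -26, 530, 253, -340, 13, -23, -175, 0, 8, 2, 0, 1])) (.node (.leaf [149167, -29254, 405382, 191784, -243537, -6323, -27492, -136260, 12453, 12249, -792, 219, -423, -4, -5]) (.leaf [-109317, 25270, -300037, -142283,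 179912, 4530, 20864, 102144, -10587, -9165, 346, -221, 291, 3, -1]))) (.node (.node (.leaf []) (.leaf [18687105, -4866465, 51559484, 24355290, -30608206, -885126, -3691287, -17596131, 2230970, 1403133, -55589, 30946, -64933, -2263, 372, -7])) (.node (.leaf []) (.leaf [-111253, 27194, -304289, -143667, 180770, 5071, 21769, 103714, -12076, -8692, 303, -183, 338, 7, 1])))) (.node (.node (.node (.leaf []) (.leaf [12851, -2438, 33278, 15161, -19370, -422, -2719, -10714, 1046, 838, -36, 12, -22, 1])) (.node (.leaf []) (.leaf [31842805, -5111021, 91592287, 45659333, -58092616, -1204565, -4078263, -32420286, 1697284, 3416422, -170666, -40106, -82777, 292, 4474, -26, -5]))) (.node (.node (.leaf [284, -33, 700, 307, -406, 0, -61, -209, 8, 15, 0, 1]) (.leaf [333418, 29008, 770516, 343871, -455323, -13050, -58187, -222995, -17635, 29756, -4690, -548, -139, 46, 84, 3])) (.node (.leaf []) (.leaf [8483, -2196, 23481, 11153, -14038, -369, -1661, -8065, 946, 704, -18, 15, -25, 1])))))) (.node (.node (.node (.node (.node (.leaf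 []) (.leaf [4333558, -315308, 9211071, 3491295, -4697407, 1829, -1176799, -2268549, 197935, -45438, -1354, -18728, 2331, -910, 444, -9, 1])) (.node (.leaf [2576, -87, 5718, 2323, -3099, -31, -607, -1521, 48, 55, -11, -6, 1]) (.leaf [4556, -412, 10080, 4049, -5347, -26, -1163, -2733, 184, 83, -2, -6, 3]))) (.node (.node (.leaf []) (.leaf [102065, -25544, 283512, 135317, -170302, -4769, -19445, -97708, 10926, 8917, -290, 216, -305, -4, -1])) (.node (.leaf []) (.leaf [3482, -360, 8112, 3433, -4484, -60, -834, -2343, 147, 154, -11, -3])))) (.node (.node (.node (.leaf []) (.leaf [32970632, -7672223, 83494736, 36285349, -46391640, -851439, -7815639, -25556320, 4187666, 454759, -38592, -66630, -102949, -11559, 3548, -132])) (.node (.leaf [-97370741, 13509447, -258275432, -122187004, 156274886, 3663682, 17191549, 85930632, -4595912, -8994527, 475558, -39774, 148065, -6102, -3094, -223, -1]) (.leaf [-14161205, 3598991, -43057541, -22014559, 27542849, 832002, 1848862, 16019802, -1317536, -1920120, 73021, -37219, 52256,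 -1257, 163, 12, 1]))) (.node (.node (.leaf [65, -17, 180, 85, -110, 0, -14, -59, 6, 5]) (.leaf [3322, -219, 7584, 3152, -4172, -33, -774, -2105, 95, 95, -12, -5, 1])) (.node (.leaf []) (.leaf [1548406, -407268, 4307859, 2045894, -2569334, -76205, -299786, -1478571, 187148, 120066, -5412, 2797, -5736, -173, 39, -1]))))) (.node (.node (.node (.node (.leaf []) (.leaf [-19076, 4673, -52644, -25025, 31496, 1080, 3848, 17959, -2014, -1869, 100, -58, 65, 2, -3])) (.node (.leaf [-1, -1, -2, 0, 0, 1]) (.leaf [-22191, 5617, -62667, -30170, 38111, 934, 4063, 21715, -2315, -2017, 66, -51, 66, -1]))) (.node (.node (.leaf []) (.leaf [477672968, -142089114, 1318348255, 616664692, -771928957, -23287981, -101528535, -448466942, 67509266, 31962742, -1030126, 1163086, -1855666, -74422, -7004, -434, 9])) (.node (.leaf []) (.leaf [])))) (.node (.node (.node (.leaf []) (.leaf [13670, -5913, 51200, 28790, -35596, -1087, -580, -21523, 1789, 3225, -22, 154, -70, 9, 1])) (.node (.leaf [-1, 0, -2, -1, 1, 0, 0, 1]) (.leaf [-34205104, 9699287,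 -101750050, -51035911, 63515570, 2159447, 5390809, 37393442, -3901856, -4242963, 154368, -128876, 135423, -1394, 785, -36, 1]))) (.node (.node (.leaf [124183668, -34075299, 358621100, 175537705, -219443890, -6863364, -21511126, -127786320, 14678039, 12391715, -475406, 308863, -479978, -6656, 1978, -19, -3]) (.leaf [])) (.node (.leaf [-54, 7, -140, -62, 83, 0, 11, 42, -2, -3]) (.leaf [-54, 6, -139, -62, 82, 1, 11, 42, -2, -3])))))))

def twoL204 : Janko.Tree (List ℤ) :=
  (.node (.node (.node (.node (.node (.node (.leaf [1]) (.leaf [-187197, 30099, -474484, -214296, 275968, 4428, 40017, 150205, -11234, -12687, 334, -92, 130, -7, 7])) (.node (.leaf [151169, -30125, 395127, 180987, -231279, -4526, -31644, -128213, 12503, 10104, -274, 174, -249, -2, -5]) (.leaf [13882, -4819, 41152, 20253, -25067, -1046, -2762, -14874, 2131, 1692, -82, 71, -73, -2, 3]))) (.node (.node (.leaf [-27955, 5951, -74628, -34752, 44107, 1084, 5645, 24792, -2522, -2136, 84, -44, 65]) (.leaf [-29567, 6222, -77924, -35999, 45628, 1154, 6126,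 25724, -2688, -2148, 80, -38, 64, 3])) (.node (.leaf []) (.leaf [5638014, -620137, 12776364, 5173291, -6819693, -59302, -1431429, -3475108, 334098, 58250, -6606, -16431, -1851, -1001, 463, -8, 1])))) (.node (.node (.node (.leaf [1]) (.leaf [-5238826, 993136, -14216736, -6787257, 8592148, 238196, 954803, 4851683, -375435, -516443, 23046, -10733, 11080, -417, 143, -11])) (.node (.leaf [239895393, -81356996, 721422140, 360771706, -445460949, -17221772, -41618516, -267231047, 34665539, 29600140, -993727, 1404302, -1131906, 4536, -21094, 494, 1]) (.leaf [234164512, -31427810, 613418424, 286679264, -368067170, -7345686, -42351024, -200643765, 11372914, 18618415, -962222, -185771, -322351, 594, 13701, 191, -3]))) (.node (.node (.leaf []) (.leaf [-57, 15, -158, -75, 94, 0, 10, 56, -6, -3])) (.node (.leaf []) (.leaf [234138, -36865, 609598, 283931, -363049, -8070, -46171, -200714, 11943, 21767, -736, 495, -201, 27, -18, 1]))))) (.node (.node (.node (.node (.leaf [-3234745, 794795, -8901446, -4210932, 5299219, 154286,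 626085, 3033077, -362370, -249181, 11776, -4796, 11151, 317, -136, 1]) (.leaf [230526, -61912, 636760, 300819, -377076, -11880, -46313, -217877, 28651, 17835, -740, 474, -820, -32, 3])) (.node (.leaf [2228, -276, 4901, 1915, -2541, -41, -644, -1270, 133, 52, -1, 0, 1, 1]) (.leaf [-803119, -1621209, 91676, 395159, 21576, -223722, -19934, -724695, 871342, 7778, 17001, 43926, -25939, -1102, -724, 1]))) (.node (.node (.leaf [-3188, 1336, -12141, -6842, 8427, 362, 122, 5060, -494, -764, 46, -32, 26, -1]) (.leaf [846985, -291973, 2616115, 1322465, -1640101, -50961, -128255, -976189, 126666, 93821, -2272, 2250, -4140, -115, -16, -3])) (.node (.leaf [48133159, -19491296, 144070299, 70484715, -86457011, -3555961, -9723010, -52677808, 9170452, 4665952, -139134, 303160, -279825, -6497, -3924, 21, 1]) (.leaf [-114436, 27632, -311801, -146783, 184892, 5097, 22562, 105810, -12281, -8751, 308, -187, 341, 6, 1])))) (.node (.node (.node (.leaf [1]) (.leaf [149403386, -40072731, 430376005, 210569781, -263649277, -7990618, -25851004,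 -153045126, 16936103, 15096369, -561410, 383613, -548568, -3644, -518, -23, -5])) (.node (.leaf []) (.leaf [1]))) (.node (.node (.leaf [64, -7, 154, 67, -88, 0, -14, -46, 2, 3]) (.leaf [-7226, -18, -15312, -5962, 8106, 40, 1807, 3766, -5, -116, 33, 24, -9])) (.node (.leaf [11316, -2150, 31619, 15486, -19701, -384, -1822, -11128, 546, 1353, -12, 59, -7, 2, 1]) (.leaf [609663881, -202582502, 1761713084, 850075035, -1055658268, -35960862, -119410558, -624936560, 94130887, 52099250, -1660747, 2173149, -2817601, -87342, -12220, -432, 9])))))) (.node (.node (.node (.node (.node (.leaf []) (.leaf [-140748, 25937, -370394, -170911, 218329, 4475, 27688, 120642, -11419, -8851, 364, 132, 259, 28, 13])) (.node (.leaf [1]) (.leaf [-15162787, 847400, -32003914, -12090875, 16329637, 1346, 4090309, 7784781, -567157, 125367, 25952, 58530, -6620, 2851, -1065, -12, -1]))) (.node (.node (.leaf [1]) (.leaf [2481623, -601495, 7002536, 3389412, -4258428, -129012, -438465, -2446999, 257423, 235334, -10610, 4950, -8494, -113, 70, 1]))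 (.node (.leaf [-64, 9, -155, -67, 88, 0, 15, 46, -3, -3]) (.leaf [11486, -3567, 35445, 18045, -22465, -779, -1707, -13201, 1442, 1546, -68, 52, -52])))) (.node (.node (.node (.leaf []) (.leaf [4611532, -1036552, 12423316, 5800034, -7336898, -191736, -914671, -4150184, 470610, 321430, -14464, 3788, -13354, -490, 172, -1])) (.node (.leaf [62623188, -23916404, 190954372, 94891253, -117023422, -4089247, -11003006, -70513951, 11054402, 6078045, -156484, 241722, -352675, -11754, 562, -120, -3]) (.leaf [868759211, -120195363, 2107456920, 911143723, -1181506950, -18504633, -197357238, -627723765, 58617155, 29926198, -2197056, -1549199, -1099433, -122933, 65751, -101, 29]))) (.node (.node (.leaf []) (.leaf [-388504985, 202713715, -1348539279, -717129390, 866497251, 39848172, 52021458, 547274183, -89987502, -62023309, 1595786, -3512448, 3211174, 37247, 29182, 183, 29])) (.node (.leaf []) (.leaf [-154627653, 33748239, -410660556, -189496158, 240431116, 5932727, 31755084, 135019817, -15506853, -9809374, 444579, -77119, 416611,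 17905, -4751, 87, -3]))))) (.node (.node (.node (.node (.leaf [17, -3, 45, 21, -28, 0, -3, -14, 1, 1]) (.leaf [1])) (.node (.leaf [-791947159, 213420278, -2144644659, -993554154, 1249536003, 35945311, 169291194, 717209898, -101548736, -50041440, 1999542, -1497404, 2773823, 115762, -2576, 391, -15]) (.leaf [1]))) (.node (.node (.leaf []) (.leaf [49053, -9068, 123656, 54822, -70584, -1292, -11202, -38340, 3970, 2582, -92, 48, -74, -2])) (.node (.leaf [43721747, 487943, 102958435, 45750508, -60644634, -589703, -8225242, -30408529, -1291512, 3287414, -223992, -108740, 56757, 7856, 2956, 164, 1]) (.leaf [-49, 7, -123, -55, 72, 1, 11, 38, -1, -4, 0, -1])))) (.node (.node (.node (.leaf [-39372407, 7900563, -104473403, -48523217, 61641902, 1551370, 7880116, 34506836, -3417580, -2900351, 135704, -39826, 92867, 1657, -506, -32, -1]) (.leaf [1])) (.node (.leaf [1]) (.leaf [17645800, -4639105, 49960849, 24217440, -30335455, -938628, -3236939, -17597729, 1929446, 1782430, -53866, 50184, -55106, 33, -559, -2, 1]))) (.node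 (.node (.leaf [-18869, 6135, -52424, -24595, 30667, 908, 4166, 18018, -2851, -1372, 12, -28, 65, 9, -1]) (.leaf [-65, 13, -176, -80, 106, 0, 15, 54, -4, -5])) (.node (.leaf [1]) (.leaf [42206753, -11677597, 121947696, 59757011, -74623687, -2409603, -7356144, -43563368, 4991209, 4350722, -166420, 124618, -162017, -1408, -169, 21, -1])))))))

def twoL205 : Janko.Tree (List ℤ) :=
  (.node (.node (.node (.node (.node (.node (.leaf []) (.leaf [-264228, 57626, -708117, -330676, 418940, 10464, 52939, 236567, -24567, -20258, 712, -372, 617, 9, 3])) (.node (.leaf [0, 1]) (.leaf [3422, -74, 10891, 5973, -7695, -159, -57, -4185, -259, 782, -50, 34, 4, 2, -1]))) (.node (.node (.leaf [-82849, 15075, -212252, -96015, 122888, 2543, 17753, 67708, -6442, -5148, 216, -76, 132, -2, 1]) (.leaf [-74610, 18929, -207629, -99087, 124830, 3275, 14237, 71544, -8028, -6444, 196, -158, 220, 3])) (.node (.leaf [0, 1]) (.leaf [0, 1])))) (.node (.node (.node (.leaf []) (.leaf [335263, -72909, 898503, 419108, -532237, -12221, -67274, -299284,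 30462, 25418, -773, 537, -725, -3, -7])) (.node (.leaf [0, 1]) (.leaf [-721058, 221570, -2052451, -1001404, 1241039, 50696, 149008, 739341, -84479, -98118, 2246, -6043, 1944, -173, 232, -3]))) (.node (.node (.leaf [0, 1]) (.leaf [])) (.node (.leaf [0, 1]) (.leaf [0, 1]))))) (.node (.node (.node (.node (.leaf []) (.leaf [])) (.node (.leaf []) (.leaf [8898, -1560, 22717, 10201, -13223, -116, -1929, -7117, 588, 512, -9, 6, -4, 0, -1]))) (.node (.node (.leaf []) (.leaf [9716062, -1837290, 26365677, 12534389, -15914506, -395190, -1757884, -8925337, 726135, 859083, -37748, 8968, -21576, 5, 126, 11])) (.node (.leaf [61412303, -23806052, 186171733, 92455710, -113591043, -4545531, -11421824, -68972893, 10789649, 6772516, -199749, 373794, -339163, -4913, -4596, 33, 1]) (.leaf [0, 1])))) (.node (.node (.node (.leaf []) (.leaf [])) (.node (.leaf [1721503, -346772, 4292997, 1862591, -2389385, -47979, -406242, -1303294, 183760, 42493, -3472, -2155, -4226, -506, 110, -1]) (.leaf [387915062, -32801406, 927895592, 401849114,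 -527077331, -5360239, -82989813, -271967180, 14077108, 14903060, -1189364, -1208304, -171914, -34470, 35846, -74, 1]))) (.node (.node (.leaf [0, 1]) (.leaf [0, 1])) (.node (.leaf [-7706, 1377, -19114, -8375, 10695, 347, 1860, 5823, -725, -406, 42, 15, 21, 2, -1]) (.leaf [-203138371, 53813122, -567471021, -271021095, 339964293, 10277198, 39086003, 196380707, -23853009, -17440606, 674296, -501909, 708441, 13391, 1570, -49, -1])))))) (.node (.node (.node (.node (.node (.leaf []) (.leaf [0, 1])) (.node (.leaf [-208, 21, -492, -210, 276, 0, 46, 143, -8, -6, 1]) (.leaf [2067, -105, 4568, 1851, -2465, -13, -502, -1227, 39, 52, -3, -3, 1]))) (.node (.node (.leaf [98917, -25222, 276744, 132712, -166850, -4719, -18555, -95976, 10758, 8878, -288, 216, -306, -4, -1]) (.leaf [0, 1])) (.node (.leaf [0, 1]) (.leaf [2992, -501, 6947, 2862, -3714, -89, -826, -1962, 242, 116, -4, 0, -2, 1])))) (.node (.node (.node (.leaf []) (.leaf [])) (.node (.leaf [56824916, -2710336, 132910959, 56963590, -75375890, -512571, -12047832, -38003261,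 916301, 2170978, -192505, -208727, 9785, -2561, 5994, 18]) (.leaf [29345908, -228979, 71329124, 31847035, -42350899, -10772, -5012873, -21079729, -167693, 1212940, -124036, -202821, 3554, -2907, 6222, -81, -5]))) (.node (.node (.leaf [0, 1]) (.leaf [2347, -354, 5516, 2317, -3013, -42, -598, -1598, 157, 90, -4])) (.node (.leaf [0, 1]) (.leaf [268237510, -62803698, 732641082, 345761055, -436303848, -11917725, -52097391, -248387096, 27709126, 21073785, -862839, 370770, -797157, -19836, 5342, -6, 3]))))) (.node (.node (.node (.node (.leaf [0, 1]) (.leaf [125, -2, 290, 122, -165, 0, -27, -78, 0, 4, -1])) (.node (.leaf [127905955, -34091771, 357214295, 170080371, -213635089, -6014250, -24513796, -123063647, 15469767, 9946254, -354907, 188166, -453740, -15494, 3814, -174, 1]) (.leaf []))) (.node (.node (.leaf []) (.leaf [0, 1])) (.node (.leaf []) (.leaf [])))) (.node (.node (.node (.leaf []) (.leaf [74423311, -17682823, 206957689, 99715698, -125171416, -4073946, -13924648, -72128893, 7107787, 7827417, -295282, 258514,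 -204474, 3504, -4195, 171, 7])) (.node (.leaf [1239, -122, 2914, 1245, -1627, -19, -278, -854, 48, 48, -2, 1]) (.leaf [17374963, 6787323, -14459540, -30280212, 31693696, 4375634, -13126896, 27082503, 541424, -11719537, 362030, -722371, 162915, -40652, 15999, -505, 7]))) (.node (.node (.leaf []) (.leaf [247151009, -20516624, 603548210, 267313140, -349423637, -4065957, -49839629, -181928572, 7681256, 12411841, -844528, -719974, -110202, -12342, 23746, -58, 1])) (.node (.leaf [346244, -88192, 967758, 464032, -583118, -16630, -65036, -335769, 37665, 31129, -998, 715, -1053, -16, -9]) (.leaf [0, 1])))))))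

def twoL206 : Janko.Tree (List ℤ) :=
  (.node (.node (.node (.node (.node (.node (.leaf []) (.leaf [37392, -9206, 91259, 38370, -48744, -1378, -9904, -27221, 5076, 475, -2, 34, -105, -13, -1])) (.node (.leaf [159, 83, 160, 30, -30, -36, -48, -10, -30, 24, -6, 1]) (.leaf [143219, -44527, 420975, 207095, -257111, -9069, -25198, -151894, 20242, 14312, -635, 382, -696, -20, 1]))) (.node (.node (.leaf [0, 0, 1]) (.leaf [-52532, 11868, -143084, -67475, 85492, 2078, 10209, 48305, -4966, -4264, 154, -94, 130, 1])) (.node (.leaf []) (.leaf [238078920, -51298633, 631383535, 291083047, -369523249, -9039601, -48808929, -207197817, 23666403, 14859846, -701562, 86095, -639466, -29002, 8057, -132, 1])))) (.node (.node (.node (.leaf []) (.leaf [24873, -5692, 65337, 29573, -37542, -918, -5378, -21019, 2903, 1102, -128, 18, -80, -1, 1])) (.node (.leaf [22058196, -4262708, 64248765, 32690940, -41000880, -1392272, -3113116, -23701997, 1073377, 3583481, -137381, 123884, -43447, 7719, -2480, 146, 1]) (.leaf [2780762, -1374134, 13569362,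 8622611, -10482150, -401202, 577904, -6555352, 278880, 1242075, -29586, 29675, -23495, 2092, -584, -13, -1]))) (.node (.node (.leaf [43294568, -10441468, 117317974, 54806129, -69143707, -1919956, -8739740, -39349299, 4825998, 3014237, -133972, 48712, -137603, -5033, 1678, -43, 1]) (.leaf [0, 0, 1])) (.node (.leaf [32, -14, 97, 50, -60, -2, -4, -39, 5, 3, 1]) (.leaf [210127, -30707, 541434, 251007, -321435, -7090, -41813, -177008, 9463, 19517, -673, 435, -134, 26, -18, 1]))))) (.node (.node (.node (.node (.leaf []) (.leaf [0, 0, 1])) (.node (.leaf []) (.leaf [0, 0, 1]))) (.node (.node (.leaf []) (.leaf [0, 0, 1])) (.node (.leaf [68726396, -20906285, 188270421, 87470895, -109256495, -3607060, -15205824, -63736839, 10049408, 4580392, -171096, 227758, -274431, -10341, -2392, 25, 3]) (.leaf [-893763676, 233429986, -2479802509, -1178871525, 1479667739, 44724543, 174530289, 853269859, -104176685, -74417796, 2909674, -2126285, 3044210, 67779, 3011, -359, -13])))) (.node (.node (.node (.leaf [3, 3, 9, 5, -6, 0, 1, -4,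 -2, 1]) (.leaf [])) (.node (.leaf [2433544, -518433, 6445122, 2976394, -3768849, -103509, -498703, -2122603, 240547, 161449, -8872, 1915, -6904, -266, 108, 1]) (.leaf [-418103918, 140024159, -1240257177, -612900755, 758335215, 27904216, 75091607, 452740677, -61823714, -45295129, 1480569, -1970254, 1966142, 23786, 13857, -298, -7]))) (.node (.node (.leaf [61, -7, 153, 67, -88, 0, -13, -46, 2, 3]) (.leaf [2156450, -12294, 6981668, 4108867, -5069937, -298628, -13691, -3022110, -281159, 875335, -40767, 39614, 2005, 3250, -934, 75])) (.node (.leaf [-4228, 1087, -10514, -4528, 5633, 305, 1163, 3218, -662, -184, 38, 10, 22, 2, -1]) (.leaf [0, 0, 1])))))) (.node (.node (.node (.node (.node (.leaf [0, 0, 1]) (.leaf [])) (.node (.leaf []) (.leaf []))) (.node (.node (.leaf []) (.leaf [-9080, 2092, -24722, -11665, 14761, 381, 1798, 8364, -861, -783, 26, -21, 23, -1])) (.node (.leaf []) (.leaf [2986, -502, 6940, 2860, -3712, -88, -824, -1961, 242, 116, -4, 0, -2, 1])))) (.node (.node (.node (.leaf []) (.leaf [16319, -1361,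 36260, 14581, -19285, -211, -4144, -9743, 674, 307, -24, -20, 5, -1])) (.node (.leaf [0, 0, 1]) (.leaf [886788795, -121028987, 2144851379, 925004430, -1200342105, -18459510, -202306702, -636554926, 59219503, 29696663, -2222239, -1625281, -1086388, -126381, 67159, -94, 31]))) (.node (.node (.leaf [4, -2, 19, 10, -14, 1, -1, -6, 1, 1, 0, -1]) (.leaf [2166, -364, 5132, 2162, -2807, -38, -559, -1498, 159, 86, -2, 1])) (.node (.leaf [1765645, -480825, 4919426, 2332924, -2926733, -87326, -346215, -1688961, 223440, 132789, -5788, 3378, -6789, -231, 46, -1]) (.leaf [0, 0, 1]))))) (.node (.node (.node (.node (.leaf []) (.leaf [1, 0, 3, 1, -1, 0, 0, -1])) (.node (.leaf [5337579, -551809, 11960687, 4789121, -6333768, -47101, -1372602, -3199455, 305279, 34003, -5814, -16921, -1109, -991, 467, -8, 1]) (.leaf [-1148, 91, -2631, -1105, 1444, 20, 266, 752, -42, -39, 4, 2]))) (.node (.node (.leaf []) (.leaf [-38639, 18832, -138485, -75424, 91149, 4600, 3695, 57158, -8408, -7047, 324, -280, 355, 8, -5])) (.node (.leaf [0, 0, 1])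 (.leaf [0, 0, 1])))) (.node (.node (.node (.leaf [19875536, -2912737, 50746627, 23096315, -29704833, -567540, -4009210, -16135891, 1178220, 1294187, -60740, -12618, -25370, -650, 864, 7, 1]) (.leaf [123739635, -24951873, 329456610, 153956726, -195144588, -5379924, -24719850, -109818102, 10338486, 10352069, -444884, 234090, -270280, 404, -2804, 223, 9])) (.node (.leaf [58586, -15281, 153836, 69342, -87786, -2034, -13337, -49789, 7347, 2666, -46, 108, -168, -8, -1]) (.leaf [25811776, -1961882, 56144699, 21897812, -29252573, -125910, -6770122, -14370403, 1165206, 12466, -41738, -89494, 3244, -4642, 2066, -1, 3]))) (.node (.node (.leaf [0, 0, 1]) (.leaf [0, 0, 1])) (.node (.leaf [-97048, 24634, -271689, -130405, 164020, 4522, 18121, 94300, -10401, -8793, 286, -217, 298, 4, 1]) (.leaf [-120209, 26358, -324574, -152761, 193123, 5037, 23470, 109633, -11035, -9874, 340, -204, 276, 4, 1])))))))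

def twoL207 : Janko.Tree (List ℤ) :=
  (.node (.node (.node (.node (.node (.node (.leaf []) (.leaf [-2282667, 514795, -6047188, -2771054, 3516579, 84709, 476714, 1973018, -247476, -123397, 6194, -90, 6900, 380, -133, 3])) (.node (.leaf [-10532, 2609, -30514, -14996, 19053, 317, 1727, 10798, -882, -1134, 25, -47, 18, 0, -1]) (.leaf [1099, -175, 2835, 1276, -1669, -21, -247, -868, 65, 81, -9, 2, -1]))) (.node (.node (.leaf []) (.leaf [-212, 42, -461, -185, 223, 24, 68, 135, -26, -16, 0, 0, 1])) (.node (.leaf []) (.leaf [50, 254, 263, 325, -404, -61, 63, -197, -187, 244, -28, -3, -2, 0, 1])))) (.node (.node (.node (.leaf []) (.leaf [158607, -31352, 413366, 188803, -241505, -4681, -33461, -133541, 13060, 10393, -299, 192, -255, -2, -5])) (.node (.leaf [210, -72, 844, 479, -617, -17, -11, -331, 15, 67, -5, 2, -1]) (.leaf [-77589, 16301, -214411, -103071, 130265, 3497, 13809, 73964, -6373, -7537, 333, -185, 182, -2, 3]))) (.node (.node (.leaf []) (.leaf [-20147, 2616, -45810, -18608, 24504, 108, 5253, 12661, -1161,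 -401, 0, 4, -7, 1, -1])) (.node (.leaf []) (.leaf [-3460306, 813683, -9743543, -4721203, 5940231, 172042, 607448, 3405738, -335253, -339798, 14639, -7786, 10972, -38, -48, -3]))))) (.node (.node (.node (.node (.leaf [-5, 0, -10, -3, 5, 0, 2, 1]) (.leaf [-19142859, 3514117, -51115250, -23949658, 30492268, 718238, 3605984, 16970976, -1477355, -1458153, 71484, -1779, 42909, 988, -904, -3])) (.node (.leaf [-2252285, 353004, -6300415, -3112303, 3943362, 114717, 343540, 2219569, -97806, -292768, 15520, -7532, 4666, -580, 14, -11]) (.leaf [-7714451, 1857674, -23154047, -11768855, 14754465, 408391, 1007963, 8548412, -679260, -971950, 26954, -6064, 24127, -164, -764, 27, -1]))) (.node (.node (.leaf [6, 0, 8, 3, -3, 0, -1, -3]) (.leaf [46488971, -7158510, 102409614, 38544259, -51387298, 295726, -13026778, -25519946, 4802710, -2261754, 72714, -292280, -57865, -23244, 8220, -328, 3])) (.node (.leaf [896333, -156842, 2412285, 1150353, -1457415, -41987, -163887, -820498, 56493, 92515, -4590, 2171, -1782, 132, -28, 3]) (.leaf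 [-16455931, 87784, -33180380, -11987459, 16581158, -164710, 4475616, 7386897, -233839, 323303, 28726, 93853, -20760, 3309, -1549, 3, -1])))) (.node (.node (.node (.leaf []) (.leaf [-1736, 164, -4165, -1797, 2371, 21, 388, 1209, -59, -79, 5, 1])) (.node (.leaf []) (.leaf [-428216248, 141008389, -1262884963, -621963054, 770342450, 27982116, 77677515, 458778303, -62363441, -45366145, 1491913, -1936960, 1967098, 25590, 12904, -282, -9]))) (.node (.node (.leaf [699, -15, 1615, 688, -914, -8, -148, -455, 1, 31, -4, -1]) (.leaf [-73272255, -7320944, -141896999, -50939930, 72582275, -1635247, 18077250, 29671013, 3407095, 861691, 200697, 556438, -202843, 5872, -15496, -127, 3])) (.node (.leaf [-1, 0, -13, -10, 13, -1, -2, 7, 0, -1, 0, 1]) (.leaf [-54914634, 2863953, -123517137, -50178004, 67136738, -5232, 12769340, 32843657, -1763868, -188144, 126414, 309933, 1709, 11945, -8681, 116, 1])))))) (.node (.node (.node (.node (.node (.leaf []) (.leaf [25708267, -5466244, 72146905, 35124956, -44288970, -1264562, -4354966, -25256998,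 2096616, 2729687, -115515, 54369, -69477, 1356, -191, 39, -1])) (.node (.leaf [151749112, -37574612, 413755808, 193860782, -244489714, -6551950, -30335590, -139395444, 17325745, 10499207, -439880, 171858, -497638, -19448, 4810, -72, -1]) (.leaf [-161198, 41308, -349638, -124586, 164524, -2019, 52485, 85293, -24830, 11532, -1633, 1042, 2, 128, 9, 1]))) (.node (.node (.leaf []) (.leaf [-3737, 204, -7883, -3030, 4037, 11, 971, 2012, -115, -3, 4, 7, -3])) (.node (.leaf []) (.leaf [1450, -126, 3075, 1184, -1563, -8, -393, -799, 64, 8, 0, -2, 1])))) (.node (.node (.node (.leaf []) (.leaf [0, 0, -2, 0, 1])) (.node (.leaf [57654258, -2879426, 135492510, 58338503, -77093326, -574899, -12134310, -39005877, 945399, 2347095, -199042, -202595, 7992, -2097, 5845, 23]) (.leaf [-2928, 267, -6482, -2619, 3429, 41, 744, 1783, -129, -67, 4, 5, -1]))) (.node (.node (.leaf [-21495, 4897, -57717, -26791, 34071, 866, 4529, 19023, -2108, -1663, 70, -41, 60, 2, -1]) (.leaf [483, -114, 1124, 461, -591, -6, -142, -329, 50, 18, -1, 2]))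 (.node (.leaf [-769, 101, -1816, -765, 1004, 8, 190, 520, -44, -27, 2, 1]) (.leaf [-321164, 67969, -847583, -385739, 491562, 12182, 67452, 271673, -34690, -15671, 1950, -111, 1240, 57, -9]))))) (.node (.node (.node (.node (.leaf []) (.leaf [-203506, 59395, -591525, -290340, 361774, 11631, 35539, 212530, -25668, -20640, 644, -563, 789, 14, -1])) (.node (.leaf [7, 1, 2, -2, 4, 0, -3, 1, 0, -1]) (.leaf [9270788, 8295727, 2857953, -4430404, 2153013, 1565412, -2926801, 6035532, -4002222, -1443432, -32842, -255702, 155610, 1941, 4086, 43]))) (.node (.node (.leaf []) (.leaf [488331, -120243, 1139461, 454545, -578331, -15276, -140419, -320716, 73174, -7650, -284, -582, -1495, -210, 25, -1])) (.node (.leaf []) (.leaf [1760332, -480160, 4908151, 2328726, -2921178, -87308, -344734, -1686125, 223026, 132958, -5806, 3385, -6792, -231, 47, -1])))) (.node (.node (.node (.leaf [5, 0, 8, 3, -4, 0, -2, -1]) (.leaf [76254, -198238, 686899, 454916, -515317, -39260, 25247, -375308, 90186, 53897, -1538, 5156, -3950, 15, -28, -1]))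 (.node (.leaf []) (.leaf [1, 0, 0, 1, 0, 0, 0, -1]))) (.node (.node (.leaf [132622807, -38425572, 387255946, 190553109, -237779448, -7464581, -22772923, -139204855, 16478144, 13626031, -452276, 369770, -527465, -5889, 213, -114, -1]) (.leaf [-9496714, 2178956, -25754329, -12082557, 15263280, 418294, 1872716, 8658539, -981010, -707450, 34446, -12598, 29070, 726, -272, -1])) (.node (.leaf []) (.leaf [-110119, 26373, -298381, -140116, 176488, 5058, 22163, 100967, -11579, -8728, 268, -188, 294, 7, 1])))))))

def twoL208 : Janko.Tree (List ℤ) :=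
  (.node (.node (.node (.node (.node (.node (.leaf []) (.leaf [13267, -3742, 31680, 13050, -16317, -653, -3862, -9441, 2080, 198, 24, 13, -38, -4, 1])) (.node (.leaf [-123, 41, -284, -120, 133, 26, 45, 92, -28, -16, 2, 0, 1]) (.leaf [-2480, 122, -5598, -2309, 3069, 24, 575, 1530, -52, -66, 10, 3, -1]))) (.node (.node (.leaf []) (.leaf [11353851, 7034697, 9831465, -1203235, -1799708, 1427680, -3262481, 3699033, -3029118, -1832306, -52056, -296592, 113710, -3644, 5892, -30, -3])) (.node (.leaf []) (.leaf [1])))) (.node (.node (.node (.leaf []) (.leaf [])) (.node (.leaf [-26236, 5804, -70199, -32718, 41437, 1069, 5344, 23410, -2481, -2030, 73, -46, 65, -1]) (.leaf [202713, -45244, 549967, 258970, -327639, -8598, -39566, -185495, 19295, 16369, -618, 315, -504, -6, -3]))) (.node (.node (.leaf [-119728190, 27701870, -314422917, -142062254, 180762680, 3758928, 25722717, 100806462, -14068674, -4468344, 230060, 166736, 375340, 30580, -12254, 471, -1]) (.leaf [-28546173, -12022198, -35190552, -5001874, 12669855, -2536196,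 8060500, -1692453, 5513954, 2651813, 55636, 514090, -239365, 2595, -10720, 27, -1])) (.node (.leaf [-1466957, 300474, -3911582, -1819217, 2308872, 57830, 289375, 1294110, -135738, -100620, 4892, 140, 3863, 155, -68, 1]) (.leaf [6023563, -1499218, 16655793, 7892240, -9944584, -269296, -1152036, -5682106, 679717, 452571, -19034, 7276, -20504, -659, 267, -5]))))) (.node (.node (.node (.node (.leaf [1]) (.leaf [-70422605, 16722311, -194895319, -92902754, 117128082, 3186482, 13167305, 66850225, -7238397, -5911859, 235628, -102327, 215795, 3933, -1282, 26, 1])) (.node (.leaf [1]) (.leaf [1]))) (.node (.node (.leaf [-51, 12, -133, -59, 76, 1, 13, 41, -5, -3]) (.leaf [1])) (.node (.leaf [-50106069, -2348718, -108923830, -44755938, 60805348, -78409, 10789740, 28507652, 1757548, -1883108, 221104, 226782, -90865, -3423, -4802, -165, 1]) (.leaf [72670171, -13390671, 195859684, 92063195, -117409585, -2392933, -13093065, -65103595, 5883634, 4891655, -242351, -112647, -182124, -9110, 8488, -172, -3])))) (.node (.node (.node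 (.leaf [138, -18, 342, 147, -194, -3, -30, -99, 9, 3]) (.leaf [-100906, 25463, -281105, -134416, 169086, 4787, 19126, 97113, -10890, -8925, 292, -219, 307, 4, 1])) (.node (.leaf [1]) (.leaf [1]))) (.node (.node (.leaf []) (.leaf [27089527, -7007012, 70059096, 30796239, -39172438, -780513, -6339855, -21855272, 3837494, 370531, -30891, -50828, -100617, -10589, 3094, -125, -1])) (.node (.leaf [1]) (.leaf [138012429, -18487149, 305898798, 118136260, -156549954, -517875, -37557230, -78637553, 11899975, -3344686, -53246, -613693, -153619, -50562, 18835, -420, 7])))))) (.node (.node (.node (.node (.node (.leaf [757987261, -172169028, 2064341629, 972050568, -1228871079, -32138512, -146090443, -696328249, 76705732, 56664372, -2494394, 703472, -2242824, -74147, 28228, -73, -11]) (.leaf [-66626730, 37690397, -247004395, -136514628, 163973367, 8298910, 6736152, 104980767, -15540146, -14585385, 400574, -874026, 595719, -10022, 13846, -142, 5])) (.node (.leaf [-96732935, 26691339, -274998045, -132702647, 166147575, 5035616,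 17828466, 96406958, -11901303, -8530119, 326485, -207704, 369330, 8605, -600, 78, 1]) (.leaf []))) (.node (.node (.leaf []) (.leaf [1])) (.node (.leaf []) (.leaf [1])))) (.node (.node (.node (.leaf [1]) (.leaf [-13956874, 2275326, -37106603, -17447451, 22270909, 510464, 2565093, 12318126, -877362, -1162717, 55262, -1444, 24883, 4, -428, -11])) (.node (.leaf [154471204, -67296927, 524926860, 279188237, -340776957, -13802130, -17869011, -210197064, 28675158, 24400710, -768441, 996255, -1104353, -7375, -1551, -116, -27]) (.leaf [27915314, -5310197, 72860390, 33363067, -42561065, -950862, -5716984, -23581700, 2389140, 1709598, -76614, -8345, -59194, -3232, 1153, -14, 1]))) (.node (.node (.leaf [2, 2, 1, 0, 0, 0, 0, 0, -1]) (.leaf [1])) (.node (.leaf []) (.leaf [1]))))) (.node (.node (.node (.node (.leaf []) (.leaf [-43965099, 8007787, -108224139, -46651189, 60118328, 1045321, 10368819, 32447636, -4198320, -1064746, 93623, 67202, 93449, 9667, -3445, 70, -1])) (.node (.leaf [-1839252, 10433179, -31352572, -22996825,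 25045711, 2739128, -1651480, 19804840, -4046260, -4561312, 80060, -430362, 164160, -9188, 9074, -176, -3]) (.leaf [-1212195, 337716, -3395640, -1613324, 2021658, 62231, 236730, 1168799, -159310, -90475, 4400, -2291, 5029, 186, -50, 1]))) (.node (.node (.leaf [1]) (.leaf [-1, -2, -1, 0, 0, 0, 0, 0, 1])) (.node (.leaf [1]) (.leaf [1])))) (.node (.node (.node (.leaf [1]) (.leaf [1])) (.node (.leaf []) (.leaf [1]))) (.node (.node (.leaf [21, -35, 387, 291, -365, -13, 49, -209, 0, 53, -4, 2, -1]) (.leaf [65, -9, 155, 67, -88, 0, -15, -46, 3, 3])) (.node (.leaf [-160, 6, -403, -181, 243, -1, 30, 119, 1, -10, 1]) (.leaf [15659783, -2722176, 41864709, 19717612, -25119567, -597182, -2890194, -13960232, 1080270, 1302560, -61636, 4909, -31235, -169, 468, 11])))))))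

def twoL209 : Janko.Tree (List ℤ) :=
  (.node (.node (.node (.node (.node (.node (.leaf []) (.leaf [])) (.node (.leaf [-6905, -337, -13050, -4431, 6272, -55, 1965, 2586, 88, 112, 22, 38, -18, 0, 1]) (.leaf [6639, -1273, 16884, 7498, -9591, -279, -1556, -5211, 662, 357, -44, -11, -20, -2, 1]))) (.node (.node (.leaf [-1302, 142, -3260, -1454, 1910, 16, 272, 986, -48, -78, 8]) (.leaf [-1804, 439, -4638, -1982, 2582, 13, 412, 1375, -243, 38, 3, -9, 8])) (.node (.leaf [0, 1, 0, 0, 1, -1]) (.leaf [-29965388, 7772370, -84909627, -41085054, 51512593, 1550334, 5390582, 29784796, -3365703, -2785757, 108933, -64113, 105927, 1826, -552, -3])))) (.node (.node (.node (.leaf [0, 1]) (.leaf [0, 1])) (.node (.leaf [-46484255, 29813437, -185437096, -105332272, 125870998, 6328128, 2723856, 81556565, -12524483, -11000621, 258106, -558008, 496957, -567, 5388, 87, 7]) (.leaf [0, 1]))) (.node (.node (.leaf []) (.leaf [-213149, 52733, -592694, -280474, 354621, 9492, 40796, 200512, -24527, -15511, 1120, -372, 867, 25, -11])) (.node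 (.leaf [9141, -2499, 22524, 9490, -12107, -219, -2533, -6737, 1279, 172, 10, -5, -25, -2, 1]) (.leaf [4581027, -1155783, 12853191, 6172858, -7757502, -226021, -843683, -4460143, 504716, 403402, -17344, 9709, -15964, -237, 102, 1]))))) (.node (.node (.node (.node (.leaf []) (.leaf [-48921895, 13207789, -134744135, -63312148, 79625795, 2159151, 9888053, 45757908, -6121501, -3371781, 108373, -68337, 169080, 6698, -698, 89, -1])) (.node (.leaf [-4989473, 1153130, -13883750, -6677161, 8396849, 257707, 908037, 4813638, -485540, -476548, 22510, -11894, 15710, -12, -72, -6]) (.leaf []))) (.node (.node (.leaf []) (.leaf [555845, -84736, 1379432, 609446, -785390, -16072, -123741, -423831, 38073, 28979, -1862, 80, -734, -41, -10, 1])) (.node (.leaf [0, 1]) (.leaf [0, 1])))) (.node (.node (.node (.leaf [0, 1]) (.leaf [0, 1])) (.node (.leaf []) (.leaf [-135549484, 40372630, -409335368, -206608886, 256841756, 8644935, 20617906, 151681528, -16441329, -16900065, 596024, -505361, 580145, -2603, 1859, -36, 5]))) (.node (.node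 (.leaf [0, 1]) (.leaf [-8431, -255, -16378, -5762, 8032, -35, 2346, 3473, 45, 80, 29, 40, -19, 0, 1])) (.node (.leaf [3108, -409, 7027, 2852, -3749, -9, -809, -1951, 179, 54, 10, -8, 4, 0, -1]) (.leaf [-272744, 68522, -654488, -268410, 345572, 2991, 74349, 189081, -36898, 2883, -1338, 859, 338, 133, 10, 1])))))) (.node (.node (.node (.node (.node (.leaf []) (.leaf [-348885, 77351, -945812, -444740, 562807, 14825, 68236, 318080, -33642, -27513, 1274, -464, 987, 14, 7])) (.node (.leaf [0, 1]) (.leaf [0, 1]))) (.node (.node (.leaf [2, -2, 12, 4, -8, 1, -2, -1, 1]) (.leaf [-57945513, 23378867, -165554949, -77674196, 95563950, 3659525, 13364115, 57853024, -11739139, -3479811, 81994, -289860, 332690, 16465, 1377, -17, 3])) (.node (.leaf []) (.leaf [1691374, -338269, 4050594, 1682922, -2165077, -45166, -436666, -1168957, 196236, 7291, -3484, -2671, -4442, -583, 214, -3])))) (.node (.node (.node (.leaf []) (.leaf [-19565, 3443, -44713, -18202, 23237, 727, 5344, 12748, -1930, -400, 11, 22, 23, 4, 1])) (.node (.leaf [])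 (.leaf [0, 1]))) (.node (.node (.leaf [0, 1]) (.leaf [46034622, 10175977, 82434783, 27606449, -41897953, 2190336, -10619004, -13977674, -4910813, -1345033, -130068, -590379, 211842, -3513, 14754, -110, 1])) (.node (.leaf []) (.leaf [-58300697, 19810244, -178450377, -91035075, 111927348, 4820350, 9576361, 67814274, -7748349, -9027385, 293490, -484918, 259407, -11208, 8612, -280, -5]))))) (.node (.node (.node (.node (.leaf []) (.leaf [0, 1])) (.node (.leaf [17669431, 6857951, 27426616, 8007016, -13520020, 1090995, -3957048, -2875146, -3510675, -368081, -98735, -249704, 126964, 2515, 5170, 60, -1]) (.leaf [0, 1]))) (.node (.node (.leaf [20, 39, -3, 0, 2, -3, 5, 0, -21, 8, -1]) (.leaf [-141477, 43366, -417611, -206664, 256142, 9361, 23878, 151933, -19562, -14664, 615, -414, 670, 14, -5])) (.node (.leaf [1954185, -445407, 5232744, 2428274, -3070938, -85429, -401738, -1735942, 204911, 135627, -6922, 2518, -5838, -190, 16, 1]) (.leaf [-4895, 573, -10060, -3625, 4785, 45, 1421, 2442, -389, 176, -16, 8, -1, 0, 1]))))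 (.node (.node (.node (.leaf []) (.leaf [-724774, 1122049, -3768599, -2239387, 2485948, 239376, 102066, 1884996, -525842, -270839, 2996, -31898, 17931, 130, 490, -9])) (.node (.leaf []) (.leaf [109663, -26269, 303348, 144661, -182436, -4841, -20696, -104207, 11039, 9559, -318, 208, -303, -4, -1]))) (.node (.node (.leaf []) (.leaf [0, 1])) (.node (.leaf [2575, -113, 5684, 2294, -3047, -34, -617, -1514, 67, 44, -10, -6, 1]) (.leaf [4027565, -473077, 9359374, 3861922, -5057634, -75050, -979777, -2602511, 285379, 36117, -14528, -12170, -6184, -971, 418, -3])))))))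

def twoL210 : Janko.Tree (List ℤ) :=
  (.node (.node (.node (.node (.node (.node (.leaf [0, 0, 1]) (.leaf [0, 0, 1])) (.node (.leaf [0, 0, 1]) (.leaf [0, 0, 1]))) (.node (.node (.leaf []) (.leaf [-203992194, 43290164, -545400582, -253968487, 322096265, 8154400, 40676804, 181078899, -19114450, -14690675, 661892, -183780, 528368, 13877, -4780, -18, -3])) (.node (.leaf [0, 0, 1]) (.leaf [-2823, 323, -6816, -2953, 3884, 16, 638, 2009, -111, -131, 5, 3, -1])))) (.node (.node (.node (.leaf []) (.leaf [-27815612, 5311275, -75110585, -35568121, 45147472, 1146229, 5152465, 25330969, -2119290, -2432540, 104966, -28371, 61116, -185, -332, -25])) (.node (.leaf [0, 0, 1]) (.leaf [217243, -50336, 593500, 280614, -354449, -9403, -42117, -201558, 21435, 17958, -626, 369, -568, -5, -3]))) (.node (.node (.leaf [-99423032, 26334260, -270956975, -125407461, 158386920, 3719924, 20301902, 89979192, -13211710, -4572852, 199828, 90968, 381453, 26754, -10716, 474, 1]) (.leaf [-84629273, 4527644, -185415246, -73386280, 98445520, 61193,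 21012236, 47851923, -2715460, -199780, 155149, 389768, -27411, 14836, -10313, 71, -5])) (.node (.leaf [21924786, -4251164, 63903050, 32526643, -40789853, -1386960, -3089911, -23587115, 1072402, 3567648, -136592, 123540, -43438, 7676, -2466, 145, 1]) (.leaf [0, 0, 1]))))) (.node (.node (.node (.node (.leaf [97952, -24446, 272930, 130707, -164414, -4582, -18388, -94469, 10361, 8767, -282, 198, -292, -4, -1]) (.leaf [-8391684, 1244212, -23713836, -11900022, 15061607, 461772, 1227649, 8510176, -223659, -1307271, 57950, -40305, 11088, -3470, 1140, -53])) (.node (.leaf []) (.leaf [-9233970, 1316005, -24763512, -11738854, 15050895, 298044, 1562398, 8230138, -489618, -753914, 40795, 11168, 16593, 202, -712, 5]))) (.node (.node (.leaf [-75, 47, -520, -349, 439, 13, -36, 251, -5, -55, 4, -2, 1]) (.leaf [])) (.node (.leaf [-36268926, 5967340, -93252832, -42450238, 54413589, 1147376, 7430384, 29780436, -2576898, -2279349, 120190, 8735, 63031, 2138, -1217, -18, -1]) (.leaf [-41064, 9433, -110663, -51800, 65474, 1677, 8265,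 37191, -4055, -3188, 109, -69, 108, 3])))) (.node (.node (.node (.leaf []) (.leaf [92018, -30046, 275719, 137749, -170256, -5911, -15030, -101930, 13252, 9919, -202, 173, -410, -20, 1])) (.node (.leaf [-434975, 95384, -1213708, -582704, 738837, 19322, 78448, 415504, -38814, -40834, 2290, -1096, 1379, -16, -5, -1]) (.leaf [2994, -1369, 12163, 7026, -8649, -368, 7, -5205, 486, 816, -48, 36, -27, 1]))) (.node (.node (.leaf [-42, 18, -139, -71, 92, 1, 9, 49, -6, -7]) (.leaf [37124313, -7950019, 91917914, 39262867, -50462809, -821051, -9026109, -27434505, 4407608, 302500, -37433, -89552, -100672, -12881, 4070, -144, 1])) (.node (.leaf [5397, -1278, 14558, 6776, -8643, -131, -1106, -4847, 502, 395, -6, 16, -10]) (.leaf [0, 0, 1])))))) (.node (.node (.node (.node (.node (.leaf []) (.leaf [0, 0, 1])) (.node (.leaf [-198, 20, -454, -190, 249, 0, 45, 130, -9, -3, 1]) (.leaf [26432046, -6264238, 74006939, 35664956, -44889034, -1274994, -4737750, -25716511, 2641120, 2443973, -96722, 43758, -81532, -976, 238, 3]))) (.node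 (.node (.leaf [0, 0, 1]) (.leaf [105595101, -29009958, 302339573, 146703875, -183833829, -5375905, -18921032, -106516852, 12710885, 9625962, -329231, 192285, -389918, -7720, 1089, -242, 5])) (.node (.leaf []) (.leaf [195421886, 16893219, 329341060, 90508159, -138485346, 6950862, -60408587, -44556582, -2702648, -15052192, -78414, -1929442, 541243, -66221, 44070, -283, 19])))) (.node (.node (.node (.leaf []) (.leaf [-15160453, 3969921, -42316694, -20203729, 25360926, 743979, 2893663, 14628657, -1763369, -1271001, 46686, -30692, 52106, 1256, -128, 1])) (.node (.leaf []) (.leaf [963399, -332892, 496121, -749922, 836052, 81962, -708209, 639106, 386712, -517277, 18818, -20391, -3551, -2486, 756, -33, 1]))) (.node (.node (.leaf [98438, -23441, 271653, 129306, -163039, -4288, -18521, -93180, 10001, 8231, -284, 170, -273, -4, -1]) (.leaf [-57, 8, -146, -66, 87, 0, 12, 45, -2, -4])) (.node (.leaf [0, 0, 1]) (.leaf [-847353330, 193177142, -2297116333, -1076900827, 1361797027, 35548153, 166075864, 771059624, -87118382, -60848751,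 2713984, -757636, 2515184, 90126, -33920, 173, 7]))))) (.node (.node (.node (.node (.leaf []) (.leaf [75, -4, 174, 74, -93, 0, -14, -54, 3, 0, -1])) (.node (.leaf [104741818, -8044542, 251472010, 109275430, -143664272, -1114164, -21757099, -73705410, 3468550, 3720457, -323688, -413652, -50628, -11139, 13290, -120, -3]) (.leaf [-3070402, 7451161, -16988128, -9316606, 9848429, 1110536, 1238189, 8287127, -3911582, -448545, -51646, -151904, 111341, 5865, 2862, 50, -3]))) (.node (.node (.leaf []) (.leaf [0, 0, 1])) (.node (.leaf []) (.leaf [94, -11, 216, 92, -118, 0, -22, -66, 3, 5])))) (.node (.node (.node (.leaf [208264, -45763, 560637, 262616, -332518, -8518, -41322, -187945, 19559, 16265, -590, 290, -496, -6, -3]) (.leaf [-20070651, 3156607, -51208274, -23165910, 29775542, 570854, 4132153, 16189840, -1380332, -1151837, 57938, 20036, 31320, 1796, -1118, 9, -1])) (.node (.leaf [0, 0, 1]) (.leaf [-107250, 25722, -296517, -141240, 178184, 4720, 20329, 101673, -10869, -9245, 328, -210, 304, 4, 1]))) (.node (.node (.leaf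 [-39, -29, 231, 220, -269, -13, 61, -163, -1, 49, -4, 2, -1]) (.leaf [675941, -109719, 1731357, 789148, -1006782, -29329, -142396, -554964, 46956, 51606, -4194, 1720, -1592, 46, 34, 3])) (.node (.leaf [0, 0, 1]) (.leaf [-34246488, 9653289, -100415981, -49807349, 62105435, 2039027, 5722547, 36422068, -3937115, -3959934, 133500, -127786, 128800, -877, 827, -33])))))))

def twoL211 : Janko.Tree (List ℤ) :=
  (.node (.node (.node (.node (.node (.node (.leaf []) (.leaf [])) (.node (.leaf [106755842, -28062203, 306625303, 149901521, -187796863, -5647105, -18426969, -108853186, 11816920, 10746694, -398760, 252854, -380703, -2844, 656, -22, -1]) (.leaf [7605544, -1180503, 24247876, 13235913, -16598420, -523075, -465986, -9613351, 11054, 1734059, -57770, 37429, -11445, 4599, -246, 30, 1]))) (.node (.node (.leaf []) (.leaf [697, -151, 1522, 618, -757, -44, -223, -459, 68, 57, 0, 0, 2])) (.node (.leaf [-14946, 3691, -41066, -19464, 24521, 663, 2935, 14046, -1568, -1273, 38, -32, 43]) (.leaf [-32438673, 4424695, -76611227,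 -32225576, 41992374, 561215, 7846458, 22054433, -2237289, -773413, 55521, 62177, 30729, 5086, -2028, 16, -3])))) (.node (.node (.node (.leaf []) (.leaf [-1144, 108, -2748, -1195, 1565, 14, 246, 815, -40, -51, 4, 1])) (.node (.leaf [201915981, -15706474, 451723862, 181910629, -241796822, -1282139, -50048995, -120420479, 8710180, 1814098, -401856, -732072, -15523, -33082, 18816, -115, 17]) (.leaf [218888, -49011, 592589, 278623, -352473, -9127, -42990, -199683, 20889, 17481, -622, 335, -541, -6, -3]))) (.node (.node (.leaf []) (.leaf [-506219, 103914, -1364139, -644254, 815308, 22151, 97623, 461131, -41639, -45450, 1752, -986, 1106, -14, 13, -1])) (.node (.leaf [109011, -29772, 364069, 201670, -247425, -10461, -6779, -151163, 6672, 26318, -578, 1018, -307, 58, -2, 1]) (.leaf [100649, -29227, 287875, 139309, -173951, -5194, -18485, -101781, 13008, 8857, -289, 262, -400, -7, 1]))))) (.node (.node (.node (.node (.leaf []) (.leaf [55238215, -12628639, 149681157, 70152603, -88636913, -2416971, -10879894, -50240948,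 5748907, 3998735, -193850, 51199, -168760, -5930, 1566, -9])) (.node (.leaf [1471647, -1234960, 7154759, 4391784, -5181990, -310762, 77473, -3452883, 462358, 608119, -21218, 39694, -22657, 952, -714, 21, -1]) (.leaf [808274, -186527, 2211369, 1045962, -1321249, -35502, -156232, -750367, 80553, 66465, -2841, 1266, -2357, -27, -18]))) (.node (.node (.leaf [-2327, 159, -5147, -2082, 2730, 46, 573, 1402, -94, -46, 10, 5, -1]) (.leaf [18554312, -2999768, 48370491, 22313710, -28593807, -585621, -3624971, -15670595, 1229160, 1297513, -62602, -7707, -30757, -911, 462, 7])) (.node (.leaf [3492857, -869225, 9849715, 4756416, -5975872, -177333, -628022, -3436643, 373489, 324367, -13800, 7312, -11945, -184, 66, 1]) (.leaf [351360, -204493, 1044271, 487608, -585191, -33847, -101494, -374438, 103463, 25793, 128, 4163, -2631, -94, -164, -1])))) (.node (.node (.node (.leaf []) (.leaf [11032, -7224, 40291, 21734, -25984, -842, -1224, -16999, 3315, 1306, 158, -54, -72, -14, -3])) (.node (.leaf []) (.leaf [-183189053, 48917430,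 -508254818, -241093581, 302553199, 9064783, 36199676, 174592298, -22066105, -14763914, 566779, -430740, 639992, 15717, 924, -5, -3]))) (.node (.node (.leaf [-99383802, 16143249, -254168333, -114682807, 147520481, 2466034, 20312526, 80107238, -7439186, -4784461, 255512, 189446, 182685, 14447, -9595, 138, 1]) (.leaf [18, -32, 62, 26, -31, -4, -18, -20, 14, 7, 1])) (.node (.leaf [487, -95, 1172, 491, -656, 9, -134, -332, 30, 21, 2, 0, 1]) (.leaf [7797753, 3414542, 14184106, 5563255, -8588554, 439176, -1185263, -2720600, -2106614, 564131, -47876, -91808, 75171, 3822, -234, 43, 1])))))) (.node (.node (.node (.node (.node (.leaf []) (.leaf [])) (.node (.leaf [-187, 19, -431, -180, 237, 1, 43, 122, -9, -3, 1]) (.leaf []))) (.node (.node (.leaf []) (.leaf [-24333068, 14040038, -62422028, -24628492, 29602492, 1394878, 8854891, 18920568, -8328297, 1488087, -96536, -136990, 200353, 21223, 123, 43, 1])) (.node (.leaf []) (.leaf [5168, -1854, 15917, 8041, -9929, -375, -852, -5956, 796, 646, -16, 25, -27, 1])))) (.node (.node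 (.node (.leaf []) (.leaf [-185593, 49761, -531893, -259062, 325949, 8534, 33242, 187707, -19805, -18966, 412, -550, 539, -2, 9])) (.node (.leaf [208053237, -78556680, 669186064, 346645773, -426710229, -15134833, -27895887, -258258375, 33579790, 27549071, -739886, 826374, -1199417, -16928, 4914, -510, -15]) (.leaf [240313, -71313, 670237, 316776, -396054, -11600, -48753, -231054, 33299, 17058, -446, 536, -921, -35, -1]))) (.node (.node (.leaf []) (.leaf [-22510, 5452, -62945, -30262, 38178, 955, 4121, 21826, -2197, -2097, 66, -55, 62, 3])) (.node (.leaf []) (.leaf [-159001, 32196, -410712, -183757, 234291, 6142, 34850, 128897, -17450, -6313, 1066, 66, 627, 37, -8]))))) (.node (.node (.node (.node (.leaf []) (.leaf [21509, -2715, 49288, 20193, -26621, -86, -5493, -13725, 1161, 481, -2, -4, 8, 0, 1])) (.node (.leaf []) (.leaf [-54314329, 14447821, -156727158, -76808666, 96173084, 2908392, 9257934, 55816015, -6105354, -5496703, 208284, -132129, 200670, 2250, -886, -11, 1]))) (.node (.node (.leaf []) (.leaf [-35345877,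 8795780, -101522017, -49821299, 62522040, 1829775, 5910310, 36093197, -3580918, -3708401, 136910, -72714, 116252, 462, 21, -4, 1])) (.node (.leaf [-84812011, 16018440, -220573285, -100930434, 128654068, 3072708, 17618390, 71402465, -7056834, -5593717, 266476, -44834, 175299, 5482, -1142, -59, -3]) (.leaf [5320430, -1390601, 14827589, 7058961, -8866044, -259638, -1019333, -5102905, 631376, 422961, -17476, 9155, -19134, -587, 153, -3])))) (.node (.node (.node (.leaf []) (.leaf [4126012, -1024053, 11534736, 5538175, -6951317, -214795, -763291, -4003745, 448186, 372569, -17022, 9028, -14326, -192, 110, 1])) (.node (.leaf []) (.leaf []))) (.node (.node (.leaf []) (.leaf [-4530802, 1370595, -12886368, -6160053, 7694608, 241162, 880201, 4486018, -651014, -340504, 14692, -9244, 20281, 711, -206, 11])) (.node (.leaf [-6, -1, -11, -3, 5, 1, 2, 1]) (.leaf [2819753, -846103, 7885931, 3715874, -4649210, -139893, -573422, -2701002, 411459, 180190, -7436, 4947, -12362, -568, 117, -5])))))))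

def twoL212 : Janko.Tree (List ℤ) :=
  (.node (.node (.node (.node (.node (.node (.leaf []) (.leaf [15323508, 4533712, 10743204, -5189415, 3180388, 1454924, -7086025, 6574631, -1176282, -3372399, 40018, -231469, 112092, -7850, 3571, -9, 5])) (.node (.leaf []) (.leaf []))) (.node (.node (.leaf []) (.leaf [1])) (.node (.leaf []) (.leaf [-165955, -11210, -433600, -195204, 275966, -16322, 13745, 118999, 4911, 11241, -240, 3565, 188, 155, -185, 1])))) (.node (.node (.node (.leaf []) (.leaf [2081858, -432945, 5926774, 2921560, -3688482, -100672, -332084, -2099905, 151305, 244742, -9626, 5391, -5218, 265, -25, 3])) (.node (.leaf [465208, -101698, 1258882, 594052, -750556, -20509, -90598, -426381, 42154, 40116, -1502, 970, -1122, 6, -16, 1]) (.leaf []))) (.node (.node (.leaf [1]) (.leaf [1])) (.node (.leaf [1]) (.leaf [-1, -1, 0, 1, -2, 0, 0, 0, 0, 1]))))) (.node (.node (.node (.node (.leaf []) (.leaf [7, 0, 20, 8, -11, 0, -1, -4, 0, 0, 0, 0, 0, -1])) (.node (.leaf [-13854046, 4351067, -44424141, -23311141, 28836118,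 1032960, 1576764, 17216742, -1680020, -2140692, 78582, -54716, 69259, -753, -147, 7, 1]) (.leaf [1876482, -566536, 5207900, 2439730, -3045487, -99450, -391737, -1775610, 282622, 114075, -5403, 2826, -8369, -486, 96, -3]))) (.node (.node (.leaf [64125, -17351, 179720, 85906, -107690, -3427, -12544, -62171, 7782, 5676, -233, 116, -230, -8, 1]) (.leaf [-14992018, 4545571, -45732158, -23278704, 28894916, 979034, 2203854, 17143046, -1785400, -2013252, 59220, -60572, 61142, -753, 507, -5])) (.node (.leaf [-5743, 1692, -19442, -10438, 13117, 388, 479, 7548, -548, -1050, 56, -36, 26, -1]) (.leaf [46180492, -2659636, 109084614, 46752697, -61886259, -247760, -9594953, -31169113, 1257551, 1152418, -134799, -247207, -11598, -7626, 7798, -109, -1])))) (.node (.node (.node (.leaf []) (.leaf [-372986, 69455, -890832, -372599, 477533, 13930, 96361, 258953, -39852, -7811, 1924, -392, 1155, 67, -44, -1])) (.node (.leaf []) (.leaf [9991426, -972533, 25357392, 11643858, -15089044, -236543, -1856658, -8041029, 292331, 736771, -38770,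 -15173, -5669, 251, 592, 13]))) (.node (.node (.leaf [1]) (.leaf [-291246, 64758, -788212, -370698, 469062, 11927, 56969, 265677, -27469, -23228, 812, -425, 697, 10, 5])) (.node (.leaf []) (.leaf [1])))))) (.node (.node (.node (.node (.node (.leaf [1]) (.leaf [-3685184, 642994, -6693683, -1636693, 2461377, -215498, 1376372, 874899, -596090, 717704, -30256, 52800, 4576, 3913, -1382, 81, -1])) (.node (.leaf []) (.leaf [19080, -6480, 59540, 30401, -37729, -1246, -2814, -22413, 2638, 2502, -72, 92, -92, -1]))) (.node (.node (.leaf []) (.leaf [-14560710, 1955016, -42226193, -21563858, 27332153, 741928, 1724325, 15386740, -306161, -2246134, 100372, -31353, 23136, -4248, 201, -63])) (.node (.leaf [1]) (.leaf [-3861850, 11127120, -38736872, -26669768, 29849713, 2527956, -1804034, 22302723, -4718711, -3940488, 68952, -309901, 198850, -3263, 2922, 39, -1])))) (.node (.node (.node (.leaf []) (.leaf [1])) (.node (.leaf [1]) (.leaf [1]))) (.node (.node (.leaf []) (.leaf [])) (.node (.leaf []) (.leaf [13, -36, 376, 288, -362,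 -12, 52, -207, 0, 53, -4, 2, -1]))))) (.node (.node (.node (.node (.leaf [1]) (.leaf [])) (.node (.leaf [-419206689, 66331215, -1073048499, -486687085, 625233102, 12001733, 85568853, 340409206, -28960832, -24396747, 1284162, 386066, 692421, 34073, -23768, 127, -5]) (.leaf [1]))) (.node (.node (.leaf [1]) (.leaf [])) (.node (.leaf [4722133, -1227786, 12980684, 6114832, -7682561, -227043, -944064, -4417249, 567422, 349536, -14589, 7972, -16505, -598, 94, -1]) (.leaf [45988, -5923, 111501, 48299, -63178, -697, -10580, -33017, 2328, 2169, -104, 9, -12, 1, -1])))) (.node (.node (.node (.leaf [-60027097, 25137047, -173161338, -81612674, 100177962, 3926960, 13814813, 60983749, -12621242, -3704814, 77456, -317219, 358879, 17804, 1973, -11, 3]) (.leaf [4786675, 817725, 5106050, -254064, -512553, 339012, -2029841, 875013, -139932, -822299, 14552, -55630, 26199, -2378, 688, 6, 1])) (.node (.leaf [63022182, -10980443, 163661126, 74948656, -95883696, -2064812, -12764175, -52747477, 4760958, 4066035, -203594, -9797, -120193,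 -4087, 2138, 2, 1]) (.leaf [1]))) (.node (.node (.leaf []) (.leaf [-111188844, 19182539, -285549625, -128858305, 165532401, 2913062, 22950431, 90174399, -8985198, -5264659, 293444, 171858, 229766, 15273, -10576, 235, 1])) (.node (.leaf [7227, 18, 15312, 5962, -8106, -40, -1807, -3766, 5, 116, -33, -24, 9]) (.leaf [-2338095, 487699, -6374194, -3030192, 3832791, 101588, 433317, 2169271, -201002, -204456, 7985, -2240, 5739, 64, -27, -1])))))))

def twoL213 : Janko.Tree (List ℤ) :=
  (.node (.node (.node (.node (.node (.node (.leaf []) (.leaf [-389454493, 85742510, -1025255646, -468965007, 595405595, 14602210, 82441116, 333833852, -40132414, -22754395, 1040318, -212739, 1043333, 50609, -12087, 196, -9])) (.node (.leaf [174, 13, 418, 184, -250, -4, -32, -114, -6, 12, -4]) (.leaf [-298, -16, -666, -289, 384, 6, 59, 190, 16, -25, 2]))) (.node (.node (.leaf [0, 1]) (.leaf [-367, -172, 267, 523, -623, 2, 240, -431, 2, 153, -3, 10, -1])) (.node (.leaf [3038, -188, 7236, 3134, -4136, -51, -649, -2097, 63, 150, -17, -1])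 (.leaf [5322213, -1009029, 14432201, 6885536, -8717125, -241505, -972546, -4921365, 382496, 522113, -23301, 10774, -11235, 417, -146, 11])))) (.node (.node (.node (.leaf []) (.leaf [24999, -5961, 67936, 31938, -40341, -1045, -5011, -22961, 2551, 2004, -61, 45, -67, 1])) (.node (.leaf []) (.leaf [0, 1]))) (.node (.node (.leaf [339702819, -74906074, 903792247, 417463970, -529528124, -13035456, -69667923, -297657651, 34328493, 21683264, -945498, 194257, -917957, -38753, 10954, -194, 5]) (.leaf [])) (.node (.leaf [-6, -1, -14, -5, 8, -1, 1, 3, 1]) (.leaf [-49267, 13219, -129709, -58346, 73905, 1703, 11314, 41862, -6427, -2080, 32, -101, 149, 8, 1]))))) (.node (.node (.node (.node (.leaf []) (.leaf [])) (.node (.leaf [0, 1]) (.leaf [-26069, 10274, -84033, -42780, 52658, 2196, 3779, 31552, -5164, -2648, 267, -132, 242, 12, -3]))) (.node (.node (.leaf [0, 1]) (.leaf [20, -6, 74, 37, -51, 1, -4, -24, 1, 4])) (.node (.leaf []) (.leaf [-733415319, 227517330, -2104178854, -1014986142, 1264350714, 41438848, 140838660, 742884221,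 -104016997, -63831176, 2185983, -2309935, 3139973, 86257, 8286, 359, -7])))) (.node (.node (.node (.leaf [-110646477, 24989790, -301604504, -142449528, 179938323, 4914469, 21325883, 102151441, -10856256, -8950538, 380741, -157060, 313405, 6350, -968, -39, -1]) (.leaf [14606, -3667, 40523, 19332, -24336, -667, -2807, -13964, 1547, 1298, -41, 34, -44])) (.node (.leaf [0, 1]) (.leaf [3243, -1327, 12557, 7137, -8803, -372, -64, -5268, 476, 808, -53, 36, -27, 1]))) (.node (.node (.leaf []) (.leaf [0, 1])) (.node (.leaf [0, 1]) (.leaf [1578, -135, 3367, 1307, -1724, -8, -423, -884, 68, 13, 0, -3, 1])))))) (.node (.node (.node (.node (.node (.leaf []) (.leaf [1127242, -253509, 3139268, 1533373, -1927353, -61809, -210122, -1112145, 78188, 154334, -3500, 6811, -1459, 330, -280, 5])) (.node (.leaf [-146, 29, -342, -146, 185, 1, 35, 106, -13, -3]) (.leaf [3571, -283, 7984, 3256, -4293, -44, -889, -2190, 124, 102, -8, -4, 1]))) (.node (.node (.leaf []) (.leaf [31181, -14854, 110182, 60502, -72594, -4201, -3438, -46239, 6048,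 7132, -312, 369, -300, 10, 7])) (.node (.leaf []) (.leaf [0, 1])))) (.node (.node (.node (.leaf [0, 1]) (.leaf [224367, -53297, 616423, 289628, -366755, -9671, -43700, -206563, 24930, 15539, -1140, 346, -865, -24, 11])) (.node (.leaf [56824726, -2710346, 132910535, 56963416, -75375650, -512573, -12047793, -38003153, 916307, 2170974, -192503, -208727, 9785, -2561, 5994, 18]) (.leaf [-4339, 320, -9706, -3967, 5213, 75, 1065, 2670, -158, -120, 16, 5]))) (.node (.node (.leaf []) (.leaf [24629972, -1881315, 53398716, 20756489, -27748963, -93021, -6499381, -13619541, 1101826, -4375, -31159, -86214, 6217, -4180, 1796, -6, 3])) (.node (.leaf [5770, -685, 12436, 4720, -6265, -3, -1559, -3178, 408, -150, 17, -7, 4, 0, -1]) (.leaf [3744145, -4664895, 17295421, 10095547, -11338942, -1110074, -689572, -8389915, 2030117, 1500373, -37846, 184161, -70889, 2074, -3755, 131, 1]))))) (.node (.node (.node (.node (.leaf []) (.leaf [0, 1])) (.node (.leaf [0, 1]) (.leaf [-5242538, 1372601, -14617756, -6960856, 8741943, 256573, 1003599,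 5032485, -623666, -417016, 17294, -9026, 18941, 585, -153, 3]))) (.node (.node (.leaf []) (.leaf [])) (.node (.leaf [-10484773, 1796727, -28135075, -13327167, 16957944, 425538, 1908454, 9451474, -681088, -951266, 46875, -11744, 21006, -496, -34, -23]) (.leaf [72458, -17248, 198325, 93848, -118468, -3069, -14190, -67528, 7262, 6132, -206, 135, -197, -2, 1])))) (.node (.node (.node (.leaf []) (.leaf [-5963, 1703, -18010, -9064, 11307, 418, 919, 6593, -715, -749, 44, -28, 26, -1])) (.node (.leaf [-406812, 110370, -1124892, -531925, 667155, 19522, 81497, 385821, -50058, -31508, 990, -821, 1395, 44]) (.leaf [682, -118, 1651, 699, -920, -11, -182, -472, 49, 34, -1]))) (.node (.node (.leaf [0, 1]) (.leaf [-8171822, -3448989, -10612727, -1908470, 4225593, -779829, 2136775, -105310, 1631704, 714161, 10204, 153394, -68748, 417, -3604, 9, 1])) (.node (.leaf [-360, 3504, -8412, -5803, 6372, 455, -308, 5018, -1612, -626, -19, -66, 63, 2, -1]) (.leaf [0, 1])))))))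

def twoL214 : Janko.Tree (List ℤ) :=
  (.node (.node (.node (.node (.node (.node (.leaf []) (.leaf [-1818300242, 288251860, -4576106083, -2040731859, 2626107232, 48977454, 388900849, 1423019533, -133611464, -87345513, 5133712, 2131863, 3051698, 219472, -122057, 429, -35])) (.node (.leaf []) (.leaf [-1677, 94, -3654, -1460, 1924, 38, 424, 972, -54, -41, 8, 1]))) (.node (.node (.leaf []) (.leaf [1695402, -410175, 4667294, 2210753, -2786681, -76818, -326502, -1590958, 181650, 135410, -6570, 3522, -5694, -38, 36, 1])) (.node (.leaf []) (.leaf [400207, -128863, 1079951, 511845, -622239, -37249, -98401, -385401, 53255, 55500, -1681, 4404, -945, 155, -200, 1])))) (.node (.node (.node (.leaf [0, 0, 1]) (.leaf [0, 0, 1])) (.node (.leaf [-3593, 203, -7565, -2905, 3867, 10, 939, 1932, -114, -4, 3, 8, -3]) (.leaf [5704, -1900, 17773, 9059, -11305, -353, -880, -6629, 739, 790, -23, 28, -25, 1]))) (.node (.node (.leaf []) (.leaf [])) (.node (.leaf [-6, 45, -378, -300, 366, 14, -62, 227, -4, -52, 2, -2, 1]) (.leaf [0, 0, 1])))))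 (.node (.node (.node (.node (.leaf [0, 0, 1]) (.leaf [0, 0, 1])) (.node (.leaf [-5003853, 1154611, -13919326, -6693185, 8417439, 258276, 910975, 4824751, -486149, -477582, 22602, -11894, 15725, -13, -71, -6]) (.leaf [0, 0, 1]))) (.node (.node (.leaf [97538, -25378, 265885, 124308, -156630, -4235, -20167, -89613, 11530, 6979, -237, 174, -298, -12, -1]) (.leaf [0, 0, 1])) (.node (.leaf [0, 0, 1]) (.leaf [0, 0, 1])))) (.node (.node (.node (.leaf []) (.leaf [5819160, -1746665, 16778952, 8163192, -10181601, -309448, -1066316, -5977577, 761014, 548693, -12868, 16662, -22192, -515, -2, -1])) (.node (.leaf []) (.leaf [0, 0, 1]))) (.node (.node (.leaf [-38, 19, -132, -67, 88, 0, 9, 46, -6, -7]) (.leaf [-6841885, 1104618, -18207235, -8588589, 10949264, 271897, 1259654, 6071716, -408668, -619971, 32016, -7916, 12760, -512, -76, -15])) (.node (.leaf [499, -49, 1363, 642, -862, 37, -53, -444, 0, 5, 1, 2, 1]) (.leaf [1871071, -904141, 6494225, 3501156, -4237008, -196116, -226996, -2669062, 367232, 358002, -8374, 19184, -13080,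 272, -376, 3])))))) (.node (.node (.node (.node (.node (.leaf []) (.leaf [-208287568, 36605697, -547174603, -253152428, 323356607, 7022589, 40700416, 178620955, -15557825, -14405033, 705878, 38735, 422900, 11306, -9850, -31, 1])) (.node (.leaf [0, 0, 1]) (.leaf [97916, -23083, 267663, 126469, -159584, -4439, -19133, -90890, 9988, 8046, -288, 173, -269, -3, -1]))) (.node (.node (.leaf [-205, 503, -1359, -742, 872, 42, 40, 595, -272, 18, -2, -12, 9]) (.leaf [40755, -16899, 135210, 71973, -87141, -4548, -5470, -54441, 6945, 7770, -332, 379, -320, 10, 7])) (.node (.leaf [-869101018, 148590419, -2197380664, -979968801, 1258874515, 24116412, 187904445, 685312117, -70080324, -40430500, 2384296, 785478, 1663923, 110629, -59740, 335, -9]) (.leaf [1687870, -336692, 4049766, 1686427, -2169461, -45010, -433544, -1171734, 194494, 8936, -3483, -2626, -4425, -570, 212, -3])))) (.node (.node (.node (.leaf [-349, 41, -902, -418, 544, 3, 61, 290, -11, -23, 1]) (.leaf [])) (.node (.leaf [-329057092, 121080407, -992089328, -491290680,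 606087902, 22164973, 59155169, 364545392, -55443004, -33220447, 995006, -1455794, 1773397, 45737, 4518, 209, 9]) (.leaf [-9336407, 1724344, -23229095, -10145968, 13036418, 253805, 2160110, 7090681, -863382, -324529, 19154, 8748, 18568, 1649, -620, 13, -1]))) (.node (.node (.leaf []) (.leaf [0, 0, 1])) (.node (.leaf []) (.leaf [677, -59, 1933, 962, -1249, -32, -91, -656, 4, 96, -8, 2, -1]))))) (.node (.node (.node (.node (.leaf []) (.leaf [-811, 42, -1944, -854, 1132, 21, 177, 564, -2, -63, 2])) (.node (.leaf [-30506788, 6465145, -82831040, -39144692, 49556747, 1291419, 5780754, 27988216, -2734898, -2507478, 103382, -31364, 77620, 1240, -470, -5, -1]) (.leaf [-16846, 3265, -49688, -25158, 31823, 763, 2152, 18088, -954, -2238, 105, -65, 35, 0, 1]))) (.node (.node (.leaf []) (.leaf [911731884, -250286436, 2518343259, 1187125762, -1488955644, -44927987, -185423411, -860285313, 115368250, 68734271, -2660298, 2190102, -3302090, -97469, -6897, -80, 9])) (.node (.leaf [0, 0, 1]) (.leaf [-25486228, 9082740, -83674593,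 -44317122, 54455290, 2159268, 2895013, 33024547, -3585170, -4235337, 157314, -149995, 147459, -2121, 799, -29, 3])))) (.node (.node (.node (.leaf [105772736, -16102433, 267240484, 120178952, -154465862, -3171394, -22242767, -83914824, 7047463, 6134973, -348864, -52904, -161468, -7233, 4416, 97, 3]) (.leaf [0, 0, 1])) (.node (.leaf []) (.leaf [67, -20, 198, 95, -126, 0, -15, -64, 6, 8]))) (.node (.node (.leaf [29781394, -8773204, 87632746, 43401747, -54046455, -1770224, -5019467, -31794198, 3707341, 3269194, -106750, 96832, -120301, -727, -153, -5]) (.leaf [28273477, -8568848, 89271360, 46337181, -57510758, -1965826, -3427290, -34062032, 3389060, 4014584, -159280, 98860, -140077, 769, 1458, -28, -1])) (.node (.leaf [338490, -80979, 940313, 448420, -565504, -15884, -63424, -322006, 35722, 28472, -1504, 574, -1181, -23, -6]) (.leaf [99402650, -5671117, 227335882, 94708006, -125731215, -646988, -22616580, -62862115, 2584290, 2397983, -251439, -393268, 20708, -11023, 10135, -24, 3])))))))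

def twoL215 : Janko.Tree (List ℤ) :=
  (.node (.node (.node (.node (.node (.node (.leaf []) (.leaf [])) (.node (.leaf []) (.leaf [-3345, 420, -7291, -2787, 3706, -10, 898, 1876, -243, 88, -10, 4, -2, 0, 1]))) (.node (.node (.leaf []) (.leaf [1189604, -287395, 3298798, 1572682, -1978984, -59929, -224884, -1131958, 127694, 101901, -5366, 2444, -4174, -71, 26, 1])) (.node (.leaf []) (.leaf [-2828, 324, -6832, -2960, 3895, 16, 639, 2013, -111, -132, 5, 3, -1])))) (.node (.node (.node (.leaf []) (.leaf [80951, -19243, 224025, 106771, -134845, -3420, -15206, -76806, 8052, 6946, -257, 175, -225, -3, 1])) (.node (.leaf [8455578, 14203175, -9272824, -12485375, 10486091, 2698166, -2730297, 13347224, -6787935, -2617999, -33693, -452582, 246932, 1783, 9080, -13, -1]) (.leaf [1283214, -329391, 3554732, 1684686, -2118175, -62590, -249777, -1215124, 150786, 99837, -4827, 2424, -4684, -135, 31]))) (.node (.node (.leaf []) (.leaf [-238206, 71184, -665506, -314844, 393484, 11581, 48242, 229775, -33242, -17004, 439, -539, 922,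 35, 1])) (.node (.leaf [-64244339, 4491188, -136339357, -51145558, 69180984, -373369, 17294290, 32908773, -3256865, 1612560, 41530, 361665, -3871, 18993, -9661, 156, -3]) (.leaf [-1878620, 343327, -5387634, -2709776, 3411764, 109340, 278695, 1952578, -89493, -284006, 11558, -8362, 3548, -613, 197, -9]))))) (.node (.node (.node (.node (.leaf []) (.leaf [-168701912, 29210542, -426715019, -190377684, 244357357, 4857582, 36604310, 133269314, -13776664, -8002908, 451106, 143412, 317558, 22587, -9278, 81, -7])) (.node (.leaf [328877, -62711, 890267, 424236, -537393, -14657, -61006, -303104, 23322, 32794, -1386, 695, -657, 24, -16, 1]) (.leaf [-167, 74, -790, -477, 608, 13, -16, 339, -14, -64, 4, -2, 1]))) (.node (.node (.leaf []) (.leaf [146441, -32319, 410719, 198104, -250524, -6617, -25366, -141876, 13394, 13438, -764, 353, -462, -5, -3])) (.node (.leaf [67831402, -6421732, 155516169, 64722443, -84839319, -1317224, -16602481, -43779426, 2894886, 2475452, -206268, -50996, -12530, -1365, 294, 197, 5]) (.leaf [-52053416,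 28263671, -195990934, -109049835, 131652837, 5859848, 3692236, 83357714, -11821398, -10603457, 283546, -462466, 477204, 932, 1618, 124, 10])))) (.node (.node (.node (.leaf []) (.leaf [-102710, 25614, -285101, -136019, 171220, 4779, 19579, 98189, -10952, -8949, 292, -216, 305, 4, 1])) (.node (.leaf [-1158, -248, -1571, -257, 487, 14, 416, 15, 71, 74, 6, 5, -3]) (.leaf [-53509645, 12688672, -145148622, -67893814, 85850705, 2158165, 10664267, 48670005, -5740257, -3711711, 137930, -42413, 156780, 5680, -1251, 76, -1]))) (.node (.node (.leaf []) (.leaf [-34326, 6167, -90253, -41737, 53364, 1180, 6847, 29434, -2518, -2549, 132, -44, 63, 1])) (.node (.leaf [-797, 66, -1846, -777, 1021, 12, 185, 525, -29, -28, 3, 1]) (.leaf [3378, -278, 7523, 3058, -4022, -39, -841, -2067, 128, 82, -6, -5, 1])))))) (.node (.node (.node (.node (.node (.leaf []) (.leaf [1, 0, 0, 1, 0, 0, 0, -1])) (.node (.leaf []) (.leaf [3465, -278, 7749, 3158, -4164, -36, -859, -2126, 124, 89, -8, -4, 1]))) (.node (.node (.leaf [10, -3, 28, 13, -17,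 1, -3, -8, 2, 0, 0, -1]) (.leaf [703814873, -123785334, 1844167221, 851159017, -1087223875, -24026811, -138774013, -600362066, 53136419, 47893755, -2439864, -52173, -1435245, -43920, 32289, 301, -7])) (.node (.leaf [-422670133, 84003518, -1123404661, -522176321, 663841194, 16105027, 83542115, 370940242, -36653194, -30189156, 1413422, -211848, 1007428, 28229, -11750, -70, -7]) (.leaf [1563, -174, 3663, 1561, -2029, -22, -366, -1078, 71, 66, -5, -1])))) (.node (.node (.node (.leaf []) (.leaf [-144216309, 26558697, -378103775, -174475132, 222430825, 5271329, 29001417, 123413744, -11365262, -10231337, 503420, -85177, 299665, 6063, -2086, -141, -3])) (.node (.leaf []) (.leaf [-961159141, 280894989, -2742920733, -1324247319, 1653230317, 53009234, 181494646, 966205113, -125563192, -87008375, 3087922, -2888334, 3806806, 79844, 12240, 85, -11]))) (.node (.node (.leaf [43070, -8759, 114957, 53801, -68265, -1596, -8355, -38488, 3549, 3359, -82, 75, -86, 2, -1]) (.leaf [865, 7, 1898, 765, -1041, 1, -194, -486, -5, 11, -2,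 -3, 1])) (.node (.leaf [3369, -297, 8644, 3912, -5221, 29, -619, -2614, 54, 177, -10, 0, 3, -1]) (.leaf [-8716, 2296, -22303, -9959, 12570, 229, 2097, 7234, -1011, -451, -32, -3, 18, 1]))))) (.node (.node (.node (.node (.leaf []) (.leaf [-780, 75, -2103, -1004, 1307, 33, 132, 682, -16, -87, 6, -1, 1])) (.node (.leaf []) (.leaf [1280812, -224542, 3345643, 1548664, -1972635, -51369, -258407, -1095909, 90501, 103952, -5060, 1740, -2315, 49, -46, 3]))) (.node (.node (.leaf [-159257769, 37239777, -427385817, -198134388, 250680174, 6399383, 32587549, 141789140, -17302046, -10164250, 453838, -124740, 481874, 21136, -5470, 51, 1]) (.leaf [-396301, 100957, -1103228, -524585, 659388, 19820, 75477, 378128, -46780, -30833, 1764, -716, 1551, 42, -15])) (.node (.leaf []) (.leaf [7, -1, 18, 9, -10, 1, -1, -7, 1, 0, 0, -1])))) (.node (.node (.node (.leaf []) (.leaf [-5948, 1699, -17972, -9048, 11285, 419, 914, 6583, -714, -748, 44, -28, 26, -1])) (.node (.leaf [2701696, -671381, 7675337, 3730005, -4683113, -141307, -472130,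 -2697234, 284492, 263353, -11154, 5929, -9312, -106, 56, 1]) (.leaf [74983, -16582, 198730, 91995, -116406, -3095, -15672, -65872, 7227, 5569, -196, 113, -177, -2, -1]))) (.node (.node (.leaf [23703646, -14975448, 88317970, 48239009, -57655132, -2924345, -2789727, -37349444, 6669994, 4435580, -100572, 286742, -242434, -2452, -2842, 4, -1]) (.leaf [-1396, 119, -2940, -1120, 1484, 8, 385, 751, -62, -5, 0, 2, -1])) (.node (.leaf [1191, 1120, -584, -1355, 1318, 117, -577, 1356, -422, -319, -12, -34, 18]) (.leaf [-1625484, 434380, -4653279, -2262334, 2832780, 87051, 285292, 1642067, -191722, -150061, 6103, -3133, 6296, 161, -81, 1])))))))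

def twoL216 : Janko.Tree (List ℤ) :=
  (.node (.node (.node (.node (.node (.node (.leaf [1]) (.leaf [102536790, -38574197, 305745822, 149461071, -184360047, -6731548, -19461133, -110836313, 18448318, 8777143, -274738, 378175, -581110, -22703, 3203, -207, 3])) (.node (.leaf [-97224, 28239, -284812, -140136, 175112, 5784, 16932, 101991, -12131, -10320, 420, -337, 399, 8, -3]) (.leaf [1]))) (.node (.node (.leaf [131205, 245742, 4518, -57761, -28802, 58024, -1416, 115772, -147532, -3974, 2600, -8024, 6533, -64, -208, 3]) (.leaf [-56838003, 14627755, -157363808, -74670672, 93788938, 2762116, 11037723, 53975607, -6628198, -4504918, 190648, -103446, 200238, 5224, -1600, 1])) (.node (.leaf [1]) (.leaf [1])))) (.node (.node (.node (.leaf [-103089, 25003, -285348, -136010, 171471, 4584, 19559, 98007, -10580, -8932, 308, -204, 295, 4, 1]) (.leaf [1])) (.node (.leaf [249073328, -94303319, 765416128, 384205103, -472700687, -18241409, -42716027, -286027629, 42305396, 28513237, -896440, 1314662, -1395118, -22147, -10264, -96,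 -3]) (.leaf [-1110275, 367936, -3185037, -1520148, 1888946, 64653, 220340, 1113196, -183448, -74499, 3624, -2062, 5855, 307, -88, 3]))) (.node (.node (.leaf []) (.leaf [-127225941, 61799506, -456778362, -249600604, 302726098, 13185180, 11511691, 189525357, -25775316, -23839897, 730519, -1051255, 1039444, -249, 3909, 27, 27])) (.node (.leaf [-14, 38, -366, -280, 348, 12, -50, 205, -2, -51, 4, -2, 1]) (.leaf [1, -1, -3, -3, 4, 0, -1, 2, 1, -1]))))) (.node (.node (.node (.node (.leaf []) (.leaf [-2545216850, 381031464, -6306633836, -2776333794, 3585036873, 61864080, 559087078, 1925764935, -179682343, -107775206, 6788657, 3625230, 3763583, 323786, -173820, 709, -77])) (.node (.leaf []) (.leaf [-78999038, 17612397, -215118353, -101380181, 128272158, 3298709, 15128296, 72534664, -7779333, -5984659, 265666, -61454, 228959, 6408, -2602, 40, 1]))) (.node (.node (.leaf []) (.leaf [1])) (.node (.leaf []) (.leaf [-121866, 27868, -330121, -154978, 196222, 4854, 24161, 111052, -11834, -9546, 289, -195, 299, 3, 3])))) (.node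 (.node (.node (.leaf [1]) (.leaf [1])) (.node (.leaf [-6148003, 2254299, -18103398, -8761091, 10857647, 338058, 1181927, 6472324, -1082778, -443413, 5886, -13318, 32261, 1676, -405, 25]) (.leaf [-307162923, 26819116, -735692588, -318996082, 417990223, 4535951, 65885834, 216248086, -11402413, -12270072, 932531, 887894, 134478, 24971, -27768, 44, -5]))) (.node (.node (.leaf [-36, 19, -130, -67, 88, 0, 8, 46, -6, -7]) (.leaf [-1076590, 159085, -2988687, -1472711, 1875475, 45194, 166438, 1047039, -33843, -141839, 5080, -3044, 1003, -271, 88, -5])) (.node (.leaf [-3940, 879, -10617, -4977, 6316, 133, 787, 3567, -350, -321, 10, -10, 9]) (.leaf [2434, -239, 5354, 2141, -2814, -23, -640, -1452, 110, 53, -2, -4, 1])))))) (.node (.node (.node (.node (.node (.leaf []) (.leaf [1])) (.node (.leaf [-1270, 140, -3045, -1301, 1720, 5, 289, 877, -57, -40, 3, 2, -1]) (.leaf [1334, -112, 3453, 1584, -2118, 22, -234, -1062, 3, 85, -1, 0, 1]))) (.node (.node (.leaf [1]) (.leaf [-48054706, 3150310, -112834701, -47818358, 63411020,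 27710, 10202190, 31854179, -1641263, -680909, 109980, 281377, 21329, 9213, -9381, 129, 5])) (.node (.leaf [-3800373057, 804685447, -10088229636, -4666164587, 5922054912, 147041572, 771959654, 3323348108, -363003593, -253559162, 11569248, -2431157, 9808017, 366546, -122207, -412, -43]) (.leaf [8761406, -1763312, 25140969, 12491903, -15738987, -449978, -1304589, -8988203, 628094, 1041607, -43668, 13018, -23523, 546, 153, 13])))) (.node (.node (.node (.leaf []) (.leaf [-898437, 157410, -2418717, -1153598, 1461554, 41996, 164149, 822845, -56680, -92717, 4592, -2175, 1785, -132, 28, -3])) (.node (.leaf []) (.leaf [90033454, -11601627, 194255823, 72564224, -96909604, 68793, -25611192, -47760053, 7683056, -2999513, 13102, -402590, -74132, -32562, 9798, -258, 5]))) (.node (.node (.leaf [53, -9, 139, 63, -84, 0, -11, -42, 3, 3]) (.leaf [])) (.node (.leaf [165760390, -5141880, 397114603, 175541745, -231779478, -1859224, -31899816, -117495189, 196365, 9109785, -679092, -620743, 61785, 1000, 18181, 113, -1]) (.leaf [760504,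 -314120, 2534413, 1339060, -1631415, -75801, -95371, -1006472, 136114, 122850, -6171, 6435, -5794, 57, 54, 1]))))) (.node (.node (.node (.node (.leaf []) (.leaf [1])) (.node (.leaf [-1411573, 234216, -3937755, -1936725, 2455734, 63795, 219913, 1383437, -67330, -173392, 7168, -3406, 2482, -294, 20, -5]) (.leaf []))) (.node (.node (.leaf []) (.leaf [1])) (.node (.leaf [-55626, 12100, -150103, -70375, 89310, 2130, 10951, 50254, -5076, -4355, 164, -90, 129]) (.leaf [537675, -127701, 1526232, 745549, -938547, -26282, -92977, -538674, 48494, 58943, -1806, 1538, -1375, 22, -19, 1])))) (.node (.node (.node (.leaf [1]) (.leaf [-82929974, 12599619, -212548558, -96570623, 124291278, 2214879, 16661789, 67379423, -5417715, -4823820, 264044, 96384, 133448, 6010, -4795, 36, 1])) (.node (.leaf [1]) (.leaf [98438, -25278, 276776, 133288, -167457, -4665, -18133, -96552, 10666, 9043, -274, 212, -305, -4, -1]))) (.node (.node (.leaf [838654569, -251851222, 2402659473, 1161467571, -1448113569, -47331350, -158871861, -848998889, 113124592,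 76328872, -2660902, 2692668, -3431047, -74162, -13952, -76, 11]) (.leaf [-5890, 263, -13180, -5420, 7176, 134, 1421, 3580, -118, -231, 32, 2, 3, -4])) (.node (.leaf []) (.leaf [-123392982, 23748065, -328379371, -152879695, 194661667, 4512148, 23967102, 108354907, -10298526, -8754990, 423946, -17858, 288804, 8379, -4595, 40, -1])))))))

def twoL217 : Janko.Tree (List ℤ) :=
  (.node (.node (.node (.node (.node (.node (.leaf []) (.leaf [-4915041, 15931009, -47986149, -32629931, 35861100, 3577840, -1023676, 27901912, -6636998, -5493796, 73038, -581221, 247038, -8432, 14246, -221, 1])) (.node (.leaf [0, 1]) (.leaf [2866679, -694701, 7598108, 3465092, -4388593, -106005, -613872, -2475929, 342352, 136978, -5993, -137, -9080, -626, 185, -5]))) (.node (.node (.leaf [1819, -117, 4024, 1620, -2147, -26, -455, -1074, 62, 38, -6, -4, 1]) (.leaf [-32858073, 12584608, -99502222, -48971976, 60506831, 2024590, 5925309, 36262204, -6057313, -2681188, 69694, -71328, 190387, 8870, -349, 194, 1])) (.node (.leaf [17700, -4164, 47412,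 21916, -27840, -730, -3814, -15579, 1836, 1321, -58, 33, -51, -2, 1]) (.leaf [-8124, 1963, -22991, -11119, 14028, 410, 1462, 7984, -815, -803, 42, -24, 24])))) (.node (.node (.node (.leaf []) (.leaf [15874002, 1364141, 27830566, 8426173, -12442130, 392521, -4681274, -4505752, -353612, -790239, -19621, -136268, 46719, -4304, 2922, 14, 3])) (.node (.leaf [-21927790, 2484090, -51979842, -22176697, 28958817, 383434, 5079514, 15128228, -1130249, -790715, 48792, 38694, 11004, 1683, -1142, 0, -3]) (.leaf [617533, -183032, 1646532, 745083, -933717, -28062, -142772, -540011, 94511, 24944, -834, 570, -2367, -204, 12, -1]))) (.node (.node (.leaf [18161931, 6988406, 23972848, 4465719, -9408214, 1394401, -5084509, -73176, -3323442, -1248128, -47563, -273602, 145134, 284, 4684, 32, 1]) (.leaf [13319, -24745, 40426, 11411, -11820, 796, -9279, -11239, 15369, -7625, 713, -142, -326, -60, 11, -1])) (.node (.leaf [196, -20, 450, 186, -244, 0, -46, -127, 10, 2, -1]) (.leaf [0, 1]))))) (.node (.node (.node (.node (.leaf []) (.leaf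 [])) (.node (.leaf []) (.leaf [0, 1]))) (.node (.node (.leaf []) (.leaf [22679, -5625, 64396, 31123, -39380, -939, -4038, -22351, 2283, 2102, -75, 56, -66, 2])) (.node (.leaf [0, 1]) (.leaf [42974903, -12854008, 104621539, 43164708, -54396255, -1625622, -12404665, -31019721, 7193671, 88786, 31221, 40022, -139781, -16823, 456, -125, 11])))) (.node (.node (.node (.leaf [215, -61, 542, 233, -300, -8, -61, -163, 27, 11, 2]) (.leaf [23678782, -5988318, 60028361, 25857214, -33013618, -580167, -5756781, -18247515, 3388163, 28801, -16261, -62531, -85013, -10452, 3040, -124, -1])) (.node (.leaf []) (.leaf [0, 1]))) (.node (.node (.leaf []) (.leaf [-6240914, 1487747, -17130644, -8104240, 10209959, 293545, 1201619, 5828305, -670177, -489448, 23263, -9082, 20612, 513, -232, 1])) (.node (.leaf [-1602, 113, -3703, -1561, 2057, 29, 370, 1046, -46, -64, 6, 1]) (.leaf [196, 77, 162, -36, -3, 30, -74, 60, -36, -33, 0, -1, 1])))))) (.node (.node (.node (.node (.node (.leaf []) (.leaf [])) (.node (.leaf [-101645, 24994, -282336,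 -134869, 169927, 4556, 19174, 97294, -10551, -8920, 298, -211, 296, 4, 1]) (.leaf [0, 1]))) (.node (.node (.leaf []) (.leaf [872349211, -178498472, 2323708301, 1081276473, -1372613042, -34396289, -173210905, -769834268, 77998937, 63320547, -2857476, 688833, -2133486, -57873, 23341, 418, 13])) (.node (.leaf [0, 1]) (.leaf [0, 1])))) (.node (.node (.node (.leaf []) (.leaf [0, 1])) (.node (.leaf [-256646768, 22682287, -629315337, -279413931, 364710395, 4486751, 51704675, 190599077, -8652034, -13129695, 879950, 706798, 139204, 12998, -24015, 56, -1]) (.leaf [49602779, 5553819, 75681355, 16466910, -27745283, 2329580, -16819562, -6061550, -1199651, -4777602, 29180, -482197, 182386, -15140, 8569, 8, 7]))) (.node (.node (.leaf [0, 1]) (.leaf [10725, -2339, 28768, 13396, -17065, -375, -2187, -9531, 951, 838, -29, 27, -21])) (.node (.leaf [0, 1]) (.leaf [2823, -244, 7238, 3315, -4370, -22, -518, -2244, 43, 202, -11, 1, -1]))))) (.node (.node (.node (.node (.leaf [0, 1]) (.leaf [1285, -319, 2719, 915, -1241, 53, -401, -626,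 194, -159, 20, -1, 2, 0, -1])) (.node (.leaf [0, 1]) (.leaf [0, 1]))) (.node (.node (.leaf [0, 1]) (.leaf [-787, 267, -2403, -1163, 1528, -42, 134, 821, -86, -40, -7, 1])) (.node (.leaf []) (.leaf [0, 1])))) (.node (.node (.node (.leaf [336, -51, 877, 405, -526, -3, -66, -282, 15, 26, -1]) (.leaf [0, 1])) (.node (.leaf []) (.leaf [0, 1]))) (.node (.node (.leaf []) (.leaf [0, 1])) (.node (.leaf [147928, -32034, 395966, 181964, -231720, -6044, -30208, -128237, 16163, 7927, -926, 129, -601, -24, 10]) (.leaf [-5352181, 1323991, -11053120, -3468176, 4722202, -128001, 1845391, 2214091, -1030104, 792672, -27960, 56739, 17583, 5467, -1844, 95, -1])))))))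

def twoL218 : Janko.Tree (List ℤ) :=
  (.node (.node (.node (.node (.node (.node (.leaf []) (.leaf [0, 0, 1])) (.node (.leaf []) (.leaf [5415, -1124, 12988, 5470, -6908, -296, -1465, -3834, 673, 183, -34, -11, -21, -2, 1]))) (.node (.node (.leaf [222024184, -43031193, 583146271, 267907969, -341793574, -7284882, -44830051, -189469200, 19392422, 13410879, -611346, -88334, -503675, -24632, 11796, -206, 1]) (.leaf [0, 0, 1])) (.node (.leaf [1, 0, 3, 1, -1, 0, 0, -1]) (.leaf [213, -131, 44, -170, 221, 49, -173, 87, 59, -69, 21, -5, 1, 1])))) (.node (.node (.node (.leaf [423, -87, 984, 392, -511, -20, -132, -263, 47, 16, -4, 3, -1]) (.leaf [38086968, -9451189, 105536041, 50305105, -63225088, -1886072, -7274863, -36330958, 4138699, 3290909, -136672, 82969, -123357, -2280, -159, 36, -1])) (.node (.leaf [0, 0, 1]) (.leaf [0, 0, 1]))) (.node (.node (.leaf [0, 0, 1]) (.leaf [0, 0, 1])) (.node (.leaf [0, 0, 1]) (.leaf [2430149, -547678, 6330803, 2856585, -3627570, -87951, -531357, -2030459, 273137, 109436, -6002, -556,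 -7238, -506, 138, -3]))))) (.node (.node (.node (.node (.leaf []) (.leaf [-38910, -3223, -57422, -8910, 17268, -1858, 14468, 812, -1587, 6665, 389, 358, 101, 17, -2])) (.node (.leaf [0, 0, 1]) (.leaf [19451301, -14601507, 100379658, 63625822, -75829563, -3668015, 3450138, -49560025, 4785297, 8717295, -201244, 325028, -261899, 11491, -1988, -50, -9]))) (.node (.node (.leaf []) (.leaf [205110, -46226, 574352, 276596, -349606, -9230, -36144, -198324, 19155, 18777, -972, 475, -628, -3, -5])) (.node (.leaf [-144, 16, -332, -143, 184, 1, 32, 102, -4, -7, 0, -1]) (.leaf [0, 0, 1])))) (.node (.node (.node (.leaf [1, 0, 0, 0, 1, 0, 0, -1]) (.leaf [25976, -6098, 71619, 33998, -43073, -1022, -4966, -24358, 2522, 2192, -74, 50, -68, 1])) (.node (.leaf [0, 0, 1]) (.leaf [11874432, -3011300, 31493329, 14299130, -18152906, -350444, -2582779, -10220637, 1471271, 486862, -9022, -7670, -35415, -2442, 596, -53]))) (.node (.node (.leaf [0, 0, 1]) (.leaf [-29363, 6035, -78059, -36270, 46108, 1092, 5909, 25820, -2545, -2194, 90, -44,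 65])) (.node (.leaf [0, 0, 1]) (.leaf [-1976, 225, -4949, -2223, 2894, 50, 413, 1522, -80, -136, 10, 0, 1, -1])))))) (.node (.node (.node (.node (.node (.leaf [0, 0, 1]) (.leaf [-1475, 148, -3439, -1450, 1901, 19, 346, 986, -63, -50, 4, 1])) (.node (.leaf [-452, 77, -1118, -489, 640, 1, 108, 337, -28, -24, 1]) (.leaf [-75, 4, -173, -74, 93, 0, 14, 54, -3, 0, 1]))) (.node (.node (.leaf [3, -2, 11, 4, -8, 1, -2, -1, 0, 1]) (.leaf [35728844, -24081788, 121629499, 61185229, -73219658, -3387941, -7372820, -47296824, 12414821, 2512092, 16151, 243582, -385663, -22928, -2736, -335, -1])) (.node (.leaf [-564577863, 91530418, -1408381912, -621599288, 800825718, 14431959, 124607208, 432785021, -43572721, -23898856, 1434880, 669357, 945747, 75309, -36303, 324, -17]) (.leaf [-11890072, 1248102, -29662010, -13308359, 17296297, 255924, 2366221, 9130747, -502969, -653638, 44910, 28119, 11184, 797, -848, 5])))) (.node (.node (.node (.leaf []) (.leaf [])) (.node (.leaf [-61365295, 12769680, -162673493, -75091703, 95466215, 2282486,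 12449348, 53334365, -5814178, -3931102, 197391, -21702, 160972, 6134, -2543, 28, -1]) (.leaf [0, 0, 1]))) (.node (.node (.leaf [-41639, 4800, -99455, -42596, 55934, 603, 9745, 28897, -1890, -1841, 101, 6, 2, 0, 1]) (.leaf [4356, -1100, 12136, 5812, -7319, -204, -844, -4195, 449, 425, -16, 13, -13])) (.node (.leaf []) (.leaf [11575000, -4587216, 36382078, 18547398, -22730660, -925413, -1881852, -13885895, 2001085, 1517746, -44247, 74972, -67334, -351, -705, 7]))))) (.node (.node (.node (.node (.leaf []) (.leaf [-48, 29, -446, -311, 400, 12, -41, 215, 4, -54, 4, -2, 1])) (.node (.leaf [-2, -1, -7, -5, 6, 0, -1, 4, 1, -1]) (.leaf [-4043273, 946962, -11384995, -5517403, 6947115, 198542, 711030, 3977139, -385362, -401652, 16564, -9308, 12387, -65, -12, -3]))) (.node (.node (.leaf []) (.leaf [-596423, 147654, -1708658, -838701, 1053459, 30476, 101600, 607778, -56954, -66558, 2136, -1852, 1719, -32, 25, -1])) (.node (.leaf [3241, 49, 6748, 2655, -3524, -76, -793, -1736, -16, 106, -22, -2, 1]) (.leaf [45065, -4965, 109774,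 48103, -62537, -1134, -9772, -32946, 2178, 2236, -223, -8, -39, -2, 4])))) (.node (.node (.node (.leaf [-64, 7, -156, -68, 90, 0, 14, 46, -2, -3]) (.leaf [-28761335, -12787138, -30937592, -1188383, 8310553, -2856002, 8900641, -4819946, 5583926, 3567945, 36134, 555606, -253460, 5270, -11354, 32, -1])) (.node (.leaf [-29238, 6322, -78673, -36783, 46747, 1060, 5801, 26228, -2644, -2232, 80, -44, 66, -1]) (.leaf [-13049011, -3333685, -1722368, 10876049, -10757333, -1381874, 8069154, -10291911, 419970, 3906347, -112391, 157672, -122076, 8310, 415, -32, -11]))) (.node (.node (.leaf [918051906, -266103168, 2606859319, 1254136728, -1566564073, -50019074, -175617577, -914286143, 119441520, 81238802, -2916962, 2722892, -3586914, -78936, -12282, 5, 13]) (.leaf [-1023118, 683861, -4396467, -2615685, 3131991, 137130, -1152, 2040599, -223758, -347725, 894, -18172, 8226, -575, 292, -3])) (.node (.leaf [2488792, 5881833, -13469944, -12654109, 13469783, 1526432, -2618341, 11138698, -2286736, -2653516, 53540, -205126, 113757,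 -2936, 4082, -27, 1]) (.leaf [-127387350, 23281987, -339323992, -158847820, 202260106, 4785443, 24214420, 112586380, -9619889, -9933297, 473396, -53528, 274587, 3049, -4304, -70])))))))

def twoL219 : Janko.Tree (List ℤ) :=
  (.node (.node (.node (.node (.node (.node (.leaf []) (.leaf [-91638224, 46551556, -317581749, -168961609, 204556846, 9195211, 11900992, 128565052, -20620569, -14542356, 395924, -758234, 750431, 8021, 5381, 149, 5])) (.node (.leaf [-16246, 2703, -40822, -18149, 23316, 551, 3635, 12640, -1260, -897, 65, 2, 31, 2, -1]) (.leaf [-867, -11, -2026, -887, 1161, 36, 169, 586, 0, -54, 12, 2, 1]))) (.node (.node (.leaf [-1, 0, -2, -1, 1, 0, 0, 1]) (.leaf [182998706, -48938221, 507872843, 240950376, -302350172, -9065444, -36153129, -174509264, 22077387, 14759281, -564971, 430843, -640304, -15734, -918, 2, 3])) (.node (.leaf []) (.leaf [17733, -5124, 51806, 25524, -31950, -862, -3041, -18641, 2065, 1884, -40, 57, -62, -1])))) (.node (.node (.node (.leaf []) (.leaf [35244223, -9970127, 102884641, 50784381,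 -63309895, -2102522, -5987798, -37110493, 4214071, 3842870, -144815, 115750, -139352, -675, -452, 25, -1])) (.node (.leaf []) (.leaf [318019499, -54511731, 798418345, 354559466, -455056299, -9588990, -70582833, -248182156, 25340478, 15894131, -932378, -28064, -570499, -29877, 8370, 268, 9]))) (.node (.node (.leaf []) (.leaf [451135, -96793, 1205825, 560100, -711850, -17033, -91414, -398404, 42292, 32357, -1477, 527, -1180, -21, -17])) (.node (.leaf [47498, -18116, 153500, 80006, -98024, -3747, -6159, -59924, 7762, 6631, -212, 210, -291, -4, 1]) (.leaf [-29170177, 6596422, -81243276, -39163421, 49332221, 1445860, 5259883, 28200263, -2664047, -2901487, 127994, -77834, 85763, -1073, 642, -68, 1]))))) (.node (.node (.node (.node (.leaf []) (.leaf [350, 29, 620, 200, -282, 6, -91, -122, -12, -16, 4, -2, 1])) (.node (.leaf [-24067453, 7749392, -79915904, -43145196, 53016939, 2204621, 2235924, 32133484, -2664724, -4770920, 182458, -172733, 123614, -6047, 1694, -101, 3]) (.leaf []))) (.node (.node (.leaf []) (.leaf [22476,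 -5617, 63927, 30924, -39115, -938, -3996, -22219, 2280, 2097, -74, 56, -66, 2])) (.node (.leaf [40797, -4617, 97400, 41715, -54801, -560, -9506, -28289, 1809, 1778, -100, -7, -2, 0, -1]) (.leaf [-117569, 27617, -320017, -150683, 190482, 4869, 23248, 108200, -11760, -9433, 281, -201, 302, 5, 3])))) (.node (.node (.node (.leaf []) (.leaf [-17663896, 5377252, -48557662, -22893458, 28388872, 1227933, 3989645, 16810244, -2380901, -1800055, 69174, -124654, 61728, -736, 2994, -80, -5])) (.node (.leaf []) (.leaf [3146, -1323, 12019, 6781, -8353, -360, -117, -5012, 489, 761, -47, 32, -26, 1]))) (.node (.node (.leaf []) (.leaf [73234, -18820, 205984, 99249, -124630, -3547, -13494, -71907, 7965, 6785, -210, 150, -227, -4, -1])) (.node (.leaf [47952, -14819, 130078, 59591, -74879, -1868, -10856, -43314, 7114, 2385, -3, 125, -169, -8, -1]) (.leaf [-1098, 147, -2905, -1364, 1758, 39, 205, 947, -48, -105, 8, -1, 1])))))) (.node (.node (.node (.node (.node (.leaf []) (.leaf [])) (.node (.leaf [-391, 41, -926, -400, 520, 3, 83,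 278, -17, -12, 1]) (.leaf [126, -778, 1215, 566, -700, 53, -136, -485, 370, -100, 25, 20, -7, 0, 1]))) (.node (.node (.leaf []) (.leaf [-3593, 204, -7559, -2896, 3858, 10, 942, 1924, -115, -1, 3, 7, -3])) (.node (.leaf [-33172, 8094, -98320, -49264, 62006, 1846, 5054, 35549, -2939, -4320, 274, -215, 139, -12, 1]) (.leaf [8489, 1732, 14100, 4191, -6457, -91, -2657, -1911, -934, 377, -182, 101, 7, 12, 3])))) (.node (.node (.node (.leaf []) (.leaf [-1557, 70, -3361, -1328, 1756, 38, 391, 874, -52, -22, 6, 3, 1])) (.node (.leaf [1490, -214, 3104, 1166, -1502, -23, -449, -815, 115, 8, 4, -5]) (.leaf [17455, 5951472, -14384465, -11057649, 11703070, 1472376, -920131, 9793550, -2463210, -2209725, 40741, -239096, 100665, -3564, 4226, -110, -1]))) (.node (.node (.leaf []) (.leaf [-61, 7, -152, -66, 88, 0, 13, 45, -2, -3])) (.node (.leaf [912804664, -111352437, 2171374100, 923650078, -1204761431, -15588245, -211249729, -630459578, 55924151, 24625618, -2143004, -2260876, -889131, -145163, 82005, -394, 37]) (.leaf [-22974969,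 33040732, -132167596, -82483733, 94097817, 7213425, -647082, 67556790, -14170729, -10976782, 175811, -930458, 537110, -6489, 18190, -113, 1]))))) (.node (.node (.node (.node (.leaf [-348, 89, -1058, -517, 677, 11, 71, 349, -31, -49, 7, -2, 1]) (.leaf [26250939, -2039946, 57030991, 22185255, -29651928, -111167, -6918139, -14552531, 1215071, -25657, -38640, -91783, 3485, -4843, 1995, -4, 3])) (.node (.leaf [584600321, -98441537, 1527540228, 705065132, -901555576, -19651500, -114623831, -496475896, 41492658, 40544635, -2053934, -136983, -1106265, -28503, 25509, 160, 7]) (.leaf [58957, -15318, 154804, 69779, -88381, -2017, -13405, -50078, 7347, 2683, -46, 109, -167, -8, -1]))) (.node (.node (.leaf []) (.leaf [-7101926, -3544745, -7907806, -646675, 2603034, -816054, 1935849, -987943, 1643086, 829456, 5684, 154804, -68425, 747, -3697, 14, 1])) (.node (.leaf [-3337, 260, -7682, -3207, 4241, 34, 784, 2148, -108, -105, 10, 4, -1]) (.leaf [151605, -13920, 389122, 182968, -234893, -6020, -27368, -127889, 2335, 16482, -900,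 328, -56, 39, -6, 1])))) (.node (.node (.node (.leaf []) (.leaf [-10769, 2102, -28544, -13259, 16840, 477, 2163, 9412, -914, -836, 52, -22, 25, -1])) (.node (.leaf []) (.leaf [-331907, 72803, -902500, -425687, 538737, 14161, 63932, 304438, -31365, -26794, 1285, -479, 935, 13, 7]))) (.node (.node (.leaf []) (.leaf [-1683, 131, -3674, -1448, 1930, -8, 424, 970, -61, -2, -1, 2, -1])) (.node (.leaf [-2, -1, 4, 3, -6, 0, 0, 0, 0, 1]) (.leaf [-1669520, 444808, -4780766, -2325475, 2912158, 89237, 292170, 1687814, -195638, -155054, 6304, -3292, 6418, 160, -79, 1])))))))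

def twoL220 : Janko.Tree (List ℤ) :=
  (.node (.node (.node (.node (.node (.node (.leaf []) (.leaf [])) (.node (.leaf []) (.leaf [301532997, -10673176, 718934135, 315496177, -416973726, -2769052, -59125657, -210967179, 1639041, 14704451, -1131240, -1217529, 86690, -5786, 35221, 108, -7]))) (.node (.node (.leaf [1915, -286, 4494, 1880, -2443, -64, -503, -1284, 134, 87, -4, 2, -1]) (.leaf [-95, 70, -1018, -728, 936, -6, -137, 525, 16, -89, -2, -2, 1])) (.node (.leaf []) (.leaf [211, -132, 44, -169, 219, 49, -173, 87, 59, -68, 21, -5, 1, 1])))) (.node (.node (.node (.leaf [-53, 10, -134, -59, 76, 1, 13, 41, -4, -3]) (.leaf [57094745, -33603845, 215060023, 119784745, -143429134, -7499435, -5481748, -92505731, 13739945, 13222223, -331325, 806481, -523325, 10434, -12984, 150, -1])) (.node (.leaf [6778945, -851584, 15808223, 6579381, -8605123, -103361, -1657412, -4474411, 439989, 133178, -10254, -16970, -4836, -1146, 540, -9, 1]) (.leaf []))) (.node (.node (.leaf []) (.leaf [1])) (.node (.leaf [1]) (.leaf [-23351,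 6864, -69706, -34789, 43531, 1236, 3767, 25385, -2736, -2708, 82, -86, 88, 1]))))) (.node (.node (.node (.node (.leaf [1]) (.leaf [1])) (.node (.leaf [857, -180, 2615, 1357, -1710, -44, -90, -986, 42, 133, -2, 6, -1]) (.leaf [-18544297, 4832160, -51169302, -24171036, 30375903, 878751, 3663110, 17463466, -2216172, -1391359, 55179, -30680, 64527, 2254, -370, 7]))) (.node (.node (.leaf [1]) (.leaf [948494, -153019, 2453985, 1129306, -1443762, -34844, -191549, -795162, 60509, 73930, -4010, 1236, -1498, 19, -21, 3])) (.node (.leaf []) (.leaf [-4974675, 1276029, -13885500, -6628083, 8329155, 241858, 938567, 4788079, -572880, -406549, 16911, -8329, 17558, 466, -151, 3])))) (.node (.node (.node (.leaf [1574, -83, 3661, 1552, -2060, -12, -345, -1033, 28, 57, -8, -1]) (.leaf [25977, -6097, 71617, 33996, -43069, -1022, -4966, -24358, 2522, 2191, -74, 50, -68, 1])) (.node (.leaf [-143702, 29602, -379060, -175226, 222469, 5516, 29570, 124867, -12728, -10461, 400, -158, 313, 2, 1]) (.leaf [310047362, -93406929, 890669115,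 431435547, -537971922, -17331578, -58273789, -315466283, 41636416, 28630429, -936840, 989146, -1257466, -24366, -5906, -93, 5]))) (.node (.node (.leaf []) (.leaf [22686764, -2097140, 52946346, 21900055, -29097794, 116060, -5071228, -14552956, 1323727, -267842, -23318, -169778, -23493, -7969, 5644, -132, -3])) (.node (.leaf [-1717010, -4880984, 17006322, 15328082, -17044096, -1443779, 3328620, -12931613, 1510110, 3204836, -72342, 175048, -101050, 5932, -2330, 8, -3]) (.leaf [-681556, 150469, -1821931, -848116, 1074887, 26010, 137923, 606747, -64795, -49868, 1374, -645, 1486, 48, 17])))))) (.node (.node (.node (.node (.node (.leaf []) (.leaf [19057470, -5243305, 55242658, 27195079, -33969372, -1068684, -3267599, -19843307, 2161570, 2070252, -61556, 54137, -66179, -120, -189, -9, 1])) (.node (.leaf [0, 1, -6, -5, 6, 0, -1, 4, 0, -1]) (.leaf [36768085, -4959094, 95880550, 44436381, -57182096, -1078083, -6758682, -30961627, 1981352, 2547270, -156478, -52812, -59968, -1846, 2884, -17]))) (.node (.node (.leaf [105015,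 -25694, 290996, 138754, -174823, -4775, -19922, -100041, 10949, 9079, -306, 205, -304, -4, -1]) (.leaf [23845, -2696, 67570, 33634, -42793, -1671, -3269, -23530, 788, 3305, -365, 159, -99, 14, -1])) (.node (.leaf [-28722649, 5134086, -66324093, -26282858, 34471592, 185708, 7671101, 17788406, -3256301, 851953, 4012, 139771, 61763, 13481, -4317, 160]) (.leaf [13913, -3582, 38710, 18504, -23230, -679, -2672, -13408, 1534, 1251, -40, 34, -45])))) (.node (.node (.node (.leaf [1]) (.leaf [917741, -323242, 2699179, 1308195, -1619084, -54135, -170016, -964347, 161541, 62305, -2048, 504, -5190, -312, 136, -5])) (.node (.leaf [1]) (.leaf [-5702711, 1332375, -15806788, -7547723, 9521459, 255862, 1050440, 5426399, -574432, -480605, 19970, -7908, 17489, 280, -192, 3]))) (.node (.node (.leaf []) (.leaf [1])) (.node (.leaf []) (.leaf [1]))))) (.node (.node (.node (.node (.leaf []) (.leaf [384, 20, 566, 125, -186, 4, -142, -65, -2, -17, 0, -2, 1])) (.node (.leaf [-13, 3, -52, -27, 38, 0, 2, 16, 0, -3]) (.leaf [-29128, 2376,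 -82776, -41699, 53303, 1671, 3438, 29156, -180, -4265, 425, -181, 87, -16, 1]))) (.node (.node (.leaf []) (.leaf [-145964910, 34729262, -395633595, -184814552, 233522896, 6110359, 29192261, 132478950, -16022382, -9874019, 423256, -104616, 450141, 18966, -4217, 177, -1])) (.node (.leaf [364, 39, -320, -514, 740, -76, -288, 330, 62, -81, 2, -4, -2, 1]) (.leaf [1164548, -307623, 3137011, 1444508, -1818226, -52177, -248756, -1039585, 152751, 63030, -3432, 1248, -4450, -242, 44, -1])))) (.node (.node (.node (.leaf []) (.leaf [18982567, -4707167, 52544794, 25018143, -31450589, -932290, -3634467, -18062907, 2070264, 1615795, -67840, 40330, -62209, -1033, 176, 11])) (.node (.leaf [3556037, -869627, 9159652, 4055645, -5144714, -122958, -823168, -2886531, 460967, 99668, -5812, -3185, -11660, -1129, 323, -9]) (.leaf [718266737, -226676408, 2072970969, 1003572762, -1248839005, -41475234, -136575168, -735611710, 103412457, 64093839, -2168990, 2369903, -3149438, -83234, -9571, -362, 5]))) (.node (.node (.leaf []) (.leaf [-8802712,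 1286073, -22317885, -10073153, 12965521, 256241, 1816409, 7017778, -553076, -524857, 33737, 3872, 13960, 434, -235, -13])) (.node (.leaf [1]) (.leaf [1])))))))

def twoL221 : Janko.Tree (List ℤ) :=
  (.node (.node (.node (.node (.node (.node (.leaf [0, 1]) (.leaf [8, -9, 32, 16, -19, -1, -4, -12, 4, 2])) (.node (.leaf [-2267, 156, -5014, -2020, 2661, 43, 565, 1349, -91, -43, 9, 5, -1]) (.leaf [211743106, -40242169, 549963294, 250836809, -319948383, -7391487, -44101403, -177252957, 18227189, 12875209, -648308, 24406, -465124, -20183, 8477, 35, 9]))) (.node (.node (.leaf [-188, 73, -503, -220, 291, -7, 57, 155, -24, -11, -3, 0, -1]) (.leaf [353, 32, 179, -163, 200, -16, -199, 137, 28, -64, -2, -2])) (.node (.leaf []) (.leaf [-1041, 122, -2509, -1061, 1432, -12, 255, 696, -35, -42, 2, 0, -2, 1])))) (.node (.node (.node (.leaf []) (.leaf [0, 1])) (.node (.leaf [44528591, 700711, 97913410, 39993300, -54222738, 229158, -9771664, -25618498, -584801, 950847, -136113, -255156, 59243, -2056, 6098, -16, 1]) (.leaf [23510,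 -6883, 70176, 35018, -43845, -1220, -3781, -25539, 2734, 2713, -81, 86, -87, -1]))) (.node (.node (.leaf []) (.leaf [])) (.node (.leaf []) (.leaf [-23786, 6886, -70822, -35294, 44221, 1218, 3841, 25715, -2728, -2729, 83, -86, 87, 1]))))) (.node (.node (.node (.node (.leaf []) (.leaf [1, 2, 1, 0, -1, 1, 0, 0, -1])) (.node (.leaf [0, 1]) (.leaf []))) (.node (.node (.leaf [-247, 9, -563, -235, 316, 0, 59, 153, 1, -13, 1]) (.leaf [0, 1])) (.node (.leaf []) (.leaf [0, 1])))) (.node (.node (.node (.leaf [0, 1]) (.leaf [19881182, -35092236, 145517573, 96585319, -110487877, -8075134, 5256367, -78892194, 14144291, 14093880, -300042, 1018903, -620593, 14781, -16151, 90, -9])) (.node (.leaf []) (.leaf [225483819, -78650526, 664948446, 325441106, -402824078, -14253319, -42610535, -240502697, 35631772, 21981208, -607602, 986390, -1079123, -22509, -9626, -115, 7]))) (.node (.node (.leaf [0, 1]) (.leaf [-2718060, 671085, -7430216, -3492003, 4392267, 134981, 541280, 2513093, -314701, -200090, 11707, -4904, 10026, 283, -102,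 -1])) (.node (.leaf []) (.leaf [478, -7, 1096, 573, -585, -135, -59, -482, 36, 102, -12, -1, -6, 1])))))) (.node (.node (.node (.node (.node (.leaf []) (.leaf [])) (.node (.leaf [-21113602, 4120804, -56148864, -26124425, 33223619, 799731, 4126155, 18542297, -1805386, -1494695, 72713, -4592, 50585, 1666, -948, 1]) (.leaf [-419175, 96363, -1158184, -555062, 698136, 21011, 77884, 400492, -39861, -40090, 1634, -1016, 1184, -4, 10, -1]))) (.node (.node (.leaf [0, 1]) (.leaf [0, 1])) (.node (.leaf [125945348, -28607533, 344446129, 163274598, -206038577, -5748888, -24085854, -117275028, 12240410, 10675396, -440526, 217375, -354407, -4348, 419, 74, 3]) (.leaf [0, 1])))) (.node (.node (.node (.leaf []) (.leaf [754, -35, 1671, 648, -899, 3, -202, -396, 17, 5, -2, -2, 1])) (.node (.leaf [-718607, 617732, -2693928, -1399369, 1640782, 97507, 141938, 1104395, -327103, -59007, 460, -6846, 10891, 600, -78, 11]) (.leaf [-11857072, 2037810, -33084090, -16203174, 20534916, 556805, 1873519, 11556958, -672939, -1363220, 65099, -20575,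 25678, -1444, -106, -31]))) (.node (.node (.leaf []) (.leaf [-1308008, 334680, -3610506, -1706181, 2145916, 63119, 257026, 1230055, -154018, -99207, 4804, -2421, 4737, 142, -29])) (.node (.leaf []) (.leaf [-5350, 1888, -16852, -8639, 10730, 371, 829, 6354, -746, -780, 22, -28, 26, -1]))))) (.node (.node (.node (.node (.leaf []) (.leaf [7, 2, 12, 4, -4, 0, -2, -3, 0, 0, -1])) (.node (.leaf []) (.leaf [2657, 1075, 2495, -163, -438, 380, -949, 574, -564, -293, 2, -34, 30, 3]))) (.node (.node (.leaf []) (.leaf [0, 1])) (.node (.leaf [0, 1]) (.leaf [0, 1])))) (.node (.node (.node (.leaf [0, 1]) (.leaf [4989473, -1153129, 13883750, 6677161, -8396849, -257707, -908037, -4813638, 485540, 476548, -22510, 11894, -15710, 12, 72, 6])) (.node (.leaf [0, 1]) (.leaf [0, 1]))) (.node (.node (.leaf [0, 1]) (.leaf [-2761078, 636544, -7249704, -3292792, 4174367, 104729, 596534, 2346697, -313569, -135971, 7011, -150, 8396, 543, -142, 3])) (.node (.leaf [146, -28, 342, 146, -185, -1, -35, -106, 13, 3]) (.leaf [-4207, 131, -9505,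 -3972, 5246, 142, 997, 2609, -57, -229, 33, 0, 5, -4])))))))

def twoL222 : Janko.Tree (List ℤ) :=
  (.node (.node (.node (.node (.node (.node (.leaf []) (.leaf [347, -50, 880, 391, -517, 0, -75, -266, 14, 20, 0, 1])) (.node (.leaf []) (.leaf []))) (.node (.node (.leaf [0, 0, 1]) (.leaf [1685, -60, 3607, 1455, -1889, -48, -411, -992, 34, 59, -8, -2, 1])) (.node (.leaf [0, 0, 1]) (.leaf [0, 0, 1])))) (.node (.node (.node (.leaf [1367, -135, 2857, 1053, -1409, -1, -388, -697, 82, -29, 2, -2, 1]) (.leaf [-45097684, 8163738, -119632899, -55815939, 71124219, 1667276, 8661594, 39513470, -3393931, -3430335, 163511, -15560, 94488, 1483, -1590, -25, -1])) (.node (.leaf [29844052, -3033916, 67939273, 27751959, -36571356, -350204, -7419055, -18635723, 1598980, 466051, -56676, -79688, -11104, -4578, 1970, -2, 3]) (.leaf [0, 0, 1]))) (.node (.node (.leaf [-39, -29, 241, 226, -278, -12, 62, -167, -2, 50, -4, 2, -1]) (.leaf [-54, 15, -147, -71, 88, 0, 9, 54, -6, -3])) (.node (.leaf [1, 0, 3, 1, -1, 0, 0, -1]) (.leaf [-26078780,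 4890914, -70250573, -33152006, 42150029, 1026931, 4824674, 23543733, -2007246, -2137178, 101694, -13785, 60021, 717, -1000, -15]))))) (.node (.node (.node (.node (.leaf [22141, -5624, 63387, 30794, -38907, -966, -3885, -22150, 2282, 2134, -78, 58, -68, 1]) (.leaf [-68, 9, -165, -71, 94, 0, 16, 48, -3, -3])) (.node (.leaf [-225, 43, -613, -287, 372, 7, 42, 199, -16, -16, -1]) (.leaf [-33327417, 6792046, -88964185, -41414044, 52605598, 1291145, 6553955, 29444934, -3016612, -2335978, 113235, -11608, 85270, 2957, -1260, 7]))) (.node (.node (.leaf []) (.leaf [])) (.node (.leaf []) (.leaf [316951, -106572, 657307, 209800, -266092, -6021, -119068, -148104, 75490, -37003, 1464, -1526, -1337, -300, 40, -3])))) (.node (.node (.node (.leaf []) (.leaf [0, 0, 1])) (.node (.leaf []) (.leaf [0, 0, 1]))) (.node (.node (.leaf []) (.leaf [0, 0, 1])) (.node (.leaf []) (.leaf [0, 0, 1])))))) (.node (.node (.node (.node (.node (.leaf []) (.leaf [19613142, -11560181, 78306728, 44780792, -53745335, -2605306, -698007, -34446321, 4746857,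 4737337, -133072, 202308, -203655, 839, -150, -78, -3])) (.node (.leaf [0, 0, 1]) (.leaf [-1146316, 216695, -3313881, -1661514, 2098301, 60305, 165012, 1192645, -64914, -156308, 7723, -4638, 3035, -292, -32, -5]))) (.node (.node (.leaf []) (.leaf [18680, -2200, 55113, 28206, -35613, -1691, -2142, -19850, 668, 3045, -357, 165, -103, 14, -1])) (.node (.leaf [0, 0, 1]) (.leaf [4209336, -834585, 11308223, 5313262, -6738552, -177690, -804157, -3783618, 356799, 335210, -16454, 3319, -10518, -212, 126, 3])))) (.node (.node (.node (.leaf [1604, -318, 4386, 2078, -2674, -56, -315, -1457, 102, 167, -4, 6, -1]) (.leaf [0, 0, 1])) (.node (.leaf [-40105175, 23665863, -127584769, -61981365, 74846028, 3180316, 9069323, 47346773, -12401562, -1963956, -19236, -207740, 369909, 24586, 2310, 323, 1]) (.leaf [1845490, -463054, 4784746, 2119381, -2694292, -56040, -423380, -1506235, 246730, 40703, -2196, -2382, -6302, -624, 198, -7]))) (.node (.node (.leaf []) (.leaf [2156701, -309452, 5188036, 2220476, -2878109, -50974, -508525, -1528076,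 155720, 70204, -6338, -2810, -3049, -316, 63, 1])) (.node (.leaf [0, 0, 1]) (.leaf [-5704, 1900, -17772, -9059, 11305, 353, 880, 6629, -739, -790, 23, -28, 25, -1]))))) (.node (.node (.node (.node (.leaf [0, 0, 1]) (.leaf [0, 0, 1])) (.node (.leaf [0, 0, 1]) (.leaf [0, 0, 1]))) (.node (.node (.leaf [0, 0, 1]) (.leaf [157263164, -50451678, 456874010, 222849627, -276585310, -9861074, -29804929, -163950719, 22289853, 16038910, -533013, 729769, -681165, -5761, -9185, 157, 3])) (.node (.leaf [15999, -5162, 45454, 21907, -27064, -958, -3184, -16232, 2346, 1459, -24, 42, -67, -2]) (.leaf [-4173805, 1006728, -11637969, -5576636, 7016876, 207027, 769352, 4017995, -439341, -367290, 16912, -7711, 14001, 234, -92, -1])))) (.node (.node (.node (.leaf []) (.leaf [-111411066, 11165238, -275365028, -122398474, 159626225, 1767574, 22336306, 83658227, -4677124, -5068426, 349822, 359626, 96502, 10370, -12836, 133, 3])) (.node (.leaf []) (.leaf [329280, -80151, 921550, 441779, -556581, -15766, -60637, -317772, 35048, 28753, -1495,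 622, -1171, -19, -7]))) (.node (.node (.leaf []) (.leaf [0, 0, 1])) (.node (.leaf [-88, 24, -576, -385, 494, 12, -49, 269, 8, -57, 4, -2, 1]) (.leaf [-9850, 455, -23085, -9924, 13120, 185, 2134, 6609, -120, -513, 56, 0, 1, -3])))))))

def twoL223 : Janko.Tree (List ℤ) :=
  (.node (.node (.node (.node (.node (.node (.leaf []) (.leaf [41424, -9014, 110786, 51776, -65562, -1559, -8210, -37178, 3714, 3183, -60, 86, -88, 1, -1])) (.node (.leaf [166, -2, 380, 165, -213, -3, -33, -114, 0, 9, -2]) (.leaf [0, 0, -1, 0, 1]))) (.node (.node (.leaf []) (.leaf [29716, -3648, 70509, 29827, -39584, 75, -7124, -20149, 1210, 1063, 35, 1, 27, 2, -5])) (.node (.leaf [0, 0, 0, 0, 1]) (.leaf [-2288, 159, -5245, -2171, 2896, 6, 536, 1438, -63, -55, 6, 3, -2, 1])))) (.node (.node (.node (.leaf [-6, 0, -10, -3, 3, 0, 2, 3]) (.leaf [-124, -52, -278, -116, 189, -25, 1, 57, 35, 11, -1, 0, -1])) (.node (.leaf []) (.leaf [62205, -19419, 175359, 82932, -103821, -3103, -12745, -60373, 9118, 4348, -106, 202, -253, -13, -1]))) (.node (.node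 (.leaf []) (.leaf [-2457, 574, -5526, -2080, 2730, -58, 664, 1465, -343, 215, -30, 6, 1, 1, 1])) (.node (.leaf []) (.leaf [1, 0, 3, 2, -2, 0, 0, -1]))))) (.node (.node (.node (.node (.leaf []) (.leaf [-76582687, 15891071, -207751280, -98310404, 124485228, 3274126, 14447395, 70268350, -6592947, -6515619, 264838, -88510, 185136, 1878, -720, -33, -3])) (.node (.leaf []) (.leaf [-1984500, 475885, -5451087, -2580013, 3253299, 89070, 383490, 1856112, -209237, -159464, 7323, -4000, 6406, 48, -34, -1]))) (.node (.node (.leaf []) (.leaf [405562, -51108, 978140, 422761, -549455, -9423, -92800, -290121, 23241, 17516, -1400, -149, -344, -29, -13, 1])) (.node (.leaf [6899, -522, 15749, 6510, -8594, -81, -1596, -4374, 259, 125, -17, -3]) (.leaf [-18873, 6543, -63680, -34173, 42624, 1187, 1789, 25207, -2034, -3486, 37, -159, 71, -8, -1])))) (.node (.node (.node (.leaf []) (.leaf [81882969, -17383286, 217692615, 100732493, -127967157, -3009726, -16558761, -71697698, 7809124, 5364644, -220439, 25302, -204752, -8135, 2608, -72,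 1])) (.node (.leaf []) (.leaf [222017113, -43030686, 583128665, 267900041, -341783151, -7284729, -44828653, -189463860, 19392310, 13410363, -611304, -88338, -503671, -24636, 11796, -206, 1]))) (.node (.node (.leaf []) (.leaf [18050237, -3916531, 47390885, 21676023, -27524435, -664005, -3819383, -15436137, 1807218, 1077029, -40676, 6800, -44257, -2210, 546, -13, 1])) (.node (.leaf [4008, -418, 9139, 3759, -4946, -43, -1000, -2541, 192, 102, -6, -7, 2, 0, -1]) (.leaf [113, -22, 306, 142, -189, 1, -24, -96, 6, 9, 0, 0, 0, 1])))))) (.node (.node (.node (.node (.node (.leaf []) (.leaf [-1472, 147, -3433, -1447, 1898, 19, 344, 984, -63, -49, 4, 1])) (.node (.leaf [-642, 1246, -6873, -4836, 5760, 312, -587, 3752, -434, -700, 30, -38, 26, 1]) (.leaf [-442, 63, -1078, -469, 615, 1, 103, 322, -22, -22, 1]))) (.node (.node (.leaf []) (.leaf [26821, -781, 72574, 35732, -46172, -1189, -3433, -24614, -544, 3608, -393, 147, -55, 22, -1])) (.node (.leaf [-356328947, 40106140, -826741794, -342953440, 449852469, 4866637, 86031470,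 231878367, -21511499, -5797459, 792156, 1015845, 300122, 64852, -34273, 115, -13]) (.leaf [6398834, -1007916, 17021484, 8034637, -10248126, -253616, -1170446, -5675012, 367710, 585037, -30990, 7324, -11787, 525, 90, 15])))) (.node (.node (.node (.leaf []) (.leaf [])) (.node (.leaf [-3888876, 547815, -9856597, -4468964, 5759271, 111521, 803794, 3113938, -207072, -272837, 13384, -1580, 4074, -206, -16, -5]) (.leaf [1524159, -383698, 4016038, 1807000, -2294295, -46560, -333477, -1287727, 199644, 43592, -1368, -2558, -5123, -506, 180, -7]))) (.node (.node (.leaf []) (.leaf [-101276458, 17910261, -271011759, -127589104, 162510303, 3811676, 18718955, 90386685, -7189565, -8277777, 399114, -34533, 213313, 830, -3720, -66, 1])) (.node (.leaf [10990566, -1916486, 31011560, 15478379, -19451999, -688552, -1702108, -11159750, 516452, 1633531, -74730, 55730, -21426, 3271, -1028, 85]) (.leaf [-5584, 1921, -17523, -8952, 11161, 351, 860, 6561, -752, -781, 22, -28, 25, -1]))))) (.node (.node (.node (.node (.leaf []) (.leaf [3172,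 -457, 6070, 1943, -2548, -23, -1016, -1330, 354, -255, 20, -6, 1, 0, -1])) (.node (.leaf [-9273, 62261, -52687, -11695, 2460, 4400, 18017, 18157, -40652, 15968, -1048, -130, 1074, 174, -22, 1]) (.leaf [-341, 2651, -7924, -5708, 6241, 732, -533, 4797, -1282, -788, 12, -56, 57, 5]))) (.node (.node (.leaf []) (.leaf [])) (.node (.leaf []) (.leaf [684476, 602982, 413763, -150519, -45215, 90930, -177581, 310925, -297647, -61346, -6092, -18029, 10402, 251, 284, 1])))) (.node (.node (.node (.leaf []) (.leaf [10852232, -1810027, 27259821, 12135419, -15578646, -326930, -2381068, -8491211, 832036, 558299, -30218, -4052, -17914, -960, 520, -1, 1])) (.node (.leaf []) (.leaf [-1456, 122, -3101, -1199, 1584, 9, 392, 808, -62, -11, 0, 3, -1]))) (.node (.node (.leaf []) (.leaf [1010741, -167073, 2517742, 1112975, -1426913, -36425, -229131, -777621, 78824, 54720, -4644, 1212, -2089, -47, 40, 3])) (.node (.leaf [340116391, -38310670, 835695245, 369871580, -480225057, -7627621, -71745709, -254346495, 15844456, 17794766, -1143650,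 -507786, -280559, -16813, 18858, 321, 7]) (.leaf [-10032, 991, -19036, -6093, 8142, 251, 3445, 3813, -933, 413, 24, 70, 25, 0, -1])))))))

def twoL224 : Janko.Tree (List ℤ) :=
  (.node (.node (.node (.node (.node (.node (.leaf []) (.leaf [])) (.node (.leaf [1]) (.leaf [-39993, 13599, -121602, -61085, 75598, 2590, 6511, 45162, -5866, -4613, 123, -140, 189, 4, 1]))) (.node (.node (.leaf []) (.leaf [117861800, -16089842, 266911076, 106459883, -140052365, -1190877, -31139921, -71749565, 9297986, -328728, -114882, -329868, -114975, -28994, 9068, -194, 7])) (.node (.leaf [1]) (.leaf [-637601462, 175381522, -1796054905, -860391426, 1077972704, 32496342, 121248552, 624476471, -79067793, -53409243, 1999278, -1347653, 2371315, 65772, -4033, 473, -7])))) (.node (.node (.node (.leaf [1]) (.leaf [16579982, -9958975, 57672459, 30295294, -36277643, -1816327, -2700709, -23397028, 4639303, 2392287, -41223, 172504, -155013, -3051, -1558, -24])) (.node (.leaf [1]) (.leaf [1]))) (.node (.node (.leaf [367790108, -89216485, 992585293,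 461743597, -583104513, -15505588, -75344368, -331381698, 41228920, 24537504, -997028, 416464, -1128860, -45526, 8470, -230, 7]) (.leaf [94, -18, 226, 91, -126, -3, -34, -55, 5, 11])) (.node (.leaf [-12717795, 25808, -30939275, -14065320, 18507179, 284171, 2238682, 9419994, 257118, -1040947, 85186, 27122, -5713, -1508, -1060, -51, -1]) (.leaf [433616, -112347, 1184006, 555627, -698641, -19665, -88300, -401622, 50929, 32045, -1036, 778, -1373, -44, -1]))))) (.node (.node (.node (.node (.leaf []) (.leaf [-3492864, 869226, -9849732, -4756422, 5975880, 177333, 628024, 3436647, -373490, -324366, 13800, -7312, 11945, 184, -66, -1])) (.node (.leaf [36916744, -7982690, 100296976, 47379353, -59917772, -1626153, -7066868, -33914410, 3403039, 3067612, -140682, 58380, -100769, -1000, 242, 41]) (.leaf [-636656, 136397, -1736657, -823252, 1040906, 29259, 120333, 588950, -57873, -54952, 2829, -1216, 1818, 3, 0, -1]))) (.node (.node (.leaf []) (.leaf [121867, -27868, 330121, 154978, -196222, -4854, -24161, -111052, 11834, 9546,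 -289, 195, -299, -3, -3])) (.node (.leaf [1]) (.leaf [1299412, -367483, 3790314, 1863071, -2324979, -75146, -218740, -1358151, 163052, 126620, -5079, 2726, -5567, -146, 89, -1])))) (.node (.node (.node (.leaf [-8256, 1690, -21427, -9674, 12327, 383, 1868, 6775, -846, -513, 51, 3, 25, 2, -1]) (.leaf [32886585, -8346061, 92019726, 44040784, -55397295, -1524326, -6098232, -31800109, 3693364, 2709335, -98074, 39258, -109815, -3270, 908, -45])) (.node (.leaf []) (.leaf [155060339, -14235189, 327150284, 119249483, -161996366, 1683862, -43259245, -76171015, 11106238, -7554542, 32665, -1077352, -75654, -65602, 29660, -905, 5]))) (.node (.node (.leaf [12, 0, 23, 8, -11, 0, -3, -4, 0, 0, 0, 0, 0, -1]) (.leaf [117, -20, 295, 134, -172, 0, -23, -96, 7, 6])) (.node (.leaf [-4950694, 1007528, -12860644, -5847478, 7441440, 178315, 1056831, 4147474, -465252, -291319, 15008, -2808, 11903, 448, -160, -3]) (.leaf [1])))))) (.node (.node (.node (.node (.node (.leaf [1]) (.leaf [1])) (.node (.leaf [-27534, 6542, -75352, -35590, 45051,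 1066, 5406, 25547, -2720, -2266, 64, -48, 66, -1]) (.leaf [1]))) (.node (.node (.leaf []) (.leaf [17193558, -4882601, 50476041, 24962716, -31158872, -974772, -2842412, -18221403, 2077910, 1810986, -65142, 44789, -69400, -921, 341, -9])) (.node (.leaf []) (.leaf [251138, -54240, 656142, 299839, -381113, -8134, -53476, -213939, 23867, 15390, -136, -14, -429, -37, -11])))) (.node (.node (.node (.leaf [-169080, 49456, -490501, -239482, 298795, 9769, 30168, 174617, -22148, -16185, 713, -455, 747, 22, -3]) (.leaf [832, 69, 1728, 686, -928, -11, -180, -435, -32, 22, -8, -1, 2])) (.node (.leaf [1108, -121, 2985, 1418, -1845, -25, -182, -974, 31, 101, -9, 1, -1]) (.leaf [28925, -6044, 77958, 36536, -46500, -1047, -5644, -25987, 2486, 2266, -90, 48, -63, -1]))) (.node (.node (.leaf [1]) (.leaf [-81038, 23592, -223688, -104764, 131458, 3754, 16993, 76047, -10960, -5516, 116, -218, 292, 13, 1])) (.node (.leaf [-2904254, 9921979, -51702163, -39499649, 45714439, 2728050, -6155771, 31946269, -2814816, -6936393, 138576, -280886,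 196056, -12199, 2254, 43, 9]) (.leaf []))))) (.node (.node (.node (.node (.leaf []) (.leaf [1])) (.node (.leaf [1]) (.leaf [-35454577, 5750502, -92103067, -42435320, 54284313, 1228400, 7031814, 29854615, -2349629, -2589710, 138321, -14086, 62532, 402, -438, -60, 1]))) (.node (.node (.leaf [-2, -1, -2, 0, -1, 1, 0, 1]) (.leaf [-605749, 146838, -1727898, -846234, 1064059, 30260, 103756, 612364, -56288, -66902, 2160, -1834, 1679, -34, 25, -1])) (.node (.leaf [299292163, -56502933, 792299213, 367459367, -468527177, -10244656, -58483403, -260085145, 24508720, 20317053, -925716, -51238, -661720, -22550, 14442, -159, -1]) (.leaf [-70112, 17302, -193129, -91601, 115497, 3048, 13663, 66026, -7374, -5893, 186, -140, 199, 3])))) (.node (.node (.node (.leaf []) (.leaf [1])) (.node (.leaf [-44183, 10013, -119738, -56247, 71268, 1723, 8736, 40273, -4212, -3505, 118, -76, 109, -1]) (.leaf [-717410476, 184111857, -1922682988, -885008638, 1116177886, 30569917, 154301310, 636225859, -87949111, -42659658, 1801256, -1038685, 2367367,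 107259, -8405, 419, -11]))) (.node (.node (.leaf [73604377, -48216711, 251792473, 129756331, -154314700, -8747474, -15103681, -101047212, 22820958, 10305887, -158130, 1039730, -703290, -12658, -21798, 59, 9]) (.leaf [-4362, 348, -9603, -3841, 5090, 20, 1105, 2578, -157, -69, 3, 6, -3])) (.node (.leaf [2241, -125, 4718, 1801, -2411, -8, -600, -1182, 70, 8, -4, -4, 1]) (.leaf [234725, -37162, 627107, 298595, -379911, -10026, -42607, -211958, 11980, 24680, -1080, 529, -323, 39, -14, 1])))))))

def twoL225 : Janko.Tree (List ℤ) :=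
  (.node (.node (.node (.node (.node (.node (.leaf []) (.leaf [-2347, 355, -5516, -2317, 3013, 42, 598, 1598, -157, -90, 4])) (.node (.leaf []) (.leaf [0, 1]))) (.node (.node (.leaf [-6521, 369, -15296, -6553, 8679, 47, 1390, 4395, -99, -261, 21, 3, -5]) (.leaf [])) (.node (.leaf []) (.leaf [0, 1])))) (.node (.node (.node (.leaf []) (.leaf [162387593, -50593153, 472894669, 231229132, -287544830, -9696089, -29695758, -169681244, 22358470, 16157817, -534346, 593823, -697221, -9952, -3624, 0, 1])) (.node (.leaf [-49935217, 6783435, -130572257, -61004598, 78198888, 1758348, 9193975, 42748490, -2439450, -4188879, 229066, -260, 71743, -1647, -1633, -91, -1]) (.leaf [-31604, 6428, -80220, -35838, 45785, 828, 7143, 25431, -2809, -1688, 16, -17, 50, 4, 1]))) (.node (.node (.leaf [0, 1]) (.leaf [0, 1])) (.node (.leaf [-47233759, 9362706, -132248982, -64469373, 81490822, 2231093, 7826407, 46198183, -3431132, -5117420, 229388, -96722, 119151, -3572, 758, -117, 3]) (.leaf [2841, -244, 6574, 2748, -3639, -28, -682, -1835,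 99, 100, -9, -4, 1]))))) (.node (.node (.node (.node (.leaf [0, 1]) (.leaf [0, 1])) (.node (.leaf [6062, 258, 9358, 2045, -3222, 200, -2173, -906, 144, -619, 4, -72, 11, -2, -1]) (.leaf [0, 1]))) (.node (.node (.leaf [0, 1]) (.leaf [-1415828, 343152, -3845730, -1799020, 2264717, 65454, 280698, 1293289, -165154, -91695, 4152, 257, 4780, 293, -102, 3])) (.node (.leaf []) (.leaf [0, 1])))) (.node (.node (.node (.leaf [-1776, 240, -4120, -1720, 2242, 21, 448, 1186, -103, -63, 5, -1]) (.leaf [-193771, 49592, -549069, -265663, 335097, 8462, 35301, 191771, -19681, -19075, 444, -521, 519, -2, 9])) (.node (.leaf [0, 1]) (.leaf [45853151, -58228995, 230334436, 135519188, -155670546, -10518488, -2685103, -110155429, 27624475, 12482437, -139023, 1162154, -1012677, -24277, -8644, -185, -16]))) (.node (.node (.leaf [344575184, -58249493, 864458537, 383263541, -492530532, -9713198, -76005314, -267774279, 27552870, 15828423, -948064, -242705, -622732, -42626, 16375, 39, 9]) (.leaf [-14953, 3668, -41143, -19553, 24586, 702, 2897,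 14133, -1572, -1294, 43, -31, 45])) (.node (.leaf [-93761, 22512, -258167, -122574, 154528, 4304, 18016, 88233, -9700, -7892, 280, -176, 266, 4, 1]) (.leaf [-2996, 1359, -12144, -7004, 8632, 357, 0, 5181, -481, -810, 50, -35, 27, -1])))))) (.node (.node (.node (.node (.node (.leaf []) (.leaf [-473, 106, -1168, -499, 648, 14, 130, 343, -46, -25, -1])) (.node (.leaf [149870, -44604, 438048, 215452, -267684, -9545, -25953, -157867, 20058, 15112, -625, 420, -679, -14, 5]) (.leaf [-32, 13, -104, -55, 67, 2, 3, 42, -4, -4, -1]))) (.node (.node (.leaf []) (.leaf [0, 1])) (.node (.leaf [-1738965, 417668, -4777395, -2260066, 2850022, 77978, 335979, 1625595, -184810, -137899, 6654, -3557, 5753, 40, -36, -1]) (.leaf [20811, -5497, 57554, 27367, -34346, -938, -4104, -19880, 2352, 1785, -39, 44, -63, -1])))) (.node (.node (.node (.leaf [0, 1]) (.leaf [-13992, 1699, -34283, -15090, 19560, 346, 3031, 10397, -740, -706, 56, 8, 14])) (.node (.leaf [0, 1]) (.leaf [3131, -260, 6968, 2824, -3719, -36, -781, -1906, 122, 68, -4, -4,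 1]))) (.node (.node (.leaf []) (.leaf [-65173, 19798, -181865, -85487, 107140, 3206, 13586, 62105, -9341, -4405, 112, -198, 254, 13, 1])) (.node (.leaf [-103948085, 42984577, -346818049, -182403295, 223714100, 7964995, 12209701, 136574064, -18787162, -14076740, 362004, -353266, 700024, 15917, -8260, 497, 15]) (.leaf [-35243, 8137, -92999, -42723, 54208, 1191, 7573, 30593, -3501, -2376, 33, -47, 76, 3, 1]))))) (.node (.node (.node (.node (.leaf []) (.leaf [])) (.node (.leaf []) (.leaf [0, 1]))) (.node (.node (.leaf [72, 22, 151, 71, -91, -4, -7, -48, -12, 10, -2]) (.leaf [269915, -85463, 826851, 419093, -522017, -16109, -41014, -307731, 33762, 34632, -900, 1160, -1089, 2, -7])) (.node (.leaf []) (.leaf [-64362, 16329, -179953, -86206, 108664, 2749, 12070, 62273, -6765, -5723, 155, -157, 178, 1, 1])))) (.node (.node (.node (.leaf []) (.leaf [-109519, 26240, -303020, -144529, 182261, 4837, 20647, 104120, -11027, -9548, 318, -208, 303, 4, 1])) (.node (.leaf [-155976204, 34068386, -414414922, -191297783, 242696962,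 6002168, 32003984, 136318603, -15643467, -9934882, 450324, -80455, 420972, 17921, -4765, 85, -3]) (.leaf [0, 1]))) (.node (.node (.leaf []) (.leaf [-8862, 6457, -23782, -9388, 11005, 337, 3226, 7526, -3958, 1231, -151, 59, 78, 16, -1])) (.node (.leaf [-5131, 289, -8136, -1807, 2813, -255, 2009, 947, -210, 438, -34, 18, -18, 0, -1]) (.leaf [-1406, 152, -3574, -1643, 2119, 31, 248, 1152, -50, -88, 4, -1, 0, -1])))))))

def twoL226 : Janko.Tree (List ℤ) :=
  (.node (.node (.node (.node (.node (.node (.leaf []) (.leaf [])) (.node (.leaf [-5, 0, -6, -1, 1, 0, 2, 1]) (.leaf [219587, -53327, 601218, 281367, -355853, -9721, -43824, -200816, 25472, 14715, -1143, 274, -878, -32, 3]))) (.node (.node (.leaf []) (.leaf [736791, -621467, 2744039, 1423265, -1671164, -98192, -145170, -1121410, 328616, 60527, -532, 6876, -10934, -602, 78, -11])) (.node (.leaf [3, 0, 4, 1, -1, 0, -1, -1]) (.leaf [14208592, -3548211, 38749180, 18195775, -22900710, -666490, -2865667, -13114998, 1611607, 1073028, -44897, 26959, -45947, -1306, 138,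 7])))) (.node (.node (.node (.leaf [-41968, 4820, -99852, -42629, 55992, 555, 9870, 28931, -1902, -1779, 93, 10, 0, 0, 1]) (.leaf [0, 0, 1])) (.node (.leaf [7006844, -590278, 15667421, 6294819, -8351189, -52342, -1752573, -4179167, 333183, 51447, -12664, -25030, -1205, -1241, 703, -6]) (.leaf [17447, -5311, 52740, 26451, -32993, -1149, -2797, -19288, 2224, 2114, -88, 74, -74, -3]))) (.node (.node (.leaf []) (.leaf [])) (.node (.leaf [-22141, 5624, -63386, -30794, 38907, 966, 3885, 22150, -2282, -2134, 78, -58, 68, -1]) (.leaf [0, 0, 1]))))) (.node (.node (.node (.node (.leaf []) (.leaf [123654102, -24753257, 328777562, 153519087, -194648174, -5342759, -24736286, -109457326, 10246256, 10304516, -443836, 229240, -266500, 426, -2776, 224, 9])) (.node (.leaf []) (.leaf [3094355, -701579, 8450860, 3995239, -5041780, -142739, -592874, -2866180, 310057, 248690, -12069, 4494, -9536, -173, 100, 1]))) (.node (.node (.leaf []) (.leaf [-64274794, 19326901, -200765046, -104349881, 128973048, 4965538, 8381288, 77150405, -7156594,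 -10287688, 382894, -372274, 285307, -11810, 1020, -149, -1])) (.node (.leaf []) (.leaf [188603, -58749, 556224, 275079, -340404, -12949, -32498, -202474, 26651, 19865, -824, 542, -920, -22, 7])))) (.node (.node (.node (.leaf [0, 0, 1]) (.leaf [225486, -52897, 617570, 289632, -366913, -9719, -44125, -206382, 24803, 15472, -1154, 342, -861, -24, 11])) (.node (.leaf [21613, -4244, 56322, 25642, -33054, -479, -4671, -17995, 1612, 1495, -29, 44, -24, 0, -1]) (.leaf [-57675721, 14217680, -161899177, -78063923, 98145150, 2882805, 10551394, 56396511, -5939981, -5537094, 205978, -137924, 178182, 400, 1144, -5, -3]))) (.node (.node (.leaf []) (.leaf [0, 0, 1])) (.node (.leaf [0, 0, 1]) (.leaf [-1822, 1364, -9746, -6113, 7416, 365, -302, 4618, -471, -822, 41, -37, 27, -1])))))) (.node (.node (.node (.node (.node (.leaf []) (.leaf [-65, 7, -156, -67, 88, 0, 15, 46, -2, -3])) (.node (.leaf [-26366246, 4473080, -74852710, -37061505, 47015475, 1139256, 3771709, 26419809, -1465748, -2995274, 135464, -6834, 60481, -1616, -1642,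 -24, 1]) (.leaf [147, -4, 328, 131, -180, 2, -36, -82, 2, 2, -2]))) (.node (.node (.leaf [29186, -6314, 78540, 36723, -46667, -1060, -5789, -26188, 2642, 2228, -80, 44, -66, 1]) (.leaf [-899183, 223727, -2489977, -1180770, 1485902, 44757, 173038, 849390, -103199, -70260, 4020, -1600, 3400, 92, -33])) (.node (.leaf []) (.leaf [-20548247, 4882604, -59120666, -29135694, 36540036, 1143583, 3325586, 21081112, -1986562, -2242726, 105057, -45990, 72690, -189, -570, -21])))) (.node (.node (.node (.leaf []) (.leaf [213, 37, 385, 155, -188, -34, -57, -104, -18, 39, -4, 1])) (.node (.leaf [-789512, 207164, -2486356, -1312584, 1625881, 63235, 87801, 966467, -66298, -143765, 6267, -4904, 3193, -240, 23, -3]) (.leaf [2756, -295, 7258, 3326, -4442, 37, -488, -2227, 60, 147, -6, 0, 3, -1]))) (.node (.node (.leaf []) (.leaf [-141981, 37024, -377354, -172196, 217270, 5982, 31431, 123829, -17790, -7764, 230, -284, 440, 28, 3])) (.node (.leaf [-81307229, 42218764, -293629293, -159570195, 193396301, 7887825, 7699113, 121452201, -18409701,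 -13552844, 291378, -504268, 696893, 12183, -2936, 402, 13]) (.leaf [0, 0, 1]))))) (.node (.node (.node (.node (.leaf []) (.leaf [1, 0, 3, 1, -1, 0, 0, -1])) (.node (.leaf [-16, 3, -53, -27, 38, 0, 3, 16, 0, -3]) (.leaf [-29778392, 723870, -66386409, -26736183, 36165241, -322294, 6617913, 17183180, -693797, 378721, 53141, 260106, -2655, 9255, -8356, 170, 1]))) (.node (.node (.leaf [-78, -6, -171, -68, 97, 1, 18, 39, 4, -3]) (.leaf [0, 0, 1])) (.node (.leaf [115242470, -18618022, 289261418, 128097220, -165362323, -2448544, -24835858, -89059047, 8870560, 4431228, -235440, -232204, -190054, -18490, 9890, -221, 1]) (.leaf [69292, -16918, 190779, 90531, -114144, -3010, -13415, -65256, 7202, 5827, -192, 139, -197, -3])))) (.node (.node (.node (.leaf []) (.leaf [-351, 29, -920, -419, 570, -16, 60, 277, 2, -16, 0, 0, -1])) (.node (.leaf [0, 0, 1]) (.leaf [-259799, 57408, -712973, -338520, 428265, 11262, 48676, 242288, -24445, -21806, 1087, -455, 753, 9, 5]))) (.node (.node (.leaf [0, 0, 1]) (.leaf [-4484, 363, -9905,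 -3975, 5264, 20, 1129, 2671, -164, -72, 4, 6, -3])) (.node (.leaf [0, 0, 1]) (.leaf [238, -37, 866, 490, -624, -26, -3, -342, 2, 68, -6, 2, -1, 1])))))))

def twoL227 : Janko.Tree (List ℤ) :=
  (.node (.node (.node (.node (.node (.node (.leaf []) (.leaf [-5319, 1257, -14344, -6685, 8501, 156, 1085, 4791, -508, -393, 8, -15, 11])) (.node (.leaf []) (.leaf [5001, -1277, 13011, 5834, -7344, -315, -1268, -4120, 672, 343, -29, -8, -22, -2, 1]))) (.node (.node (.leaf []) (.leaf [2, 0, 3, 1, -1, 0, -1])) (.node (.leaf [-666342, 173014, -1858844, -883415, 1109003, 35519, 127822, 636673, -82287, -50967, 3240, -1113, 2827, 98, -37]) (.leaf [-737784, -614446, 1119744, 1567757, -1645170, -187425, 564336, -1403571, 186817, 412473, -10836, 26354, -14364, 819, -457, 7, -1])))) (.node (.node (.node (.leaf []) (.leaf [-99395016, 57103814, -388935553, -220814070, 265711052, 12110074, 4852154, 169721884, -22819887, -23442810, 487375, -1019102, 917159, -9224, 7346, 289, 11])) (.node (.leaf [-19157454, 8206909, -65790326, -35833706,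 43423629, 2257553, 2254499, 27202130, -2941145, -4458303, 149950, -275853, 115632, -7937, 6245, -184, -1]) (.leaf [-1280955, 317043, -3564127, -1700953, 2137963, 65960, 241829, 1226115, -142356, -108895, 5755, -2766, 4682, 84, -28, -1]))) (.node (.node (.leaf []) (.leaf [9522002, -1361809, 23310958, 10194199, -13175576, -241218, -2146858, -7060487, 620649, 438236, -25250, -7943, -10848, -675, 363, 1, 1])) (.node (.leaf [0, 0, -1, 0, 1]) (.leaf [-241655, 23994, -574979, -246819, 320732, 8561, 55720, 167477, -12347, -11614, 1904, -243, 450, 0, -9, -1]))))) (.node (.node (.node (.node (.leaf []) (.leaf [394, -77, 1038, 460, -620, 12, -90, -308, 22, 17, 2, 0, 1])) (.node (.leaf [1055, -129, 2486, 1043, -1375, -22, -271, -698, 54, 52, -6, 2, -1]) (.leaf [3106146, -668818, 8624758, 4151425, -5242900, -145009, -551202, -2977991, 269867, 297854, -13465, 5930, -8793, 88, 50, 3]))) (.node (.node (.leaf [1391, -101, 3257, 1390, -1833, -29, -320, -929, 35, 72, -5, -1]) (.leaf [-1690296, 338152, -4047594, -1681453, 2163155,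 45171, 436511, 1167942, -196236, -7167, 3478, 2671, 4442, 583, -214, 3])) (.node (.leaf []) (.leaf [-444, 37, -858, -278, 389, -2, 152, 165, -30, 16, 2, 3, -1])))) (.node (.node (.node (.leaf []) (.leaf [2369, -90, 5132, 2052, -2701, -63, -576, -1361, 68, 43, -9, -4, -1])) (.node (.leaf []) (.leaf [50101497, -58462076, 239195520, 138798212, -160126737, -10495349, -3842912, -112245579, 27803700, 12382563, -141284, 1138340, -1010547, -25427, -7946, -196, -15]))) (.node (.node (.leaf [11, 0, 20, 7, -9, 0, -3, -5]) (.leaf [])) (.node (.leaf [48136040, -4003833, 117458041, 51967105, -68062340, -700043, -9786877, -35306219, 1397915, 2466435, -138115, -140334, -6713, -2119, 2628, -37, 3]) (.leaf [59940040, -3132798, 135256606, 55205737, -73773391, -58989, -13858672, -36207977, 1854430, 404510, -145785, -323198, -1223, -12048, 8856, -105, -1])))))) (.node (.node (.node (.node (.node (.leaf []) (.leaf [-159622540, 42231634, -460699147, -226065606, 283081883, 8603466, 27216682, 164283642, -17571473, -16664558, 620366,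 -422085, 573564, 1154, 1140, -7, 5])) (.node (.leaf [-1209281, 337521, -3389104, -1610751, 2018102, 62293, 235981, 1167180, -159240, -90474, 4398, -2296, 5034, 186, -50, 1]) (.leaf [-2739, 270, -6130, -2496, 3272, 28, 688, 1702, -124, -62, 2, 4, -1]))) (.node (.node (.leaf []) (.leaf [-14994595, 2354226, -36651250, -15781367, 20476513, 269393, 3442493, 10872790, -1215612, -346985, 27698, 38766, 23879, 3331, -1127, 37])) (.node (.leaf []) (.leaf [7377, -1863, 20470, 9783, -12282, -357, -1412, -7087, 795, 665, -22, 16, -23])))) (.node (.node (.node (.leaf [-28240, 5888, -75092, -34894, 44329, 1065, 5692, 24878, -2472, -2114, 73, -51, 64, 0, -1]) (.leaf [700, -28, 1530, 585, -816, 2, -191, -353, 14, 3, -2, -1, 1])) (.node (.leaf [198255, -60317, 585217, 289778, -360379, -11883, -33573, -212673, 25963, 21206, -660, 603, -820, -16, 1]) (.leaf [0, 0, -1, 0, 1]))) (.node (.node (.leaf []) (.leaf [58, -43, 492, 342, -430, -12, 44, -247, 2, 56, -4, 2, -1])) (.node (.leaf [-71957163, 36739623, -266270912, -147579947, 178777719,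 7494365, 5222581, 112447524, -14958968, -14434058, 337086, -578566, 596584, -1366, 2108, 153, 13]) (.leaf [-43439, 8980, -112212, -50984, 64824, 1520, 9500, 36304, -3902, -2851, 81, -47, 85, 1, 1]))))) (.node (.node (.node (.node (.leaf []) (.leaf [-215745, 48802, -585304, -275548, 348391, 9113, 42282, 197627, -20827, -17368, 616, -337, 542, 6, 3])) (.node (.leaf [550952, -110809, 1449212, 669699, -851603, -20360, -113648, -476706, 45834, 41666, -1364, 832, -1038, 10, -32, 1]) (.leaf [24, -38, 444, 336, -421, -11, 61, -245, -3, 59, -3, 2, -1]))) (.node (.node (.leaf []) (.leaf [-49788330, 20226143, -163543703, -85781031, 105033805, 4189936, 6628769, 64353271, -8391240, -7708637, 214600, -332132, 303144, -1786, 3467, 22, 3])) (.node (.leaf []) (.leaf [2044, -135, 4669, 1939, -2576, -17, -482, -1287, 55, 62, -6, -4, 1])))) (.node (.node (.node (.leaf []) (.leaf [5184, -3058, 18685, 10075, -11987, -761, -670, -7759, 1464, 890, -18, 46, -55, -5])) (.node (.leaf [-11838734, 5414077, -53752458, -33806538, 40616693,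 2200800, -1572813, 25924771, -1080062, -5528524, 209904, -229160, 103554, -12401, 4462, -202, 7]) (.leaf [-258627, 57316, -710126, -337268, 426617, 11247, 48433, 241442, -24419, -21743, 1083, -455, 753, 9, 5]))) (.node (.node (.leaf []) (.leaf [])) (.node (.leaf [-2019, 208, -4510, -1824, 2405, 16, 528, 1234, -88, -58, 5, 0, -1]) (.leaf [-25130759, 43534369, -192783042, -130473492, 149597724, 10820397, -9198418, 106239460, -16752330, -19983094, 478506, -1325470, 792032, -23531, 17566, -269, 21])))))))

def twoL228 : Janko.Tree (List ℤ) :=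
  (.node (.node (.node (.node (.node (.node (.leaf [1]) (.leaf [1])) (.node (.leaf []) (.leaf [-336362, 80562, -937850, -448641, 565677, 15806, 62217, 322370, -35173, -28995, 1514, -617, 1165, 20, 7]))) (.node (.node (.leaf [1]) (.leaf [1])) (.node (.leaf []) (.leaf [108484752, -27971054, 296648695, 138748181, -174835161, -4683216, -21868217, -99868891, 13228746, 6969460, -283450, 81366, -374246, -18865, 2964, -195, -1])))) (.node (.node (.node (.leaf [-97548, 25377, -265898, -124312, 156634, 4235, 20169, 89617, -11530, -6978, 237, -174, 298, 12, 1]) (.leaf [221383, -24337, 552631, 251374, -322980, -8108, -44889, -175212, 8072, 18320, -1139, 220, -176, 26, -3, 1])) (.node (.leaf [-12309670, 338634, -24637527, -8738201, 12043734, -99134, 3492700, 5425700, -341572, 308457, 14816, 60142, -12661, 2685, -1029, -9, -1]) (.leaf [-2433, 239, -5354, -2141, 2814, 23, 640, 1452, -110, -53, 2, 4, -1]))) (.node (.node (.leaf [285506044, -56799403, 755801070, 349371951, -444844377, -10040566, -56887707, -247719962, 25453934,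 18352951, -848750, -32212, -687954, -29145, 14622, -217, 1]) (.leaf [-10607866, 693337, -22504052, -8525015, 11484584, -4696, 2858136, 5519274, -456795, 118774, 9048, 47492, -4729, 2314, -1095, 15, -1])) (.node (.leaf [1]) (.leaf [-22037, 6668, -66142, -33105, 41329, 1228, 3530, 24227, -2686, -2592, 78, -88, 88, 1]))))) (.node (.node (.node (.node (.leaf [23179, -6056, 66059, 31992, -40353, -1016, -4193, -23080, 2470, 2220, -68, 58, -68, 1]) (.leaf [-66, 9, -163, -71, 94, 0, 15, 48, -3, -3])) (.node (.leaf [109691, -29604, 309595, 148855, -186967, -5086, -20534, -107965, 12661, 9739, -274, 270, -361, -6, -1]) (.leaf [1]))) (.node (.node (.leaf []) (.leaf [1])) (.node (.leaf [65865142, -16089767, 189268476, 93193618, -116872746, -3582985, -10943940, -67556339, 6348804, 7386302, -283146, 184290, -210565, 2588, -1482, 83]) (.leaf [-37486, 10955, -107438, -52051, 65165, 1789, 6951, 37966, -4689, -3452, 72, -94, 131, 3])))) (.node (.node (.node (.leaf []) (.leaf [-33577794, 8132446, -92304740, -43732159, 55063415,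 1597197, 6507606, 31497944, -3597946, -2750169, 118653, -63355, 106536, 2216, -349, -15])) (.node (.leaf [-11, 1, -28, -12, 16, 0, 3, 8, 0, -1]) (.leaf [510630, -101429, 1379643, 654463, -829035, -22098, -96591, -467925, 38996, 48202, -1811, 1010, -1035, 29, -16, 1]))) (.node (.node (.leaf [158, -35, 381, 158, -208, -5, -47, -107, 15, 9, 1]) (.leaf [])) (.node (.leaf [-20300, 5442, -56281, -26809, 33603, 930, 3986, 19512, -2334, -1751, 36, -44, 63, 1]) (.leaf [-2764, 1324, -11295, -6532, 8014, 355, -1, 4859, -483, -758, 43, -34, 26])))))) (.node (.node (.node (.node (.node (.leaf []) (.leaf [])) (.node (.leaf [1]) (.leaf [289175607, -27877726, 707514260, 312595741, -407700651, -5173664, -59538655, -213488081, 11374781, 13852324, -949543, -756128, -191971, -19422, 26444, -71, 1]))) (.node (.node (.leaf [1]) (.leaf [5, 0, 6, 2, -2, 0, -1, -2])) (.node (.leaf [-3425263, 849713, -9653824, -4660252, 5856108, 173476, 616192, 3366203, -365121, -317406, 13602, -7147, 11688, 183, -69, -1]) (.leaf [25093325, -9022469,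 82616513, 43807109, -53810535, -2138823, -2826989, -32660455, 3565590, 4189990, -154876, 149076, -146741, 2042, -780, 27, -3])))) (.node (.node (.node (.leaf [4381, -659, 10946, 4865, -6317, -98, -981, -3364, 242, 282, -10, 6, -1]) (.leaf [1])) (.node (.leaf []) (.leaf [30169835, -5261475, 79096119, 36552126, -46691168, -1044731, -5931644, -25777183, 2234557, 2106148, -105029, -1027, -59893, -1580, 1470, 8, 1]))) (.node (.node (.leaf []) (.leaf [-6, 1, -16, -8, 10, 0, 1, 6, 0, -1])) (.node (.leaf [1]) (.leaf [-65749023, 14831735, -180838133, -85808144, 108461388, 2840622, 12207494, 61453498, -6575854, -5104469, 238857, -45412, 204186, 6496, -3650, 42, 1]))))) (.node (.node (.node (.node (.leaf []) (.leaf [-3438119, 732738, -9230648, -4310410, 5459800, 141179, 673442, 3076640, -330107, -243158, 12316, -2312, 9825, 308, -188, -1])) (.node (.leaf [-5, 1, -31, -19, 26, 0, -1, 12, 1, -3]) (.leaf [27218, -5920, 72571, 33750, -42783, -1082, -5564, -24120, 2524, 2079, -76, 46, -65, 1]))) (.node (.node (.leaf [6951, -1206,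 20926, 10960, -13562, -612, -490, -8113, 356, 993, -8, 64, -10, 6, 5]) (.leaf [243774, -43903, 663559, 319063, -403658, -11914, -43447, -228028, 15534, 26558, -1275, 624, -494, 30, -7, 1])) (.node (.leaf [1]) (.leaf [43585324, -4799673, 100650732, 41214540, -54443209, -166742, -10457580, -27608805, 2829063, -115643, -55236, -219058, -41740, -12337, 7202, -143, -1])))) (.node (.node (.node (.leaf [1]) (.leaf [550, -59, 1352, 581, -791, 10, -131, -376, 12, 28, -2, 0, 1])) (.node (.leaf [-1763, 114, -4109, -1741, 2302, 18, 394, 1166, -42, -66, 8, 1]) (.leaf [70015395, -9590327, 173287578, 76011408, -98652734, -1257650, -14896050, -52289934, 4851913, 2079728, -174918, -247043, -112197, -14790, 10377, -210, -1]))) (.node (.node (.leaf [1554261929, -243900741, 3896146497, 1731931956, -2229990781, -41277668, -335099375, -1206610411, 113533028, 72775451, -4335990, -1829050, -2540482, -190019, 103804, -177, 33]) (.leaf [-1318, 688, -2451, -647, 642, 114, 622, 571, -510, 197, -16, 22, 7, 2, 1])) (.node (.leaf []) (.leaf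 [2408017, -961264, 7859511, 4131731, -5051789, -212492, -331432, -3106860, 380103, 408943, -10660, 19994, -13198, 396, -434, 5])))))))

def twoL229 : Janko.Tree (List ℤ) :=
  (.node (.node (.node (.node (.node (.node (.leaf []) (.leaf [])) (.node (.leaf [0, 1]) (.leaf [3297, -1129, 9188, 4260, -5296, -272, -843, -3047, 601, 279, -22, -8, -21, -2, 1]))) (.node (.node (.leaf []) (.leaf [-102502, 24518, -283126, -134962, 170034, 4678, 19396, 97291, -10392, -8946, 313, -193, 292, 4, 1])) (.node (.leaf [0, 1]) (.leaf [119977328, -29006624, 326419010, 152721878, -192883869, -5023884, -23846830, -109553348, 13465706, 8014571, -344464, 74632, -382751, -17635, 3551, -161, -1])))) (.node (.node (.node (.leaf []) (.leaf [])) (.node (.leaf [-75763225, 3939905, -182244682, -80830731, 106024832, 1345086, 15213921, 54709672, -584265, -4983658, 324582, 121168, -20135, -6708, -1966, -236, 1]) (.leaf [0, 1]))) (.node (.node (.leaf []) (.leaf [34066094, -6967869, 85863647, 37626080, -48223352, -901265, -7830642, -26403615, 3622411,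 929006, -56207, -56827, -83101, -8717, 2288, -100])) (.node (.leaf [172488970, -39504164, 463477211, 215436416, -272710131, -6972439, -34898254, -154029475, 18131800, 11474137, -510558, 126690, -503788, -19760, 5261, -134, 3]) (.leaf [-4505170, 548451, -10613966, -4454179, 5810479, 95170, 1070851, 3024182, -308523, -86470, 15977, 11099, 6518, 894, -388, 1]))))) (.node (.node (.node (.node (.leaf []) (.leaf [-7126, -59, -15125, -5911, 8047, 28, 1755, 3729, 22, -117, 33, 24, -9])) (.node (.leaf []) (.leaf [-727712, 620744, -2722135, -1413726, 1658583, 98107, 143260, 1114982, -328364, -60129, 492, -6884, 10936, 602, -78, 11]))) (.node (.node (.leaf []) (.leaf [-1699093, 342424, -4234821, -1836176, 2355325, 47472, 401359, 1284775, -182099, -40956, 3440, 2199, 4201, 506, -111, 1])) (.node (.leaf [0, 1]) (.leaf [-3442125, 634463, -9315080, -4432599, 5626509, 152018, 631827, 3155105, -239156, -333052, 16392, -7624, 7349, -342, 3, -7])))) (.node (.node (.node (.leaf [-7, -19, 17, 13, -14, -2, -1, -11, 9, 1, 1]) (.leaf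 [0, 1])) (.node (.leaf [36887, -4918, 89720, 38960, -50883, -600, -8472, -26700, 1940, 1776, -72, 10, -11, 0, -1]) (.leaf [-232355, 36700, -605747, -282429, 361062, 8057, 45693, 199705, -11860, -21752, 736, -497, 202, -27, 18, -1]))) (.node (.node (.leaf [0, 1]) (.leaf [0, 1])) (.node (.leaf []) (.leaf [-433082, 56582, -1046282, -452599, 587328, 10627, 99443, 311248, -25971, -18888, 1465, 134, 396, 33, 14, -1])))))) (.node (.node (.node (.node (.node (.leaf [0, 1]) (.leaf [0, 1])) (.node (.leaf [-17245, 3110, -43864, -19661, 25165, 653, 3845, 13763, -1446, -1036, 72, -6, 36, 2, -1]) (.leaf [0, 1]))) (.node (.node (.leaf [105742, -26329, 294340, 140841, -177211, -4948, -19931, -101739, 11169, 9441, -308, 215, -314, -4, -1]) (.leaf [-8342, 2095, -23048, -10954, 13813, 361, 1636, 7901, -875, -733, 21, -19, 23, -1])) (.node (.leaf [0, 1]) (.leaf [0, 1])))) (.node (.node (.node (.leaf [-5438, 1002, -13026, -5498, 7123, 114, 1413, 3809, -467, -193, 2, 1, 4, 0, 1]) (.leaf [1486, -182, 3589, 1554, -2033, -19, -340, -1062,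 72, 68, -4, -1])) (.node (.leaf [1481, -215, 3086, 1157, -1493, -23, -448, -808, 114, 8, 4, -3]) (.leaf [-743, 61, -1708, -715, 938, 10, 174, 484, -27, -24, 3, 1]))) (.node (.node (.leaf [0, 1]) (.leaf [0, 1])) (.node (.leaf []) (.leaf [718687951, -69091615, 1673525968, 700518594, -921859222, -7895720, -167437390, -471589821, 35241777, 14831920, -1668392, -2370836, -403464, -108420, 77151, -543, 23]))))) (.node (.node (.node (.node (.leaf [0, 1]) (.leaf [0, 3, -7, -4, 6, 0, 0, 2, -1])) (.node (.leaf [0, 1]) (.leaf [11310652, -5488448, 44533174, 25755479, -31121277, -1478796, -130399, -19617574, 1982797, 3084798, -111978, 121618, -100664, 3197, -892, 24, -3]))) (.node (.node (.leaf [0, 1]) (.leaf [-934, 2221, -97057, -84291, 105164, 1910, -19291, 63569, 10013, -22509, 275, -1058, -114, -88, 17, -1])) (.node (.leaf []) (.leaf [0, 1])))) (.node (.node (.node (.leaf []) (.leaf [0, 1])) (.node (.leaf [0, 1]) (.leaf [268, -143, 1110, 619, -798, -18, -28, -433, 41, 78, -1, 3, -1]))) (.node (.node (.leaf []) (.leaf [0,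 1])) (.node (.leaf [1272, -52, 2912, 1225, -1615, -21, -279, -818, 26, 41, -8, -2]) (.leaf [744, -60, 1708, 715, -938, -10, -174, -484, 27, 24, -3, -1])))))))

def twoL230 : Janko.Tree (List ℤ) :=
  (.node (.node (.node (.node (.node (.node (.leaf [-3, 0, -4, -1, 1, 0, 1, 1]) (.leaf [1, 0, 0, 0, 1, 0, 0, -1])) (.node (.leaf []) (.leaf [0, 0, 1]))) (.node (.node (.leaf [-5, 0, -6, -1, 1, 0, 2, 1]) (.leaf [-4953, 138, -11093, -4579, 6105, 72, 1156, 3003, -36, -195, 28, 2, -3, 1])) (.node (.leaf []) (.leaf [38685595, 16368295, 34508485, -4924151, -3090134, 4030822, -14025041, 11296265, -6546679, -6252607, 18532, -731985, 348213, -11481, 12794, -54, 7])))) (.node (.node (.node (.leaf [0, 0, 1]) (.leaf [243149, -41347, 614257, 275024, -354221, -6068, -53416, -192526, 16732, 14632, -371, 156, -227, 2, -12])) (.node (.leaf [0, 0, 1]) (.leaf [725562, -209398, 1724536, 676417, -866226, -12076, -209898, -474054, 135918, -42796, 1286, -3740, -3019, -577, 184, -7]))) (.node (.node (.leaf [175151918, -29595542, 406607077,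 164561850, -214966313, -1938884, -45893564, -112355904, 16967192, -1081298, -18264, -531826, -254856, -54117, 18486, -617, 21]) (.leaf [])) (.node (.leaf [98573, -48316, 263662, 111379, -137176, -3173, -29117, -83493, 27849, -4564, 524, -22, -660, -88, 6, -1]) (.leaf [-913343, 228517, -2534719, -1203796, 1514538, 45613, 174993, 866350, -105078, -72192, 4074, -1665, 3465, 94, -33]))))) (.node (.node (.node (.node (.leaf [0, 0, 1]) (.leaf [0, 0, 1])) (.node (.leaf [0, 0, 1]) (.leaf [-24014799, 4062675, -64771786, -30802437, 39214754, 968538, 4279606, 21825920, -1519544, -2217993, 112642, -23768, 48932, -1126, -382, -47]))) (.node (.node (.leaf [0, 0, 1]) (.leaf [-1, 0, 1, 0, -1, 0, 0, 1])) (.node (.leaf [-43355262, 15206663, -118078450, -53781593, 66768904, 2360481, 10479483, 39529316, -7766832, -2040395, 72604, -174854, 210166, 12522, 660, -74, 3]) (.leaf [-75082840, 17463675, -205317805, -97025578, 122421796, 3366697, 14480318, 69690179, -7702809, -5957225, 259170, -105202, 228109, 5137, -1776, -21])))) (.node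 (.node (.node (.leaf [-11, 3, -28, -13, 18, -1, 3, 9, -1, -1]) (.leaf [])) (.node (.leaf [0, 0, 1]) (.leaf [8866189, -2219032, 24553132, 11651611, -14674171, -403123, -1694579, -8395040, 999649, 684204, -28236, 12254, -30029, -875, 326, -7]))) (.node (.node (.leaf [-75155, 19453, -211741, -102256, 127882, 3861, 13457, 74447, -8572, -6648, 239, -130, 258, 4, 1]) (.leaf [119743490, -27704122, 314461270, 142079416, -180784745, -3759429, -25725995, -100818431, 14069650, 4469267, -230122, -166724, -375361, -30580, 12254, -471, 1])) (.node (.leaf []) (.leaf [0, 0, 1])))))) (.node (.node (.node (.node (.node (.leaf []) (.leaf [1142483, -236713, 3173393, 1538169, -1939825, -56997, -200251, -1105893, 87946, 124912, -5379, 3270, -2803, 136, -38, 3])) (.node (.leaf []) (.leaf [-32, 14, -96, -50, 60, 2, 4, 39, -5, -3, -1]))) (.node (.node (.leaf [3, 0, 5, 1, -1, 0, -1, -1]) (.leaf [0, 0, 1])) (.node (.leaf [195515124, -50713352, 555365516, 268457583, -337312136, -9340880, -34747643, -194128174, 22286320, 17003417, -650868,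 236540, -705864, -15799, 6554, -408, -5]) (.leaf [12355734, -2218765, 31030680, 13739574, -17619874, -352612, -2753853, -9635627, 1064886, 535088, -24762, -11609, -22325, -1811, 799, -15, 1])))) (.node (.node (.node (.leaf [0, 0, 1]) (.leaf [-1247, 545, -4122, -2151, 2643, 93, 174, 1614, -224, -180, 0, -9, 8])) (.node (.leaf []) (.leaf [684509335, -105115163, 1654368675, 708115797, -916996156, -14565887, -160668113, -488828075, 54032737, 17997732, -1430293, -1300463, -1033569, -131460, 56706, -518, 31]))) (.node (.node (.leaf []) (.leaf [-687, 48, -1582, -670, 874, 12, 149, 459, -21, -20, 1])) (.node (.leaf [1473, -1359, 9040, 5844, -7068, -347, 396, -4438, 463, 811, -39, 37, -27, 1]) (.leaf [-44337510, 13235453, -134446906, -67800855, 84367866, 2758286, 6559681, 49663784, -5619006, -5129735, 205196, -119961, 207763, 2605, -2137, 46, 3]))))) (.node (.node (.node (.node (.leaf []) (.leaf [0, 0, 1])) (.node (.leaf [-785226, 156675, -2057639, -947642, 1206002, 27517, 162343, 674021, -65685, -55951, 1546, -684, 1338,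 42, 34, -1]) (.leaf [0, 0, 1]))) (.node (.node (.leaf [-21214, 4644, -55682, -25558, 32476, 686, 4526, 18263, -1971, -1447, 30, -22, 40, 0, 1]) (.leaf [-15299175, 4003284, -42692981, -20380148, 25582305, 751411, 2921543, 14755749, -1779313, -1281335, 47376, -30910, 52620, 1280, -143, 1])) (.node (.leaf []) (.leaf [-5039418, -775622, -5784521, -69369, 923653, -328065, 2075801, -645067, 125846, 795892, -13411, 55048, -25814, 2338, -674, -7, -1])))) (.node (.node (.node (.leaf []) (.leaf [-180, 46, -75, 110, -144, 2, 126, -75, -42, 45, -6, 2, -1])) (.node (.leaf [-774, 91, -1843, -793, 1032, 14, 176, 547, -36, -33]) (.leaf [265924, -775694, 3444291, 2510258, -2861103, -220211, 302138, -2048767, 292884, 410820, -16192, 24909, -17674, 538, -224, 7, -1]))) (.node (.node (.leaf [-36944738, 6978896, -98148825, -45724025, 58207908, 1381404, 7166947, 32412542, -2983406, -2708714, 128488, -10734, 82991, 2036, -1634, -4, -1]) (.leaf [213452, -49060, 597251, 287236, -362812, -9640, -38068, -206185, 20478, 19346, -968, 500,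 -660, -8, -3])) (.node (.leaf [-2456, 193, -6019, -2664, 3512, 6, 479, 1807, -56, -106, 6, 4, -1]) (.leaf [-324656, -3542727, 16099002, 13965127, -15581079, -1539050, 2489270, -11709057, 623818, 3631991, -93906, 229488, -59150, 10878, -5008, 151, 1])))))))

def twoL231 : Janko.Tree (List ℤ) :=
  (.node (.node (.node (.node (.node (.node (.leaf []) (.leaf [86983454, -1533077, 193869028, 79973082, -107076840, -442929, -19826656, -52293646, 105105, 2847879, -291016, -297043, 83431, -490, 5207, 187, 3])) (.node (.leaf [-64259, 17360, -180082, -86078, 107919, 3428, 12562, 62287, -7781, -5686, 232, -116, 230, 8, -1]) (.leaf [-5614, 503, -13565, -5938, 7728, 117, 1147, 4075, -223, -227, 25, 0, 3]))) (.node (.node (.leaf []) (.leaf [1025, -79, 2428, 1047, -1375, -7, -214, -713, 30, 33, -2, -2, 1])) (.node (.leaf [-21585, 2713, -49467, -20268, 26728, 86, 5509, 13770, -1158, -485, 2, 4, -8, 0, -1]) (.leaf [-99459104, 21739472, -269536001, -126928877, 160527939, 4339675, 19272999, 90846433, -9400771, -7982597, 360542, -143787,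 274087, 4317, -1262, -81])))) (.node (.node (.node (.leaf []) (.leaf [-6686257, 1072757, -17797505, -8399778, 10708269, 267065, 1227339, 5937664, -395773, -608790, 31799, -7706, 12508, -514, -82, -15])) (.node (.leaf [-63175500, -5106917, -122690340, -44299498, 62537866, -936551, 16260820, 26288348, 2695885, -215704, 201836, 325697, -179737, -1718, -3825, -276, -1]) (.leaf [8205852, -2777779, 24093166, 11762263, -14586274, -499242, -1533780, -8668752, 1268004, 762553, -23064, 31990, -39187, -1047, -102, -1]))) (.node (.node (.leaf []) (.leaf [])) (.node (.leaf []) (.leaf [0, 0, -1, 0, 1]))))) (.node (.node (.node (.node (.leaf []) (.leaf [6592729, -1059176, 17565243, 8295768, -10575151, -263668, -1207013, -5864677, 390111, 602534, -31578, 7746, -12447, 509, 92, 15])) (.node (.leaf [40281, -4879, 96668, 41574, -54483, -592, -9386, -28321, 1903, 1844, -86, -1, -3, 0, -1]) (.leaf [-311548061, 45290525, -783052298, -350135512, 451813190, 7708232, 65353347, 243278646, -20093010, -15866733, 897552, 429418, 438404,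 27585, -19236, 128, -3]))) (.node (.node (.leaf []) (.leaf [103993639, -7932597, 249508003, 108345959, -142485358, -1080551, -21617904, -73043072, 3432904, 3641795, -320542, -415042, -49857, -11264, 13348, -123, -3])) (.node (.leaf [-2089, 224, -4739, -1935, 2552, 22, 528, 1306, -100, -47, -2, 3, -1]) (.leaf [252877, -54138, 690713, 327145, -414419, -10787, -47536, -233633, 22984, 21020, -1098, 427, -711, -6, -5])))) (.node (.node (.node (.leaf [-12, 1, -31, -15, 20, 0, 1, 11, 0, -1]) (.leaf [-121782, 27856, -329908, -154882, 196097, 4853, 24143, 110985, -11830, -9541, 289, -195, 299, 4, 3])) (.node (.leaf []) (.leaf []))) (.node (.node (.leaf []) (.leaf [-29214, 5794, -78207, -36578, 46566, 1092, 5702, 25974, -2378, -2312, 108, -48, 63, 1])) (.node (.leaf [523, 23, 1291, 583, -794, 19, -67, -381, -26, 13, -2, 0, 1]) (.leaf [260370919, -100623361, 811324454, 411422597, -505077198, -20213592, -42952017, -307197095, 44306552, 32650194, -1011284, 1556436, -1486625, -13290, -15040, 57, -1])))))) (.node (.node (.node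 (.node (.node (.leaf []) (.leaf [])) (.node (.leaf []) (.leaf [1406, -66, 3228, 1356, -1793, -19, -311, -903, 31, 43, -7, -3]))) (.node (.node (.leaf [3098, -538, 8150, 3753, -4829, -108, -625, -2618, 218, 227, -12, 6, -5]) (.leaf [14899, -4937, 45903, 23264, -28930, -904, -2281, -17119, 2006, 1863, -50, 66, -66, -2])) (.node (.leaf [-204071186, 40100349, -541336064, -251448419, 319831946, 7703320, 40477419, 178531230, -17289701, -14780506, 680591, -132484, 467118, 10664, -3502, -86, -3]) (.leaf [29687, -6103, 78799, 36572, -46498, -1098, -6004, -26032, 2572, 2208, -86, 43, -65])))) (.node (.node (.node (.leaf []) (.leaf [-5978, 1126, -15223, -6759, 8736, 132, 1334, 4715, -494, -279, 14, -14, 9])) (.node (.leaf [-1085, 86, -2577, -1112, 1463, 7, 227, 756, -32, -36, 2, 2, -1]) (.leaf [-18669, 216, -32219, -8878, 13159, -436, 6653, 4722, -501, 990, 14, 117, -44, 6, 7]))) (.node (.node (.leaf [92701, -22604, 257792, 123534, -154886, -4817, -17065, -89444, 10034, 8069, -373, 165, -305, -6, 3]) (.leaf [4809085, 368574,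 5415840, -154231, -515895, 260928, -2166594, 714410, 129913, -848324, 12194, -41654, 17345, -2595, 281, 8, 1])) (.node (.leaf [-19462996, 1409101, -39720770, -14165374, 19278799, -80843, 5670597, 9002021, -1064000, 617663, 5849, 90680, -6917, 5682, -2042, 25, -3]) (.leaf [-360901444, 86032228, -980716221, -458954984, 579936549, 14998493, 71568385, 329042160, -39595336, -24515364, 1025886, -234931, 1117279, 48427, -12169, 465, -1]))))) (.node (.node (.node (.node (.leaf []) (.leaf [-37122183, 7920705, -100746145, -47584437, 60207126, 1623868, 7094161, 34036453, -3357617, -3098060, 143156, -58336, 99527, 837, -200, -45])) (.node (.leaf []) (.leaf [24933426, -8297040, 83141855, 44920281, -55138230, -2317657, -2350289, -33510155, 2888540, 4972372, -187246, 187756, -131719, 6212, -2082, 111, -3]))) (.node (.node (.leaf []) (.leaf [458, 26, 1047, 462, -610, -9, -80, -308, -21, 33, -5, 1])) (.node (.leaf [93527062, -13002735, 218495868, 89871049, -117822034, -903643, -23032960, -60903140, 7484758, -603, -114594, -365016,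 -127391, -27302, 12172, -269, 1]) (.leaf [1327, -89, 3331, 1493, -1985, -15, -256, -989, 22, 77, -8])))) (.node (.node (.node (.leaf []) (.leaf [-16016877, 5284642, -48469991, -24353864, 30125009, 1104213, 2621128, 17996915, -2250160, -1946966, 68132, -77876, 77018, 49, 460, -19])) (.node (.leaf []) (.leaf [669417, -102815, 1784177, 850344, -1079634, -30848, -120779, -604338, 33800, 71395, -3551, 1438, -1038, 116, -35, 3]))) (.node (.node (.leaf [5, 0, 4, 1, 0, 0, -2, -1]) (.leaf [])) (.node (.leaf [1517, -57, 3460, 1448, -1916, -21, -334, -961, 29, 43, -9, -3]) (.leaf [-54, 6, -139, -62, 82, 1, 11, 42, -2, -3])))))))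

def twoL232 : Janko.Tree (List ℤ) :=
  (.node (.node (.node (.node (.node (.node (.leaf []) (.leaf [])) (.node (.leaf []) (.leaf [-164618, 33900, -444921, -210638, 266532, 6998, 31286, 150917, -13510, -14716, 510, -266, 336, -4, 7]))) (.node (.node (.leaf []) (.leaf [10549, -2274, 27603, 12644, -16039, -408, -2267, -9023, 1004, 721, -24, 12, -23, 1])) (.node (.leaf []) (.leaf [1])))) (.node (.node (.node (.leaf []) (.leaf [15336517, -2114444, 38989725, 17650650, -22781137, -398386, -3079760, -12253638, 891815, 892189, -51278, -20687, -21036, -954, 993, -10, 1])) (.node (.leaf [510920, -97144, 1366163, 643312, -816501, -21181, -97823, -458638, 37827, 45337, -1782, 947, -973, 34, -12, 1]) (.leaf [1]))) (.node (.node (.leaf [1]) (.leaf [1])) (.node (.leaf [1107500, -224918, 2911668, 1343951, -1706882, -42953, -229238, -956964, 96147, 81298, -2832, 1090, -2172, -50, -33, 1]) (.leaf [2471897, -766854, 6964119, 3291044, -4111981, -126206, -501123, -2396268, 375202, 158253, -6687, 4507, -11479, -540, 124, -5])))))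 (.node (.node (.node (.node (.leaf []) (.leaf [8168104, 3450535, 10600519, 1902074, -4217785, 780154, -2136259, 110117, -1632364, -714735, -10184, -153414, 68772, -417, 3604, -9, -1])) (.node (.leaf [1]) (.leaf [-21146, 6731, -63580, -31804, 39556, 1270, 3484, 23372, -2794, -2477, 68, -82, 91, 2]))) (.node (.node (.leaf []) (.leaf [4450853, -1004628, 12415746, 5987301, -7547669, -213234, -794416, -4308057, 407614, 432721, -18293, 9702, -12921, 97, 5, 5])) (.node (.leaf []) (.leaf [6582285, -1679581, 18407443, 8807654, -11067635, -323172, -1233536, -6364175, 743526, 559500, -24011, 13552, -23149, -445, 134, 1])))) (.node (.node (.node (.leaf [1]) (.leaf [-10164, 630, -24544, -10698, 14596, -166, 2340, 6936, 224, -838, -10, -10, -38, -2, 2])) (.node (.leaf [90479, -18874, 153951, 35489, -45699, -2153, -36421, -22882, 18669, -14347, 156, -993, -321, -100, 16, -1]) (.leaf [1422, -67, 3386, 1473, -1954, -19, -299, -977, 12, 79, -8, -1]))) (.node (.node (.leaf []) (.leaf [154, 45158, 23081, 39918, -58749, 2460, 21682,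 -23115, -35671, 23986, -582, -4, 981, 147, -36, 1])) (.node (.leaf [1]) (.leaf [-50143, 16038, -130484, -56755, 71412, 1544, 12529, 41082, -8922, 30, 0, 22, 200, 28, -6])))))) (.node (.node (.node (.node (.node (.leaf []) (.leaf [])) (.node (.leaf []) (.leaf [177, -8, 392, 157, -212, 2, -43, -102, 4, 2, -2]))) (.node (.node (.leaf [1583, -108, 3706, 1581, -2088, -30, -360, -1055, 37, 78, -6, -1]) (.leaf [-2167061, 433846, -6035726, -2926981, 3701435, 100584, 368434, 2096199, -162766, -226162, 10470, -4642, 5648, -183, -18, -4])) (.node (.leaf [-35448455, 1589578, -67238711, -21707385, 30361408, -411690, 11178921, 13123240, -1586778, 1709122, -3154, 168080, -38026, 10140, -2630, -15, -5]) (.leaf [-2141, 2403, -11923, -7469, 8721, 545, -249, 5933, -1008, -922, 21, -49, 49, 2, -1])))) (.node (.node (.node (.leaf [-24854, 4639, -64952, -29961, 38201, 839, 5062, 21255, -1869, -1852, 62, -27, 44, 0, -1]) (.leaf [-2734, 691, -7830, -3811, 4819, 108, 470, 2747, -268, -265, 6, -9, 8])) (.node (.leaf [12616384, 1040684,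 12916944, -1689651, 71408, 911504, -5870742, 2949435, 534646, -2871635, 71040, -173094, 47399, -10508, 3474, -89, 5]) (.leaf [-1006073035, 212453999, -2700076819, -1262287698, 1600112917, 40844940, 197533754, 900631894, -92930041, -74839290, 3319126, -891233, 2596696, 69279, -25859, -322, -9]))) (.node (.node (.leaf []) (.leaf [-4181696, 937205, -10925157, -4949858, 6280331, 160082, 908278, 3521097, -461657, -208471, 11936, -714, 12407, 761, -178, 3])) (.node (.leaf [-886, -1001, 3324, 3367, -3860, -295, 956, -2722, 311, 697, -39, 41, -27, 1]) (.leaf [-114325886, 28506555, -310338323, -144604209, 182513508, 4776129, 23225836, 103852513, -13400226, -7278282, 296138, -80875, 372539, 18015, -3600, 186, -1]))))) (.node (.node (.node (.node (.leaf [-5, 0, -10, -3, 4, 0, 2, 2]) (.leaf [13713, -3513, 39095, 18995, -23862, -720, -2440, -13731, 1478, 1365, -62, 41, -46, -1])) (.node (.leaf []) (.leaf [93, -15, 246, 115, -150, 0, -17, -80, 4, 7]))) (.node (.node (.leaf [9742, -2002, 28448, 14138, -17981, -446, -1450, -10042,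 698, 1158, -70, 30, -26, 1]) (.leaf [1])) (.node (.leaf []) (.leaf [-10472085, 775865, -23871190, -9875186, 13060104, 117044, 2493411, 6589622, -365490, -273519, 29004, 27350, -36, 852, -536, -9])))) (.node (.node (.node (.leaf []) (.leaf [17623, -5334, 51616, 25409, -31756, -876, -3096, -18600, 2180, 1862, -30, 56, -64, -1])) (.node (.leaf [907777, -197641, 2609672, 1297883, -1628413, -53462, -143215, -938793, 70154, 117589, -5502, 3464, -2645, 138, -38, 3]) (.leaf [213707, -50157, 573970, 267473, -338354, -8199, -43828, -192106, 21563, 15854, -387, 331, -506, -15, -3]))) (.node (.node (.leaf [1]) (.leaf [-3307, 361, -7238, -2855, 3769, -2, 877, 1942, -166, -26, -4, 5, -3])) (.node (.leaf []) (.leaf [-328175829, 77948256, -903688462, -429292152, 541026008, 15127331, 62516264, 308966185, -33933667, -27330849, 1100850, -533256, 995894, 19652, -4215, -52, -3])))))))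

def twoL233 : Janko.Tree (List ℤ) :=
  (.node (.node (.node (.node (.node (.node (.leaf [0, 1]) (.leaf [])) (.node (.leaf [0, 1]) (.leaf [0, 1]))) (.node (.node (.leaf [0, 1]) (.leaf [-906157577, 260250320, -2578235799, -1242200034, 1552648694, 48525502, 170773589, 904777435, -116943000, -79487841, 2915354, -2401413, 3568645, 85393, 606, 279, 1])) (.node (.leaf [7, 1, 12, 4, -4, -1, -2, -3]) (.leaf [-1491, 183, -3818, -1739, 2261, 31, 294, 1195, -63, -103, 8, -1, 2, 1])))) (.node (.node (.node (.leaf []) (.leaf [745023483, -70515992, 1699341030, 694136118, -917610971, -5820425, -180953756, -463799819, 39366444, 6210618, -1395701, -2811498, -385491, -152424, 96771, -768, 27])) (.node (.leaf [-136969, 36445, -303155, -112974, 140578, 5836, 42573, 80934, -26305, 8059, 50, 799, 606, 104, -17, 1]) (.leaf [34439928, -8124667, 95389303, 45629682, -57452564, -1670136, -6445595, -32884987, 3415088, 3163755, -129206, 81452, -103167, -224, -250, 47]))) (.node (.node (.leaf []) (.leaf [1994799, -452433, 5277353, 2412117,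 -3061487, -73665, -418838, -1716398, 221004, 101591, -5458, -303, -6249, -370, 137, -3])) (.node (.leaf [0, 3, -3, -2, 2, 0, 0, 2, -1]) (.leaf [0, 1]))))) (.node (.node (.node (.node (.leaf [0, 1, 0, 0, 1, -1]) (.leaf [-6941, 1792, -19379, -9303, 11645, 355, 1305, 6764, -776, -633, 24, -16, 23])) (.node (.leaf [-13235, 3748, -31616, -13023, 16283, 653, 3859, 9421, -2082, -199, -24, -13, 38, 4, -1]) (.leaf [235564, -50190, 627301, 291653, -369906, -9144, -47648, -208273, 21521, 17489, -632, 300, -527, -9, -3]))) (.node (.node (.leaf [-397, 15, -914, -384, 514, 0, 87, 253, -3, -13, 2]) (.leaf [-26098, 2500, -59123, -24267, 31941, 261, 6457, 16418, -1124, -656, 38, 37, -11, -2, 2])) (.node (.leaf []) (.leaf [0, 1])))) (.node (.node (.node (.leaf []) (.leaf [-273530495, 37090548, -699995224, -320032590, 411880088, 8083701, 53635473, 223049573, -14780483, -18465976, 1051616, 204735, 369316, 8614, -14519, -283, -3])) (.node (.leaf []) (.leaf [1420, -67, 3380, 1468, -1949, -20, -300, -973, 12, 79, -8]))) (.node (.node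 (.leaf []) (.leaf [-2256046, 553891, -6356970, -3070357, 3865105, 110853, 408964, 2213995, -230167, -218556, 9059, -5672, 7330, -21, 22, -1])) (.node (.leaf [612, -1246, 6813, 4813, -5728, -309, 596, -3740, 434, 698, -30, 38, -26, -1]) (.leaf [-244314785, 69530350, -706948414, -344915041, 431403311, 12927623, 42890693, 251035055, -30716844, -22667243, 821284, -489980, 986103, 23837, -3054, 349, 7])))))) (.node (.node (.node (.node (.node (.leaf []) (.leaf [3731, -2897, 16039, 9263, -10922, -744, -183, -7214, 1332, 980, -26, 52, -54, -3])) (.node (.leaf [-2, -2, -2, -3, 3, 1, -2, 2, 1]) (.leaf [30, 21, 44, 8, -22, 3, -8, 5, -9, -1, -2]))) (.node (.node (.leaf [0, 1]) (.leaf [13507775, -2726914, 29070276, 10218374, -13637947, 93601, -4185510, -6712653, 2015673, -1214131, 24566, -101104, -37091, -10107, 3194, -123])) (.node (.leaf []) (.leaf [0, 1])))) (.node (.node (.node (.leaf []) (.leaf [-1297, 593, -4269, -2209, 2718, 95, 205, 1655, -244, -187, 0, -10, 8])) (.node (.leaf []) (.leaf [-5186709, 508993, -11604329,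 -4649223, 6154920, 43549, 1327455, 3101594, -278163, -40036, 5782, 16343, 495, 887, -465, 7, -1]))) (.node (.node (.leaf []) (.leaf [0, 1])) (.node (.leaf []) (.leaf [-39540160, 9481880, -107342924, -50254085, 63426145, 1714700, 7904954, 36088781, -4322480, -2812027, 119776, -49772, 122413, 4370, -1008, 3]))))) (.node (.node (.node (.node (.leaf []) (.leaf [])) (.node (.leaf [-29472007, 5174433, -82896216, -40674915, 51602656, 1251256, 4461654, 28989727, -1816574, -3131037, 142276, -5918, 69353, -958, -1777, -20, 1]) (.leaf [-145218242, 24251193, -364898392, -162340292, 208548628, 4232983, 31861823, 113500408, -11171426, -7308342, 411505, 53862, 246881, 13896, -5262, -68, -5]))) (.node (.node (.leaf []) (.leaf [-30602127, -27452281, -38293839, -10261548, 23240208, -4482637, 2367933, -1160007, 14514990, 833682, 254318, 1023832, -429724, -9494, -27759, 190, 9])) (.node (.leaf [2718060, -671084, 7430216, 3492003, -4392267, -134981, -541280, -2513093, 314701, 200090, -11707, 4904, -10026, -283, 102, 1]) (.leaf [-925544,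 136974, -3300077, -1923974, 2399168, 89237, -18393, 1406052, 33531, -302336, 13104, -9828, 2151, -942, 185, -9])))) (.node (.node (.node (.leaf [0, 1]) (.leaf [-7849, 4175, -27778, -14990, 18052, 865, 950, 11483, -1804, -1408, 24, -71, 71, 2, -1])) (.node (.leaf []) (.leaf [-12520134, 2000866, -31135400, -13729296, 17702994, 298077, 2767206, 9559845, -929220, -535575, 21329, 18819, 15909, 1883, -571, 11, -1]))) (.node (.node (.leaf []) (.leaf [0, 1])) (.node (.leaf [0, 1]) (.leaf [0, 1])))))))

def twoL234 : Janko.Tree (List ℤ) :=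
  (.node (.node (.node (.node (.node (.node (.leaf []) (.leaf [0, 0, 1])) (.node (.leaf [-559, 63, -1384, -614, 804, 10, 117, 419, -22, -31, 1]) (.leaf [-9461240, 2170566, -25655143, -12035111, 15202493, 417464, 1866120, 8624727, -978214, -704138, 34491, -12459, 29023, 736, -275, -1]))) (.node (.node (.leaf []) (.leaf [0, 0, 1])) (.node (.leaf [0, 0, 1]) (.leaf [-58995263, 12945847, -160178953, -75583385, 95540439, 2621054, 11399014, 54142937, -5541214, -4883252, 218756, -100298, 162439, 1671, -254, -69])))) (.node (.node (.node (.leaf []) (.leaf [35731041, 2755347, 58565806, 15648508, -23829196, 789470, -11889479, -7803987, -833073, -1596164, -41418, -163825, 128338, -2288, -275, 184, 7])) (.node (.leaf [101258, -25492, 282026, 134835, -169656, -4771, -19186, -97390, 10888, 8941, -292, 219, -306, -4, -1]) (.leaf [-5107592, 1299957, -14470194, -7000696, 8784503, 268395, 914163, 5064159, -566575, -474780, 21778, -11278, 18774, 246, -99, 1]))) (.node (.node (.leaf [3, 0, 5, 1, -1, 0, -1, -1]) (.leaf [2633360, -611547,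 7014627, 3226167, -4088054, -100673, -547906, -2302913, 291958, 148305, -6906, 830, -8108, -428, 131, -3])) (.node (.leaf [0, 0, 1]) (.leaf [-358159, 92145, -968413, -450547, 567339, 15745, 75125, 324962, -42264, -24787, 770, -610, 1104, 40, 1]))))) (.node (.node (.node (.node (.leaf []) (.leaf [-6273675, 610886, -14714926, -6242155, 8183805, 102760, 1458102, 4229161, -266939, -234550, 17136, 9716, 1847, 220, -382, -4, -1])) (.node (.leaf [1473, -148, 3436, 1449, -1899, -19, -345, -986, 63, 50, -4, -1]) (.leaf [0, 0, 1]))) (.node (.node (.leaf [523, 29, 1187, 519, -686, -9, -94, -345, -23, 35, -5]) (.leaf [-4484953, 1250588, -12719638, -6152950, 7687852, 251357, 850696, 4486743, -529378, -454509, 15224, -17555, 15370, -103, 308, -5])) (.node (.leaf [0, 0, 1]) (.leaf [213026, -42009, 564214, 261324, -332366, -8449, -42865, -185199, 18662, 15164, -883, 153, -556, -7, -7])))) (.node (.node (.node (.leaf [-2, -1, -3, -2, 2, 1, 0, 1]) (.leaf [0, 0, 1])) (.node (.leaf []) (.leaf [68864, -3201, 242686, 143709, -182199,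 -4869, 2607, -103399, -9043, 26015, -742, 755, 163, 92, -25, 1]))) (.node (.node (.leaf []) (.leaf [-27323, 5859, -73145, -34132, 43294, 1074, 5480, 24370, -2485, -2108, 84, -44, 65])) (.node (.leaf []) (.leaf [0, 0, 1])))))) (.node (.node (.node (.node (.node (.leaf []) (.leaf [])) (.node (.leaf [0, 0, 1]) (.leaf [0, 0, 1]))) (.node (.node (.leaf [4093, -528, 10349, 4661, -6034, -134, -842, -3213, 214, 263, -18, 6, -5]) (.leaf [31004343, -6896640, 77883638, 33684204, -43166460, -746670, -7372312, -23643475, 3771598, 395371, -36512, -69230, -90243, -10585, 3294, -118])) (.node (.leaf [1302516640, -387938763, 3693103673, 1768481712, -2208541324, -69601810, -253856018, -1289690434, 178413214, 106753239, -3826914, 3478912, -5339029, -154634, -1508, -1048, 3]) (.leaf [-5843432, 1527436, -16547842, -7992687, 10019424, 307169, 1060357, 5792054, -671660, -532473, 22896, -12958, 21595, 368, -142, 1])))) (.node (.node (.node (.leaf []) (.leaf [0, 0, 1])) (.node (.leaf [0, 0, 1]) (.leaf [364491479, -44696380, 914709719,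 411753722, -532525394, -8992422, -73627431, -284907204, 18235090, 21199999, -1257215, -558756, -400304, -16442, 25395, 74, 5]))) (.node (.node (.leaf [0, 0, 1]) (.leaf [-933923, 145191, -2298908, -1006532, 1294251, 32386, 214916, 699679, -69505, -47092, 4566, -1192, 1860, 33, -40, -3])) (.node (.leaf [0, 0, 1]) (.leaf [-49838706, 13767818, -146670179, -72955099, 91048174, 2924125, 8055051, 53262521, -5630628, -5717295, 200766, -152493, 188743, 159, 670, -21]))))) (.node (.node (.node (.node (.leaf [0, 0, 1]) (.leaf [432005, -87748, 1167813, 553538, -700189, -19645, -82553, -396082, 34797, 40534, -1704, 832, -959, 11, -16, 1])) (.node (.leaf []) (.leaf [0, 0, 1]))) (.node (.node (.leaf [5790, -1698, 19557, 10489, -13183, -388, -488, -7584, 550, 1052, -56, 36, -26, 1]) (.leaf [1706669, 44701, 4208419, 2005912, -2620481, -54260, -282525, -1370012, -124271, 265787, -12396, 6724, 4459, 1204, -411, 21])) (.node (.leaf [0, 0, 1]) (.leaf [0, 0, 1])))) (.node (.node (.node (.leaf []) (.leaf [3810, -476, 8334, 3293, -4340,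 20, -1039, -2257, 194, 54, 16, -10, 2, 1])) (.node (.leaf []) (.leaf [0, 0, 1]))) (.node (.node (.leaf [-64394, 19694, -191511, -95705, 118324, 4364, 10411, 70667, -8591, -7327, 280, -196, 290, 6, -3]) (.leaf [-3800, 382, -8335, -3302, 4362, 6, 991, 2237, -180, -33, -2, 6, -3])) (.node (.leaf [186, -20, 431, 180, -237, 0, -43, -122, 9, 3, -1]) (.leaf [-53557, 10547, -143370, -67717, 85685, 2235, 10165, 48551, -4097, -4739, 66, -30, 70, 2, 5])))))))

def twoL235 : Janko.Tree (List ℤ) :=
  (.node (.node (.node (.node (.node (.node (.leaf []) (.leaf [-1307, 127, -3264, -1449, 1934, -17, 265, 973, -23, -67, 2, 0, -1])) (.node (.leaf []) (.leaf [18356, 173501, -409524, -317096, 342880, 33906, -40266, 275030, -80218, -43084, 1028, -4788, 3581, -5, 26, 1]))) (.node (.node (.leaf [42261, -4858, 100518, 42900, -56347, -558, -9948, -29115, 1919, 1787, -94, -10, 0, 0, -1]) (.leaf [-39385920, 8034098, -98302703, -42706617, 54774818, 1055046, 9321932, 29935669, -4170072, -1060335, 73725, 36962, 94924, 8925, -2515, 67, -1]))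 (.node (.leaf [135597738, -7284513, 323983660, 141614073, -186525730, -1421667, -27270828, -95223043, 2393782, 5901455, -466528, -539666, -8489, -6116, 19042, -43, -3]) (.leaf [15909327, -3927098, 43310598, 20308670, -25581446, -729162, -3204014, -14620149, 1791972, 1170073, -49832, 26264, -51232, -1587, 304, 3])))) (.node (.node (.node (.leaf [-1681, 110, -3997, -1732, 2288, 27, 368, 1158, -29, -95, 7, 1]) (.leaf [])) (.node (.leaf [-14745, 3541, -40552, -19285, 24269, 727, 2858, 13906, -1504, -1326, 46, -35, 44]) (.leaf [-69483281, 14340563, -187543621, -88422760, 112003929, 2978619, 13346450, 63163493, -5948210, -5885564, 254246, -107322, 167549, 784, 750, -94, -1]))) (.node (.node (.leaf []) (.leaf [])) (.node (.leaf [7499314, -1091551, 17623369, 7333388, -9554371, -128022, -1856390, -5015679, 585920, 111628, -10400, -17834, -8695, -1614, 640, -13, 1]) (.leaf [7974, 1995, 52589, 39658, -48115, -3321, 6600, -29516, -3907, 9951, -799, 447, -113, 37, 3, 1]))))) (.node (.node (.node (.node (.leaf []) (.leaf [-1781317,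 731951, -4570592, -1887853, 2336507, 83118, 525194, 1382204, -454537, 80115, -2000, 3414, 11647, 1660, -300, 15])) (.node (.leaf [1311896, 8855214, -26373404, -21786857, 24056657, 1988151, -3697988, 18585272, -3382652, -3842423, 46128, -250414, 165940, -4396, 3478, 33, 5]) (.leaf [576366, -168893, 1507975, 671017, -840621, -26250, -138703, -485673, 90510, 17488, -835, 262, -2263, -217, 22, -1]))) (.node (.node (.leaf [-412, 44, -961, -402, 532, 6, 104, 269, -17, -19, 1]) (.leaf [64382, -19695, 191495, 95700, -118318, -4364, -10409, -70662, 8591, 7328, -280, 196, -290, -6, 3])) (.node (.leaf []) (.leaf [-186, -26, -87, 92, -101, -11, 93, -77, -4, 49, -3, 2, -1])))) (.node (.node (.node (.leaf []) (.leaf [48689640, -4429824, 116442825, 50332780, -65926651, -684635, -10509103, -34149697, 1971311, 1768618, -140121, -149580, -27509, -4807, 5068, -5, -1])) (.node (.leaf [-1, 0, -2, -1, 1, 0, 0, 1]) (.leaf [-3557, 833, -9376, -4300, 5466, 156, 818, 3058, -342, -305, 8, -10, 4]))) (.node (.node (.leaf [-45, 13, -125,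 -62, 75, 0, 6, 49, -5, -3]) (.leaf [-27331, 5859, -73160, -34136, 43298, 1075, 5482, 24374, -2486, -2107, 84, -44, 65])) (.node (.leaf [-19236, 1873, -40890, -15718, 20765, 89, 5346, 10599, -934, -149, -12, 46, -13, 1]) (.leaf [-15526489, 3178371, -42286387, -20109981, 25422451, 720859, 2882975, 14387300, -1311298, -1404806, 69669, -26198, 41239, -76, 9, -27])))))) (.node (.node (.node (.node (.node (.leaf []) (.leaf [-23643838, 5546014, -64358124, -30301974, 38221364, 1081335, 4665951, 21772262, -2448693, -1877296, 81354, -42839, 70598, 1374, -140, -15])) (.node (.leaf [-37680441, 804732, -78589120, -29742954, 40456354, -51086, 9913097, 18894882, -597863, -116, 92516, 149774, -37533, 4175, -2392, -64, -3]) (.leaf [276426429, -29410330, 688532594, 308742092, -401095067, -5641953, -55110673, -212229687, 11654900, 15077200, -918067, -658740, -229911, -15097, 24480, -155, 3]))) (.node (.node (.leaf []) (.leaf [-1984014, 408470, -5550320, -2695650, 3406497, 92812, 335656, 1932544, -155736, -205907, 9564, -4214, 5464,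 -144, -32, -3])) (.node (.leaf [255880580, -136066222, 930281513, 510990770, -615526511, -30185131, -26261608, -391483331, 55920438, 53533754, -1437140, 2984096, -2133608, 30537, -41994, 416, -9]) (.leaf [-735282, 181709, -2017634, -949098, 1194465, 36795, 145075, 681690, -86768, -52585, 3419, -1015, 2880, 104, -35])))) (.node (.node (.node (.leaf []) (.leaf [1113, -217, 3044, 1411, -1853, -26, -243, -952, 76, 102, -6, 1, -1])) (.node (.leaf [22779, -5693, 63757, 30524, -38561, -951, -4265, -21964, 2366, 2006, -64, 50, -66, 1]) (.leaf [1798, -159, 3946, 1584, -2049, -65, -468, -1079, 99, 48, -9, -1, -2]))) (.node (.node (.leaf []) (.leaf [-894, 53, -1726, -598, 796, 4, 268, 396, -40, 18, -1, 4, -1])) (.node (.leaf []) (.leaf [1866, -141, 4682, 2114, -2777, -44, -364, -1422, 38, 132, -12, 1, -1]))))) (.node (.node (.node (.node (.leaf []) (.leaf [105739, -20355, 272811, 123679, -158599, -2721, -22690, -87285, 8371, 6541, -128, 99, -139, -4, -5])) (.node (.leaf [-2588, 252, -5800, -2364, 3100, 28, 651, 1609, -116,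 -63, 4, 4, -1]) (.leaf [13124848, -3208792, 35841422, 16817730, -21197047, -595868, -2593357, -12082154, 1506842, 903542, -45080, 10798, -45347, -1901, 680, -15]))) (.node (.node (.leaf [6, 0, 10, 3, -5, 0, -2, -1]) (.leaf [-76378645, 36023409, -235550812, -116447163, 141538595, 6555564, 16024262, 88126427, -16949063, -8250845, 192976, -674142, 505472, 10310, 13464, -63, -7])) (.node (.leaf [53209258, -10218104, 134851176, 59838412, -76643230, -1548093, -11851094, -42024764, 5038746, 2141911, -121340, -49474, -118643, -9493, 3568, -74, 3]) (.leaf [-232461, 36988, -621287, -295796, 376429, 9848, 42244, 209949, -11904, -24415, 1050, -528, 316, -37, 14, -1, 1])))) (.node (.node (.node (.leaf [-3395, 316, -7659, -3145, 4124, 39, 836, 2139, -145, -88, 7, 5, -1]) (.leaf [0, 0, -1, 0, 1])) (.node (.leaf [-57, 218, -1158, -865, 1062, 24, -108, 662, -28, -176, 4, -10, 2]) (.leaf [56619755, -14055140, 157365414, 74882940, -94401905, -2443336, -10603813, -53911230, 6295995, 4331501, -162752, 41695, -187459, -6165, 2331,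 -102, -1]))) (.node (.node (.leaf []) (.leaf [29790006, -7231271, 81587569, 38518936, -48512866, -1399245, -5849076, -27732170, 3228270, 2363645, -102134, 54174, -94416, -2243, 328, 11])) (.node (.leaf []) (.leaf [68987, -17101, 191327, 91259, -115042, -3016, -13225, -65811, 7153, 6120, -198, 142, -198, -3, 1])))))))

def twoL236 : Janko.Tree (List ℤ) :=
  (.node (.node (.node (.node (.node (.node (.leaf []) (.leaf [1])) (.node (.leaf [1554225425, -243892463, 3896050553, 1731887982, -2229934963, -41276440, -335091504, -1206578947, 113529466, 72773011, -4335946, -1829104, -2540404, -190013, 103804, -177, 33]) (.leaf [-44837820, 5202910, -104343441, -43019216, 56688843, 239402, 10677286, 28929397, -3021208, 13206, 59632, 216936, 48266, 12651, -7326, 147, 1]))) (.node (.node (.leaf []) (.leaf [329054550, -121079252, 992080583, 491285973, -606082230, -22164667, -59154874, -364541818, 55442486, 33219988, -994984, 1455778, -1773375, -45739, -4518, -209, -9])) (.node (.leaf [-308786, 47210, -795263, -365061, 466930,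 12281, 62638, 256065, -19193, -24109, 1570, -370, 578, -20, 14, -1]) (.leaf [-2015415, 559082, -5602600, -2648337, 3321486, 99438, 402617, 1918651, -261181, -147735, 6212, -4245, 7724, 273, -41, 1])))) (.node (.node (.node (.leaf [1]) (.leaf [1])) (.node (.leaf [1]) (.leaf [-5045592, 1280517, -14284448, -6907604, 8669329, 264395, 904286, 4995363, -558199, -467714, 21538, -11086, 18492, 242, -99, 1]))) (.node (.node (.leaf [3225901671, -668947039, 8470914253, 3882978203, -4936207027, -119183752, -670932177, -2758469025, 307129516, 197873945, -9406208, 1320108, -8069436, -355852, 119644, 121, 41]) (.leaf [])) (.node (.leaf [6860, -1891, 19887, 9745, -12238, -362, -1216, -7061, 766, 743, -24, 25, -24, 1]) (.leaf [3644, -209, 6921, 2380, -3110, -94, -1123, -1593, 178, -27, -4, -9, 0, 1]))))) (.node (.node (.node (.node (.leaf []) (.leaf [-114, 18, -287, -130, 166, 0, 21, 94, -7, -4])) (.node (.leaf [10112, -820, 23086, 9523, -12629, -25, -2396, -6377, 364, 196, -22, -19, 4, 0, -1]) (.leaf [-132124, 23150, -377702,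 -189646, 237863, 8927, 19290, 136634, -7139, -19329, 1176, -614, 388, -38, 9, -1]))) (.node (.node (.leaf [41979, -4821, 99876, 42639, -56006, -555, -9873, -28937, 1902, 1780, -93, -10, 0, 0, -1]) (.leaf [369378381, -68487823, 974965319, 452186563, -575878953, -13879930, -72709758, -320229815, 29459296, 26631112, -1412194, 229842, -843010, -18280, 12611, 554, -13])) (.node (.leaf [-3548, 366, -7474, -2819, 3731, 43, 1008, 1890, -198, 3, -11, 4, -3]) (.leaf [-105830, 24647, -289714, -137041, 173269, 4385, 20472, 98378, -10410, -8730, 320, -202, 282, 3])))) (.node (.node (.node (.leaf []) (.leaf [2385839, -527508, 6211438, 2812838, -3561959, -99845, -520147, -2003431, 262011, 124065, -8110, 1288, -7417, -343, 164, -1])) (.node (.leaf [1]) (.leaf [236308693, -25867075, 588311869, 264165438, -342315818, -5765130, -47724100, -182152570, 10020814, 14219425, -887130, -337792, -210105, -4122, 15440, 218, 3]))) (.node (.node (.leaf [1]) (.leaf [1])) (.node (.leaf []) (.leaf [705919, -170519, 2236126, 1191210, -1478643,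 -56625, -70638, -874889, 47078, 138151, -6025, 4771, -2595, 288, -31, 3])))))) (.node (.node (.node (.node (.node (.leaf [1]) (.leaf [1])) (.node (.leaf [1]) (.leaf [1]))) (.node (.node (.leaf []) (.leaf [1])) (.node (.leaf []) (.leaf [-14294631, 3076018, -38110676, -17647306, 22374667, 572126, 2876165, 12569511, -1436480, -907684, 49225, -2993, 41636, 1912, -805, 9])))) (.node (.node (.node (.leaf []) (.leaf [-926471414, 261615486, -2621783224, -1258917690, 1575099311, 48573431, 176183585, 915650355, -117796836, -79399614, 2948168, -2326789, 3563225, 89149, -944, 275, -1])) (.node (.leaf [4757327, 5810892, 3918429, 408175, -2504246, 827134, -305318, 1360821, -3185675, 79018, -69775, -152732, 93319, 4787, 2978, 47, -3]) (.leaf [209176, -51443, 588038, 284029, -357043, -10041, -37688, -205482, 21318, 19988, -751, 503, -637, 0, -3]))) (.node (.node (.leaf []) (.leaf [-1409, 389, -3360, -1308, 1690, 55, 420, 897, -252, 60, 4, -7, 6])) (.node (.leaf [1]) (.leaf [208, 11, 504, 182, -314, 39, -49, -72, -17, -23, 4,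 -1, 1]))))) (.node (.node (.node (.node (.leaf [-44169, 9976, -119360, -55958, 70905, 1712, 8787, 40065, -4212, -3452, 114, -74, 108, -1]) (.leaf [3905861, -866974, 10334508, 4749695, -6020121, -155934, -816813, -3387000, 405547, 239738, -11132, 2435, -10715, -547, 94, -3])) (.node (.leaf [1]) (.leaf [1]))) (.node (.node (.leaf [1]) (.leaf [-415769, 113308, -1182962, -572887, 717668, 21078, 75988, 416520, -48498, -39229, 1206, -1004, 1417, 22, 9])) (.node (.leaf []) (.leaf [-14449692, 2686397, -39986389, -19352613, 24522168, 651289, 2428718, 13809485, -995194, -1480493, 69906, -20118, 34214, -810, -285, -25])))) (.node (.node (.node (.leaf []) (.leaf [-14214314, 1678422, -35869177, -16301093, 21078427, 354125, 2812421, 11302684, -589078, -977817, 44910, 12450, 9938, -206, -608, -15, -1])) (.node (.leaf [1]) (.leaf [4140523, -1255060, 11168747, 5090901, -6375833, -194142, -942862, -3690904, 646791, 179232, -7590, 4329, -17394, -1282, 157, -9]))) (.node (.node (.leaf [-8624563, 8881693, -48433508, -30790161, 36113357,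 2111030, -1500659, 24384944, -3508216, -3964964, 99378, -189621, 168002, -2180, 541, 72, 3]) (.leaf [27652, -5628, 74618, 35062, -44609, -1071, -5351, -24906, 2306, 2271, -108, 48, -64, -3])) (.node (.leaf [-18045179, 4469667, -56277669, -29702697, 36887305, 1387586, 2061635, 21838957, -1230490, -3443447, 115992, -121136, 52661, -6535, 2448, -94, -1]) (.leaf [99606, -856, 251873, 120545, -156203, -4030, -16241, -82832, -4108, 14200, -812, 219, 111, 47, -12, 1])))))))

def twoL237 : Janko.Tree (List ℤ) :=
  (.node (.node (.node (.node (.node (.node (.leaf []) (.leaf [-37453, 18073, -132120, -71636, 86531, 4083, 3875, 54473, -7910, -6688, 236, -219, 324, 6, -3])) (.node (.leaf []) (.leaf [117794495, -14053186, 289050533, 127050723, -165172352, -2261795, -25094170, -87217841, 6355192, 4956758, -339970, -284038, -123224, -12611, 9578, -77, 1]))) (.node (.node (.leaf [0, 1]) (.leaf [929740847, -168544951, 2430883316, 1118297419, -1427470202, -32172517, -186656707, -789569879, 73529293, 61645112, -3131618, 79140, -1956098,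 -63371, 37184, 460, -4])) (.node (.leaf [0, 1]) (.leaf [-4527739, 1024857, -12631857, -6091315, 7678137, 216949, 808725, 4383617, -416170, -439789, 18489, -9898, 13159, -93, -6, -5])))) (.node (.node (.node (.leaf []) (.leaf [-13537675, 2995074, -36182574, -16764805, 21259536, 537328, 2751333, 11950717, -1372999, -889786, 43674, -10889, 38716, 1479, -453, 3])) (.node (.leaf []) (.leaf [-5950836, 393474, -14174384, -6181023, 8110920, 106523, 1264829, 4176093, -121357, -326731, 25971, 8550, 481, -198, -28, -19]))) (.node (.node (.leaf [-1891, 203, -4113, -1625, 2129, 17, 509, 1110, -98, -31, 0, 4, -1]) (.leaf [30, 5, 54, 15, -26, 1, -11, -4, -2, 0, -1])) (.node (.leaf []) (.leaf [1827, -115, 4150, 1709, -2279, -11, -435, -1129, 49, 47, -6, -3, 1]))))) (.node (.node (.node (.node (.leaf [0, 1]) (.leaf [153, -32, 356, 140, -189, -4, -52, -90, 14, 8, 1])) (.node (.leaf [1351, -124, 3107, 1297, -1699, -19, -319, -882, 57, 39, -4, -1]) (.leaf [-360323, 93927, -986188, -463214, 582664, 15969, 72914, 334867, -42499, -26332,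 814, -668, 1135, 36, 3]))) (.node (.node (.leaf [0, 1]) (.leaf [-3381038, 3892860, 9925440, 13969021, -17311675, -550709, 6267097, -10384816, -4056187, 4979082, -194708, 73256, 36825, 22405, -1450, 129, -8])) (.node (.leaf [-1775, 294, -4060, -1653, 2152, 27, 477, 1144, -135, -36, -9, 2, -1]) (.leaf [-96699, 24266, -268335, -127842, 161108, 4208, 18505, 92255, -10319, -8243, 265, -202, 281, 6])))) (.node (.node (.node (.leaf [-440, 49, -1036, -437, 576, 7, 107, 294, -20, -18, 1]) (.leaf [0, 1])) (.node (.leaf [0, 0, 0, 0, -1, 1]) (.leaf [-679, 38, -1254, -407, 549, -1, 213, 267, -31, 25, -2, 3, -2, -1]))) (.node (.node (.leaf [-219, 6, -579, -281, 364, -4, 20, 199, 5, -13, 1]) (.leaf [-18111307, -7004933, -23816380, -4385931, 9309458, -1397758, 5077226, 14199, 3330345, 1254497, 47357, 273784, -145376, -286, -4684, -32, -1])) (.node (.leaf [0, 1]) (.leaf [423897, -86631, 1122153, 521188, -663040, -14638, -85765, -371699, 34560, 32737, -609, 670, -686, 14, -11, -1])))))) (.node (.node (.node (.node (.node (.leaf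 []) (.leaf [])) (.node (.leaf [-1205992, 292426, -3348958, -1597997, 2010685, 60817, 227347, 1150407, -129706, -103859, 5423, -2504, 4243, 70, -26, -1]) (.leaf [150465, -44752, 439352, 215966, -268320, -9569, -26145, -158248, 20132, 15136, -626, 422, -680, -14, 5]))) (.node (.node (.leaf [1491, -92, 3458, 1465, -1933, -30, -340, -978, 34, 68, -6, -1]) (.leaf [-494832, 112970, -1322163, -614282, 777815, 18691, 101530, 440324, -49048, -35298, 739, -423, 1075, 45, 13])) (.node (.leaf [7911875, -1067561, 19126388, 8267586, -10732265, -164567, -1810623, -5693857, 492544, 308952, -16855, -11010, -7039, -718, 430, -3, 1]) (.leaf [14920, -3687, 41021, 19476, -24484, -706, -2914, -14080, 1586, 1289, -42, 31, -45])))) (.node (.node (.node (.leaf [0, 1]) (.leaf [-1608, 73, -3657, -1527, 2019, 39, 371, 1012, -31, -66, 7, 1])) (.node (.leaf [-36190358, 3912600, -79774781, -31000833, 41216826, 185989, 9651811, 20487168, -2504029, 495776, 50685, 146853, 25309, 10487, -3378, 65, -1]) (.leaf [0, 1]))) (.node (.node (.leaf [0,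 1]) (.leaf [-1272, 53, -2912, -1225, 1615, 21, 279, 818, -26, -41, 8, 2])) (.node (.leaf []) (.leaf [0, 1]))))) (.node (.node (.node (.node (.leaf []) (.leaf [0, 1])) (.node (.leaf []) (.leaf [85649007, -7391972, 207706296, 91314007, -119418124, -1410522, -17785091, -62107133, 2851813, 4139263, -291688, -215722, -40191, -3057, 7298, 19, 1]))) (.node (.node (.leaf []) (.leaf [-407458, 113031, -1165544, -566265, 708704, 21008, 73727, 412299, -48335, -39123, 1180, -1025, 1427, 22, 9])) (.node (.leaf [0, 1]) (.leaf [-8905568, -2280709, -7283048, 2130646, -854968, -811096, 4010422, -3035019, 646114, 1713741, -46260, 125538, -71864, 4121, -433, 16, -5])))) (.node (.node (.node (.leaf []) (.leaf [0, 1])) (.node (.leaf [109709, -28044, 306888, 147214, -184824, -5624, -20720, -106497, 12094, 10074, -376, 257, -361, -6, 3]) (.leaf [-10655, -14829, 10932, 16047, -13242, -3548, 5315, -16861, 8135, 2207, -66, 188, -357, -22, 7]))) (.node (.node (.leaf []) (.leaf [-144481, 33330, -391020, -183834, 232035, 6077, 28594, 132244,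 -14315, -11460, 344, -179, 347, 8, 3])) (.node (.leaf []) (.leaf [-17391523, 3351968, -47745150, -22894363, 29037310, 721544, 3039358, 16331623, -1302231, -1614264, 67242, -14108, 40150, -35, -596, -11])))))))

def twoL238 : Janko.Tree (List ℤ) :=
  (.node (.node (.node (.node (.node (.node (.leaf [0, 0, 1]) (.leaf [-9, 1, -18, -7, 8, 0, 3, 6, 0, -1])) (.node (.leaf [-7501595, 1084199, -18218131, -7871110, 10203304, 165605, 1727744, 5426170, -523745, -268442, 17506, 11401, 9463, 898, -579, 9, -1]) (.leaf [80027369, -41022242, 298433262, 166938809, -201677533, -9529310, -5973993, -127474231, 15811948, 18759258, -514336, 933904, -640462, 17611, -15192, 113, -5]))) (.node (.node (.leaf [174, 6, 447, 214, -282, 4, -15, -147, -9, 9, -1]) (.leaf [425522944, -190261007, 1355981375, 689468436, -841013187, -35195929, -73172201, -519809475, 86371964, 52121697, -1288166, 3027402, -2819830, -45995, -33592, -132, -15])) (.node (.leaf []) (.leaf [13527511, -3881729, 39002111, 18976858, -23670369, -780383, -2412675, -13832801,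 1775751, 1223538, -54375, 26592, -58341, -1901, 496, -13])))) (.node (.node (.node (.leaf []) (.leaf [1464390, -288407, 3840797, 1769196, -2241535, -65738, -300798, -1258027, 133401, 101716, -6608, 1380, -3981, -89, 31, 2])) (.node (.leaf [20914726, -3153587, 53580764, 24430001, -31386067, -614625, -4207828, -17092932, 1292094, 1365014, -64086, -12964, -28812, -836, 958, 5, 1]) (.leaf [0, 0, 1]))) (.node (.node (.leaf []) (.leaf [0, 0, 1])) (.node (.leaf [8893070, -2206497, 24537931, 11623888, -14630486, -421426, -1718182, -8372858, 1001065, 692323, -30944, 12468, -30147, -849, 288, -7]) (.leaf [-270256, 46735, -727384, -346747, 440572, 11572, 49351, 246772, -15973, -27892, 1156, -619, 430, -38, 14, -1]))))) (.node (.node (.node (.node (.leaf []) (.leaf [0, 0, 1])) (.node (.leaf [0, 0, 1]) (.leaf [-23, -7, -43, -20, 23, 0, -2, 17, 2, 3]))) (.node (.node (.leaf [97992, -25360, 266863, 124705, -157166, -4245, -20270, -89865, 11518, 6999, -239, 174, -298, -12, -1]) (.leaf [0, 0, 1])) (.node (.leaf [2168, -2061,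 10780, 6475, -7796, -334, 13, -5005, 759, 806, -4, 57, -38, 0, 1]) (.leaf [-102075, 24223, -280659, -133115, 168135, 4321, 19622, 95700, -10244, -8546, 308, -204, 282, 3])))) (.node (.node (.node (.leaf [0, 0, 1]) (.leaf [32, 12, 44, 10, -16, 1, -6, -5, -5, -3])) (.node (.leaf []) (.leaf [179272870, -65582834, 546300790, 273106054, -336658321, -12689692, -30878619, -202745510, 29491534, 19863990, -655912, 860914, -973671, -17239, -5386, -90, -3]))) (.node (.node (.leaf [-118, 21, -299, -136, 174, 0, 24, 98, -7, -7]) (.leaf [-9294905, -8289973, -2924512, 4398795, -2113020, -1564456, 2931401, -6012835, 3999819, 1441427, 32906, 255656, -155545, -1942, -4086, -43])) (.node (.leaf []) (.leaf [0, 0, 1])))))) (.node (.node (.node (.node (.node (.leaf [-3, 0, -4, -1, 1, 0, 1, 1]) (.leaf [15908780, -3927045, 43309427, 20308214, -25580852, -729137, -3203852, -14619847, 1791941, 1170050, -49830, 26265, -51231, -1587, 304, 3])) (.node (.leaf [-71, 7, -173, -77, 102, 0, 14, 52, -2, -3]) (.leaf [-1, 0, 2, 3, -4, 0, 2, -2])))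 (.node (.node (.leaf [0, 0, 1]) (.leaf [1473759, -358012, 4007550, 1876387, -2362211, -67918, -291663, -1349173, 171422, 96698, -4296, -136, -4949, -297, 102, -3])) (.node (.leaf [0, 0, 1]) (.leaf [-11882, 3495, -34180, -16658, 20765, 664, 2193, 12193, -1496, -1205, 32, -36, 46])))) (.node (.node (.node (.leaf []) (.leaf [-1611, 72, -3655, -1524, 2014, 39, 373, 1010, -32, -65, 8, 1])) (.node (.leaf [2181146000, -355141507, 5549907719, 2501026992, -3211322027, -64083850, -457669494, -1750161039, 158652062, 121487424, -6624434, -1393782, -3753692, -181355, 111880, 114, 59]) (.leaf [254025, -61262, 713019, 344781, -433489, -12197, -45509, -249388, 24958, 24831, -827, 545, -709, -2, -7]))) (.node (.node (.leaf []) (.leaf [-779, -71, -1623, -647, 877, 11, 165, 408, 32, -20, 8, 1, -2])) (.node (.leaf [53381682, -6398098, 118301750, 45659598, -60922740, 164296, -14154294, -30091515, 4294595, -1672352, -5966, -317835, -55105, -20857, 9979, -289, 1]) (.leaf [-772013, 189203, -2414620, -1273361, 1582130, 59220, 85172,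 934307, -55830, -141957, 6087, -4924, 2807, -280, 32, -3]))))) (.node (.node (.node (.node (.leaf []) (.leaf [20290, -5427, 56248, 26791, -33585, -928, -3982, -19495, 2328, 1749, -37, 44, -63, -1])) (.node (.leaf [-16965, 5342, -47771, -22889, 28330, 986, 3440, 16914, -2432, -1503, 28, -42, 67, 2]) (.leaf [105173658, -8590903, 249045165, 106958863, -140516365, -1416457, -23058144, -72210032, 3641092, 3964932, -319698, -292842, -32424, -6872, 8862, 21, 3]))) (.node (.node (.leaf []) (.leaf [-139160, 40298, -410874, -204070, 255116, 7520, 23084, 149049, -16144, -15843, 364, -457, 485, -2, 7])) (.node (.leaf []) (.leaf [-457, 47, -1077, -457, 599, 5, 105, 311, -21, -15, 2, 0, 1])))) (.node (.node (.node (.leaf [0, 0, 1]) (.leaf [-158363762, 42670410, -441382371, -210106293, 263497371, 7946133, 30969358, 152311524, -19128060, -13124545, 483894, -380370, 555322, 12838, 864, 27, -3])) (.node (.leaf [205, -503, 1360, 742, -872, -42, -40, -595, 272, -18, 2, 12, -9]) (.leaf [-1033496, 222427, -2876273, -1407791, 1766087,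 65441, 191461, 1019525, -69710, -147528, 5685, -7322, 1811, -350, 275, -7]))) (.node (.node (.leaf [5802920, 5929992, -3900386, -7211666, 6753692, 997223, -3007213, 7144032, -2851653, -1121872, -19776, -94306, 128364, 3847, -1215, 193, 1]) (.leaf [27764, -5668, 75131, 35394, -45002, -1084, -5309, -25175, 2314, 2304, -108, 50, -64, -1])) (.node (.leaf [15142660, -2805326, 38557811, 17269100, -22099039, -478044, -3306281, -12143867, 1318148, 766150, -41008, -3758, -31010, -1730, 736, -7, 1]) (.leaf [-9486042, 2475557, -26287233, -12473139, 15652599, 483345, 1859431, 9020620, -1127455, -765120, 33958, -20290, 33906, 847, -57, 1])))))))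

def twoL239 : Janko.Tree (List ℤ) :=
  (.node (.node (.node (.node (.node (.node (.leaf []) (.leaf [-950, 49, -2094, -868, 1117, 39, 231, 594, -27, -49, 6, 1, 1])) (.node (.leaf [1978, -184, 4286, 1692, -2221, -18, -524, -1149, 92, 29, -2, -4, 1]) (.leaf [3079, -290, 6881, 2785, -3669, -34, -780, -1880, 136, 64, -2, -4, 1]))) (.node (.node (.leaf []) (.leaf [105980525, -27104059, 297202611, 142607492, -179181349, -5138937, -19661345, -103125544, 11836192, 9223066, -346409, 197463, -356900, -7126, 1191, -45])) (.node (.leaf []) (.leaf [-2821, 322, -6814, -2951, 3883, 16, 637, 2007, -111, -130, 5, 3, -1])))) (.node (.node (.node (.leaf []) (.leaf [134837236, -18914777, 341913332, 154585184, -199168656, -3686671, -27349994, -107581227, 8042297, 7929842, -473122, -142607, -199179, -7667, 8785, 81, -1])) (.node (.leaf [1811, 728, 4693, 2592, -3247, -298, 270, -1839, -382, 247, 10, 24, 11, 7, 4]) (.leaf [-140474838, 39717830, -399222534, -192087544, 240467184, 7093870, 26174500, 139648753, -17999725, -11669837, 419965,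 -263478, 551776, 17446, -3654, 141, 3]))) (.node (.node (.leaf [-6, 0, -9, -2, 4, 0, 2, 1]) (.leaf [-1, -1, 0, 0, 0, 1])) (.node (.leaf [-38622, 7153, -96017, -42292, 54203, 1003, 8948, 29819, -3171, -1917, 40, -15, 51, 4, 1]) (.leaf [-5770, 1114, -13497, -5590, 7091, 268, 1596, 3909, -647, -181, 23, 15, 19, 2, -1]))))) (.node (.node (.node (.node (.leaf []) (.leaf [])) (.node (.leaf []) (.leaf []))) (.node (.node (.leaf []) (.leaf [-13198394, 15116009, -60217792, -34535739, 39635840, 2874572, 1717807, 28101884, -7011950, -3552180, 36270, -369685, 239917, 1905, 6216, -20])) (.node (.leaf [289, -298, 1851, 1194, -1499, -8, 60, -892, 52, 191, -4, 10, -1]) (.leaf [-1, 0, -1, 0, 0, 0, 0, 1])))) (.node (.node (.node (.leaf [-1, -1, 0, 0, 0, 1]) (.leaf [-108316995, 28170268, -312317782, -153287210, 192132797, 5719038, 18361090, 111272461, -11592065, -11365289, 416732, -276504, 377019, -566, 1310, 15, 3])) (.node (.leaf []) (.leaf [-89035, 11621, -235586, -111977, 143503, 3349, 15932, 78702, -2904, -9668, 377, -167,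 71, -24, 7]))) (.node (.node (.leaf []) (.leaf [-1924674, -9458466, 14712561, 11845755, -11784348, -1691419, 1148978, -11139414, 4612230, 1571076, 26078, 237110, -165066, -3610, -3450, -62, 1])) (.node (.leaf [4398, -402, 10107, 4186, -5543, -21, -1056, -2811, 170, 108, -8, -5, 3, 0, -1]) (.leaf [89053, -11657, 235967, 112267, -143864, -3361, -15881, -78912, 2904, 9721, -381, 169, -72, 23, -7])))))) (.node (.node (.node (.node (.node (.leaf []) (.leaf [])) (.node (.leaf [-614, 1245, -6817, -4817, 5732, 312, -597, 3742, -434, -699, 30, -38, 26, 1]) (.leaf [-2151, 197, -4720, -1885, 2478, 20, 557, 1278, -96, -37, 2, 4, -1]))) (.node (.node (.leaf []) (.leaf [-1356, 1440, -6933, -4212, 4914, 326, -46, 3345, -636, -478, 6, -28, 28, -1])) (.node (.leaf []) (.leaf [5445582, -573514, 12243946, 4919499, -6499927, -50526, -1394956, -3292151, 314252, 41594, -6041, -16799, -1302, -993, 465, -8, 1])))) (.node (.node (.node (.leaf []) (.leaf [-1218, 73, -2802, -1174, 1556, 20, 279, 780, -30, -43, 4, 1])) (.node (.leaf [22304,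 -5626, 62548, 29977, -37852, -941, -4166, -21585, 2342, 1973, -62, 50, -66, 1]) (.leaf [208688, -49864, 587114, 284792, -357841, -10295, -36858, -206107, 20134, 21003, -711, 453, -581, 2, -7]))) (.node (.node (.leaf []) (.leaf [398367, -101738, 1109933, 528053, -663725, -19925, -75772, -380674, 47072, 31130, -1768, 727, -1560, -42, 15])) (.node (.leaf [11828103, -1289527, 30436842, 14112769, -18220206, -321946, -2158619, -9800369, 399868, 940120, -49108, -10834, -9762, 519, 622, 19]) (.leaf [5719, -510, 13504, 5781, -7588, -90, -1294, -3915, 199, 250, -21, -3]))))) (.node (.node (.node (.node (.leaf []) (.leaf [6939, -1811, 19411, 9330, -11678, -353, -1305, -6787, 779, 641, -22, 16, -23])) (.node (.leaf [-1050691, 153515, -2918704, -1439870, 1833849, 44061, 161361, 1023617, -31442, -139777, 4980, -2990, 934, -273, 88, -5]) (.leaf [-17, 36, -380, -289, 361, 12, -51, 209, 0, -53, 4, -2, 1, 1]))) (.node (.node (.leaf [104163273, -25848025, 284484367, 133512944, -168316723, -4579858, -20760364, -96039750, 11871952,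 7381908, -302146, 119916, -337888, -12602, 2258, -98, 1]) (.leaf [])) (.node (.leaf [74891071, -5505096, 170670701, 69987383, -93049362, -128327, -17479976, -46393180, 3092290, 471004, -135974, -376812, -19896, -14942, 11730, -152, -1]) (.leaf [-58712115, 16546126, -165824296, -79157301, 99284744, 2775183, 11111868, 57368846, -7766846, -4237728, 159808, -49798, 234435, 10964, -2259, 174, 1])))) (.node (.node (.node (.leaf []) (.leaf [-20345283, 3604665, -54974050, -26161506, 33249966, 833117, 3652726, 18595273, -1359502, -1886358, 83946, -20066, 40411, -794, -282, -27])) (.node (.leaf []) (.leaf [-10310, -15161, 12149, 16595, -13914, -3558, 5227, -17286, 8327, 2144, -62, 197, -362, -22, 7]))) (.node (.node (.leaf []) (.leaf [5, 0, 7, 2, -2, 0, -2, -1])) (.node (.leaf [-192394643, 102703705, -708222190, -391677630, 471791472, 23041125, 17783574, 300074962, -41823048, -41589395, 1136628, -2237214, 1631733, -24482, 30186, -284, 11]) (.leaf [-1369904, 384348, -3854885, -1838797, 2301806, 72145, 264252, 1334046, -180249,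 -106241, 5038, -2725, 5730, 200, -55, 1])))))))

def twoL240 : Janko.Tree (List ℤ) :=
  (.node (.node (.node (.node (.node (.node (.leaf []) (.leaf [9, 10, 3, -3, 0, 1, -1, 5, -5, -1])) (.node (.leaf [1]) (.leaf [28542, -6139, 77130, 36201, -45982, -1068, -5570, -25822, 2562, 2237, -90, 44, -61, -2]))) (.node (.node (.leaf [-706769, -818559, -355647, 55693, 111773, 31602, 158977, -232949, 466026, -174289, 25500, -4396, -13034, -1315, 36, -51, -1]) (.leaf [1982, -292, 4651, 1947, -2532, -64, -518, -1330, 136, 89, -4, 2, -1, 1])) (.node (.leaf [-21108, 5542, -59211, -28403, 35701, 992, 4002, 20564, -2350, -1911, 54, -50, 69, -1]) (.leaf [270649, -68218, 649713, 266458, -343047, -2938, -73797, -187731, 36742, -2935, 1340, -858, -337, -133, -10, -1])))) (.node (.node (.node (.leaf []) (.leaf [1])) (.node (.leaf [-18181244, -1420820, -43034896, -19811028, 26282538, 433786, 2984905, 13085764, 1416045, -2127053, 154444, 5842, -39285, -7181, 447, -183, -1]) (.leaf [420822, -95120, 1160660, 555987, -700118, -20623, -78303,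 -400616, 38723, 40656, -1610, 1004, -1122, 6, -13, 1]))) (.node (.node (.leaf [1]) (.leaf [-914720131, 124378466, -2203664617, -946460070, 1229036349, 18562388, 210541858, 650590086, -61500660, -28821496, 2231218, 1728262, 1102365, 135907, -69731, 134, -35])) (.node (.leaf [1]) (.leaf [-20658152, 2580623, -49260830, -20938134, 27366218, 296264, 4785558, 14265091, -1289402, -506170, 39932, 56355, 18576, 3445, -1547, 33, -1]))))) (.node (.node (.node (.node (.leaf [-3371738, 797420, -9006888, -4151043, 5255427, 130126, 700892, 2968441, -377772, -195126, 8050, -1382, 10089, 572, -152, 3]) (.leaf [2085, -199, 4999, 2160, -2845, -21, -458, -1462, 70, 90, -4, -1])) (.node (.leaf [-61677, 9874, -154147, -68518, 88098, 1695, 13496, 47952, -4350, -3243, 170, -24, 79, -2, 1]) (.leaf [-795906713, 245805223, -2395216123, -1202872995, 1492481147, 52384104, 126181013, 884871488, -103618717, -95213854, 3507484, -3188566, 3608637, 20127, 8125, -807, 45]))) (.node (.node (.leaf []) (.leaf [-110913874, 50434751, -343173867, -170370206,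 207563442, 9047321, 21865384, 128536300, -23888074, -11440214, 278042, -788440, 737594, 20076, 8734, 31, -7])) (.node (.leaf [3, 1, 2, 0, 1, -1, 0, -1]) (.leaf [1])))) (.node (.node (.node (.leaf [727796132, -147676193, 1936959915, 899248830, -1143201996, -27269039, -144238026, -638763989, 65750688, 49645514, -2363684, 152024, -1836804, -59544, 29456, -457, 11]) (.leaf [1])) (.node (.leaf []) (.leaf [26223458, -4963239, 70805099, 33468622, -42530739, -1045356, -4829663, -23786531, 2035133, 2173093, -102828, 15075, -61307, -682, 1017, 15]))) (.node (.node (.leaf [19052712, -3336214, 54965543, 27849765, -35025673, -1135648, -2648732, -20098077, 810332, 2962568, -118967, 82378, -34967, 5670, -1670, 117, -1]) (.leaf [400795865, -86577492, 1047426000, 476361858, -605595895, -14524950, -85991677, -338430641, 40816535, 22232349, -1039552, 163860, -1037665, -54062, 13134, -207, 11])) (.node (.leaf []) (.leaf [-52640, 15032, -140661, -63973, 80680, 1947, 11942, 46220, -7215, -2533, 26, -119, 169, 8, 1])))))) (.node (.node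 (.node (.node (.node (.leaf []) (.leaf [-1517, -331, -2773, -964, 1435, -98, 293, 538, 172, 72, 1, 10, -8, 1])) (.node (.leaf [690632, -185306, 1948184, 935607, -1171526, -37769, -129490, -678018, 84451, 59739, -2918, 1502, -2780, -72, 23]) (.leaf [1, 0, 4, 3, -4, 0, 1, -2]))) (.node (.node (.leaf []) (.leaf [1])) (.node (.leaf []) (.leaf [-53, -22, 200, 208, -256, -12, 68, -153, -4, 47, -4, 2, -1])))) (.node (.node (.node (.leaf [22, 1, 54, 24, -34, 0, -5, -14, -2, 3]) (.leaf [705657, -187549, 1980648, 947966, -1187717, -37990, -133950, -686396, 85721, 59738, -2930, 1479, -2789, -74, 25])) (.node (.leaf [118337111, -29428608, 365295644, 189823541, -236573667, -7847164, -13826190, -138778812, 9994582, 18340434, -715957, 407944, -440136, 17881, 1066, 212, -9]) (.leaf [404, -1176, 6382, 4678, -5550, -331, 651, -3634, 391, 752, -39, 39, -27, 1]))) (.node (.node (.leaf [-3, 0, -6, -2, 2, 0, 1, 2]) (.leaf [1])) (.node (.leaf []) (.leaf [45996, -11945, 126479, 59777, -75211, -1999, -9203, -43249, 5184, 3714, -88, 86,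 -134, -2]))))) (.node (.node (.node (.node (.leaf [1]) (.leaf [438226, -94640, 1212144, 583373, -735387, -21775, -79214, -419462, 37504, 44185, -1859, 1050, -1145, 22, -8, 1])) (.node (.leaf [13505, 1039, 32943, 15551, -20540, 4, -1637, -10509, -1011, 1185, -38, -94, 64, -3, -3]) (.leaf [60703946, -7476937, 149260076, 65601287, -85176896, -1283623, -12956794, -45062721, 3516935, 2470238, -194340, -145531, -77291, -7876, 6763, -44, 3]))) (.node (.node (.leaf []) (.leaf [498068, -88086, 1305770, 609166, -775363, -18687, -99096, -433372, 31527, 44993, -1204, 856, -524, 42, -27, 1])) (.node (.leaf [-34695439, 11927331, -114324433, -61188178, 75048316, 3204704, 3764335, 45699652, -4316338, -6625743, 241348, -272624, 184009, -8420, 2530, -134, 1]) (.leaf [-152012121, 23517732, -344185871, -135196427, 178143227, 730462, 40812134, 90951389, -14659234, 3548551, -12632, 687838, 211364, 59813, -20361, 678, -9])))) (.node (.node (.node (.leaf []) (.leaf [105372817, -17415094, 276877143, 128599170, -164419188, -3562550, -20174577,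 -90597903, 7097722, 7766704, -384264, -15334, -194339, -2707, 4493, 45])) (.node (.leaf [18554, -6575, 63135, 34012, -42393, -1192, -1706, -25114, 2038, 3514, -36, 159, -71, 8, 1]) (.leaf [18299811, -4675555, 50554260, 23953421, -30115490, -864753, -3567060, -17300044, 2105714, 1437109, -55210, 31450, -61247, -1798, 271, -3]))) (.node (.node (.leaf [1]) (.leaf [19800431, -3383909, 57905891, 29335214, -37110556, -930402, -2436678, -21002811, 989084, 2587703, -111188, 7914, -47592, 2113, 1281, 19, -1])) (.node (.leaf [1]) (.leaf [-105978269, 27103895, -297197476, -142605369, 179178539, 5138914, 19660810, 103124125, -11836120, -9223006, 346403, -197466, 356901, 7126, -1191, 45])))))))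

def twoL241 : Janko.Tree (List ℤ) :=
  (.node (.node (.node (.node (.node (.node (.leaf []) (.leaf [])) (.node (.leaf [6, -1, 14, 6, -8, -1, -2, -3, 1]) (.leaf [0, 1]))) (.node (.node (.leaf []) (.leaf [-1052, 53, -2573, -1134, 1524, -18, 199, 753, 2, -44, 3, 0, -1])) (.node (.leaf []) (.leaf [1052, -52, 2573, 1134, -1524, 18, -199, -753, -2, 44, -3, 0, 1])))) (.node (.node (.node (.leaf [0, 1]) (.leaf [])) (.node (.leaf [0, 1]) (.leaf [0, 1]))) (.node (.node (.leaf []) (.leaf [-11152198, 7185438, -39454713, -20786448, 24805153, 1219974, 1810609, 16150652, -3385857, -1539068, 6108, -108222, 108242, 3328, 655, 47])) (.node (.leaf []) (.leaf [0, 1]))))) (.node (.node (.node (.node (.leaf []) (.leaf [0, 1])) (.node (.leaf [-18331, 2805, -49594, -23776, 30268, 820, 2914, 16941, -917, -1686, 30, -84, 13, -6, -5]) (.leaf [775900835, -90070812, 1843431939, 784504315, -1025520101, -11934130, -178828870, -534074279, 43812137, 22239492, -1780502, -1901738, -613280, -101149, 59704, -508, 37]))) (.node (.node (.leaf [])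 (.leaf [5612853, -619647, 12731192, 5159144, -6800241, -59052, -1422983, -3466492, 333434, 58550, -6550, -16319, -1902, -990, 464, -8, 1])) (.node (.leaf []) (.leaf [74977, -16614, 199065, 92267, -116748, -3108, -15615, -66067, 7224, 5623, -200, 116, -178, -2, -1])))) (.node (.node (.node (.leaf []) (.leaf [47732583, -12693771, 139946987, 69891899, -87027963, -3123743, -7730528, -51111870, 4977306, 6107461, -246956, 213967, -176622, 4955, -1042, 125, 1])) (.node (.leaf [0, 1]) (.leaf [0, 1]))) (.node (.node (.leaf [0, 1]) (.leaf [315356143, -81265776, 866281022, 407733672, -513122790, -14392034, -62924513, -294097387, 37275334, 22964686, -892738, 489303, -1061938, -37671, 5739, -217, 3])) (.node (.leaf []) (.leaf [0, 1])))))) (.node (.node (.node (.node (.node (.leaf [0, 1]) (.leaf [0, 1])) (.node (.leaf [0, 1]) (.leaf [4, -2, 12, 4, -6, 1, -2, -3, 1]))) (.node (.node (.leaf []) (.leaf [-4936, 1770, -15314, -7778, 9615, 353, 798, 5757, -739, -654, 17, -25, 25, -1])) (.node (.leaf []) (.leaf [3961, -364, 8819,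 3592, -4682, -83, -1006, -2449, 181, 119, -11, -5, -1])))) (.node (.node (.node (.leaf []) (.leaf [-3857, 725, -10454, -4941, 6320, 137, 721, 3486, -269, -342, 13, -8, 9])) (.node (.leaf [0, 1]) (.leaf [0, 1]))) (.node (.node (.leaf []) (.leaf [-48923110, 2672311, -116500770, -50755976, 66914566, 510867, 10005943, 34093224, -833828, -2178386, 165686, 172429, -3084, 1685, -5136, -9])) (.node (.leaf [0, 1]) (.leaf [-27758, 5669, -75123, -35392, 45000, 1083, 5307, 25174, -2314, -2304, 108, -50, 64, 1]))))) (.node (.node (.node (.node (.leaf []) (.leaf [])) (.node (.leaf [0, 1]) (.leaf [0, 1]))) (.node (.node (.leaf []) (.leaf [0, 1])) (.node (.leaf []) (.leaf [310009, 3544422, -16131170, -13977726, 15597788, 1539078, -2485303, 11717535, -624640, -3632062, 93898, -229479, 59143, -10878, 5007, -151, -1])))) (.node (.node (.node (.leaf []) (.leaf [])) (.node (.leaf [515, -52, 1218, 517, -682, -4, -120, -349, 21, 19, -2]) (.leaf [0, 1]))) (.node (.node (.leaf [-346, 42, -893, -412, 536, 3, 63, 286, -11, -24, 1]) (.leaf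 [194097, -49741, 552340, 268197, -337013, -9692, -34654, -194026, 20679, 19241, -804, 554, -663, 3, -1])) (.node (.leaf [2, -1, 4, 3, -3, -1, 0, -2, 1]) (.leaf [0, 1])))))))

def twoL242 : Janko.Tree (List ℤ) :=
  (.node (.node (.node (.node (.node (.node (.leaf []) (.leaf [-219, 29, -550, -243, 321, 1, 45, 165, -11, -7, 0, 0, -1])) (.node (.leaf [1412, -115, 3628, 1658, -2210, 22, -248, -1117, 6, 84, -2, 0, 1]) (.leaf [371496, -69588, 887271, 370989, -475385, -13838, -96089, -257939, 39930, 7640, -1894, 388, -1150, -71, 44, 1]))) (.node (.node (.leaf [28161732, -14087680, 94703001, 49968022, -60213622, -3118668, -4419273, -38235844, 5985724, 5026858, -133432, 344782, -202043, 2978, -6370, 122, 3]) (.leaf [912242279, -111226253, 2169809993, 922896026, -1203809202, -15563045, -211147986, -629917041, 55876016, 24568538, -2141298, -2262254, -887878, -145181, 82034, -395, 37])) (.node (.leaf []) (.leaf [-7506846, -1770768, -29861401, -19043632, 24397007, 393779, -2193523, 13372077, 1987718, -3026948, 170507, 46204,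 1798, -8586, -3340, -48, 9])))) (.node (.node (.node (.leaf []) (.leaf [-3433341, 185277, -6867126, -2398833, 3296134, -25001, 1008956, 1499245, -154021, 117240, -99, 17267, -2873, 908, -472, 8, -1])) (.node (.leaf []) (.leaf [-64, 17, -178, -82, 108, 0, 14, 56, -7, -3]))) (.node (.node (.leaf [-299, 87, -743, -317, 408, 9, 95, 222, -35, -25, -1]) (.leaf [-11155406, 7186810, -39467240, -20793581, 24813945, 1220348, 1810681, 16155922, -3386352, -1539884, 6158, -108256, 108269, 3327, 655, 47])) (.node (.leaf []) (.leaf [-306511174, 16127786, -673744145, -267977510, 359141544, 538197, 75636033, 174980072, -9358059, -1727427, 654792, 1313011, -87263, 46502, -35439, 111, -13]))))) (.node (.node (.node (.node (.leaf []) (.leaf [-28207, 5970, -75305, -35083, 44533, 1081, 5669, 25029, -2522, -2151, 84, -44, 65])) (.node (.leaf []) (.leaf [0, 0, 1]))) (.node (.node (.leaf []) (.leaf [0, 0, 1])) (.node (.leaf [0, 0, 1]) (.leaf [-152575298, -12447620, -318961246, -126249240, 174784267, -2034694, 33389792, 77827977, 7351926,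 -2933724, 525233, 1045894, -378276, -670, -25809, -172, -1])))) (.node (.node (.node (.leaf []) (.leaf [-170408880, 74299331, -512159554, -248355292, 304302682, 11795247, 35469210, 186046950, -36601754, -12876695, 242550, -797862, 1085150, 48938, 5272, 558, -3])) (.node (.leaf []) (.leaf [34193718, -6423065, 91804230, 43218812, -54934608, -1354052, -6396394, -30701460, 2655315, 2767239, -132036, 19647, -78527, -920, 1265, 23]))) (.node (.node (.leaf []) (.leaf [0, 0, 1])) (.node (.leaf [0, 0, 1]) (.leaf [214807520, -26984956, 552999945, 255049600, -328602512, -6086967, -40531244, -177594358, 9785281, 15825386, -852760, -192213, -253303, 3345, 9521, 186, -3])))))) (.node (.node (.node (.node (.node (.leaf []) (.leaf [9489365, 52225898, -143310991, -121071660, 131702029, 13118839, -19337187, 104728982, -19204323, -24797346, 375793, -1940712, 914516, -46971, 38417, -260, 3])) (.node (.leaf []) (.leaf [0, 0, 1]))) (.node (.node (.leaf []) (.leaf [2, 0, 5, 2, -2, 0, 0, -2])) (.node (.leaf [-99, -17, 97, 163, -198,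 -12, 77, -121, -6, 46, -4, 2, -1]) (.leaf [126947, -29034, 341589, 159812, -201833, -5497, -25625, -114753, 12603, 9900, -328, 198, -314, -8, -1])))) (.node (.node (.node (.leaf [0, 0, 1]) (.leaf [0, 0, 1])) (.node (.leaf []) (.leaf [-1208, -1038, 2637, 3085, -3474, -299, 1012, -2544, 329, 694, -35, 41, -27, 1]))) (.node (.node (.leaf [0, 0, 1]) (.leaf [-215, 34, -507, -216, 278, 5, 55, 151, -14, -11])) (.node (.leaf [11885452, -6049599, 40716685, 21398232, -25974858, -1072858, -1616987, -16243776, 2775598, 1586927, -36912, 77934, -98252, -2879, 290, -37, -1]) (.leaf [-27764, 5668, -75130, -35394, 45002, 1084, 5309, 25175, -2314, -2304, 108, -50, 64, 1]))))) (.node (.node (.node (.node (.leaf []) (.leaf [0, 0, 1])) (.node (.leaf [-2859352, 665077, -7524396, -3422847, 4337605, 109275, 616365, 2441137, -326447, -143401, 7177, -438, 8746, 557, -142, 3]) (.leaf []))) (.node (.node (.leaf [0, 0, 1]) (.leaf [192910, -49286, 546467, 264412, -333459, -8499, -35138, -190886, 19579, 19025, -452, 522, -519, 2, -9])) (.node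 (.leaf [58762440, -4250947, 136891080, 57486117, -76190518, -125468, -12939015, -38319298, 2241538, 769067, -122052, -314374, -23349, -11098, 10310, -144, -3]) (.leaf [5480350, -10130390, 39998505, 26721374, -30232188, -2541730, 1157078, -22097796, 3929060, 4435970, -86530, 364078, -163071, 7294, -7060, 124, 1])))) (.node (.node (.node (.leaf []) (.leaf [-2477450, 601294, -6993148, -3385566, 4253292, 129000, 437496, 2444460, -257337, -235252, 10594, -4956, 8497, 113, -70, -1])) (.node (.leaf [0, 0, 1]) (.leaf [18574271, -4752671, 51346522, 24337735, -30597359, -879610, -3616318, -17578099, 2140871, 1461438, -56667, 32191, -62517, -1832, 287, -3]))) (.node (.node (.leaf [32, 0, 70, 30, -40, 0, -8, -20, -2, 4]) (.leaf [0, 0, 1])) (.node (.leaf [-19, 39, -382, -288, 359, 12, -49, 210, -2, -52, 4, -2, 1]) (.leaf [339465306, -183112734, 1125793512, 577925520, -697557109, -32276836, -60381667, -441973849, 85611798, 42458824, -821127, 3099186, -2770488, -60401, -39081, -302, -15])))))))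

def twoL243 : Janko.Tree (List ℤ) :=
  (.node (.node (.node (.node (.node (.node (.leaf [-4, 0, -8, -2, 4, 0, 1, 1]) (.leaf [-45383, 5417, -108707, -46656, 61179, 670, 10595, 31735, -2149, -2015, 106, 4, 5, 0, 1])) (.node (.leaf []) (.leaf [2929559, -707868, 7772612, 3549066, -4494818, -108994, -625043, -2536032, 347522, 143239, -6358, 104, -9275, -614, 184, -5]))) (.node (.node (.leaf [-7514, 1881, -20814, -9932, 12481, 358, 1443, 7187, -802, -671, 22, -16, 23]) (.leaf [151, 0, 340, 143, -188, -1, -30, -95, 1, 2, -1, -1])) (.node (.leaf [-1766, 160, -3811, -1484, 1964, 13, 473, 997, -81, -14, 0, 2, -1]) (.leaf [-1775739, 488496, -5024571, -2405693, 3016047, 90607, 330350, 1741373, -230213, -134182, 6366, -2223, 7480, 352, -132, 3])))) (.node (.node (.node (.leaf []) (.leaf [325868, -79630, 913127, 438090, -551856, -15640, -59880, -315200, 34763, 28623, -1472, 621, -1163, -19, -7])) (.node (.leaf [-14510769, 750669, -30609059, -11580776, 15641135, 14380, 3899902, 7448957, -508658, 92901, 29775, 54085, -6166,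 2567, -1085, -17, -1]) (.leaf [-35700, 6681, -89560, -39765, 50912, 924, 8082, 28096, -2925, -1857, 42, -17, 50, 5, 1]))) (.node (.node (.leaf []) (.leaf [1307254, -364816, 3679109, 1778999, -2219396, -78109, -259234, -1300925, 145418, 150037, -4086, 7192, -3693, 154, -235, 3])) (.node (.leaf [8412, -4557, 32164, 17924, -21721, -1091, -606, -13547, 1946, 1808, -70, 84, -80, -3]) (.leaf [155024, -45105, 449967, 220451, -274250, -9603, -27182, -161261, 20263, 15293, -638, 417, -678, -14, 5]))))) (.node (.node (.node (.node (.leaf []) (.leaf [370619102, -31356533, 882368713, 382495509, -500240356, -7117692, -81071952, -259860653, 12094282, 18150079, -1310118, -587590, -104827, -1931, 17582, 647, 15])) (.node (.leaf [-118, 21, -313, -143, 190, 0, 25, 97, -6, -9]) (.leaf [656455842, -77275815, 1537668033, 642952319, -842878457, -8403399, -156555321, -435737440, 40096605, 12158776, -1254638, -1875260, -528846, -113187, 58299, -763, 35]))) (.node (.node (.leaf [518, 29, 1177, 515, -681, -9, -93, -342, -23, 35, -5])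 (.leaf [-73418434, 47047477, -258135870, -135608811, 161643745, 8646606, 12619053, 105275305, -22173236, -10735596, 201531, -884893, 732820, 15612, 10923, 45, -3])) (.node (.leaf []) (.leaf [-15847639, 1049885, -34257728, -13305385, 17816681, 75816, 4152288, 8685864, -644342, -8719, 34409, 53666, -2080, 2718, -1175, -16, -1])))) (.node (.node (.node (.leaf [-3, -1, -5, -2, 3, 1, 0, 1]) (.leaf [-21881819, 13044281, -87131037, -49730057, 59667427, 2912814, 933263, 38289648, -5325195, -5330474, 155054, -258389, 228109, -1787, 1157, 10, 5])) (.node (.leaf [40557, -4600, 96838, 41486, -54483, -564, -9440, -28148, 1806, 1766, -98, -7, -2, 0, -1]) (.leaf [26162044, -3068241, 62619364, 26931730, -35061266, -564639, -5982161, -18420416, 1424763, 1040227, -86454, -30705, -24617, -1960, 1011, 39, 1]))) (.node (.node (.leaf [-218, 6, -571, -275, 357, -3, 21, 194, 4, -12, 1]) (.leaf [329118262, -83091091, 898352864, 421031944, -530500929, -14606726, -66330377, -303152510, 38237385, 23195210, -912283, 456300, -1073606, -40227,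 6820, -236, 5])) (.node (.leaf []) (.leaf [122098901, -8178836, 290945676, 126749309, -166353687, -1966756, -25720453, -85644956, 2773163, 6076719, -459312, -281197, -13427, -917, 8393, 206, 1])))))) (.node (.node (.node (.node (.node (.leaf []) (.leaf [1819, -94, 4017, 1619, -2154, -19, -446, -1069, 47, 38, -7, -3, 1])) (.node (.leaf [4769281, -208431, 10140049, 3908866, -5279020, 2879, -1250633, -2525304, 108873, 26995, -4957, -17582, 5452, -458, 218, 0, 1]) (.leaf [150643, -44747, 440240, 216519, -269071, -9545, -26073, -158618, 20086, 15192, -627, 425, -679, -14, 5]))) (.node (.node (.leaf [6, 0, 11, 4, -4, 0, -2, -3]) (.leaf [15826, -4960, 47983, 24141, -30099, -894, -2492, -17708, 1990, 1918, -56, 66, -64, -2])) (.node (.leaf []) (.leaf [-340670, -13894, -1026505, -573324, 730822, 22315, 13521, 407323, 48095, -105929, 4632, -3617, -963, -513, 128, -5])))) (.node (.node (.node (.leaf [-103352361, 27350877, -295327667, -143387719, 179815594, 5235408, 18174110, 103935518, -11985312, -9392657, 364804, -165530,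 382928, 8996, -2306, 129, 3]) (.leaf [34190, -5927, 83391, 36203, -46549, -738, -8080, -25435, 2647, 1457, -24, 0, -36, -4, -1])) (.node (.leaf []) (.leaf [-3187, 268, -7085, -2875, 3776, 39, 796, 1948, -127, -74, 6, 5, -1]))) (.node (.node (.leaf [524716, -105820, 1415758, 669747, -848437, -22630, -100386, -478737, 41574, 48110, -1882, 1046, -1117, 16, -10, 1]) (.leaf [])) (.node (.leaf [13324643, -2226678, 33292146, 14711591, -18937086, -336554, -2948443, -10267131, 1045890, 573504, -24322, -17537, -19484, -2076, 580, -11, 1]) (.leaf [1450, -126, 3075, 1184, -1563, -8, -393, -799, 64, 8, 0, -2, 1]))))) (.node (.node (.node (.node (.leaf []) (.leaf [-68, 8, -166, -71, 93, 1, 15, 48, -3, -3, 0, 0, 0, 1])) (.node (.leaf [-18510, 12985, -74854, -42854, 50473, 3337, 1532, 33541, -5547, -5233, 205, -334, 271, -10, -4]) (.leaf [54977833, -11391215, 145623706, 67205538, -85458029, -2016923, -11150829, -47729096, 5170292, 3514282, -167550, 12105, -140786, -5487, 2494, -41, 1]))) (.node (.node (.leaf []) (.leaf [1612908,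 -361454, 4350268, 2037482, -2571679, -71022, -316461, -1461294, 164689, 115957, -4960, 794, -4659, -201, 67, -1])) (.node (.leaf []) (.leaf [1, 0, 0, 1, 0, 0, 0, -1])))) (.node (.node (.node (.leaf []) (.leaf [343300, -76914, 933060, 439456, -555805, -14802, -66909, -314536, 33471, 27358, -1262, 472, -990, -14, -7])) (.node (.leaf []) (.leaf [-46863, 10613, -134645, -66100, 83605, 2268, 7763, 47381, -3955, -5323, 328, -233, 159, -12, 2]))) (.node (.node (.leaf []) (.leaf [-41426, 9014, -110787, -51776, 65562, 1559, 8210, 37179, -3714, -3183, 60, -86, 88, -1, 1])) (.node (.leaf [2360, -84, 5310, 2195, -2918, -25, -532, -1451, 37, 59, -8, -5, 1]) (.leaf [1701778, -418814, 5023765, 2534033, -3168172, -105743, -258303, -1845827, 145534, 240597, -9351, 8645, -5384, 371, -159, 7])))))))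

def twoL244 : Janko.Tree (List ℤ) :=
  (.node (.node (.node (.node (.node (.node (.leaf []) (.leaf [1])) (.node (.leaf [-180, 54, -420, -175, 204, 26, 59, 131, -36, -13, 2, 0, 1]) (.leaf [26476908, -4663716, 71606489, 34065567, -43322067, -1087669, -4744565, -24178470, 1779028, 2433960, -121801, 29472, -56812, 1034, 395, 49]))) (.node (.node (.leaf [1]) (.leaf [1])) (.node (.leaf [1]) (.leaf [1])))) (.node (.node (.node (.leaf []) (.leaf [11638629, -3644579, 35693380, 18106711, -22499019, -721859, -1684553, -13308515, 1528276, 1384235, -38341, 26857, -52584, -642, 623, -43, 1])) (.node (.leaf []) (.leaf [10381, -4773, 36764, 19868, -24265, -1131, -1087, -14868, 2034, 1900, -74, 82, -80, -3]))) (.node (.node (.leaf []) (.leaf [1993683, -452305, 5274669, 2410959, -3059966, -73653, -418585, -1715609, 220957, 101542, -5456, -304, -6249, -370, 137, -3])) (.node (.leaf [343464, -115624, 665138, 172235, -230329, 4804, -137323, -111104, 95323, -74510, 2606, -4529, -1831, -559, 184, -7]) (.leaf [1]))))) (.node (.node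 (.node (.node (.leaf [1]) (.leaf [-9551051, 1473808, -25209240, -11827042, 15114247, 343861, 1770985, 8339073, -539206, -821871, 38977, -5152, 14925, -437, 30, -21])) (.node (.leaf [1]) (.leaf [-359051, 93789, -983116, -461880, 580909, 15959, 72635, 333958, -42454, -26274, 812, -666, 1135, 36, 3]))) (.node (.node (.leaf [-8, 1, -13, -4, 4, 0, 2, 4, -1, 1]) (.leaf [20426, -5680, 59507, 29181, -36712, -960, -3537, -21132, 2308, 2097, -64, 62, -69, 1])) (.node (.leaf [-76837626, 12364280, -184941295, -77943033, 101432147, 1017558, 18254182, 53451455, -6935710, -405948, 99220, 287516, 143594, 23597, -10904, 271, 1]) (.leaf [5106859, -1684005, 15256824, 7616331, -9408734, -364876, -890556, -5636006, 713156, 632474, -21293, 28300, -22827, 231, -549, 7])))) (.node (.node (.node (.leaf []) (.leaf [-1220, 186, -2875, -1247, 1578, 40, 293, 894, -78, -73, 1, 0, 1])) (.node (.leaf []) (.leaf [-1375165, 428008, -4209587, -2143294, 2648545, 105838, 205660, 1581236, -178182, -187717, 9372, -7822, 7181, -132, -22, -3]))) (.node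 (.node (.leaf [-118, 19, -297, -134, 172, 0, 23, 96, -7, -5]) (.leaf [1])) (.node (.leaf []) (.leaf [-15507520, 930768, -32968166, -12553237, 16912299, 17701, 4153681, 8117325, -603342, 95044, 27483, 57877, -5416, 2870, -1060, -12, -1])))))) (.node (.node (.node (.node (.node (.leaf []) (.leaf [])) (.node (.leaf [866531488, -246886234, 2441532042, 1167268642, -1460447525, -44995692, -168137680, -849030149, 112279213, 71541609, -2619756, 2181499, -3339670, -92610, -821, -289, 5]) (.leaf [-25976, 6097, -71617, -33996, 43069, 1022, 4966, 24358, -2522, -2191, 74, -50, 68, -1]))) (.node (.node (.leaf [1]) (.leaf [11348, -2187, 30956, 14699, -18761, -393, -2088, -10409, 829, 1015, -53, 17, -21, -1])) (.node (.leaf [-710725801, 175220867, -1951290099, -921864596, 1161361721, 32433460, 139378856, 664034456, -77891690, -55965196, 2195280, -1257088, 2225932, 53830, -4038, 20, -11]) (.leaf [43304436, 1209681, 92558345, 36642837, -50168588, 432818, -9899781, -23056064, -635895, 364868, -124204, -282252, 63570, -3509, 6903,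 -41])))) (.node (.node (.node (.leaf [-604557, 216616, -1661110, -761317, 949675, 25160, 143805, 560301, -104654, -29496, -586, -2132, 2355, 93, 54, 1]) (.leaf [1])) (.node (.leaf [-92744117, 7476186, -218617675, -93735250, 122994779, 1570638, 20672750, 63321213, -3065048, -3945682, 318278, 189236, 22071, 2868, -4020, -102, -3]) (.leaf [-13466853, 2716007, -28947831, -10156838, 13560654, -95584, 4179534, 6667895, -2011624, 1219024, -24734, 101285, 36966, 10107, -3195, 123]))) (.node (.node (.leaf [17287, -4098, 45420, 20853, -26353, -610, -3772, -15027, 1760, 1200, -8, 22, -40, 1]) (.leaf [-54, 7, -145, -67, 90, 0, 11, 44, -1, -5])) (.node (.leaf [-875774998, 230816137, -2475616457, -1195016551, 1497848637, 45739402, 161204451, 866923674, -99692230, -81928488, 3107366, -2261014, 3053923, 39270, 5554, -317, -9]) (.leaf [1]))))) (.node (.node (.node (.node (.leaf []) (.leaf [-73, 9, -186, -82, 110, 0, 17, 54, -2, -5])) (.node (.leaf [1]) (.leaf [95549, -37044, 233796, 92901, -116462, -1729, -29203, -67938, 22196,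 -5863, 794, -498, -343, -90, -2, -1]))) (.node (.node (.leaf []) (.leaf [-47082756, -8666132, -81152797, -25012033, 38375588, -1999472, 12364368, 12268562, 3784816, 2039906, 111626, 526844, -197427, 6135, -11734, 22, -1])) (.node (.leaf []) (.leaf [1])))) (.node (.node (.node (.leaf []) (.leaf [])) (.node (.leaf [515, -54, 1216, 517, -682, -3, -120, -349, 21, 19, -2]) (.leaf [-4389441, 975717, -11955350, -5661551, 7142010, 208863, 846108, 4065229, -414208, -384330, 17570, -9663, 12230, 21, 65, -7]))) (.node (.node (.leaf []) (.leaf [115471519, -16737860, 306920747, 145162794, -185533028, -4332621, -20486394, -102223538, 5878578, 10486711, -541339, 43214, -185253, 5822, 3942, 232, 1])) (.node (.leaf [-9, 44, -380, -300, 365, 14, -62, 228, -4, -51, 2, -2, 1]) (.leaf [103644165, -18590452, 283700999, 135865263, -172898615, -3897452, -17715099, -96448453, 7156758, 9231399, -419222, 2044, -232748, 555, 5065, -32, -5])))))))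

def twoL245 : Janko.Tree (List ℤ) :=
  (.node (.node (.node (.node (.node (.node (.leaf [0, 1]) (.leaf [-28166, 3842, -69415, -30727, 39573, 932, 6271, 21305, -1684, -1707, 121, 12, 34, 2, 1])) (.node (.leaf [183, -10, 439, 188, -252, 0, -40, -123, 3, 7, -1]) (.leaf [828506, -700281, 3019294, 1538808, -1807423, -102411, -177530, -1213443, 375673, 48154, 623, 6964, -12164, -741, 98, -13]))) (.node (.node (.leaf [-2, 3, -12, -4, 8, -1, 2, 1, -1]) (.leaf [-24031, 7505, -58521, -24694, 29788, 1580, 6455, 18533, -4843, 213, -18, 167, 96, 26, -3])) (.node (.leaf [-30, -34, -31, -12, 16, 3, -5, 6, 15, 0, 1]) (.leaf [-3530, 1525, -13243, -7394, 9122, 356, 197, 5474, -559, -805, 40, -32, 26])))) (.node (.node (.node (.leaf []) (.leaf [0, 1])) (.node (.leaf [203987813, -43289315, 545389091, 253963307, -322089538, -8154321, -40675890, -181075305, 19114082, 14690480, -661880, 183765, -528359, -13877, 4780, 18, 3]) (.leaf []))) (.node (.node (.leaf [-113, 25, -282, -117, 160, -2, 34, 75, -9, -5]) (.leaf [0, 1])) (.node (.leaf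 [0, 1]) (.leaf [3980740, -800547, 9994629, 4365710, -5601015, -107722, -923893, -3056970, 416363, 111480, -8735, -4409, -10091, -926, 224, -5]))))) (.node (.node (.node (.node (.leaf []) (.leaf [379, 38, 557, 158, -168, -70, -135, -109, 9, 30, -7, 0, -1])) (.node (.leaf [4, -2, 11, 4, -6, 0, -2, -2, 1]) (.leaf [0, 1]))) (.node (.node (.leaf []) (.leaf [-133756095, 33146984, -373055762, -178392044, 224478415, 6297751, 24828503, 128662716, -14627504, -11162874, 450364, -182641, 442827, 11220, -2620, 113, 1])) (.node (.leaf [1891, -202, 4113, 1625, -2129, -17, -509, -1110, 98, 31, 0, -4, 1]) (.leaf [409919, -110821, 1127531, 530172, -666123, -18601, -83219, -383920, 50586, 29650, -865, 851, -1365, -51, -3])))) (.node (.node (.node (.leaf [0, 1]) (.leaf [0, 1])) (.node (.leaf [40160, -4676, 95890, 41042, -53885, -563, -9411, -27861, 1851, 1744, -94, -7, -2, 0, -1]) (.leaf [-5643078, 1698698, -16268756, -7912166, 9868755, 298401, 1035971, 5794523, -740398, -529380, 11829, -16001, 21410, 524, 5, 1]))) (.node (.node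 (.leaf []) (.leaf [-4351059, 837754, -11412694, -5269766, 6699514, 170329, 888866, 3743084, -357373, -322165, 14456, -4640, 8968, 102, 118, -7])) (.node (.leaf [-1564, 131, -3311, -1279, 1685, 8, 420, 867, -67, -10, 0, 3, -1]) (.leaf [0, 1])))))) (.node (.node (.node (.node (.node (.leaf []) (.leaf [5920472, -680924, 13535347, 5528833, -7269987, -71029, -1487443, -3729260, 360000, 80668, -7438, -16098, -2535, -996, 450, -8, 1])) (.node (.leaf [406812, -110369, 1124892, 531925, -667155, -19522, -81497, -385821, 50058, 31508, -990, 821, -1395, -44]) (.leaf [422056, -86100, 1155558, 553473, -700543, -18712, -77462, -396477, 31964, 42724, -1498, 1028, -865, 33, -18, 1]))) (.node (.node (.leaf []) (.leaf [0, 1])) (.node (.leaf [0, 1]) (.leaf [-6106, -1027, -12718, -5372, 7275, 92, 1157, 3368, 620, -497, 62, 43, -21, 0, 2])))) (.node (.node (.node (.leaf []) (.leaf [-76834828, 49220429, -306789915, -174553297, 208537720, 10854711, 4741220, 135145999, -20331910, -19121052, 524263, -1095144, 825101, -9747, 13216, -49,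 11])) (.node (.leaf [0, 1, 0, 0, 1, -1]) (.leaf [0, 1]))) (.node (.node (.leaf []) (.leaf [0, 1])) (.node (.leaf [-34333845, 5612282, -89871338, -41671769, 53264250, 1199331, 6646803, 29355693, -2273301, -2577725, 126712, 569, 60894, 492, -1361, -19, -1]) (.leaf [-17484826, 2661837, -47441536, -22827940, 29084159, 706050, 2932070, 16165859, -859118, -1813723, 83316, -15263, 28686, -1867, -342, -35]))))) (.node (.node (.node (.node (.leaf []) (.leaf [-4384274, 979271, -11953952, -5664660, 7144162, 209339, 843645, 4069003, -415883, -384888, 17412, -9592, 12276, 34, 68, -7])) (.node (.leaf [-18903, 5296, -52943, -25283, 31546, 1092, 3737, 18393, -2459, -1628, 74, -34, 76, 1, 1]) (.leaf [157304, -47264, 430904, 200230, -250569, -7342, -34122, -145821, 22665, 9642, -222, 339, -598, -28, -1]))) (.node (.node (.leaf []) (.leaf [-5318352, 1215839, -14774017, -7101397, 8934242, 272364, 969043, 5116742, -508862, -509342, 23896, -12588, 16367, -36, -56, -7])) (.node (.leaf [0, 1]) (.leaf [-43073, 13890, -118182, -54424,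 68124, 1949, 9624, 39683, -6843, -2096, 12, -130, 179, 10, 1])))) (.node (.node (.node (.leaf [0, 1]) (.leaf [0, 1])) (.node (.leaf [-8270, 2422, -20388, -8547, 10858, 231, 2361, 6096, -1261, -138, -12, 4, 26, 2, -1]) (.leaf [-6637, 698, -15780, -6734, 8884, 45, 1528, 4549, -266, -250, 14, 7, -3, 0, 1]))) (.node (.node (.leaf [0, 1]) (.leaf [0, 1])) (.node (.leaf [30, -14, 90, 45, -53, -2, -5, -36, 6, 2, 1]) (.leaf [87668683, -18576103, 237448932, 111609466, -141576896, -3458817, -16704018, -79554757, 8164664, 6464668, -295552, 31503, -237577, -7277, 3344, -89, 1])))))))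

def twoL246 : Janko.Tree (List ℤ) :=
  (.node (.node (.node (.node (.node (.node (.leaf []) (.leaf [-1895724, 427911, -5001175, -2279716, 2895005, 68936, 400382, 1620696, -210587, -92671, 5156, 504, 5949, 366, -137, 3])) (.node (.leaf [0, 0, 1]) (.leaf [0, 0, 1]))) (.node (.node (.leaf [-27774, 5963, -74200, -34566, 43850, 1086, 5612, 24677, -2532, -2126, 82, -44, 65]) (.leaf [13590924, -2377169, 37979361, 18609983, -23581988, -633336, -2151357, -13282347, 783606, 1567634, -72156, 24526, -29210, 1718, 48, 33])) (.node (.leaf []) (.leaf [-7181, 1804, -20970, -10362, 13023, 409, 1168, 7471, -741, -800, 45, -23, 25, 1])))) (.node (.node (.node (.leaf [0, 0, 1]) (.leaf [195514493, -56439887, 564798554, 275426243, -343955957, -10713180, -34886124, -200915415, 24819805, 18597425, -646800, 493633, -781990, -14852, 2271, -187, 1])) (.node (.leaf [-864406578, 241323801, -2394207033, -1130104991, 1416046617, 43493648, 175874534, 820046143, -111448508, -65814896, 2548188, -2213016, 3209778, 92359, 7158, 34, -9]) (.leaf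 [1711346, -470910, 4773062, 2264045, -2838648, -85487, -336176, -1640322, 219560, 128425, -5552, 3274, -6687, -235, 48, -1]))) (.node (.node (.leaf [0, 0, 1]) (.leaf [14058674, -3370789, 40700544, 20139652, -25274263, -760142, -2230089, -14575574, 1338309, 1571151, -64610, 29566, -47105, 270, 177, 1])) (.node (.leaf []) (.leaf [2091, -135, 4780, 1980, -2638, -12, -491, -1311, 55, 57, -7, -3, 1]))))) (.node (.node (.node (.node (.leaf [-3044, 171, -6894, -2843, 3778, 32, 717, 1881, -78, -82, 12, 6, -1]) (.leaf [94017394, -27630981, 282173395, 141817229, -176497909, -5806035, -14539011, -103959733, 11338331, 11311125, -397405, 320480, -395627, 707, -638, -15, -3])) (.node (.leaf [114559, -6750, 295870, 141197, -182193, -4403, -19138, -97951, -1122, 14374, -769, 284, 23, 44, -16, 1]) (.leaf [6200321, 376983, 11717742, 3986343, -5665189, 80086, -1716845, -2312655, -110838, -133649, -20427, -37586, 12823, -644, 724, 11]))) (.node (.node (.leaf [0, 0, 1]) (.leaf [8, -3, 41, 22, -31, 0, -1, -13, 0, 3])) (.node (.leaf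 []) (.leaf [47652, -9236, 120966, 54276, -69209, -1501, -10604, -38502, 4068, 2776, -79, 33, -81, -2, -1])))) (.node (.node (.node (.leaf []) (.leaf [2885872, -760684, 7890333, 3686858, -4632767, -134852, -585953, -2660584, 368610, 180714, -8467, 2564, -10895, -524, 154, -5])) (.node (.leaf [0, 0, 1]) (.leaf [0, 0, 1]))) (.node (.node (.leaf [0, 0, 1]) (.leaf [-5689871, 1349070, -15640704, -7410439, 9334651, 270845, 1087486, 5328611, -607604, -451309, 22151, -8124, 19027, 454, -240, 1])) (.node (.leaf [10, -3, 45, 24, -33, 0, -1, -15, 0, 3]) (.leaf [-15525, 3941, -41369, -19141, 24148, 519, 3336, 13861, -1675, -1094, -5, -21, 36, 1])))))) (.node (.node (.node (.node (.node (.leaf [0, 0, 1]) (.leaf [0, 0, 1])) (.node (.leaf [-25976, 6098, -71618, -33998, 43073, 1022, 4966, 24358, -2522, -2192, 74, -50, 68, -1]) (.leaf [104240856, -27595019, 292650427, 140092837, -175877918, -5032016, -19561112, -101427316, 12347894, 8583804, -316340, 172982, -370814, -10869, 2534, -94, -1]))) (.node (.node (.leaf [-153, -10, -351,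 -158, 206, 3, 25, 108, 9, -13, 1]) (.leaf [-213, 131, -43, 170, -221, -49, 173, -87, -59, 69, -21, 5, -1, -1])) (.node (.leaf []) (.leaf [10118787, -2943626, 27482517, 12620719, -15916612, -344477, -2195641, -9111784, 1446147, 439378, -2874, -1296, -36215, -2320, 521, -56])))) (.node (.node (.node (.leaf []) (.leaf [-478, 4, -1182, -522, 714, -10, 83, 335, 10, -17, 2, 0, -1])) (.node (.leaf [0, 0, 1]) (.leaf [5618, -685, 12083, 4570, -6065, -1, -1528, -3081, 407, -154, 18, -6, 4, 0, -1]))) (.node (.node (.leaf []) (.leaf [-1123, 106, -2347, -885, 1175, 3, 319, 593, -52, -3, -2, 2, -1])) (.node (.leaf []) (.leaf [-982267310, 272686411, -2761604522, -1320077859, 1653514242, 50122068, 189136006, 958534720, -123448266, -81171008, 3061948, -2274236, 3692305, 100833, -4514, 363, -3]))))) (.node (.node (.node (.node (.leaf [0, 0, 1]) (.leaf [0, 0, 1])) (.node (.leaf [-16737, 5033, -47707, -23084, 28708, 914, 3181, 16962, -2214, -1566, 36, -46, 67, 2]) (.leaf [8061498, -1383351, 23673906, 12102282, -15238268, -472775,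 -1004197, -8708216, 352289, 1236664, -56724, 23842, -19079, 2026, -154, 35]))) (.node (.node (.leaf [204, -70, 55, -183, 228, -16, -162, 144, 78, -85, 8, 0, -1, -1]) (.leaf [-27463839, 8016956, -87471608, -46397701, 57203081, 2377902, 3160287, 34411339, -2606835, -5258712, 186482, -205842, 109458, -8142, 3470, -153, -1])) (.node (.leaf [436342, 25086, 1067421, 499867, -664380, -7597, -69093, -331350, -33591, 54971, -3536, 488, 924, 202, -56, 5]) (.leaf [-58500, 15266, -153599, -69231, 87640, 2034, 13321, 49713, -7343, -2659, 46, -108, 168, 8, 1])))) (.node (.node (.node (.leaf []) (.leaf [-15852030, -5182843, -5682502, 10064261, -8753935, -1939852, 8366488, -10513494, 1136070, 4621465, -103108, 291240, -138127, 11776, -4545, 50, -7])) (.node (.leaf [-149974, 44684, -438542, -215761, 268050, 9561, 25941, 158116, -20078, -15159, 626, -426, 680, 14, -5]) (.leaf [1897, -3636, 14573, 9672, -11048, -777, 595, -7909, 1542, 1259, -11, 81, -72, -3, 1]))) (.node (.node (.leaf [5604740, -611375, 12679764, 5125578, -6760045,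 -57400, -1425919, -3440377, 330502, 54577, -6481, -16514, -1738, -1000, 465, -8, 1]) (.leaf [14663562, -15805339, 78590418, 48737370, -57102305, -3123795, 1440771, -38799698, 6534701, 5675573, -62320, 290216, -268417, 208, -1528, -158, -1])) (.node (.leaf [0, 0, 1]) (.leaf [495690, 1575794, -2170204, -1894680, 1827264, 305925, -261295, 1811408, -801895, -242768, 2314, -35806, 31031, 941, 390, 12])))))))

def twoL247 : Janko.Tree (List ℤ) :=
  (.node (.node (.node (.node (.node (.node (.leaf []) (.leaf [-50, -20, 205, 210, -258, -14, 68, -154, -4, 47, -4, 2, -1])) (.node (.leaf [-122170973, 16085195, -304721013, -135858403, 175698811, 2910111, 25506911, 94013061, -7048661, -6203761, 377854, 207618, 151412, 10204, -8297, 16, -1]) (.leaf [85128985, -14072475, 227146357, 107044977, -136550629, -3173409, -15532954, -75641583, 5440962, 7179324, -355428, 26424, -163705, 737, 3128, 93]))) (.node (.node (.leaf []) (.leaf [1209007, -50197, 2480898, 906282, -1237700, 1435, -340014, -571239, 37594, -14254, -3028, -3542,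 735, -138, 116, 1])) (.node (.leaf []) (.leaf [6870, -2942, 22720, 11896, -14587, -512, -913, -8944, 1219, 992, -10, 43, -42, -1])))) (.node (.node (.node (.leaf []) (.leaf [-119389117, 62904843, -451127981, -254338318, 306111235, 15376464, 8228513, 195009793, -24080794, -29802422, 890799, -1578873, 1008472, -32565, 25437, -511, 17])) (.node (.leaf []) (.leaf [-3625, 310, -8126, -3312, 4366, 41, 907, 2231, -139, -97, 8, 4, -1]))) (.node (.node (.leaf [-1, -1, -1, 0, 0, 1]) (.leaf [-617427, 169357, -1579182, -691321, 870723, 24839, 152975, 497012, -90684, -15906, 637, -124, 2085, 224, -17, 1])) (.node (.leaf [363, -29, 944, 430, -584, 17, -61, -285, -2, 15, 0, 0, 1]) (.leaf [-21137461, 7968866, -71309507, -38313634, 46935647, 1916441, 2123266, 28674020, -3100591, -3812892, 136159, -137983, 130582, -2204, 928, -25, 3]))))) (.node (.node (.node (.node (.leaf []) (.leaf [1, 1, 1, 0, 1, -1])) (.node (.leaf []) (.leaf [-12434116, 156358, -24208977, -8290039, 11562604, -144689, 3618583, 5032335, -274308, 396588, 14543,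 64802, -16319, 2741, -1000, -11, -1]))) (.node (.node (.leaf []) (.leaf [-125807542, 32465763, -355658656, -171555068, 215395322, 6229939, 22740439, 124137405, -14236152, -11125724, 441052, -209938, 443886, 9806, -1948, 105, 3])) (.node (.leaf []) (.leaf [1878, -175, 4556, 1986, -2633, 6, -404, -1339, 46, 88, -5, -1, 1])))) (.node (.node (.node (.leaf []) (.leaf [-16060708, 14122553, -64546209, -35651115, 41616254, 2673123, 2438025, 28425092, -6537361, -3394089, 50093, -329929, 221766, 1932, 5534, -27])) (.node (.leaf []) (.leaf [22715, -1989, 51305, 20999, -27708, -231, -5576, -14132, 917, 513, -34, -32, 8, 1, -2]))) (.node (.node (.leaf []) (.leaf [714263143, -139311268, 1904044311, 887272248, -1128941421, -26505001, -138628332, -629449238, 60713956, 50826352, -2462345, 79824, -1734044, -46319, 30716, -346, 5])) (.node (.leaf []) (.leaf [-2884913, 760626, -7888335, -3686117, 4631753, 134871, 585691, 2660106, -368583, -180730, 8470, -2567, 10897, 524, -154, 5])))))) (.node (.node (.node (.node (.node (.leaf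 []) (.leaf [133870245, -27322040, 354071958, 163708909, -207958602, -5223832, -27201264, -116404546, 12117709, 9295702, -447005, 116243, -329228, -9066, 2704, 95, 1])) (.node (.leaf []) (.leaf [64, -7, 162, 73, -97, 0, -12, -49, 2, 3]))) (.node (.node (.leaf []) (.leaf [-5171, 1850, -15919, -8041, 9929, 375, 852, 5956, -795, -646, 17, -25, 27, -1])) (.node (.leaf []) (.leaf [-23996948, 5805633, -79396575, -43165341, 53698690, 1824751, 1511817, 31617617, -1611237, -4725133, 203482, -95874, 102779, -6235, -361, -55, 5])))) (.node (.node (.node (.leaf [-5, 0, -6, -1, 1, 0, 2, 1]) (.leaf [-956, 65, -2026, -791, 1028, 43, 265, 529, -43, -33, 4, 1, 1])) (.node (.leaf [-40903054, 8465997, -103516933, -45852182, 58468161, 1489270, 9526620, 32377826, -4097282, -1996463, 113018, -42836, 93675, 5559, 884, -45, -3]) (.leaf [2633546, -579754, 7461696, 3651864, -4604585, -127623, -439101, -2629359, 217231, 289371, -11194, 6544, -7111, 213, -24, 3]))) (.node (.node (.leaf [1576070, -339560, 4246948, 1988266, -2516939, -65970,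 -307148, -1419508, 153544, 113215, -5426, 222, -4504, -174, 70, -1]) (.leaf [-8259, 4523, -31429, -17471, 21137, 1084, 644, 13228, -1952, -1753, 66, -80, 79, 3])) (.node (.leaf [-4341, 317, -9706, -3967, 5213, 75, 1065, 2670, -158, -120, 16, 6]) (.leaf [8652, -2210, 23851, 11298, -14233, -373, -1709, -8158, 952, 710, -18, 15, -25, 1]))))) (.node (.node (.node (.node (.leaf []) (.leaf [])) (.node (.leaf []) (.leaf [452, -77, 1117, 489, -639, -1, -108, -337, 28, 24, -1]))) (.node (.node (.leaf [-3469, 278, -7756, -3160, 4167, 36, 860, 2128, -124, -89, 8, 4, -1]) (.leaf [832408, -1148155, 4067022, 2381906, -2665516, -244234, -122330, -1987778, 536850, 280306, -3310, 32106, -18236, -134, -491, 9])) (.node (.leaf [-1132107, 1179871, -6301680, -4008922, 4690095, 301563, -151670, 3183865, -441070, -585615, 20614, -39314, 22376, -929, 682, -20, 1]) (.leaf [])))) (.node (.node (.node (.leaf []) (.leaf [22446582, -3477973, 58142148, 26811218, -34299488, -809234, -4434818, -18848997, 1383867, 1714399, -91922, 12349, -36084,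 186, 129, 47])) (.node (.leaf []) (.leaf [-1883, 176, -4571, -1993, 2643, -6, 405, 1344, -46, -89, 5, 1, -1]))) (.node (.node (.leaf []) (.leaf [1008878, -1826963, 10520931, 7640613, -8916819, -520570, 1014609, -6101570, 548549, 1252458, -30810, 48548, -37580, 1851, 48, -13, -1])) (.node (.leaf [6758560, -1814196, 21511030, 11315365, -14084716, -437697, -666363, -8293645, 650956, 1029070, -42060, 17156, -30746, 365, 730, 6, -1]) (.leaf [59785099, -13514874, 163009976, 76858879, -97261368, -2425643, -11466042, -55031964, 5911974, 4540348, -176784, 46998, -166974, -4592, 1411, -55])))))))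

def twoL248 : Janko.Tree (List ℤ) :=
  (.node (.node (.node (.node (.node (.node (.leaf []) (.leaf [-4133, 1383, -14584, -7972, 9950, 330, 277, 5811, -471, -831, 49, -31, 25, -1])) (.node (.leaf [1]) (.leaf [-4541, 422, -10070, -4046, 5344, 18, 1155, 2735, -190, -73, 2, 6, -3]))) (.node (.node (.leaf [-27474, 5914, -73510, -34283, 43484, 1078, 5531, 24481, -2508, -2117, 82, -44, 65]) (.leaf [])) (.node (.leaf [1]) (.leaf [-7057, 1787, -20584, -10166, 12757, 423, 1162, 7337, -745, -793, 47, -23, 25, 1])))) (.node (.node (.node (.leaf []) (.leaf [])) (.node (.leaf [1]) (.leaf [1]))) (.node (.node (.leaf []) (.leaf [1886556077, -299296221, 4752562728, 2121635470, -2729736416, -51213562, -402617889, -1479855396, 138168547, 92086591, -5377878, -2118962, -3166343, -221016, 123208, -330, 35])) (.node (.leaf []) (.leaf [-139725, 480945, -2005016, -1508772, 1702984, 142060, -166449, 1255137, -141947, -315892, 5442, -21171, 7098, -821, 575, -9]))))) (.node (.node (.node (.node (.leaf [100, 26, 350, 196, -270, 12, 25,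 -127, -18, 1, 0, -2, 1]) (.leaf [790146, -95246, 2101432, 1007609, -1292583, -26401, -134239, -709157, 17588, 90252, -3031, 1302, -189, 190, -68, 3])) (.node (.leaf [-62, 7, -154, -68, 90, 0, 13, 46, -2, -3]) (.leaf [85250723, -12441707, 216388327, 97544544, -125821996, -2122023, -17416794, -67824348, 5427895, 4593840, -264914, -119250, -128425, -7006, 5449, -43, -1]))) (.node (.node (.leaf []) (.leaf [74001277, -14048017, 198264445, 92564722, -118049324, -2446510, -13825823, -65457856, 6290772, 4747001, -243336, -86505, -187783, -9708, 6792, -134, -3])) (.node (.leaf [1]) (.leaf [4158, -1745, 12986, 6555, -8099, -223, -737, -4904, 712, 504, 14, 17, -21, 1])))) (.node (.node (.node (.leaf [-17113551, 3029593, -45560272, -21344604, 27200933, 636544, 3218904, 15105079, -1242480, -1339071, 64610, -2728, 35425, 573, -644, -7]) (.leaf [6531, -527, 15025, 6282, -8271, -88, -1529, -4235, 228, 209, -19, -6, 1])) (.node (.leaf [100414, -24684, 278912, 133277, -167865, -4568, -18962, -96157, 10429, 8888, -300, 201, -294,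 -4, -1]) (.leaf [-42190938, 13979258, -122126393, -59029274, 73265440, 2494089, 8141903, 43416502, -6535900, -3557563, 107662, -127448, 197214, 6741, -850, 75, -1]))) (.node (.node (.leaf [1843, -130, 4475, 1963, -2596, -6, -365, -1322, 40, 71, -4, -4, 1]) (.leaf [3361755, -981928, 9578620, 4597884, -5735121, -196419, -635005, -3345387, 473440, 264159, -16165, 7770, -16495, -538, 298, -3])) (.node (.leaf [-307232046, 72649741, -819166000, -377416284, 477548316, 12351106, 64560719, 270040444, -34071823, -18802674, 799152, -272232, 906354, 41810, -7468, 222, -7]) (.leaf [841415669, -115705345, 2039007480, 880777772, -1142491631, -17685032, -191321914, -606519077, 56519203, 28576101, -2111803, -1539241, -1051498, -120364, 64772, -117, 29])))))) (.node (.node (.node (.node (.node (.leaf []) (.leaf [-26007038, 5627019, -70543484, -33258697, 42083411, 1123899, 5006393, 23790277, -2413570, -2111534, 97105, -38528, 71063, 912, -218, -25])) (.node (.leaf [1]) (.leaf [1]))) (.node (.node (.leaf []) (.leaf [-6909, 1794,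 -19681, -9559, 12025, 320, 1234, 6919, -730, -681, 20, -18, 23, -1])) (.node (.leaf [-27797228, 1246495, -56170596, -20043367, 27464065, -163284, 7955125, 12582518, -1029256, 695501, 26932, 126320, -22004, 6365, -2346, -5, -3]) (.leaf [2000758, -933950, 6839036, 3660312, -4439421, -200389, -254569, -2782615, 379775, 367235, -8492, 19340, -13357, 261, -394, 3])))) (.node (.node (.node (.leaf [1]) (.leaf [79, -1, 188, 97, -107, -22, -16, -74, 2, 24, -2, 0, -1])) (.node (.leaf [-5716312, 1514544, -16253486, -7871554, 9860387, 304470, 1029914, 5711114, -663146, -531645, 22218, -13302, 21358, 340, -134, 1]) (.leaf [1]))) (.node (.node (.leaf [1]) (.leaf [2440076, -586400, 6875629, 3325793, -4180229, -125632, -431224, -2399896, 250392, 230478, -10390, 4829, -8245, -103, 68, 1])) (.node (.leaf [1]) (.leaf [198438331, -12519606, 467774656, 201614680, -265275193, -2949972, -42676886, -135599015, 4580641, 8771114, -718324, -527471, -646, -7723, 14582, 247, 7]))))) (.node (.node (.node (.node (.leaf []) (.leaf [899, -8,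 2063, 876, -1163, 6, -166, -586, 6, 5, -4, -4, 1, -1])) (.node (.leaf [-3249, -48, -6769, -2666, 3538, 76, 794, 1744, 16, -107, 22, 2, -1]) (.leaf [-879, 67, -2140, -934, 1238, 2, 176, 627, -24, -28, 2, 2, -1]))) (.node (.node (.leaf []) (.leaf [1])) (.node (.leaf [-101014305, -131510, -172730354, -44193365, 68032791, -4608188, 33701010, 21681480, -4816076, 12657978, -244476, 1194152, -130538, 62213, -27906, 875, -5]) (.leaf [1])))) (.node (.node (.node (.leaf [-58, 7, -146, -65, 86, 0, 12, 44, -2, -3]) (.leaf [1])) (.node (.leaf [1]) (.leaf [-11830342, 1272373, -30420054, -14099084, 18209082, 319997, 2158477, 9784592, -392250, -938031, 49770, 11111, 9673, -528, -627, -19]))) (.node (.node (.leaf [17646204, -3201146, 46497566, 21532338, -27464346, -623866, -3452362, -15216601, 1388247, 1212449, -61216, -2515, -38306, -1285, 919, -1]) (.leaf [41538, -5672, 103655, 45994, -59607, -1068, -8901, -31721, 2491, 2147, -192, 18, -51, -2, 5])) (.node (.leaf [1]) (.leaf [1])))))))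

def twoL249 : Janko.Tree (List ℤ) :=
  (.node (.node (.node (.node (.node (.node (.leaf []) (.leaf [0, 1])) (.node (.leaf []) (.leaf [-5833, 744, -12604, -4792, 6344, 1, 1585, 3245, -434, 150, -19, 7, -4, 0, 1]))) (.node (.node (.leaf [-163, 35, -371, -145, 194, 4, 54, 95, -15, -7, -1]) (.leaf [-517, 18, -1227, -536, 714, -3, 102, 358, 2, -25, 3])) (.node (.leaf []) (.leaf [-259, -1153, 1879, 1568, -1550, -232, 207, -1477, 566, 204, 15, 22, -24, 1])))) (.node (.node (.node (.leaf []) (.leaf [157645721, -51968666, 468214102, 231002280, -286675305, -9630341, -27605845, -169992528, 23376889, 15604333, -503556, 499311, -752996, -17147, 1328, -273, -1])) (.node (.leaf [-273237, 63934, -751634, -357617, 451409, 11846, 51996, 257405, -26385, -24058, 766, -601, 708, 2, 5]) (.leaf [148404039, -28369193, 417471173, 204893796, -258690249, -7405676, -23636116, -146915135, 10129373, 16896347, -766680, 260134, -371264, 12898, 1930, 275, -3]))) (.node (.node (.leaf [-218829, 59259, -611710, -292741, 365552, 12042, 42190, 213079,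 -26925, -19016, 760, -378, 803, 26, -1]) (.leaf [0, 1])) (.node (.leaf []) (.leaf [-653110, -166265, -893605, -167851, 326473, -34355, 217568, 26157, 81286, 31385, 1169, 4564, -4727, -133, -36, -3]))))) (.node (.node (.node (.node (.leaf []) (.leaf [1797194, 66167, 5720960, 3396049, -4175816, -276001, -9038, -2501555, -286535, 783667, -38350, 37434, 2831, 3026, -918, 75])) (.node (.leaf []) (.leaf [175497398, -45146618, 482121034, 226981835, -285745746, -7949904, -35039760, -163680169, 20580875, 12927999, -485236, 277141, -577468, -20009, 281, -133, 3]))) (.node (.node (.leaf []) (.leaf [55231933, -1511139, 104924038, 34179864, -48044918, 789941, -16972858, -20462126, 1940351, -2623300, -876, -308890, 71608, -15777, 5877, -43, 9])) (.node (.leaf [900, -54, 2061, 866, -1136, -21, -204, -583, 27, 32, -4, -1]) (.leaf [0, 1])))) (.node (.node (.node (.leaf []) (.leaf [])) (.node (.leaf [-1556, 63, -3556, -1489, 1974, 20, 344, 987, -29, -46, 8, 3]) (.leaf [0, 1]))) (.node (.node (.leaf [19, -34, 48, 11, -14, -4, -25,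 -7, 15, 5, 2]) (.leaf [1372113, -426485, 4198649, 2137361, -2641312, -105526, -205319, -1576766, 177556, 187131, -9357, 7796, -7156, 132, 22, 3])) (.node (.leaf [0, 1]) (.leaf [785074334, -165109994, 2112373986, 990707417, -1255275887, -32617828, -152874296, -707343316, 71084651, 61152960, -2707381, 899691, -2009292, -38839, 14820, 588, 5])))))) (.node (.node (.node (.node (.node (.leaf []) (.leaf [0, 1])) (.node (.leaf [3857, -724, 10454, 4941, -6320, -137, -721, -3486, 269, 342, -13, 8, -9]) (.leaf [1932019, -396677, 5408572, 2628764, -3321781, -90741, -325571, -1884637, 150795, 201677, -9410, 4120, -5335, 145, 32, 3]))) (.node (.node (.leaf [-84, -18, -180, -84, 108, 3, 9, 58, 12, -10, 1]) (.leaf [-18995, 4156, -49636, -22738, 28745, 782, 4083, 16294, -1869, -1289, 46, -25, 45, 2, 1])) (.node (.leaf []) (.leaf [34315, -5676, 68902, 22851, -31161, 528, -11418, -14794, 3571, -2240, 272, -167, 47, -22, -5])))) (.node (.node (.node (.leaf []) (.leaf [98399028, -29024737, 291461028, 144764181, -180372431, -5784552,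 -16102773, -105925849, 12414613, 10606778, -375906, 270093, -414769, -4964, -106, -104, -3])) (.node (.leaf [0, 1]) (.leaf [-47027, 10780, -128399, -60796, 76883, 1885, 9038, 43716, -4382, -3992, 97, -109, 113, -3, 1]))) (.node (.node (.leaf []) (.leaf [])) (.node (.leaf [-147764, 40012, -316944, -110322, 145338, -1896, 49398, 75825, -24768, 12476, -1612, 1057, 41, 130, 6, 1]) (.leaf [0, 1]))))) (.node (.node (.node (.node (.leaf []) (.leaf [])) (.node (.leaf [-157960, 10856, -395744, -183163, 236579, 5959, 29732, 126649, -839, -16552, 1105, -416, 30, -51, 4, -1]) (.leaf [2890806, -742337, 8136274, 3910939, -4908598, -150460, -534131, -2826328, 331169, 254909, -12375, 5536, -11029, -168, 130, -3]))) (.node (.node (.leaf [0, 1]) (.leaf [1928, -580, 6075, 3116, -3957, -9, -219, -2272, 189, 207, 0, 4, -3])) (.node (.leaf []) (.leaf [692, -54, 1605, 676, -890, -11, -157, -456, 23, 22, -1])))) (.node (.node (.node (.leaf [-53638, 9712, -133467, -58886, 75496, 1438, 12335, 41459, -4311, -2722, 78, -18, 72, 4, 1]) (.leaf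 [-161234574, 32248296, -443492344, -213168462, 269679507, 7384751, 28734127, 152584104, -12261649, -16200749, 683070, -328932, 379213, -12530, 1861, -211, 1])) (.node (.leaf []) (.leaf [-12705041, 2438359, -27015337, -9355398, 12559752, -131026, 3958127, 6089545, -1841954, 1199944, -25686, 100857, 32455, 9566, -3142, 119]))) (.node (.node (.leaf []) (.leaf [0, 1])) (.node (.leaf [5452, -393, 11899, 4722, -6263, -36, -1387, -3155, 193, 70, -8, -7, 3]) (.leaf [11563, -3415, 34325, 17024, -21228, -748, -1922, -12411, 1485, 1267, -57, 44, -47, -4])))))))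

def twoL250 : Janko.Tree (List ℤ) :=
  (.node (.node (.node (.node (.node (.node (.leaf [0, 0, 1]) (.leaf [])) (.node (.leaf [-5, 0, -6, -1, 1, 0, 2, 1]) (.leaf [148865063, -17932316, 315480055, 114899835, -154712391, 832423, -43041170, -74574110, 12700006, -6787484, 128093, -862044, -86504, -65399, 21251, -746, 15]))) (.node (.node (.leaf [0, 0, 1]) (.leaf [0, 0, 1])) (.node (.leaf [218, 270, -686, -709, 847, 11, -178, 573, -45, -174, 1, -10, 1, 1]) (.leaf [0, 0, 1])))) (.node (.node (.node (.leaf []) (.leaf [352058726, -41305567, 841855473, 361269137, -471041609, -6407730, -80208422, -246848544, 19401415, 12357801, -919682, -682623, -288327, -36301, 22767, 56, 13])) (.node (.leaf [-1, 0, 1, 0, -1, 0, 0, 1]) (.leaf [302417, -93089, 907490, 454268, -565791, -17984, -49051, -333140, 38132, 35841, -1046, 1136, -1209, -15, -2]))) (.node (.node (.leaf []) (.leaf [89142261, -24262642, 258547764, 127276921, -159040347, -5043468, -15167295, -92755569, 10095689, 9605080, -348074, 268642, -328633, -767, -1454, 58, -1]))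 (.node (.leaf [0, 0, 1]) (.leaf [1805682, -214930, 4070015, 1628682, -2147581, -22881, -474186, -1091745, 119863, 12981, -3545, -3406, -1249, -297, 128, -1]))))) (.node (.node (.node (.node (.leaf [0, 0, 1]) (.leaf [-13385197, 4927923, -39347373, -18969235, 23526281, 727849, 2607903, 13985387, -2411142, -896521, 17063, -20760, 71581, 4066, -612, 71])) (.node (.leaf [0, 0, 1]) (.leaf [-287286037, 70448245, -783467976, -367303645, 463467224, 12305713, 57139304, 263898083, -32407623, -19939559, 817155, -269844, 919185, 37541, -6627, 293, 1]))) (.node (.node (.leaf []) (.leaf [113785450, -27699310, 333033667, 166309549, -208225400, -6573576, -17377282, -120745864, 10715652, 13751764, -570772, 312507, -393833, 5501, 16, 154, -5])) (.node (.leaf [-260, 13, -593, -249, 334, 0, 63, 163, 0, -15, 1]) (.leaf [10190352, -2053910, 26805752, 12339955, -15683169, -392175, -2089027, -8764759, 925789, 672659, -32731, 5636, -24757, -805, 398, -1])))) (.node (.node (.node (.leaf [-3770, 1412, -12630, -6704, 8224, 378, 419, 4976,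 -610, -620, 38, -26, 25, 1]) (.leaf [-18060807, 4625582, -50293809, -23998402, 30148019, 878841, 3434997, 17352647, -2048936, -1514317, 58223, -34654, 61099, 1396, -236, 1])) (.node (.leaf [-1365, 48, -3108, -1300, 1723, 20, 303, 860, -24, -42, 8, 3]) (.leaf [5839324, -1526657, 16536851, 7987567, -10012795, -307096, -1059525, -5788473, 671416, 532113, -22889, 12948, -21594, -368, 142, -1]))) (.node (.node (.leaf [-383, 52, -995, -460, 600, 1, 73, 319, -13, -29, 1]) (.leaf [0, 0, 1])) (.node (.leaf [20780646, -6420018, 61938018, 30763855, -38293775, -1216663, -3405988, -22554825, 2799032, 2156538, -75073, 62680, -94919, -1891, 896, -7, -1]) (.leaf [0, 0, 1])))))) (.node (.node (.node (.node (.node (.leaf []) (.leaf [-1843, 160, -4492, -1965, 2612, -8, 389, 1319, -37, -88, 5, 1, -1])) (.node (.leaf [-1, 0, 1, 0, -1, 0, 0, 1]) (.leaf [145, -24, 375, 172, -220, -5, -25, -122, 11, 5, 1]))) (.node (.node (.leaf [0, 0, 1]) (.leaf [-6895, 1888, -19708, -9588, 12005, 364, 1261, 6972, -792, -704, 24, -18, 24, -1])) (.node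 (.leaf [-13053985, 272664, -25329163, -8523844, 11894598, -150922, 3834951, 5144473, -458208, 606722, 18834, 81796, -9327, 4179, -1994, 8, -1]) (.leaf [41790561, 1866518, 79949592, 27089506, -38686591, 1057238, -11367820, -15704601, -161815, -1874915, -35052, -377712, 81615, -12102, 9416, -133, 3])))) (.node (.node (.node (.leaf [-24490, 5661, -67150, -31822, 40260, 1032, 4712, 22827, -2343, -2091, 68, -58, 66, 0, -1]) (.leaf [0, 0, 1])) (.node (.leaf [-39071, 16769, -132241, -71100, 85945, 4590, 4906, 53869, -6849, -7882, 342, -387, 324, -10, -7]) (.leaf [-5633341, 1805302, -16678356, -8281816, 10251595, 384464, 995781, 6113291, -764610, -672194, 22250, -29002, 24035, -199, 562, -7]))) (.node (.node (.leaf []) (.leaf [])) (.node (.leaf [1, 0, 0, 0, 1, 0, 0, -1]) (.leaf [-4385994, 1202174, -12754716, -6270988, 7833369, 256540, 741580, 4563040, -523242, -449080, 21199, -11926, 18571, 186, -134, 1]))))) (.node (.node (.node (.node (.leaf [-882, 67, -2141, -934, 1238, 2, 177, 627, -24, -28, 2, 2, -1]) (.leaf [5818510,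 -1334613, 8994527, 1089129, -1947671, 344279, -2641541, -325934, 1307656, -1561019, 59731, -87530, -13094, -8341, 2426, -120, 1])) (.node (.leaf [0, 0, 1]) (.leaf [0, 0, 1]))) (.node (.node (.leaf []) (.leaf [-894433, 156674, -2407648, -1148323, 1454717, 41995, 163486, 819135, -56454, -92423, 4585, -2172, 1783, -132, 28, -3])) (.node (.leaf [0, 0, 1]) (.leaf [-41, 4, -98, -44, 54, 0, 6, 34, -2])))) (.node (.node (.node (.leaf [0, 0, 1]) (.leaf [953873, -209042, 2551002, 1188739, -1505429, -38573, -193097, -850127, 90615, 71865, -2606, 1060, -2350, -24, -19])) (.node (.leaf [-5, 0, -6, -1, 1, 0, 2, 1]) (.leaf [-1878, 175, -4557, -1986, 2634, -6, 404, 1339, -46, -88, 5, 1, -1]))) (.node (.node (.leaf []) (.leaf [-5235, 441, -11411, -4494, 5974, 4, 1361, 3006, -211, -41, 2, 9, -5, 0, 1])) (.node (.leaf [-17062419, 8055421, -50456721, -24588354, 29562935, 1697560, 4160811, 18881704, -3598794, -2272174, 40656, -234992, 95729, -2562, 4938, -147, -5]) (.leaf [978, 1411, -2727, -2873, 3102, 343, -736, 2473, -570, -593,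 10, -36, 31, -1])))))))

def twoL251 : Janko.Tree (List ℤ) :=
  (.node (.node (.node (.node (.node (.node (.leaf []) (.leaf [-151, 0, -341, -143, 189, 1, 30, 95, -1, -2, 1, 1])) (.node (.leaf []) (.leaf [-4558918, 1157654, -12805313, -6152536, 7730158, 225493, 838945, 4447100, -506314, -401291, 17154, -9674, 16021, 249, -104, -1]))) (.node (.node (.leaf [38080944, -8178778, 94840010, 40780602, -52354648, -887739, -9145937, -28544599, 4475882, 465812, -43786, -83878, -103651, -12555, 4030, -141, 1]) (.leaf [-3407041, 1067614, -9563965, -4499226, 5620546, 173675, 702849, 3275322, -530028, -203925, 8994, -5508, 16089, 850, -188, 7])) (.node (.leaf [-215261271, 57928527, -615988306, -299649013, 375248750, 11258449, 38113538, 217736986, -24978823, -20529980, 746452, -487998, 788790, 11532, -2564, 75, 5]) (.leaf [-10935, 962, -26487, -11609, 15285, 84, 2333, 7867, -273, -590, 40, 7, -4, 1])))) (.node (.node (.node (.leaf []) (.leaf [])) (.node (.leaf [1281, -208, 2876, 1133, -1503, 30, -345, -778, 96, -19, 6, -4, 1])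 (.leaf [175810427, -33809438, 462682298, 214766424, -272580955, -7522317, -35750862, -152848625, 13951704, 14413321, -652280, 341688, -357780, 2903, -3230, 439, 11]))) (.node (.node (.leaf []) (.leaf [-118, -14, 37, 137, -161, -13, 82, -105, -6, 44, -4, 2, -1])) (.node (.leaf [-8, -17, -31, -24, 31, -5, -12, 18, 10, -2, 2, 0, 0, 1]) (.leaf [1967, -116, 4466, 1842, -2455, -12, -463, -1217, 49, 50, -7, -3, 1]))))) (.node (.node (.node (.node (.leaf []) (.leaf [-2014, 45, -4210, -1624, 2145, 59, 510, 1065, -56, -15, 7, 4, 1])) (.node (.leaf [-757985353, 172168841, -2064336952, -972048513, 1228868358, 32138518, 146090041, 696326860, -76705683, -56664279, 2494390, -703474, 2242825, 74147, -28228, 73, 11]) (.leaf [-16, 4, -41, -18, 24, -1, 5, 12, -2, -1, 0, 1]))) (.node (.node (.leaf []) (.leaf [-3132, 285, -6760, -2645, 3493, 23, 837, 1782, -142, -34, 0, 6, -2])) (.node (.leaf []) (.leaf [-583, 12, -1304, -542, 718, 2, 126, 362, -4, -15, 4, 1])))) (.node (.node (.node (.leaf []) (.leaf [6230, -846, 15463, 6861, -8921,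 -121, -1364, -4738, 304, 379, -15, 6, -1])) (.node (.leaf [65410, -17360, 181866, 86537, -108487, -3500, -12956, -62596, 7850, 5628, -232, 112, -230, -8, 1]) (.leaf [6841357, -1104570, 18205925, 8588005, -10948493, -271894, -1259548, -6071321, 408656, 619941, -32014, 7916, -12760, 512, 76, 15]))) (.node (.node (.leaf [-56, 3, -153, -77, 96, 2, 4, 57, -1, -5, 1]) (.leaf [3666, -222, 7760, 2990, -3979, -12, -958, -1989, 122, 7, -2, -8, 3])) (.node (.leaf [-28728654, 2247613, -60369850, -22436418, 30225978, 30276, 8056579, 14508924, -1514975, 483707, 32066, 106474, -4142, 6723, -2292, 3, -3]) (.leaf [267347150, -101475631, 827519920, 418144236, -513879114, -20316008, -44668626, -311762157, 44738414, 32795663, -1021482, 1540852, -1490399, -14338, -14622, 51])))))) (.node (.node (.node (.node (.node (.leaf [-68, 11, -170, -74, 98, 0, 15, 51, -4, -3]) (.leaf [])) (.node (.leaf [3924, -754, 10644, 5025, -6432, -136, -743, -3543, 280, 347, -12, 8, -9]) (.leaf [-642992, 32572, -1659599, -787680, 1023720, 19497, 106387,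 540966, 7940, -74606, 4335, -1006, -96, -185, 50, -5]))) (.node (.node (.leaf [-1, -1, -1, 0, 0, 1]) (.leaf [-3018, 419, -6486, -2498, 3308, -45, 862, 1715, -170, -11, -20, 10, -3, -1])) (.node (.leaf []) (.leaf [-26496240, 5051389, -70461325, -32816698, 41778453, 985823, 5143707, 23257967, -2180610, -1912053, 92592, -4179, 60972, 1844, -869, 1])))) (.node (.node (.node (.leaf []) (.leaf [2553, -203, 5600, 2250, -2953, -30, -649, -1526, 96, 58, -5, -4, 1])) (.node (.leaf []) (.leaf [-9534, 2338, -25579, -11893, 15009, 392, 2013, 8564, -1022, -714, 16, -14, 24, -1]))) (.node (.node (.leaf []) (.leaf [16852285, -10002239, 58406357, 30646363, -36725950, -1826711, -2749174, -23645625, 4651870, 2421825, -42346, 173293, -155334, -2982, -1576, -23])) (.node (.leaf []) (.leaf [1626, -94, 3699, 1546, -2035, -28, -375, -1038, 39, 60, -7, -1]))))) (.node (.node (.node (.node (.leaf []) (.leaf [-4584, 322, -9961, -3944, 5225, 23, 1164, 2644, -159, -52, 6, 8, -3])) (.node (.leaf [-147555, 13600, -380032, -179252, 229989,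 5969, 26362, 125395, -2196, -16361, 890, -332, 57, -39, 6, -1]) (.leaf []))) (.node (.node (.leaf []) (.leaf [])) (.node (.leaf []) (.leaf [-2809, 2130, -8006, -3425, 4052, 199, 1117, 2688, -1135, -19, -26, -7, 29, 2, -1])))) (.node (.node (.node (.leaf []) (.leaf [129194452, -64280512, 471822086, 261686981, -316080308, -15231582, -11150466, -199742049, 25065571, 29158808, -866504, 1508854, -1015747, 27533, -23607, 420, -15])) (.node (.leaf []) (.leaf [6323136, -5288196, 36824414, 24694039, -29027315, -1976968, 1650448, -19489588, 1215218, 4683698, -145598, 270431, -85930, 11869, -6443, 182, -1]))) (.node (.node (.leaf []) (.leaf [248182814, -21738437, 610923187, 272374095, -355347435, -4431801, -49362030, -185944880, 8066305, 13229730, -868206, -684173, -134241, -10874, 23481, -65, 1])) (.node (.leaf []) (.leaf [-3166, 1380, -7194, -2650, 3300, 73, 1226, 1983, -721, 68, -34, -10, 11, -2, -1])))))))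

def twoL252 : Janko.Tree (List ℤ) :=
  (.node (.node (.node (.node (.node (.node (.leaf []) (.leaf [13473102, -5928264, 43654593, 22593400, -27530567, -1160858, -2109679, -17074246, 2547221, 1954310, -40306, 103538, -83489, -156, -1307, 9])) (.node (.leaf [-14, 4, -41, -18, 26, -1, 4, 11, -1, -1]) (.leaf [-5886, 6257, -17403, -6884, 7706, 280, 2440, 5853, -3848, 1290, -158, 54, 79, 16, -1]))) (.node (.node (.leaf [-163, 33, -373, -145, 194, 5, 54, 95, -15, -7, -1]) (.leaf [-11103118, 2863401, -30651959, -14522562, 18244311, 535086, 2183218, 10501524, -1281763, -892107, 32138, -21751, 36460, 1014, -43, -3])) (.node (.leaf []) (.leaf [1])))) (.node (.node (.node (.leaf []) (.leaf [-159678546, 26180946, -400331319, -177822153, 228534856, 4636660, 35010920, 124177871, -12199587, -7801913, 463936, 98947, 272516, 17244, -7375, -42, -9])) (.node (.leaf [-361206258, 209569936, -1323411403, -721414590, 866450557, 42107043, 40325883, 554918645, -91852349, -67001851, 1661082, -3877620, 3394608, 24788, 33897, 206, 37])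 (.leaf [975601676, -133488326, 2360343577, 1016970001, -1320491222, -19465923, -222349956, -699190989, 66119749, 30619038, -2394021, -2017637, -1240475, -149180, 80030, -584, 27]))) (.node (.node (.leaf []) (.leaf [21277436, -3979895, 63100127, 32303905, -40663022, -1218138, -2639455, -23282736, 1091464, 3223159, -148032, 73276, -56393, 5175, -1124, 102, -3])) (.node (.leaf []) (.leaf [1]))))) (.node (.node (.node (.node (.leaf []) (.leaf [-97826, 21983, -311623, -169938, 210385, 7530, 8058, 126463, -2558, -23295, 323, -919, 82, -66, 5, -1])) (.node (.leaf [18013, -4156, 47287, 21699, -27502, -558, -3887, -15596, 1754, 1215, -4, 18, -37]) (.leaf []))) (.node (.node (.leaf [1]) (.leaf [1855356, -478067, 5186020, 2480120, -3112416, -94230, -349735, -1794156, 214226, 157092, -7169, 3878, -6741, -143, 37, 1])) (.node (.leaf []) (.leaf [-15667880, 2407530, -41916180, -19890129, 25393539, 573904, 2758375, 14046301, -852140, -1425423, 65215, -3238, 25175, -639, -419, -21])))) (.node (.node (.node (.leaf []) (.leaf [-176,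 8, -392, -157, 212, -2, 43, 102, -4, -2, 2])) (.node (.leaf []) (.leaf [2280, -78, 5077, 2105, -2760, -35, -493, -1424, 44, 44, -4, -6]))) (.node (.node (.leaf [-21669, 4252, -56464, -25706, 33138, 479, 4682, 18039, -1615, -1497, 29, -44, 24, 0, 1]) (.leaf [-387292, 73359, -930247, -391233, 500929, 14512, 99237, 272515, -41533, -8937, 1934, -420, 1193, 71, -44, -1])) (.node (.leaf [-14622, 2991, -48073, -26176, 32265, 2001, 1204, 19049, -880, -3676, 479, -328, 156, -23, -7]) (.leaf [62708, -5633, 141273, 57507, -76056, -594, -15668, -38562, 2586, 1381, -99, -77, 29, -1, -1])))))) (.node (.node (.node (.node (.node (.leaf [1]) (.leaf [-63, 7, -154, -67, 88, 0, 14, 46, -2, -3])) (.node (.leaf []) (.leaf [-5007767, 1140324, -13559743, -6354590, 8034221, 210644, 984292, 4551824, -512288, -362197, 15746, -4986, 14607, 480, -162, 1]))) (.node (.node (.leaf []) (.leaf [1])) (.node (.leaf [1]) (.leaf [1])))) (.node (.node (.node (.leaf []) (.leaf [])) (.node (.leaf [7504, -1946, 20346, 9534, -12015, -254, -1544, -6917,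 816, 566, 0, 10, -18, -1]) (.leaf [25880, -5816, 70882, 33564, -42547, -1035, -4947, -24007, 2403, 2174, -83, 51, -65, -1]))) (.node (.node (.leaf []) (.leaf [-56855652, 14721233, -174395829, -89713878, 111920686, 3625752, 7127746, 65471717, -5458070, -7984052, 328964, -165682, 229309, -4290, -1324, -23, 5])) (.node (.leaf [1859, -332, 3829, 1290, -1726, 7, -555, -865, 246, -200, 18, -1, 1, 0, -1]) (.leaf [770937, -242950, 2245003, 1086581, -1354769, -41480, -137935, -793111, 118582, 53947, -1974, 464, -3859, -258, 101, -3]))))) (.node (.node (.node (.node (.leaf [1]) (.leaf [-266027580, 95157586, -790329920, -387255830, 478664447, 17054098, 49259877, 286445026, -44603208, -24027965, 791331, -986924, 1422665, 47992, -4520, 246, 13])) (.node (.leaf [28032, -5959, 74874, 34890, -44278, -1082, -5637, -24898, 2520, 2143, -83, 44, -65]) (.leaf [171, -8, 427, 191, -257, 1, -34, -125, -1, 12, -1]))) (.node (.node (.leaf [14633012, -3993733, 41891410, 20374101, -25491895, -786290, -2613696, -14819033, 1728754, 1406063,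 -51600, 36926, -54659, -825, 230, -1]) (.leaf [1778859, -489132, 5033410, 2409943, -3021563, -90599, -330847, -1744361, 230414, 134409, -6369, 2226, -7481, -352, 132, -3])) (.node (.leaf [-100302957, 13716855, -247148993, -108221479, 140395097, 1943594, 21710886, 74522827, -6710490, -3422427, 254364, 276692, 143059, 17321, -11196, 180, -1]) (.leaf [359052, -93789, 983116, 461880, -580909, -15959, -72635, -333958, 42454, 26274, -812, 666, -1135, -36, -3])))) (.node (.node (.node (.leaf []) (.leaf [140627, -25916, 370074, 170765, -218137, -4475, -27662, -120542, 11413, 8842, -364, -132, -259, -28, -13])) (.node (.leaf [244, 19, 316, 50, -77, -2, -87, -24, -2, -22, 6, -2, 1]) (.leaf [1]))) (.node (.node (.leaf [1]) (.leaf [99653687, -17598800, 266981390, 125825745, -160252998, -3762843, -18336929, -89146120, 7039250, 8209923, -396654, 34804, -210667, -586, 3761, 66, -1])) (.node (.leaf [284308714, -8270582, 607882189, 235829552, -319274864, 768714, -71537053, -151300074, 5625249, -93550, -596199, -1368628, 205903,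 -42028, 34340, -23, 13]) (.leaf [238454, -37604, 635505, 301930, -384413, -9970, -43596, -214162, 12152, 24700, -1068, 525, -317, 39, -14, 1])))))))

def twoL253 : Janko.Tree (List ℤ) :=
  (.node (.node (.node (.node (.node (.node (.leaf []) (.leaf [56, -8, 138, 58, -78, 1, -13, -40, 2, 2, 0, 1])) (.node (.leaf [0, 1]) (.leaf [0, 1]))) (.node (.node (.leaf [-164, 37, -397, -166, 218, 5, 48, 113, -15, -10, -1]) (.leaf [635670, -136872, 1751125, 840279, -1059321, -30952, -116106, -604233, 54700, 62604, -2710, 1465, -1655, 34, -18, 1])) (.node (.leaf [0, 1]) (.leaf [10002732, -976143, 25388712, 11658670, -15107491, -236989, -1859073, -8051980, 293878, 737681, -38747, -15151, -5705, 250, 592, 13])))) (.node (.node (.node (.leaf [0, 1]) (.leaf [-325450827, 22803181, -799502374, -357412316, 467839140, 4907401, 62720709, 242780384, -7270129, -17744627, 1199432, 1068626, 106110, 10907, -33971, 11, 9])) (.node (.leaf [-3451, 205, -7236, -2762, 3678, 9, 913, 1837, -115, 1, 2, 7, -3]) (.leaf [0, 1]))) (.node (.node (.leaf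 [0, 1]) (.leaf [14854995, -9826, 38051310, 18322763, -23763117, -587691, -2199435, -12552354, -576026, 1967913, -127542, 14112, 8224, 5014, 82, 128, 1])) (.node (.leaf [-2443, 240, -5371, -2146, 2820, 23, 642, 1457, -111, -52, 2, 4, -1]) (.leaf [-22949, 5805, -63915, -30497, 38482, 972, 4384, 21982, -2433, -1989, 56, -50, 66]))))) (.node (.node (.node (.node (.leaf []) (.leaf [0, 1])) (.node (.leaf []) (.leaf [0, 1]))) (.node (.node (.leaf [5, 0, 8, 3, -4, 1, -1, -3]) (.leaf [28411, -5982, 75677, 35195, -44684, -1091, -5745, -25095, 2538, 2148, -86, 43, -65])) (.node (.leaf [-255, 15, -596, -254, 339, 0, 57, 168, -2, -12, 1]) (.leaf [23407, -6408, 65389, 31291, -39103, -1265, -4523, -22828, 2788, 2099, -49, 85, -75, -5, 1])))) (.node (.node (.node (.leaf [0, 1]) (.leaf [-285816503, 56855967, -756693268, -349819523, 445407696, 10059149, 56932628, 248041917, -25471076, -18396644, 851096, 30860, 688779, 29069, -14612, 215, -1])) (.node (.leaf [0, 1]) (.leaf [-229480186, 21094675, -571318364, -257575717, 335048213,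 4661649, 44573496, 176713482, -7309822, -13949576, 836042, 523354, 134216, 3418, -20018, -77, 1]))) (.node (.node (.leaf [5289, -283, 10680, 3876, -5181, -71, -1511, -2521, 224, -53, -5, -16, 3]) (.leaf [-14606, 3668, -40523, -19332, 24336, 667, 2807, 13964, -1547, -1298, 41, -34, 44])) (.node (.leaf [100031292, -17594753, 267579539, 125968283, -160471400, -3750915, -18473965, -89218962, 7044061, 8183066, -394117, 32002, -208722, -717, 3684, 66, -1]) (.leaf [65045155, -12839076, 169287667, 77076291, -98374423, -2099268, -13624014, -54485183, 5873297, 3682908, -163369, -12538, -144061, -7389, 2388, -59, 1])))))) (.node (.node (.node (.node (.node (.leaf [10, -2, 23, 8, -12, 0, -4, -4, 1]) (.leaf [-1525, 155, -3567, -1508, 1977, 19, 356, 1026, -65, -53, 4, 1])) (.node (.leaf [135681, -42728, 403255, 200289, -247796, -9272, -22655, -147582, 19351, 14320, -592, 411, -670, -14, 5]) (.leaf [-132326959, 36999974, -384756726, -189139860, 236369298, 7335486, 22657205, 137856702, -15678249, -13728732, 496634, -379091,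 512477, 3153, 1086, 30, 5]))) (.node (.node (.leaf []) (.leaf [-3961, 365, -8819, -3592, 4682, 83, 1006, 2449, -181, -119, 11, 5, 1])) (.node (.leaf []) (.leaf [81098938, -46695758, 246790732, 116843154, -140654300, -6516593, -20611103, -89654866, 24424400, 3764100, 73902, 573207, -682327, -40272, -6034, -378, 7])))) (.node (.node (.node (.leaf []) (.leaf [0, 1])) (.node (.leaf [-2614, 383, -5430, -2017, 2656, -29, 792, 1396, -170, 8, -20, 10, -2, -1]) (.leaf [0, 1]))) (.node (.node (.leaf []) (.leaf [-32966177, 7518519, -90109088, -42551024, 53768877, 1435210, 6304602, 30488704, -3340464, -2534753, 113224, -30621, 99040, 2968, -1156, 19])) (.node (.leaf [0, 1]) (.leaf [0, 1]))))) (.node (.node (.node (.node (.leaf []) (.leaf [0, 1])) (.node (.leaf [-120148, 22389, -322506, -152638, 193695, 4935, 22447, 108888, -8492, -11006, 403, -177, 200, -6, 7]) (.leaf [0, 1]))) (.node (.node (.leaf []) (.leaf [11703711, -1907027, 30715586, 14273430, -18247044, -419356, -2259736, -10051987, 756589, 918630, -50409, 8420, -21711,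 200, 121, 23])) (.node (.leaf []) (.leaf [0, 1])))) (.node (.node (.node (.leaf []) (.leaf [-6779297, 851655, -15809118, -6579778, 8605639, 103370, 1657497, 4474685, -440017, -133200, 10253, 16970, 4836, 1146, -540, 9, -1])) (.node (.leaf [0, 1]) (.leaf [-5193380, 1113907, -14002854, -6587226, 8331030, 235315, 1023399, 4713953, -467310, -444832, 19584, -11132, 12993, -4, 170, -7]))) (.node (.node (.leaf []) (.leaf [-4769816, 437554, -10034981, -3715544, 4994433, -819, 1352952, 2415814, -291076, 105009, -432, 21557, -812, 1229, -522, 16, -1])) (.node (.leaf [-2067, 106, -4568, -1851, 2465, 13, 502, 1227, -39, -52, 3, 3, -1]) (.leaf [-106, -20, -596, -498, 487, 123, -103, 436, -4, -130, 16, -1, 6, -1])))))))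

def twoL254 : Janko.Tree (List ℤ) :=
  (.node (.node (.node (.node (.node (.node (.leaf []) (.leaf [0, 0, 1])) (.node (.leaf [55, -6, 140, 63, -82, -1, -11, -43, 2, 3]) (.leaf [-179784, 42464, -475819, -219560, 277206, 6898, 38112, 158193, -18694, -12226, 74, -120, 334, 16, 5]))) (.node (.node (.leaf [-21392, 2721, -48956, -20028, 26398, 92, 5484, 13618, -1171, -470, 0, 4, -8, 0, -1]) (.leaf [446987, -95991, 1251243, 609622, -766499, -23850, -77050, -439752, 36600, 49834, -2174, 1192, -1194, 38, -18, 1])) (.node (.leaf []) (.leaf [15525, -3941, 41370, 19141, -24148, -519, -3336, -13861, 1675, 1094, 5, 21, -36, -1])))) (.node (.node (.node (.leaf []) (.leaf [])) (.node (.leaf []) (.leaf [-6790189, 824312, -15885105, -6651871, 8701227, 103930, 1640141, 4525959, -407646, -167364, 10880, 14856, 3828, 907, -446, 7, -1]))) (.node (.node (.leaf []) (.leaf [0, 0, 1])) (.node (.leaf []) (.leaf [1999, -149, 3890, 1384, -1783, -73, -615, -941, 115, 13, -5, -5, -1, 1]))))) (.node (.node (.node (.node (.leaf []) (.leaf [318,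 -48, 782, 336, -443, -6, -81, -226, 19, 19, -1])) (.node (.leaf [-4598, 1621, -14674, -7599, 9344, 428, 645, 5622, -706, -684, 38, -28, 27]) (.leaf [-3906, 327, -9026, -3784, 4990, 42, 915, 2547, -136, -128, 11, 5, -1]))) (.node (.node (.leaf []) (.leaf [96875458, -15268018, 250086242, 114428497, -146812499, -2939339, -19286188, -80185660, 6453164, 6234785, -329664, -59857, -164330, -4961, 4800, 15])) (.node (.leaf [0, 0, 1]) (.leaf [-16220, 2856, -41820, -19036, 24397, 517, 3417, 13380, -1196, -1092, 55, -11, 21, -2, 1])))) (.node (.node (.node (.leaf []) (.leaf [0, 0, 1])) (.node (.leaf [1, 5, -7, -6, 4, 1, -2, 7, -3, 1]) (.leaf [-17628074, 3150005, -46957533, -21998695, 28031708, 655010, 3322058, 15572204, -1293728, -1377281, 65590, -3418, 36628, 598, -622, -7]))) (.node (.node (.leaf [0, 0, 1]) (.leaf [-1395482, 231303, -3502921, -1530773, 1980343, 24670, 296432, 1056663, -132707, -13704, 3794, 6098, 4068, 493, -356, 5])) (.node (.leaf [0, 0, 1]) (.leaf [0, 0, 1])))))) (.node (.node (.node (.node (.node (.leaf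 [10, -13, 48, 25, -32, 0, -3, -18, 6, 1]) (.leaf [0, 0, 1])) (.node (.leaf []) (.leaf [-2, -3, -8, -5, 7, 0, -1, 3, 2, -1]))) (.node (.node (.leaf []) (.leaf [-1, 0, 1, 0, -1, 0, 0, 1])) (.node (.leaf [3, 0, 5, 1, -1, 0, -1, -1]) (.leaf [160015348, -67318775, 467222687, 221766520, -272642918, -10095077, -35531962, -165390976, 33871180, 9660005, -151172, 642030, -961802, -51764, -3942, -548, 5])))) (.node (.node (.node (.leaf [0, 0, 1]) (.leaf [-1774, 118, -4190, -1803, 2382, 31, 393, 1204, -36, -91, 6, 1])) (.node (.leaf [-3362, 430, -7229, -2803, 3696, -20, 949, 1921, -182, -32, -16, 10, -2, -1]) (.leaf [-2559, 136, -4923, -1718, 2265, 43, 771, 1143, -109, 20, 3, 7, -1, -1]))) (.node (.node (.leaf [0, 0, 1]) (.leaf [0, 0, 1])) (.node (.leaf [-40063733, -2136124, -86891779, -35493157, 48452889, -264239, 8495181, 22417705, 1378205, -1081702, 158176, 246599, -71634, -68, -6116, -29]) (.leaf [-38157173, -2517476, -81932762, -33229288, 45569333, -331436, 8090733, 20811593, 1545249, -957512, 153470, 248339, -75328,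 -183, -6168, -27]))))) (.node (.node (.node (.node (.leaf [0, 0, 1, 1, 0, 0, 1, -2]) (.leaf [-39370108, 7953280, -106439090, -50195223, 63653537, 1623082, 7401650, 35778447, -3385258, -3142460, 147615, -28276, 101058, 1898, -1554, -13])) (.node (.leaf [30226, -6135, 80323, 37337, -47468, -1138, -6063, -26567, 2584, 2278, -98, 44, -65]) (.leaf [157, -7, 400, 180, -242, 1, -30, -118, -1, 11, -1]))) (.node (.node (.leaf [0, 0, 1]) (.leaf [0, 0, 1])) (.node (.leaf [-55536286, 12204772, -149195042, -69574768, 88129336, 2267024, 11051547, 49684618, -5482742, -3921056, 174104, -41372, 152813, 5332, -1778, 24, -1]) (.leaf [-402171711, 119257823, -1153633452, -557983183, 696370855, 22130228, 74955039, 407222771, -54004932, -35514339, 1278387, -1041328, 1667160, 44984, -2741, 358, -1])))) (.node (.node (.node (.leaf []) (.leaf [0, 0, 1])) (.node (.leaf []) (.leaf [-1, 0, 1, 0, -1, 0, 0, 1]))) (.node (.node (.leaf []) (.leaf [-668674, 150800, -1584987, -651044, 830325, 20307, 181666, 458875, -86489, -1887, 354, 721, 1627,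 219, -10, 1])) (.node (.leaf []) (.leaf [1976, -225, 4950, 2223, -2894, -50, -413, -1522, 80, 136, -10, 0, -1, 1])))))))

def twoL255 : Janko.Tree (List ℤ) :=
  (.node (.node (.node (.node (.node (.node (.leaf []) (.leaf [-14460, 2824, -47841, -26159, 32333, 1921, 1082, 18990, -744, -3700, 479, -327, 153, -24, -7])) (.node (.leaf [4882241, -460510, 10727432, 4203463, -5592110, -27105, -1286762, -2780640, 269939, -9077, -4130, -17864, -152, -1015, 481, -9, 1]) (.leaf []))) (.node (.node (.leaf []) (.leaf [1365, -204, 3311, 1432, -1866, -15, -319, -990, 80, 59])) (.node (.leaf []) (.leaf [53515436, -3061335, 122404510, 50922027, -67627225, -340150, -12171995, -33756547, 1476284, 1168326, -147431, -220190, 3216, -5803, 6332, -47, 1])))) (.node (.node (.node (.leaf []) (.leaf [-2, 0, -1, 0, 0, 0, 0, 1])) (.node (.leaf [-2, 0, -1, 0, 0, 0, 0, 1]) (.leaf [849, -71, 2261, 1075, -1394, -32, -136, -736, 18, 82, -8, 1, -1]))) (.node (.node (.leaf [-264, 292, -1786, -1162, 1461, 8, -64, 867, -50, -189, 4, -10, 1]) (.leaf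 [])) (.node (.leaf [1519640, -342715, 4118111, 1933878, -2441131, -67899, -295832, -1386230, 156198, 111436, -5336, 978, -4673, -167, 86, -1]) (.leaf [75836, -17446, 205796, 96776, -122402, -3076, -14970, -69441, 7425, 6024, -210, 131, -194, -3]))))) (.node (.node (.node (.node (.leaf []) (.leaf [317, -49, 781, 336, -443, -5, -81, -226, 19, 19, -1])) (.node (.leaf [2139, -264, 5240, 2293, -3016, -7, -475, -1564, 85, 107, -2, -2, 1]) (.leaf []))) (.node (.node (.leaf []) (.leaf [0, 0, -1, 0, 1])) (.node (.leaf []) (.leaf [16585, -4070, 39606, 16456, -20813, -666, -4609, -11744, 2191, 337, 15, 11, -37, -4, 1])))) (.node (.node (.node (.leaf [157, -68, 759, 463, -589, -13, 20, -329, 12, 62, -4, 2, -1]) (.leaf [238734, -37647, 635376, 301577, -384015, -9865, -43836, -213911, 12149, 24616, -1045, 514, -313, 39, -14, 1])) (.node (.leaf []) (.leaf [1, 0, -1, 0, 2, 0, 0, -1]))) (.node (.node (.leaf []) (.leaf [-14430, 3654, -40007, -19077, 23984, 689, 2792, 13794, -1559, -1286, 42, -34, 45])) (.node (.leaf [109046665,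 -19200791, 291491530, 137148528, -174709570, -4103389, -20206625, -97137348, 7693101, 8917584, -431372, 41555, -227617, -557, 3783, 80, -1]) (.leaf [139209, -27696, 366481, 169035, -215294, -4905, -28413, -120002, 11826, 9692, -381, 147, -272, -5, -1])))))) (.node (.node (.node (.node (.node (.leaf []) (.leaf [])) (.node (.leaf [-64, 7, -163, -73, 98, 0, 12, 49, -2, -3]) (.leaf [808868495, -216392232, 2190205657, 1015170159, -1277029416, -36619425, -172351258, -732557491, 102683532, 51560609, -2066546, 1509218, -2806797, -115385, 2898, -374, 15]))) (.node (.node (.leaf [59, -10, 149, 67, -89, 1, -13, -45, 3, 3]) (.leaf [-11565009, 868711, -23899589, -8674925, 11763188, -33206, 3319490, 5554428, -614503, 290476, 8043, 46027, -3145, 2919, -986, 2, -1])) (.node (.leaf []) (.leaf [190723838, -75656352, 555584591, 264964660, -326627845, -11831925, -40903953, -196834477, 37458994, 12760326, -273160, 721670, -1079035, -52804, -3736, -555, 5])))) (.node (.node (.node (.leaf []) (.leaf [-1842, 172, -4730, -2171, 2842,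 44, 350, 1473, -45, -148, 11, -1, 1])) (.node (.leaf [-14132, 3624, -39243, -18731, 23525, 684, 2730, 13565, -1552, -1262, 40, -34, 45]) (.leaf [-8652, 2208, -23857, -11303, 14240, 373, 1708, 8161, -951, -712, 19, -15, 25, -1]))) (.node (.node (.leaf []) (.leaf [13159654, -12578630, 65595722, 40180809, -47160248, -2750688, 601398, -31892090, 4963658, 5166437, -91830, 317452, -205818, 5282, -4924, -10, -3])) (.node (.leaf [-110113415, 42633483, -362106380, -190247804, 233480092, 9039445, 13538862, 142126607, -17893785, -16499988, 576012, -616759, 695143, 2301, 485, -8, 19]) (.leaf [-175, -5722, 3908, 1441, -499, -273, -928, -2181, 3616, -1381, 160, -47, -83, -16, 1]))))) (.node (.node (.node (.node (.leaf []) (.leaf [-68949355, 14347933, -185021772, -86467203, 109651964, 2812449, 13443082, 61605854, -6374954, -4998946, 244613, -40058, 185930, 5460, -3292, 18, -1])) (.node (.leaf []) (.leaf [150899, -40397, 325338, 114354, -150549, 1845, -49934, -78650, 24813, -12110, 1599, -1054, -40, -130, -6, -1]))) (.node (.node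 (.leaf [23314, -7032, 68997, 34207, -42702, -1296, -3957, -25021, 2896, 2602, -72, 84, -90, -1]) (.leaf [17180459, -3022634, 46230982, 21923445, -27884509, -682875, -3115339, -15567055, 1154221, 1539574, -67136, 12157, -33185, 380, 310, 17])) (.node (.leaf [-5, 0, -11, -3, 6, 0, 2, 1]) (.leaf [-49102, 15767, -136492, -63597, 79569, 2397, 10623, 46342, -7651, -2844, 45, -157, 205, 13, 1])))) (.node (.node (.node (.leaf [-1, 0, -2, -1, 1, 0, 0, 1]) (.leaf [])) (.node (.leaf []) (.leaf [686088, -468505, 2017078, 872636, -1043825, -37427, -206505, -672139, 290058, -67620, 4446, -3907, -8097, -1032, 236, -17]))) (.node (.node (.leaf []) (.leaf [-3172, 456, -6069, -1942, 2547, 23, 1015, 1330, -354, 256, -20, 6, -1, 0, 1])) (.node (.leaf [-527, -42, -1084, -427, 582, 1, 114, 270, 24, -11, 0, 2]) (.leaf [261569625, -100828646, 814382138, 412806138, -506849358, -20251711, -43207645, -308170334, 44392596, 32728217, -1014494, 1557166, -1488290, -13333, -15082, 59, -1])))))))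

def twoL : Janko.Tree (List ℤ) := (.node (.node (.node (.node (.node (.node (.node (.node twoL0 twoL128) (.node twoL64 twoL192)) (.node (.node twoL32 twoL160) (.node twoL96 twoL224))) (.node (.node (.node twoL16 twoL144) (.node twoL80 twoL208)) (.node (.node twoL48 twoL176) (.node twoL112 twoL240)))) (.node (.node (.node (.node twoL8 twoL136) (.node twoL72 twoL200)) (.node (.node twoL40 twoL168) (.node twoL104 twoL232))) (.node (.node (.node twoL24 twoL152) (.node twoL88 twoL216)) (.node (.node twoL56 twoL184) (.node twoL120 twoL248))))) (.node (.node (.node (.node (.node twoL4 twoL132) (.node twoL68 twoL196)) (.node (.node twoL36 twoL164) (.node twoL100 twoL228))) (.node (.node (.node twoL20 twoL148) (.node twoL84 twoL212)) (.node (.node twoL52 twoL180) (.node twoL116 twoL244)))) (.node (.node (.node (.node twoL12 twoL140) (.node twoL76 twoL204)) (.node (.node twoL44 twoL172) (.node twoL108 twoL236))) (.node (.node (.node twoL28 twoL156) (.node twoL92 twoL220)) (.node (.node twoL60 twoL188) (.node twoL124 twoL252))))))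 (.node (.node (.node (.node (.node (.node twoL2 twoL130) (.node twoL66 twoL194)) (.node (.node twoL34 twoL162) (.node twoL98 twoL226))) (.node (.node (.node twoL18 twoL146) (.node twoL82 twoL210)) (.node (.node twoL50 twoL178) (.node twoL114 twoL242)))) (.node (.node (.node (.node twoL10 twoL138) (.node twoL74 twoL202)) (.node (.node twoL42 twoL170) (.node twoL106 twoL234))) (.node (.node (.node twoL26 twoL154) (.node twoL90 twoL218)) (.node (.node twoL58 twoL186) (.node twoL122 twoL250))))) (.node (.node (.node (.node (.node twoL6 twoL134) (.node twoL70 twoL198)) (.node (.node twoL38 twoL166) (.node twoL102 twoL230))) (.node (.node (.node twoL22 twoL150) (.node twoL86 twoL214)) (.node (.node twoL54 twoL182) (.node twoL118 twoL246)))) (.node (.node (.node (.node twoL14 twoL142) (.node twoL78 twoL206)) (.node (.node twoL46 twoL174) (.node twoL110 twoL238))) (.node (.node (.node twoL30 twoL158) (.node twoL94 twoL222)) (.node (.node twoL62 twoL190) (.node twoL126 twoL254))))))) (.node (.node (.node (.node (.node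 (.node (.node twoL1 twoL129) (.node twoL65 twoL193)) (.node (.node twoL33 twoL161) (.node twoL97 twoL225))) (.node (.node (.node twoL17 twoL145) (.node twoL81 twoL209)) (.node (.node twoL49 twoL177) (.node twoL113 twoL241)))) (.node (.node (.node (.node twoL9 twoL137) (.node twoL73 twoL201)) (.node (.node twoL41 twoL169) (.node twoL105 twoL233))) (.node (.node (.node twoL25 twoL153) (.node twoL89 twoL217)) (.node (.node twoL57 twoL185) (.node twoL121 twoL249))))) (.node (.node (.node (.node (.node twoL5 twoL133) (.node twoL69 twoL197)) (.node (.node twoL37 twoL165) (.node twoL101 twoL229))) (.node (.node (.node twoL21 twoL149) (.node twoL85 twoL213)) (.node (.node twoL53 twoL181) (.node twoL117 twoL245)))) (.node (.node (.node (.node twoL13 twoL141) (.node twoL77 twoL205)) (.node (.node twoL45 twoL173) (.node twoL109 twoL237))) (.node (.node (.node twoL29 twoL157) (.node twoL93 twoL221)) (.node (.node twoL61 twoL189) (.node twoL125 twoL253)))))) (.node (.node (.node (.node (.node (.node twoL3 twoL131) (.node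 twoL67 twoL195)) (.node (.node twoL35 twoL163) (.node twoL99 twoL227))) (.node (.node (.node twoL19 twoL147) (.node twoL83 twoL211)) (.node (.node twoL51 twoL179) (.node twoL115 twoL243)))) (.node (.node (.node (.node twoL11 twoL139) (.node twoL75 twoL203)) (.node (.node twoL43 twoL171) (.node twoL107 twoL235))) (.node (.node (.node twoL27 twoL155) (.node twoL91 twoL219)) (.node (.node twoL59 twoL187) (.node twoL123 twoL251))))) (.node (.node (.node (.node (.node twoL7 twoL135) (.node twoL71 twoL199)) (.node (.node twoL39 twoL167) (.node twoL103 twoL231))) (.node (.node (.node twoL23 twoL151) (.node twoL87 twoL215)) (.node (.node twoL55 twoL183) (.node twoL119 twoL247)))) (.node (.node (.node (.node twoL15 twoL143) (.node twoL79 twoL207)) (.node (.node twoL47 twoL175) (.node twoL111 twoL239))) (.node (.node (.node twoL31 twoL159) (.node twoL95 twoL223)) (.node (.node twoL63 twoL191) (.node twoL127 twoL255))))))))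

def twoKind0 : Janko.Tree (ℕ) :=
  (.node (.node (.node (.node (.node (.node (.node (.leaf 0) (.leaf 2)) (.leaf 0)) (.node (.leaf 0) (.leaf 3))) (.node (.node (.leaf 3) (.leaf 3)) (.node (.leaf 0) (.leaf 3)))) (.node (.node (.node (.leaf 0) (.leaf 3)) (.node (.leaf 3) (.leaf 3))) (.node (.node (.leaf 3) (.leaf 3)) (.node (.leaf 3) (.leaf 3))))) (.node (.node (.node (.node (.leaf 3) (.leaf 0)) (.node (.leaf 3) (.leaf 3))) (.node (.node (.leaf 3) (.leaf 3)) (.node (.leaf 3) (.leaf 3)))) (.node (.node (.node (.leaf 0) (.leaf 3)) (.node (.leaf 3) (.leaf 3))) (.node (.node (.leaf 3) (.leaf 3)) (.node (.leaf 3) (.leaf 3)))))) (.node (.node (.node (.node (.node (.leaf 3) (.leaf 0)) (.node (.leaf 3) (.leaf 3))) (.node (.node (.leaf 3) (.leaf 3)) (.node (.leaf 3) (.leaf 3)))) (.node (.node (.node (.leaf 0) (.leaf 3)) (.node (.leaf 3) (.leaf 3))) (.node (.node (.leaf 3) (.leaf 0)) (.node (.leaf 3) (.leaf 3))))) (.node (.node (.node (.node (.leaf 3) (.leaf 0)) (.node (.leaf 3) (.leaf 3))) (.node (.node (.leaf 0) (.leaf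 3)) (.node (.leaf 3) (.leaf 3)))) (.node (.node (.node (.leaf 3) (.leaf 3)) (.node (.leaf 0) (.leaf 3))) (.node (.node (.leaf 3) (.leaf 3)) (.node (.leaf 3) (.leaf 3)))))))

def twoKind1 : Janko.Tree (ℕ) :=
  (.node (.node (.node (.node (.node (.node (.node (.leaf 0) (.leaf 2)) (.leaf 3)) (.node (.leaf 3) (.leaf 3))) (.node (.node (.leaf 3) (.leaf 3)) (.node (.leaf 3) (.leaf 3)))) (.node (.node (.node (.leaf 3) (.leaf 3)) (.node (.leaf 3) (.leaf 3))) (.node (.node (.leaf 0) (.leaf 3)) (.node (.leaf 3) (.leaf 3))))) (.node (.node (.node (.node (.leaf 0) (.leaf 3)) (.node (.leaf 0) (.leaf 3))) (.node (.node (.leaf 0) (.leaf 3)) (.node (.leaf 3) (.leaf 3)))) (.node (.node (.node (.leaf 0) (.leaf 3)) (.node (.leaf 3) (.leaf 3))) (.node (.node (.leaf 3) (.leaf 3)) (.node (.leaf 3) (.leaf 3)))))) (.node (.node (.node (.node (.node (.leaf 0) (.leaf 3)) (.node (.leaf 3) (.leaf 3))) (.node (.node (.leaf 0) (.leaf 3)) (.node (.leaf 0) (.leaf 3)))) (.node (.node (.node (.leaf 0) (.leaf 3)) (.node (.leaf 3) (.leaf 3))) (.node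 (.node (.leaf 0) (.leaf 3)) (.node (.leaf 0) (.leaf 3))))) (.node (.node (.node (.node (.leaf 0) (.leaf 3)) (.node (.leaf 3) (.leaf 0))) (.node (.node (.leaf 3) (.leaf 3)) (.node (.leaf 0) (.leaf 3)))) (.node (.node (.node (.leaf 0) (.leaf 3)) (.node (.leaf 0) (.leaf 3))) (.node (.node (.leaf 0) (.leaf 3)) (.node (.leaf 3) (.leaf 3)))))))

def twoKind2 : Janko.Tree (ℕ) :=
  (.node (.node (.node (.node (.node (.node (.node (.leaf 0) (.leaf 2)) (.leaf 3)) (.node (.leaf 0) (.leaf 3))) (.node (.node (.leaf 3) (.leaf 3)) (.node (.leaf 3) (.leaf 3)))) (.node (.node (.node (.leaf 0) (.leaf 3)) (.node (.leaf 3) (.leaf 3))) (.node (.node (.leaf 3) (.leaf 3)) (.node (.leaf 3) (.leaf 3))))) (.node (.node (.node (.node (.leaf 3) (.leaf 0)) (.node (.leaf 3) (.leaf 3))) (.node (.node (.leaf 3) (.leaf 3)) (.node (.leaf 0) (.leaf 3)))) (.node (.node (.node (.leaf 0) (.leaf 3)) (.node (.leaf 3) (.leaf 3))) (.node (.node (.leaf 3) (.leaf 3)) (.node (.leaf 3) (.leaf 3)))))) (.node (.node (.node (.node (.node (.leaf 0) (.leaf 3))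 (.node (.leaf 3) (.leaf 3))) (.node (.node (.leaf 3) (.leaf 3)) (.node (.leaf 3) (.leaf 3)))) (.node (.node (.node (.leaf 3) (.leaf 3)) (.node (.leaf 3) (.leaf 3))) (.node (.node (.leaf 3) (.leaf 3)) (.node (.leaf 3) (.leaf 3))))) (.node (.node (.node (.node (.leaf 3) (.leaf 3)) (.node (.leaf 3) (.leaf 3))) (.node (.node (.leaf 0) (.leaf 3)) (.node (.leaf 3) (.leaf 3)))) (.node (.node (.node (.leaf 3) (.leaf 3)) (.node (.leaf 3) (.leaf 3))) (.node (.node (.leaf 0) (.leaf 3)) (.node (.leaf 0) (.leaf 3)))))))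

def twoKind3 : Janko.Tree (ℕ) :=
  (.node (.node (.node (.node (.node (.node (.node (.leaf 0) (.leaf 2)) (.leaf 3)) (.node (.leaf 3) (.leaf 3))) (.node (.node (.leaf 3) (.leaf 3)) (.node (.leaf 3) (.leaf 3)))) (.node (.node (.node (.leaf 0) (.leaf 3)) (.node (.leaf 0) (.leaf 3))) (.node (.node (.leaf 0) (.leaf 3)) (.node (.leaf 0) (.leaf 3))))) (.node (.node (.node (.node (.leaf 0) (.leaf 3)) (.node (.leaf 0) (.leaf 3))) (.node (.node (.leaf 0) (.leaf 3)) (.node (.leaf 3) (.leaf 3)))) (.node (.node (.node (.leaf 0) (.leaf 3)) (.node (.leaf 3) (.leaf 3))) (.node (.node (.leaf 0) (.leaf 3)) (.node (.leaf 0) (.leaf 3)))))) (.node (.node (.node (.node (.node (.leaf 0) (.leaf 3)) (.node (.leaf 3) (.leaf 3))) (.node (.node (.leaf 0) (.leaf 3)) (.node (.leaf 3) (.leaf 3)))) (.node (.node (.node (.leaf 0) (.leaf 3)) (.node (.leaf 3) (.leaf 3))) (.node (.node (.leaf 0) (.leaf 0)) (.node (.leaf 0) (.leaf 3))))) (.node (.node (.node (.node (.leaf 0) (.leaf 3)) (.node (.leaf 0) (.leaf 3))) (.node (.node (.leaf 3) (.leaf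 3)) (.node (.leaf 0) (.leaf 3)))) (.node (.node (.node (.leaf 0) (.leaf 3)) (.node (.leaf 0) (.leaf 3))) (.node (.node (.leaf 0) (.leaf 0)) (.node (.leaf 3) (.leaf 3)))))))

def twoKind4 : Janko.Tree (ℕ) :=
  (.node (.node (.node (.node (.node (.node (.node (.leaf 3) (.leaf 2)) (.leaf 3)) (.node (.leaf 3) (.leaf 0))) (.node (.node (.leaf 0) (.leaf 0)) (.node (.leaf 3) (.leaf 3)))) (.node (.node (.node (.leaf 0) (.leaf 3)) (.node (.leaf 3) (.leaf 3))) (.node (.node (.leaf 3) (.leaf 3)) (.node (.leaf 3) (.leaf 3))))) (.node (.node (.node (.node (.leaf 0) (.leaf 0)) (.node (.leaf 3) (.leaf 3))) (.node (.node (.leaf 0) (.leaf 3)) (.node (.leaf 3) (.leaf 3)))) (.node (.node (.node (.leaf 3) (.leaf 3)) (.node (.leaf 3) (.leaf 3))) (.node (.node (.leaf 3) (.leaf 3)) (.node (.leaf 3) (.leaf 3)))))) (.node (.node (.node (.node (.node (.leaf 0) (.leaf 3)) (.node (.leaf 3) (.leaf 3))) (.node (.node (.leaf 3) (.leaf 3)) (.node (.leaf 3) (.leaf 3)))) (.node (.node (.node (.leaf 3) (.leaf 3)) (.node (.leaf 3) (.leaf 3))) (.node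 (.node (.leaf 3) (.leaf 3)) (.node (.leaf 0) (.leaf 3))))) (.node (.node (.node (.node (.leaf 3) (.leaf 3)) (.node (.leaf 3) (.leaf 3))) (.node (.node (.leaf 0) (.leaf 3)) (.node (.leaf 3) (.leaf 3)))) (.node (.node (.node (.leaf 3) (.leaf 3)) (.node (.leaf 3) (.leaf 3))) (.node (.node (.leaf 3) (.leaf 3)) (.node (.leaf 3) (.leaf 3)))))))

def twoKind5 : Janko.Tree (ℕ) :=
  (.node (.node (.node (.node (.node (.node (.node (.leaf 0) (.leaf 2)) (.leaf 3)) (.node (.leaf 0) (.leaf 3))) (.node (.node (.leaf 0) (.leaf 3)) (.node (.leaf 3) (.leaf 3)))) (.node (.node (.node (.leaf 0) (.leaf 3)) (.node (.leaf 3) (.leaf 3))) (.node (.node (.leaf 0) (.leaf 3)) (.node (.leaf 0) (.leaf 3))))) (.node (.node (.node (.node (.leaf 0) (.leaf 0)) (.node (.leaf 3) (.leaf 3))) (.node (.node (.leaf 3) (.leaf 3)) (.node (.leaf 3) (.leaf 3)))) (.node (.node (.node (.leaf 0) (.leaf 3)) (.node (.leaf 3) (.leaf 3))) (.node (.node (.leaf 0) (.leaf 3)) (.node (.leaf 3) (.leaf 3)))))) (.node (.node (.node (.node (.node (.leaf 3) (.leaf 3))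 (.node (.leaf 0) (.leaf 3))) (.node (.node (.leaf 3) (.leaf 3)) (.node (.leaf 3) (.leaf 3)))) (.node (.node (.node (.leaf 0) (.leaf 3)) (.node (.leaf 3) (.leaf 3))) (.node (.node (.leaf 0) (.leaf 0)) (.node (.leaf 0) (.leaf 3))))) (.node (.node (.node (.node (.leaf 3) (.leaf 3)) (.node (.leaf 3) (.leaf 3))) (.node (.node (.leaf 0) (.leaf 3)) (.node (.leaf 3) (.leaf 3)))) (.node (.node (.node (.leaf 0) (.leaf 3)) (.node (.leaf 0) (.leaf 3))) (.node (.node (.leaf 3) (.leaf 0)) (.node (.leaf 3) (.leaf 3)))))))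

def twoKind6 : Janko.Tree (ℕ) :=
  (.node (.node (.node (.node (.node (.node (.node (.leaf 0) (.leaf 2)) (.leaf 0)) (.node (.leaf 3) (.leaf 3))) (.node (.node (.leaf 0) (.leaf 3)) (.node (.leaf 3) (.leaf 3)))) (.node (.node (.node (.leaf 3) (.leaf 3)) (.node (.leaf 3) (.leaf 3))) (.node (.node (.leaf 0) (.leaf 3)) (.node (.leaf 3) (.leaf 3))))) (.node (.node (.node (.node (.leaf 0) (.leaf 3)) (.node (.leaf 3) (.leaf 3))) (.node (.node (.leaf 0) (.leaf 3)) (.node (.leaf 3) (.leaf 3)))) (.node (.node (.node (.leaf 3) (.leaf 3)) (.node (.leaf 3) (.leaf 3))) (.node (.node (.leaf 3) (.leaf 3)) (.node (.leaf 3) (.leaf 3)))))) (.node (.node (.node (.node (.node (.leaf 0) (.leaf 0)) (.node (.leaf 3) (.leaf 3))) (.node (.node (.leaf 3) (.leaf 3)) (.node (.leaf 3) (.leaf 3)))) (.node (.node (.node (.leaf 0) (.leaf 3)) (.node (.leaf 3) (.leaf 3))) (.node (.node (.leaf 0) (.leaf 3)) (.node (.leaf 0) (.leaf 3))))) (.node (.node (.node (.node (.leaf 0) (.leaf 3)) (.node (.leaf 3) (.leaf 3))) (.node (.node (.leaf 3) (.leaf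 3)) (.node (.leaf 3) (.leaf 3)))) (.node (.node (.node (.leaf 0) (.leaf 3)) (.node (.leaf 3) (.leaf 3))) (.node (.node (.leaf 0) (.leaf 3)) (.node (.leaf 0) (.leaf 3)))))))

def twoKind7 : Janko.Tree (ℕ) :=
  (.node (.node (.node (.node (.node (.node (.node (.leaf 0) (.leaf 2)) (.leaf 3)) (.node (.leaf 0) (.leaf 3))) (.node (.node (.leaf 0) (.leaf 3)) (.node (.leaf 0) (.leaf 3)))) (.node (.node (.node (.leaf 0) (.leaf 3)) (.node (.leaf 3) (.leaf 3))) (.node (.node (.leaf 3) (.leaf 3)) (.node (.leaf 3) (.leaf 3))))) (.node (.node (.node (.node (.leaf 0) (.leaf 3)) (.node (.leaf 3) (.leaf 3))) (.node (.node (.leaf 0) (.leaf 3)) (.node (.leaf 3) (.leaf 3)))) (.node (.node (.node (.leaf 0) (.leaf 3)) (.node (.leaf 3) (.leaf 3))) (.node (.node (.leaf 3) (.leaf 3)) (.node (.leaf 3) (.leaf 3)))))) (.node (.node (.node (.node (.node (.leaf 0) (.leaf 3)) (.node (.leaf 3) (.leaf 3))) (.node (.node (.leaf 3) (.leaf 3)) (.node (.leaf 0) (.leaf 3)))) (.node (.node (.node (.leaf 0) (.leaf 3)) (.node (.leaf 3) (.leaf 3))) (.node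 (.node (.leaf 0) (.leaf 3)) (.node (.leaf 3) (.leaf 3))))) (.node (.node (.node (.node (.leaf 0) (.leaf 3)) (.node (.leaf 0) (.leaf 0))) (.node (.node (.leaf 0) (.leaf 3)) (.node (.leaf 3) (.leaf 3)))) (.node (.node (.node (.leaf 0) (.leaf 3)) (.node (.leaf 0) (.leaf 3))) (.node (.node (.leaf 0) (.leaf 3)) (.node (.leaf 0) (.leaf 3)))))))

def twoKind8 : Janko.Tree (ℕ) :=
  (.node (.node (.node (.node (.node (.node (.node (.leaf 0) (.leaf 3)) (.leaf 0)) (.node (.leaf 0) (.leaf 3))) (.node (.node (.leaf 3) (.leaf 3)) (.node (.leaf 3) (.leaf 3)))) (.node (.node (.node (.leaf 3) (.leaf 3)) (.node (.leaf 3) (.leaf 3))) (.node (.node (.leaf 0) (.leaf 3)) (.node (.leaf 0) (.leaf 3))))) (.node (.node (.node (.node (.leaf 3) (.leaf 3)) (.node (.leaf 3) (.leaf 3))) (.node (.node (.leaf 3) (.leaf 3)) (.node (.leaf 3) (.leaf 3)))) (.node (.node (.node (.leaf 3) (.leaf 3)) (.node (.leaf 3) (.leaf 3))) (.node (.node (.leaf 0) (.leaf 3)) (.node (.leaf 3) (.leaf 3)))))) (.node (.node (.node (.node (.node (.leaf 0) (.leaf 3))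 (.node (.leaf 3) (.leaf 3))) (.node (.node (.leaf 3) (.leaf 3)) (.node (.leaf 3) (.leaf 3)))) (.node (.node (.node (.leaf 3) (.leaf 3)) (.node (.leaf 3) (.leaf 3))) (.node (.node (.leaf 3) (.leaf 0)) (.node (.leaf 3) (.leaf 3))))) (.node (.node (.node (.node (.leaf 0) (.leaf 3)) (.node (.leaf 3) (.leaf 3))) (.node (.node (.leaf 0) (.leaf 3)) (.node (.leaf 0) (.leaf 3)))) (.node (.node (.node (.leaf 0) (.leaf 3)) (.node (.leaf 3) (.leaf 3))) (.node (.node (.leaf 0) (.leaf 3)) (.node (.leaf 3) (.leaf 3)))))))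

def twoKind9 : Janko.Tree (ℕ) :=
  (.node (.node (.node (.node (.node (.node (.node (.leaf 3) (.leaf 2)) (.leaf 3)) (.node (.leaf 0) (.leaf 3))) (.node (.node (.leaf 3) (.leaf 3)) (.node (.leaf 3) (.leaf 3)))) (.node (.node (.node (.leaf 0) (.leaf 0)) (.node (.leaf 0) (.leaf 3))) (.node (.node (.leaf 0) (.leaf 3)) (.node (.leaf 3) (.leaf 3))))) (.node (.node (.node (.node (.leaf 3) (.leaf 3)) (.node (.leaf 0) (.leaf 3))) (.node (.node (.leaf 0) (.leaf 3)) (.node (.leaf 3) (.leaf 3)))) (.node (.node (.node (.leaf 3) (.leaf 3)) (.node (.leaf 3) (.leaf 3))) (.node (.node (.leaf 3) (.leaf 3)) (.node (.leaf 3) (.leaf 3)))))) (.node (.node (.node (.node (.node (.leaf 0) (.leaf 3)) (.node (.leaf 3) (.leaf 3))) (.node (.node (.leaf 0) (.leaf 3)) (.node (.leaf 0) (.leaf 3)))) (.node (.node (.node (.leaf 0) (.leaf 3)) (.node (.leaf 3) (.leaf 3))) (.node (.node (.leaf 3) (.leaf 3)) (.node (.leaf 3) (.leaf 3))))) (.node (.node (.node (.node (.leaf 0) (.leaf 3)) (.node (.leaf 0) (.leaf 0))) (.node (.node (.leaf 3) (.leaf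 3)) (.node (.leaf 3) (.leaf 3)))) (.node (.node (.node (.leaf 3) (.leaf 3)) (.node (.leaf 0) (.leaf 3))) (.node (.node (.leaf 3) (.leaf 3)) (.node (.leaf 3) (.leaf 3)))))))

def twoKind10 : Janko.Tree (ℕ) :=
  (.node (.node (.node (.node (.node (.node (.node (.leaf 0) (.leaf 2)) (.leaf 0)) (.node (.leaf 0) (.leaf 3))) (.node (.node (.leaf 0) (.leaf 3)) (.node (.leaf 3) (.leaf 3)))) (.node (.node (.node (.leaf 3) (.leaf 3)) (.node (.leaf 3) (.leaf 3))) (.node (.node (.leaf 3) (.leaf 3)) (.node (.leaf 0) (.leaf 3))))) (.node (.node (.node (.node (.leaf 3) (.leaf 3)) (.node (.leaf 3) (.leaf 3))) (.node (.node (.leaf 0) (.leaf 3)) (.node (.leaf 3) (.leaf 3)))) (.node (.node (.node (.leaf 0) (.leaf 3)) (.node (.leaf 3) (.leaf 3))) (.node (.node (.leaf 0) (.leaf 3)) (.node (.leaf 3) (.leaf 3)))))) (.node (.node (.node (.node (.node (.leaf 0) (.leaf 3)) (.node (.leaf 3) (.leaf 3))) (.node (.node (.leaf 3) (.leaf 3)) (.node (.leaf 3) (.leaf 3)))) (.node (.node (.node (.leaf 0) (.leaf 3)) (.node (.leaf 3) (.leaf 3)))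 (.node (.node (.leaf 3) (.leaf 3)) (.node (.leaf 3) (.leaf 3))))) (.node (.node (.node (.node (.leaf 3) (.leaf 3)) (.node (.leaf 0) (.leaf 3))) (.node (.node (.leaf 3) (.leaf 3)) (.node (.leaf 0) (.leaf 3)))) (.node (.node (.node (.leaf 3) (.leaf 3)) (.node (.leaf 0) (.leaf 3))) (.node (.node (.leaf 3) (.leaf 3)) (.node (.leaf 3) (.leaf 3)))))))

def twoKind11 : Janko.Tree (ℕ) :=
  (.node (.node (.node (.node (.node (.node (.node (.leaf 0) (.leaf 3)) (.leaf 3)) (.node (.leaf 0) (.leaf 3))) (.node (.node (.leaf 0) (.leaf 3)) (.node (.leaf 3) (.leaf 3)))) (.node (.node (.node (.leaf 0) (.leaf 3)) (.node (.leaf 3) (.leaf 3))) (.node (.node (.leaf 3) (.leaf 0)) (.node (.leaf 3) (.leaf 3))))) (.node (.node (.node (.node (.leaf 0) (.leaf 3)) (.node (.leaf 3) (.leaf 3))) (.node (.node (.leaf 0) (.leaf 3)) (.node (.leaf 3) (.leaf 3)))) (.node (.node (.node (.leaf 0) (.leaf 3)) (.node (.leaf 3) (.leaf 3))) (.node (.node (.leaf 0) (.leaf 3)) (.node (.leaf 0) (.leaf 3)))))) (.node (.node (.node (.node (.node (.leaf 0) (.leaf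 3)) (.node (.leaf 3) (.leaf 3))) (.node (.node (.leaf 3) (.leaf 3)) (.node (.leaf 3) (.leaf 3)))) (.node (.node (.node (.leaf 0) (.leaf 3)) (.node (.leaf 0) (.leaf 3))) (.node (.node (.leaf 0) (.leaf 3)) (.node (.leaf 3) (.leaf 3))))) (.node (.node (.node (.node (.leaf 3) (.leaf 3)) (.node (.leaf 3) (.leaf 3))) (.node (.node (.leaf 0) (.leaf 3)) (.node (.leaf 3) (.leaf 3)))) (.node (.node (.node (.leaf 0) (.leaf 3)) (.node (.leaf 0) (.leaf 3))) (.node (.node (.leaf 3) (.leaf 3)) (.node (.leaf 3) (.leaf 3)))))))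

def twoKind12 : Janko.Tree (ℕ) :=
  (.node (.node (.node (.node (.node (.node (.node (.leaf 0) (.leaf 3)) (.leaf 0)) (.node (.leaf 0) (.leaf 3))) (.node (.node (.leaf 0) (.leaf 3)) (.node (.leaf 0) (.leaf 3)))) (.node (.node (.node (.leaf 0) (.leaf 3)) (.node (.leaf 3) (.leaf 3))) (.node (.node (.leaf 3) (.leaf 3)) (.node (.leaf 0) (.leaf 3))))) (.node (.node (.node (.node (.leaf 3) (.leaf 3)) (.node (.leaf 0) (.leaf 3))) (.node (.node (.leaf 0) (.leaf 3)) (.node (.leaf 0) (.leaf 3)))) (.node (.node (.node (.leaf 3) (.leaf 3)) (.node (.leaf 3) (.leaf 3))) (.node (.node (.leaf 0) (.leaf 0)) (.node (.leaf 3) (.leaf 3)))))) (.node (.node (.node (.node (.node (.leaf 3) (.leaf 0)) (.node (.leaf 3) (.leaf 3))) (.node (.node (.leaf 0) (.leaf 3)) (.node (.leaf 3) (.leaf 3)))) (.node (.node (.node (.leaf 0) (.leaf 3)) (.node (.leaf 3) (.leaf 3))) (.node (.node (.leaf 0) (.leaf 3)) (.node (.leaf 3) (.leaf 3))))) (.node (.node (.node (.node (.leaf 3) (.leaf 3)) (.node (.leaf 3) (.leaf 3))) (.node (.node (.leaf 0) (.leaf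 3)) (.node (.leaf 3) (.leaf 3)))) (.node (.node (.node (.leaf 3) (.leaf 3)) (.node (.leaf 0) (.leaf 3))) (.node (.node (.leaf 0) (.leaf 0)) (.node (.leaf 3) (.leaf 3)))))))

def twoKind13 : Janko.Tree (ℕ) :=
  (.node (.node (.node (.node (.node (.node (.node (.leaf 0) (.leaf 2)) (.leaf 3)) (.node (.leaf 3) (.leaf 3))) (.node (.node (.leaf 3) (.leaf 3)) (.node (.leaf 0) (.leaf 3)))) (.node (.node (.node (.leaf 3) (.leaf 3)) (.node (.leaf 3) (.leaf 3))) (.node (.node (.leaf 0) (.leaf 3)) (.node (.leaf 0) (.leaf 3))))) (.node (.node (.node (.node (.leaf 0) (.leaf 3)) (.node (.leaf 3) (.leaf 3))) (.node (.node (.leaf 3) (.leaf 3)) (.node (.leaf 3) (.leaf 3)))) (.node (.node (.node (.leaf 0) (.leaf 3)) (.node (.leaf 3) (.leaf 3))) (.node (.node (.leaf 0) (.leaf 3)) (.node (.leaf 3) (.leaf 3)))))) (.node (.node (.node (.node (.node (.leaf 0) (.leaf 3)) (.node (.leaf 3) (.leaf 3))) (.node (.node (.leaf 3) (.leaf 3)) (.node (.leaf 3) (.leaf 3)))) (.node (.node (.node (.leaf 0) (.leaf 3)) (.node (.leaf 0) (.leaf 3)))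 (.node (.node (.leaf 3) (.leaf 0)) (.node (.leaf 0) (.leaf 3))))) (.node (.node (.node (.node (.leaf 0) (.leaf 3)) (.node (.leaf 3) (.leaf 3))) (.node (.node (.leaf 3) (.leaf 3)) (.node (.leaf 3) (.leaf 3)))) (.node (.node (.node (.leaf 0) (.leaf 3)) (.node (.leaf 0) (.leaf 3))) (.node (.node (.leaf 0) (.leaf 3)) (.node (.leaf 3) (.leaf 3)))))))

def twoKind14 : Janko.Tree (ℕ) :=
  (.node (.node (.node (.node (.node (.node (.node (.leaf 3) (.leaf 2)) (.leaf 3)) (.node (.leaf 0) (.leaf 3))) (.node (.node (.leaf 0) (.leaf 3)) (.node (.leaf 3) (.leaf 3)))) (.node (.node (.node (.leaf 3) (.leaf 3)) (.node (.leaf 3) (.leaf 3))) (.node (.node (.leaf 3) (.leaf 3)) (.node (.leaf 0) (.leaf 3))))) (.node (.node (.node (.node (.leaf 3) (.leaf 3)) (.node (.leaf 3) (.leaf 3))) (.node (.node (.leaf 0) (.leaf 3)) (.node (.leaf 0) (.leaf 3)))) (.node (.node (.node (.leaf 3) (.leaf 3)) (.node (.leaf 3) (.leaf 3))) (.node (.node (.leaf 3) (.leaf 3)) (.node (.leaf 3) (.leaf 3)))))) (.node (.node (.node (.node (.node (.leaf 0) (.leaf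 3)) (.node (.leaf 3) (.leaf 3))) (.node (.node (.leaf 0) (.leaf 0)) (.node (.leaf 0) (.leaf 3)))) (.node (.node (.node (.leaf 3) (.leaf 3)) (.node (.leaf 3) (.leaf 3))) (.node (.node (.leaf 0) (.leaf 3)) (.node (.leaf 3) (.leaf 3))))) (.node (.node (.node (.node (.leaf 3) (.leaf 3)) (.node (.leaf 3) (.leaf 3))) (.node (.node (.leaf 0) (.leaf 3)) (.node (.leaf 3) (.leaf 3)))) (.node (.node (.node (.leaf 3) (.leaf 3)) (.node (.leaf 3) (.leaf 3))) (.node (.node (.leaf 3) (.leaf 3)) (.node (.leaf 3) (.leaf 3)))))))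

def twoKind15 : Janko.Tree (ℕ) :=
  (.node (.node (.node (.node (.node (.node (.node (.leaf 0) (.leaf 2)) (.leaf 0)) (.node (.leaf 0) (.leaf 3))) (.node (.node (.leaf 0) (.leaf 3)) (.node (.leaf 3) (.leaf 3)))) (.node (.node (.node (.leaf 0) (.leaf 3)) (.node (.leaf 0) (.leaf 3))) (.node (.node (.leaf 0) (.leaf 0)) (.node (.leaf 0) (.leaf 3))))) (.node (.node (.node (.node (.leaf 3) (.leaf 3)) (.node (.leaf 3) (.leaf 3))) (.node (.node (.leaf 0) (.leaf 3)) (.node (.leaf 0) (.leaf 3)))) (.node (.node (.node (.leaf 0) (.leaf 3)) (.node (.leaf 0) (.leaf 3))) (.node (.node (.leaf 0) (.leaf 0)) (.node (.leaf 0) (.leaf 3)))))) (.node (.node (.node (.node (.node (.leaf 0) (.leaf 3)) (.node (.leaf 0) (.leaf 3))) (.node (.node (.leaf 0) (.leaf 3)) (.node (.leaf 3) (.leaf 3)))) (.node (.node (.node (.leaf 0) (.leaf 3)) (.node (.leaf 3) (.leaf 3))) (.node (.node (.leaf 0) (.leaf 3)) (.node (.leaf 0) (.leaf 3))))) (.node (.node (.node (.node (.leaf 0) (.leaf 3)) (.node (.leaf 0) (.leaf 3))) (.node (.node (.leaf 0) (.leaf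 3)) (.node (.leaf 0) (.leaf 3)))) (.node (.node (.node (.leaf 0) (.leaf 3)) (.node (.leaf 0) (.leaf 3))) (.node (.node (.leaf 3) (.leaf 3)) (.node (.leaf 0) (.leaf 3)))))))

def twoKind16 : Janko.Tree (ℕ) :=
  (.node (.node (.node (.node (.node (.node (.node (.leaf 0) (.leaf 3)) (.leaf 3)) (.node (.leaf 3) (.leaf 3))) (.node (.node (.leaf 0) (.leaf 3)) (.node (.leaf 0) (.leaf 3)))) (.node (.node (.node (.leaf 0) (.leaf 3)) (.node (.leaf 3) (.leaf 3))) (.node (.node (.leaf 0) (.leaf 3)) (.node (.leaf 3) (.leaf 3))))) (.node (.node (.node (.node (.leaf 3) (.leaf 3)) (.node (.leaf 3) (.leaf 3))) (.node (.node (.leaf 3) (.leaf 3)) (.node (.leaf 0) (.leaf 3)))) (.node (.node (.node (.leaf 0) (.leaf 3)) (.node (.leaf 3) (.leaf 3))) (.node (.node (.leaf 3) (.leaf 0)) (.node (.leaf 3) (.leaf 3)))))) (.node (.node (.node (.node (.node (.leaf 0) (.leaf 3)) (.node (.leaf 0) (.leaf 3))) (.node (.node (.leaf 3) (.leaf 3)) (.node (.leaf 3) (.leaf 3)))) (.node (.node (.node (.leaf 0) (.leaf 3)) (.node (.leaf 3) (.leaf 3)))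 (.node (.node (.leaf 3) (.leaf 3)) (.node (.leaf 3) (.leaf 3))))) (.node (.node (.node (.node (.leaf 0) (.leaf 3)) (.node (.leaf 3) (.leaf 3))) (.node (.node (.leaf 3) (.leaf 3)) (.node (.leaf 3) (.leaf 3)))) (.node (.node (.node (.leaf 0) (.leaf 3)) (.node (.leaf 0) (.leaf 3))) (.node (.node (.leaf 3) (.leaf 3)) (.node (.leaf 3) (.leaf 3)))))))

def twoKind17 : Janko.Tree (ℕ) :=
  (.node (.node (.node (.node (.node (.node (.node (.leaf 0) (.leaf 3)) (.leaf 3)) (.node (.leaf 3) (.leaf 3))) (.node (.node (.leaf 0) (.leaf 3)) (.node (.leaf 3) (.leaf 3)))) (.node (.node (.node (.leaf 0) (.leaf 3)) (.node (.leaf 3) (.leaf 3))) (.node (.node (.leaf 3) (.leaf 0)) (.node (.leaf 3) (.leaf 3))))) (.node (.node (.node (.node (.leaf 0) (.leaf 3)) (.node (.leaf 3) (.leaf 3))) (.node (.node (.leaf 0) (.leaf 3)) (.node (.leaf 3) (.leaf 3)))) (.node (.node (.node (.leaf 3) (.leaf 3)) (.node (.leaf 3) (.leaf 3))) (.node (.node (.leaf 0) (.leaf 3)) (.node (.leaf 0) (.leaf 3)))))) (.node (.node (.node (.node (.node (.leaf 3) (.leaf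 3)) (.node (.leaf 0) (.leaf 0))) (.node (.node (.leaf 0) (.leaf 3)) (.node (.leaf 0) (.leaf 3)))) (.node (.node (.node (.leaf 3) (.leaf 3)) (.node (.leaf 3) (.leaf 3))) (.node (.node (.leaf 3) (.leaf 3)) (.node (.leaf 3) (.leaf 3))))) (.node (.node (.node (.node (.leaf 3) (.leaf 3)) (.node (.leaf 3) (.leaf 3))) (.node (.node (.leaf 0) (.leaf 0)) (.node (.leaf 0) (.leaf 3)))) (.node (.node (.node (.leaf 0) (.leaf 3)) (.node (.leaf 3) (.leaf 3))) (.node (.node (.leaf 3) (.leaf 3)) (.node (.leaf 3) (.leaf 3)))))))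

def twoKind18 : Janko.Tree (ℕ) :=
  (.node (.node (.node (.node (.node (.node (.node (.leaf 0) (.leaf 3)) (.leaf 3)) (.node (.leaf 3) (.leaf 3))) (.node (.node (.leaf 3) (.leaf 3)) (.node (.leaf 0) (.leaf 3)))) (.node (.node (.node (.leaf 3) (.leaf 3)) (.node (.leaf 3) (.leaf 3))) (.node (.node (.leaf 0) (.leaf 3)) (.node (.leaf 0) (.leaf 3))))) (.node (.node (.node (.node (.leaf 3) (.leaf 3)) (.node (.leaf 0) (.leaf 0))) (.node (.node (.leaf 3) (.leaf 3)) (.node (.leaf 0) (.leaf 3)))) (.node (.node (.node (.leaf 3) (.leaf 0)) (.node (.leaf 3) (.leaf 3))) (.node (.node (.leaf 3) (.leaf 3)) (.node (.leaf 3) (.leaf 3)))))) (.node (.node (.node (.node (.node (.leaf 0) (.leaf 3)) (.node (.leaf 0) (.leaf 0))) (.node (.node (.leaf 3) (.leaf 3)) (.node (.leaf 3) (.leaf 3)))) (.node (.node (.node (.leaf 3) (.leaf 3)) (.node (.leaf 3) (.leaf 3))) (.node (.node (.leaf 3) (.leaf 3)) (.node (.leaf 3) (.leaf 3))))) (.node (.node (.node (.node (.leaf 0) (.leaf 3)) (.node (.leaf 0) (.leaf 3))) (.node (.node (.leaf 3) (.leaf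 3)) (.node (.leaf 0) (.leaf 3)))) (.node (.node (.node (.leaf 0) (.leaf 3)) (.node (.leaf 3) (.leaf 0))) (.node (.node (.leaf 3) (.leaf 3)) (.node (.leaf 3) (.leaf 3)))))))

def twoKind19 : Janko.Tree (ℕ) :=
  (.node (.node (.node (.node (.node (.node (.node (.leaf 0) (.leaf 3)) (.leaf 3)) (.node (.leaf 3) (.leaf 3))) (.node (.node (.leaf 0) (.leaf 3)) (.node (.leaf 3) (.leaf 3)))) (.node (.node (.node (.leaf 0) (.leaf 0)) (.node (.leaf 0) (.leaf 3))) (.node (.node (.leaf 3) (.leaf 3)) (.node (.leaf 3) (.leaf 3))))) (.node (.node (.node (.node (.leaf 3) (.leaf 0)) (.node (.leaf 0) (.leaf 3))) (.node (.node (.leaf 0) (.leaf 3)) (.node (.leaf 3) (.leaf 3)))) (.node (.node (.node (.leaf 0) (.leaf 3)) (.node (.leaf 3) (.leaf 3))) (.node (.node (.leaf 0) (.leaf 3)) (.node (.leaf 3) (.leaf 3)))))) (.node (.node (.node (.node (.node (.leaf 0) (.leaf 3)) (.node (.leaf 3) (.leaf 3))) (.node (.node (.leaf 0) (.leaf 0)) (.node (.leaf 0) (.leaf 3)))) (.node (.node (.node (.leaf 0) (.leaf 3)) (.node (.leaf 3) (.leaf 3)))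 (.node (.node (.leaf 0) (.leaf 0)) (.node (.leaf 0) (.leaf 3))))) (.node (.node (.node (.node (.leaf 0) (.leaf 3)) (.node (.leaf 0) (.leaf 3))) (.node (.node (.leaf 0) (.leaf 3)) (.node (.leaf 3) (.leaf 3)))) (.node (.node (.node (.leaf 0) (.leaf 3)) (.node (.leaf 3) (.leaf 3))) (.node (.node (.leaf 0) (.leaf 3)) (.node (.leaf 0) (.leaf 3)))))))

def twoKind20 : Janko.Tree (ℕ) :=
  (.node (.node (.node (.node (.node (.node (.node (.leaf 0) (.leaf 3)) (.leaf 3)) (.node (.leaf 3) (.leaf 3))) (.node (.node (.leaf 0) (.leaf 3)) (.node (.leaf 3) (.leaf 3)))) (.node (.node (.node (.leaf 0) (.leaf 3)) (.node (.leaf 3) (.leaf 3))) (.node (.node (.leaf 3) (.leaf 3)) (.node (.leaf 3) (.leaf 3))))) (.node (.node (.node (.node (.leaf 0) (.leaf 0)) (.node (.leaf 3) (.leaf 3))) (.node (.node (.leaf 3) (.leaf 3)) (.node (.leaf 3) (.leaf 3)))) (.node (.node (.node (.leaf 0) (.leaf 3)) (.node (.leaf 3) (.leaf 3))) (.node (.node (.leaf 3) (.leaf 0)) (.node (.leaf 3) (.leaf 3)))))) (.node (.node (.node (.node (.node (.leaf 0) (.leaf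 3)) (.node (.leaf 3) (.leaf 3))) (.node (.node (.leaf 0) (.leaf 3)) (.node (.leaf 3) (.leaf 3)))) (.node (.node (.node (.leaf 3) (.leaf 3)) (.node (.leaf 0) (.leaf 3))) (.node (.node (.leaf 0) (.leaf 3)) (.node (.leaf 3) (.leaf 3))))) (.node (.node (.node (.node (.leaf 0) (.leaf 3)) (.node (.leaf 0) (.leaf 3))) (.node (.node (.leaf 3) (.leaf 3)) (.node (.leaf 3) (.leaf 3)))) (.node (.node (.node (.leaf 3) (.leaf 3)) (.node (.leaf 3) (.leaf 3))) (.node (.node (.leaf 3) (.leaf 3)) (.node (.leaf 0) (.leaf 3)))))))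

def twoKind21 : Janko.Tree (ℕ) :=
  (.node (.node (.node (.node (.node (.node (.node (.leaf 3) (.leaf 3)) (.leaf 3)) (.node (.leaf 0) (.leaf 3))) (.node (.node (.leaf 3) (.leaf 3)) (.node (.leaf 0) (.leaf 3)))) (.node (.node (.node (.leaf 0) (.leaf 3)) (.node (.leaf 3) (.leaf 3))) (.node (.node (.leaf 0) (.leaf 3)) (.node (.leaf 3) (.leaf 3))))) (.node (.node (.node (.node (.leaf 3) (.leaf 3)) (.node (.leaf 3) (.leaf 3))) (.node (.node (.leaf 0) (.leaf 3)) (.node (.leaf 0) (.leaf 3)))) (.node (.node (.node (.leaf 3) (.leaf 3)) (.node (.leaf 3) (.leaf 3))) (.node (.node (.leaf 3) (.leaf 3)) (.node (.leaf 0) (.leaf 3)))))) (.node (.node (.node (.node (.node (.leaf 0) (.leaf 3)) (.node (.leaf 3) (.leaf 3))) (.node (.node (.leaf 0) (.leaf 3)) (.node (.leaf 0) (.leaf 3)))) (.node (.node (.node (.leaf 0) (.leaf 3)) (.node (.leaf 3) (.leaf 3))) (.node (.node (.leaf 0) (.leaf 0)) (.node (.leaf 3) (.leaf 3))))) (.node (.node (.node (.node (.leaf 0) (.leaf 3)) (.node (.leaf 0) (.leaf 3))) (.node (.node (.leaf 0) (.leaf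 3)) (.node (.leaf 0) (.leaf 3)))) (.node (.node (.node (.leaf 0) (.leaf 3)) (.node (.leaf 0) (.leaf 3))) (.node (.node (.leaf 0) (.leaf 0)) (.node (.leaf 3) (.leaf 3)))))))

def twoKind22 : Janko.Tree (ℕ) :=
  (.node (.node (.node (.node (.node (.node (.node (.leaf 0) (.leaf 2)) (.leaf 3)) (.node (.leaf 0) (.leaf 3))) (.node (.node (.leaf 3) (.leaf 3)) (.node (.leaf 3) (.leaf 3)))) (.node (.node (.node (.leaf 0) (.leaf 3)) (.node (.leaf 3) (.leaf 3))) (.node (.node (.leaf 3) (.leaf 3)) (.node (.leaf 0) (.leaf 3))))) (.node (.node (.node (.node (.leaf 0) (.leaf 3)) (.node (.leaf 0) (.leaf 3))) (.node (.node (.leaf 0) (.leaf 3)) (.node (.leaf 3) (.leaf 3)))) (.node (.node (.node (.leaf 0) (.leaf 3)) (.node (.leaf 3) (.leaf 3))) (.node (.node (.leaf 3) (.leaf 0)) (.node (.leaf 3) (.leaf 3)))))) (.node (.node (.node (.node (.node (.leaf 3) (.leaf 0)) (.node (.leaf 3) (.leaf 0))) (.node (.node (.leaf 0) (.leaf 3)) (.node (.leaf 3) (.leaf 3)))) (.node (.node (.node (.leaf 0) (.leaf 3)) (.node (.leaf 0) (.leaf 3)))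 (.node (.node (.leaf 0) (.leaf 0)) (.node (.leaf 3) (.leaf 3))))) (.node (.node (.node (.node (.leaf 3) (.leaf 3)) (.node (.leaf 0) (.leaf 3))) (.node (.node (.leaf 0) (.leaf 3)) (.node (.leaf 3) (.leaf 3)))) (.node (.node (.node (.leaf 3) (.leaf 3)) (.node (.leaf 0) (.leaf 3))) (.node (.node (.leaf 3) (.leaf 3)) (.node (.leaf 3) (.leaf 3)))))))

def twoKind23 : Janko.Tree (ℕ) :=
  (.node (.node (.node (.node (.node (.node (.node (.leaf 0) (.leaf 3)) (.leaf 3)) (.node (.leaf 3) (.leaf 0))) (.node (.node (.leaf 0) (.leaf 3)) (.node (.leaf 3) (.leaf 3)))) (.node (.node (.node (.leaf 3) (.leaf 0)) (.node (.leaf 3) (.leaf 3))) (.node (.node (.leaf 0) (.leaf 3)) (.node (.leaf 3) (.leaf 3))))) (.node (.node (.node (.node (.leaf 0) (.leaf 3)) (.node (.leaf 3) (.leaf 3))) (.node (.node (.leaf 0) (.leaf 3)) (.node (.leaf 3) (.leaf 3)))) (.node (.node (.node (.leaf 0) (.leaf 3)) (.node (.leaf 0) (.leaf 3))) (.node (.node (.leaf 0) (.leaf 3)) (.node (.leaf 3) (.leaf 3)))))) (.node (.node (.node (.node (.node (.leaf 0) (.leaf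 3)) (.node (.leaf 3) (.leaf 3))) (.node (.node (.leaf 0) (.leaf 3)) (.node (.leaf 3) (.leaf 3)))) (.node (.node (.node (.leaf 0) (.leaf 3)) (.node (.leaf 3) (.leaf 3))) (.node (.node (.leaf 0) (.leaf 3)) (.node (.leaf 3) (.leaf 3))))) (.node (.node (.node (.node (.leaf 0) (.leaf 3)) (.node (.leaf 3) (.leaf 3))) (.node (.node (.leaf 0) (.leaf 3)) (.node (.leaf 3) (.leaf 3)))) (.node (.node (.node (.leaf 0) (.leaf 3)) (.node (.leaf 0) (.leaf 3))) (.node (.node (.leaf 0) (.leaf 0)) (.node (.leaf 3) (.leaf 3)))))))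

def twoKind24 : Janko.Tree (ℕ) :=
  (.node (.node (.node (.node (.node (.node (.node (.leaf 0) (.leaf 3)) (.leaf 3)) (.node (.leaf 3) (.leaf 3))) (.node (.node (.leaf 0) (.leaf 3)) (.node (.leaf 3) (.leaf 3)))) (.node (.node (.node (.leaf 3) (.leaf 3)) (.node (.leaf 0) (.leaf 3))) (.node (.node (.leaf 0) (.leaf 3)) (.node (.leaf 0) (.leaf 3))))) (.node (.node (.node (.node (.leaf 3) (.leaf 3)) (.node (.leaf 3) (.leaf 3))) (.node (.node (.leaf 0) (.leaf 3)) (.node (.leaf 3) (.leaf 3)))) (.node (.node (.node (.leaf 3) (.leaf 3)) (.node (.leaf 3) (.leaf 3))) (.node (.node (.leaf 0) (.leaf 3)) (.node (.leaf 3) (.leaf 3)))))) (.node (.node (.node (.node (.node (.leaf 0) (.leaf 3)) (.node (.leaf 0) (.leaf 0))) (.node (.node (.leaf 3) (.leaf 3)) (.node (.leaf 3) (.leaf 3)))) (.node (.node (.node (.leaf 0) (.leaf 3)) (.node (.leaf 3) (.leaf 3))) (.node (.node (.leaf 3) (.leaf 0)) (.node (.leaf 0) (.leaf 3))))) (.node (.node (.node (.node (.leaf 3) (.leaf 3)) (.node (.leaf 3) (.leaf 3))) (.node (.node (.leaf 3) (.leaf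 3)) (.node (.leaf 0) (.leaf 3)))) (.node (.node (.node (.leaf 3) (.leaf 3)) (.node (.leaf 3) (.leaf 3))) (.node (.node (.leaf 3) (.leaf 0)) (.node (.leaf 3) (.leaf 3)))))))

def twoKind25 : Janko.Tree (ℕ) :=
  (.node (.node (.node (.node (.node (.node (.node (.leaf 0) (.leaf 3)) (.leaf 3)) (.node (.leaf 3) (.leaf 3))) (.node (.node (.leaf 3) (.leaf 0)) (.node (.leaf 3) (.leaf 3)))) (.node (.node (.node (.leaf 0) (.leaf 3)) (.node (.leaf 3) (.leaf 3))) (.node (.node (.leaf 3) (.leaf 3)) (.node (.leaf 0) (.leaf 3))))) (.node (.node (.node (.node (.leaf 0) (.leaf 3)) (.node (.leaf 3) (.leaf 3))) (.node (.node (.leaf 3) (.leaf 3)) (.node (.leaf 3) (.leaf 3)))) (.node (.node (.node (.leaf 0) (.leaf 3)) (.node (.leaf 3) (.leaf 3))) (.node (.node (.leaf 3) (.leaf 3)) (.node (.leaf 0) (.leaf 3)))))) (.node (.node (.node (.node (.node (.leaf 0) (.leaf 0)) (.node (.leaf 3) (.leaf 3))) (.node (.node (.leaf 0) (.leaf 3)) (.node (.leaf 3) (.leaf 3)))) (.node (.node (.node (.leaf 3) (.leaf 3)) (.node (.leaf 3) (.leaf 3)))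 (.node (.node (.leaf 3) (.leaf 3)) (.node (.leaf 0) (.leaf 3))))) (.node (.node (.node (.node (.leaf 0) (.leaf 3)) (.node (.leaf 0) (.leaf 3))) (.node (.node (.leaf 0) (.leaf 3)) (.node (.leaf 3) (.leaf 3)))) (.node (.node (.node (.leaf 3) (.leaf 3)) (.node (.leaf 3) (.leaf 3))) (.node (.node (.leaf 3) (.leaf 3)) (.node (.leaf 3) (.leaf 3)))))))

def twoKind26 : Janko.Tree (ℕ) :=
  (.node (.node (.node (.node (.node (.node (.node (.leaf 3) (.leaf 3)) (.leaf 3)) (.node (.leaf 3) (.leaf 3))) (.node (.node (.leaf 3) (.leaf 3)) (.node (.leaf 0) (.leaf 3)))) (.node (.node (.node (.leaf 3) (.leaf 3)) (.node (.leaf 3) (.leaf 3))) (.node (.node (.leaf 0) (.leaf 0)) (.node (.leaf 3) (.leaf 3))))) (.node (.node (.node (.node (.leaf 3) (.leaf 3)) (.node (.leaf 3) (.leaf 3))) (.node (.node (.leaf 3) (.leaf 3)) (.node (.leaf 3) (.leaf 3)))) (.node (.node (.node (.leaf 0) (.leaf 0)) (.node (.leaf 3) (.leaf 3))) (.node (.node (.leaf 3) (.leaf 3)) (.node (.leaf 3) (.leaf 3)))))) (.node (.node (.node (.node (.node (.leaf 0) (.leaf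 3)) (.node (.leaf 0) (.leaf 3))) (.node (.node (.leaf 0) (.leaf 3)) (.node (.leaf 0) (.leaf 3)))) (.node (.node (.node (.leaf 0) (.leaf 3)) (.node (.leaf 3) (.leaf 3))) (.node (.node (.leaf 3) (.leaf 3)) (.node (.leaf 0) (.leaf 3))))) (.node (.node (.node (.node (.leaf 0) (.leaf 3)) (.node (.leaf 3) (.leaf 3))) (.node (.node (.leaf 0) (.leaf 3)) (.node (.leaf 3) (.leaf 3)))) (.node (.node (.node (.leaf 3) (.leaf 3)) (.node (.leaf 0) (.leaf 3))) (.node (.node (.leaf 0) (.leaf 3)) (.node (.leaf 3) (.leaf 3)))))))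

def twoKind27 : Janko.Tree (ℕ) :=
  (.node (.node (.node (.node (.node (.node (.node (.leaf 0) (.leaf 2)) (.leaf 3)) (.node (.leaf 3) (.leaf 0))) (.node (.node (.leaf 0) (.leaf 3)) (.node (.leaf 3) (.leaf 3)))) (.node (.node (.node (.leaf 0) (.leaf 3)) (.node (.leaf 3) (.leaf 3))) (.node (.node (.leaf 0) (.leaf 3)) (.node (.leaf 3) (.leaf 3))))) (.node (.node (.node (.node (.leaf 0) (.leaf 3)) (.node (.leaf 3) (.leaf 3))) (.node (.node (.leaf 0) (.leaf 3)) (.node (.leaf 0) (.leaf 3)))) (.node (.node (.node (.leaf 0) (.leaf 3)) (.node (.leaf 3) (.leaf 3))) (.node (.node (.leaf 3) (.leaf 3)) (.node (.leaf 3) (.leaf 3)))))) (.node (.node (.node (.node (.node (.leaf 0) (.leaf 3)) (.node (.leaf 3) (.leaf 3))) (.node (.node (.leaf 0) (.leaf 3)) (.node (.leaf 0) (.leaf 3)))) (.node (.node (.node (.leaf 0) (.leaf 3)) (.node (.leaf 3) (.leaf 0))) (.node (.node (.leaf 0) (.leaf 3)) (.node (.leaf 3) (.leaf 3))))) (.node (.node (.node (.node (.leaf 0) (.leaf 3)) (.node (.leaf 3) (.leaf 3))) (.node (.node (.leaf 3) (.leaf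 3)) (.node (.leaf 3) (.leaf 3)))) (.node (.node (.node (.leaf 0) (.leaf 3)) (.node (.leaf 0) (.leaf 0))) (.node (.node (.leaf 3) (.leaf 3)) (.node (.leaf 0) (.leaf 3)))))))

def twoKind28 : Janko.Tree (ℕ) :=
  (.node (.node (.node (.node (.node (.node (.node (.leaf 0) (.leaf 3)) (.leaf 3)) (.node (.leaf 0) (.leaf 3))) (.node (.node (.leaf 3) (.leaf 3)) (.node (.leaf 3) (.leaf 3)))) (.node (.node (.node (.leaf 0) (.leaf 3)) (.node (.leaf 3) (.leaf 3))) (.node (.node (.leaf 3) (.leaf 3)) (.node (.leaf 3) (.leaf 3))))) (.node (.node (.node (.node (.leaf 3) (.leaf 3)) (.node (.leaf 3) (.leaf 3))) (.node (.node (.leaf 0) (.leaf 3)) (.node (.leaf 3) (.leaf 3)))) (.node (.node (.node (.leaf 3) (.leaf 0)) (.node (.leaf 3) (.leaf 3))) (.node (.node (.leaf 0) (.leaf 3)) (.node (.leaf 0) (.leaf 3)))))) (.node (.node (.node (.node (.node (.leaf 0) (.leaf 3)) (.node (.leaf 3) (.leaf 3))) (.node (.node (.leaf 0) (.leaf 3)) (.node (.leaf 3) (.leaf 3)))) (.node (.node (.node (.leaf 0) (.leaf 3)) (.node (.leaf 3) (.leaf 3)))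 (.node (.node (.leaf 3) (.leaf 3)) (.node (.leaf 3) (.leaf 3))))) (.node (.node (.node (.node (.leaf 0) (.leaf 3)) (.node (.leaf 3) (.leaf 3))) (.node (.node (.leaf 0) (.leaf 3)) (.node (.leaf 3) (.leaf 3)))) (.node (.node (.node (.leaf 0) (.leaf 3)) (.node (.leaf 3) (.leaf 3))) (.node (.node (.leaf 3) (.leaf 3)) (.node (.leaf 3) (.leaf 3)))))))

def twoKind29 : Janko.Tree (ℕ) :=
  (.node (.node (.node (.node (.node (.node (.node (.leaf 0) (.leaf 3)) (.leaf 3)) (.node (.leaf 0) (.leaf 0))) (.node (.node (.leaf 3) (.leaf 3)) (.node (.leaf 0) (.leaf 3)))) (.node (.node (.node (.leaf 3) (.leaf 3)) (.node (.leaf 3) (.leaf 3))) (.node (.node (.leaf 0) (.leaf 3)) (.node (.leaf 3) (.leaf 3))))) (.node (.node (.node (.node (.leaf 3) (.leaf 3)) (.node (.leaf 0) (.leaf 3))) (.node (.node (.leaf 0) (.leaf 3)) (.node (.leaf 3) (.leaf 3)))) (.node (.node (.node (.leaf 3) (.leaf 3)) (.node (.leaf 0) (.leaf 3))) (.node (.node (.leaf 3) (.leaf 3)) (.node (.leaf 3) (.leaf 3)))))) (.node (.node (.node (.node (.node (.leaf 3) (.leaf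 3)) (.node (.leaf 3) (.leaf 0))) (.node (.node (.leaf 0) (.leaf 3)) (.node (.leaf 0) (.leaf 3)))) (.node (.node (.node (.leaf 0) (.leaf 3)) (.node (.leaf 0) (.leaf 3))) (.node (.node (.leaf 3) (.leaf 3)) (.node (.leaf 0) (.leaf 3))))) (.node (.node (.node (.node (.leaf 3) (.leaf 3)) (.node (.leaf 3) (.leaf 3))) (.node (.node (.leaf 3) (.leaf 3)) (.node (.leaf 0) (.leaf 3)))) (.node (.node (.node (.leaf 0) (.leaf 0)) (.node (.leaf 3) (.leaf 3))) (.node (.node (.leaf 3) (.leaf 0)) (.node (.leaf 3) (.leaf 3)))))))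

def twoKind30 : Janko.Tree (ℕ) :=
  (.node (.node (.node (.node (.node (.node (.node (.leaf 0) (.leaf 3)) (.leaf 3)) (.node (.leaf 0) (.leaf 3))) (.node (.node (.leaf 0) (.leaf 3)) (.node (.leaf 3) (.leaf 3)))) (.node (.node (.node (.leaf 3) (.leaf 3)) (.node (.leaf 3) (.leaf 3))) (.node (.node (.leaf 3) (.leaf 3)) (.node (.leaf 3) (.leaf 3))))) (.node (.node (.node (.node (.leaf 3) (.leaf 3)) (.node (.leaf 3) (.leaf 3))) (.node (.node (.leaf 3) (.leaf 3)) (.node (.leaf 3) (.leaf 3)))) (.node (.node (.node (.leaf 3) (.leaf 3)) (.node (.leaf 0) (.leaf 3))) (.node (.node (.leaf 0) (.leaf 0)) (.node (.leaf 3) (.leaf 3)))))) (.node (.node (.node (.node (.node (.leaf 0) (.leaf 3)) (.node (.leaf 3) (.leaf 3))) (.node (.node (.leaf 0) (.leaf 3)) (.node (.leaf 3) (.leaf 3)))) (.node (.node (.node (.leaf 0) (.leaf 3)) (.node (.leaf 3) (.leaf 3))) (.node (.node (.leaf 3) (.leaf 3)) (.node (.leaf 3) (.leaf 3))))) (.node (.node (.node (.node (.leaf 3) (.leaf 3)) (.node (.leaf 0) (.leaf 3))) (.node (.node (.leaf 3) (.leaf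 3)) (.node (.leaf 3) (.leaf 3)))) (.node (.node (.node (.leaf 0) (.leaf 3)) (.node (.leaf 0) (.leaf 3))) (.node (.node (.leaf 0) (.leaf 3)) (.node (.leaf 3) (.leaf 3)))))))

def twoKind31 : Janko.Tree (ℕ) :=
  (.node (.node (.node (.node (.node (.node (.node (.leaf 0) (.leaf 3)) (.leaf 3)) (.node (.leaf 0) (.leaf 3))) (.node (.node (.leaf 0) (.leaf 3)) (.node (.leaf 0) (.leaf 3)))) (.node (.node (.node (.leaf 3) (.leaf 3)) (.node (.leaf 3) (.leaf 3))) (.node (.node (.leaf 0) (.leaf 3)) (.node (.leaf 3) (.leaf 3))))) (.node (.node (.node (.node (.leaf 0) (.leaf 3)) (.node (.leaf 3) (.leaf 3))) (.node (.node (.leaf 0) (.leaf 3)) (.node (.leaf 0) (.leaf 3)))) (.node (.node (.node (.leaf 3) (.leaf 0)) (.node (.leaf 3) (.leaf 3))) (.node (.node (.leaf 3) (.leaf 3)) (.node (.leaf 3) (.leaf 3)))))) (.node (.node (.node (.node (.node (.leaf 0) (.leaf 3)) (.node (.leaf 0) (.leaf 0))) (.node (.node (.leaf 0) (.leaf 3)) (.node (.leaf 3) (.leaf 3)))) (.node (.node (.node (.leaf 3) (.leaf 3)) (.node (.leaf 3) (.leaf 3)))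 (.node (.node (.leaf 3) (.leaf 3)) (.node (.leaf 3) (.leaf 3))))) (.node (.node (.node (.node (.leaf 0) (.leaf 3)) (.node (.leaf 3) (.leaf 3))) (.node (.node (.leaf 0) (.leaf 3)) (.node (.leaf 3) (.leaf 3)))) (.node (.node (.node (.leaf 3) (.leaf 3)) (.node (.leaf 0) (.leaf 3))) (.node (.node (.leaf 3) (.leaf 3)) (.node (.leaf 3) (.leaf 3)))))))

def twoKind32 : Janko.Tree (ℕ) :=
  (.node (.node (.node (.node (.node (.node (.node (.leaf 3) (.leaf 3)) (.leaf 0)) (.node (.leaf 3) (.leaf 3))) (.node (.node (.leaf 3) (.leaf 3)) (.node (.leaf 3) (.leaf 3)))) (.node (.node (.node (.leaf 0) (.leaf 3)) (.node (.leaf 3) (.leaf 3))) (.node (.node (.leaf 3) (.leaf 3)) (.node (.leaf 3) (.leaf 3))))) (.node (.node (.node (.node (.leaf 3) (.leaf 0)) (.node (.leaf 3) (.leaf 0))) (.node (.node (.leaf 0) (.leaf 3)) (.node (.leaf 0) (.leaf 3)))) (.node (.node (.node (.leaf 3) (.leaf 3)) (.node (.leaf 3) (.leaf 3))) (.node (.node (.leaf 3) (.leaf 3)) (.node (.leaf 3) (.leaf 3)))))) (.node (.node (.node (.node (.node (.leaf 3) (.leaf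 3)) (.node (.leaf 0) (.leaf 3))) (.node (.node (.leaf 3) (.leaf 0)) (.node (.leaf 3) (.leaf 3)))) (.node (.node (.node (.leaf 3) (.leaf 0)) (.node (.leaf 3) (.leaf 3))) (.node (.node (.leaf 3) (.leaf 3)) (.node (.leaf 3) (.leaf 3))))) (.node (.node (.node (.node (.leaf 0) (.leaf 3)) (.node (.leaf 3) (.leaf 3))) (.node (.node (.leaf 3) (.leaf 3)) (.node (.leaf 3) (.leaf 3)))) (.node (.node (.node (.leaf 3) (.leaf 3)) (.node (.leaf 3) (.leaf 3))) (.node (.node (.leaf 3) (.leaf 3)) (.node (.leaf 0) (.leaf 3)))))))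

def twoKind33 : Janko.Tree (ℕ) :=
  (.node (.node (.node (.node (.node (.node (.node (.leaf 0) (.leaf 3)) (.leaf 0)) (.node (.leaf 3) (.leaf 3))) (.node (.node (.leaf 0) (.leaf 3)) (.node (.leaf 3) (.leaf 3)))) (.node (.node (.node (.leaf 0) (.leaf 3)) (.node (.leaf 3) (.leaf 3))) (.node (.node (.leaf 0) (.leaf 3)) (.node (.leaf 3) (.leaf 3))))) (.node (.node (.node (.node (.leaf 0) (.leaf 3)) (.node (.leaf 3) (.leaf 3))) (.node (.node (.leaf 0) (.leaf 3)) (.node (.leaf 0) (.leaf 3)))) (.node (.node (.node (.leaf 0) (.leaf 3)) (.node (.leaf 3) (.leaf 3))) (.node (.node (.leaf 0) (.leaf 3)) (.node (.leaf 0) (.leaf 3)))))) (.node (.node (.node (.node (.node (.leaf 0) (.leaf 0)) (.node (.leaf 3) (.leaf 3))) (.node (.node (.leaf 0) (.leaf 3)) (.node (.leaf 0) (.leaf 3)))) (.node (.node (.node (.leaf 0) (.leaf 3)) (.node (.leaf 3) (.leaf 3))) (.node (.node (.leaf 3) (.leaf 3)) (.node (.leaf 3) (.leaf 3))))) (.node (.node (.node (.node (.leaf 0) (.leaf 3)) (.node (.leaf 0) (.leaf 3))) (.node (.node (.leaf 0) (.leaf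 3)) (.node (.leaf 3) (.leaf 3)))) (.node (.node (.node (.leaf 0) (.leaf 3)) (.node (.leaf 3) (.leaf 3))) (.node (.node (.leaf 0) (.leaf 3)) (.node (.leaf 3) (.leaf 3)))))))

def twoKind34 : Janko.Tree (ℕ) :=
  (.node (.node (.node (.node (.node (.node (.node (.leaf 0) (.leaf 3)) (.leaf 3)) (.node (.leaf 3) (.leaf 3))) (.node (.node (.leaf 3) (.leaf 3)) (.node (.leaf 3) (.leaf 3)))) (.node (.node (.node (.leaf 0) (.leaf 3)) (.node (.leaf 3) (.leaf 3))) (.node (.node (.leaf 3) (.leaf 3)) (.node (.leaf 3) (.leaf 3))))) (.node (.node (.node (.node (.leaf 3) (.leaf 3)) (.node (.leaf 3) (.leaf 3))) (.node (.node (.leaf 0) (.leaf 3)) (.node (.leaf 0) (.leaf 3)))) (.node (.node (.node (.leaf 3) (.leaf 3)) (.node (.leaf 3) (.leaf 3))) (.node (.node (.leaf 3) (.leaf 3)) (.node (.leaf 3) (.leaf 3)))))) (.node (.node (.node (.node (.node (.leaf 3) (.leaf 0)) (.node (.leaf 3) (.leaf 3))) (.node (.node (.leaf 0) (.leaf 3)) (.node (.leaf 3) (.leaf 3)))) (.node (.node (.node (.leaf 3) (.leaf 3)) (.node (.leaf 3) (.leaf 3)))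 (.node (.node (.leaf 3) (.leaf 3)) (.node (.leaf 3) (.leaf 3))))) (.node (.node (.node (.node (.leaf 0) (.leaf 3)) (.node (.leaf 3) (.leaf 3))) (.node (.node (.leaf 3) (.leaf 3)) (.node (.leaf 3) (.leaf 3)))) (.node (.node (.node (.leaf 3) (.leaf 3)) (.node (.leaf 3) (.leaf 3))) (.node (.node (.leaf 3) (.leaf 3)) (.node (.leaf 3) (.leaf 3)))))))

def twoKind35 : Janko.Tree (ℕ) :=
  (.node (.node (.node (.node (.node (.node (.node (.leaf 0) (.leaf 3)) (.leaf 3)) (.node (.leaf 0) (.leaf 3))) (.node (.node (.leaf 0) (.leaf 3)) (.node (.leaf 0) (.leaf 3)))) (.node (.node (.node (.leaf 0) (.leaf 3)) (.node (.leaf 3) (.leaf 3))) (.node (.node (.leaf 3) (.leaf 3)) (.node (.leaf 3) (.leaf 3))))) (.node (.node (.node (.node (.leaf 0) (.leaf 3)) (.node (.leaf 0) (.leaf 3))) (.node (.node (.leaf 0) (.leaf 3)) (.node (.leaf 0) (.leaf 3)))) (.node (.node (.node (.leaf 0) (.leaf 3)) (.node (.leaf 3) (.leaf 3))) (.node (.node (.leaf 0) (.leaf 0)) (.node (.leaf 0) (.leaf 3)))))) (.node (.node (.node (.node (.node (.leaf 0) (.leaf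 3)) (.node (.leaf 3) (.leaf 0))) (.node (.node (.leaf 0) (.leaf 3)) (.node (.leaf 0) (.leaf 3)))) (.node (.node (.node (.leaf 0) (.leaf 3)) (.node (.leaf 3) (.leaf 0))) (.node (.node (.leaf 0) (.leaf 3)) (.node (.leaf 0) (.leaf 3))))) (.node (.node (.node (.node (.leaf 0) (.leaf 3)) (.node (.leaf 0) (.leaf 3))) (.node (.node (.leaf 0) (.leaf 3)) (.node (.leaf 0) (.leaf 3)))) (.node (.node (.node (.leaf 0) (.leaf 3)) (.node (.leaf 0) (.leaf 3))) (.node (.node (.leaf 0) (.leaf 3)) (.node (.leaf 3) (.leaf 3)))))))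

def twoKind36 : Janko.Tree (ℕ) :=
  (.node (.node (.node (.node (.node (.node (.node (.leaf 0) (.leaf 3)) (.leaf 3)) (.node (.leaf 0) (.leaf 3))) (.node (.node (.leaf 3) (.leaf 0)) (.node (.leaf 3) (.leaf 3)))) (.node (.node (.node (.leaf 3) (.leaf 3)) (.node (.leaf 3) (.leaf 3))) (.node (.node (.leaf 3) (.leaf 3)) (.node (.leaf 0) (.leaf 3))))) (.node (.node (.node (.node (.leaf 0) (.leaf 0)) (.node (.leaf 3) (.leaf 3))) (.node (.node (.leaf 3) (.leaf 3)) (.node (.leaf 3) (.leaf 3)))) (.node (.node (.node (.leaf 0) (.leaf 3)) (.node (.leaf 3) (.leaf 3))) (.node (.node (.leaf 0) (.leaf 3)) (.node (.leaf 3) (.leaf 3)))))) (.node (.node (.node (.node (.node (.leaf 0) (.leaf 3)) (.node (.leaf 3) (.leaf 3))) (.node (.node (.leaf 0) (.leaf 3)) (.node (.leaf 3) (.leaf 3)))) (.node (.node (.node (.leaf 0) (.leaf 3)) (.node (.leaf 3) (.leaf 3))) (.node (.node (.leaf 0) (.leaf 3)) (.node (.leaf 0) (.leaf 3))))) (.node (.node (.node (.node (.leaf 3) (.leaf 3)) (.node (.leaf 0) (.leaf 3))) (.node (.node (.leaf 3) (.leaf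 3)) (.node (.leaf 3) (.leaf 3)))) (.node (.node (.node (.leaf 3) (.leaf 3)) (.node (.leaf 0) (.leaf 3))) (.node (.node (.leaf 0) (.leaf 3)) (.node (.leaf 3) (.leaf 3)))))))

def twoKind37 : Janko.Tree (ℕ) :=
  (.node (.node (.node (.node (.node (.node (.node (.leaf 0) (.leaf 3)) (.leaf 3)) (.node (.leaf 3) (.leaf 3))) (.node (.node (.leaf 3) (.leaf 3)) (.node (.leaf 0) (.leaf 3)))) (.node (.node (.node (.leaf 0) (.leaf 3)) (.node (.leaf 0) (.leaf 3))) (.node (.node (.leaf 0) (.leaf 3)) (.node (.leaf 0) (.leaf 3))))) (.node (.node (.node (.node (.leaf 0) (.leaf 3)) (.node (.leaf 0) (.leaf 3))) (.node (.node (.leaf 0) (.leaf 3)) (.node (.leaf 3) (.leaf 3)))) (.node (.node (.node (.leaf 0) (.leaf 3)) (.node (.leaf 3) (.leaf 3))) (.node (.node (.leaf 3) (.leaf 3)) (.node (.leaf 3) (.leaf 3)))))) (.node (.node (.node (.node (.node (.leaf 0) (.leaf 3)) (.node (.leaf 3) (.leaf 3))) (.node (.node (.leaf 3) (.leaf 3)) (.node (.leaf 3) (.leaf 3)))) (.node (.node (.node (.leaf 3) (.leaf 3)) (.node (.leaf 3) (.leaf 3)))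 (.node (.node (.leaf 3) (.leaf 0)) (.node (.leaf 3) (.leaf 3))))) (.node (.node (.node (.node (.leaf 3) (.leaf 3)) (.node (.leaf 0) (.leaf 3))) (.node (.node (.leaf 3) (.leaf 3)) (.node (.leaf 3) (.leaf 3)))) (.node (.node (.node (.leaf 3) (.leaf 3)) (.node (.leaf 3) (.leaf 3))) (.node (.node (.leaf 3) (.leaf 3)) (.node (.leaf 3) (.leaf 3)))))))

def twoKind38 : Janko.Tree (ℕ) :=
  (.node (.node (.node (.node (.node (.node (.node (.leaf 3) (.leaf 3)) (.leaf 3)) (.node (.leaf 3) (.leaf 3))) (.node (.node (.leaf 3) (.leaf 3)) (.node (.leaf 3) (.leaf 3)))) (.node (.node (.node (.leaf 3) (.leaf 3)) (.node (.leaf 3) (.leaf 3))) (.node (.node (.leaf 3) (.leaf 3)) (.node (.leaf 0) (.leaf 3))))) (.node (.node (.node (.node (.leaf 0) (.leaf 3)) (.node (.leaf 3) (.leaf 3))) (.node (.node (.leaf 0) (.leaf 3)) (.node (.leaf 3) (.leaf 3)))) (.node (.node (.node (.leaf 0) (.leaf 3)) (.node (.leaf 3) (.leaf 3))) (.node (.node (.leaf 3) (.leaf 3)) (.node (.leaf 3) (.leaf 3)))))) (.node (.node (.node (.node (.node (.leaf 0) (.leaf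 3)) (.node (.leaf 3) (.leaf 3))) (.node (.node (.leaf 0) (.leaf 3)) (.node (.leaf 0) (.leaf 3)))) (.node (.node (.node (.leaf 0) (.leaf 3)) (.node (.leaf 3) (.leaf 3))) (.node (.node (.leaf 0) (.leaf 3)) (.node (.leaf 3) (.leaf 3))))) (.node (.node (.node (.node (.leaf 3) (.leaf 3)) (.node (.leaf 3) (.leaf 0))) (.node (.node (.leaf 0) (.leaf 3)) (.node (.leaf 3) (.leaf 3)))) (.node (.node (.node (.leaf 0) (.leaf 3)) (.node (.leaf 0) (.leaf 3))) (.node (.node (.leaf 0) (.leaf 3)) (.node (.leaf 3) (.leaf 3)))))))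

def twoKind39 : Janko.Tree (ℕ) :=
  (.node (.node (.node (.node (.node (.node (.node (.leaf 0) (.leaf 2)) (.leaf 3)) (.node (.leaf 3) (.leaf 0))) (.node (.node (.leaf 3) (.leaf 3)) (.node (.leaf 3) (.leaf 3)))) (.node (.node (.node (.leaf 0) (.leaf 3)) (.node (.leaf 3) (.leaf 3))) (.node (.node (.leaf 0) (.leaf 3)) (.node (.leaf 3) (.leaf 3))))) (.node (.node (.node (.node (.leaf 0) (.leaf 3)) (.node (.leaf 0) (.leaf 3))) (.node (.node (.leaf 0) (.leaf 3)) (.node (.leaf 3) (.leaf 3)))) (.node (.node (.node (.leaf 0) (.leaf 3)) (.node (.leaf 3) (.leaf 3))) (.node (.node (.leaf 3) (.leaf 3)) (.node (.leaf 3) (.leaf 3)))))) (.node (.node (.node (.node (.node (.leaf 3) (.leaf 3)) (.node (.leaf 0) (.leaf 3))) (.node (.node (.leaf 0) (.leaf 3)) (.node (.leaf 3) (.leaf 3)))) (.node (.node (.node (.leaf 0) (.leaf 3)) (.node (.leaf 3) (.leaf 3))) (.node (.node (.leaf 0) (.leaf 0)) (.node (.leaf 3) (.leaf 3))))) (.node (.node (.node (.node (.leaf 0) (.leaf 3)) (.node (.leaf 0) (.leaf 3))) (.node (.node (.leaf 0) (.leaf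 3)) (.node (.leaf 3) (.leaf 3)))) (.node (.node (.node (.leaf 3) (.leaf 0)) (.node (.leaf 3) (.leaf 3))) (.node (.node (.leaf 3) (.leaf 3)) (.node (.leaf 3) (.leaf 3)))))))

def twoKind40 : Janko.Tree (ℕ) :=
  (.node (.node (.node (.node (.node (.node (.node (.leaf 0) (.leaf 3)) (.leaf 3)) (.node (.leaf 0) (.leaf 3))) (.node (.node (.leaf 0) (.leaf 3)) (.node (.leaf 3) (.leaf 3)))) (.node (.node (.node (.leaf 0) (.leaf 3)) (.node (.leaf 3) (.leaf 3))) (.node (.node (.leaf 3) (.leaf 3)) (.node (.leaf 3) (.leaf 3))))) (.node (.node (.node (.node (.leaf 3) (.leaf 3)) (.node (.leaf 3) (.leaf 3))) (.node (.node (.leaf 0) (.leaf 3)) (.node (.leaf 3) (.leaf 3)))) (.node (.node (.node (.leaf 3) (.leaf 3)) (.node (.leaf 3) (.leaf 3))) (.node (.node (.leaf 0) (.leaf 3)) (.node (.leaf 3) (.leaf 3)))))) (.node (.node (.node (.node (.node (.leaf 3) (.leaf 3)) (.node (.leaf 3) (.leaf 3))) (.node (.node (.leaf 0) (.leaf 0)) (.node (.leaf 3) (.leaf 3)))) (.node (.node (.node (.leaf 0) (.leaf 3)) (.node (.leaf 3) (.leaf 3)))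 (.node (.node (.leaf 0) (.leaf 3)) (.node (.leaf 3) (.leaf 3))))) (.node (.node (.node (.node (.leaf 0) (.leaf 3)) (.node (.leaf 0) (.leaf 3))) (.node (.node (.leaf 0) (.leaf 3)) (.node (.leaf 3) (.leaf 3)))) (.node (.node (.node (.leaf 0) (.leaf 3)) (.node (.leaf 0) (.leaf 3))) (.node (.node (.leaf 3) (.leaf 3)) (.node (.leaf 3) (.leaf 3)))))))

def twoKind41 : Janko.Tree (ℕ) :=
  (.node (.node (.node (.node (.node (.node (.node (.leaf 0) (.leaf 3)) (.leaf 3)) (.node (.leaf 0) (.leaf 3))) (.node (.node (.leaf 3) (.leaf 3)) (.node (.leaf 3) (.leaf 3)))) (.node (.node (.node (.leaf 3) (.leaf 3)) (.node (.leaf 3) (.leaf 3))) (.node (.node (.leaf 0) (.leaf 3)) (.node (.leaf 0) (.leaf 3))))) (.node (.node (.node (.node (.leaf 0) (.leaf 3)) (.node (.leaf 0) (.leaf 3))) (.node (.node (.leaf 3) (.leaf 3)) (.node (.leaf 3) (.leaf 3)))) (.node (.node (.node (.leaf 0) (.leaf 3)) (.node (.leaf 0) (.leaf 3))) (.node (.node (.leaf 3) (.leaf 3)) (.node (.leaf 3) (.leaf 3)))))) (.node (.node (.node (.node (.node (.leaf 0) (.leaf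 0)) (.node (.leaf 3) (.leaf 3))) (.node (.node (.leaf 0) (.leaf 3)) (.node (.leaf 0) (.leaf 3)))) (.node (.node (.node (.leaf 0) (.leaf 3)) (.node (.leaf 3) (.leaf 3))) (.node (.node (.leaf 3) (.leaf 3)) (.node (.leaf 3) (.leaf 3))))) (.node (.node (.node (.node (.leaf 3) (.leaf 3)) (.node (.leaf 3) (.leaf 3))) (.node (.node (.leaf 3) (.leaf 3)) (.node (.leaf 3) (.leaf 3)))) (.node (.node (.node (.leaf 3) (.leaf 0)) (.node (.leaf 3) (.leaf 3))) (.node (.node (.leaf 3) (.leaf 3)) (.node (.leaf 3) (.leaf 3)))))))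

def twoKind42 : Janko.Tree (ℕ) :=
  (.node (.node (.node (.node (.node (.node (.node (.leaf 0) (.leaf 3)) (.leaf 3)) (.node (.leaf 3) (.leaf 3))) (.node (.node (.leaf 0) (.leaf 3)) (.node (.leaf 3) (.leaf 3)))) (.node (.node (.node (.leaf 0) (.leaf 3)) (.node (.leaf 3) (.leaf 3))) (.node (.node (.leaf 3) (.leaf 3)) (.node (.leaf 0) (.leaf 3))))) (.node (.node (.node (.node (.leaf 3) (.leaf 3)) (.node (.leaf 3) (.leaf 3))) (.node (.node (.leaf 3) (.leaf 3)) (.node (.leaf 3) (.leaf 3)))) (.node (.node (.node (.leaf 3) (.leaf 3)) (.node (.leaf 3) (.leaf 3))) (.node (.node (.leaf 3) (.leaf 0)) (.node (.leaf 3) (.leaf 3)))))) (.node (.node (.node (.node (.node (.leaf 0) (.leaf 3)) (.node (.leaf 3) (.leaf 3))) (.node (.node (.leaf 3) (.leaf 3)) (.node (.leaf 3) (.leaf 3)))) (.node (.node (.node (.leaf 3) (.leaf 3)) (.node (.leaf 3) (.leaf 3))) (.node (.node (.leaf 0) (.leaf 3)) (.node (.leaf 3) (.leaf 3))))) (.node (.node (.node (.node (.leaf 0) (.leaf 3)) (.node (.leaf 3) (.leaf 3))) (.node (.node (.leaf 0) (.leaf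 3)) (.node (.leaf 0) (.leaf 3)))) (.node (.node (.node (.leaf 0) (.leaf 3)) (.node (.leaf 3) (.leaf 3))) (.node (.node (.leaf 3) (.leaf 0)) (.node (.leaf 3) (.leaf 3)))))))

def twoKind43 : Janko.Tree (ℕ) :=
  (.node (.node (.node (.node (.node (.node (.node (.leaf 0) (.leaf 3)) (.leaf 0)) (.node (.leaf 0) (.leaf 3))) (.node (.node (.leaf 0) (.leaf 3)) (.node (.leaf 3) (.leaf 3)))) (.node (.node (.node (.leaf 0) (.leaf 3)) (.node (.leaf 3) (.leaf 3))) (.node (.node (.leaf 0) (.leaf 3)) (.node (.leaf 3) (.leaf 3))))) (.node (.node (.node (.node (.leaf 0) (.leaf 3)) (.node (.leaf 0) (.leaf 3))) (.node (.node (.leaf 0) (.leaf 3)) (.node (.leaf 3) (.leaf 3)))) (.node (.node (.node (.leaf 3) (.leaf 3)) (.node (.leaf 3) (.leaf 3))) (.node (.node (.leaf 0) (.leaf 0)) (.node (.leaf 3) (.leaf 3)))))) (.node (.node (.node (.node (.node (.leaf 0) (.leaf 3)) (.node (.leaf 3) (.leaf 3))) (.node (.node (.leaf 0) (.leaf 3)) (.node (.leaf 3) (.leaf 3)))) (.node (.node (.node (.leaf 0) (.leaf 3)) (.node (.leaf 0) (.leaf 0)))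 (.node (.node (.leaf 0) (.leaf 3)) (.node (.leaf 3) (.leaf 3))))) (.node (.node (.node (.node (.leaf 0) (.leaf 3)) (.node (.leaf 0) (.leaf 0))) (.node (.node (.leaf 0) (.leaf 3)) (.node (.leaf 3) (.leaf 3)))) (.node (.node (.node (.leaf 0) (.leaf 3)) (.node (.leaf 3) (.leaf 3))) (.node (.node (.leaf 3) (.leaf 3)) (.node (.leaf 3) (.leaf 3)))))))

def twoKind44 : Janko.Tree (ℕ) :=
  (.node (.node (.node (.node (.node (.node (.node (.leaf 3) (.leaf 3)) (.leaf 3)) (.node (.leaf 3) (.leaf 0))) (.node (.node (.leaf 3) (.leaf 3)) (.node (.leaf 0) (.leaf 3)))) (.node (.node (.node (.leaf 3) (.leaf 3)) (.node (.leaf 0) (.leaf 3))) (.node (.node (.leaf 3) (.leaf 3)) (.node (.leaf 3) (.leaf 3))))) (.node (.node (.node (.node (.leaf 3) (.leaf 3)) (.node (.leaf 0) (.leaf 3))) (.node (.node (.leaf 0) (.leaf 3)) (.node (.leaf 3) (.leaf 3)))) (.node (.node (.node (.leaf 3) (.leaf 3)) (.node (.leaf 3) (.leaf 3))) (.node (.node (.leaf 3) (.leaf 3)) (.node (.leaf 3) (.leaf 3)))))) (.node (.node (.node (.node (.node (.leaf 0) (.leaf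 3)) (.node (.leaf 3) (.leaf 3))) (.node (.node (.leaf 3) (.leaf 3)) (.node (.leaf 3) (.leaf 3)))) (.node (.node (.node (.leaf 0) (.leaf 3)) (.node (.leaf 0) (.leaf 3))) (.node (.node (.leaf 3) (.leaf 3)) (.node (.leaf 3) (.leaf 3))))) (.node (.node (.node (.node (.leaf 0) (.leaf 3)) (.node (.leaf 3) (.leaf 3))) (.node (.node (.leaf 3) (.leaf 3)) (.node (.leaf 3) (.leaf 3)))) (.node (.node (.node (.leaf 0) (.leaf 3)) (.node (.leaf 3) (.leaf 3))) (.node (.node (.leaf 3) (.leaf 0)) (.node (.leaf 3) (.leaf 3)))))))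

def twoKind45 : Janko.Tree (ℕ) :=
  (.node (.node (.node (.node (.node (.node (.node (.leaf 0) (.leaf 3)) (.leaf 3)) (.node (.leaf 3) (.leaf 3))) (.node (.node (.leaf 3) (.leaf 3)) (.node (.leaf 3) (.leaf 3)))) (.node (.node (.node (.leaf 0) (.leaf 3)) (.node (.leaf 3) (.leaf 3))) (.node (.node (.leaf 3) (.leaf 3)) (.node (.leaf 3) (.leaf 3))))) (.node (.node (.node (.node (.leaf 3) (.leaf 3)) (.node (.leaf 0) (.leaf 3))) (.node (.node (.leaf 0) (.leaf 3)) (.node (.leaf 3) (.leaf 3)))) (.node (.node (.node (.leaf 3) (.leaf 3)) (.node (.leaf 3) (.leaf 3))) (.node (.node (.leaf 0) (.leaf 3)) (.node (.leaf 3) (.leaf 3)))))) (.node (.node (.node (.node (.node (.leaf 0) (.leaf 3)) (.node (.leaf 3) (.leaf 3))) (.node (.node (.leaf 0) (.leaf 3)) (.node (.leaf 0) (.leaf 3)))) (.node (.node (.node (.leaf 0) (.leaf 3)) (.node (.leaf 3) (.leaf 3))) (.node (.node (.leaf 3) (.leaf 3)) (.node (.leaf 3) (.leaf 3))))) (.node (.node (.node (.node (.leaf 0) (.leaf 3)) (.node (.leaf 0) (.leaf 3))) (.node (.node (.leaf 3) (.leaf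 3)) (.node (.leaf 3) (.leaf 3)))) (.node (.node (.node (.leaf 3) (.leaf 3)) (.node (.leaf 3) (.leaf 3))) (.node (.node (.leaf 3) (.leaf 0)) (.node (.leaf 0) (.leaf 3)))))))

def twoKind46 : Janko.Tree (ℕ) :=
  (.node (.node (.node (.node (.node (.node (.node (.leaf 0) (.leaf 3)) (.leaf 3)) (.node (.leaf 3) (.leaf 3))) (.node (.node (.leaf 3) (.leaf 3)) (.node (.leaf 3) (.leaf 3)))) (.node (.node (.node (.leaf 0) (.leaf 3)) (.node (.leaf 3) (.leaf 3))) (.node (.node (.leaf 3) (.leaf 3)) (.node (.leaf 0) (.leaf 3))))) (.node (.node (.node (.node (.leaf 0) (.leaf 3)) (.node (.leaf 3) (.leaf 3))) (.node (.node (.leaf 0) (.leaf 3)) (.node (.leaf 3) (.leaf 3)))) (.node (.node (.node (.leaf 3) (.leaf 3)) (.node (.leaf 3) (.leaf 3))) (.node (.node (.leaf 3) (.leaf 3)) (.node (.leaf 3) (.leaf 3)))))) (.node (.node (.node (.node (.node (.leaf 3) (.leaf 0)) (.node (.leaf 3) (.leaf 3))) (.node (.node (.leaf 3) (.leaf 3)) (.node (.leaf 3) (.leaf 3)))) (.node (.node (.node (.leaf 3) (.leaf 3)) (.node (.leaf 3) (.leaf 3)))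 (.node (.node (.leaf 3) (.leaf 3)) (.node (.leaf 3) (.leaf 3))))) (.node (.node (.node (.node (.leaf 0) (.leaf 3)) (.node (.leaf 3) (.leaf 3))) (.node (.node (.leaf 3) (.leaf 3)) (.node (.leaf 3) (.leaf 3)))) (.node (.node (.node (.leaf 0) (.leaf 3)) (.node (.leaf 3) (.leaf 3))) (.node (.node (.leaf 3) (.leaf 3)) (.node (.leaf 0) (.leaf 3)))))))

def twoKind47 : Janko.Tree (ℕ) :=
  (.node (.node (.node (.node (.node (.node (.node (.leaf 0) (.leaf 3)) (.leaf 3)) (.node (.leaf 0) (.leaf 0))) (.node (.node (.leaf 0) (.leaf 3)) (.node (.leaf 3) (.leaf 3)))) (.node (.node (.node (.leaf 0) (.leaf 0)) (.node (.leaf 3) (.leaf 3))) (.node (.node (.leaf 0) (.leaf 0)) (.node (.leaf 3) (.leaf 3))))) (.node (.node (.node (.node (.leaf 0) (.leaf 3)) (.node (.leaf 0) (.leaf 3))) (.node (.node (.leaf 0) (.leaf 3)) (.node (.leaf 3) (.leaf 3)))) (.node (.node (.node (.leaf 0) (.leaf 3)) (.node (.leaf 3) (.leaf 3))) (.node (.node (.leaf 0) (.leaf 3)) (.node (.leaf 3) (.leaf 3)))))) (.node (.node (.node (.node (.node (.leaf 0) (.leaf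 3)) (.node (.leaf 3) (.leaf 0))) (.node (.node (.leaf 0) (.leaf 3)) (.node (.leaf 0) (.leaf 3)))) (.node (.node (.node (.leaf 3) (.leaf 3)) (.node (.leaf 0) (.leaf 3))) (.node (.node (.leaf 3) (.leaf 0)) (.node (.leaf 0) (.leaf 3))))) (.node (.node (.node (.node (.leaf 0) (.leaf 0)) (.node (.leaf 3) (.leaf 0))) (.node (.node (.leaf 0) (.leaf 3)) (.node (.leaf 3) (.leaf 3)))) (.node (.node (.node (.leaf 0) (.leaf 3)) (.node (.leaf 0) (.leaf 3))) (.node (.node (.leaf 3) (.leaf 3)) (.node (.leaf 3) (.leaf 3)))))))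

def twoKind48 : Janko.Tree (ℕ) :=
  (.node (.node (.node (.node (.node (.node (.node (.leaf 0) (.leaf 3)) (.leaf 3)) (.node (.leaf 0) (.leaf 3))) (.node (.node (.leaf 3) (.leaf 3)) (.node (.leaf 3) (.leaf 3)))) (.node (.node (.node (.leaf 0) (.leaf 3)) (.node (.leaf 3) (.leaf 3))) (.node (.node (.leaf 0) (.leaf 3)) (.node (.leaf 3) (.leaf 3))))) (.node (.node (.node (.node (.leaf 0) (.leaf 3)) (.node (.leaf 0) (.leaf 3))) (.node (.node (.leaf 3) (.leaf 3)) (.node (.leaf 0) (.leaf 3)))) (.node (.node (.node (.leaf 0) (.leaf 3)) (.node (.leaf 3) (.leaf 3))) (.node (.node (.leaf 3) (.leaf 3)) (.node (.leaf 3) (.leaf 3)))))) (.node (.node (.node (.node (.node (.leaf 0) (.leaf 3)) (.node (.leaf 3) (.leaf 3))) (.node (.node (.leaf 3) (.leaf 3)) (.node (.leaf 0) (.leaf 3)))) (.node (.node (.node (.leaf 3) (.leaf 3)) (.node (.leaf 3) (.leaf 3))) (.node (.node (.leaf 3) (.leaf 3)) (.node (.leaf 3) (.leaf 3))))) (.node (.node (.node (.node (.leaf 3) (.leaf 0)) (.node (.leaf 3) (.leaf 3))) (.node (.node (.leaf 3) (.leaf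 3)) (.node (.leaf 0) (.leaf 3)))) (.node (.node (.node (.leaf 3) (.leaf 3)) (.node (.leaf 0) (.leaf 3))) (.node (.node (.leaf 0) (.leaf 3)) (.node (.leaf 3) (.leaf 3)))))))

def twoKind49 : Janko.Tree (ℕ) :=
  (.node (.node (.node (.node (.node (.node (.node (.leaf 3) (.leaf 3)) (.leaf 3)) (.node (.leaf 3) (.leaf 3))) (.node (.node (.leaf 3) (.leaf 3)) (.node (.leaf 0) (.leaf 3)))) (.node (.node (.node (.leaf 3) (.leaf 3)) (.node (.leaf 3) (.leaf 3))) (.node (.node (.leaf 3) (.leaf 3)) (.node (.leaf 3) (.leaf 3))))) (.node (.node (.node (.node (.leaf 0) (.leaf 3)) (.node (.leaf 3) (.leaf 3))) (.node (.node (.leaf 0) (.leaf 3)) (.node (.leaf 3) (.leaf 3)))) (.node (.node (.node (.leaf 0) (.leaf 3)) (.node (.leaf 3) (.leaf 3))) (.node (.node (.leaf 3) (.leaf 3)) (.node (.leaf 0) (.leaf 3)))))) (.node (.node (.node (.node (.node (.leaf 0) (.leaf 3)) (.node (.leaf 3) (.leaf 3))) (.node (.node (.leaf 0) (.leaf 3)) (.node (.leaf 3) (.leaf 3)))) (.node (.node (.node (.leaf 3) (.leaf 3)) (.node (.leaf 0) (.leaf 3)))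 (.node (.node (.leaf 3) (.leaf 3)) (.node (.leaf 3) (.leaf 3))))) (.node (.node (.node (.node (.leaf 0) (.leaf 3)) (.node (.leaf 3) (.leaf 3))) (.node (.node (.leaf 3) (.leaf 3)) (.node (.leaf 3) (.leaf 3)))) (.node (.node (.node (.leaf 0) (.leaf 3)) (.node (.leaf 0) (.leaf 3))) (.node (.node (.leaf 3) (.leaf 3)) (.node (.leaf 3) (.leaf 3)))))))

def twoKind50 : Janko.Tree (ℕ) :=
  (.node (.node (.node (.node (.node (.node (.node (.leaf 0) (.leaf 3)) (.leaf 3)) (.node (.leaf 3) (.leaf 3))) (.node (.node (.leaf 0) (.leaf 3)) (.node (.leaf 3) (.leaf 3)))) (.node (.node (.node (.leaf 0) (.leaf 3)) (.node (.leaf 3) (.leaf 3))) (.node (.node (.leaf 0) (.leaf 0)) (.node (.leaf 3) (.leaf 3))))) (.node (.node (.node (.node (.leaf 0) (.leaf 3)) (.node (.leaf 3) (.leaf 3))) (.node (.node (.leaf 3) (.leaf 3)) (.node (.leaf 0) (.leaf 3)))) (.node (.node (.node (.leaf 3) (.leaf 3)) (.node (.leaf 3) (.leaf 3))) (.node (.node (.leaf 0) (.leaf 3)) (.node (.leaf 3) (.leaf 3)))))) (.node (.node (.node (.node (.node (.leaf 0) (.leaf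 0)) (.node (.leaf 3) (.leaf 3))) (.node (.node (.leaf 3) (.leaf 3)) (.node (.leaf 3) (.leaf 3)))) (.node (.node (.node (.leaf 3) (.leaf 3)) (.node (.leaf 3) (.leaf 3))) (.node (.node (.leaf 3) (.leaf 3)) (.node (.leaf 3) (.leaf 3))))) (.node (.node (.node (.node (.leaf 0) (.leaf 3)) (.node (.leaf 0) (.leaf 3))) (.node (.node (.leaf 0) (.leaf 3)) (.node (.leaf 3) (.leaf 3)))) (.node (.node (.node (.leaf 3) (.leaf 3)) (.node (.leaf 0) (.leaf 3))) (.node (.node (.leaf 0) (.leaf 0)) (.node (.leaf 3) (.leaf 3)))))))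

def twoKind51 : Janko.Tree (ℕ) :=
  (.node (.node (.node (.node (.node (.node (.node (.leaf 0) (.leaf 3)) (.leaf 3)) (.node (.leaf 0) (.leaf 3))) (.node (.node (.leaf 0) (.leaf 3)) (.node (.leaf 0) (.leaf 3)))) (.node (.node (.node (.leaf 0) (.leaf 0)) (.node (.leaf 3) (.leaf 3))) (.node (.node (.leaf 0) (.leaf 3)) (.node (.leaf 3) (.leaf 3))))) (.node (.node (.node (.node (.leaf 0) (.leaf 3)) (.node (.leaf 3) (.leaf 3))) (.node (.node (.leaf 0) (.leaf 3)) (.node (.leaf 0) (.leaf 3)))) (.node (.node (.node (.leaf 3) (.leaf 3)) (.node (.leaf 0) (.leaf 3))) (.node (.node (.leaf 0) (.leaf 3)) (.node (.leaf 3) (.leaf 3)))))) (.node (.node (.node (.node (.node (.leaf 0) (.leaf 0)) (.node (.leaf 3) (.leaf 3))) (.node (.node (.leaf 3) (.leaf 3)) (.node (.leaf 3) (.leaf 3)))) (.node (.node (.node (.leaf 0) (.leaf 3)) (.node (.leaf 3) (.leaf 3))) (.node (.node (.leaf 0) (.leaf 3)) (.node (.leaf 0) (.leaf 3))))) (.node (.node (.node (.node (.leaf 0) (.leaf 3)) (.node (.leaf 0) (.leaf 3))) (.node (.node (.leaf 0) (.leaf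 0)) (.node (.leaf 0) (.leaf 3)))) (.node (.node (.node (.leaf 3) (.leaf 3)) (.node (.leaf 3) (.leaf 3))) (.node (.node (.leaf 0) (.leaf 3)) (.node (.leaf 0) (.leaf 3)))))))

def twoKind52 : Janko.Tree (ℕ) :=
  (.node (.node (.node (.node (.node (.node (.node (.leaf 0) (.leaf 3)) (.leaf 3)) (.node (.leaf 3) (.leaf 3))) (.node (.node (.leaf 0) (.leaf 3)) (.node (.leaf 3) (.leaf 3)))) (.node (.node (.node (.leaf 3) (.leaf 3)) (.node (.leaf 3) (.leaf 3))) (.node (.node (.leaf 0) (.leaf 0)) (.node (.leaf 0) (.leaf 3))))) (.node (.node (.node (.node (.leaf 3) (.leaf 3)) (.node (.leaf 3) (.leaf 3))) (.node (.node (.leaf 3) (.leaf 3)) (.node (.leaf 3) (.leaf 3)))) (.node (.node (.node (.leaf 3) (.leaf 3)) (.node (.leaf 3) (.leaf 3))) (.node (.node (.leaf 3) (.leaf 3)) (.node (.leaf 3) (.leaf 3)))))) (.node (.node (.node (.node (.node (.leaf 3) (.leaf 3)) (.node (.leaf 0) (.leaf 3))) (.node (.node (.leaf 3) (.leaf 3)) (.node (.leaf 3) (.leaf 3)))) (.node (.node (.node (.leaf 3) (.leaf 3)) (.node (.leaf 3) (.leaf 3)))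 (.node (.node (.leaf 0) (.leaf 3)) (.node (.leaf 3) (.leaf 3))))) (.node (.node (.node (.node (.leaf 0) (.leaf 3)) (.node (.leaf 0) (.leaf 3))) (.node (.node (.leaf 3) (.leaf 3)) (.node (.leaf 3) (.leaf 3)))) (.node (.node (.node (.leaf 3) (.leaf 3)) (.node (.leaf 3) (.leaf 3))) (.node (.node (.leaf 3) (.leaf 3)) (.node (.leaf 0) (.leaf 3)))))))

def twoKind53 : Janko.Tree (ℕ) :=
  (.node (.node (.node (.node (.node (.node (.node (.leaf 0) (.leaf 3)) (.leaf 3)) (.node (.leaf 3) (.leaf 3))) (.node (.node (.leaf 0) (.leaf 3)) (.node (.leaf 0) (.leaf 0)))) (.node (.node (.node (.leaf 0) (.leaf 3)) (.node (.leaf 3) (.leaf 3))) (.node (.node (.leaf 0) (.leaf 3)) (.node (.leaf 0) (.leaf 3))))) (.node (.node (.node (.node (.leaf 0) (.leaf 3)) (.node (.leaf 3) (.leaf 3))) (.node (.node (.leaf 3) (.leaf 3)) (.node (.leaf 3) (.leaf 3)))) (.node (.node (.node (.leaf 0) (.leaf 3)) (.node (.leaf 0) (.leaf 3))) (.node (.node (.leaf 0) (.leaf 3)) (.node (.leaf 3) (.leaf 3)))))) (.node (.node (.node (.node (.node (.leaf 0) (.leaf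 3)) (.node (.leaf 3) (.leaf 3))) (.node (.node (.leaf 0) (.leaf 3)) (.node (.leaf 0) (.leaf 3)))) (.node (.node (.node (.leaf 3) (.leaf 3)) (.node (.leaf 3) (.leaf 3))) (.node (.node (.leaf 3) (.leaf 3)) (.node (.leaf 3) (.leaf 3))))) (.node (.node (.node (.node (.leaf 3) (.leaf 3)) (.node (.leaf 3) (.leaf 3))) (.node (.node (.leaf 3) (.leaf 3)) (.node (.leaf 3) (.leaf 3)))) (.node (.node (.node (.leaf 0) (.leaf 3)) (.node (.leaf 3) (.leaf 3))) (.node (.node (.leaf 0) (.leaf 3)) (.node (.leaf 3) (.leaf 3)))))))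

def twoKind54 : Janko.Tree (ℕ) :=
  (.node (.node (.node (.node (.node (.node (.node (.leaf 0) (.leaf 3)) (.leaf 3)) (.node (.leaf 3) (.leaf 3))) (.node (.node (.leaf 3) (.leaf 3)) (.node (.leaf 3) (.leaf 3)))) (.node (.node (.node (.leaf 3) (.leaf 3)) (.node (.leaf 3) (.leaf 0))) (.node (.node (.leaf 0) (.leaf 3)) (.node (.leaf 3) (.leaf 3))))) (.node (.node (.node (.node (.leaf 0) (.leaf 3)) (.node (.leaf 0) (.leaf 3))) (.node (.node (.leaf 0) (.leaf 3)) (.node (.leaf 0) (.leaf 3)))) (.node (.node (.node (.leaf 3) (.leaf 3)) (.node (.leaf 3) (.leaf 3))) (.node (.node (.leaf 3) (.leaf 3)) (.node (.leaf 3) (.leaf 3)))))) (.node (.node (.node (.node (.node (.leaf 0) (.leaf 3)) (.node (.leaf 0) (.leaf 3))) (.node (.node (.leaf 3) (.leaf 3)) (.node (.leaf 3) (.leaf 3)))) (.node (.node (.node (.leaf 3) (.leaf 3)) (.node (.leaf 3) (.leaf 3))) (.node (.node (.leaf 0) (.leaf 3)) (.node (.leaf 3) (.leaf 3))))) (.node (.node (.node (.node (.leaf 0) (.leaf 3)) (.node (.leaf 3) (.leaf 3))) (.node (.node (.leaf 3) (.leaf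 3)) (.node (.leaf 3) (.leaf 3)))) (.node (.node (.node (.leaf 3) (.leaf 3)) (.node (.leaf 3) (.leaf 3))) (.node (.node (.leaf 3) (.leaf 0)) (.node (.leaf 3) (.leaf 3)))))))

def twoKind55 : Janko.Tree (ℕ) :=
  (.node (.node (.node (.node (.node (.node (.node (.leaf 0) (.leaf 3)) (.leaf 3)) (.node (.leaf 0) (.leaf 3))) (.node (.node (.leaf 0) (.leaf 3)) (.node (.leaf 0) (.leaf 3)))) (.node (.node (.node (.leaf 0) (.leaf 3)) (.node (.leaf 3) (.leaf 3))) (.node (.node (.leaf 0) (.leaf 0)) (.node (.leaf 3) (.leaf 3))))) (.node (.node (.node (.node (.leaf 0) (.leaf 3)) (.node (.leaf 3) (.leaf 3))) (.node (.node (.leaf 3) (.leaf 3)) (.node (.leaf 3) (.leaf 3)))) (.node (.node (.node (.leaf 0) (.leaf 3)) (.node (.leaf 3) (.leaf 3))) (.node (.node (.leaf 0) (.leaf 0)) (.node (.leaf 0) (.leaf 3)))))) (.node (.node (.node (.node (.node (.leaf 0) (.leaf 0)) (.node (.leaf 3) (.leaf 3))) (.node (.node (.leaf 0) (.leaf 3)) (.node (.leaf 0) (.leaf 3)))) (.node (.node (.node (.leaf 0) (.leaf 3)) (.node (.leaf 3) (.leaf 3)))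 (.node (.node (.leaf 0) (.leaf 3)) (.node (.leaf 3) (.leaf 3))))) (.node (.node (.node (.node (.leaf 0) (.leaf 3)) (.node (.leaf 0) (.leaf 3))) (.node (.node (.leaf 0) (.leaf 3)) (.node (.leaf 3) (.leaf 3)))) (.node (.node (.node (.leaf 0) (.leaf 3)) (.node (.leaf 0) (.leaf 3))) (.node (.node (.leaf 0) (.leaf 3)) (.node (.leaf 3) (.leaf 3)))))))

def twoKind56 : Janko.Tree (ℕ) :=
  (.node (.node (.node (.node (.node (.node (.node (.leaf 3) (.leaf 3)) (.leaf 3)) (.node (.leaf 3) (.leaf 3))) (.node (.node (.leaf 0) (.leaf 3)) (.node (.leaf 0) (.leaf 3)))) (.node (.node (.node (.leaf 3) (.leaf 3)) (.node (.leaf 3) (.leaf 0))) (.node (.node (.leaf 3) (.leaf 3)) (.node (.leaf 3) (.leaf 3))))) (.node (.node (.node (.node (.leaf 0) (.leaf 3)) (.node (.leaf 3) (.leaf 3))) (.node (.node (.leaf 3) (.leaf 3)) (.node (.leaf 0) (.leaf 3)))) (.node (.node (.node (.leaf 0) (.leaf 3)) (.node (.leaf 3) (.leaf 3))) (.node (.node (.leaf 3) (.leaf 3)) (.node (.leaf 3) (.leaf 3)))))) (.node (.node (.node (.node (.node (.leaf 0) (.leaf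 0)) (.node (.leaf 3) (.leaf 3))) (.node (.node (.leaf 3) (.leaf 3)) (.node (.leaf 0) (.leaf 3)))) (.node (.node (.node (.leaf 0) (.leaf 3)) (.node (.leaf 3) (.leaf 3))) (.node (.node (.leaf 3) (.leaf 3)) (.node (.leaf 3) (.leaf 3))))) (.node (.node (.node (.node (.leaf 0) (.leaf 3)) (.node (.leaf 3) (.leaf 3))) (.node (.node (.leaf 0) (.leaf 3)) (.node (.leaf 3) (.leaf 3)))) (.node (.node (.node (.leaf 0) (.leaf 3)) (.node (.leaf 0) (.leaf 3))) (.node (.node (.leaf 0) (.leaf 3)) (.node (.leaf 3) (.leaf 3)))))))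

def twoKind57 : Janko.Tree (ℕ) :=
  (.node (.node (.node (.node (.node (.node (.node (.leaf 0) (.leaf 3)) (.leaf 3)) (.node (.leaf 3) (.leaf 3))) (.node (.node (.leaf 0) (.leaf 3)) (.node (.leaf 3) (.leaf 3)))) (.node (.node (.node (.leaf 0) (.leaf 3)) (.node (.leaf 3) (.leaf 0))) (.node (.node (.leaf 0) (.leaf 0)) (.node (.leaf 3) (.leaf 3))))) (.node (.node (.node (.node (.leaf 3) (.leaf 3)) (.node (.leaf 3) (.leaf 3))) (.node (.node (.leaf 3) (.leaf 3)) (.node (.leaf 3) (.leaf 3)))) (.node (.node (.node (.leaf 3) (.leaf 3)) (.node (.leaf 3) (.leaf 3))) (.node (.node (.leaf 3) (.leaf 0)) (.node (.leaf 3) (.leaf 3)))))) (.node (.node (.node (.node (.node (.leaf 3) (.leaf 3)) (.node (.leaf 3) (.leaf 3))) (.node (.node (.leaf 0) (.leaf 3)) (.node (.leaf 3) (.leaf 3)))) (.node (.node (.node (.leaf 0) (.leaf 3)) (.node (.leaf 0) (.leaf 3))) (.node (.node (.leaf 0) (.leaf 3)) (.node (.leaf 0) (.leaf 3))))) (.node (.node (.node (.node (.leaf 0) (.leaf 3)) (.node (.leaf 0) (.leaf 0))) (.node (.node (.leaf 3) (.leaf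 3)) (.node (.leaf 3) (.leaf 3)))) (.node (.node (.node (.leaf 0) (.leaf 3)) (.node (.leaf 0) (.leaf 3))) (.node (.node (.leaf 3) (.leaf 3)) (.node (.leaf 3) (.leaf 3)))))))

def twoKind58 : Janko.Tree (ℕ) :=
  (.node (.node (.node (.node (.node (.node (.node (.leaf 0) (.leaf 3)) (.leaf 3)) (.node (.leaf 3) (.leaf 3))) (.node (.node (.leaf 0) (.leaf 3)) (.node (.leaf 0) (.leaf 3)))) (.node (.node (.node (.leaf 0) (.leaf 3)) (.node (.leaf 3) (.leaf 3))) (.node (.node (.leaf 0) (.leaf 3)) (.node (.leaf 3) (.leaf 3))))) (.node (.node (.node (.node (.leaf 0) (.leaf 3)) (.node (.leaf 3) (.leaf 0))) (.node (.node (.leaf 3) (.leaf 3)) (.node (.leaf 0) (.leaf 3)))) (.node (.node (.node (.leaf 0) (.leaf 3)) (.node (.leaf 3) (.leaf 3))) (.node (.node (.leaf 3) (.leaf 3)) (.node (.leaf 3) (.leaf 3)))))) (.node (.node (.node (.node (.node (.leaf 0) (.leaf 3)) (.node (.leaf 3) (.leaf 3))) (.node (.node (.leaf 3) (.leaf 3)) (.node (.leaf 0) (.leaf 3)))) (.node (.node (.node (.leaf 0) (.leaf 3)) (.node (.leaf 3) (.leaf 3)))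 (.node (.node (.leaf 3) (.leaf 3)) (.node (.leaf 3) (.leaf 3))))) (.node (.node (.node (.node (.leaf 3) (.leaf 3)) (.node (.leaf 3) (.leaf 3))) (.node (.node (.leaf 3) (.leaf 3)) (.node (.leaf 3) (.leaf 3)))) (.node (.node (.node (.leaf 3) (.leaf 3)) (.node (.leaf 0) (.leaf 3))) (.node (.node (.leaf 0) (.leaf 3)) (.node (.leaf 3) (.leaf 3)))))))

def twoKind59 : Janko.Tree (ℕ) :=
  (.node (.node (.node (.node (.node (.node (.node (.leaf 0) (.leaf 3)) (.leaf 0)) (.node (.leaf 0) (.leaf 3))) (.node (.node (.leaf 3) (.leaf 3)) (.node (.leaf 0) (.leaf 3)))) (.node (.node (.node (.leaf 0) (.leaf 3)) (.node (.leaf 3) (.leaf 3))) (.node (.node (.leaf 0) (.leaf 3)) (.node (.leaf 0) (.leaf 3))))) (.node (.node (.node (.node (.leaf 3) (.leaf 3)) (.node (.leaf 3) (.leaf 3))) (.node (.node (.leaf 0) (.leaf 3)) (.node (.leaf 3) (.leaf 3)))) (.node (.node (.node (.leaf 3) (.leaf 3)) (.node (.leaf 3) (.leaf 3))) (.node (.node (.leaf 3) (.leaf 0)) (.node (.leaf 0) (.leaf 3)))))) (.node (.node (.node (.node (.node (.leaf 0) (.leaf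 3)) (.node (.leaf 3) (.leaf 0))) (.node (.node (.leaf 0) (.leaf 3)) (.node (.leaf 0) (.leaf 3)))) (.node (.node (.node (.leaf 0) (.leaf 3)) (.node (.leaf 3) (.leaf 3))) (.node (.node (.leaf 0) (.leaf 0)) (.node (.leaf 3) (.leaf 3))))) (.node (.node (.node (.node (.leaf 0) (.leaf 3)) (.node (.leaf 0) (.leaf 3))) (.node (.node (.leaf 3) (.leaf 3)) (.node (.leaf 3) (.leaf 3)))) (.node (.node (.node (.leaf 0) (.leaf 0)) (.node (.leaf 0) (.leaf 3))) (.node (.node (.leaf 3) (.leaf 3)) (.node (.leaf 3) (.leaf 3)))))))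

def twoKind60 : Janko.Tree (ℕ) :=
  (.node (.node (.node (.node (.node (.node (.node (.leaf 0) (.leaf 3)) (.leaf 3)) (.node (.leaf 0) (.leaf 3))) (.node (.node (.leaf 3) (.leaf 3)) (.node (.leaf 3) (.leaf 3)))) (.node (.node (.node (.leaf 0) (.leaf 3)) (.node (.leaf 3) (.leaf 3))) (.node (.node (.leaf 0) (.leaf 3)) (.node (.leaf 3) (.leaf 3))))) (.node (.node (.node (.node (.leaf 0) (.leaf 3)) (.node (.leaf 3) (.leaf 3))) (.node (.node (.leaf 3) (.leaf 3)) (.node (.leaf 3) (.leaf 3)))) (.node (.node (.node (.leaf 0) (.leaf 3)) (.node (.leaf 3) (.leaf 3))) (.node (.node (.leaf 3) (.leaf 3)) (.node (.leaf 3) (.leaf 3)))))) (.node (.node (.node (.node (.node (.leaf 0) (.leaf 3)) (.node (.leaf 3) (.leaf 3))) (.node (.node (.leaf 0) (.leaf 3)) (.node (.leaf 3) (.leaf 3)))) (.node (.node (.node (.leaf 3) (.leaf 3)) (.node (.leaf 3) (.leaf 3))) (.node (.node (.leaf 0) (.leaf 3)) (.node (.leaf 3) (.leaf 3))))) (.node (.node (.node (.node (.leaf 0) (.leaf 3)) (.node (.leaf 3) (.leaf 3))) (.node (.node (.leaf 3) (.leaf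 3)) (.node (.leaf 3) (.leaf 3)))) (.node (.node (.node (.leaf 0) (.leaf 3)) (.node (.leaf 3) (.leaf 3))) (.node (.node (.leaf 3) (.leaf 0)) (.node (.leaf 3) (.leaf 3)))))))

def twoKind61 : Janko.Tree (ℕ) :=
  (.node (.node (.node (.node (.node (.node (.node (.leaf 3) (.leaf 3)) (.leaf 3)) (.node (.leaf 3) (.leaf 3))) (.node (.node (.leaf 3) (.leaf 3)) (.node (.leaf 3) (.leaf 3)))) (.node (.node (.node (.leaf 3) (.leaf 3)) (.node (.leaf 0) (.leaf 3))) (.node (.node (.leaf 3) (.leaf 3)) (.node (.leaf 3) (.leaf 3))))) (.node (.node (.node (.node (.leaf 0) (.leaf 3)) (.node (.leaf 3) (.leaf 3))) (.node (.node (.leaf 0) (.leaf 3)) (.node (.leaf 0) (.leaf 3)))) (.node (.node (.node (.leaf 0) (.leaf 3)) (.node (.leaf 3) (.leaf 3))) (.node (.node (.leaf 0) (.leaf 0)) (.node (.leaf 3) (.leaf 3)))))) (.node (.node (.node (.node (.node (.leaf 0) (.leaf 3)) (.node (.leaf 0) (.leaf 3))) (.node (.node (.leaf 0) (.leaf 3)) (.node (.leaf 0) (.leaf 3)))) (.node (.node (.node (.leaf 3) (.leaf 3)) (.node (.leaf 3) (.leaf 3)))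 (.node (.node (.leaf 3) (.leaf 3)) (.node (.leaf 0) (.leaf 3))))) (.node (.node (.node (.node (.leaf 0) (.leaf 3)) (.node (.leaf 0) (.leaf 3))) (.node (.node (.leaf 0) (.leaf 3)) (.node (.leaf 3) (.leaf 3)))) (.node (.node (.node (.leaf 0) (.leaf 3)) (.node (.leaf 0) (.leaf 3))) (.node (.node (.leaf 0) (.leaf 3)) (.node (.leaf 3) (.leaf 3)))))))

def twoKind62 : Janko.Tree (ℕ) :=
  (.node (.node (.node (.node (.node (.node (.node (.leaf 0) (.leaf 3)) (.leaf 3)) (.node (.leaf 0) (.leaf 3))) (.node (.node (.leaf 3) (.leaf 0)) (.node (.leaf 0) (.leaf 3)))) (.node (.node (.node (.leaf 3) (.leaf 3)) (.node (.leaf 3) (.leaf 3))) (.node (.node (.leaf 0) (.leaf 3)) (.node (.leaf 0) (.leaf 3))))) (.node (.node (.node (.node (.leaf 3) (.leaf 3)) (.node (.leaf 0) (.leaf 3))) (.node (.node (.leaf 0) (.leaf 3)) (.node (.leaf 3) (.leaf 3)))) (.node (.node (.node (.leaf 3) (.leaf 3)) (.node (.leaf 0) (.leaf 3))) (.node (.node (.leaf 3) (.leaf 3)) (.node (.leaf 3) (.leaf 3)))))) (.node (.node (.node (.node (.node (.leaf 3) (.leaf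 3)) (.node (.leaf 3) (.leaf 3))) (.node (.node (.leaf 0) (.leaf 3)) (.node (.leaf 3) (.leaf 3)))) (.node (.node (.node (.leaf 3) (.leaf 3)) (.node (.leaf 3) (.leaf 3))) (.node (.node (.leaf 0) (.leaf 3)) (.node (.leaf 3) (.leaf 3))))) (.node (.node (.node (.node (.leaf 0) (.leaf 3)) (.node (.leaf 3) (.leaf 3))) (.node (.node (.leaf 3) (.leaf 3)) (.node (.leaf 3) (.leaf 3)))) (.node (.node (.node (.leaf 0) (.leaf 3)) (.node (.leaf 0) (.leaf 3))) (.node (.node (.leaf 3) (.leaf 3)) (.node (.leaf 3) (.leaf 3)))))))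

def twoKind63 : Janko.Tree (ℕ) :=
  (.node (.node (.node (.node (.node (.node (.node (.leaf 0) (.leaf 2)) (.leaf 3)) (.node (.leaf 0) (.leaf 3))) (.node (.node (.leaf 0) (.leaf 3)) (.node (.leaf 3) (.leaf 3)))) (.node (.node (.node (.leaf 0) (.leaf 3)) (.node (.leaf 0) (.leaf 3))) (.node (.node (.leaf 3) (.leaf 3)) (.node (.leaf 3) (.leaf 3))))) (.node (.node (.node (.node (.leaf 0) (.leaf 0)) (.node (.leaf 0) (.leaf 3))) (.node (.node (.leaf 0) (.leaf 3)) (.node (.leaf 0) (.leaf 3)))) (.node (.node (.node (.leaf 0) (.leaf 3)) (.node (.leaf 3) (.leaf 3))) (.node (.node (.leaf 3) (.leaf 3)) (.node (.leaf 3) (.leaf 3)))))) (.node (.node (.node (.node (.node (.leaf 0) (.leaf 3)) (.node (.leaf 3) (.leaf 3))) (.node (.node (.leaf 3) (.leaf 3)) (.node (.leaf 0) (.leaf 3)))) (.node (.node (.node (.leaf 0) (.leaf 3)) (.node (.leaf 3) (.leaf 3))) (.node (.node (.leaf 3) (.leaf 3)) (.node (.leaf 3) (.leaf 3))))) (.node (.node (.node (.node (.leaf 0) (.leaf 3)) (.node (.leaf 0) (.leaf 3))) (.node (.node (.leaf 0) (.leaf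 3)) (.node (.leaf 3) (.leaf 3)))) (.node (.node (.node (.leaf 0) (.leaf 3)) (.node (.leaf 0) (.leaf 3))) (.node (.node (.leaf 0) (.leaf 3)) (.node (.leaf 3) (.leaf 3)))))))

def twoKind64 : Janko.Tree (ℕ) :=
  (.node (.node (.node (.node (.node (.node (.node (.leaf 0) (.leaf 3)) (.leaf 3)) (.node (.leaf 3) (.leaf 0))) (.node (.node (.leaf 3) (.leaf 3)) (.node (.leaf 3) (.leaf 3)))) (.node (.node (.node (.leaf 0) (.leaf 3)) (.node (.leaf 3) (.leaf 3))) (.node (.node (.leaf 0) (.leaf 3)) (.node (.leaf 3) (.leaf 3))))) (.node (.node (.node (.node (.leaf 0) (.leaf 3)) (.node (.leaf 3) (.leaf 3))) (.node (.node (.leaf 0) (.leaf 3)) (.node (.leaf 0) (.leaf 3)))) (.node (.node (.node (.leaf 0) (.leaf 3)) (.node (.leaf 0) (.leaf 3))) (.node (.node (.leaf 3) (.leaf 3)) (.node (.leaf 3) (.leaf 3)))))) (.node (.node (.node (.node (.node (.leaf 0) (.leaf 3)) (.node (.leaf 3) (.leaf 3))) (.node (.node (.leaf 3) (.leaf 3)) (.node (.leaf 3) (.leaf 3)))) (.node (.node (.node (.leaf 3) (.leaf 3)) (.node (.leaf 3) (.leaf 3)))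 (.node (.node (.leaf 0) (.leaf 0)) (.node (.leaf 3) (.leaf 3))))) (.node (.node (.node (.node (.leaf 0) (.leaf 3)) (.node (.leaf 3) (.leaf 3))) (.node (.node (.leaf 0) (.leaf 3)) (.node (.leaf 3) (.leaf 3)))) (.node (.node (.node (.leaf 3) (.leaf 3)) (.node (.leaf 0) (.leaf 3))) (.node (.node (.leaf 3) (.leaf 3)) (.node (.leaf 0) (.leaf 3)))))))

def twoKind65 : Janko.Tree (ℕ) :=
  (.node (.node (.node (.node (.node (.node (.node (.leaf 0) (.leaf 3)) (.leaf 3)) (.node (.leaf 3) (.leaf 3))) (.node (.node (.leaf 0) (.leaf 3)) (.node (.leaf 3) (.leaf 3)))) (.node (.node (.node (.leaf 0) (.leaf 3)) (.node (.leaf 3) (.leaf 3))) (.node (.node (.leaf 0) (.leaf 0)) (.node (.leaf 0) (.leaf 3))))) (.node (.node (.node (.node (.leaf 0) (.leaf 3)) (.node (.leaf 3) (.leaf 3))) (.node (.node (.leaf 3) (.leaf 3)) (.node (.leaf 3) (.leaf 3)))) (.node (.node (.node (.leaf 0) (.leaf 3)) (.node (.leaf 0) (.leaf 3))) (.node (.node (.leaf 0) (.leaf 3)) (.node (.leaf 3) (.leaf 3)))))) (.node (.node (.node (.node (.node (.leaf 0) (.leaf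 3)) (.node (.leaf 3) (.leaf 3))) (.node (.node (.leaf 0) (.leaf 0)) (.node (.leaf 0) (.leaf 3)))) (.node (.node (.node (.leaf 0) (.leaf 3)) (.node (.leaf 3) (.leaf 3))) (.node (.node (.leaf 3) (.leaf 3)) (.node (.leaf 3) (.leaf 3))))) (.node (.node (.node (.node (.leaf 3) (.leaf 3)) (.node (.leaf 3) (.leaf 3))) (.node (.node (.leaf 3) (.leaf 3)) (.node (.leaf 3) (.leaf 3)))) (.node (.node (.node (.leaf 0) (.leaf 3)) (.node (.leaf 3) (.leaf 3))) (.node (.node (.leaf 0) (.leaf 3)) (.node (.leaf 3) (.leaf 3)))))))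

def twoKind66 : Janko.Tree (ℕ) :=
  (.node (.node (.node (.node (.node (.node (.node (.leaf 3) (.leaf 3)) (.leaf 3)) (.node (.leaf 0) (.leaf 3))) (.node (.node (.leaf 3) (.leaf 3)) (.node (.leaf 3) (.leaf 3)))) (.node (.node (.node (.leaf 3) (.leaf 3)) (.node (.leaf 3) (.leaf 3))) (.node (.node (.leaf 3) (.leaf 3)) (.node (.leaf 3) (.leaf 3))))) (.node (.node (.node (.node (.leaf 0) (.leaf 3)) (.node (.leaf 3) (.leaf 3))) (.node (.node (.leaf 0) (.leaf 3)) (.node (.leaf 0) (.leaf 3)))) (.node (.node (.node (.leaf 3) (.leaf 3)) (.node (.leaf 3) (.leaf 3))) (.node (.node (.leaf 0) (.leaf 3)) (.node (.leaf 3) (.leaf 3)))))) (.node (.node (.node (.node (.node (.leaf 0) (.leaf 3)) (.node (.leaf 3) (.leaf 3))) (.node (.node (.leaf 0) (.leaf 3)) (.node (.leaf 3) (.leaf 3)))) (.node (.node (.node (.leaf 3) (.leaf 3)) (.node (.leaf 3) (.leaf 3))) (.node (.node (.leaf 3) (.leaf 3)) (.node (.leaf 3) (.leaf 3))))) (.node (.node (.node (.node (.leaf 0) (.leaf 3)) (.node (.leaf 3) (.leaf 3))) (.node (.node (.leaf 3) (.leaf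 3)) (.node (.leaf 0) (.leaf 3)))) (.node (.node (.node (.leaf 3) (.leaf 3)) (.node (.leaf 0) (.leaf 3))) (.node (.node (.leaf 0) (.leaf 3)) (.node (.leaf 0) (.leaf 3)))))))

def twoKind67 : Janko.Tree (ℕ) :=
  (.node (.node (.node (.node (.node (.node (.node (.leaf 0) (.leaf 3)) (.leaf 3)) (.node (.leaf 0) (.leaf 3))) (.node (.node (.leaf 0) (.leaf 3)) (.node (.leaf 0) (.leaf 3)))) (.node (.node (.node (.leaf 0) (.leaf 3)) (.node (.leaf 0) (.leaf 3))) (.node (.node (.leaf 0) (.leaf 0)) (.node (.leaf 3) (.leaf 3))))) (.node (.node (.node (.node (.leaf 0) (.leaf 3)) (.node (.leaf 3) (.leaf 3))) (.node (.node (.leaf 0) (.leaf 3)) (.node (.leaf 3) (.leaf 3)))) (.node (.node (.node (.leaf 3) (.leaf 3)) (.node (.leaf 0) (.leaf 3))) (.node (.node (.leaf 0) (.leaf 3)) (.node (.leaf 3) (.leaf 3)))))) (.node (.node (.node (.node (.node (.leaf 0) (.leaf 3)) (.node (.leaf 3) (.leaf 3))) (.node (.node (.leaf 0) (.leaf 3)) (.node (.leaf 3) (.leaf 3)))) (.node (.node (.node (.leaf 3) (.leaf 3)) (.node (.leaf 3) (.leaf 3)))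 (.node (.node (.leaf 0) (.leaf 0)) (.node (.leaf 0) (.leaf 3))))) (.node (.node (.node (.node (.leaf 0) (.leaf 3)) (.node (.leaf 0) (.leaf 3))) (.node (.node (.leaf 3) (.leaf 3)) (.node (.leaf 0) (.leaf 3)))) (.node (.node (.node (.leaf 0) (.leaf 3)) (.node (.leaf 3) (.leaf 3))) (.node (.node (.leaf 0) (.leaf 3)) (.node (.leaf 3) (.leaf 3)))))))

def twoKind68 : Janko.Tree (ℕ) :=
  (.node (.node (.node (.node (.node (.node (.node (.leaf 0) (.leaf 3)) (.leaf 3)) (.node (.leaf 0) (.leaf 3))) (.node (.node (.leaf 0) (.leaf 3)) (.node (.leaf 0) (.leaf 3)))) (.node (.node (.node (.leaf 0) (.leaf 3)) (.node (.leaf 3) (.leaf 3))) (.node (.node (.leaf 0) (.leaf 3)) (.node (.leaf 3) (.leaf 3))))) (.node (.node (.node (.node (.leaf 0) (.leaf 3)) (.node (.leaf 3) (.leaf 3))) (.node (.node (.leaf 3) (.leaf 3)) (.node (.leaf 0) (.leaf 3)))) (.node (.node (.node (.leaf 3) (.leaf 3)) (.node (.leaf 3) (.leaf 3))) (.node (.node (.leaf 0) (.leaf 3)) (.node (.leaf 3) (.leaf 3)))))) (.node (.node (.node (.node (.node (.leaf 0) (.leaf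 3)) (.node (.leaf 3) (.leaf 3))) (.node (.node (.leaf 0) (.leaf 3)) (.node (.leaf 3) (.leaf 3)))) (.node (.node (.node (.leaf 3) (.leaf 3)) (.node (.leaf 3) (.leaf 3))) (.node (.node (.leaf 3) (.leaf 3)) (.node (.leaf 0) (.leaf 3))))) (.node (.node (.node (.node (.leaf 3) (.leaf 3)) (.node (.leaf 0) (.leaf 3))) (.node (.node (.leaf 3) (.leaf 3)) (.node (.leaf 0) (.leaf 3)))) (.node (.node (.node (.leaf 0) (.leaf 3)) (.node (.leaf 0) (.leaf 3))) (.node (.node (.leaf 3) (.leaf 3)) (.node (.leaf 3) (.leaf 3)))))))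

def twoKind69 : Janko.Tree (ℕ) :=
  (.node (.node (.node (.node (.node (.node (.node (.leaf 0) (.leaf 3)) (.leaf 3)) (.node (.leaf 3) (.leaf 3))) (.node (.node (.leaf 0) (.leaf 3)) (.node (.leaf 0) (.leaf 3)))) (.node (.node (.node (.leaf 0) (.leaf 3)) (.node (.leaf 0) (.leaf 3))) (.node (.node (.leaf 0) (.leaf 0)) (.node (.leaf 3) (.leaf 3))))) (.node (.node (.node (.node (.leaf 3) (.leaf 0)) (.node (.leaf 0) (.leaf 3))) (.node (.node (.leaf 0) (.leaf 3)) (.node (.leaf 3) (.leaf 3)))) (.node (.node (.node (.leaf 3) (.leaf 3)) (.node (.leaf 3) (.leaf 3))) (.node (.node (.leaf 3) (.leaf 3)) (.node (.leaf 3) (.leaf 3)))))) (.node (.node (.node (.node (.node (.leaf 3) (.leaf 3)) (.node (.leaf 3) (.leaf 3))) (.node (.node (.leaf 3) (.leaf 3)) (.node (.leaf 0) (.leaf 3)))) (.node (.node (.node (.leaf 0) (.leaf 3)) (.node (.leaf 3) (.leaf 3))) (.node (.node (.leaf 0) (.leaf 3)) (.node (.leaf 3) (.leaf 3))))) (.node (.node (.node (.node (.leaf 0) (.leaf 3)) (.node (.leaf 3) (.leaf 3))) (.node (.node (.leaf 0) (.leaf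 3)) (.node (.leaf 3) (.leaf 3)))) (.node (.node (.node (.leaf 3) (.leaf 3)) (.node (.leaf 0) (.leaf 3))) (.node (.node (.leaf 0) (.leaf 3)) (.node (.leaf 0) (.leaf 3)))))))

def twoKind70 : Janko.Tree (ℕ) :=
  (.node (.node (.node (.node (.node (.node (.node (.leaf 0) (.leaf 3)) (.leaf 3)) (.node (.leaf 3) (.leaf 3))) (.node (.node (.leaf 3) (.leaf 3)) (.node (.leaf 0) (.leaf 3)))) (.node (.node (.node (.leaf 0) (.leaf 3)) (.node (.leaf 3) (.leaf 3))) (.node (.node (.leaf 0) (.leaf 3)) (.node (.leaf 3) (.leaf 3))))) (.node (.node (.node (.node (.leaf 0) (.leaf 0)) (.node (.leaf 3) (.leaf 0))) (.node (.node (.leaf 3) (.leaf 3)) (.node (.leaf 3) (.leaf 3)))) (.node (.node (.node (.leaf 0) (.leaf 3)) (.node (.leaf 3) (.leaf 3))) (.node (.node (.leaf 3) (.leaf 3)) (.node (.leaf 3) (.leaf 3)))))) (.node (.node (.node (.node (.node (.leaf 0) (.leaf 3)) (.node (.leaf 3) (.leaf 3))) (.node (.node (.leaf 0) (.leaf 3)) (.node (.leaf 3) (.leaf 3)))) (.node (.node (.node (.leaf 3) (.leaf 3)) (.node (.leaf 3) (.leaf 3)))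 (.node (.node (.leaf 3) (.leaf 3)) (.node (.leaf 0) (.leaf 3))))) (.node (.node (.node (.node (.leaf 3) (.leaf 3)) (.node (.leaf 0) (.leaf 3))) (.node (.node (.leaf 0) (.leaf 3)) (.node (.leaf 3) (.leaf 3)))) (.node (.node (.node (.leaf 0) (.leaf 3)) (.node (.leaf 3) (.leaf 3))) (.node (.node (.leaf 3) (.leaf 3)) (.node (.leaf 3) (.leaf 3)))))))

def twoKind71 : Janko.Tree (ℕ) :=
  (.node (.node (.node (.node (.node (.node (.node (.leaf 0) (.leaf 3)) (.leaf 0)) (.node (.leaf 0) (.leaf 0))) (.node (.node (.leaf 3) (.leaf 0)) (.node (.leaf 3) (.leaf 3)))) (.node (.node (.node (.leaf 0) (.leaf 3)) (.node (.leaf 3) (.leaf 3))) (.node (.node (.leaf 0) (.leaf 3)) (.node (.leaf 3) (.leaf 3))))) (.node (.node (.node (.node (.leaf 0) (.leaf 3)) (.node (.leaf 3) (.leaf 3))) (.node (.node (.leaf 3) (.leaf 3)) (.node (.leaf 0) (.leaf 3)))) (.node (.node (.node (.leaf 0) (.leaf 3)) (.node (.leaf 3) (.leaf 3))) (.node (.node (.leaf 0) (.leaf 3)) (.node (.leaf 3) (.leaf 3)))))) (.node (.node (.node (.node (.node (.leaf 0) (.leaf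 3)) (.node (.leaf 3) (.leaf 3))) (.node (.node (.leaf 0) (.leaf 3)) (.node (.leaf 0) (.leaf 3)))) (.node (.node (.node (.leaf 3) (.leaf 3)) (.node (.leaf 3) (.leaf 3))) (.node (.node (.leaf 3) (.leaf 0)) (.node (.leaf 3) (.leaf 3))))) (.node (.node (.node (.node (.leaf 0) (.leaf 3)) (.node (.leaf 0) (.leaf 3))) (.node (.node (.leaf 3) (.leaf 3)) (.node (.leaf 3) (.leaf 3)))) (.node (.node (.node (.leaf 0) (.leaf 3)) (.node (.leaf 0) (.leaf 3))) (.node (.node (.leaf 0) (.leaf 3)) (.node (.leaf 3) (.leaf 3)))))))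

def twoKind72 : Janko.Tree (ℕ) :=
  (.node (.node (.node (.node (.node (.node (.node (.leaf 3) (.leaf 3)) (.leaf 3)) (.node (.leaf 3) (.leaf 3))) (.node (.node (.leaf 3) (.leaf 3)) (.node (.leaf 3) (.leaf 3)))) (.node (.node (.node (.leaf 3) (.leaf 3)) (.node (.leaf 3) (.leaf 3))) (.node (.node (.leaf 0) (.leaf 3)) (.node (.leaf 3) (.leaf 3))))) (.node (.node (.node (.node (.leaf 3) (.leaf 3)) (.node (.leaf 0) (.leaf 3))) (.node (.node (.leaf 3) (.leaf 3)) (.node (.leaf 3) (.leaf 3)))) (.node (.node (.node (.leaf 0) (.leaf 3)) (.node (.leaf 0) (.leaf 3))) (.node (.node (.leaf 0) (.leaf 3)) (.node (.leaf 3) (.leaf 3)))))) (.node (.node (.node (.node (.node (.leaf 0) (.leaf 3)) (.node (.leaf 3) (.leaf 3))) (.node (.node (.leaf 0) (.leaf 3)) (.node (.leaf 3) (.leaf 3)))) (.node (.node (.node (.leaf 0) (.leaf 3)) (.node (.leaf 3) (.leaf 3))) (.node (.node (.leaf 3) (.leaf 3)) (.node (.leaf 3) (.leaf 3))))) (.node (.node (.node (.node (.leaf 0) (.leaf 3)) (.node (.leaf 3) (.leaf 3))) (.node (.node (.leaf 0) (.leaf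 3)) (.node (.leaf 3) (.leaf 3)))) (.node (.node (.node (.leaf 0) (.leaf 0)) (.node (.leaf 0) (.leaf 3))) (.node (.node (.leaf 3) (.leaf 3)) (.node (.leaf 3) (.leaf 3)))))))

def twoKind73 : Janko.Tree (ℕ) :=
  (.node (.node (.node (.node (.node (.node (.node (.leaf 0) (.leaf 3)) (.leaf 3)) (.node (.leaf 0) (.leaf 3))) (.node (.node (.leaf 3) (.leaf 3)) (.node (.leaf 3) (.leaf 3)))) (.node (.node (.node (.leaf 0) (.leaf 3)) (.node (.leaf 3) (.leaf 3))) (.node (.node (.leaf 3) (.leaf 3)) (.node (.leaf 3) (.leaf 3))))) (.node (.node (.node (.node (.leaf 0) (.leaf 3)) (.node (.leaf 3) (.leaf 3))) (.node (.node (.leaf 0) (.leaf 3)) (.node (.leaf 0) (.leaf 3)))) (.node (.node (.node (.leaf 0) (.leaf 3)) (.node (.leaf 3) (.leaf 3))) (.node (.node (.leaf 0) (.leaf 3)) (.node (.leaf 0) (.leaf 3)))))) (.node (.node (.node (.node (.node (.leaf 0) (.leaf 3)) (.node (.leaf 0) (.leaf 3))) (.node (.node (.leaf 0) (.leaf 3)) (.node (.leaf 0) (.leaf 3)))) (.node (.node (.node (.leaf 3) (.leaf 3)) (.node (.leaf 0) (.leaf 3)))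 (.node (.node (.leaf 3) (.leaf 0)) (.node (.leaf 0) (.leaf 3))))) (.node (.node (.node (.node (.leaf 0) (.leaf 3)) (.node (.leaf 3) (.leaf 3))) (.node (.node (.leaf 3) (.leaf 3)) (.node (.leaf 3) (.leaf 3)))) (.node (.node (.node (.leaf 3) (.leaf 3)) (.node (.leaf 3) (.leaf 3))) (.node (.node (.leaf 3) (.leaf 3)) (.node (.leaf 3) (.leaf 3)))))))

def twoKind74 : Janko.Tree (ℕ) :=
  (.node (.node (.node (.node (.node (.node (.node (.leaf 0) (.leaf 3)) (.leaf 3)) (.node (.leaf 0) (.leaf 3))) (.node (.node (.leaf 3) (.leaf 3)) (.node (.leaf 3) (.leaf 3)))) (.node (.node (.node (.leaf 0) (.leaf 3)) (.node (.leaf 3) (.leaf 3))) (.node (.node (.leaf 0) (.leaf 3)) (.node (.leaf 3) (.leaf 3))))) (.node (.node (.node (.node (.leaf 3) (.leaf 3)) (.node (.leaf 3) (.leaf 0))) (.node (.node (.leaf 0) (.leaf 3)) (.node (.leaf 3) (.leaf 3)))) (.node (.node (.node (.leaf 0) (.leaf 3)) (.node (.leaf 3) (.leaf 3))) (.node (.node (.leaf 3) (.leaf 3)) (.node (.leaf 3) (.leaf 3)))))) (.node (.node (.node (.node (.node (.leaf 3) (.leaf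 3)) (.node (.leaf 3) (.leaf 3))) (.node (.node (.leaf 3) (.leaf 3)) (.node (.leaf 3) (.leaf 3)))) (.node (.node (.node (.leaf 0) (.leaf 3)) (.node (.leaf 3) (.leaf 3))) (.node (.node (.leaf 3) (.leaf 3)) (.node (.leaf 3) (.leaf 3))))) (.node (.node (.node (.node (.leaf 0) (.leaf 3)) (.node (.leaf 3) (.leaf 3))) (.node (.node (.leaf 0) (.leaf 3)) (.node (.leaf 3) (.leaf 3)))) (.node (.node (.node (.leaf 3) (.leaf 3)) (.node (.leaf 0) (.leaf 3))) (.node (.node (.leaf 0) (.leaf 3)) (.node (.leaf 3) (.leaf 3)))))))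

def twoKind75 : Janko.Tree (ℕ) :=
  (.node (.node (.node (.node (.node (.node (.node (.leaf 0) (.leaf 3)) (.leaf 3)) (.node (.leaf 3) (.leaf 3))) (.node (.node (.leaf 0) (.leaf 3)) (.node (.leaf 0) (.leaf 3)))) (.node (.node (.node (.leaf 0) (.leaf 3)) (.node (.leaf 3) (.leaf 3))) (.node (.node (.leaf 0) (.leaf 3)) (.node (.leaf 0) (.leaf 3))))) (.node (.node (.node (.node (.leaf 0) (.leaf 3)) (.node (.leaf 3) (.leaf 3))) (.node (.node (.leaf 3) (.leaf 3)) (.node (.leaf 3) (.leaf 3)))) (.node (.node (.node (.leaf 3) (.leaf 3)) (.node (.leaf 3) (.leaf 3))) (.node (.node (.leaf 0) (.leaf 3)) (.node (.leaf 3) (.leaf 3)))))) (.node (.node (.node (.node (.node (.leaf 0) (.leaf 0)) (.node (.leaf 0) (.leaf 3))) (.node (.node (.leaf 0) (.leaf 3)) (.node (.leaf 0) (.leaf 3)))) (.node (.node (.node (.leaf 3) (.leaf 0)) (.node (.leaf 3) (.leaf 3))) (.node (.node (.leaf 0) (.leaf 0)) (.node (.leaf 3) (.leaf 3))))) (.node (.node (.node (.node (.leaf 3) (.leaf 3)) (.node (.leaf 0) (.leaf 3))) (.node (.node (.leaf 0) (.leaf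 3)) (.node (.leaf 3) (.leaf 3)))) (.node (.node (.node (.leaf 3) (.leaf 0)) (.node (.leaf 0) (.leaf 3))) (.node (.node (.leaf 3) (.leaf 0)) (.node (.leaf 3) (.leaf 3)))))))

def twoKind76 : Janko.Tree (ℕ) :=
  (.node (.node (.node (.node (.node (.node (.node (.leaf 0) (.leaf 3)) (.leaf 3)) (.node (.leaf 3) (.leaf 3))) (.node (.node (.leaf 0) (.leaf 3)) (.node (.leaf 3) (.leaf 3)))) (.node (.node (.node (.leaf 0) (.leaf 3)) (.node (.leaf 3) (.leaf 3))) (.node (.node (.leaf 3) (.leaf 3)) (.node (.leaf 3) (.leaf 3))))) (.node (.node (.node (.node (.leaf 3) (.leaf 3)) (.node (.leaf 3) (.leaf 3))) (.node (.node (.leaf 3) (.leaf 3)) (.node (.leaf 3) (.leaf 3)))) (.node (.node (.node (.leaf 3) (.leaf 3)) (.node (.leaf 3) (.leaf 3))) (.node (.node (.leaf 0) (.leaf 3)) (.node (.leaf 3) (.leaf 3)))))) (.node (.node (.node (.node (.node (.leaf 3) (.leaf 0)) (.node (.leaf 3) (.leaf 3))) (.node (.node (.leaf 0) (.leaf 3)) (.node (.leaf 3) (.leaf 3)))) (.node (.node (.node (.leaf 3) (.leaf 3)) (.node (.leaf 3) (.leaf 3)))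 (.node (.node (.leaf 3) (.leaf 3)) (.node (.leaf 3) (.leaf 3))))) (.node (.node (.node (.node (.leaf 3) (.leaf 3)) (.node (.leaf 0) (.leaf 3))) (.node (.node (.leaf 3) (.leaf 3)) (.node (.leaf 3) (.leaf 3)))) (.node (.node (.node (.leaf 0) (.leaf 3)) (.node (.leaf 3) (.leaf 3))) (.node (.node (.leaf 3) (.leaf 3)) (.node (.leaf 3) (.leaf 3)))))))

def twoKind77 : Janko.Tree (ℕ) :=
  (.node (.node (.node (.node (.node (.node (.node (.leaf 0) (.leaf 3)) (.leaf 3)) (.node (.leaf 3) (.leaf 3))) (.node (.node (.leaf 3) (.leaf 3)) (.node (.leaf 3) (.leaf 3)))) (.node (.node (.node (.leaf 3) (.leaf 3)) (.node (.leaf 3) (.leaf 3))) (.node (.node (.leaf 3) (.leaf 3)) (.node (.leaf 3) (.leaf 3))))) (.node (.node (.node (.node (.leaf 0) (.leaf 3)) (.node (.leaf 3) (.leaf 0))) (.node (.node (.leaf 0) (.leaf 3)) (.node (.leaf 3) (.leaf 3)))) (.node (.node (.node (.leaf 0) (.leaf 3)) (.node (.leaf 3) (.leaf 3))) (.node (.node (.leaf 0) (.leaf 3)) (.node (.leaf 3) (.leaf 3)))))) (.node (.node (.node (.node (.node (.leaf 0) (.leaf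 3)) (.node (.leaf 0) (.leaf 3))) (.node (.node (.leaf 0) (.leaf 3)) (.node (.leaf 3) (.leaf 3)))) (.node (.node (.node (.leaf 0) (.leaf 3)) (.node (.leaf 3) (.leaf 3))) (.node (.node (.leaf 3) (.leaf 3)) (.node (.leaf 3) (.leaf 3))))) (.node (.node (.node (.node (.leaf 3) (.leaf 3)) (.node (.leaf 3) (.leaf 0))) (.node (.node (.leaf 0) (.leaf 3)) (.node (.leaf 3) (.leaf 3)))) (.node (.node (.node (.leaf 3) (.leaf 0)) (.node (.leaf 0) (.leaf 3))) (.node (.node (.leaf 3) (.leaf 3)) (.node (.leaf 3) (.leaf 3)))))))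

def twoKind78 : Janko.Tree (ℕ) :=
  (.node (.node (.node (.node (.node (.node (.leaf 3) (.leaf 3)) (.node (.leaf 3) (.leaf 0))) (.node (.node (.leaf 0) (.leaf 3)) (.node (.leaf 0) (.leaf 3)))) (.node (.node (.node (.leaf 3) (.leaf 3)) (.node (.leaf 3) (.leaf 3))) (.node (.node (.leaf 3) (.leaf 0)) (.node (.leaf 0) (.leaf 3))))) (.node (.node (.node (.node (.leaf 0) (.leaf 3)) (.node (.leaf 3) (.leaf 3))) (.node (.node (.leaf 3) (.leaf 3)) (.node (.leaf 3) (.leaf 3)))) (.node (.node (.node (.leaf 3) (.leaf 3)) (.node (.leaf 0) (.leaf 3))) (.node (.node (.leaf 0) (.leaf 3)) (.node (.leaf 0) (.leaf 3)))))) (.node (.node (.node (.node (.node (.leaf 0) (.leaf 3)) (.node (.leaf 3) (.leaf 3))) (.node (.node (.leaf 0) (.leaf 3)) (.node (.leaf 3) (.leaf 3)))) (.node (.node (.node (.leaf 3) (.leaf 3)) (.node (.leaf 3) (.leaf 3))) (.node (.node (.leaf 3) (.leaf 3)) (.node (.leaf 3) (.leaf 3))))) (.node (.node (.node (.node (.leaf 0) (.leaf 3)) (.node (.leaf 0) (.leaf 3))) (.node (.node (.leaf 3) (.leaf 3)) (.node (.leaf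 0) (.leaf 3)))) (.node (.node (.node (.leaf 3) (.leaf 3)) (.node (.leaf 3) (.leaf 3))) (.node (.node (.leaf 3) (.leaf 3)) (.node (.leaf 0) (.leaf 3)))))))

def twoKind79 : Janko.Tree (ℕ) :=
  (.node (.node (.node (.node (.node (.node (.leaf 0) (.leaf 3)) (.node (.leaf 3) (.leaf 3))) (.node (.node (.leaf 0) (.leaf 3)) (.node (.leaf 3) (.leaf 0)))) (.node (.node (.node (.leaf 0) (.leaf 3)) (.node (.leaf 0) (.leaf 3))) (.node (.node (.leaf 0) (.leaf 3)) (.node (.leaf 3) (.leaf 3))))) (.node (.node (.node (.node (.leaf 0) (.leaf 3)) (.node (.leaf 3) (.leaf 3))) (.node (.node (.leaf 0) (.leaf 3)) (.node (.leaf 0) (.leaf 3)))) (.node (.node (.node (.leaf 0) (.leaf 3)) (.node (.leaf 3) (.leaf 3))) (.node (.node (.leaf 3) (.leaf 3)) (.node (.leaf 3) (.leaf 3)))))) (.node (.node (.node (.node (.node (.leaf 0) (.leaf 0)) (.node (.leaf 3) (.leaf 3))) (.node (.node (.leaf 0) (.leaf 3)) (.node (.leaf 0) (.leaf 3)))) (.node (.node (.node (.leaf 0) (.leaf 3)) (.node (.leaf 0) (.leaf 3))) (.node (.node (.leaf 3) (.leaf 3)) (.node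 (.leaf 3) (.leaf 3))))) (.node (.node (.node (.node (.leaf 0) (.leaf 0)) (.node (.leaf 3) (.leaf 3))) (.node (.node (.leaf 0) (.leaf 3)) (.node (.leaf 3) (.leaf 3)))) (.node (.node (.node (.leaf 0) (.leaf 3)) (.node (.leaf 3) (.leaf 3))) (.node (.node (.leaf 0) (.leaf 0)) (.node (.leaf 0) (.leaf 3)))))))

def twoKind80 : Janko.Tree (ℕ) :=
  (.node (.node (.node (.node (.node (.node (.leaf 0) (.leaf 3)) (.node (.leaf 3) (.leaf 3))) (.node (.node (.leaf 3) (.leaf 3)) (.node (.leaf 3) (.leaf 3)))) (.node (.node (.node (.leaf 0) (.leaf 0)) (.node (.leaf 3) (.leaf 3))) (.node (.node (.leaf 0) (.leaf 3)) (.node (.leaf 3) (.leaf 3))))) (.node (.node (.node (.node (.leaf 3) (.leaf 3)) (.node (.leaf 3) (.leaf 3))) (.node (.node (.leaf 0) (.leaf 3)) (.node (.leaf 3) (.leaf 3)))) (.node (.node (.node (.leaf 0) (.leaf 3)) (.node (.leaf 3) (.leaf 3))) (.node (.node (.leaf 3) (.leaf 3)) (.node (.leaf 0) (.leaf 3)))))) (.node (.node (.node (.node (.node (.leaf 3) (.leaf 3)) (.node (.leaf 3) (.leaf 3))) (.node (.node (.leaf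 0) (.leaf 3)) (.node (.leaf 0) (.leaf 3)))) (.node (.node (.node (.leaf 3) (.leaf 3)) (.node (.leaf 0) (.leaf 3))) (.node (.node (.leaf 3) (.leaf 0)) (.node (.leaf 3) (.leaf 3))))) (.node (.node (.node (.node (.leaf 3) (.leaf 3)) (.node (.leaf 3) (.leaf 3))) (.node (.node (.leaf 0) (.leaf 3)) (.node (.leaf 3) (.leaf 3)))) (.node (.node (.node (.leaf 3) (.leaf 3)) (.node (.leaf 3) (.leaf 3))) (.node (.node (.leaf 0) (.leaf 0)) (.node (.leaf 3) (.leaf 3)))))))

def twoKind81 : Janko.Tree (ℕ) :=
  (.node (.node (.node (.node (.node (.node (.leaf 0) (.leaf 3)) (.node (.leaf 0) (.leaf 3))) (.node (.node (.leaf 0) (.leaf 3)) (.node (.leaf 0) (.leaf 3)))) (.node (.node (.node (.leaf 0) (.leaf 3)) (.node (.leaf 0) (.leaf 3))) (.node (.node (.leaf 0) (.leaf 3)) (.node (.leaf 3) (.leaf 3))))) (.node (.node (.node (.node (.leaf 0) (.leaf 3)) (.node (.leaf 3) (.leaf 3))) (.node (.node (.leaf 0) (.leaf 3)) (.node (.leaf 3) (.leaf 3)))) (.node (.node (.node (.leaf 3) (.leaf 3)) (.node (.leaf 3) (.leaf 3))) (.node (.node (.leaf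 0) (.leaf 3)) (.node (.leaf 3) (.leaf 3)))))) (.node (.node (.node (.node (.node (.leaf 0) (.leaf 0)) (.node (.leaf 3) (.leaf 3))) (.node (.node (.leaf 3) (.leaf 3)) (.node (.leaf 3) (.leaf 3)))) (.node (.node (.node (.leaf 0) (.leaf 3)) (.node (.leaf 3) (.leaf 3))) (.node (.node (.leaf 3) (.leaf 3)) (.node (.leaf 3) (.leaf 3))))) (.node (.node (.node (.node (.leaf 0) (.leaf 0)) (.node (.leaf 3) (.leaf 0))) (.node (.node (.leaf 3) (.leaf 3)) (.node (.leaf 3) (.leaf 3)))) (.node (.node (.node (.leaf 3) (.leaf 3)) (.node (.leaf 0) (.leaf 3))) (.node (.node (.leaf 0) (.leaf 3)) (.node (.leaf 3) (.leaf 3)))))))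

def twoKind82 : Janko.Tree (ℕ) :=
  (.node (.node (.node (.node (.node (.node (.leaf 0) (.leaf 3)) (.node (.leaf 3) (.leaf 3))) (.node (.node (.leaf 3) (.leaf 3)) (.node (.leaf 3) (.leaf 3)))) (.node (.node (.node (.leaf 0) (.leaf 3)) (.node (.leaf 3) (.leaf 3))) (.node (.node (.leaf 0) (.leaf 3)) (.node (.leaf 3) (.leaf 3))))) (.node (.node (.node (.node (.leaf 0) (.leaf 3)) (.node (.leaf 3) (.leaf 3))) (.node (.node (.leaf 3) (.leaf 3)) (.node (.leaf 3) (.leaf 3)))) (.node (.node (.node (.leaf 0) (.leaf 3)) (.node (.leaf 0) (.leaf 3))) (.node (.node (.leaf 0) (.leaf 3)) (.node (.leaf 3) (.leaf 3)))))) (.node (.node (.node (.node (.node (.leaf 0) (.leaf 3)) (.node (.leaf 3) (.leaf 3))) (.node (.node (.leaf 0) (.leaf 3)) (.node (.leaf 3) (.leaf 3)))) (.node (.node (.node (.leaf 3) (.leaf 3)) (.node (.leaf 0) (.leaf 3))) (.node (.node (.leaf 3) (.leaf 3)) (.node (.leaf 3) (.leaf 3))))) (.node (.node (.node (.node (.leaf 3) (.leaf 3)) (.node (.leaf 3) (.leaf 3))) (.node (.node (.leaf 0) (.leaf 3)) (.node (.leaf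 3) (.leaf 3)))) (.node (.node (.node (.leaf 3) (.leaf 3)) (.node (.leaf 0) (.leaf 3))) (.node (.node (.leaf 0) (.leaf 0)) (.node (.leaf 3) (.leaf 3)))))))

def twoKind83 : Janko.Tree (ℕ) :=
  (.node (.node (.node (.node (.node (.node (.leaf 0) (.leaf 3)) (.node (.leaf 0) (.leaf 3))) (.node (.node (.leaf 3) (.leaf 3)) (.node (.leaf 0) (.leaf 3)))) (.node (.node (.node (.leaf 0) (.leaf 3)) (.node (.leaf 3) (.leaf 0))) (.node (.node (.leaf 3) (.leaf 3)) (.node (.leaf 0) (.leaf 3))))) (.node (.node (.node (.node (.leaf 0) (.leaf 3)) (.node (.leaf 0) (.leaf 3))) (.node (.node (.leaf 0) (.leaf 3)) (.node (.leaf 3) (.leaf 3)))) (.node (.node (.node (.leaf 3) (.leaf 3)) (.node (.leaf 0) (.leaf 3))) (.node (.node (.leaf 0) (.leaf 3)) (.node (.leaf 0) (.leaf 3)))))) (.node (.node (.node (.node (.node (.leaf 0) (.leaf 3)) (.node (.leaf 0) (.leaf 3))) (.node (.node (.leaf 0) (.leaf 3)) (.node (.leaf 0) (.leaf 3)))) (.node (.node (.node (.leaf 0) (.leaf 3)) (.node (.leaf 3) (.leaf 3))) (.node (.node (.leaf 0) (.leaf 0)) (.node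 (.leaf 0) (.leaf 3))))) (.node (.node (.node (.node (.leaf 0) (.leaf 3)) (.node (.leaf 0) (.leaf 3))) (.node (.node (.leaf 3) (.leaf 3)) (.node (.leaf 0) (.leaf 3)))) (.node (.node (.node (.leaf 0) (.leaf 0)) (.node (.leaf 3) (.leaf 3))) (.node (.node (.leaf 3) (.leaf 3)) (.node (.leaf 3) (.leaf 3)))))))

def twoKind84 : Janko.Tree (ℕ) :=
  (.node (.node (.node (.node (.node (.node (.leaf 3) (.leaf 3)) (.node (.leaf 3) (.leaf 3))) (.node (.node (.leaf 3) (.leaf 3)) (.node (.leaf 3) (.leaf 3)))) (.node (.node (.node (.leaf 3) (.leaf 3)) (.node (.leaf 0) (.leaf 3))) (.node (.node (.leaf 3) (.leaf 3)) (.node (.leaf 3) (.leaf 3))))) (.node (.node (.node (.node (.leaf 0) (.leaf 3)) (.node (.leaf 3) (.leaf 3))) (.node (.node (.leaf 0) (.leaf 3)) (.node (.leaf 3) (.leaf 3)))) (.node (.node (.node (.leaf 3) (.leaf 3)) (.node (.leaf 3) (.leaf 3))) (.node (.node (.leaf 3) (.leaf 3)) (.node (.leaf 3) (.leaf 3)))))) (.node (.node (.node (.node (.node (.leaf 0) (.leaf 0)) (.node (.leaf 0) (.leaf 3))) (.node (.node (.leaf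 0) (.leaf 3)) (.node (.leaf 3) (.leaf 3)))) (.node (.node (.node (.leaf 0) (.leaf 3)) (.node (.leaf 3) (.leaf 3))) (.node (.node (.leaf 3) (.leaf 0)) (.node (.leaf 3) (.leaf 3))))) (.node (.node (.node (.node (.leaf 0) (.leaf 3)) (.node (.leaf 3) (.leaf 3))) (.node (.node (.leaf 3) (.leaf 3)) (.node (.leaf 3) (.leaf 3)))) (.node (.node (.node (.leaf 3) (.leaf 3)) (.node (.leaf 3) (.leaf 3))) (.node (.node (.leaf 3) (.leaf 3)) (.node (.leaf 3) (.leaf 3)))))))

def twoKind85 : Janko.Tree (ℕ) :=
  (.node (.node (.node (.node (.node (.node (.leaf 0) (.leaf 3)) (.node (.leaf 0) (.leaf 3))) (.node (.node (.leaf 3) (.leaf 3)) (.node (.leaf 3) (.leaf 3)))) (.node (.node (.node (.leaf 0) (.leaf 3)) (.node (.leaf 3) (.leaf 3))) (.node (.node (.leaf 3) (.leaf 3)) (.node (.leaf 0) (.leaf 3))))) (.node (.node (.node (.node (.leaf 0) (.leaf 3)) (.node (.leaf 3) (.leaf 3))) (.node (.node (.leaf 0) (.leaf 3)) (.node (.leaf 0) (.leaf 3)))) (.node (.node (.node (.leaf 0) (.leaf 3)) (.node (.leaf 3) (.leaf 3))) (.node (.node (.leaf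 3) (.leaf 3)) (.node (.leaf 3) (.leaf 3)))))) (.node (.node (.node (.node (.node (.leaf 0) (.leaf 3)) (.node (.leaf 0) (.leaf 3))) (.node (.node (.leaf 0) (.leaf 3)) (.node (.leaf 0) (.leaf 3)))) (.node (.node (.node (.leaf 0) (.leaf 3)) (.node (.leaf 0) (.leaf 3))) (.node (.node (.leaf 0) (.leaf 0)) (.node (.leaf 3) (.leaf 3))))) (.node (.node (.node (.node (.leaf 0) (.leaf 3)) (.node (.leaf 3) (.leaf 3))) (.node (.node (.leaf 0) (.leaf 3)) (.node (.leaf 3) (.leaf 3)))) (.node (.node (.node (.leaf 3) (.leaf 0)) (.node (.leaf 0) (.leaf 3))) (.node (.node (.leaf 3) (.leaf 3)) (.node (.leaf 3) (.leaf 3)))))))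

def twoKind86 : Janko.Tree (ℕ) :=
  (.node (.node (.node (.node (.node (.node (.leaf 0) (.leaf 3)) (.node (.leaf 3) (.leaf 3))) (.node (.node (.leaf 3) (.leaf 3)) (.node (.leaf 3) (.leaf 3)))) (.node (.node (.node (.leaf 3) (.leaf 3)) (.node (.leaf 3) (.leaf 3))) (.node (.node (.leaf 3) (.leaf 3)) (.node (.leaf 3) (.leaf 3))))) (.node (.node (.node (.node (.leaf 3) (.leaf 3)) (.node (.leaf 3) (.leaf 3))) (.node (.node (.leaf 0) (.leaf 3)) (.node (.leaf 3) (.leaf 3)))) (.node (.node (.node (.leaf 3) (.leaf 3)) (.node (.leaf 3) (.leaf 3))) (.node (.node (.leaf 3) (.leaf 3)) (.node (.leaf 3) (.leaf 3)))))) (.node (.node (.node (.node (.node (.leaf 3) (.leaf 3)) (.node (.leaf 0) (.leaf 0))) (.node (.node (.leaf 3) (.leaf 3)) (.node (.leaf 0) (.leaf 3)))) (.node (.node (.node (.leaf 0) (.leaf 3)) (.node (.leaf 3) (.leaf 3))) (.node (.node (.leaf 3) (.leaf 0)) (.node (.leaf 3) (.leaf 3))))) (.node (.node (.node (.node (.leaf 0) (.leaf 3)) (.node (.leaf 3) (.leaf 3))) (.node (.node (.leaf 3) (.leaf 3)) (.node (.leaf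 3) (.leaf 3)))) (.node (.node (.node (.leaf 3) (.leaf 3)) (.node (.leaf 0) (.leaf 3))) (.node (.node (.leaf 3) (.leaf 3)) (.node (.leaf 3) (.leaf 3)))))))

def twoKind87 : Janko.Tree (ℕ) :=
  (.node (.node (.node (.node (.node (.node (.leaf 0) (.leaf 0)) (.node (.leaf 3) (.leaf 3))) (.node (.node (.leaf 0) (.leaf 3)) (.node (.leaf 3) (.leaf 3)))) (.node (.node (.node (.leaf 0) (.leaf 3)) (.node (.leaf 0) (.leaf 3))) (.node (.node (.leaf 3) (.leaf 0)) (.node (.leaf 3) (.leaf 3))))) (.node (.node (.node (.node (.leaf 0) (.leaf 3)) (.node (.leaf 0) (.leaf 3))) (.node (.node (.leaf 0) (.leaf 3)) (.node (.leaf 0) (.leaf 3)))) (.node (.node (.node (.leaf 0) (.leaf 3)) (.node (.leaf 0) (.leaf 3))) (.node (.node (.leaf 0) (.leaf 3)) (.node (.leaf 3) (.leaf 3)))))) (.node (.node (.node (.node (.node (.leaf 0) (.leaf 3)) (.node (.leaf 3) (.leaf 0))) (.node (.node (.leaf 0) (.leaf 3)) (.node (.leaf 0) (.leaf 3)))) (.node (.node (.node (.leaf 0) (.leaf 3)) (.node (.leaf 3) (.leaf 3))) (.node (.node (.leaf 0) (.leaf 3)) (.node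 (.leaf 3) (.leaf 3))))) (.node (.node (.node (.node (.leaf 0) (.leaf 3)) (.node (.leaf 3) (.leaf 3))) (.node (.node (.leaf 0) (.leaf 3)) (.node (.leaf 3) (.leaf 3)))) (.node (.node (.node (.leaf 0) (.leaf 3)) (.node (.leaf 0) (.leaf 3))) (.node (.node (.leaf 3) (.leaf 3)) (.node (.leaf 0) (.leaf 3)))))))

def twoKind88 : Janko.Tree (ℕ) :=
  (.node (.node (.node (.node (.node (.node (.leaf 0) (.leaf 3)) (.node (.leaf 3) (.leaf 3))) (.node (.node (.leaf 0) (.leaf 3)) (.node (.leaf 3) (.leaf 3)))) (.node (.node (.node (.leaf 3) (.leaf 3)) (.node (.leaf 3) (.leaf 3))) (.node (.node (.leaf 0) (.leaf 3)) (.node (.leaf 3) (.leaf 3))))) (.node (.node (.node (.node (.leaf 0) (.leaf 0)) (.node (.leaf 0) (.leaf 3))) (.node (.node (.leaf 3) (.leaf 3)) (.node (.leaf 3) (.leaf 3)))) (.node (.node (.node (.leaf 3) (.leaf 3)) (.node (.leaf 0) (.leaf 3))) (.node (.node (.leaf 0) (.leaf 3)) (.node (.leaf 3) (.leaf 3)))))) (.node (.node (.node (.node (.node (.leaf 0) (.leaf 3)) (.node (.leaf 3) (.leaf 3))) (.node (.node (.leaf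 3) (.leaf 3)) (.node (.leaf 3) (.leaf 3)))) (.node (.node (.node (.leaf 3) (.leaf 3)) (.node (.leaf 3) (.leaf 3))) (.node (.node (.leaf 3) (.leaf 3)) (.node (.leaf 3) (.leaf 3))))) (.node (.node (.node (.node (.leaf 3) (.leaf 0)) (.node (.leaf 3) (.leaf 3))) (.node (.node (.leaf 3) (.leaf 3)) (.node (.leaf 0) (.leaf 3)))) (.node (.node (.node (.leaf 0) (.leaf 3)) (.node (.leaf 0) (.leaf 3))) (.node (.node (.leaf 3) (.leaf 3)) (.node (.leaf 3) (.leaf 3)))))))

def twoKind89 : Janko.Tree (ℕ) :=
  (.node (.node (.node (.node (.node (.node (.leaf 3) (.leaf 3)) (.node (.leaf 3) (.leaf 0))) (.node (.node (.leaf 0) (.leaf 3)) (.node (.leaf 3) (.leaf 3)))) (.node (.node (.node (.leaf 3) (.leaf 3)) (.node (.leaf 3) (.leaf 3))) (.node (.node (.leaf 0) (.leaf 3)) (.node (.leaf 0) (.leaf 0))))) (.node (.node (.node (.node (.leaf 0) (.leaf 3)) (.node (.leaf 3) (.leaf 3))) (.node (.node (.leaf 0) (.leaf 3)) (.node (.leaf 3) (.leaf 3)))) (.node (.node (.node (.leaf 0) (.leaf 3)) (.node (.leaf 3) (.leaf 3))) (.node (.node (.leaf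 0) (.leaf 3)) (.node (.leaf 3) (.leaf 3)))))) (.node (.node (.node (.node (.node (.leaf 0) (.leaf 0)) (.node (.leaf 3) (.leaf 3))) (.node (.node (.leaf 0) (.leaf 3)) (.node (.leaf 0) (.leaf 3)))) (.node (.node (.node (.leaf 3) (.leaf 3)) (.node (.leaf 3) (.leaf 3))) (.node (.node (.leaf 3) (.leaf 3)) (.node (.leaf 3) (.leaf 3))))) (.node (.node (.node (.node (.leaf 3) (.leaf 3)) (.node (.leaf 3) (.leaf 3))) (.node (.node (.leaf 0) (.leaf 3)) (.node (.leaf 3) (.leaf 3)))) (.node (.node (.node (.leaf 0) (.leaf 3)) (.node (.leaf 0) (.leaf 3))) (.node (.node (.leaf 3) (.leaf 3)) (.node (.leaf 3) (.leaf 3)))))))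

def twoKind90 : Janko.Tree (ℕ) :=
  (.node (.node (.node (.node (.node (.node (.leaf 0) (.leaf 3)) (.node (.leaf 3) (.leaf 3))) (.node (.node (.leaf 0) (.leaf 3)) (.node (.leaf 3) (.leaf 3)))) (.node (.node (.node (.leaf 0) (.leaf 3)) (.node (.leaf 3) (.leaf 3))) (.node (.node (.leaf 0) (.leaf 3)) (.node (.leaf 3) (.leaf 3))))) (.node (.node (.node (.node (.leaf 3) (.leaf 3)) (.node (.leaf 3) (.leaf 3))) (.node (.node (.leaf 3) (.leaf 3)) (.node (.leaf 3) (.leaf 3)))) (.node (.node (.node (.leaf 3) (.leaf 3)) (.node (.leaf 3) (.leaf 3))) (.node (.node (.leaf 0) (.leaf 3)) (.node (.leaf 0) (.leaf 3)))))) (.node (.node (.node (.node (.node (.leaf 0) (.leaf 3)) (.node (.leaf 3) (.leaf 3))) (.node (.node (.leaf 0) (.leaf 3)) (.node (.leaf 0) (.leaf 3)))) (.node (.node (.node (.leaf 0) (.leaf 3)) (.node (.leaf 3) (.leaf 3))) (.node (.node (.leaf 3) (.leaf 0)) (.node (.leaf 3) (.leaf 3))))) (.node (.node (.node (.node (.leaf 0) (.leaf 3)) (.node (.leaf 3) (.leaf 3))) (.node (.node (.leaf 0) (.leaf 3)) (.node (.leaf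 0) (.leaf 3)))) (.node (.node (.node (.leaf 0) (.leaf 3)) (.node (.leaf 3) (.leaf 3))) (.node (.node (.leaf 3) (.leaf 3)) (.node (.leaf 3) (.leaf 3)))))))

def twoKind91 : Janko.Tree (ℕ) :=
  (.node (.node (.node (.node (.node (.node (.leaf 0) (.leaf 0)) (.node (.leaf 3) (.leaf 3))) (.node (.node (.leaf 3) (.leaf 3)) (.node (.leaf 0) (.leaf 3)))) (.node (.node (.node (.leaf 3) (.leaf 3)) (.node (.leaf 3) (.leaf 3))) (.node (.node (.leaf 0) (.leaf 0)) (.node (.leaf 3) (.leaf 3))))) (.node (.node (.node (.node (.leaf 0) (.leaf 0)) (.node (.leaf 3) (.leaf 3))) (.node (.node (.leaf 0) (.leaf 3)) (.node (.leaf 3) (.leaf 3)))) (.node (.node (.node (.leaf 0) (.leaf 3)) (.node (.leaf 3) (.leaf 3))) (.node (.node (.leaf 0) (.leaf 3)) (.node (.leaf 3) (.leaf 3)))))) (.node (.node (.node (.node (.node (.leaf 0) (.leaf 3)) (.node (.leaf 0) (.leaf 3))) (.node (.node (.leaf 0) (.leaf 3)) (.node (.leaf 0) (.leaf 3)))) (.node (.node (.node (.leaf 0) (.leaf 3)) (.node (.leaf 3) (.leaf 3))) (.node (.node (.leaf 3) (.leaf 3)) (.node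 (.leaf 0) (.leaf 3))))) (.node (.node (.node (.node (.leaf 0) (.leaf 3)) (.node (.leaf 0) (.leaf 3))) (.node (.node (.leaf 0) (.leaf 3)) (.node (.leaf 3) (.leaf 3)))) (.node (.node (.node (.leaf 0) (.leaf 3)) (.node (.leaf 0) (.leaf 3))) (.node (.node (.leaf 3) (.leaf 3)) (.node (.leaf 3) (.leaf 3)))))))

def twoKind92 : Janko.Tree (ℕ) :=
  (.node (.node (.node (.node (.node (.node (.leaf 0) (.leaf 3)) (.node (.leaf 3) (.leaf 3))) (.node (.node (.leaf 3) (.leaf 3)) (.node (.leaf 3) (.leaf 3)))) (.node (.node (.node (.leaf 3) (.leaf 3)) (.node (.leaf 3) (.leaf 3))) (.node (.node (.leaf 3) (.leaf 0)) (.node (.leaf 3) (.leaf 3))))) (.node (.node (.node (.node (.leaf 3) (.leaf 0)) (.node (.leaf 3) (.leaf 3))) (.node (.node (.leaf 3) (.leaf 3)) (.node (.leaf 3) (.leaf 3)))) (.node (.node (.node (.leaf 3) (.leaf 3)) (.node (.leaf 3) (.leaf 3))) (.node (.node (.leaf 3) (.leaf 3)) (.node (.leaf 3) (.leaf 3)))))) (.node (.node (.node (.node (.node (.leaf 3) (.leaf 3)) (.node (.leaf 3) (.leaf 3))) (.node (.node (.leaf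 3) (.leaf 3)) (.node (.leaf 0) (.leaf 3)))) (.node (.node (.node (.leaf 0) (.leaf 3)) (.node (.leaf 3) (.leaf 3))) (.node (.node (.leaf 3) (.leaf 3)) (.node (.leaf 3) (.leaf 3))))) (.node (.node (.node (.node (.leaf 0) (.leaf 3)) (.node (.leaf 0) (.leaf 3))) (.node (.node (.leaf 0) (.leaf 3)) (.node (.leaf 3) (.leaf 3)))) (.node (.node (.node (.leaf 3) (.leaf 3)) (.node (.leaf 3) (.leaf 3))) (.node (.node (.leaf 0) (.leaf 3)) (.node (.leaf 3) (.leaf 3)))))))

def twoKind93 : Janko.Tree (ℕ) :=
  (.node (.node (.node (.node (.node (.node (.leaf 0) (.leaf 0)) (.node (.leaf 3) (.leaf 0))) (.node (.node (.leaf 3) (.leaf 3)) (.node (.leaf 0) (.leaf 3)))) (.node (.node (.node (.leaf 0) (.leaf 3)) (.node (.leaf 3) (.leaf 3))) (.node (.node (.leaf 3) (.leaf 3)) (.node (.leaf 3) (.leaf 3))))) (.node (.node (.node (.node (.leaf 0) (.leaf 3)) (.node (.leaf 3) (.leaf 3))) (.node (.node (.leaf 3) (.leaf 3)) (.node (.leaf 3) (.leaf 3)))) (.node (.node (.node (.leaf 0) (.leaf 3)) (.node (.leaf 3) (.leaf 3))) (.node (.node (.leaf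 3) (.leaf 3)) (.node (.leaf 3) (.leaf 3)))))) (.node (.node (.node (.node (.node (.leaf 0) (.leaf 3)) (.node (.leaf 3) (.leaf 3))) (.node (.node (.leaf 0) (.leaf 3)) (.node (.leaf 3) (.leaf 3)))) (.node (.node (.node (.leaf 0) (.leaf 0)) (.node (.leaf 0) (.leaf 3))) (.node (.node (.leaf 0) (.leaf 3)) (.node (.leaf 3) (.leaf 3))))) (.node (.node (.node (.node (.leaf 3) (.leaf 3)) (.node (.leaf 3) (.leaf 3))) (.node (.node (.leaf 3) (.leaf 3)) (.node (.leaf 0) (.leaf 3)))) (.node (.node (.node (.leaf 0) (.leaf 3)) (.node (.leaf 3) (.leaf 3))) (.node (.node (.leaf 3) (.leaf 3)) (.node (.leaf 3) (.leaf 3)))))))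

def twoKind94 : Janko.Tree (ℕ) :=
  (.node (.node (.node (.node (.node (.node (.leaf 0) (.leaf 3)) (.node (.leaf 0) (.leaf 3))) (.node (.node (.leaf 3) (.leaf 3)) (.node (.leaf 0) (.leaf 3)))) (.node (.node (.node (.leaf 3) (.leaf 3)) (.node (.leaf 3) (.leaf 3))) (.node (.node (.leaf 0) (.leaf 3)) (.node (.leaf 3) (.leaf 3))))) (.node (.node (.node (.node (.leaf 3) (.leaf 3)) (.node (.leaf 3) (.leaf 3))) (.node (.node (.leaf 0) (.leaf 3)) (.node (.leaf 3) (.leaf 3)))) (.node (.node (.node (.leaf 3) (.leaf 0)) (.node (.leaf 3) (.leaf 3))) (.node (.node (.leaf 3) (.leaf 0)) (.node (.leaf 3) (.leaf 3)))))) (.node (.node (.node (.node (.node (.leaf 0) (.leaf 3)) (.node (.leaf 0) (.leaf 3))) (.node (.node (.leaf 0) (.leaf 3)) (.node (.leaf 0) (.leaf 3)))) (.node (.node (.node (.leaf 0) (.leaf 0)) (.node (.leaf 3) (.leaf 3))) (.node (.node (.leaf 3) (.leaf 3)) (.node (.leaf 3) (.leaf 3))))) (.node (.node (.node (.node (.leaf 0) (.leaf 3)) (.node (.leaf 0) (.leaf 3))) (.node (.node (.leaf 3) (.leaf 0)) (.node (.leaf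 3) (.leaf 3)))) (.node (.node (.node (.leaf 3) (.leaf 3)) (.node (.leaf 3) (.leaf 3))) (.node (.node (.leaf 3) (.leaf 3)) (.node (.leaf 3) (.leaf 3)))))))

def twoKind95 : Janko.Tree (ℕ) :=
  (.node (.node (.node (.node (.node (.node (.leaf 0) (.leaf 3)) (.node (.leaf 0) (.leaf 3))) (.node (.node (.leaf 0) (.leaf 3)) (.node (.leaf 0) (.leaf 3)))) (.node (.node (.node (.leaf 0) (.leaf 3)) (.node (.leaf 3) (.leaf 3))) (.node (.node (.leaf 0) (.leaf 3)) (.node (.leaf 0) (.leaf 3))))) (.node (.node (.node (.node (.leaf 0) (.leaf 3)) (.node (.leaf 0) (.leaf 3))) (.node (.node (.leaf 0) (.leaf 3)) (.node (.leaf 3) (.leaf 3)))) (.node (.node (.node (.leaf 3) (.leaf 3)) (.node (.leaf 0) (.leaf 3))) (.node (.node (.leaf 0) (.leaf 3)) (.node (.leaf 3) (.leaf 3)))))) (.node (.node (.node (.node (.node (.leaf 0) (.leaf 0)) (.node (.leaf 3) (.leaf 3))) (.node (.node (.leaf 0) (.leaf 3)) (.node (.leaf 3) (.leaf 3)))) (.node (.node (.node (.leaf 3) (.leaf 3)) (.node (.leaf 3) (.leaf 3))) (.node (.node (.leaf 3) (.leaf 3)) (.node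 (.leaf 0) (.leaf 3))))) (.node (.node (.node (.node (.leaf 0) (.leaf 3)) (.node (.leaf 3) (.leaf 3))) (.node (.node (.leaf 0) (.leaf 3)) (.node (.leaf 0) (.leaf 3)))) (.node (.node (.node (.leaf 0) (.leaf 3)) (.node (.leaf 0) (.leaf 3))) (.node (.node (.leaf 0) (.leaf 0)) (.node (.leaf 3) (.leaf 3)))))))

def twoKind96 : Janko.Tree (ℕ) :=
  (.node (.node (.node (.node (.node (.node (.leaf 3) (.leaf 3)) (.node (.leaf 3) (.leaf 0))) (.node (.node (.leaf 3) (.leaf 3)) (.node (.leaf 3) (.leaf 3)))) (.node (.node (.node (.leaf 0) (.leaf 3)) (.node (.leaf 3) (.leaf 3))) (.node (.node (.leaf 0) (.leaf 0)) (.node (.leaf 3) (.leaf 3))))) (.node (.node (.node (.node (.leaf 0) (.leaf 0)) (.node (.leaf 3) (.leaf 3))) (.node (.node (.leaf 3) (.leaf 3)) (.node (.leaf 3) (.leaf 3)))) (.node (.node (.node (.leaf 3) (.leaf 3)) (.node (.leaf 0) (.leaf 3))) (.node (.node (.leaf 0) (.leaf 3)) (.node (.leaf 3) (.leaf 3)))))) (.node (.node (.node (.node (.node (.leaf 0) (.leaf 3)) (.node (.leaf 3) (.leaf 3))) (.node (.node (.leaf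 0) (.leaf 3)) (.node (.leaf 3) (.leaf 3)))) (.node (.node (.node (.leaf 3) (.leaf 3)) (.node (.leaf 3) (.leaf 3))) (.node (.node (.leaf 3) (.leaf 3)) (.node (.leaf 3) (.leaf 3))))) (.node (.node (.node (.node (.leaf 0) (.leaf 3)) (.node (.leaf 3) (.leaf 3))) (.node (.node (.leaf 3) (.leaf 3)) (.node (.leaf 3) (.leaf 3)))) (.node (.node (.node (.leaf 3) (.leaf 3)) (.node (.leaf 3) (.leaf 3))) (.node (.node (.leaf 3) (.leaf 3)) (.node (.leaf 3) (.leaf 3)))))))

def twoKind97 : Janko.Tree (ℕ) :=
  (.node (.node (.node (.node (.node (.node (.leaf 0) (.leaf 3)) (.node (.leaf 0) (.leaf 3))) (.node (.node (.leaf 3) (.leaf 3)) (.node (.leaf 3) (.leaf 3)))) (.node (.node (.node (.leaf 0) (.leaf 3)) (.node (.leaf 3) (.leaf 3))) (.node (.node (.leaf 3) (.leaf 0)) (.node (.leaf 3) (.leaf 3))))) (.node (.node (.node (.node (.leaf 3) (.leaf 3)) (.node (.leaf 3) (.leaf 3))) (.node (.node (.leaf 0) (.leaf 3)) (.node (.leaf 0) (.leaf 3)))) (.node (.node (.node (.leaf 3) (.leaf 3)) (.node (.leaf 3) (.leaf 3))) (.node (.node (.leaf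 3) (.leaf 3)) (.node (.leaf 3) (.leaf 3)))))) (.node (.node (.node (.node (.node (.leaf 3) (.leaf 0)) (.node (.leaf 3) (.leaf 3))) (.node (.node (.leaf 0) (.leaf 3)) (.node (.leaf 0) (.leaf 3)))) (.node (.node (.node (.leaf 0) (.leaf 3)) (.node (.leaf 3) (.leaf 3))) (.node (.node (.leaf 0) (.leaf 3)) (.node (.leaf 3) (.leaf 3))))) (.node (.node (.node (.node (.leaf 0) (.leaf 0)) (.node (.leaf 3) (.leaf 3))) (.node (.node (.leaf 0) (.leaf 3)) (.node (.leaf 3) (.leaf 3)))) (.node (.node (.node (.leaf 3) (.leaf 3)) (.node (.leaf 0) (.leaf 3))) (.node (.node (.leaf 0) (.leaf 3)) (.node (.leaf 3) (.leaf 3)))))))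

def twoKind98 : Janko.Tree (ℕ) :=
  (.node (.node (.node (.node (.node (.node (.leaf 0) (.leaf 3)) (.node (.leaf 3) (.leaf 3))) (.node (.node (.leaf 0) (.leaf 3)) (.node (.leaf 0) (.leaf 3)))) (.node (.node (.node (.leaf 0) (.leaf 3)) (.node (.leaf 3) (.leaf 3))) (.node (.node (.leaf 0) (.leaf 3)) (.node (.leaf 3) (.leaf 3))))) (.node (.node (.node (.node (.leaf 0) (.leaf 0)) (.node (.leaf 0) (.leaf 3))) (.node (.node (.leaf 3) (.leaf 3)) (.node (.leaf 3) (.leaf 3)))) (.node (.node (.node (.leaf 3) (.leaf 3)) (.node (.leaf 3) (.leaf 3))) (.node (.node (.leaf 0) (.leaf 3)) (.node (.leaf 3) (.leaf 3)))))) (.node (.node (.node (.node (.node (.leaf 0) (.leaf 0)) (.node (.leaf 0) (.leaf 3))) (.node (.node (.leaf 3) (.leaf 3)) (.node (.leaf 3) (.leaf 3)))) (.node (.node (.node (.leaf 0) (.leaf 0)) (.node (.leaf 3) (.leaf 3))) (.node (.node (.leaf 0) (.leaf 3)) (.node (.leaf 3) (.leaf 3))))) (.node (.node (.node (.node (.leaf 3) (.leaf 3)) (.node (.leaf 3) (.leaf 3))) (.node (.node (.leaf 3) (.leaf 3)) (.node (.leaf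 3) (.leaf 3)))) (.node (.node (.node (.leaf 3) (.leaf 3)) (.node (.leaf 3) (.leaf 3))) (.node (.node (.leaf 3) (.leaf 3)) (.node (.leaf 3) (.leaf 3)))))))

def twoKind99 : Janko.Tree (ℕ) :=
  (.node (.node (.node (.node (.node (.node (.leaf 0) (.leaf 3)) (.node (.leaf 3) (.leaf 3))) (.node (.node (.leaf 0) (.leaf 3)) (.node (.leaf 0) (.leaf 3)))) (.node (.node (.node (.leaf 0) (.leaf 0)) (.node (.leaf 3) (.leaf 3))) (.node (.node (.leaf 0) (.leaf 3)) (.node (.leaf 0) (.leaf 3))))) (.node (.node (.node (.node (.leaf 0) (.leaf 3)) (.node (.leaf 0) (.leaf 3))) (.node (.node (.leaf 0) (.leaf 3)) (.node (.leaf 3) (.leaf 3)))) (.node (.node (.node (.leaf 0) (.leaf 3)) (.node (.leaf 0) (.leaf 3))) (.node (.node (.leaf 0) (.leaf 3)) (.node (.leaf 3) (.leaf 3)))))) (.node (.node (.node (.node (.node (.leaf 0) (.leaf 3)) (.node (.leaf 3) (.leaf 3))) (.node (.node (.leaf 0) (.leaf 3)) (.node (.leaf 0) (.leaf 3)))) (.node (.node (.node (.leaf 0) (.leaf 3)) (.node (.leaf 0) (.leaf 3))) (.node (.node (.leaf 3) (.leaf 3)) (.node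 (.leaf 3) (.leaf 3))))) (.node (.node (.node (.node (.leaf 0) (.leaf 0)) (.node (.leaf 0) (.leaf 3))) (.node (.node (.leaf 0) (.leaf 3)) (.node (.leaf 3) (.leaf 3)))) (.node (.node (.node (.leaf 3) (.leaf 3)) (.node (.leaf 3) (.leaf 3))) (.node (.node (.leaf 3) (.leaf 3)) (.node (.leaf 3) (.leaf 3)))))))

def twoKind100 : Janko.Tree (ℕ) :=
  (.node (.node (.node (.node (.node (.node (.leaf 0) (.leaf 3)) (.node (.leaf 3) (.leaf 3))) (.node (.node (.leaf 0) (.leaf 3)) (.node (.leaf 0) (.leaf 3)))) (.node (.node (.node (.leaf 0) (.leaf 3)) (.node (.leaf 3) (.leaf 3))) (.node (.node (.leaf 0) (.leaf 3)) (.node (.leaf 3) (.leaf 3))))) (.node (.node (.node (.node (.leaf 0) (.leaf 3)) (.node (.leaf 3) (.leaf 3))) (.node (.node (.leaf 0) (.leaf 3)) (.node (.leaf 3) (.leaf 3)))) (.node (.node (.node (.leaf 0) (.leaf 3)) (.node (.leaf 3) (.leaf 3))) (.node (.node (.leaf 0) (.leaf 3)) (.node (.leaf 3) (.leaf 3)))))) (.node (.node (.node (.node (.node (.leaf 0) (.leaf 0)) (.node (.leaf 3) (.leaf 3))) (.node (.node (.leaf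 0) (.leaf 3)) (.node (.leaf 0) (.leaf 3)))) (.node (.node (.node (.leaf 0) (.leaf 0)) (.node (.leaf 3) (.leaf 3))) (.node (.node (.leaf 3) (.leaf 3)) (.node (.leaf 3) (.leaf 3))))) (.node (.node (.node (.node (.leaf 0) (.leaf 0)) (.node (.leaf 3) (.leaf 3))) (.node (.node (.leaf 0) (.leaf 3)) (.node (.leaf 3) (.leaf 3)))) (.node (.node (.node (.leaf 0) (.leaf 3)) (.node (.leaf 0) (.leaf 3))) (.node (.node (.leaf 3) (.leaf 3)) (.node (.leaf 3) (.leaf 3)))))))

def twoKind101 : Janko.Tree (ℕ) :=
  (.node (.node (.node (.node (.node (.node (.leaf 3) (.leaf 3)) (.node (.leaf 3) (.leaf 3))) (.node (.node (.leaf 0) (.leaf 3)) (.node (.leaf 3) (.leaf 3)))) (.node (.node (.node (.leaf 3) (.leaf 3)) (.node (.leaf 3) (.leaf 3))) (.node (.node (.leaf 0) (.leaf 0)) (.node (.leaf 0) (.leaf 3))))) (.node (.node (.node (.node (.leaf 0) (.leaf 3)) (.node (.leaf 0) (.leaf 3))) (.node (.node (.leaf 3) (.leaf 3)) (.node (.leaf 3) (.leaf 3)))) (.node (.node (.node (.leaf 3) (.leaf 3)) (.node (.leaf 3) (.leaf 3))) (.node (.node (.leaf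 3) (.leaf 3)) (.node (.leaf 3) (.leaf 3)))))) (.node (.node (.node (.node (.node (.leaf 0) (.leaf 3)) (.node (.leaf 3) (.leaf 3))) (.node (.node (.leaf 3) (.leaf 3)) (.node (.leaf 0) (.leaf 3)))) (.node (.node (.node (.leaf 3) (.leaf 3)) (.node (.leaf 3) (.leaf 3))) (.node (.node (.leaf 3) (.leaf 3)) (.node (.leaf 0) (.leaf 3))))) (.node (.node (.node (.node (.leaf 0) (.leaf 3)) (.node (.leaf 3) (.leaf 3))) (.node (.node (.leaf 0) (.leaf 3)) (.node (.leaf 0) (.leaf 3)))) (.node (.node (.node (.leaf 0) (.leaf 3)) (.node (.leaf 3) (.leaf 3))) (.node (.node (.leaf 0) (.leaf 3)) (.node (.leaf 3) (.leaf 3)))))))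

def twoKind102 : Janko.Tree (ℕ) :=
  (.node (.node (.node (.node (.node (.node (.leaf 0) (.leaf 0)) (.node (.leaf 3) (.leaf 0))) (.node (.node (.leaf 0) (.leaf 3)) (.node (.leaf 3) (.leaf 3)))) (.node (.node (.node (.leaf 0) (.leaf 3)) (.node (.leaf 3) (.leaf 3))) (.node (.node (.leaf 3) (.leaf 3)) (.node (.leaf 0) (.leaf 3))))) (.node (.node (.node (.node (.leaf 3) (.leaf 3)) (.node (.leaf 0) (.leaf 3))) (.node (.node (.leaf 3) (.leaf 3)) (.node (.leaf 3) (.leaf 3)))) (.node (.node (.node (.leaf 3) (.leaf 3)) (.node (.leaf 3) (.leaf 3))) (.node (.node (.leaf 3) (.leaf 3)) (.node (.leaf 3) (.leaf 3)))))) (.node (.node (.node (.node (.node (.leaf 0) (.leaf 3)) (.node (.leaf 3) (.leaf 3))) (.node (.node (.leaf 3) (.leaf 3)) (.node (.leaf 0) (.leaf 3)))) (.node (.node (.node (.leaf 3) (.leaf 3)) (.node (.leaf 3) (.leaf 3))) (.node (.node (.leaf 3) (.leaf 3)) (.node (.leaf 3) (.leaf 3))))) (.node (.node (.node (.node (.leaf 0) (.leaf 3)) (.node (.leaf 3) (.leaf 3))) (.node (.node (.leaf 0) (.leaf 3)) (.node (.leaf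 3) (.leaf 3)))) (.node (.node (.node (.leaf 3) (.leaf 3)) (.node (.leaf 0) (.leaf 3))) (.node (.node (.leaf 3) (.leaf 3)) (.node (.leaf 3) (.leaf 3)))))))

def twoKind103 : Janko.Tree (ℕ) :=
  (.node (.node (.node (.node (.node (.node (.leaf 0) (.leaf 3)) (.node (.leaf 0) (.leaf 3))) (.node (.node (.leaf 0) (.leaf 3)) (.node (.leaf 3) (.leaf 3)))) (.node (.node (.node (.leaf 0) (.leaf 0)) (.node (.leaf 0) (.leaf 3))) (.node (.node (.leaf 0) (.leaf 3)) (.node (.leaf 3) (.leaf 3))))) (.node (.node (.node (.node (.leaf 0) (.leaf 3)) (.node (.leaf 3) (.leaf 3))) (.node (.node (.leaf 0) (.leaf 3)) (.node (.leaf 3) (.leaf 3)))) (.node (.node (.node (.leaf 0) (.leaf 3)) (.node (.leaf 3) (.leaf 3))) (.node (.node (.leaf 0) (.leaf 3)) (.node (.leaf 0) (.leaf 3)))))) (.node (.node (.node (.node (.node (.leaf 0) (.leaf 3)) (.node (.leaf 3) (.leaf 3))) (.node (.node (.leaf 0) (.leaf 0)) (.node (.leaf 0) (.leaf 3)))) (.node (.node (.node (.leaf 3) (.leaf 3)) (.node (.leaf 3) (.leaf 3))) (.node (.node (.leaf 0) (.leaf 3))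 (.node (.leaf 3) (.leaf 3))))) (.node (.node (.node (.node (.leaf 0) (.leaf 3)) (.node (.leaf 3) (.leaf 3))) (.node (.node (.leaf 0) (.leaf 0)) (.node (.leaf 3) (.leaf 3)))) (.node (.node (.node (.leaf 3) (.leaf 3)) (.node (.leaf 0) (.leaf 3))) (.node (.node (.leaf 0) (.leaf 3)) (.node (.leaf 3) (.leaf 3)))))))

def twoKind104 : Janko.Tree (ℕ) :=
  (.node (.node (.node (.node (.node (.node (.leaf 0) (.leaf 3)) (.node (.leaf 3) (.leaf 3))) (.node (.node (.leaf 3) (.leaf 3)) (.node (.leaf 0) (.leaf 3)))) (.node (.node (.node (.leaf 3) (.leaf 3)) (.node (.leaf 3) (.leaf 3))) (.node (.node (.leaf 0) (.leaf 3)) (.node (.leaf 3) (.leaf 3))))) (.node (.node (.node (.node (.leaf 3) (.leaf 3)) (.node (.leaf 3) (.leaf 3))) (.node (.node (.leaf 0) (.leaf 3)) (.node (.leaf 3) (.leaf 3)))) (.node (.node (.node (.leaf 3) (.leaf 3)) (.node (.leaf 0) (.leaf 3))) (.node (.node (.leaf 3) (.leaf 3)) (.node (.leaf 3) (.leaf 3)))))) (.node (.node (.node (.node (.node (.leaf 3) (.leaf 3)) (.node (.leaf 3) (.leaf 3))) (.node (.node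 (.leaf 3) (.leaf 3)) (.node (.leaf 0) (.leaf 3)))) (.node (.node (.node (.leaf 0) (.leaf 3)) (.node (.leaf 3) (.leaf 3))) (.node (.node (.leaf 0) (.leaf 3)) (.node (.leaf 3) (.leaf 3))))) (.node (.node (.node (.node (.leaf 0) (.leaf 3)) (.node (.leaf 3) (.leaf 3))) (.node (.node (.leaf 3) (.leaf 3)) (.node (.leaf 0) (.leaf 3)))) (.node (.node (.node (.leaf 3) (.leaf 3)) (.node (.leaf 0) (.leaf 3))) (.node (.node (.leaf 0) (.leaf 3)) (.node (.leaf 3) (.leaf 3)))))))

def twoKind105 : Janko.Tree (ℕ) :=
  (.node (.node (.node (.node (.node (.node (.leaf 0) (.leaf 3)) (.node (.leaf 3) (.leaf 3))) (.node (.node (.leaf 0) (.leaf 3)) (.node (.leaf 0) (.leaf 3)))) (.node (.node (.node (.leaf 0) (.leaf 0)) (.node (.leaf 0) (.leaf 3))) (.node (.node (.leaf 3) (.leaf 0)) (.node (.leaf 3) (.leaf 3))))) (.node (.node (.node (.node (.leaf 0) (.leaf 3)) (.node (.leaf 3) (.leaf 3))) (.node (.node (.leaf 3) (.leaf 3)) (.node (.leaf 3) (.leaf 3)))) (.node (.node (.node (.leaf 0) (.leaf 3)) (.node (.leaf 0) (.leaf 3))) (.node (.node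 (.leaf 0) (.leaf 3)) (.node (.leaf 0) (.leaf 3)))))) (.node (.node (.node (.node (.node (.leaf 0) (.leaf 3)) (.node (.leaf 3) (.leaf 3))) (.node (.node (.leaf 0) (.leaf 3)) (.node (.leaf 3) (.leaf 3)))) (.node (.node (.node (.leaf 3) (.leaf 0)) (.node (.leaf 3) (.leaf 3))) (.node (.node (.leaf 0) (.leaf 3)) (.node (.leaf 3) (.leaf 3))))) (.node (.node (.node (.node (.leaf 3) (.leaf 0)) (.node (.leaf 3) (.leaf 3))) (.node (.node (.leaf 0) (.leaf 3)) (.node (.leaf 3) (.leaf 3)))) (.node (.node (.node (.leaf 0) (.leaf 3)) (.node (.leaf 0) (.leaf 3))) (.node (.node (.leaf 3) (.leaf 3)) (.node (.leaf 3) (.leaf 3)))))))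

def twoKind106 : Janko.Tree (ℕ) :=
  (.node (.node (.node (.node (.node (.node (.leaf 3) (.leaf 3)) (.node (.leaf 0) (.leaf 3))) (.node (.node (.leaf 3) (.leaf 3)) (.node (.leaf 3) (.leaf 3)))) (.node (.node (.node (.leaf 3) (.leaf 3)) (.node (.leaf 3) (.leaf 3))) (.node (.node (.leaf 3) (.leaf 3)) (.node (.leaf 3) (.leaf 3))))) (.node (.node (.node (.node (.leaf 3) (.leaf 0)) (.node (.leaf 3) (.leaf 3))) (.node (.node (.leaf 0) (.leaf 3)) (.node (.leaf 3) (.leaf 3)))) (.node (.node (.node (.leaf 3) (.leaf 3)) (.node (.leaf 3) (.leaf 3))) (.node (.node (.leaf 3) (.leaf 3)) (.node (.leaf 3) (.leaf 3)))))) (.node (.node (.node (.node (.node (.leaf 3) (.leaf 3)) (.node (.leaf 3) (.leaf 3))) (.node (.node (.leaf 0) (.leaf 3)) (.node (.leaf 0) (.leaf 3)))) (.node (.node (.node (.leaf 3) (.leaf 3)) (.node (.leaf 3) (.leaf 3))) (.node (.node (.leaf 0) (.leaf 3)) (.node (.leaf 3) (.leaf 3))))) (.node (.node (.node (.node (.leaf 0) (.leaf 3)) (.node (.leaf 3) (.leaf 3))) (.node (.node (.leaf 3) (.leaf 3)) (.node (.leaf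 3) (.leaf 3)))) (.node (.node (.node (.leaf 3) (.leaf 3)) (.node (.leaf 3) (.leaf 3))) (.node (.node (.leaf 0) (.leaf 3)) (.node (.leaf 3) (.leaf 3)))))))

def twoKind107 : Janko.Tree (ℕ) :=
  (.node (.node (.node (.node (.node (.node (.leaf 0) (.leaf 3)) (.node (.leaf 3) (.leaf 0))) (.node (.node (.leaf 3) (.leaf 3)) (.node (.leaf 3) (.leaf 3)))) (.node (.node (.node (.leaf 3) (.leaf 3)) (.node (.leaf 3) (.leaf 3))) (.node (.node (.leaf 0) (.leaf 3)) (.node (.leaf 0) (.leaf 3))))) (.node (.node (.node (.node (.leaf 0) (.leaf 3)) (.node (.leaf 0) (.leaf 3))) (.node (.node (.leaf 0) (.leaf 3)) (.node (.leaf 0) (.leaf 3)))) (.node (.node (.node (.leaf 0) (.leaf 3)) (.node (.leaf 3) (.leaf 3))) (.node (.node (.leaf 3) (.leaf 3)) (.node (.leaf 3) (.leaf 3)))))) (.node (.node (.node (.node (.node (.leaf 0) (.leaf 3)) (.node (.leaf 3) (.leaf 3))) (.node (.node (.leaf 0) (.leaf 3)) (.node (.leaf 0) (.leaf 3)))) (.node (.node (.node (.leaf 0) (.leaf 0)) (.node (.leaf 3) (.leaf 3))) (.node (.node (.leaf 3) (.leaf 3))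 (.node (.leaf 0) (.leaf 3))))) (.node (.node (.node (.node (.leaf 0) (.leaf 3)) (.node (.leaf 0) (.leaf 3))) (.node (.node (.leaf 0) (.leaf 3)) (.node (.leaf 3) (.leaf 3)))) (.node (.node (.node (.leaf 0) (.leaf 3)) (.node (.leaf 0) (.leaf 3))) (.node (.node (.leaf 3) (.leaf 0)) (.node (.leaf 0) (.leaf 3)))))))

def twoKind108 : Janko.Tree (ℕ) :=
  (.node (.node (.node (.node (.node (.node (.leaf 0) (.leaf 3)) (.node (.leaf 3) (.leaf 3))) (.node (.node (.leaf 3) (.leaf 3)) (.node (.leaf 3) (.leaf 3)))) (.node (.node (.node (.leaf 3) (.leaf 3)) (.node (.leaf 3) (.leaf 3))) (.node (.node (.leaf 0) (.leaf 3)) (.node (.leaf 3) (.leaf 3))))) (.node (.node (.node (.node (.leaf 0) (.leaf 3)) (.node (.leaf 3) (.leaf 3))) (.node (.node (.leaf 3) (.leaf 3)) (.node (.leaf 0) (.leaf 3)))) (.node (.node (.node (.leaf 3) (.leaf 0)) (.node (.leaf 0) (.leaf 3))) (.node (.node (.leaf 3) (.leaf 3)) (.node (.leaf 3) (.leaf 3)))))) (.node (.node (.node (.node (.node (.leaf 0) (.leaf 3)) (.node (.leaf 3) (.leaf 3))) (.node (.node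 (.leaf 0) (.leaf 3)) (.node (.leaf 3) (.leaf 3)))) (.node (.node (.node (.leaf 3) (.leaf 3)) (.node (.leaf 3) (.leaf 3))) (.node (.node (.leaf 3) (.leaf 3)) (.node (.leaf 3) (.leaf 3))))) (.node (.node (.node (.node (.leaf 0) (.leaf 3)) (.node (.leaf 0) (.leaf 3))) (.node (.node (.leaf 3) (.leaf 3)) (.node (.leaf 3) (.leaf 3)))) (.node (.node (.node (.leaf 0) (.leaf 3)) (.node (.leaf 3) (.leaf 3))) (.node (.node (.leaf 3) (.leaf 3)) (.node (.leaf 3) (.leaf 3)))))))

def twoKind109 : Janko.Tree (ℕ) :=
  (.node (.node (.node (.node (.node (.node (.leaf 0) (.leaf 3)) (.node (.leaf 3) (.leaf 3))) (.node (.node (.leaf 3) (.leaf 3)) (.node (.leaf 3) (.leaf 3)))) (.node (.node (.node (.leaf 0) (.leaf 3)) (.node (.leaf 0) (.leaf 3))) (.node (.node (.leaf 3) (.leaf 3)) (.node (.leaf 3) (.leaf 3))))) (.node (.node (.node (.node (.leaf 3) (.leaf 3)) (.node (.leaf 3) (.leaf 3))) (.node (.node (.leaf 0) (.leaf 3)) (.node (.leaf 0) (.leaf 3)))) (.node (.node (.node (.leaf 0) (.leaf 3)) (.node (.leaf 3) (.leaf 3))) (.node (.node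 (.leaf 0) (.leaf 3)) (.node (.leaf 3) (.leaf 3)))))) (.node (.node (.node (.node (.node (.leaf 3) (.leaf 3)) (.node (.leaf 0) (.leaf 3))) (.node (.node (.leaf 3) (.leaf 3)) (.node (.leaf 3) (.leaf 3)))) (.node (.node (.node (.leaf 0) (.leaf 3)) (.node (.leaf 3) (.leaf 3))) (.node (.node (.leaf 3) (.leaf 0)) (.node (.leaf 3) (.leaf 3))))) (.node (.node (.node (.node (.leaf 0) (.leaf 3)) (.node (.leaf 3) (.leaf 3))) (.node (.node (.leaf 3) (.leaf 3)) (.node (.leaf 3) (.leaf 3)))) (.node (.node (.node (.leaf 3) (.leaf 3)) (.node (.leaf 0) (.leaf 3))) (.node (.node (.leaf 0) (.leaf 0)) (.node (.leaf 3) (.leaf 3)))))))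

def twoKind110 : Janko.Tree (ℕ) :=
  (.node (.node (.node (.node (.node (.node (.leaf 0) (.leaf 3)) (.node (.leaf 3) (.leaf 3))) (.node (.node (.leaf 0) (.leaf 3)) (.node (.leaf 3) (.leaf 3)))) (.node (.node (.node (.leaf 0) (.leaf 3)) (.node (.leaf 0) (.leaf 3))) (.node (.node (.leaf 3) (.leaf 3)) (.node (.leaf 0) (.leaf 3))))) (.node (.node (.node (.node (.leaf 3) (.leaf 3)) (.node (.leaf 3) (.leaf 3))) (.node (.node (.leaf 0) (.leaf 3)) (.node (.leaf 0) (.leaf 3)))) (.node (.node (.node (.leaf 3) (.leaf 3)) (.node (.leaf 0) (.leaf 3))) (.node (.node (.leaf 3) (.leaf 3)) (.node (.leaf 3) (.leaf 3)))))) (.node (.node (.node (.node (.node (.leaf 0) (.leaf 3)) (.node (.leaf 3) (.leaf 3))) (.node (.node (.leaf 0) (.leaf 3)) (.node (.leaf 3) (.leaf 3)))) (.node (.node (.node (.leaf 0) (.leaf 3)) (.node (.leaf 3) (.leaf 3))) (.node (.node (.leaf 3) (.leaf 3)) (.node (.leaf 3) (.leaf 3))))) (.node (.node (.node (.node (.leaf 3) (.leaf 3)) (.node (.leaf 3) (.leaf 3))) (.node (.node (.leaf 3) (.leaf 3)) (.node (.leaf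 0) (.leaf 3)))) (.node (.node (.node (.leaf 0) (.leaf 3)) (.node (.leaf 3) (.leaf 3))) (.node (.node (.leaf 3) (.leaf 3)) (.node (.leaf 3) (.leaf 3)))))))

def twoKind111 : Janko.Tree (ℕ) :=
  (.node (.node (.node (.node (.node (.node (.leaf 0) (.leaf 3)) (.node (.leaf 0) (.leaf 3))) (.node (.node (.leaf 3) (.leaf 3)) (.node (.leaf 0) (.leaf 3)))) (.node (.node (.node (.leaf 3) (.leaf 3)) (.node (.leaf 0) (.leaf 3))) (.node (.node (.leaf 0) (.leaf 0)) (.node (.leaf 0) (.leaf 3))))) (.node (.node (.node (.node (.leaf 0) (.leaf 0)) (.node (.leaf 0) (.leaf 3))) (.node (.node (.leaf 0) (.leaf 3)) (.node (.leaf 3) (.leaf 3)))) (.node (.node (.node (.leaf 0) (.leaf 3)) (.node (.leaf 3) (.leaf 3))) (.node (.node (.leaf 3) (.leaf 3)) (.node (.leaf 3) (.leaf 3)))))) (.node (.node (.node (.node (.node (.leaf 0) (.leaf 3)) (.node (.leaf 0) (.leaf 3))) (.node (.node (.leaf 0) (.leaf 0)) (.node (.leaf 3) (.leaf 3)))) (.node (.node (.node (.leaf 3) (.leaf 0)) (.node (.leaf 0) (.leaf 3))) (.node (.node (.leaf 0) (.leaf 3))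 (.node (.leaf 0) (.leaf 3))))) (.node (.node (.node (.node (.leaf 0) (.leaf 3)) (.node (.leaf 3) (.leaf 3))) (.node (.node (.leaf 0) (.leaf 3)) (.node (.leaf 0) (.leaf 3)))) (.node (.node (.node (.leaf 3) (.leaf 3)) (.node (.leaf 0) (.leaf 3))) (.node (.node (.leaf 3) (.leaf 0)) (.node (.leaf 3) (.leaf 3)))))))

def twoKind112 : Janko.Tree (ℕ) :=
  (.node (.node (.node (.node (.node (.node (.leaf 0) (.leaf 3)) (.node (.leaf 3) (.leaf 3))) (.node (.node (.leaf 3) (.leaf 3)) (.node (.leaf 3) (.leaf 3)))) (.node (.node (.node (.leaf 3) (.leaf 3)) (.node (.leaf 0) (.leaf 0))) (.node (.node (.leaf 3) (.leaf 3)) (.node (.leaf 0) (.leaf 3))))) (.node (.node (.node (.node (.leaf 0) (.leaf 3)) (.node (.leaf 3) (.leaf 3))) (.node (.node (.leaf 3) (.leaf 3)) (.node (.leaf 3) (.leaf 3)))) (.node (.node (.node (.leaf 3) (.leaf 3)) (.node (.leaf 3) (.leaf 3))) (.node (.node (.leaf 3) (.leaf 0)) (.node (.leaf 0) (.leaf 3)))))) (.node (.node (.node (.node (.node (.leaf 0) (.leaf 3)) (.node (.leaf 3) (.leaf 3))) (.node (.node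 (.leaf 0) (.leaf 3)) (.node (.leaf 3) (.leaf 3)))) (.node (.node (.node (.leaf 3) (.leaf 3)) (.node (.leaf 3) (.leaf 3))) (.node (.node (.leaf 0) (.leaf 3)) (.node (.leaf 3) (.leaf 3))))) (.node (.node (.node (.node (.leaf 3) (.leaf 3)) (.node (.leaf 0) (.leaf 3))) (.node (.node (.leaf 0) (.leaf 3)) (.node (.leaf 3) (.leaf 3)))) (.node (.node (.node (.leaf 0) (.leaf 3)) (.node (.leaf 3) (.leaf 3))) (.node (.node (.leaf 0) (.leaf 3)) (.node (.leaf 3) (.leaf 3)))))))

def twoKind113 : Janko.Tree (ℕ) :=
  (.node (.node (.node (.node (.node (.node (.leaf 3) (.leaf 3)) (.node (.leaf 3) (.leaf 3))) (.node (.node (.leaf 0) (.leaf 3)) (.node (.leaf 0) (.leaf 3)))) (.node (.node (.node (.leaf 0) (.leaf 3)) (.node (.leaf 3) (.leaf 3))) (.node (.node (.leaf 3) (.leaf 3)) (.node (.leaf 0) (.leaf 3))))) (.node (.node (.node (.node (.leaf 0) (.leaf 3)) (.node (.leaf 0) (.leaf 3))) (.node (.node (.leaf 3) (.leaf 3)) (.node (.leaf 3) (.leaf 3)))) (.node (.node (.node (.leaf 0) (.leaf 3)) (.node (.leaf 3) (.leaf 3))) (.node (.node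 (.leaf 3) (.leaf 3)) (.node (.leaf 3) (.leaf 3)))))) (.node (.node (.node (.node (.node (.leaf 0) (.leaf 0)) (.node (.leaf 3) (.leaf 3))) (.node (.node (.leaf 0) (.leaf 3)) (.node (.leaf 0) (.leaf 3)))) (.node (.node (.node (.leaf 0) (.leaf 3)) (.node (.leaf 3) (.leaf 3))) (.node (.node (.leaf 3) (.leaf 3)) (.node (.leaf 3) (.leaf 3))))) (.node (.node (.node (.node (.leaf 0) (.leaf 3)) (.node (.leaf 3) (.leaf 3))) (.node (.node (.leaf 0) (.leaf 3)) (.node (.leaf 3) (.leaf 3)))) (.node (.node (.node (.leaf 3) (.leaf 3)) (.node (.leaf 3) (.leaf 3))) (.node (.node (.leaf 3) (.leaf 3)) (.node (.leaf 3) (.leaf 3)))))))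

def twoKind114 : Janko.Tree (ℕ) :=
  (.node (.node (.node (.node (.node (.node (.leaf 0) (.leaf 3)) (.node (.leaf 0) (.leaf 3))) (.node (.node (.leaf 3) (.leaf 3)) (.node (.leaf 3) (.leaf 3)))) (.node (.node (.node (.leaf 3) (.leaf 3)) (.node (.leaf 3) (.leaf 3))) (.node (.node (.leaf 0) (.leaf 0)) (.node (.leaf 0) (.leaf 3))))) (.node (.node (.node (.node (.leaf 3) (.leaf 3)) (.node (.leaf 3) (.leaf 3))) (.node (.node (.leaf 3) (.leaf 3)) (.node (.leaf 3) (.leaf 3)))) (.node (.node (.node (.leaf 3) (.leaf 3)) (.node (.leaf 3) (.leaf 3))) (.node (.node (.leaf 3) (.leaf 3)) (.node (.leaf 0) (.leaf 3)))))) (.node (.node (.node (.node (.node (.leaf 3) (.leaf 3)) (.node (.leaf 3) (.leaf 3))) (.node (.node (.leaf 0) (.leaf 3)) (.node (.leaf 0) (.leaf 3)))) (.node (.node (.node (.leaf 3) (.leaf 3)) (.node (.leaf 3) (.leaf 3))) (.node (.node (.leaf 3) (.leaf 3)) (.node (.leaf 3) (.leaf 3))))) (.node (.node (.node (.node (.leaf 0) (.leaf 3)) (.node (.leaf 3) (.leaf 3))) (.node (.node (.leaf 0) (.leaf 3)) (.node (.leaf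 0) (.leaf 3)))) (.node (.node (.node (.leaf 3) (.leaf 0)) (.node (.leaf 3) (.leaf 3))) (.node (.node (.leaf 0) (.leaf 3)) (.node (.leaf 3) (.leaf 3)))))))

def twoKind115 : Janko.Tree (ℕ) :=
  (.node (.node (.node (.node (.node (.node (.leaf 0) (.leaf 3)) (.node (.leaf 0) (.leaf 0))) (.node (.node (.leaf 0) (.leaf 3)) (.node (.leaf 0) (.leaf 3)))) (.node (.node (.node (.leaf 0) (.leaf 0)) (.node (.leaf 3) (.leaf 3))) (.node (.node (.leaf 0) (.leaf 3)) (.node (.leaf 3) (.leaf 0))))) (.node (.node (.node (.node (.leaf 0) (.leaf 3)) (.node (.leaf 0) (.leaf 3))) (.node (.node (.leaf 3) (.leaf 3)) (.node (.leaf 3) (.leaf 3)))) (.node (.node (.node (.leaf 0) (.leaf 3)) (.node (.leaf 0) (.leaf 3))) (.node (.node (.leaf 0) (.leaf 3)) (.node (.leaf 3) (.leaf 3)))))) (.node (.node (.node (.node (.node (.leaf 0) (.leaf 0)) (.node (.leaf 3) (.leaf 3))) (.node (.node (.leaf 3) (.leaf 3)) (.node (.leaf 3) (.leaf 3)))) (.node (.node (.node (.leaf 0) (.leaf 3)) (.node (.leaf 3) (.leaf 3))) (.node (.node (.leaf 0) (.leaf 3))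 (.node (.leaf 3) (.leaf 3))))) (.node (.node (.node (.node (.leaf 0) (.leaf 3)) (.node (.leaf 0) (.leaf 3))) (.node (.node (.leaf 3) (.leaf 3)) (.node (.leaf 3) (.leaf 3)))) (.node (.node (.node (.leaf 0) (.leaf 3)) (.node (.leaf 0) (.leaf 3))) (.node (.node (.leaf 0) (.leaf 3)) (.node (.leaf 0) (.leaf 3)))))))

def twoKind116 : Janko.Tree (ℕ) :=
  (.node (.node (.node (.node (.node (.node (.leaf 0) (.leaf 3)) (.node (.leaf 0) (.leaf 3))) (.node (.node (.leaf 0) (.leaf 3)) (.node (.leaf 3) (.leaf 3)))) (.node (.node (.node (.leaf 0) (.leaf 3)) (.node (.leaf 0) (.leaf 3))) (.node (.node (.leaf 3) (.leaf 3)) (.node (.leaf 3) (.leaf 3))))) (.node (.node (.node (.node (.leaf 0) (.leaf 3)) (.node (.leaf 3) (.leaf 3))) (.node (.node (.leaf 3) (.leaf 3)) (.node (.leaf 0) (.leaf 3)))) (.node (.node (.node (.leaf 0) (.leaf 3)) (.node (.leaf 3) (.leaf 3))) (.node (.node (.leaf 0) (.leaf 3)) (.node (.leaf 3) (.leaf 3)))))) (.node (.node (.node (.node (.node (.leaf 0) (.leaf 3)) (.node (.leaf 3) (.leaf 3))) (.node (.node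 (.leaf 3) (.leaf 3)) (.node (.leaf 3) (.leaf 3)))) (.node (.node (.node (.leaf 3) (.leaf 3)) (.node (.leaf 3) (.leaf 3))) (.node (.node (.leaf 3) (.leaf 3)) (.node (.leaf 0) (.leaf 3))))) (.node (.node (.node (.node (.leaf 3) (.leaf 3)) (.node (.leaf 3) (.leaf 3))) (.node (.node (.leaf 3) (.leaf 3)) (.node (.leaf 3) (.leaf 3)))) (.node (.node (.node (.leaf 0) (.leaf 3)) (.node (.leaf 0) (.leaf 0))) (.node (.node (.leaf 0) (.leaf 3)) (.node (.leaf 3) (.leaf 3)))))))

def twoKind117 : Janko.Tree (ℕ) :=
  (.node (.node (.node (.node (.node (.node (.leaf 0) (.leaf 3)) (.node (.leaf 0) (.leaf 3))) (.node (.node (.leaf 0) (.leaf 3)) (.node (.leaf 3) (.leaf 3)))) (.node (.node (.node (.leaf 0) (.leaf 3)) (.node (.leaf 0) (.leaf 3))) (.node (.node (.leaf 0) (.leaf 3)) (.node (.leaf 0) (.leaf 3))))) (.node (.node (.node (.node (.leaf 0) (.leaf 3)) (.node (.leaf 3) (.leaf 3))) (.node (.node (.leaf 0) (.leaf 3)) (.node (.leaf 3) (.leaf 3)))) (.node (.node (.node (.leaf 3) (.leaf 3)) (.node (.leaf 3) (.leaf 3))) (.node (.node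 (.leaf 0) (.leaf 3)) (.node (.leaf 3) (.leaf 3)))))) (.node (.node (.node (.node (.node (.leaf 0) (.leaf 3)) (.node (.leaf 3) (.leaf 0))) (.node (.node (.leaf 0) (.leaf 3)) (.node (.leaf 3) (.leaf 3)))) (.node (.node (.node (.leaf 0) (.leaf 3)) (.node (.leaf 3) (.leaf 3))) (.node (.node (.leaf 0) (.leaf 3)) (.node (.leaf 3) (.leaf 3))))) (.node (.node (.node (.node (.leaf 0) (.leaf 3)) (.node (.leaf 3) (.leaf 3))) (.node (.node (.leaf 0) (.leaf 3)) (.node (.leaf 3) (.leaf 3)))) (.node (.node (.node (.leaf 3) (.leaf 3)) (.node (.leaf 3) (.leaf 3))) (.node (.node (.leaf 3) (.leaf 3)) (.node (.leaf 3) (.leaf 3)))))))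

def twoKind118 : Janko.Tree (ℕ) :=
  (.node (.node (.node (.node (.node (.node (.leaf 3) (.leaf 3)) (.node (.leaf 0) (.leaf 3))) (.node (.node (.leaf 0) (.leaf 3)) (.node (.leaf 0) (.leaf 3)))) (.node (.node (.node (.leaf 3) (.leaf 3)) (.node (.leaf 3) (.leaf 3))) (.node (.node (.leaf 3) (.leaf 3)) (.node (.leaf 3) (.leaf 3))))) (.node (.node (.node (.node (.leaf 0) (.leaf 0)) (.node (.leaf 0) (.leaf 3))) (.node (.node (.leaf 3) (.leaf 3)) (.node (.leaf 0) (.leaf 3)))) (.node (.node (.node (.leaf 0) (.leaf 3)) (.node (.leaf 3) (.leaf 3))) (.node (.node (.leaf 3) (.leaf 3)) (.node (.leaf 3) (.leaf 3)))))) (.node (.node (.node (.node (.node (.leaf 0) (.leaf 3)) (.node (.leaf 3) (.leaf 3))) (.node (.node (.leaf 3) (.leaf 3)) (.node (.leaf 3) (.leaf 3)))) (.node (.node (.node (.leaf 0) (.leaf 3)) (.node (.leaf 3) (.leaf 3))) (.node (.node (.leaf 3) (.leaf 3)) (.node (.leaf 3) (.leaf 3))))) (.node (.node (.node (.node (.leaf 0) (.leaf 0)) (.node (.leaf 3) (.leaf 3))) (.node (.node (.leaf 3) (.leaf 3)) (.node (.leaf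 3) (.leaf 3)))) (.node (.node (.node (.leaf 0) (.leaf 3)) (.node (.leaf 3) (.leaf 3))) (.node (.node (.leaf 3) (.leaf 3)) (.node (.leaf 3) (.leaf 3)))))))

def twoKind119 : Janko.Tree (ℕ) :=
  (.node (.node (.node (.node (.node (.node (.leaf 0) (.leaf 3)) (.node (.leaf 0) (.leaf 3))) (.node (.node (.leaf 0) (.leaf 3)) (.node (.leaf 3) (.leaf 3)))) (.node (.node (.node (.leaf 0) (.leaf 3)) (.node (.leaf 0) (.leaf 3))) (.node (.node (.leaf 0) (.leaf 0)) (.node (.leaf 3) (.leaf 3))))) (.node (.node (.node (.node (.leaf 3) (.leaf 0)) (.node (.leaf 3) (.leaf 3))) (.node (.node (.leaf 0) (.leaf 3)) (.node (.leaf 3) (.leaf 3)))) (.node (.node (.node (.leaf 0) (.leaf 3)) (.node (.leaf 3) (.leaf 3))) (.node (.node (.leaf 0) (.leaf 3)) (.node (.leaf 3) (.leaf 3)))))) (.node (.node (.node (.node (.node (.leaf 3) (.leaf 3)) (.node (.leaf 3) (.leaf 3))) (.node (.node (.leaf 0) (.leaf 0)) (.node (.leaf 3) (.leaf 3)))) (.node (.node (.node (.leaf 0) (.leaf 3)) (.node (.leaf 3) (.leaf 0))) (.node (.node (.leaf 0) (.leaf 3))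 (.node (.leaf 3) (.leaf 3))))) (.node (.node (.node (.node (.leaf 0) (.leaf 3)) (.node (.leaf 3) (.leaf 3))) (.node (.node (.leaf 0) (.leaf 3)) (.node (.leaf 3) (.leaf 3)))) (.node (.node (.node (.leaf 0) (.leaf 0)) (.node (.leaf 3) (.leaf 3))) (.node (.node (.leaf 3) (.leaf 3)) (.node (.leaf 3) (.leaf 3)))))))

def twoKind120 : Janko.Tree (ℕ) :=
  (.node (.node (.node (.node (.node (.node (.leaf 0) (.leaf 3)) (.node (.leaf 3) (.leaf 3))) (.node (.node (.leaf 0) (.leaf 3)) (.node (.leaf 3) (.leaf 3)))) (.node (.node (.node (.leaf 0) (.leaf 0)) (.node (.leaf 0) (.leaf 3))) (.node (.node (.leaf 3) (.leaf 3)) (.node (.leaf 3) (.leaf 3))))) (.node (.node (.node (.node (.leaf 3) (.leaf 3)) (.node (.leaf 3) (.leaf 3))) (.node (.node (.leaf 0) (.leaf 3)) (.node (.leaf 3) (.leaf 3)))) (.node (.node (.node (.leaf 3) (.leaf 3)) (.node (.leaf 3) (.leaf 3))) (.node (.node (.leaf 3) (.leaf 3)) (.node (.leaf 3) (.leaf 3)))))) (.node (.node (.node (.node (.node (.leaf 3) (.leaf 3)) (.node (.leaf 3) (.leaf 3))) (.node (.node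 (.leaf 0) (.leaf 3)) (.node (.leaf 0) (.leaf 3)))) (.node (.node (.node (.leaf 3) (.leaf 3)) (.node (.leaf 0) (.leaf 0))) (.node (.node (.leaf 0) (.leaf 3)) (.node (.leaf 3) (.leaf 3))))) (.node (.node (.node (.node (.leaf 0) (.leaf 0)) (.node (.leaf 3) (.leaf 3))) (.node (.node (.leaf 3) (.leaf 3)) (.node (.leaf 3) (.leaf 3)))) (.node (.node (.node (.leaf 0) (.leaf 3)) (.node (.leaf 0) (.leaf 3))) (.node (.node (.leaf 0) (.leaf 3)) (.node (.leaf 3) (.leaf 3)))))))

def twoKind121 : Janko.Tree (ℕ) :=
  (.node (.node (.node (.node (.node (.node (.leaf 0) (.leaf 3)) (.node (.leaf 0) (.leaf 3))) (.node (.node (.leaf 3) (.leaf 3)) (.node (.leaf 3) (.leaf 3)))) (.node (.node (.node (.leaf 0) (.leaf 3)) (.node (.leaf 3) (.leaf 3))) (.node (.node (.leaf 3) (.leaf 3)) (.node (.leaf 3) (.leaf 3))))) (.node (.node (.node (.node (.leaf 0) (.leaf 3)) (.node (.leaf 3) (.leaf 3))) (.node (.node (.leaf 0) (.leaf 3)) (.node (.leaf 3) (.leaf 3)))) (.node (.node (.node (.leaf 0) (.leaf 3)) (.node (.leaf 3) (.leaf 3))) (.node (.node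 (.leaf 3) (.leaf 3)) (.node (.leaf 0) (.leaf 3)))))) (.node (.node (.node (.node (.node (.leaf 0) (.leaf 3)) (.node (.leaf 0) (.leaf 3))) (.node (.node (.leaf 3) (.leaf 3)) (.node (.leaf 0) (.leaf 3)))) (.node (.node (.node (.leaf 3) (.leaf 3)) (.node (.leaf 3) (.leaf 3))) (.node (.node (.leaf 3) (.leaf 3)) (.node (.leaf 3) (.leaf 3))))) (.node (.node (.node (.node (.leaf 0) (.leaf 0)) (.node (.leaf 3) (.leaf 3))) (.node (.node (.leaf 3) (.leaf 3)) (.node (.leaf 0) (.leaf 3)))) (.node (.node (.node (.leaf 0) (.leaf 3)) (.node (.leaf 3) (.leaf 3))) (.node (.node (.leaf 3) (.leaf 3)) (.node (.leaf 0) (.leaf 3)))))))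

def twoKind122 : Janko.Tree (ℕ) :=
  (.node (.node (.node (.node (.node (.node (.leaf 0) (.leaf 3)) (.node (.leaf 3) (.leaf 3))) (.node (.node (.leaf 3) (.leaf 3)) (.node (.leaf 0) (.leaf 3)))) (.node (.node (.node (.leaf 0) (.leaf 3)) (.node (.leaf 0) (.leaf 3))) (.node (.node (.leaf 3) (.leaf 3)) (.node (.leaf 0) (.leaf 3))))) (.node (.node (.node (.node (.leaf 3) (.leaf 3)) (.node (.leaf 3) (.leaf 3))) (.node (.node (.leaf 0) (.leaf 3)) (.node (.leaf 3) (.leaf 3)))) (.node (.node (.node (.leaf 0) (.leaf 3)) (.node (.leaf 3) (.leaf 3))) (.node (.node (.leaf 0) (.leaf 0)) (.node (.leaf 3) (.leaf 3)))))) (.node (.node (.node (.node (.node (.leaf 0) (.leaf 3)) (.node (.leaf 3) (.leaf 3))) (.node (.node (.leaf 0) (.leaf 3)) (.node (.leaf 0) (.leaf 3)))) (.node (.node (.node (.leaf 0) (.leaf 3)) (.node (.leaf 3) (.leaf 0))) (.node (.node (.leaf 0) (.leaf 3)) (.node (.leaf 3) (.leaf 3))))) (.node (.node (.node (.node (.leaf 3) (.leaf 3)) (.node (.leaf 3) (.leaf 3))) (.node (.node (.leaf 0) (.leaf 3)) (.node (.leaf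 3) (.leaf 3)))) (.node (.node (.node (.leaf 0) (.leaf 3)) (.node (.leaf 0) (.leaf 3))) (.node (.node (.leaf 0) (.leaf 3)) (.node (.leaf 0) (.leaf 3)))))))

def twoKind123 : Janko.Tree (ℕ) :=
  (.node (.node (.node (.node (.node (.node (.leaf 0) (.leaf 0)) (.node (.leaf 3) (.leaf 0))) (.node (.node (.leaf 0) (.leaf 3)) (.node (.leaf 3) (.leaf 3)))) (.node (.node (.node (.leaf 0) (.leaf 0)) (.node (.leaf 3) (.leaf 3))) (.node (.node (.leaf 3) (.leaf 3)) (.node (.leaf 3) (.leaf 3))))) (.node (.node (.node (.node (.leaf 0) (.leaf 3)) (.node (.leaf 0) (.leaf 3))) (.node (.node (.leaf 0) (.leaf 3)) (.node (.leaf 0) (.leaf 3)))) (.node (.node (.node (.leaf 3) (.leaf 3)) (.node (.leaf 3) (.leaf 3))) (.node (.node (.leaf 3) (.leaf 3)) (.node (.leaf 3) (.leaf 3)))))) (.node (.node (.node (.node (.node (.leaf 0) (.leaf 0)) (.node (.leaf 3) (.leaf 3))) (.node (.node (.leaf 0) (.leaf 3)) (.node (.leaf 0) (.leaf 3)))) (.node (.node (.node (.leaf 0) (.leaf 0)) (.node (.leaf 3) (.leaf 3))) (.node (.node (.leaf 3) (.leaf 0))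 (.node (.leaf 3) (.leaf 3))))) (.node (.node (.node (.node (.leaf 0) (.leaf 3)) (.node (.leaf 3) (.leaf 3))) (.node (.node (.leaf 3) (.leaf 3)) (.node (.leaf 3) (.leaf 3)))) (.node (.node (.node (.leaf 0) (.leaf 0)) (.node (.leaf 3) (.leaf 3))) (.node (.node (.leaf 0) (.leaf 3)) (.node (.leaf 3) (.leaf 3)))))))

def twoKind124 : Janko.Tree (ℕ) :=
  (.node (.node (.node (.node (.node (.node (.leaf 3) (.leaf 3)) (.node (.leaf 3) (.leaf 3))) (.node (.node (.leaf 3) (.leaf 3)) (.node (.leaf 3) (.leaf 3)))) (.node (.node (.node (.leaf 3) (.leaf 3)) (.node (.leaf 3) (.leaf 3))) (.node (.node (.leaf 0) (.leaf 3)) (.node (.leaf 3) (.leaf 3))))) (.node (.node (.node (.node (.leaf 0) (.leaf 3)) (.node (.leaf 3) (.leaf 3))) (.node (.node (.leaf 3) (.leaf 3)) (.node (.leaf 0) (.leaf 3)))) (.node (.node (.node (.leaf 3) (.leaf 3)) (.node (.leaf 0) (.leaf 3))) (.node (.node (.leaf 3) (.leaf 3)) (.node (.leaf 3) (.leaf 3)))))) (.node (.node (.node (.node (.node (.leaf 0) (.leaf 3)) (.node (.leaf 0) (.leaf 3))) (.node (.node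 (.leaf 0) (.leaf 3)) (.node (.leaf 3) (.leaf 3)))) (.node (.node (.node (.leaf 0) (.leaf 3)) (.node (.leaf 3) (.leaf 3))) (.node (.node (.leaf 3) (.leaf 3)) (.node (.leaf 3) (.leaf 3))))) (.node (.node (.node (.node (.leaf 0) (.leaf 3)) (.node (.leaf 3) (.leaf 3))) (.node (.node (.leaf 0) (.leaf 3)) (.node (.leaf 3) (.leaf 3)))) (.node (.node (.node (.leaf 3) (.leaf 3)) (.node (.leaf 3) (.leaf 3))) (.node (.node (.leaf 3) (.leaf 3)) (.node (.leaf 3) (.leaf 3)))))))

def twoKind125 : Janko.Tree (ℕ) :=
  (.node (.node (.node (.node (.node (.node (.leaf 0) (.leaf 3)) (.node (.leaf 3) (.leaf 3))) (.node (.node (.leaf 0) (.leaf 3)) (.node (.leaf 0) (.leaf 3)))) (.node (.node (.node (.leaf 0) (.leaf 3)) (.node (.leaf 3) (.leaf 3))) (.node (.node (.leaf 3) (.leaf 3)) (.node (.leaf 0) (.leaf 3))))) (.node (.node (.node (.node (.leaf 3) (.leaf 3)) (.node (.leaf 0) (.leaf 3))) (.node (.node (.leaf 0) (.leaf 3)) (.node (.leaf 3) (.leaf 3)))) (.node (.node (.node (.leaf 0) (.leaf 3)) (.node (.leaf 3) (.leaf 3))) (.node (.node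 (.leaf 0) (.leaf 3)) (.node (.leaf 3) (.leaf 3)))))) (.node (.node (.node (.node (.node (.leaf 3) (.leaf 3)) (.node (.leaf 3) (.leaf 3))) (.node (.node (.leaf 0) (.leaf 3)) (.node (.leaf 3) (.leaf 3)))) (.node (.node (.node (.leaf 3) (.leaf 3)) (.node (.leaf 3) (.leaf 0))) (.node (.node (.leaf 0) (.leaf 3)) (.node (.leaf 3) (.leaf 3))))) (.node (.node (.node (.node (.leaf 0) (.leaf 3)) (.node (.leaf 3) (.leaf 3))) (.node (.node (.leaf 3) (.leaf 3)) (.node (.leaf 3) (.leaf 3)))) (.node (.node (.node (.leaf 3) (.leaf 3)) (.node (.leaf 0) (.leaf 3))) (.node (.node (.leaf 3) (.leaf 3)) (.node (.leaf 3) (.leaf 3)))))))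

def twoKind126 : Janko.Tree (ℕ) :=
  (.node (.node (.node (.node (.node (.node (.leaf 0) (.leaf 0)) (.node (.leaf 3) (.leaf 3))) (.node (.node (.leaf 3) (.leaf 3)) (.node (.leaf 3) (.leaf 3)))) (.node (.node (.node (.leaf 3) (.leaf 3)) (.node (.leaf 0) (.leaf 3))) (.node (.node (.leaf 0) (.leaf 3)) (.node (.leaf 3) (.leaf 3))))) (.node (.node (.node (.node (.leaf 3) (.leaf 3)) (.node (.leaf 3) (.leaf 3))) (.node (.node (.leaf 3) (.leaf 3)) (.node (.leaf 3) (.leaf 3)))) (.node (.node (.node (.leaf 3) (.leaf 3)) (.node (.leaf 3) (.leaf 3))) (.node (.node (.leaf 3) (.leaf 3)) (.node (.leaf 3) (.leaf 3)))))) (.node (.node (.node (.node (.node (.leaf 3) (.leaf 3)) (.node (.leaf 3) (.leaf 3))) (.node (.node (.leaf 3) (.leaf 3)) (.node (.leaf 3) (.leaf 3)))) (.node (.node (.node (.leaf 3) (.leaf 3)) (.node (.leaf 3) (.leaf 3))) (.node (.node (.leaf 3) (.leaf 3)) (.node (.leaf 3) (.leaf 3))))) (.node (.node (.node (.node (.leaf 0) (.leaf 0)) (.node (.leaf 3) (.leaf 3))) (.node (.node (.leaf 0) (.leaf 3)) (.node (.leaf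 3) (.leaf 3)))) (.node (.node (.node (.leaf 0) (.leaf 3)) (.node (.leaf 3) (.leaf 3))) (.node (.node (.leaf 3) (.leaf 3)) (.node (.leaf 3) (.leaf 3)))))))

def twoKind127 : Janko.Tree (ℕ) :=
  (.node (.node (.node (.node (.node (.node (.leaf 0) (.leaf 3)) (.node (.leaf 3) (.leaf 3))) (.node (.node (.leaf 0) (.leaf 3)) (.node (.leaf 0) (.leaf 3)))) (.node (.node (.node (.leaf 0) (.leaf 3)) (.node (.leaf 3) (.leaf 3))) (.node (.node (.leaf 0) (.leaf 3)) (.node (.leaf 0) (.leaf 3))))) (.node (.node (.node (.node (.leaf 3) (.leaf 3)) (.node (.leaf 3) (.leaf 3))) (.node (.node (.leaf 3) (.leaf 3)) (.node (.leaf 3) (.leaf 3)))) (.node (.node (.node (.leaf 3) (.leaf 3)) (.node (.leaf 3) (.leaf 3))) (.node (.node (.leaf 0) (.leaf 3)) (.node (.leaf 3) (.leaf 3)))))) (.node (.node (.node (.node (.node (.leaf 0) (.leaf 3)) (.node (.leaf 3) (.leaf 3))) (.node (.node (.leaf 0) (.leaf 3)) (.node (.leaf 0) (.leaf 3)))) (.node (.node (.node (.leaf 0) (.leaf 3)) (.node (.leaf 3) (.leaf 3))) (.node (.node (.leaf 0) (.leaf 3))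 (.node (.leaf 3) (.leaf 3))))) (.node (.node (.node (.node (.leaf 0) (.leaf 3)) (.node (.leaf 3) (.leaf 3))) (.node (.node (.leaf 0) (.leaf 3)) (.node (.leaf 0) (.leaf 3)))) (.node (.node (.node (.leaf 0) (.leaf 3)) (.node (.leaf 0) (.leaf 3))) (.node (.node (.leaf 0) (.leaf 3)) (.node (.leaf 3) (.leaf 3)))))))

def twoKind128 : Janko.Tree (ℕ) :=
  (.node (.node (.node (.node (.node (.node (.leaf 0) (.leaf 0)) (.node (.leaf 3) (.leaf 3))) (.node (.node (.leaf 3) (.leaf 3)) (.node (.leaf 0) (.leaf 3)))) (.node (.node (.node (.leaf 0) (.leaf 3)) (.node (.leaf 0) (.leaf 3))) (.node (.node (.leaf 3) (.leaf 3)) (.node (.leaf 0) (.leaf 3))))) (.node (.node (.node (.node (.leaf 0) (.leaf 3)) (.node (.leaf 3) (.leaf 3))) (.node (.node (.leaf 3) (.leaf 3)) (.node (.leaf 3) (.leaf 3)))) (.node (.node (.node (.leaf 3) (.leaf 3)) (.node (.leaf 3) (.leaf 3))) (.node (.node (.leaf 3) (.leaf 3)) (.node (.leaf 3) (.leaf 3)))))) (.node (.node (.node (.node (.node (.leaf 0) (.leaf 3)) (.node (.leaf 0) (.leaf 3))) (.node (.node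 (.leaf 0) (.leaf 3)) (.node (.leaf 0) (.leaf 3)))) (.node (.node (.node (.leaf 0) (.leaf 3)) (.node (.leaf 3) (.leaf 3))) (.node (.node (.leaf 3) (.leaf 3)) (.node (.leaf 3) (.leaf 3))))) (.node (.node (.node (.node (.leaf 3) (.leaf 3)) (.node (.leaf 3) (.leaf 3))) (.node (.node (.leaf 0) (.leaf 3)) (.node (.leaf 3) (.leaf 3)))) (.node (.node (.node (.leaf 3) (.leaf 3)) (.node (.leaf 0) (.leaf 3))) (.node (.node (.leaf 0) (.leaf 3)) (.node (.leaf 3) (.leaf 3)))))))

def twoKind129 : Janko.Tree (ℕ) :=
  (.node (.node (.node (.node (.node (.node (.leaf 3) (.leaf 3)) (.node (.leaf 3) (.leaf 3))) (.node (.node (.leaf 3) (.leaf 3)) (.node (.leaf 3) (.leaf 3)))) (.node (.node (.node (.leaf 3) (.leaf 3)) (.node (.leaf 0) (.leaf 3))) (.node (.node (.leaf 3) (.leaf 3)) (.node (.leaf 0) (.leaf 3))))) (.node (.node (.node (.node (.leaf 0) (.leaf 3)) (.node (.leaf 3) (.leaf 0))) (.node (.node (.leaf 3) (.leaf 3)) (.node (.leaf 3) (.leaf 3)))) (.node (.node (.node (.leaf 3) (.leaf 3)) (.node (.leaf 3) (.leaf 3))) (.node (.node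 (.leaf 3) (.leaf 0)) (.node (.leaf 3) (.leaf 3)))))) (.node (.node (.node (.node (.node (.leaf 0) (.leaf 3)) (.node (.leaf 0) (.leaf 0))) (.node (.node (.leaf 0) (.leaf 3)) (.node (.leaf 3) (.leaf 3)))) (.node (.node (.node (.leaf 0) (.leaf 3)) (.node (.leaf 0) (.leaf 3))) (.node (.node (.leaf 0) (.leaf 3)) (.node (.leaf 0) (.leaf 3))))) (.node (.node (.node (.node (.leaf 0) (.leaf 3)) (.node (.leaf 0) (.leaf 3))) (.node (.node (.leaf 3) (.leaf 3)) (.node (.leaf 0) (.leaf 3)))) (.node (.node (.node (.leaf 0) (.leaf 3)) (.node (.leaf 3) (.leaf 3))) (.node (.node (.leaf 0) (.leaf 3)) (.node (.leaf 3) (.leaf 3)))))))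

def twoKind130 : Janko.Tree (ℕ) :=
  (.node (.node (.node (.node (.node (.node (.leaf 0) (.leaf 3)) (.node (.leaf 3) (.leaf 3))) (.node (.node (.leaf 0) (.leaf 0)) (.node (.leaf 0) (.leaf 3)))) (.node (.node (.node (.leaf 0) (.leaf 3)) (.node (.leaf 3) (.leaf 3))) (.node (.node (.leaf 3) (.leaf 3)) (.node (.leaf 3) (.leaf 3))))) (.node (.node (.node (.node (.leaf 0) (.leaf 3)) (.node (.leaf 3) (.leaf 0))) (.node (.node (.leaf 3) (.leaf 3)) (.node (.leaf 3) (.leaf 3)))) (.node (.node (.node (.leaf 3) (.leaf 3)) (.node (.leaf 3) (.leaf 3))) (.node (.node (.leaf 0) (.leaf 3)) (.node (.leaf 3) (.leaf 3)))))) (.node (.node (.node (.node (.node (.leaf 0) (.leaf 3)) (.node (.leaf 0) (.leaf 3))) (.node (.node (.leaf 3) (.leaf 3)) (.node (.leaf 3) (.leaf 3)))) (.node (.node (.node (.leaf 3) (.leaf 3)) (.node (.leaf 0) (.leaf 3))) (.node (.node (.leaf 0) (.leaf 0)) (.node (.leaf 3) (.leaf 3))))) (.node (.node (.node (.node (.leaf 0) (.leaf 0)) (.node (.leaf 3) (.leaf 3))) (.node (.node (.leaf 0) (.leaf 3)) (.node (.leaf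 3) (.leaf 3)))) (.node (.node (.node (.leaf 0) (.leaf 3)) (.node (.leaf 3) (.leaf 3))) (.node (.node (.leaf 3) (.leaf 3)) (.node (.leaf 3) (.leaf 3)))))))

def twoKind131 : Janko.Tree (ℕ) :=
  (.node (.node (.node (.node (.node (.node (.leaf 0) (.leaf 0)) (.node (.leaf 3) (.leaf 3))) (.node (.node (.leaf 0) (.leaf 3)) (.node (.leaf 3) (.leaf 3)))) (.node (.node (.node (.leaf 0) (.leaf 3)) (.node (.leaf 3) (.leaf 3))) (.node (.node (.leaf 0) (.leaf 3)) (.node (.leaf 0) (.leaf 3))))) (.node (.node (.node (.node (.leaf 0) (.leaf 0)) (.node (.leaf 0) (.leaf 3))) (.node (.node (.leaf 0) (.leaf 3)) (.node (.leaf 0) (.leaf 3)))) (.node (.node (.node (.leaf 0) (.leaf 3)) (.node (.leaf 3) (.leaf 3))) (.node (.node (.leaf 0) (.leaf 3)) (.node (.leaf 3) (.leaf 3)))))) (.node (.node (.node (.node (.node (.leaf 0) (.leaf 3)) (.node (.leaf 3) (.leaf 3))) (.node (.node (.leaf 3) (.leaf 3)) (.node (.leaf 3) (.leaf 3)))) (.node (.node (.node (.leaf 3) (.leaf 3)) (.node (.leaf 3) (.leaf 3))) (.node (.node (.leaf 0) (.leaf 3))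 (.node (.leaf 3) (.leaf 3))))) (.node (.node (.node (.node (.leaf 0) (.leaf 3)) (.node (.leaf 0) (.leaf 3))) (.node (.node (.leaf 0) (.leaf 3)) (.node (.leaf 0) (.leaf 3)))) (.node (.node (.node (.leaf 3) (.leaf 3)) (.node (.leaf 3) (.leaf 3))) (.node (.node (.leaf 3) (.leaf 3)) (.node (.leaf 3) (.leaf 3)))))))

def twoKind132 : Janko.Tree (ℕ) :=
  (.node (.node (.node (.node (.node (.node (.leaf 0) (.leaf 3)) (.node (.leaf 0) (.leaf 0))) (.node (.node (.leaf 0) (.leaf 0)) (.node (.leaf 3) (.leaf 3)))) (.node (.node (.node (.leaf 3) (.leaf 3)) (.node (.leaf 3) (.leaf 3))) (.node (.node (.leaf 3) (.leaf 3)) (.node (.leaf 0) (.leaf 3))))) (.node (.node (.node (.node (.leaf 3) (.leaf 3)) (.node (.leaf 3) (.leaf 3))) (.node (.node (.leaf 0) (.leaf 3)) (.node (.leaf 3) (.leaf 3)))) (.node (.node (.node (.leaf 0) (.leaf 3)) (.node (.leaf 3) (.leaf 3))) (.node (.node (.leaf 3) (.leaf 3)) (.node (.leaf 3) (.leaf 3)))))) (.node (.node (.node (.node (.node (.leaf 3) (.leaf 3)) (.node (.leaf 3) (.leaf 3))) (.node (.node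 (.leaf 3) (.leaf 3)) (.node (.leaf 0) (.leaf 3)))) (.node (.node (.node (.leaf 3) (.leaf 3)) (.node (.leaf 3) (.leaf 3))) (.node (.node (.leaf 0) (.leaf 3)) (.node (.leaf 3) (.leaf 3))))) (.node (.node (.node (.node (.leaf 0) (.leaf 3)) (.node (.leaf 3) (.leaf 3))) (.node (.node (.leaf 3) (.leaf 3)) (.node (.leaf 3) (.leaf 3)))) (.node (.node (.node (.leaf 0) (.leaf 3)) (.node (.leaf 0) (.leaf 3))) (.node (.node (.leaf 3) (.leaf 3)) (.node (.leaf 3) (.leaf 3)))))))

def twoKind133 : Janko.Tree (ℕ) :=
  (.node (.node (.node (.node (.node (.node (.leaf 0) (.leaf 0)) (.node (.leaf 3) (.leaf 3))) (.node (.node (.leaf 3) (.leaf 0)) (.node (.leaf 3) (.leaf 3)))) (.node (.node (.node (.leaf 0) (.leaf 3)) (.node (.leaf 3) (.leaf 3))) (.node (.node (.leaf 3) (.leaf 0)) (.node (.leaf 3) (.leaf 3))))) (.node (.node (.node (.node (.leaf 0) (.leaf 0)) (.node (.leaf 0) (.leaf 3))) (.node (.node (.leaf 0) (.leaf 3)) (.node (.leaf 3) (.leaf 3)))) (.node (.node (.node (.leaf 0) (.leaf 3)) (.node (.leaf 3) (.leaf 3))) (.node (.node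 (.leaf 3) (.leaf 3)) (.node (.leaf 3) (.leaf 3)))))) (.node (.node (.node (.node (.node (.leaf 3) (.leaf 3)) (.node (.leaf 0) (.leaf 3))) (.node (.node (.leaf 3) (.leaf 3)) (.node (.leaf 0) (.leaf 3)))) (.node (.node (.node (.leaf 0) (.leaf 3)) (.node (.leaf 3) (.leaf 3))) (.node (.node (.leaf 3) (.leaf 3)) (.node (.leaf 3) (.leaf 3))))) (.node (.node (.node (.node (.leaf 3) (.leaf 3)) (.node (.leaf 3) (.leaf 3))) (.node (.node (.leaf 0) (.leaf 3)) (.node (.leaf 0) (.leaf 3)))) (.node (.node (.node (.leaf 3) (.leaf 0)) (.node (.leaf 3) (.leaf 3))) (.node (.node (.leaf 0) (.leaf 3)) (.node (.leaf 0) (.leaf 3)))))))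

def twoKind134 : Janko.Tree (ℕ) :=
  (.node (.node (.node (.node (.node (.node (.leaf 0) (.leaf 3)) (.node (.leaf 0) (.leaf 3))) (.node (.node (.leaf 3) (.leaf 3)) (.node (.leaf 3) (.leaf 3)))) (.node (.node (.node (.leaf 3) (.leaf 3)) (.node (.leaf 3) (.leaf 3))) (.node (.node (.leaf 0) (.leaf 3)) (.node (.leaf 3) (.leaf 3))))) (.node (.node (.node (.node (.leaf 3) (.leaf 3)) (.node (.leaf 3) (.leaf 3))) (.node (.node (.leaf 3) (.leaf 3)) (.node (.leaf 3) (.leaf 3)))) (.node (.node (.node (.leaf 0) (.leaf 0)) (.node (.leaf 3) (.leaf 0))) (.node (.node (.leaf 3) (.leaf 3)) (.node (.leaf 3) (.leaf 3)))))) (.node (.node (.node (.node (.node (.leaf 3) (.leaf 3)) (.node (.leaf 0) (.leaf 3))) (.node (.node (.leaf 3) (.leaf 3)) (.node (.leaf 3) (.leaf 3)))) (.node (.node (.node (.leaf 3) (.leaf 3)) (.node (.leaf 3) (.leaf 3))) (.node (.node (.leaf 3) (.leaf 3)) (.node (.leaf 3) (.leaf 3))))) (.node (.node (.node (.node (.leaf 0) (.leaf 3)) (.node (.leaf 3) (.leaf 3))) (.node (.node (.leaf 3) (.leaf 3)) (.node (.leaf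 3) (.leaf 3)))) (.node (.node (.node (.leaf 0) (.leaf 3)) (.node (.leaf 3) (.leaf 3))) (.node (.node (.leaf 3) (.leaf 3)) (.node (.leaf 3) (.leaf 3)))))))

def twoKind135 : Janko.Tree (ℕ) :=
  (.node (.node (.node (.node (.node (.node (.leaf 0) (.leaf 3)) (.node (.leaf 0) (.leaf 3))) (.node (.node (.leaf 0) (.leaf 3)) (.node (.leaf 3) (.leaf 3)))) (.node (.node (.node (.leaf 0) (.leaf 3)) (.node (.leaf 3) (.leaf 3))) (.node (.node (.leaf 0) (.leaf 0)) (.node (.leaf 0) (.leaf 3))))) (.node (.node (.node (.node (.leaf 0) (.leaf 0)) (.node (.leaf 0) (.leaf 3))) (.node (.node (.leaf 3) (.leaf 3)) (.node (.leaf 3) (.leaf 3)))) (.node (.node (.node (.leaf 0) (.leaf 3)) (.node (.leaf 3) (.leaf 3))) (.node (.node (.leaf 3) (.leaf 3)) (.node (.leaf 0) (.leaf 3)))))) (.node (.node (.node (.node (.node (.leaf 0) (.leaf 0)) (.node (.leaf 0) (.leaf 3))) (.node (.node (.leaf 0) (.leaf 3)) (.node (.leaf 0) (.leaf 3)))) (.node (.node (.node (.leaf 0) (.leaf 0)) (.node (.leaf 3) (.leaf 3))) (.node (.node (.leaf 0) (.leaf 0))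 (.node (.leaf 3) (.leaf 3))))) (.node (.node (.node (.node (.leaf 0) (.leaf 3)) (.node (.leaf 3) (.leaf 3))) (.node (.node (.leaf 3) (.leaf 3)) (.node (.leaf 0) (.leaf 3)))) (.node (.node (.node (.leaf 0) (.leaf 3)) (.node (.leaf 0) (.leaf 3))) (.node (.node (.leaf 3) (.leaf 3)) (.node (.leaf 3) (.leaf 3)))))))

def twoKind136 : Janko.Tree (ℕ) :=
  (.node (.node (.node (.node (.node (.node (.leaf 3) (.leaf 3)) (.node (.leaf 3) (.leaf 3))) (.node (.node (.leaf 0) (.leaf 3)) (.node (.leaf 3) (.leaf 3)))) (.node (.node (.node (.leaf 0) (.leaf 3)) (.node (.leaf 3) (.leaf 3))) (.node (.node (.leaf 0) (.leaf 3)) (.node (.leaf 3) (.leaf 3))))) (.node (.node (.node (.node (.leaf 0) (.leaf 3)) (.node (.leaf 3) (.leaf 3))) (.node (.node (.leaf 3) (.leaf 3)) (.node (.leaf 3) (.leaf 3)))) (.node (.node (.node (.leaf 3) (.leaf 3)) (.node (.leaf 0) (.leaf 3))) (.node (.node (.leaf 3) (.leaf 3)) (.node (.leaf 0) (.leaf 3)))))) (.node (.node (.node (.node (.node (.leaf 0) (.leaf 3)) (.node (.leaf 3) (.leaf 3))) (.node (.node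 (.leaf 3) (.leaf 3)) (.node (.leaf 3) (.leaf 3)))) (.node (.node (.node (.leaf 3) (.leaf 3)) (.node (.leaf 3) (.leaf 3))) (.node (.node (.leaf 3) (.leaf 3)) (.node (.leaf 0) (.leaf 3))))) (.node (.node (.node (.node (.leaf 0) (.leaf 0)) (.node (.leaf 3) (.leaf 3))) (.node (.node (.leaf 3) (.leaf 3)) (.node (.leaf 0) (.leaf 3)))) (.node (.node (.node (.leaf 0) (.leaf 3)) (.node (.leaf 3) (.leaf 3))) (.node (.node (.leaf 0) (.leaf 0)) (.node (.leaf 3) (.leaf 3)))))))

def twoKind137 : Janko.Tree (ℕ) :=
  (.node (.node (.node (.node (.node (.node (.leaf 0) (.leaf 3)) (.node (.leaf 3) (.leaf 3))) (.node (.node (.leaf 0) (.leaf 3)) (.node (.leaf 3) (.leaf 3)))) (.node (.node (.node (.leaf 3) (.leaf 3)) (.node (.leaf 0) (.leaf 3))) (.node (.node (.leaf 0) (.leaf 3)) (.node (.leaf 0) (.leaf 3))))) (.node (.node (.node (.node (.leaf 3) (.leaf 0)) (.node (.leaf 0) (.leaf 3))) (.node (.node (.leaf 0) (.leaf 3)) (.node (.leaf 3) (.leaf 3)))) (.node (.node (.node (.leaf 3) (.leaf 3)) (.node (.leaf 3) (.leaf 3))) (.node (.node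 (.leaf 3) (.leaf 0)) (.node (.leaf 3) (.leaf 3)))))) (.node (.node (.node (.node (.node (.leaf 3) (.leaf 3)) (.node (.leaf 3) (.leaf 3))) (.node (.node (.leaf 3) (.leaf 3)) (.node (.leaf 3) (.leaf 3)))) (.node (.node (.node (.leaf 3) (.leaf 3)) (.node (.leaf 0) (.leaf 3))) (.node (.node (.leaf 3) (.leaf 3)) (.node (.leaf 3) (.leaf 3))))) (.node (.node (.node (.node (.leaf 0) (.leaf 3)) (.node (.leaf 3) (.leaf 3))) (.node (.node (.leaf 0) (.leaf 3)) (.node (.leaf 0) (.leaf 3)))) (.node (.node (.node (.leaf 0) (.leaf 3)) (.node (.leaf 0) (.leaf 3))) (.node (.node (.leaf 3) (.leaf 3)) (.node (.leaf 3) (.leaf 3)))))))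

def twoKind138 : Janko.Tree (ℕ) :=
  (.node (.node (.node (.node (.node (.node (.leaf 0) (.leaf 3)) (.node (.leaf 3) (.leaf 3))) (.node (.node (.leaf 3) (.leaf 3)) (.node (.leaf 3) (.leaf 3)))) (.node (.node (.node (.leaf 3) (.leaf 3)) (.node (.leaf 3) (.leaf 3))) (.node (.node (.leaf 3) (.leaf 3)) (.node (.leaf 3) (.leaf 3))))) (.node (.node (.node (.node (.leaf 0) (.leaf 3)) (.node (.leaf 0) (.leaf 3))) (.node (.node (.leaf 3) (.leaf 3)) (.node (.leaf 3) (.leaf 3)))) (.node (.node (.node (.leaf 0) (.leaf 3)) (.node (.leaf 3) (.leaf 3))) (.node (.node (.leaf 3) (.leaf 3)) (.node (.leaf 3) (.leaf 3)))))) (.node (.node (.node (.node (.node (.leaf 0) (.leaf 3)) (.node (.leaf 3) (.leaf 0))) (.node (.node (.leaf 3) (.leaf 3)) (.node (.leaf 3) (.leaf 3)))) (.node (.node (.node (.leaf 0) (.leaf 3)) (.node (.leaf 0) (.leaf 3))) (.node (.node (.leaf 3) (.leaf 3)) (.node (.leaf 3) (.leaf 3))))) (.node (.node (.node (.node (.leaf 0) (.leaf 3)) (.node (.leaf 3) (.leaf 3))) (.node (.node (.leaf 3) (.leaf 3)) (.node (.leaf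 3) (.leaf 3)))) (.node (.node (.node (.leaf 3) (.leaf 3)) (.node (.leaf 3) (.leaf 3))) (.node (.node (.leaf 0) (.leaf 3)) (.node (.leaf 3) (.leaf 3)))))))

def twoKind139 : Janko.Tree (ℕ) :=
  (.node (.node (.node (.node (.node (.node (.leaf 0) (.leaf 3)) (.node (.leaf 3) (.leaf 3))) (.node (.node (.leaf 0) (.leaf 3)) (.node (.leaf 3) (.leaf 3)))) (.node (.node (.node (.leaf 0) (.leaf 3)) (.node (.leaf 3) (.leaf 3))) (.node (.node (.leaf 0) (.leaf 0)) (.node (.leaf 3) (.leaf 3))))) (.node (.node (.node (.node (.leaf 0) (.leaf 3)) (.node (.leaf 3) (.leaf 3))) (.node (.node (.leaf 0) (.leaf 3)) (.node (.leaf 3) (.leaf 3)))) (.node (.node (.node (.leaf 0) (.leaf 3)) (.node (.leaf 3) (.leaf 3))) (.node (.node (.leaf 0) (.leaf 3)) (.node (.leaf 0) (.leaf 3)))))) (.node (.node (.node (.node (.node (.leaf 0) (.leaf 3)) (.node (.leaf 3) (.leaf 3))) (.node (.node (.leaf 0) (.leaf 3)) (.node (.leaf 0) (.leaf 3)))) (.node (.node (.node (.leaf 0) (.leaf 3)) (.node (.leaf 3) (.leaf 3))) (.node (.node (.leaf 0) (.leaf 3))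 (.node (.leaf 3) (.leaf 3))))) (.node (.node (.node (.node (.leaf 0) (.leaf 3)) (.node (.leaf 0) (.leaf 3))) (.node (.node (.leaf 0) (.leaf 3)) (.node (.leaf 0) (.leaf 3)))) (.node (.node (.node (.leaf 0) (.leaf 3)) (.node (.leaf 0) (.leaf 3))) (.node (.node (.leaf 3) (.leaf 3)) (.node (.leaf 3) (.leaf 3)))))))

def twoKind140 : Janko.Tree (ℕ) :=
  (.node (.node (.node (.node (.node (.node (.leaf 0) (.leaf 3)) (.node (.leaf 3) (.leaf 3))) (.node (.node (.leaf 3) (.leaf 3)) (.node (.leaf 0) (.leaf 3)))) (.node (.node (.node (.leaf 0) (.leaf 0)) (.node (.leaf 3) (.leaf 3))) (.node (.node (.leaf 0) (.leaf 3)) (.node (.leaf 3) (.leaf 3))))) (.node (.node (.node (.node (.leaf 3) (.leaf 3)) (.node (.leaf 0) (.leaf 3))) (.node (.node (.leaf 0) (.leaf 3)) (.node (.leaf 3) (.leaf 3)))) (.node (.node (.node (.leaf 0) (.leaf 3)) (.node (.leaf 0) (.leaf 3))) (.node (.node (.leaf 3) (.leaf 3)) (.node (.leaf 3) (.leaf 3)))))) (.node (.node (.node (.node (.node (.leaf 0) (.leaf 0)) (.node (.leaf 0) (.leaf 3))) (.node (.node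 (.leaf 0) (.leaf 3)) (.node (.leaf 0) (.leaf 3)))) (.node (.node (.node (.leaf 0) (.leaf 3)) (.node (.leaf 3) (.leaf 3))) (.node (.node (.leaf 3) (.leaf 3)) (.node (.leaf 3) (.leaf 3))))) (.node (.node (.node (.node (.leaf 3) (.leaf 3)) (.node (.leaf 3) (.leaf 3))) (.node (.node (.leaf 0) (.leaf 3)) (.node (.leaf 0) (.leaf 3)))) (.node (.node (.node (.leaf 3) (.leaf 3)) (.node (.leaf 3) (.leaf 3))) (.node (.node (.leaf 0) (.leaf 3)) (.node (.leaf 3) (.leaf 3)))))))

def twoKind141 : Janko.Tree (ℕ) :=
  (.node (.node (.node (.node (.node (.node (.leaf 3) (.leaf 0)) (.node (.leaf 0) (.leaf 3))) (.node (.node (.leaf 3) (.leaf 3)) (.node (.leaf 3) (.leaf 3)))) (.node (.node (.node (.leaf 3) (.leaf 3)) (.node (.leaf 0) (.leaf 3))) (.node (.node (.leaf 0) (.leaf 3)) (.node (.leaf 3) (.leaf 3))))) (.node (.node (.node (.node (.leaf 0) (.leaf 3)) (.node (.leaf 3) (.leaf 3))) (.node (.node (.leaf 3) (.leaf 3)) (.node (.leaf 3) (.leaf 3)))) (.node (.node (.node (.leaf 3) (.leaf 3)) (.node (.leaf 3) (.leaf 3))) (.node (.node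 (.leaf 0) (.leaf 0)) (.node (.leaf 0) (.leaf 3)))))) (.node (.node (.node (.node (.node (.leaf 0) (.leaf 3)) (.node (.leaf 0) (.leaf 3))) (.node (.node (.leaf 0) (.leaf 3)) (.node (.leaf 3) (.leaf 3)))) (.node (.node (.node (.leaf 0) (.leaf 3)) (.node (.leaf 3) (.leaf 3))) (.node (.node (.leaf 0) (.leaf 0)) (.node (.leaf 3) (.leaf 3))))) (.node (.node (.node (.node (.leaf 0) (.leaf 3)) (.node (.leaf 3) (.leaf 3))) (.node (.node (.leaf 0) (.leaf 3)) (.node (.leaf 3) (.leaf 3)))) (.node (.node (.node (.leaf 3) (.leaf 3)) (.node (.leaf 3) (.leaf 3))) (.node (.node (.leaf 3) (.leaf 3)) (.node (.leaf 3) (.leaf 3)))))))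

def twoKind142 : Janko.Tree (ℕ) :=
  (.node (.node (.node (.node (.node (.node (.leaf 0) (.leaf 3)) (.node (.leaf 3) (.leaf 3))) (.node (.node (.leaf 0) (.leaf 3)) (.node (.leaf 0) (.leaf 3)))) (.node (.node (.node (.leaf 0) (.leaf 3)) (.node (.leaf 3) (.leaf 3))) (.node (.node (.leaf 0) (.leaf 3)) (.node (.leaf 0) (.leaf 3))))) (.node (.node (.node (.node (.leaf 0) (.leaf 3)) (.node (.leaf 3) (.leaf 3))) (.node (.node (.leaf 0) (.leaf 3)) (.node (.leaf 3) (.leaf 3)))) (.node (.node (.node (.leaf 0) (.leaf 3)) (.node (.leaf 3) (.leaf 3))) (.node (.node (.leaf 0) (.leaf 3)) (.node (.leaf 3) (.leaf 3)))))) (.node (.node (.node (.node (.node (.leaf 0) (.leaf 3)) (.node (.leaf 3) (.leaf 0))) (.node (.node (.leaf 0) (.leaf 3)) (.node (.leaf 3) (.leaf 3)))) (.node (.node (.node (.leaf 3) (.leaf 3)) (.node (.leaf 0) (.leaf 3))) (.node (.node (.leaf 0) (.leaf 3)) (.node (.leaf 3) (.leaf 3))))) (.node (.node (.node (.node (.leaf 3) (.leaf 3)) (.node (.leaf 3) (.leaf 3))) (.node (.node (.leaf 3) (.leaf 3)) (.node (.leaf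 3) (.leaf 3)))) (.node (.node (.node (.leaf 3) (.leaf 3)) (.node (.leaf 0) (.leaf 3))) (.node (.node (.leaf 3) (.leaf 3)) (.node (.leaf 3) (.leaf 3)))))))

def twoKind143 : Janko.Tree (ℕ) :=
  (.node (.node (.node (.node (.node (.node (.leaf 0) (.leaf 0)) (.node (.leaf 3) (.leaf 3))) (.node (.node (.leaf 0) (.leaf 3)) (.node (.leaf 0) (.leaf 3)))) (.node (.node (.node (.leaf 0) (.leaf 3)) (.node (.leaf 0) (.leaf 3))) (.node (.node (.leaf 3) (.leaf 3)) (.node (.leaf 0) (.leaf 3))))) (.node (.node (.node (.node (.leaf 0) (.leaf 3)) (.node (.leaf 3) (.leaf 3))) (.node (.node (.leaf 3) (.leaf 3)) (.node (.leaf 3) (.leaf 3)))) (.node (.node (.node (.leaf 3) (.leaf 3)) (.node (.leaf 0) (.leaf 3))) (.node (.node (.leaf 3) (.leaf 3)) (.node (.leaf 3) (.leaf 3)))))) (.node (.node (.node (.node (.node (.leaf 0) (.leaf 0)) (.node (.leaf 0) (.leaf 3))) (.node (.node (.leaf 0) (.leaf 3)) (.node (.leaf 0) (.leaf 3)))) (.node (.node (.node (.leaf 0) (.leaf 3)) (.node (.leaf 3) (.leaf 3))) (.node (.node (.leaf 3) (.leaf 0))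 (.node (.leaf 3) (.leaf 3))))) (.node (.node (.node (.node (.leaf 0) (.leaf 3)) (.node (.leaf 3) (.leaf 3))) (.node (.node (.leaf 0) (.leaf 3)) (.node (.leaf 3) (.leaf 3)))) (.node (.node (.node (.leaf 0) (.leaf 3)) (.node (.leaf 0) (.leaf 3))) (.node (.node (.leaf 3) (.leaf 3)) (.node (.leaf 0) (.leaf 3)))))))

def twoKind144 : Janko.Tree (ℕ) :=
  (.node (.node (.node (.node (.node (.node (.leaf 0) (.leaf 3)) (.node (.leaf 0) (.leaf 3))) (.node (.node (.leaf 3) (.leaf 3)) (.node (.leaf 3) (.leaf 3)))) (.node (.node (.node (.leaf 3) (.leaf 3)) (.node (.leaf 3) (.leaf 3))) (.node (.node (.leaf 3) (.leaf 0)) (.node (.leaf 0) (.leaf 3))))) (.node (.node (.node (.node (.leaf 0) (.leaf 3)) (.node (.leaf 0) (.leaf 3))) (.node (.node (.leaf 0) (.leaf 3)) (.node (.leaf 0) (.leaf 3)))) (.node (.node (.node (.leaf 0) (.leaf 3)) (.node (.leaf 3) (.leaf 3))) (.node (.node (.leaf 3) (.leaf 3)) (.node (.leaf 3) (.leaf 3)))))) (.node (.node (.node (.node (.node (.leaf 3) (.leaf 3)) (.node (.leaf 3) (.leaf 3))) (.node (.node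 (.leaf 3) (.leaf 3)) (.node (.leaf 3) (.leaf 3)))) (.node (.node (.node (.leaf 3) (.leaf 3)) (.node (.leaf 0) (.leaf 3))) (.node (.node (.leaf 3) (.leaf 3)) (.node (.leaf 3) (.leaf 3))))) (.node (.node (.node (.node (.leaf 0) (.leaf 3)) (.node (.leaf 3) (.leaf 3))) (.node (.node (.leaf 0) (.leaf 3)) (.node (.leaf 3) (.leaf 3)))) (.node (.node (.node (.leaf 3) (.leaf 3)) (.node (.leaf 3) (.leaf 3))) (.node (.node (.leaf 3) (.leaf 3)) (.node (.leaf 3) (.leaf 3)))))))

def twoKind145 : Janko.Tree (ℕ) :=
  (.node (.node (.node (.node (.node (.node (.leaf 0) (.leaf 0)) (.node (.leaf 3) (.leaf 3))) (.node (.node (.leaf 0) (.leaf 3)) (.node (.leaf 0) (.leaf 3)))) (.node (.node (.node (.leaf 0) (.leaf 3)) (.node (.leaf 0) (.leaf 3))) (.node (.node (.leaf 3) (.leaf 3)) (.node (.leaf 3) (.leaf 3))))) (.node (.node (.node (.node (.leaf 3) (.leaf 3)) (.node (.leaf 3) (.leaf 3))) (.node (.node (.leaf 0) (.leaf 3)) (.node (.leaf 3) (.leaf 3)))) (.node (.node (.node (.leaf 0) (.leaf 3)) (.node (.leaf 0) (.leaf 3))) (.node (.node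 (.leaf 3) (.leaf 3)) (.node (.leaf 3) (.leaf 3)))))) (.node (.node (.node (.node (.node (.leaf 0) (.leaf 3)) (.node (.leaf 3) (.leaf 3))) (.node (.node (.leaf 3) (.leaf 3)) (.node (.leaf 3) (.leaf 3)))) (.node (.node (.node (.leaf 3) (.leaf 3)) (.node (.leaf 3) (.leaf 3))) (.node (.node (.leaf 3) (.leaf 0)) (.node (.leaf 3) (.leaf 3))))) (.node (.node (.node (.node (.leaf 3) (.leaf 3)) (.node (.leaf 0) (.leaf 3))) (.node (.node (.leaf 0) (.leaf 3)) (.node (.leaf 3) (.leaf 3)))) (.node (.node (.node (.leaf 3) (.leaf 3)) (.node (.leaf 0) (.leaf 3))) (.node (.node (.leaf 3) (.leaf 3)) (.node (.leaf 0) (.leaf 3)))))))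

def twoKind146 : Janko.Tree (ℕ) :=
  (.node (.node (.node (.node (.node (.node (.leaf 3) (.leaf 3)) (.node (.leaf 3) (.leaf 3))) (.node (.node (.leaf 3) (.leaf 3)) (.node (.leaf 3) (.leaf 3)))) (.node (.node (.node (.leaf 0) (.leaf 3)) (.node (.leaf 3) (.leaf 3))) (.node (.node (.leaf 3) (.leaf 3)) (.node (.leaf 3) (.leaf 3))))) (.node (.node (.node (.node (.leaf 0) (.leaf 3)) (.node (.leaf 0) (.leaf 3))) (.node (.node (.leaf 3) (.leaf 3)) (.node (.leaf 0) (.leaf 3)))) (.node (.node (.node (.leaf 3) (.leaf 0)) (.node (.leaf 3) (.leaf 0))) (.node (.node (.leaf 3) (.leaf 3)) (.node (.leaf 3) (.leaf 3)))))) (.node (.node (.node (.node (.node (.leaf 0) (.leaf 3)) (.node (.leaf 3) (.leaf 3))) (.node (.node (.leaf 3) (.leaf 3)) (.node (.leaf 3) (.leaf 3)))) (.node (.node (.node (.leaf 3) (.leaf 3)) (.node (.leaf 0) (.leaf 3))) (.node (.node (.leaf 0) (.leaf 3)) (.node (.leaf 3) (.leaf 3))))) (.node (.node (.node (.node (.leaf 0) (.leaf 3)) (.node (.leaf 3) (.leaf 3))) (.node (.node (.leaf 0) (.leaf 3)) (.node (.leaf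 0) (.leaf 3)))) (.node (.node (.node (.leaf 3) (.leaf 3)) (.node (.leaf 3) (.leaf 3))) (.node (.node (.leaf 0) (.leaf 3)) (.node (.leaf 3) (.leaf 3)))))))

def twoKind147 : Janko.Tree (ℕ) :=
  (.node (.node (.node (.node (.node (.node (.leaf 0) (.leaf 3)) (.node (.leaf 0) (.leaf 3))) (.node (.node (.leaf 0) (.leaf 3)) (.node (.leaf 0) (.leaf 3)))) (.node (.node (.node (.leaf 0) (.leaf 0)) (.node (.leaf 3) (.leaf 3))) (.node (.node (.leaf 0) (.leaf 3)) (.node (.leaf 0) (.leaf 3))))) (.node (.node (.node (.node (.leaf 0) (.leaf 3)) (.node (.leaf 3) (.leaf 3))) (.node (.node (.leaf 0) (.leaf 3)) (.node (.leaf 3) (.leaf 3)))) (.node (.node (.node (.leaf 0) (.leaf 3)) (.node (.leaf 3) (.leaf 3))) (.node (.node (.leaf 0) (.leaf 3)) (.node (.leaf 3) (.leaf 3)))))) (.node (.node (.node (.node (.node (.leaf 0) (.leaf 0)) (.node (.leaf 3) (.leaf 0))) (.node (.node (.leaf 0) (.leaf 3)) (.node (.leaf 0) (.leaf 3)))) (.node (.node (.node (.leaf 3) (.leaf 3)) (.node (.leaf 3) (.leaf 3))) (.node (.node (.leaf 0) (.leaf 3))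 (.node (.leaf 3) (.leaf 3))))) (.node (.node (.node (.node (.leaf 0) (.leaf 3)) (.node (.leaf 3) (.leaf 3))) (.node (.node (.leaf 0) (.leaf 3)) (.node (.leaf 3) (.leaf 3)))) (.node (.node (.node (.leaf 0) (.leaf 3)) (.node (.leaf 0) (.leaf 3))) (.node (.node (.leaf 0) (.leaf 3)) (.node (.leaf 3) (.leaf 3)))))))

def twoKind148 : Janko.Tree (ℕ) :=
  (.node (.node (.node (.node (.node (.node (.leaf 0) (.leaf 3)) (.node (.leaf 0) (.leaf 3))) (.node (.node (.leaf 3) (.leaf 3)) (.node (.leaf 0) (.leaf 3)))) (.node (.node (.node (.leaf 3) (.leaf 3)) (.node (.leaf 0) (.leaf 3))) (.node (.node (.leaf 3) (.leaf 0)) (.node (.leaf 3) (.leaf 3))))) (.node (.node (.node (.node (.leaf 3) (.leaf 3)) (.node (.leaf 3) (.leaf 3))) (.node (.node (.leaf 0) (.leaf 3)) (.node (.leaf 3) (.leaf 3)))) (.node (.node (.node (.leaf 0) (.leaf 3)) (.node (.leaf 3) (.leaf 3))) (.node (.node (.leaf 3) (.leaf 3)) (.node (.leaf 3) (.leaf 3)))))) (.node (.node (.node (.node (.node (.leaf 0) (.leaf 3)) (.node (.leaf 3) (.leaf 3))) (.node (.node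 (.leaf 3) (.leaf 3)) (.node (.leaf 3) (.leaf 3)))) (.node (.node (.node (.leaf 3) (.leaf 3)) (.node (.leaf 0) (.leaf 3))) (.node (.node (.leaf 0) (.leaf 3)) (.node (.leaf 3) (.leaf 3))))) (.node (.node (.node (.node (.leaf 0) (.leaf 3)) (.node (.leaf 3) (.leaf 3))) (.node (.node (.leaf 3) (.leaf 3)) (.node (.leaf 3) (.leaf 3)))) (.node (.node (.node (.leaf 3) (.leaf 3)) (.node (.leaf 3) (.leaf 3))) (.node (.node (.leaf 3) (.leaf 3)) (.node (.leaf 3) (.leaf 3)))))))

def twoKind149 : Janko.Tree (ℕ) :=
  (.node (.node (.node (.node (.node (.node (.leaf 0) (.leaf 3)) (.node (.leaf 0) (.leaf 3))) (.node (.node (.leaf 0) (.leaf 3)) (.node (.leaf 3) (.leaf 3)))) (.node (.node (.node (.leaf 0) (.leaf 3)) (.node (.leaf 3) (.leaf 0))) (.node (.node (.leaf 0) (.leaf 3)) (.node (.leaf 0) (.leaf 3))))) (.node (.node (.node (.node (.leaf 0) (.leaf 3)) (.node (.leaf 0) (.leaf 3))) (.node (.node (.leaf 0) (.leaf 3)) (.node (.leaf 3) (.leaf 3)))) (.node (.node (.node (.leaf 3) (.leaf 3)) (.node (.leaf 3) (.leaf 3))) (.node (.node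 (.leaf 3) (.leaf 3)) (.node (.leaf 0) (.leaf 3)))))) (.node (.node (.node (.node (.node (.leaf 3) (.leaf 0)) (.node (.leaf 0) (.leaf 3))) (.node (.node (.leaf 0) (.leaf 3)) (.node (.leaf 3) (.leaf 3)))) (.node (.node (.node (.leaf 3) (.leaf 3)) (.node (.leaf 0) (.leaf 3))) (.node (.node (.leaf 3) (.leaf 3)) (.node (.leaf 3) (.leaf 3))))) (.node (.node (.node (.node (.leaf 0) (.leaf 3)) (.node (.leaf 0) (.leaf 3))) (.node (.node (.leaf 0) (.leaf 3)) (.node (.leaf 3) (.leaf 3)))) (.node (.node (.node (.leaf 0) (.leaf 3)) (.node (.leaf 3) (.leaf 3))) (.node (.node (.leaf 0) (.leaf 0)) (.node (.leaf 3) (.leaf 3)))))))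

def twoKind150 : Janko.Tree (ℕ) :=
  (.node (.node (.node (.node (.node (.node (.leaf 0) (.leaf 3)) (.node (.leaf 3) (.leaf 3))) (.node (.node (.leaf 3) (.leaf 3)) (.node (.leaf 0) (.leaf 3)))) (.node (.node (.node (.leaf 3) (.leaf 3)) (.node (.leaf 3) (.leaf 3))) (.node (.node (.leaf 3) (.leaf 0)) (.node (.leaf 3) (.leaf 3))))) (.node (.node (.node (.node (.leaf 3) (.leaf 3)) (.node (.leaf 3) (.leaf 3))) (.node (.node (.leaf 3) (.leaf 3)) (.node (.leaf 3) (.leaf 3)))) (.node (.node (.node (.leaf 3) (.leaf 0)) (.node (.leaf 3) (.leaf 3))) (.node (.node (.leaf 3) (.leaf 3)) (.node (.leaf 3) (.leaf 3)))))) (.node (.node (.node (.node (.node (.leaf 0) (.leaf 3)) (.node (.leaf 3) (.leaf 3))) (.node (.node (.leaf 3) (.leaf 3)) (.node (.leaf 3) (.leaf 3)))) (.node (.node (.node (.leaf 3) (.leaf 3)) (.node (.leaf 3) (.leaf 3))) (.node (.node (.leaf 0) (.leaf 3)) (.node (.leaf 3) (.leaf 3))))) (.node (.node (.node (.node (.leaf 3) (.leaf 3)) (.node (.leaf 0) (.leaf 3))) (.node (.node (.leaf 3) (.leaf 3)) (.node (.leaf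 3) (.leaf 3)))) (.node (.node (.node (.leaf 3) (.leaf 3)) (.node (.leaf 3) (.leaf 3))) (.node (.node (.leaf 0) (.leaf 3)) (.node (.leaf 3) (.leaf 3)))))))

def twoKind151 : Janko.Tree (ℕ) :=
  (.node (.node (.node (.node (.node (.node (.leaf 0) (.leaf 3)) (.node (.leaf 0) (.leaf 3))) (.node (.node (.leaf 0) (.leaf 3)) (.node (.leaf 3) (.leaf 3)))) (.node (.node (.node (.leaf 0) (.leaf 3)) (.node (.leaf 3) (.leaf 3))) (.node (.node (.leaf 0) (.leaf 3)) (.node (.leaf 0) (.leaf 3))))) (.node (.node (.node (.node (.leaf 0) (.leaf 3)) (.node (.leaf 0) (.leaf 3))) (.node (.node (.leaf 3) (.leaf 3)) (.node (.leaf 3) (.leaf 3)))) (.node (.node (.node (.leaf 3) (.leaf 3)) (.node (.leaf 3) (.leaf 3))) (.node (.node (.leaf 0) (.leaf 3)) (.node (.leaf 3) (.leaf 3)))))) (.node (.node (.node (.node (.node (.leaf 0) (.leaf 0)) (.node (.leaf 0) (.leaf 3))) (.node (.node (.leaf 3) (.leaf 3)) (.node (.leaf 0) (.leaf 3)))) (.node (.node (.node (.leaf 0) (.leaf 3)) (.node (.leaf 0) (.leaf 3))) (.node (.node (.leaf 3) (.leaf 3))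 (.node (.leaf 3) (.leaf 3))))) (.node (.node (.node (.node (.leaf 0) (.leaf 0)) (.node (.leaf 3) (.leaf 3))) (.node (.node (.leaf 0) (.leaf 3)) (.node (.leaf 3) (.leaf 3)))) (.node (.node (.node (.leaf 3) (.leaf 3)) (.node (.leaf 3) (.leaf 3))) (.node (.node (.leaf 3) (.leaf 3)) (.node (.leaf 3) (.leaf 3)))))))

def twoKind152 : Janko.Tree (ℕ) :=
  (.node (.node (.node (.node (.node (.node (.leaf 0) (.leaf 3)) (.node (.leaf 3) (.leaf 3))) (.node (.node (.leaf 3) (.leaf 3)) (.node (.leaf 3) (.leaf 3)))) (.node (.node (.node (.leaf 3) (.leaf 3)) (.node (.leaf 3) (.leaf 3))) (.node (.node (.leaf 0) (.leaf 3)) (.node (.leaf 3) (.leaf 3))))) (.node (.node (.node (.node (.leaf 3) (.leaf 3)) (.node (.leaf 0) (.leaf 3))) (.node (.node (.leaf 3) (.leaf 3)) (.node (.leaf 3) (.leaf 3)))) (.node (.node (.node (.leaf 3) (.leaf 3)) (.node (.leaf 3) (.leaf 3))) (.node (.node (.leaf 3) (.leaf 3)) (.node (.leaf 3) (.leaf 3)))))) (.node (.node (.node (.node (.node (.leaf 0) (.leaf 3)) (.node (.leaf 3) (.leaf 3))) (.node (.node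 (.leaf 3) (.leaf 3)) (.node (.leaf 0) (.leaf 3)))) (.node (.node (.node (.leaf 0) (.leaf 3)) (.node (.leaf 0) (.leaf 3))) (.node (.node (.leaf 0) (.leaf 0)) (.node (.leaf 3) (.leaf 3))))) (.node (.node (.node (.node (.leaf 0) (.leaf 3)) (.node (.leaf 3) (.leaf 3))) (.node (.node (.leaf 0) (.leaf 3)) (.node (.leaf 3) (.leaf 3)))) (.node (.node (.node (.leaf 3) (.leaf 3)) (.node (.leaf 3) (.leaf 3))) (.node (.node (.leaf 3) (.leaf 3)) (.node (.leaf 3) (.leaf 3)))))))

def twoKind153 : Janko.Tree (ℕ) :=
  (.node (.node (.node (.node (.node (.node (.leaf 3) (.leaf 3)) (.node (.leaf 3) (.leaf 0))) (.node (.node (.leaf 3) (.leaf 3)) (.node (.leaf 0) (.leaf 3)))) (.node (.node (.node (.leaf 0) (.leaf 3)) (.node (.leaf 3) (.leaf 3))) (.node (.node (.leaf 0) (.leaf 0)) (.node (.leaf 0) (.leaf 3))))) (.node (.node (.node (.node (.leaf 0) (.leaf 3)) (.node (.leaf 3) (.leaf 3))) (.node (.node (.leaf 3) (.leaf 3)) (.node (.leaf 0) (.leaf 3)))) (.node (.node (.node (.leaf 3) (.leaf 0)) (.node (.leaf 3) (.leaf 3))) (.node (.node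 (.leaf 3) (.leaf 3)) (.node (.leaf 3) (.leaf 3)))))) (.node (.node (.node (.node (.node (.leaf 0) (.leaf 3)) (.node (.leaf 3) (.leaf 3))) (.node (.node (.leaf 0) (.leaf 3)) (.node (.leaf 3) (.leaf 3)))) (.node (.node (.node (.leaf 3) (.leaf 3)) (.node (.leaf 3) (.leaf 3))) (.node (.node (.leaf 3) (.leaf 3)) (.node (.leaf 0) (.leaf 3))))) (.node (.node (.node (.node (.leaf 0) (.leaf 3)) (.node (.leaf 3) (.leaf 3))) (.node (.node (.leaf 3) (.leaf 3)) (.node (.leaf 3) (.leaf 3)))) (.node (.node (.node (.leaf 0) (.leaf 0)) (.node (.leaf 0) (.leaf 3))) (.node (.node (.leaf 3) (.leaf 3)) (.node (.leaf 3) (.leaf 3)))))))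

def twoKind154 : Janko.Tree (ℕ) :=
  (.node (.node (.node (.node (.node (.node (.leaf 0) (.leaf 0)) (.node (.leaf 0) (.leaf 3))) (.node (.node (.leaf 0) (.leaf 3)) (.node (.leaf 3) (.leaf 3)))) (.node (.node (.node (.leaf 3) (.leaf 0)) (.node (.leaf 0) (.leaf 3))) (.node (.node (.leaf 3) (.leaf 3)) (.node (.leaf 3) (.leaf 3))))) (.node (.node (.node (.node (.leaf 0) (.leaf 3)) (.node (.leaf 3) (.leaf 0))) (.node (.node (.leaf 0) (.leaf 3)) (.node (.leaf 3) (.leaf 3)))) (.node (.node (.node (.leaf 3) (.leaf 3)) (.node (.leaf 3) (.leaf 3))) (.node (.node (.leaf 3) (.leaf 3)) (.node (.leaf 3) (.leaf 3)))))) (.node (.node (.node (.node (.node (.leaf 3) (.leaf 3)) (.node (.leaf 0) (.leaf 3))) (.node (.node (.leaf 3) (.leaf 3)) (.node (.leaf 0) (.leaf 3)))) (.node (.node (.node (.leaf 3) (.leaf 3)) (.node (.leaf 3) (.leaf 3))) (.node (.node (.leaf 3) (.leaf 3)) (.node (.leaf 3) (.leaf 3))))) (.node (.node (.node (.node (.leaf 0) (.leaf 3)) (.node (.leaf 0) (.leaf 3))) (.node (.node (.leaf 0) (.leaf 3)) (.node (.leaf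 0) (.leaf 3)))) (.node (.node (.node (.leaf 0) (.leaf 3)) (.node (.leaf 3) (.leaf 3))) (.node (.node (.leaf 0) (.leaf 3)) (.node (.leaf 0) (.leaf 3)))))))

def twoKind155 : Janko.Tree (ℕ) :=
  (.node (.node (.node (.node (.node (.node (.leaf 0) (.leaf 3)) (.node (.leaf 0) (.leaf 3))) (.node (.node (.leaf 3) (.leaf 3)) (.node (.leaf 0) (.leaf 3)))) (.node (.node (.node (.leaf 0) (.leaf 3)) (.node (.leaf 3) (.leaf 3))) (.node (.node (.leaf 3) (.leaf 3)) (.node (.leaf 0) (.leaf 3))))) (.node (.node (.node (.node (.leaf 0) (.leaf 3)) (.node (.leaf 3) (.leaf 3))) (.node (.node (.leaf 0) (.leaf 3)) (.node (.leaf 3) (.leaf 0)))) (.node (.node (.node (.leaf 0) (.leaf 3)) (.node (.leaf 3) (.leaf 3))) (.node (.node (.leaf 0) (.leaf 3)) (.node (.leaf 3) (.leaf 3)))))) (.node (.node (.node (.node (.node (.leaf 0) (.leaf 3)) (.node (.leaf 0) (.leaf 3))) (.node (.node (.leaf 3) (.leaf 3)) (.node (.leaf 0) (.leaf 3)))) (.node (.node (.node (.leaf 0) (.leaf 3)) (.node (.leaf 0) (.leaf 3))) (.node (.node (.leaf 0) (.leaf 0))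 (.node (.leaf 0) (.leaf 3))))) (.node (.node (.node (.node (.leaf 3) (.leaf 0)) (.node (.leaf 3) (.leaf 3))) (.node (.node (.leaf 0) (.leaf 3)) (.node (.leaf 0) (.leaf 3)))) (.node (.node (.node (.leaf 3) (.leaf 3)) (.node (.leaf 3) (.leaf 3))) (.node (.node (.leaf 0) (.leaf 3)) (.node (.leaf 3) (.leaf 3)))))))

def twoKind156 : Janko.Tree (ℕ) :=
  (.node (.node (.node (.node (.node (.node (.leaf 3) (.leaf 3)) (.node (.leaf 3) (.leaf 3))) (.node (.node (.leaf 3) (.leaf 3)) (.node (.leaf 3) (.leaf 3)))) (.node (.node (.node (.leaf 0) (.leaf 3)) (.node (.leaf 3) (.leaf 3))) (.node (.node (.leaf 3) (.leaf 0)) (.node (.leaf 3) (.leaf 3))))) (.node (.node (.node (.node (.leaf 0) (.leaf 3)) (.node (.leaf 3) (.leaf 3))) (.node (.node (.leaf 0) (.leaf 3)) (.node (.leaf 3) (.leaf 3)))) (.node (.node (.node (.leaf 0) (.leaf 3)) (.node (.leaf 3) (.leaf 3))) (.node (.node (.leaf 3) (.leaf 3)) (.node (.leaf 3) (.leaf 3)))))) (.node (.node (.node (.node (.node (.leaf 0) (.leaf 0)) (.node (.leaf 3) (.leaf 3))) (.node (.node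 (.leaf 0) (.leaf 3)) (.node (.leaf 3) (.leaf 3)))) (.node (.node (.node (.leaf 0) (.leaf 3)) (.node (.leaf 3) (.leaf 3))) (.node (.node (.leaf 3) (.leaf 0)) (.node (.leaf 3) (.leaf 3))))) (.node (.node (.node (.node (.leaf 3) (.leaf 0)) (.node (.leaf 0) (.leaf 3))) (.node (.node (.leaf 0) (.leaf 3)) (.node (.leaf 3) (.leaf 3)))) (.node (.node (.node (.leaf 0) (.leaf 3)) (.node (.leaf 3) (.leaf 3))) (.node (.node (.leaf 3) (.leaf 3)) (.node (.leaf 0) (.leaf 3)))))))

def twoKind157 : Janko.Tree (ℕ) :=
  (.node (.node (.node (.node (.node (.node (.leaf 0) (.leaf 3)) (.node (.leaf 0) (.leaf 3))) (.node (.node (.leaf 0) (.leaf 3)) (.node (.leaf 0) (.leaf 3)))) (.node (.node (.node (.leaf 0) (.leaf 3)) (.node (.leaf 3) (.leaf 3))) (.node (.node (.leaf 3) (.leaf 0)) (.node (.leaf 3) (.leaf 3))))) (.node (.node (.node (.node (.leaf 3) (.leaf 3)) (.node (.leaf 0) (.leaf 3))) (.node (.node (.leaf 0) (.leaf 3)) (.node (.leaf 3) (.leaf 3)))) (.node (.node (.node (.leaf 0) (.leaf 3)) (.node (.leaf 3) (.leaf 3))) (.node (.node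 (.leaf 0) (.leaf 3)) (.node (.leaf 3) (.leaf 3)))))) (.node (.node (.node (.node (.node (.leaf 0) (.leaf 3)) (.node (.leaf 3) (.leaf 3))) (.node (.node (.leaf 3) (.leaf 3)) (.node (.leaf 3) (.leaf 3)))) (.node (.node (.node (.leaf 0) (.leaf 3)) (.node (.leaf 3) (.leaf 3))) (.node (.node (.leaf 3) (.leaf 3)) (.node (.leaf 3) (.leaf 3))))) (.node (.node (.node (.node (.leaf 3) (.leaf 3)) (.node (.leaf 0) (.leaf 3))) (.node (.node (.leaf 3) (.leaf 3)) (.node (.leaf 3) (.leaf 3)))) (.node (.node (.node (.leaf 0) (.leaf 0)) (.node (.leaf 0) (.leaf 3))) (.node (.node (.leaf 0) (.leaf 0)) (.node (.leaf 0) (.leaf 3)))))))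

def twoKind158 : Janko.Tree (ℕ) :=
  (.node (.node (.node (.node (.node (.node (.leaf 3) (.leaf 3)) (.node (.leaf 3) (.leaf 3))) (.node (.node (.leaf 3) (.leaf 3)) (.node (.leaf 0) (.leaf 3)))) (.node (.node (.node (.leaf 0) (.leaf 3)) (.node (.leaf 3) (.leaf 3))) (.node (.node (.leaf 3) (.leaf 3)) (.node (.leaf 3) (.leaf 3))))) (.node (.node (.node (.node (.leaf 3) (.leaf 3)) (.node (.leaf 3) (.leaf 3))) (.node (.node (.leaf 0) (.leaf 3)) (.node (.leaf 3) (.leaf 3)))) (.node (.node (.node (.leaf 0) (.leaf 3)) (.node (.leaf 3) (.leaf 3))) (.node (.node (.leaf 3) (.leaf 3)) (.node (.leaf 3) (.leaf 3)))))) (.node (.node (.node (.node (.node (.leaf 0) (.leaf 3)) (.node (.leaf 3) (.leaf 3))) (.node (.node (.leaf 0) (.leaf 3)) (.node (.leaf 0) (.leaf 3)))) (.node (.node (.node (.leaf 0) (.leaf 3)) (.node (.leaf 3) (.leaf 3))) (.node (.node (.leaf 3) (.leaf 0)) (.node (.leaf 3) (.leaf 3))))) (.node (.node (.node (.node (.leaf 3) (.leaf 0)) (.node (.leaf 3) (.leaf 3))) (.node (.node (.leaf 3) (.leaf 3)) (.node (.leaf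 3) (.leaf 3)))) (.node (.node (.node (.leaf 3) (.leaf 3)) (.node (.leaf 0) (.leaf 3))) (.node (.node (.leaf 3) (.leaf 3)) (.node (.leaf 3) (.leaf 3)))))))

def twoKind159 : Janko.Tree (ℕ) :=
  (.node (.node (.node (.node (.node (.node (.leaf 0) (.leaf 3)) (.node (.leaf 0) (.leaf 0))) (.node (.node (.leaf 0) (.leaf 0)) (.node (.leaf 0) (.leaf 3)))) (.node (.node (.node (.leaf 0) (.leaf 3)) (.node (.leaf 0) (.leaf 3))) (.node (.node (.leaf 0) (.leaf 3)) (.node (.leaf 0) (.leaf 3))))) (.node (.node (.node (.node (.leaf 0) (.leaf 3)) (.node (.leaf 0) (.leaf 3))) (.node (.node (.leaf 3) (.leaf 3)) (.node (.leaf 3) (.leaf 3)))) (.node (.node (.node (.leaf 3) (.leaf 3)) (.node (.leaf 0) (.leaf 3))) (.node (.node (.leaf 0) (.leaf 3)) (.node (.leaf 3) (.leaf 3)))))) (.node (.node (.node (.node (.node (.leaf 0) (.leaf 0)) (.node (.leaf 0) (.leaf 3))) (.node (.node (.leaf 3) (.leaf 3)) (.node (.leaf 0) (.leaf 3)))) (.node (.node (.node (.leaf 3) (.leaf 3)) (.node (.leaf 3) (.leaf 3))) (.node (.node (.leaf 3) (.leaf 3))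 (.node (.leaf 0) (.leaf 3))))) (.node (.node (.node (.node (.leaf 0) (.leaf 3)) (.node (.leaf 3) (.leaf 3))) (.node (.node (.leaf 3) (.leaf 3)) (.node (.leaf 3) (.leaf 3)))) (.node (.node (.node (.leaf 0) (.leaf 3)) (.node (.leaf 0) (.leaf 3))) (.node (.node (.leaf 3) (.leaf 3)) (.node (.leaf 0) (.leaf 3)))))))

def twoKind160 : Janko.Tree (ℕ) :=
  (.node (.node (.node (.node (.node (.node (.leaf 0) (.leaf 3)) (.node (.leaf 3) (.leaf 3))) (.node (.node (.leaf 0) (.leaf 3)) (.node (.leaf 3) (.leaf 3)))) (.node (.node (.node (.leaf 3) (.leaf 3)) (.node (.leaf 3) (.leaf 3))) (.node (.node (.leaf 0) (.leaf 3)) (.node (.leaf 0) (.leaf 3))))) (.node (.node (.node (.node (.leaf 0) (.leaf 3)) (.node (.leaf 3) (.leaf 3))) (.node (.node (.leaf 3) (.leaf 3)) (.node (.leaf 3) (.leaf 3)))) (.node (.node (.node (.leaf 3) (.leaf 3)) (.node (.leaf 3) (.leaf 3))) (.node (.node (.leaf 3) (.leaf 3)) (.node (.leaf 3) (.leaf 3)))))) (.node (.node (.node (.node (.node (.leaf 0) (.leaf 0)) (.node (.leaf 0) (.leaf 3))) (.node (.node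 (.leaf 3) (.leaf 3)) (.node (.leaf 0) (.leaf 3)))) (.node (.node (.node (.leaf 3) (.leaf 3)) (.node (.leaf 3) (.leaf 3))) (.node (.node (.leaf 0) (.leaf 3)) (.node (.leaf 3) (.leaf 3))))) (.node (.node (.node (.node (.leaf 3) (.leaf 3)) (.node (.leaf 0) (.leaf 3))) (.node (.node (.leaf 0) (.leaf 3)) (.node (.leaf 3) (.leaf 3)))) (.node (.node (.node (.leaf 0) (.leaf 3)) (.node (.leaf 0) (.leaf 3))) (.node (.node (.leaf 0) (.leaf 3)) (.node (.leaf 3) (.leaf 3)))))))

def twoKind161 : Janko.Tree (ℕ) :=
  (.node (.node (.node (.node (.node (.node (.leaf 0) (.leaf 3)) (.node (.leaf 0) (.leaf 3))) (.node (.node (.leaf 3) (.leaf 3)) (.node (.leaf 0) (.leaf 3)))) (.node (.node (.node (.leaf 0) (.leaf 3)) (.node (.leaf 3) (.leaf 3))) (.node (.node (.leaf 3) (.leaf 3)) (.node (.leaf 3) (.leaf 3))))) (.node (.node (.node (.node (.leaf 0) (.leaf 3)) (.node (.leaf 0) (.leaf 3))) (.node (.node (.leaf 0) (.leaf 3)) (.node (.leaf 3) (.leaf 3)))) (.node (.node (.node (.leaf 0) (.leaf 3)) (.node (.leaf 3) (.leaf 3))) (.node (.node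 (.leaf 3) (.leaf 3)) (.node (.leaf 3) (.leaf 3)))))) (.node (.node (.node (.node (.node (.leaf 3) (.leaf 0)) (.node (.leaf 3) (.leaf 3))) (.node (.node (.leaf 0) (.leaf 3)) (.node (.leaf 3) (.leaf 3)))) (.node (.node (.node (.leaf 0) (.leaf 3)) (.node (.leaf 3) (.leaf 3))) (.node (.node (.leaf 3) (.leaf 0)) (.node (.leaf 0) (.leaf 3))))) (.node (.node (.node (.node (.leaf 0) (.leaf 3)) (.node (.leaf 3) (.leaf 3))) (.node (.node (.leaf 3) (.leaf 3)) (.node (.leaf 0) (.leaf 3)))) (.node (.node (.node (.leaf 0) (.leaf 3)) (.node (.leaf 3) (.leaf 3))) (.node (.node (.leaf 3) (.leaf 3)) (.node (.leaf 3) (.leaf 3)))))))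

def twoKind162 : Janko.Tree (ℕ) :=
  (.node (.node (.node (.node (.node (.node (.leaf 0) (.leaf 3)) (.node (.leaf 3) (.leaf 3))) (.node (.node (.leaf 3) (.leaf 3)) (.node (.leaf 3) (.leaf 3)))) (.node (.node (.node (.leaf 3) (.leaf 3)) (.node (.leaf 3) (.leaf 3))) (.node (.node (.leaf 0) (.leaf 3)) (.node (.leaf 0) (.leaf 3))))) (.node (.node (.node (.node (.leaf 3) (.leaf 3)) (.node (.leaf 3) (.leaf 3))) (.node (.node (.leaf 3) (.leaf 3)) (.node (.leaf 3) (.leaf 3)))) (.node (.node (.node (.leaf 3) (.leaf 3)) (.node (.leaf 0) (.leaf 3))) (.node (.node (.leaf 0) (.leaf 3)) (.node (.leaf 3) (.leaf 3)))))) (.node (.node (.node (.node (.node (.leaf 0) (.leaf 0)) (.node (.leaf 3) (.leaf 3))) (.node (.node (.leaf 3) (.leaf 3)) (.node (.leaf 3) (.leaf 3)))) (.node (.node (.node (.leaf 3) (.leaf 0)) (.node (.leaf 3) (.leaf 3))) (.node (.node (.leaf 3) (.leaf 3)) (.node (.leaf 3) (.leaf 3))))) (.node (.node (.node (.node (.leaf 3) (.leaf 3)) (.node (.leaf 0) (.leaf 3))) (.node (.node (.leaf 3) (.leaf 3)) (.node (.leaf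 3) (.leaf 3)))) (.node (.node (.node (.leaf 3) (.leaf 3)) (.node (.leaf 3) (.leaf 3))) (.node (.node (.leaf 0) (.leaf 3)) (.node (.leaf 3) (.leaf 3)))))))

def twoKind163 : Janko.Tree (ℕ) :=
  (.node (.node (.node (.node (.node (.node (.leaf 3) (.leaf 0)) (.node (.leaf 0) (.leaf 3))) (.node (.node (.leaf 3) (.leaf 3)) (.node (.leaf 0) (.leaf 3)))) (.node (.node (.node (.leaf 0) (.leaf 3)) (.node (.leaf 3) (.leaf 3))) (.node (.node (.leaf 0) (.leaf 3)) (.node (.leaf 0) (.leaf 3))))) (.node (.node (.node (.node (.leaf 0) (.leaf 3)) (.node (.leaf 3) (.leaf 3))) (.node (.node (.leaf 0) (.leaf 3)) (.node (.leaf 3) (.leaf 3)))) (.node (.node (.node (.leaf 0) (.leaf 3)) (.node (.leaf 3) (.leaf 3))) (.node (.node (.leaf 0) (.leaf 0)) (.node (.leaf 3) (.leaf 3)))))) (.node (.node (.node (.node (.node (.leaf 0) (.leaf 3)) (.node (.leaf 0) (.leaf 3))) (.node (.node (.leaf 0) (.leaf 3)) (.node (.leaf 0) (.leaf 3)))) (.node (.node (.node (.leaf 0) (.leaf 0)) (.node (.leaf 3) (.leaf 3))) (.node (.node (.leaf 0) (.leaf 0))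 (.node (.leaf 3) (.leaf 3))))) (.node (.node (.node (.node (.leaf 0) (.leaf 3)) (.node (.leaf 3) (.leaf 3))) (.node (.node (.leaf 0) (.leaf 3)) (.node (.leaf 3) (.leaf 3)))) (.node (.node (.node (.leaf 3) (.leaf 3)) (.node (.leaf 0) (.leaf 3))) (.node (.node (.leaf 0) (.leaf 3)) (.node (.leaf 3) (.leaf 3)))))))

def twoKind164 : Janko.Tree (ℕ) :=
  (.node (.node (.node (.node (.node (.node (.leaf 3) (.leaf 3)) (.node (.leaf 3) (.leaf 3))) (.node (.node (.leaf 0) (.leaf 3)) (.node (.leaf 3) (.leaf 3)))) (.node (.node (.node (.leaf 3) (.leaf 3)) (.node (.leaf 3) (.leaf 3))) (.node (.node (.leaf 3) (.leaf 3)) (.node (.leaf 3) (.leaf 3))))) (.node (.node (.node (.node (.leaf 0) (.leaf 3)) (.node (.leaf 3) (.leaf 3))) (.node (.node (.leaf 0) (.leaf 3)) (.node (.leaf 3) (.leaf 3)))) (.node (.node (.node (.leaf 0) (.leaf 3)) (.node (.leaf 0) (.leaf 3))) (.node (.node (.leaf 0) (.leaf 3)) (.node (.leaf 3) (.leaf 3)))))) (.node (.node (.node (.node (.node (.leaf 3) (.leaf 3)) (.node (.leaf 3) (.leaf 3))) (.node (.node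 (.leaf 3) (.leaf 3)) (.node (.leaf 3) (.leaf 3)))) (.node (.node (.node (.leaf 0) (.leaf 3)) (.node (.leaf 3) (.leaf 3))) (.node (.node (.leaf 0) (.leaf 3)) (.node (.leaf 3) (.leaf 3))))) (.node (.node (.node (.node (.leaf 0) (.leaf 3)) (.node (.leaf 3) (.leaf 3))) (.node (.node (.leaf 3) (.leaf 3)) (.node (.leaf 0) (.leaf 3)))) (.node (.node (.node (.leaf 0) (.leaf 3)) (.node (.leaf 0) (.leaf 3))) (.node (.node (.leaf 3) (.leaf 3)) (.node (.leaf 0) (.leaf 3)))))))

def twoKind165 : Janko.Tree (ℕ) :=
  (.node (.node (.node (.node (.node (.node (.leaf 0) (.leaf 3)) (.node (.leaf 3) (.leaf 0))) (.node (.node (.leaf 3) (.leaf 3)) (.node (.leaf 3) (.leaf 3)))) (.node (.node (.node (.leaf 3) (.leaf 0)) (.node (.leaf 3) (.leaf 3))) (.node (.node (.leaf 0) (.leaf 0)) (.node (.leaf 3) (.leaf 3))))) (.node (.node (.node (.node (.leaf 0) (.leaf 3)) (.node (.leaf 3) (.leaf 3))) (.node (.node (.leaf 3) (.leaf 3)) (.node (.leaf 0) (.leaf 3)))) (.node (.node (.node (.leaf 0) (.leaf 3)) (.node (.leaf 3) (.leaf 3))) (.node (.node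 (.leaf 3) (.leaf 3)) (.node (.leaf 0) (.leaf 3)))))) (.node (.node (.node (.node (.node (.leaf 0) (.leaf 3)) (.node (.leaf 0) (.leaf 3))) (.node (.node (.leaf 0) (.leaf 3)) (.node (.leaf 0) (.leaf 3)))) (.node (.node (.node (.leaf 3) (.leaf 3)) (.node (.leaf 3) (.leaf 3))) (.node (.node (.leaf 0) (.leaf 3)) (.node (.leaf 3) (.leaf 3))))) (.node (.node (.node (.node (.leaf 0) (.leaf 3)) (.node (.leaf 0) (.leaf 0))) (.node (.node (.leaf 3) (.leaf 3)) (.node (.leaf 3) (.leaf 3)))) (.node (.node (.node (.leaf 3) (.leaf 3)) (.node (.leaf 0) (.leaf 3))) (.node (.node (.leaf 0) (.leaf 0)) (.node (.leaf 3) (.leaf 3)))))))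

def twoKind166 : Janko.Tree (ℕ) :=
  (.node (.node (.node (.node (.node (.node (.leaf 0) (.leaf 3)) (.node (.leaf 0) (.leaf 3))) (.node (.node (.leaf 0) (.leaf 3)) (.node (.leaf 0) (.leaf 3)))) (.node (.node (.node (.leaf 0) (.leaf 3)) (.node (.leaf 3) (.leaf 3))) (.node (.node (.leaf 3) (.leaf 3)) (.node (.leaf 3) (.leaf 3))))) (.node (.node (.node (.node (.leaf 0) (.leaf 3)) (.node (.leaf 3) (.leaf 3))) (.node (.node (.leaf 0) (.leaf 3)) (.node (.leaf 3) (.leaf 3)))) (.node (.node (.node (.leaf 0) (.leaf 3)) (.node (.leaf 3) (.leaf 3))) (.node (.node (.leaf 3) (.leaf 3)) (.node (.leaf 3) (.leaf 3)))))) (.node (.node (.node (.node (.node (.leaf 3) (.leaf 0)) (.node (.leaf 3) (.leaf 3))) (.node (.node (.leaf 3) (.leaf 3)) (.node (.leaf 0) (.leaf 3)))) (.node (.node (.node (.leaf 3) (.leaf 3)) (.node (.leaf 0) (.leaf 3))) (.node (.node (.leaf 3) (.leaf 3)) (.node (.leaf 3) (.leaf 3))))) (.node (.node (.node (.node (.leaf 0) (.leaf 3)) (.node (.leaf 3) (.leaf 3))) (.node (.node (.leaf 3) (.leaf 3)) (.node (.leaf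 3) (.leaf 3)))) (.node (.node (.node (.leaf 0) (.leaf 3)) (.node (.leaf 3) (.leaf 3))) (.node (.node (.leaf 3) (.leaf 3)) (.node (.leaf 3) (.leaf 3)))))))

def twoKind167 : Janko.Tree (ℕ) :=
  (.node (.node (.node (.node (.node (.node (.leaf 0) (.leaf 0)) (.node (.leaf 3) (.leaf 3))) (.node (.node (.leaf 0) (.leaf 3)) (.node (.leaf 3) (.leaf 3)))) (.node (.node (.node (.leaf 0) (.leaf 3)) (.node (.leaf 0) (.leaf 3))) (.node (.node (.leaf 3) (.leaf 3)) (.node (.leaf 0) (.leaf 3))))) (.node (.node (.node (.node (.leaf 0) (.leaf 3)) (.node (.leaf 0) (.leaf 3))) (.node (.node (.leaf 3) (.leaf 3)) (.node (.leaf 0) (.leaf 3)))) (.node (.node (.node (.leaf 0) (.leaf 3)) (.node (.leaf 3) (.leaf 3))) (.node (.node (.leaf 3) (.leaf 3)) (.node (.leaf 3) (.leaf 3)))))) (.node (.node (.node (.node (.node (.leaf 0) (.leaf 3)) (.node (.leaf 0) (.leaf 3))) (.node (.node (.leaf 0) (.leaf 3)) (.node (.leaf 3) (.leaf 3)))) (.node (.node (.node (.leaf 3) (.leaf 3)) (.node (.leaf 3) (.leaf 3))) (.node (.node (.leaf 0) (.leaf 3))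 (.node (.leaf 3) (.leaf 3))))) (.node (.node (.node (.node (.leaf 0) (.leaf 3)) (.node (.leaf 0) (.leaf 3))) (.node (.node (.leaf 0) (.leaf 3)) (.node (.leaf 3) (.leaf 3)))) (.node (.node (.node (.leaf 0) (.leaf 3)) (.node (.leaf 0) (.leaf 0))) (.node (.node (.leaf 3) (.leaf 3)) (.node (.leaf 3) (.leaf 3)))))))

def twoKind168 : Janko.Tree (ℕ) :=
  (.node (.node (.node (.node (.node (.node (.leaf 0) (.leaf 0)) (.node (.leaf 3) (.leaf 3))) (.node (.node (.leaf 0) (.leaf 3)) (.node (.leaf 3) (.leaf 3)))) (.node (.node (.node (.leaf 0) (.leaf 3)) (.node (.leaf 3) (.leaf 3))) (.node (.node (.leaf 3) (.leaf 3)) (.node (.leaf 0) (.leaf 3))))) (.node (.node (.node (.node (.leaf 3) (.leaf 3)) (.node (.leaf 3) (.leaf 3))) (.node (.node (.leaf 3) (.leaf 3)) (.node (.leaf 3) (.leaf 3)))) (.node (.node (.node (.leaf 3) (.leaf 3)) (.node (.leaf 3) (.leaf 3))) (.node (.node (.leaf 3) (.leaf 3)) (.node (.leaf 3) (.leaf 3)))))) (.node (.node (.node (.node (.node (.leaf 0) (.leaf 3)) (.node (.leaf 3) (.leaf 3))) (.node (.node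 (.leaf 0) (.leaf 3)) (.node (.leaf 3) (.leaf 3)))) (.node (.node (.node (.leaf 0) (.leaf 3)) (.node (.leaf 3) (.leaf 3))) (.node (.node (.leaf 3) (.leaf 0)) (.node (.leaf 3) (.leaf 3))))) (.node (.node (.node (.node (.leaf 3) (.leaf 3)) (.node (.leaf 0) (.leaf 0))) (.node (.node (.leaf 3) (.leaf 3)) (.node (.leaf 3) (.leaf 3)))) (.node (.node (.node (.leaf 3) (.leaf 3)) (.node (.leaf 0) (.leaf 3))) (.node (.node (.leaf 3) (.leaf 3)) (.node (.leaf 3) (.leaf 3)))))))

def twoKind169 : Janko.Tree (ℕ) :=
  (.node (.node (.node (.node (.node (.node (.leaf 0) (.leaf 3)) (.node (.leaf 3) (.leaf 3))) (.node (.node (.leaf 3) (.leaf 3)) (.node (.leaf 3) (.leaf 3)))) (.node (.node (.node (.leaf 0) (.leaf 0)) (.node (.leaf 3) (.leaf 3))) (.node (.node (.leaf 3) (.leaf 3)) (.node (.leaf 3) (.leaf 3))))) (.node (.node (.node (.node (.leaf 0) (.leaf 3)) (.node (.leaf 0) (.leaf 3))) (.node (.node (.leaf 0) (.leaf 3)) (.node (.leaf 0) (.leaf 3)))) (.node (.node (.node (.leaf 3) (.leaf 3)) (.node (.leaf 3) (.leaf 3))) (.node (.node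 (.leaf 3) (.leaf 3)) (.node (.leaf 3) (.leaf 3)))))) (.node (.node (.node (.node (.node (.leaf 0) (.leaf 3)) (.node (.leaf 3) (.leaf 3))) (.node (.node (.leaf 0) (.leaf 3)) (.node (.leaf 3) (.leaf 3)))) (.node (.node (.node (.leaf 0) (.leaf 3)) (.node (.leaf 3) (.leaf 3))) (.node (.node (.leaf 0) (.leaf 3)) (.node (.leaf 3) (.leaf 3))))) (.node (.node (.node (.node (.leaf 3) (.leaf 3)) (.node (.leaf 0) (.leaf 3))) (.node (.node (.leaf 3) (.leaf 3)) (.node (.leaf 3) (.leaf 3)))) (.node (.node (.node (.leaf 0) (.leaf 3)) (.node (.leaf 0) (.leaf 0))) (.node (.node (.leaf 3) (.leaf 3)) (.node (.leaf 3) (.leaf 3)))))))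

def twoKind170 : Janko.Tree (ℕ) :=
  (.node (.node (.node (.node (.node (.node (.leaf 3) (.leaf 3)) (.node (.leaf 3) (.leaf 3))) (.node (.node (.leaf 0) (.leaf 3)) (.node (.leaf 3) (.leaf 3)))) (.node (.node (.node (.leaf 3) (.leaf 3)) (.node (.leaf 3) (.leaf 3))) (.node (.node (.leaf 3) (.leaf 3)) (.node (.leaf 0) (.leaf 3))))) (.node (.node (.node (.node (.leaf 0) (.leaf 0)) (.node (.leaf 3) (.leaf 3))) (.node (.node (.leaf 3) (.leaf 3)) (.node (.leaf 3) (.leaf 3)))) (.node (.node (.node (.leaf 0) (.leaf 3)) (.node (.leaf 0) (.leaf 3))) (.node (.node (.leaf 3) (.leaf 3)) (.node (.leaf 3) (.leaf 3)))))) (.node (.node (.node (.node (.node (.leaf 0) (.leaf 3)) (.node (.leaf 3) (.leaf 3))) (.node (.node (.leaf 0) (.leaf 3)) (.node (.leaf 3) (.leaf 3)))) (.node (.node (.node (.leaf 0) (.leaf 3)) (.node (.leaf 0) (.leaf 3))) (.node (.node (.leaf 3) (.leaf 3)) (.node (.leaf 3) (.leaf 3))))) (.node (.node (.node (.node (.leaf 3) (.leaf 3)) (.node (.leaf 0) (.leaf 3))) (.node (.node (.leaf 3) (.leaf 3)) (.node (.leaf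 3) (.leaf 3)))) (.node (.node (.node (.leaf 3) (.leaf 3)) (.node (.leaf 0) (.leaf 3))) (.node (.node (.leaf 3) (.leaf 3)) (.node (.leaf 0) (.leaf 3)))))))

def twoKind171 : Janko.Tree (ℕ) :=
  (.node (.node (.node (.node (.node (.node (.leaf 0) (.leaf 3)) (.node (.leaf 3) (.leaf 3))) (.node (.node (.leaf 3) (.leaf 3)) (.node (.leaf 0) (.leaf 3)))) (.node (.node (.node (.leaf 3) (.leaf 3)) (.node (.leaf 3) (.leaf 3))) (.node (.node (.leaf 0) (.leaf 3)) (.node (.leaf 3) (.leaf 3))))) (.node (.node (.node (.node (.leaf 0) (.leaf 3)) (.node (.leaf 3) (.leaf 3))) (.node (.node (.leaf 0) (.leaf 3)) (.node (.leaf 3) (.leaf 3)))) (.node (.node (.node (.leaf 0) (.leaf 3)) (.node (.leaf 3) (.leaf 3))) (.node (.node (.leaf 0) (.leaf 3)) (.node (.leaf 0) (.leaf 3)))))) (.node (.node (.node (.node (.node (.leaf 3) (.leaf 3)) (.node (.leaf 3) (.leaf 3))) (.node (.node (.leaf 0) (.leaf 3)) (.node (.leaf 3) (.leaf 3)))) (.node (.node (.node (.leaf 3) (.leaf 3)) (.node (.leaf 0) (.leaf 3))) (.node (.node (.leaf 0) (.leaf 3))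 (.node (.leaf 0) (.leaf 3))))) (.node (.node (.node (.node (.leaf 0) (.leaf 0)) (.node (.leaf 3) (.leaf 3))) (.node (.node (.leaf 0) (.leaf 3)) (.node (.leaf 3) (.leaf 3)))) (.node (.node (.node (.leaf 3) (.leaf 3)) (.node (.leaf 3) (.leaf 3))) (.node (.node (.leaf 0) (.leaf 0)) (.node (.leaf 3) (.leaf 3)))))))

def twoKind172 : Janko.Tree (ℕ) :=
  (.node (.node (.node (.node (.node (.node (.leaf 0) (.leaf 0)) (.node (.leaf 3) (.leaf 0))) (.node (.node (.leaf 3) (.leaf 3)) (.node (.leaf 0) (.leaf 3)))) (.node (.node (.node (.leaf 3) (.leaf 0)) (.node (.leaf 3) (.leaf 0))) (.node (.node (.leaf 0) (.leaf 3)) (.node (.leaf 3) (.leaf 3))))) (.node (.node (.node (.node (.leaf 0) (.leaf 3)) (.node (.leaf 0) (.leaf 3))) (.node (.node (.leaf 3) (.leaf 3)) (.node (.leaf 3) (.leaf 3)))) (.node (.node (.node (.leaf 0) (.leaf 3)) (.node (.leaf 0) (.leaf 3))) (.node (.node (.leaf 3) (.leaf 3)) (.node (.leaf 0) (.leaf 3)))))) (.node (.node (.node (.node (.node (.leaf 3) (.leaf 3)) (.node (.leaf 0) (.leaf 3))) (.node (.node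 (.leaf 3) (.leaf 3)) (.node (.leaf 3) (.leaf 3)))) (.node (.node (.node (.leaf 3) (.leaf 3)) (.node (.leaf 3) (.leaf 3))) (.node (.node (.leaf 3) (.leaf 3)) (.node (.leaf 3) (.leaf 3))))) (.node (.node (.node (.node (.leaf 3) (.leaf 3)) (.node (.leaf 3) (.leaf 3))) (.node (.node (.leaf 0) (.leaf 3)) (.node (.leaf 3) (.leaf 3)))) (.node (.node (.node (.leaf 3) (.leaf 3)) (.node (.leaf 3) (.leaf 3))) (.node (.node (.leaf 3) (.leaf 3)) (.node (.leaf 3) (.leaf 3)))))))

def twoKind173 : Janko.Tree (ℕ) :=
  (.node (.node (.node (.node (.node (.node (.leaf 0) (.leaf 0)) (.node (.leaf 3) (.leaf 3))) (.node (.node (.leaf 0) (.leaf 3)) (.node (.leaf 0) (.leaf 3)))) (.node (.node (.node (.leaf 0) (.leaf 3)) (.node (.leaf 3) (.leaf 3))) (.node (.node (.leaf 0) (.leaf 3)) (.node (.leaf 3) (.leaf 3))))) (.node (.node (.node (.node (.leaf 3) (.leaf 3)) (.node (.leaf 3) (.leaf 0))) (.node (.node (.leaf 0) (.leaf 3)) (.node (.leaf 3) (.leaf 3)))) (.node (.node (.node (.leaf 3) (.leaf 3)) (.node (.leaf 3) (.leaf 3))) (.node (.node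 (.leaf 3) (.leaf 3)) (.node (.leaf 3) (.leaf 3)))))) (.node (.node (.node (.node (.node (.leaf 3) (.leaf 3)) (.node (.leaf 3) (.leaf 3))) (.node (.node (.leaf 3) (.leaf 3)) (.node (.leaf 0) (.leaf 3)))) (.node (.node (.node (.leaf 0) (.leaf 3)) (.node (.leaf 3) (.leaf 3))) (.node (.node (.leaf 0) (.leaf 3)) (.node (.leaf 0) (.leaf 3))))) (.node (.node (.node (.node (.leaf 0) (.leaf 3)) (.node (.leaf 3) (.leaf 3))) (.node (.node (.leaf 0) (.leaf 3)) (.node (.leaf 3) (.leaf 3)))) (.node (.node (.node (.leaf 0) (.leaf 3)) (.node (.leaf 0) (.leaf 3))) (.node (.node (.leaf 0) (.leaf 0)) (.node (.leaf 3) (.leaf 3)))))))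

def twoKind174 : Janko.Tree (ℕ) :=
  (.node (.node (.node (.node (.node (.node (.leaf 0) (.leaf 3)) (.node (.leaf 3) (.leaf 3))) (.node (.node (.leaf 3) (.leaf 3)) (.node (.leaf 0) (.leaf 3)))) (.node (.node (.node (.leaf 3) (.leaf 3)) (.node (.leaf 3) (.leaf 3))) (.node (.node (.leaf 0) (.leaf 0)) (.node (.leaf 3) (.leaf 3))))) (.node (.node (.node (.node (.leaf 3) (.leaf 3)) (.node (.leaf 0) (.leaf 3))) (.node (.node (.leaf 3) (.leaf 3)) (.node (.leaf 3) (.leaf 3)))) (.node (.node (.node (.leaf 0) (.leaf 3)) (.node (.leaf 0) (.leaf 3))) (.node (.node (.leaf 3) (.leaf 3)) (.node (.leaf 0) (.leaf 3)))))) (.node (.node (.node (.node (.node (.leaf 0) (.leaf 3)) (.node (.leaf 0) (.leaf 3))) (.node (.node (.leaf 0) (.leaf 3)) (.node (.leaf 3) (.leaf 3)))) (.node (.node (.node (.leaf 3) (.leaf 3)) (.node (.leaf 3) (.leaf 3))) (.node (.node (.leaf 0) (.leaf 3)) (.node (.leaf 3) (.leaf 3))))) (.node (.node (.node (.node (.leaf 3) (.leaf 3)) (.node (.leaf 3) (.leaf 3))) (.node (.node (.leaf 0) (.leaf 3)) (.node (.leaf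 3) (.leaf 3)))) (.node (.node (.node (.leaf 3) (.leaf 3)) (.node (.leaf 0) (.leaf 3))) (.node (.node (.leaf 3) (.leaf 3)) (.node (.leaf 0) (.leaf 3)))))))

def twoKind175 : Janko.Tree (ℕ) :=
  (.node (.node (.node (.node (.node (.node (.leaf 0) (.leaf 3)) (.node (.leaf 3) (.leaf 0))) (.node (.node (.leaf 0) (.leaf 3)) (.node (.leaf 3) (.leaf 3)))) (.node (.node (.node (.leaf 0) (.leaf 3)) (.node (.leaf 0) (.leaf 3))) (.node (.node (.leaf 3) (.leaf 3)) (.node (.leaf 0) (.leaf 3))))) (.node (.node (.node (.node (.leaf 0) (.leaf 3)) (.node (.leaf 3) (.leaf 3))) (.node (.node (.leaf 0) (.leaf 3)) (.node (.leaf 0) (.leaf 3)))) (.node (.node (.node (.leaf 3) (.leaf 3)) (.node (.leaf 3) (.leaf 3))) (.node (.node (.leaf 3) (.leaf 3)) (.node (.leaf 3) (.leaf 3)))))) (.node (.node (.node (.node (.node (.leaf 0) (.leaf 3)) (.node (.leaf 3) (.leaf 3))) (.node (.node (.leaf 0) (.leaf 3)) (.node (.leaf 0) (.leaf 3)))) (.node (.node (.node (.leaf 0) (.leaf 3)) (.node (.leaf 3) (.leaf 3))) (.node (.node (.leaf 0) (.leaf 0))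 (.node (.leaf 3) (.leaf 3))))) (.node (.node (.node (.node (.leaf 3) (.leaf 3)) (.node (.leaf 3) (.leaf 3))) (.node (.node (.leaf 0) (.leaf 3)) (.node (.leaf 0) (.leaf 3)))) (.node (.node (.node (.leaf 0) (.leaf 3)) (.node (.leaf 0) (.leaf 3))) (.node (.node (.leaf 3) (.leaf 3)) (.node (.leaf 0) (.leaf 3)))))))

def twoKind176 : Janko.Tree (ℕ) :=
  (.node (.node (.node (.node (.node (.node (.leaf 3) (.leaf 3)) (.node (.leaf 0) (.leaf 3))) (.node (.node (.leaf 3) (.leaf 3)) (.node (.leaf 3) (.leaf 3)))) (.node (.node (.node (.leaf 0) (.leaf 3)) (.node (.leaf 3) (.leaf 3))) (.node (.node (.leaf 3) (.leaf 3)) (.node (.leaf 3) (.leaf 3))))) (.node (.node (.node (.node (.leaf 0) (.leaf 3)) (.node (.leaf 0) (.leaf 3))) (.node (.node (.leaf 3) (.leaf 3)) (.node (.leaf 0) (.leaf 3)))) (.node (.node (.node (.leaf 0) (.leaf 3)) (.node (.leaf 0) (.leaf 3))) (.node (.node (.leaf 0) (.leaf 3)) (.node (.leaf 3) (.leaf 3)))))) (.node (.node (.node (.node (.node (.leaf 3) (.leaf 3)) (.node (.leaf 3) (.leaf 0))) (.node (.node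 (.leaf 0) (.leaf 3)) (.node (.leaf 3) (.leaf 3)))) (.node (.node (.node (.leaf 0) (.leaf 3)) (.node (.leaf 3) (.leaf 3))) (.node (.node (.leaf 0) (.leaf 3)) (.node (.leaf 0) (.leaf 3))))) (.node (.node (.node (.node (.leaf 3) (.leaf 3)) (.node (.leaf 3) (.leaf 3))) (.node (.node (.leaf 3) (.leaf 3)) (.node (.leaf 3) (.leaf 3)))) (.node (.node (.node (.leaf 3) (.leaf 3)) (.node (.leaf 3) (.leaf 3))) (.node (.node (.leaf 3) (.leaf 3)) (.node (.leaf 3) (.leaf 3)))))))

def twoKind177 : Janko.Tree (ℕ) :=
  (.node (.node (.node (.node (.node (.node (.leaf 0) (.leaf 0)) (.node (.leaf 3) (.leaf 3))) (.node (.node (.leaf 0) (.leaf 3)) (.node (.leaf 3) (.leaf 3)))) (.node (.node (.node (.leaf 3) (.leaf 3)) (.node (.leaf 3) (.leaf 3))) (.node (.node (.leaf 3) (.leaf 3)) (.node (.leaf 3) (.leaf 3))))) (.node (.node (.node (.node (.leaf 0) (.leaf 3)) (.node (.leaf 0) (.leaf 3))) (.node (.node (.leaf 0) (.leaf 3)) (.node (.leaf 0) (.leaf 3)))) (.node (.node (.node (.leaf 0) (.leaf 3)) (.node (.leaf 3) (.leaf 3))) (.node (.node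 (.leaf 0) (.leaf 3)) (.node (.leaf 0) (.leaf 3)))))) (.node (.node (.node (.node (.node (.leaf 0) (.leaf 3)) (.node (.leaf 3) (.leaf 3))) (.node (.node (.leaf 0) (.leaf 3)) (.node (.leaf 0) (.leaf 3)))) (.node (.node (.node (.leaf 3) (.leaf 3)) (.node (.leaf 3) (.leaf 3))) (.node (.node (.leaf 0) (.leaf 3)) (.node (.leaf 3) (.leaf 3))))) (.node (.node (.node (.node (.leaf 0) (.leaf 3)) (.node (.leaf 0) (.leaf 3))) (.node (.node (.leaf 0) (.leaf 3)) (.node (.leaf 3) (.leaf 3)))) (.node (.node (.node (.leaf 0) (.leaf 3)) (.node (.leaf 3) (.leaf 3))) (.node (.node (.leaf 3) (.leaf 3)) (.node (.leaf 3) (.leaf 3)))))))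

def twoKind178 : Janko.Tree (ℕ) :=
  (.node (.node (.node (.node (.node (.node (.leaf 0) (.leaf 3)) (.node (.leaf 0) (.leaf 0))) (.node (.node (.leaf 0) (.leaf 3)) (.node (.leaf 3) (.leaf 3)))) (.node (.node (.node (.leaf 0) (.leaf 0)) (.node (.leaf 3) (.leaf 3))) (.node (.node (.leaf 3) (.leaf 3)) (.node (.leaf 3) (.leaf 3))))) (.node (.node (.node (.node (.leaf 0) (.leaf 3)) (.node (.leaf 0) (.leaf 3))) (.node (.node (.leaf 3) (.leaf 3)) (.node (.leaf 0) (.leaf 3)))) (.node (.node (.node (.leaf 3) (.leaf 3)) (.node (.leaf 3) (.leaf 3))) (.node (.node (.leaf 3) (.leaf 3)) (.node (.leaf 3) (.leaf 3)))))) (.node (.node (.node (.node (.node (.leaf 3) (.leaf 3)) (.node (.leaf 3) (.leaf 3))) (.node (.node (.leaf 0) (.leaf 3)) (.node (.leaf 3) (.leaf 3)))) (.node (.node (.node (.leaf 0) (.leaf 3)) (.node (.leaf 3) (.leaf 3))) (.node (.node (.leaf 3) (.leaf 3)) (.node (.leaf 3) (.leaf 3))))) (.node (.node (.node (.node (.leaf 3) (.leaf 3)) (.node (.leaf 3) (.leaf 3))) (.node (.node (.leaf 3) (.leaf 3)) (.node (.leaf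 3) (.leaf 3)))) (.node (.node (.node (.leaf 0) (.leaf 3)) (.node (.leaf 3) (.leaf 3))) (.node (.node (.leaf 0) (.leaf 3)) (.node (.leaf 3) (.leaf 3)))))))

def twoKind179 : Janko.Tree (ℕ) :=
  (.node (.node (.node (.node (.node (.node (.leaf 0) (.leaf 3)) (.node (.leaf 0) (.leaf 3))) (.node (.node (.leaf 0) (.leaf 3)) (.node (.leaf 3) (.leaf 3)))) (.node (.node (.node (.leaf 0) (.leaf 3)) (.node (.leaf 0) (.leaf 3))) (.node (.node (.leaf 0) (.leaf 3)) (.node (.leaf 3) (.leaf 3))))) (.node (.node (.node (.node (.leaf 0) (.leaf 3)) (.node (.leaf 0) (.leaf 3))) (.node (.node (.leaf 3) (.leaf 3)) (.node (.leaf 3) (.leaf 3)))) (.node (.node (.node (.leaf 0) (.leaf 3)) (.node (.leaf 0) (.leaf 3))) (.node (.node (.leaf 3) (.leaf 3)) (.node (.leaf 3) (.leaf 3)))))) (.node (.node (.node (.node (.node (.leaf 0) (.leaf 3)) (.node (.leaf 0) (.leaf 3))) (.node (.node (.leaf 3) (.leaf 3)) (.node (.leaf 3) (.leaf 3)))) (.node (.node (.node (.leaf 0) (.leaf 3)) (.node (.leaf 0) (.leaf 3))) (.node (.node (.leaf 0) (.leaf 0))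 (.node (.leaf 0) (.leaf 3))))) (.node (.node (.node (.node (.leaf 3) (.leaf 3)) (.node (.leaf 0) (.leaf 0))) (.node (.node (.leaf 0) (.leaf 3)) (.node (.leaf 0) (.leaf 3)))) (.node (.node (.node (.leaf 3) (.leaf 3)) (.node (.leaf 0) (.leaf 3))) (.node (.node (.leaf 3) (.leaf 3)) (.node (.leaf 0) (.leaf 3)))))))

def twoKind180 : Janko.Tree (ℕ) :=
  (.node (.node (.node (.node (.node (.node (.leaf 0) (.leaf 3)) (.node (.leaf 0) (.leaf 3))) (.node (.node (.leaf 3) (.leaf 3)) (.node (.leaf 3) (.leaf 3)))) (.node (.node (.node (.leaf 0) (.leaf 3)) (.node (.leaf 3) (.leaf 3))) (.node (.node (.leaf 3) (.leaf 0)) (.node (.leaf 3) (.leaf 3))))) (.node (.node (.node (.node (.leaf 3) (.leaf 3)) (.node (.leaf 3) (.leaf 3))) (.node (.node (.leaf 3) (.leaf 3)) (.node (.leaf 3) (.leaf 3)))) (.node (.node (.node (.leaf 0) (.leaf 3)) (.node (.leaf 3) (.leaf 3))) (.node (.node (.leaf 0) (.leaf 0)) (.node (.leaf 3) (.leaf 3)))))) (.node (.node (.node (.node (.node (.leaf 0) (.leaf 3)) (.node (.leaf 3) (.leaf 3))) (.node (.node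 (.leaf 3) (.leaf 3)) (.node (.leaf 3) (.leaf 3)))) (.node (.node (.node (.leaf 3) (.leaf 3)) (.node (.leaf 3) (.leaf 3))) (.node (.node (.leaf 0) (.leaf 0)) (.node (.leaf 3) (.leaf 3))))) (.node (.node (.node (.node (.leaf 0) (.leaf 3)) (.node (.leaf 3) (.leaf 3))) (.node (.node (.leaf 3) (.leaf 3)) (.node (.leaf 0) (.leaf 3)))) (.node (.node (.node (.leaf 0) (.leaf 3)) (.node (.leaf 0) (.leaf 3))) (.node (.node (.leaf 3) (.leaf 3)) (.node (.leaf 0) (.leaf 3)))))))

def twoKind181 : Janko.Tree (ℕ) :=
  (.node (.node (.node (.node (.node (.node (.leaf 3) (.leaf 0)) (.node (.leaf 3) (.leaf 3))) (.node (.node (.leaf 3) (.leaf 3)) (.node (.leaf 3) (.leaf 3)))) (.node (.node (.node (.leaf 0) (.leaf 3)) (.node (.leaf 0) (.leaf 3))) (.node (.node (.leaf 3) (.leaf 3)) (.node (.leaf 3) (.leaf 3))))) (.node (.node (.node (.node (.leaf 0) (.leaf 3)) (.node (.leaf 3) (.leaf 3))) (.node (.node (.leaf 3) (.leaf 3)) (.node (.leaf 3) (.leaf 3)))) (.node (.node (.node (.leaf 3) (.leaf 3)) (.node (.leaf 3) (.leaf 3))) (.node (.node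 (.leaf 3) (.leaf 3)) (.node (.leaf 3) (.leaf 3)))))) (.node (.node (.node (.node (.node (.leaf 0) (.leaf 3)) (.node (.leaf 0) (.leaf 3))) (.node (.node (.leaf 0) (.leaf 3)) (.node (.leaf 3) (.leaf 3)))) (.node (.node (.node (.leaf 0) (.leaf 3)) (.node (.leaf 3) (.leaf 3))) (.node (.node (.leaf 3) (.leaf 3)) (.node (.leaf 3) (.leaf 3))))) (.node (.node (.node (.node (.leaf 3) (.leaf 3)) (.node (.leaf 3) (.leaf 3))) (.node (.node (.leaf 3) (.leaf 3)) (.node (.leaf 3) (.leaf 3)))) (.node (.node (.node (.leaf 0) (.leaf 3)) (.node (.leaf 0) (.leaf 3))) (.node (.node (.leaf 0) (.leaf 3)) (.node (.leaf 3) (.leaf 3)))))))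

def twoKind182 : Janko.Tree (ℕ) :=
  (.node (.node (.node (.node (.node (.node (.leaf 0) (.leaf 3)) (.node (.leaf 0) (.leaf 3))) (.node (.node (.leaf 3) (.leaf 3)) (.node (.leaf 3) (.leaf 3)))) (.node (.node (.node (.leaf 3) (.leaf 3)) (.node (.leaf 3) (.leaf 3))) (.node (.node (.leaf 0) (.leaf 3)) (.node (.leaf 3) (.leaf 3))))) (.node (.node (.node (.node (.leaf 3) (.leaf 3)) (.node (.leaf 0) (.leaf 3))) (.node (.node (.leaf 3) (.leaf 3)) (.node (.leaf 3) (.leaf 3)))) (.node (.node (.node (.leaf 3) (.leaf 3)) (.node (.leaf 3) (.leaf 3))) (.node (.node (.leaf 0) (.leaf 3)) (.node (.leaf 3) (.leaf 3)))))) (.node (.node (.node (.node (.node (.leaf 0) (.leaf 3)) (.node (.leaf 0) (.leaf 3))) (.node (.node (.leaf 0) (.leaf 3)) (.node (.leaf 3) (.leaf 3)))) (.node (.node (.node (.leaf 0) (.leaf 3)) (.node (.leaf 3) (.leaf 3))) (.node (.node (.leaf 3) (.leaf 0)) (.node (.leaf 3) (.leaf 3))))) (.node (.node (.node (.node (.leaf 0) (.leaf 3)) (.node (.leaf 3) (.leaf 3))) (.node (.node (.leaf 3) (.leaf 3)) (.node (.leaf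 3) (.leaf 3)))) (.node (.node (.node (.leaf 3) (.leaf 3)) (.node (.leaf 0) (.leaf 3))) (.node (.node (.leaf 3) (.leaf 3)) (.node (.leaf 3) (.leaf 3)))))))

def twoKind183 : Janko.Tree (ℕ) :=
  (.node (.node (.node (.node (.node (.node (.leaf 0) (.leaf 3)) (.node (.leaf 3) (.leaf 3))) (.node (.node (.leaf 0) (.leaf 3)) (.node (.leaf 3) (.leaf 3)))) (.node (.node (.node (.leaf 0) (.leaf 0)) (.node (.leaf 3) (.leaf 3))) (.node (.node (.leaf 0) (.leaf 3)) (.node (.leaf 0) (.leaf 3))))) (.node (.node (.node (.node (.leaf 0) (.leaf 3)) (.node (.leaf 3) (.leaf 3))) (.node (.node (.leaf 0) (.leaf 3)) (.node (.leaf 0) (.leaf 3)))) (.node (.node (.node (.leaf 0) (.leaf 3)) (.node (.leaf 3) (.leaf 3))) (.node (.node (.leaf 3) (.leaf 3)) (.node (.leaf 3) (.leaf 3)))))) (.node (.node (.node (.node (.node (.leaf 0) (.leaf 3)) (.node (.leaf 3) (.leaf 3))) (.node (.node (.leaf 0) (.leaf 3)) (.node (.leaf 3) (.leaf 3)))) (.node (.node (.node (.leaf 0) (.leaf 3)) (.node (.leaf 0) (.leaf 3))) (.node (.node (.leaf 3) (.leaf 3))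 (.node (.leaf 3) (.leaf 3))))) (.node (.node (.node (.node (.leaf 0) (.leaf 0)) (.node (.leaf 0) (.leaf 3))) (.node (.node (.leaf 3) (.leaf 3)) (.node (.leaf 3) (.leaf 3)))) (.node (.node (.node (.leaf 3) (.leaf 3)) (.node (.leaf 0) (.leaf 3))) (.node (.node (.leaf 0) (.leaf 3)) (.node (.leaf 3) (.leaf 3)))))))

def twoKind184 : Janko.Tree (ℕ) :=
  (.node (.node (.node (.node (.node (.node (.leaf 0) (.leaf 3)) (.node (.leaf 3) (.leaf 3))) (.node (.node (.leaf 0) (.leaf 3)) (.node (.leaf 0) (.leaf 3)))) (.node (.node (.node (.leaf 0) (.leaf 3)) (.node (.leaf 3) (.leaf 3))) (.node (.node (.leaf 0) (.leaf 3)) (.node (.leaf 0) (.leaf 3))))) (.node (.node (.node (.node (.leaf 3) (.leaf 3)) (.node (.leaf 3) (.leaf 3))) (.node (.node (.leaf 0) (.leaf 3)) (.node (.leaf 3) (.leaf 3)))) (.node (.node (.node (.leaf 0) (.leaf 3)) (.node (.leaf 3) (.leaf 3))) (.node (.node (.leaf 3) (.leaf 3)) (.node (.leaf 3) (.leaf 3)))))) (.node (.node (.node (.node (.node (.leaf 3) (.leaf 3)) (.node (.leaf 3) (.leaf 3))) (.node (.node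 (.leaf 0) (.leaf 3)) (.node (.leaf 3) (.leaf 3)))) (.node (.node (.node (.leaf 0) (.leaf 3)) (.node (.leaf 0) (.leaf 3))) (.node (.node (.leaf 3) (.leaf 0)) (.node (.leaf 3) (.leaf 3))))) (.node (.node (.node (.node (.leaf 3) (.leaf 3)) (.node (.leaf 3) (.leaf 0))) (.node (.node (.leaf 0) (.leaf 3)) (.node (.leaf 3) (.leaf 3)))) (.node (.node (.node (.leaf 3) (.leaf 3)) (.node (.leaf 3) (.leaf 3))) (.node (.node (.leaf 3) (.leaf 3)) (.node (.leaf 3) (.leaf 3)))))))

def twoKind185 : Janko.Tree (ℕ) :=
  (.node (.node (.node (.node (.node (.node (.leaf 0) (.leaf 3)) (.node (.leaf 0) (.leaf 3))) (.node (.node (.leaf 3) (.leaf 3)) (.node (.leaf 3) (.leaf 3)))) (.node (.node (.node (.leaf 3) (.leaf 3)) (.node (.leaf 0) (.leaf 3))) (.node (.node (.leaf 0) (.leaf 3)) (.node (.leaf 3) (.leaf 3))))) (.node (.node (.node (.node (.leaf 3) (.leaf 3)) (.node (.leaf 3) (.leaf 3))) (.node (.node (.leaf 3) (.leaf 3)) (.node (.leaf 3) (.leaf 3)))) (.node (.node (.node (.leaf 3) (.leaf 3)) (.node (.leaf 3) (.leaf 3))) (.node (.node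 (.leaf 0) (.leaf 3)) (.node (.leaf 0) (.leaf 3)))))) (.node (.node (.node (.node (.node (.leaf 3) (.leaf 0)) (.node (.leaf 0) (.leaf 3))) (.node (.node (.leaf 3) (.leaf 3)) (.node (.leaf 3) (.leaf 3)))) (.node (.node (.node (.leaf 3) (.leaf 3)) (.node (.leaf 3) (.leaf 3))) (.node (.node (.leaf 0) (.leaf 0)) (.node (.leaf 3) (.leaf 3))))) (.node (.node (.node (.node (.leaf 0) (.leaf 0)) (.node (.leaf 3) (.leaf 3))) (.node (.node (.leaf 0) (.leaf 3)) (.node (.leaf 3) (.leaf 3)))) (.node (.node (.node (.leaf 0) (.leaf 3)) (.node (.leaf 3) (.leaf 3))) (.node (.node (.leaf 0) (.leaf 3)) (.node (.leaf 3) (.leaf 3)))))))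

def twoKind186 : Janko.Tree (ℕ) :=
  (.node (.node (.node (.node (.node (.node (.leaf 3) (.leaf 3)) (.node (.leaf 3) (.leaf 3))) (.node (.node (.leaf 0) (.leaf 3)) (.node (.leaf 3) (.leaf 3)))) (.node (.node (.node (.leaf 0) (.leaf 3)) (.node (.leaf 3) (.leaf 3))) (.node (.node (.leaf 0) (.leaf 0)) (.node (.leaf 0) (.leaf 3))))) (.node (.node (.node (.node (.leaf 0) (.leaf 3)) (.node (.leaf 0) (.leaf 3))) (.node (.node (.leaf 3) (.leaf 3)) (.node (.leaf 0) (.leaf 3)))) (.node (.node (.node (.leaf 0) (.leaf 3)) (.node (.leaf 3) (.leaf 3))) (.node (.node (.leaf 3) (.leaf 3)) (.node (.leaf 3) (.leaf 3)))))) (.node (.node (.node (.node (.node (.leaf 0) (.leaf 3)) (.node (.leaf 3) (.leaf 3))) (.node (.node (.leaf 3) (.leaf 3)) (.node (.leaf 0) (.leaf 3)))) (.node (.node (.node (.leaf 0) (.leaf 3)) (.node (.leaf 3) (.leaf 3))) (.node (.node (.leaf 0) (.leaf 3)) (.node (.leaf 3) (.leaf 3))))) (.node (.node (.node (.node (.leaf 3) (.leaf 3)) (.node (.leaf 3) (.leaf 3))) (.node (.node (.leaf 3) (.leaf 3)) (.node (.leaf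 3) (.leaf 3)))) (.node (.node (.node (.leaf 3) (.leaf 3)) (.node (.leaf 3) (.leaf 3))) (.node (.node (.leaf 3) (.leaf 3)) (.node (.leaf 3) (.leaf 3)))))))

def twoKind187 : Janko.Tree (ℕ) :=
  (.node (.node (.node (.node (.node (.node (.leaf 0) (.leaf 0)) (.node (.leaf 3) (.leaf 3))) (.node (.node (.leaf 0) (.leaf 3)) (.node (.leaf 0) (.leaf 3)))) (.node (.node (.node (.leaf 0) (.leaf 3)) (.node (.leaf 3) (.leaf 3))) (.node (.node (.leaf 0) (.leaf 3)) (.node (.leaf 3) (.leaf 3))))) (.node (.node (.node (.node (.leaf 3) (.leaf 3)) (.node (.leaf 3) (.leaf 3))) (.node (.node (.leaf 0) (.leaf 3)) (.node (.leaf 3) (.leaf 3)))) (.node (.node (.node (.leaf 0) (.leaf 3)) (.node (.leaf 3) (.leaf 3))) (.node (.node (.leaf 3) (.leaf 3)) (.node (.leaf 3) (.leaf 3)))))) (.node (.node (.node (.node (.node (.leaf 0) (.leaf 3)) (.node (.leaf 3) (.leaf 3))) (.node (.node (.leaf 3) (.leaf 3)) (.node (.leaf 0) (.leaf 3)))) (.node (.node (.node (.leaf 0) (.leaf 3)) (.node (.leaf 3) (.leaf 3))) (.node (.node (.leaf 0) (.leaf 3))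 (.node (.leaf 3) (.leaf 3))))) (.node (.node (.node (.node (.leaf 0) (.leaf 0)) (.node (.leaf 3) (.leaf 3))) (.node (.node (.leaf 3) (.leaf 3)) (.node (.leaf 0) (.leaf 3)))) (.node (.node (.node (.leaf 0) (.leaf 3)) (.node (.leaf 0) (.leaf 3))) (.node (.node (.leaf 3) (.leaf 3)) (.node (.leaf 0) (.leaf 3)))))))

def twoKind188 : Janko.Tree (ℕ) :=
  (.node (.node (.node (.node (.node (.node (.leaf 0) (.leaf 3)) (.node (.leaf 3) (.leaf 3))) (.node (.node (.leaf 3) (.leaf 0)) (.node (.leaf 3) (.leaf 3)))) (.node (.node (.node (.leaf 3) (.leaf 3)) (.node (.leaf 3) (.leaf 3))) (.node (.node (.leaf 3) (.leaf 3)) (.node (.leaf 3) (.leaf 3))))) (.node (.node (.node (.node (.leaf 3) (.leaf 0)) (.node (.leaf 0) (.leaf 3))) (.node (.node (.leaf 3) (.leaf 3)) (.node (.leaf 3) (.leaf 3)))) (.node (.node (.node (.leaf 3) (.leaf 3)) (.node (.leaf 3) (.leaf 3))) (.node (.node (.leaf 3) (.leaf 3)) (.node (.leaf 3) (.leaf 3)))))) (.node (.node (.node (.node (.node (.leaf 0) (.leaf 3)) (.node (.leaf 0) (.leaf 3))) (.node (.node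 (.leaf 0) (.leaf 3)) (.node (.leaf 3) (.leaf 0)))) (.node (.node (.node (.leaf 3) (.leaf 3)) (.node (.leaf 3) (.leaf 3))) (.node (.node (.leaf 3) (.leaf 3)) (.node (.leaf 3) (.leaf 3))))) (.node (.node (.node (.node (.leaf 3) (.leaf 3)) (.node (.leaf 0) (.leaf 3))) (.node (.node (.leaf 3) (.leaf 3)) (.node (.leaf 3) (.leaf 3)))) (.node (.node (.node (.leaf 0) (.leaf 3)) (.node (.leaf 0) (.leaf 3))) (.node (.node (.leaf 3) (.leaf 3)) (.node (.leaf 0) (.leaf 3)))))))

def twoKind189 : Janko.Tree (ℕ) :=
  (.node (.node (.node (.node (.node (.node (.leaf 0) (.leaf 3)) (.node (.leaf 3) (.leaf 3))) (.node (.node (.leaf 3) (.leaf 3)) (.node (.leaf 0) (.leaf 3)))) (.node (.node (.node (.leaf 0) (.leaf 3)) (.node (.leaf 0) (.leaf 3))) (.node (.node (.leaf 0) (.leaf 3)) (.node (.leaf 3) (.leaf 3))))) (.node (.node (.node (.node (.leaf 0) (.leaf 3)) (.node (.leaf 0) (.leaf 3))) (.node (.node (.leaf 0) (.leaf 3)) (.node (.leaf 3) (.leaf 3)))) (.node (.node (.node (.leaf 0) (.leaf 3)) (.node (.leaf 0) (.leaf 3))) (.node (.node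 (.leaf 3) (.leaf 3)) (.node (.leaf 3) (.leaf 3)))))) (.node (.node (.node (.node (.node (.leaf 3) (.leaf 3)) (.node (.leaf 3) (.leaf 3))) (.node (.node (.leaf 3) (.leaf 3)) (.node (.leaf 0) (.leaf 3)))) (.node (.node (.node (.leaf 0) (.leaf 3)) (.node (.leaf 3) (.leaf 3))) (.node (.node (.leaf 3) (.leaf 3)) (.node (.leaf 3) (.leaf 3))))) (.node (.node (.node (.node (.leaf 3) (.leaf 3)) (.node (.leaf 0) (.leaf 3))) (.node (.node (.leaf 0) (.leaf 3)) (.node (.leaf 3) (.leaf 3)))) (.node (.node (.node (.leaf 3) (.leaf 3)) (.node (.leaf 3) (.leaf 3))) (.node (.node (.leaf 3) (.leaf 0)) (.node (.leaf 3) (.leaf 3)))))))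

def twoKind190 : Janko.Tree (ℕ) :=
  (.node (.node (.node (.node (.node (.node (.leaf 0) (.leaf 0)) (.node (.leaf 3) (.leaf 3))) (.node (.node (.leaf 3) (.leaf 3)) (.node (.leaf 3) (.leaf 3)))) (.node (.node (.node (.leaf 3) (.leaf 3)) (.node (.leaf 3) (.leaf 3))) (.node (.node (.leaf 3) (.leaf 3)) (.node (.leaf 3) (.leaf 3))))) (.node (.node (.node (.node (.leaf 3) (.leaf 3)) (.node (.leaf 3) (.leaf 3))) (.node (.node (.leaf 3) (.leaf 3)) (.node (.leaf 0) (.leaf 3)))) (.node (.node (.node (.leaf 3) (.leaf 3)) (.node (.leaf 0) (.leaf 3))) (.node (.node (.leaf 0) (.leaf 3)) (.node (.leaf 3) (.leaf 3)))))) (.node (.node (.node (.node (.node (.leaf 0) (.leaf 3)) (.node (.leaf 3) (.leaf 3))) (.node (.node (.leaf 3) (.leaf 3)) (.node (.leaf 3) (.leaf 3)))) (.node (.node (.node (.leaf 3) (.leaf 3)) (.node (.leaf 3) (.leaf 3))) (.node (.node (.leaf 0) (.leaf 3)) (.node (.leaf 3) (.leaf 3))))) (.node (.node (.node (.node (.leaf 3) (.leaf 3)) (.node (.leaf 0) (.leaf 3))) (.node (.node (.leaf 3) (.leaf 3)) (.node (.leaf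 0) (.leaf 3)))) (.node (.node (.node (.leaf 0) (.leaf 3)) (.node (.leaf 0) (.leaf 3))) (.node (.node (.leaf 0) (.leaf 3)) (.node (.leaf 3) (.leaf 3)))))))

def twoKind191 : Janko.Tree (ℕ) :=
  (.node (.node (.node (.node (.node (.node (.leaf 0) (.leaf 3)) (.node (.leaf 0) (.leaf 3))) (.node (.node (.leaf 0) (.leaf 3)) (.node (.leaf 3) (.leaf 3)))) (.node (.node (.node (.leaf 0) (.leaf 0)) (.node (.leaf 3) (.leaf 3))) (.node (.node (.leaf 3) (.leaf 3)) (.node (.leaf 0) (.leaf 3))))) (.node (.node (.node (.node (.leaf 0) (.leaf 3)) (.node (.leaf 3) (.leaf 3))) (.node (.node (.leaf 0) (.leaf 3)) (.node (.leaf 3) (.leaf 3)))) (.node (.node (.node (.leaf 0) (.leaf 3)) (.node (.leaf 3) (.leaf 3))) (.node (.node (.leaf 3) (.leaf 3)) (.node (.leaf 0) (.leaf 0)))))) (.node (.node (.node (.node (.node (.leaf 0) (.leaf 3)) (.node (.leaf 3) (.leaf 3))) (.node (.node (.leaf 0) (.leaf 3)) (.node (.leaf 3) (.leaf 3)))) (.node (.node (.node (.leaf 0) (.leaf 3)) (.node (.leaf 0) (.leaf 3))) (.node (.node (.leaf 0) (.leaf 3))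 (.node (.leaf 3) (.leaf 3))))) (.node (.node (.node (.node (.leaf 0) (.leaf 3)) (.node (.leaf 3) (.leaf 3))) (.node (.node (.leaf 0) (.leaf 3)) (.node (.leaf 0) (.leaf 3)))) (.node (.node (.node (.leaf 3) (.leaf 3)) (.node (.leaf 0) (.leaf 3))) (.node (.node (.leaf 0) (.leaf 3)) (.node (.leaf 0) (.leaf 3)))))))

def twoKind192 : Janko.Tree (ℕ) :=
  (.node (.node (.node (.node (.node (.node (.leaf 0) (.leaf 3)) (.node (.leaf 3) (.leaf 3))) (.node (.node (.leaf 0) (.leaf 3)) (.node (.leaf 3) (.leaf 3)))) (.node (.node (.node (.leaf 0) (.leaf 3)) (.node (.leaf 0) (.leaf 3))) (.node (.node (.leaf 3) (.leaf 0)) (.node (.leaf 3) (.leaf 3))))) (.node (.node (.node (.node (.leaf 0) (.leaf 3)) (.node (.leaf 3) (.leaf 3))) (.node (.node (.leaf 3) (.leaf 3)) (.node (.leaf 3) (.leaf 3)))) (.node (.node (.node (.leaf 3) (.leaf 3)) (.node (.leaf 3) (.leaf 3))) (.node (.node (.leaf 3) (.leaf 3)) (.node (.leaf 3) (.leaf 3)))))) (.node (.node (.node (.node (.node (.leaf 0) (.leaf 3)) (.node (.leaf 3) (.leaf 3))) (.node (.node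 (.leaf 3) (.leaf 3)) (.node (.leaf 3) (.leaf 3)))) (.node (.node (.node (.leaf 3) (.leaf 3)) (.node (.leaf 3) (.leaf 3))) (.node (.node (.leaf 3) (.leaf 3)) (.node (.leaf 3) (.leaf 3))))) (.node (.node (.node (.node (.leaf 3) (.leaf 3)) (.node (.leaf 3) (.leaf 3))) (.node (.node (.leaf 0) (.leaf 0)) (.node (.leaf 3) (.leaf 3)))) (.node (.node (.node (.leaf 3) (.leaf 3)) (.node (.leaf 0) (.leaf 3))) (.node (.node (.leaf 3) (.leaf 3)) (.node (.leaf 3) (.leaf 3)))))))

def twoKind193 : Janko.Tree (ℕ) :=
  (.node (.node (.node (.node (.node (.node (.leaf 3) (.leaf 3)) (.node (.leaf 3) (.leaf 3))) (.node (.node (.leaf 0) (.leaf 3)) (.node (.leaf 0) (.leaf 3)))) (.node (.node (.node (.leaf 0) (.leaf 3)) (.node (.leaf 3) (.leaf 3))) (.node (.node (.leaf 3) (.leaf 3)) (.node (.leaf 3) (.leaf 3))))) (.node (.node (.node (.node (.leaf 0) (.leaf 3)) (.node (.leaf 3) (.leaf 3))) (.node (.node (.leaf 0) (.leaf 3)) (.node (.leaf 3) (.leaf 3)))) (.node (.node (.node (.leaf 0) (.leaf 3)) (.node (.leaf 3) (.leaf 3))) (.node (.node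 (.leaf 0) (.leaf 3)) (.node (.leaf 3) (.leaf 3)))))) (.node (.node (.node (.node (.node (.leaf 0) (.leaf 3)) (.node (.leaf 0) (.leaf 3))) (.node (.node (.leaf 0) (.leaf 3)) (.node (.leaf 3) (.leaf 3)))) (.node (.node (.node (.leaf 0) (.leaf 0)) (.node (.leaf 3) (.leaf 3))) (.node (.node (.leaf 3) (.leaf 3)) (.node (.leaf 3) (.leaf 3))))) (.node (.node (.node (.node (.leaf 0) (.leaf 3)) (.node (.leaf 0) (.leaf 3))) (.node (.node (.leaf 3) (.leaf 3)) (.node (.leaf 0) (.leaf 3)))) (.node (.node (.node (.leaf 0) (.leaf 3)) (.node (.leaf 3) (.leaf 3))) (.node (.node (.leaf 0) (.leaf 3)) (.node (.leaf 3) (.leaf 3)))))))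

def twoKind194 : Janko.Tree (ℕ) :=
  (.node (.node (.node (.node (.node (.node (.leaf 0) (.leaf 3)) (.node (.leaf 3) (.leaf 3))) (.node (.node (.leaf 0) (.leaf 3)) (.node (.leaf 3) (.leaf 3)))) (.node (.node (.node (.leaf 0) (.leaf 3)) (.node (.leaf 3) (.leaf 0))) (.node (.node (.leaf 0) (.leaf 3)) (.node (.leaf 3) (.leaf 3))))) (.node (.node (.node (.node (.leaf 0) (.leaf 3)) (.node (.leaf 3) (.leaf 3))) (.node (.node (.leaf 3) (.leaf 3)) (.node (.leaf 3) (.leaf 3)))) (.node (.node (.node (.leaf 0) (.leaf 3)) (.node (.leaf 3) (.leaf 3))) (.node (.node (.leaf 3) (.leaf 3)) (.node (.leaf 3) (.leaf 3)))))) (.node (.node (.node (.node (.node (.leaf 3) (.leaf 3)) (.node (.leaf 3) (.leaf 3))) (.node (.node (.leaf 0) (.leaf 3)) (.node (.leaf 3) (.leaf 3)))) (.node (.node (.node (.leaf 0) (.leaf 3)) (.node (.leaf 3) (.leaf 3))) (.node (.node (.leaf 0) (.leaf 3)) (.node (.leaf 3) (.leaf 3))))) (.node (.node (.node (.node (.leaf 3) (.leaf 3)) (.node (.leaf 3) (.leaf 3))) (.node (.node (.leaf 0) (.leaf 3)) (.node (.leaf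 0) (.leaf 3)))) (.node (.node (.node (.leaf 3) (.leaf 3)) (.node (.leaf 3) (.leaf 3))) (.node (.node (.leaf 3) (.leaf 3)) (.node (.leaf 3) (.leaf 3)))))))

def twoKind195 : Janko.Tree (ℕ) :=
  (.node (.node (.node (.node (.node (.node (.leaf 0) (.leaf 0)) (.node (.leaf 0) (.leaf 3))) (.node (.node (.leaf 0) (.leaf 3)) (.node (.leaf 0) (.leaf 3)))) (.node (.node (.node (.leaf 0) (.leaf 3)) (.node (.leaf 3) (.leaf 3))) (.node (.node (.leaf 3) (.leaf 3)) (.node (.leaf 3) (.leaf 3))))) (.node (.node (.node (.node (.leaf 0) (.leaf 3)) (.node (.leaf 3) (.leaf 3))) (.node (.node (.leaf 0) (.leaf 3)) (.node (.leaf 3) (.leaf 3)))) (.node (.node (.node (.leaf 0) (.leaf 3)) (.node (.leaf 0) (.leaf 3))) (.node (.node (.leaf 0) (.leaf 3)) (.node (.leaf 3) (.leaf 3)))))) (.node (.node (.node (.node (.node (.leaf 0) (.leaf 3)) (.node (.leaf 3) (.leaf 3))) (.node (.node (.leaf 3) (.leaf 0)) (.node (.leaf 0) (.leaf 3)))) (.node (.node (.node (.leaf 0) (.leaf 3)) (.node (.leaf 3) (.leaf 3))) (.node (.node (.leaf 0) (.leaf 3))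 (.node (.leaf 0) (.leaf 3))))) (.node (.node (.node (.node (.leaf 0) (.leaf 3)) (.node (.leaf 3) (.leaf 3))) (.node (.node (.leaf 3) (.leaf 3)) (.node (.leaf 3) (.leaf 3)))) (.node (.node (.node (.leaf 0) (.leaf 3)) (.node (.leaf 0) (.leaf 3))) (.node (.node (.leaf 3) (.leaf 3)) (.node (.leaf 3) (.leaf 3)))))))

def twoKind196 : Janko.Tree (ℕ) :=
  (.node (.node (.node (.node (.node (.node (.leaf 0) (.leaf 3)) (.node (.leaf 0) (.leaf 3))) (.node (.node (.leaf 3) (.leaf 3)) (.node (.leaf 0) (.leaf 3)))) (.node (.node (.node (.leaf 3) (.leaf 3)) (.node (.leaf 3) (.leaf 3))) (.node (.node (.leaf 3) (.leaf 3)) (.node (.leaf 3) (.leaf 3))))) (.node (.node (.node (.node (.leaf 0) (.leaf 3)) (.node (.leaf 3) (.leaf 3))) (.node (.node (.leaf 3) (.leaf 3)) (.node (.leaf 3) (.leaf 3)))) (.node (.node (.node (.leaf 3) (.leaf 3)) (.node (.leaf 0) (.leaf 3))) (.node (.node (.leaf 3) (.leaf 3)) (.node (.leaf 3) (.leaf 3)))))) (.node (.node (.node (.node (.node (.leaf 0) (.leaf 3)) (.node (.leaf 3) (.leaf 3))) (.node (.node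 (.leaf 3) (.leaf 0)) (.node (.leaf 3) (.leaf 3)))) (.node (.node (.node (.leaf 0) (.leaf 3)) (.node (.leaf 0) (.leaf 3))) (.node (.node (.leaf 3) (.leaf 3)) (.node (.leaf 3) (.leaf 3))))) (.node (.node (.node (.node (.leaf 0) (.leaf 3)) (.node (.leaf 3) (.leaf 3))) (.node (.node (.leaf 0) (.leaf 3)) (.node (.leaf 3) (.leaf 3)))) (.node (.node (.node (.leaf 0) (.leaf 3)) (.node (.leaf 3) (.leaf 3))) (.node (.node (.leaf 3) (.leaf 3)) (.node (.leaf 0) (.leaf 3)))))))

def twoKind197 : Janko.Tree (ℕ) :=
  (.node (.node (.node (.node (.node (.node (.leaf 0) (.leaf 3)) (.node (.leaf 0) (.leaf 3))) (.node (.node (.leaf 3) (.leaf 3)) (.node (.leaf 3) (.leaf 3)))) (.node (.node (.node (.leaf 0) (.leaf 3)) (.node (.leaf 0) (.leaf 3))) (.node (.node (.leaf 0) (.leaf 3)) (.node (.leaf 3) (.leaf 3))))) (.node (.node (.node (.node (.leaf 3) (.leaf 3)) (.node (.leaf 3) (.leaf 3))) (.node (.node (.leaf 0) (.leaf 3)) (.node (.leaf 3) (.leaf 3)))) (.node (.node (.node (.leaf 0) (.leaf 3)) (.node (.leaf 0) (.leaf 0))) (.node (.node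 (.leaf 3) (.leaf 3)) (.node (.leaf 3) (.leaf 3)))))) (.node (.node (.node (.node (.node (.leaf 0) (.leaf 3)) (.node (.leaf 3) (.leaf 3))) (.node (.node (.leaf 0) (.leaf 3)) (.node (.leaf 3) (.leaf 3)))) (.node (.node (.node (.leaf 3) (.leaf 3)) (.node (.leaf 3) (.leaf 3))) (.node (.node (.leaf 3) (.leaf 3)) (.node (.leaf 0) (.leaf 3))))) (.node (.node (.node (.node (.leaf 0) (.leaf 3)) (.node (.leaf 3) (.leaf 3))) (.node (.node (.leaf 3) (.leaf 3)) (.node (.leaf 3) (.leaf 3)))) (.node (.node (.node (.leaf 3) (.leaf 3)) (.node (.leaf 0) (.leaf 3))) (.node (.node (.leaf 0) (.leaf 3)) (.node (.leaf 0) (.leaf 3)))))))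

def twoKind198 : Janko.Tree (ℕ) :=
  (.node (.node (.node (.node (.node (.node (.leaf 3) (.leaf 3)) (.node (.leaf 0) (.leaf 3))) (.node (.node (.leaf 3) (.leaf 3)) (.node (.leaf 0) (.leaf 3)))) (.node (.node (.node (.leaf 0) (.leaf 3)) (.node (.leaf 3) (.leaf 3))) (.node (.node (.leaf 3) (.leaf 3)) (.node (.leaf 3) (.leaf 3))))) (.node (.node (.node (.node (.leaf 0) (.leaf 0)) (.node (.leaf 3) (.leaf 3))) (.node (.node (.leaf 3) (.leaf 3)) (.node (.leaf 3) (.leaf 3)))) (.node (.node (.node (.leaf 0) (.leaf 3)) (.node (.leaf 0) (.leaf 3))) (.node (.node (.leaf 3) (.leaf 3)) (.node (.leaf 3) (.leaf 3)))))) (.node (.node (.node (.node (.node (.leaf 0) (.leaf 3)) (.node (.leaf 3) (.leaf 0))) (.node (.node (.leaf 3) (.leaf 0)) (.node (.leaf 0) (.leaf 3)))) (.node (.node (.node (.leaf 3) (.leaf 3)) (.node (.leaf 3) (.leaf 3))) (.node (.node (.leaf 3) (.leaf 3)) (.node (.leaf 3) (.leaf 3))))) (.node (.node (.node (.node (.leaf 0) (.leaf 3)) (.node (.leaf 3) (.leaf 3))) (.node (.node (.leaf 3) (.leaf 3)) (.node (.leaf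 3) (.leaf 3)))) (.node (.node (.node (.leaf 0) (.leaf 3)) (.node (.leaf 3) (.leaf 3))) (.node (.node (.leaf 3) (.leaf 3)) (.node (.leaf 3) (.leaf 3)))))))

def twoKind199 : Janko.Tree (ℕ) :=
  (.node (.node (.node (.node (.node (.node (.leaf 0) (.leaf 3)) (.node (.leaf 0) (.leaf 3))) (.node (.node (.leaf 0) (.leaf 3)) (.node (.leaf 3) (.leaf 3)))) (.node (.node (.node (.leaf 0) (.leaf 0)) (.node (.leaf 0) (.leaf 0))) (.node (.node (.leaf 0) (.leaf 3)) (.node (.leaf 0) (.leaf 3))))) (.node (.node (.node (.node (.leaf 0) (.leaf 3)) (.node (.leaf 3) (.leaf 3))) (.node (.node (.leaf 0) (.leaf 3)) (.node (.leaf 3) (.leaf 3)))) (.node (.node (.node (.leaf 3) (.leaf 3)) (.node (.leaf 3) (.leaf 3))) (.node (.node (.leaf 0) (.leaf 3)) (.node (.leaf 3) (.leaf 3)))))) (.node (.node (.node (.node (.node (.leaf 0) (.leaf 0)) (.node (.leaf 0) (.leaf 3))) (.node (.node (.leaf 0) (.leaf 3)) (.node (.leaf 3) (.leaf 3)))) (.node (.node (.node (.leaf 0) (.leaf 3)) (.node (.leaf 3) (.leaf 3))) (.node (.node (.leaf 0) (.leaf 0))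 (.node (.leaf 3) (.leaf 3))))) (.node (.node (.node (.node (.leaf 0) (.leaf 3)) (.node (.leaf 0) (.leaf 3))) (.node (.node (.leaf 0) (.leaf 3)) (.node (.leaf 0) (.leaf 3)))) (.node (.node (.node (.leaf 0) (.leaf 3)) (.node (.leaf 3) (.leaf 3))) (.node (.node (.leaf 0) (.leaf 0)) (.node (.leaf 3) (.leaf 3)))))))

def twoKind200 : Janko.Tree (ℕ) :=
  (.node (.node (.node (.node (.node (.node (.leaf 3) (.leaf 3)) (.node (.leaf 3) (.leaf 3))) (.node (.node (.leaf 3) (.leaf 3)) (.node (.leaf 3) (.leaf 3)))) (.node (.node (.node (.leaf 0) (.leaf 3)) (.node (.leaf 3) (.leaf 3))) (.node (.node (.leaf 0) (.leaf 3)) (.node (.leaf 0) (.leaf 3))))) (.node (.node (.node (.node (.leaf 3) (.leaf 3)) (.node (.leaf 0) (.leaf 3))) (.node (.node (.leaf 0) (.leaf 3)) (.node (.leaf 3) (.leaf 3)))) (.node (.node (.node (.leaf 0) (.leaf 3)) (.node (.leaf 3) (.leaf 3))) (.node (.node (.leaf 3) (.leaf 3)) (.node (.leaf 3) (.leaf 3)))))) (.node (.node (.node (.node (.node (.leaf 0) (.leaf 3)) (.node (.leaf 3) (.leaf 3))) (.node (.node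 (.leaf 3) (.leaf 3)) (.node (.leaf 3) (.leaf 3)))) (.node (.node (.node (.leaf 0) (.leaf 3)) (.node (.leaf 3) (.leaf 3))) (.node (.node (.leaf 0) (.leaf 0)) (.node (.leaf 3) (.leaf 3))))) (.node (.node (.node (.node (.leaf 3) (.leaf 3)) (.node (.leaf 0) (.leaf 3))) (.node (.node (.leaf 0) (.leaf 3)) (.node (.leaf 3) (.leaf 3)))) (.node (.node (.node (.leaf 3) (.leaf 3)) (.node (.leaf 3) (.leaf 3))) (.node (.node (.leaf 3) (.leaf 3)) (.node (.leaf 0) (.leaf 3)))))))

def twoKind201 : Janko.Tree (ℕ) :=
  (.node (.node (.node (.node (.node (.node (.leaf 0) (.leaf 3)) (.node (.leaf 3) (.leaf 3))) (.node (.node (.leaf 3) (.leaf 3)) (.node (.leaf 0) (.leaf 3)))) (.node (.node (.node (.leaf 0) (.leaf 3)) (.node (.leaf 3) (.leaf 3))) (.node (.node (.leaf 0) (.leaf 3)) (.node (.leaf 3) (.leaf 3))))) (.node (.node (.node (.node (.leaf 0) (.leaf 3)) (.node (.leaf 0) (.leaf 3))) (.node (.node (.leaf 3) (.leaf 3)) (.node (.leaf 0) (.leaf 3)))) (.node (.node (.node (.leaf 3) (.leaf 3)) (.node (.leaf 3) (.leaf 3))) (.node (.node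 (.leaf 0) (.leaf 3)) (.node (.leaf 3) (.leaf 3)))))) (.node (.node (.node (.node (.node (.leaf 3) (.leaf 3)) (.node (.leaf 3) (.leaf 3))) (.node (.node (.leaf 0) (.leaf 0)) (.node (.leaf 3) (.leaf 3)))) (.node (.node (.node (.leaf 0) (.leaf 3)) (.node (.leaf 3) (.leaf 3))) (.node (.node (.leaf 3) (.leaf 3)) (.node (.leaf 0) (.leaf 3))))) (.node (.node (.node (.node (.leaf 0) (.leaf 3)) (.node (.leaf 3) (.leaf 3))) (.node (.node (.leaf 3) (.leaf 3)) (.node (.leaf 3) (.leaf 3)))) (.node (.node (.node (.leaf 0) (.leaf 3)) (.node (.leaf 0) (.leaf 3))) (.node (.node (.leaf 3) (.leaf 3)) (.node (.leaf 3) (.leaf 3)))))))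

def twoKind202 : Janko.Tree (ℕ) :=
  (.node (.node (.node (.node (.node (.node (.leaf 0) (.leaf 3)) (.node (.leaf 3) (.leaf 3))) (.node (.node (.leaf 3) (.leaf 3)) (.node (.leaf 3) (.leaf 3)))) (.node (.node (.node (.leaf 0) (.leaf 3)) (.node (.leaf 3) (.leaf 3))) (.node (.node (.leaf 0) (.leaf 0)) (.node (.leaf 3) (.leaf 3))))) (.node (.node (.node (.node (.leaf 3) (.leaf 3)) (.node (.leaf 0) (.leaf 3))) (.node (.node (.leaf 0) (.leaf 3)) (.node (.leaf 3) (.leaf 3)))) (.node (.node (.node (.leaf 3) (.leaf 3)) (.node (.leaf 3) (.leaf 3))) (.node (.node (.leaf 3) (.leaf 3)) (.node (.leaf 3) (.leaf 3)))))) (.node (.node (.node (.node (.node (.leaf 0) (.leaf 3)) (.node (.leaf 3) (.leaf 3))) (.node (.node (.leaf 0) (.leaf 3)) (.node (.leaf 3) (.leaf 3)))) (.node (.node (.node (.leaf 3) (.leaf 3)) (.node (.leaf 3) (.leaf 3))) (.node (.node (.leaf 0) (.leaf 3)) (.node (.leaf 0) (.leaf 3))))) (.node (.node (.node (.node (.leaf 3) (.leaf 3)) (.node (.leaf 3) (.leaf 3))) (.node (.node (.leaf 0) (.leaf 3)) (.node (.leaf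 3) (.leaf 3)))) (.node (.node (.node (.leaf 3) (.leaf 3)) (.node (.leaf 3) (.leaf 3))) (.node (.node (.leaf 0) (.leaf 3)) (.node (.leaf 0) (.leaf 3)))))))

def twoKind203 : Janko.Tree (ℕ) :=
  (.node (.node (.node (.node (.node (.node (.leaf 0) (.leaf 3)) (.node (.leaf 3) (.leaf 3))) (.node (.node (.leaf 3) (.leaf 3)) (.node (.leaf 3) (.leaf 3)))) (.node (.node (.node (.leaf 0) (.leaf 3)) (.node (.leaf 3) (.leaf 3))) (.node (.node (.leaf 0) (.leaf 3)) (.node (.leaf 3) (.leaf 3))))) (.node (.node (.node (.node (.leaf 3) (.leaf 3)) (.node (.leaf 3) (.leaf 3))) (.node (.node (.leaf 0) (.leaf 3)) (.node (.leaf 0) (.leaf 3)))) (.node (.node (.node (.leaf 0) (.leaf 3)) (.node (.leaf 0) (.leaf 3))) (.node (.node (.leaf 3) (.leaf 3)) (.node (.leaf 0) (.leaf 3)))))) (.node (.node (.node (.node (.node (.leaf 0) (.leaf 3)) (.node (.leaf 3) (.leaf 3))) (.node (.node (.leaf 0) (.leaf 3)) (.node (.leaf 0) (.leaf 3)))) (.node (.node (.node (.leaf 0) (.leaf 3)) (.node (.leaf 3) (.leaf 3))) (.node (.node (.leaf 3) (.leaf 3))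 (.node (.leaf 0) (.leaf 3))))) (.node (.node (.node (.node (.leaf 0) (.leaf 3)) (.node (.leaf 3) (.leaf 3))) (.node (.node (.leaf 0) (.leaf 3)) (.node (.leaf 0) (.leaf 0)))) (.node (.node (.node (.leaf 0) (.leaf 3)) (.node (.leaf 3) (.leaf 3))) (.node (.node (.leaf 3) (.leaf 0)) (.node (.leaf 3) (.leaf 3)))))))

def twoKind204 : Janko.Tree (ℕ) :=
  (.node (.node (.node (.node (.node (.node (.leaf 3) (.leaf 3)) (.node (.leaf 3) (.leaf 3))) (.node (.node (.leaf 3) (.leaf 3)) (.node (.leaf 0) (.leaf 3)))) (.node (.node (.node (.leaf 3) (.leaf 3)) (.node (.leaf 3) (.leaf 3))) (.node (.node (.leaf 0) (.leaf 3)) (.node (.leaf 0) (.leaf 3))))) (.node (.node (.node (.node (.leaf 3) (.leaf 3)) (.node (.leaf 3) (.leaf 3))) (.node (.node (.leaf 3) (.leaf 3)) (.node (.leaf 3) (.leaf 3)))) (.node (.node (.node (.leaf 3) (.leaf 3)) (.node (.leaf 0) (.leaf 3))) (.node (.node (.leaf 3) (.leaf 3)) (.node (.leaf 3) (.leaf 3)))))) (.node (.node (.node (.node (.node (.leaf 0) (.leaf 3)) (.node (.leaf 3) (.leaf 3))) (.node (.node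 (.leaf 3) (.leaf 3)) (.node (.leaf 3) (.leaf 3)))) (.node (.node (.node (.leaf 0) (.leaf 3)) (.node (.leaf 3) (.leaf 3))) (.node (.node (.leaf 0) (.leaf 3)) (.node (.leaf 0) (.leaf 3))))) (.node (.node (.node (.node (.leaf 3) (.leaf 3)) (.node (.leaf 3) (.leaf 3))) (.node (.node (.leaf 0) (.leaf 3)) (.node (.leaf 3) (.leaf 3)))) (.node (.node (.node (.leaf 3) (.leaf 3)) (.node (.leaf 3) (.leaf 3))) (.node (.node (.leaf 3) (.leaf 3)) (.node (.leaf 3) (.leaf 3)))))))

def twoKind205 : Janko.Tree (ℕ) :=
  (.node (.node (.node (.node (.node (.node (.leaf 0) (.leaf 3)) (.node (.leaf 3) (.leaf 3))) (.node (.node (.leaf 3) (.leaf 3)) (.node (.leaf 3) (.leaf 3)))) (.node (.node (.node (.leaf 0) (.leaf 3)) (.node (.leaf 3) (.leaf 3))) (.node (.node (.leaf 3) (.leaf 0)) (.node (.leaf 3) (.leaf 3))))) (.node (.node (.node (.node (.leaf 0) (.leaf 0)) (.node (.leaf 0) (.leaf 3))) (.node (.node (.leaf 0) (.leaf 3)) (.node (.leaf 3) (.leaf 3)))) (.node (.node (.node (.leaf 0) (.leaf 0)) (.node (.leaf 3) (.leaf 3))) (.node (.node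 (.leaf 3) (.leaf 3)) (.node (.leaf 3) (.leaf 3)))))) (.node (.node (.node (.node (.node (.leaf 0) (.leaf 3)) (.node (.leaf 3) (.leaf 3))) (.node (.node (.leaf 3) (.leaf 3)) (.node (.leaf 3) (.leaf 3)))) (.node (.node (.node (.leaf 0) (.leaf 0)) (.node (.leaf 3) (.leaf 3))) (.node (.node (.leaf 3) (.leaf 3)) (.node (.leaf 3) (.leaf 3))))) (.node (.node (.node (.node (.leaf 3) (.leaf 3)) (.node (.leaf 3) (.leaf 0))) (.node (.node (.leaf 0) (.leaf 3)) (.node (.leaf 0) (.leaf 0)))) (.node (.node (.node (.leaf 0) (.leaf 3)) (.node (.leaf 3) (.leaf 3))) (.node (.node (.leaf 0) (.leaf 3)) (.node (.leaf 3) (.leaf 3)))))))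

def twoKind206 : Janko.Tree (ℕ) :=
  (.node (.node (.node (.node (.node (.node (.leaf 0) (.leaf 3)) (.node (.leaf 3) (.leaf 3))) (.node (.node (.leaf 3) (.leaf 3)) (.node (.leaf 0) (.leaf 3)))) (.node (.node (.node (.leaf 0) (.leaf 3)) (.node (.leaf 3) (.leaf 3))) (.node (.node (.leaf 3) (.leaf 3)) (.node (.leaf 3) (.leaf 3))))) (.node (.node (.node (.node (.leaf 0) (.leaf 3)) (.node (.leaf 0) (.leaf 3))) (.node (.node (.leaf 0) (.leaf 3)) (.node (.leaf 3) (.leaf 3)))) (.node (.node (.node (.leaf 3) (.leaf 0)) (.node (.leaf 3) (.leaf 3))) (.node (.node (.leaf 3) (.leaf 3)) (.node (.leaf 3) (.leaf 3)))))) (.node (.node (.node (.node (.node (.leaf 3) (.leaf 0)) (.node (.leaf 0) (.leaf 0))) (.node (.node (.leaf 0) (.leaf 3)) (.node (.leaf 0) (.leaf 3)))) (.node (.node (.node (.leaf 0) (.leaf 3)) (.node (.leaf 3) (.leaf 3))) (.node (.node (.leaf 3) (.leaf 3)) (.node (.leaf 3) (.leaf 3))))) (.node (.node (.node (.node (.leaf 0) (.leaf 3)) (.node (.leaf 3) (.leaf 3))) (.node (.node (.leaf 0) (.leaf 3)) (.node (.leaf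 3) (.leaf 3)))) (.node (.node (.node (.leaf 3) (.leaf 3)) (.node (.leaf 3) (.leaf 3))) (.node (.node (.leaf 3) (.leaf 3)) (.node (.leaf 3) (.leaf 3)))))))

def twoKind207 : Janko.Tree (ℕ) :=
  (.node (.node (.node (.node (.node (.node (.leaf 0) (.leaf 3)) (.node (.leaf 3) (.leaf 3))) (.node (.node (.leaf 0) (.leaf 3)) (.node (.leaf 0) (.leaf 3)))) (.node (.node (.node (.leaf 0) (.leaf 3)) (.node (.leaf 3) (.leaf 3))) (.node (.node (.leaf 0) (.leaf 3)) (.node (.leaf 0) (.leaf 3))))) (.node (.node (.node (.node (.leaf 3) (.leaf 3)) (.node (.leaf 3) (.leaf 3))) (.node (.node (.leaf 3) (.leaf 3)) (.node (.leaf 3) (.leaf 3)))) (.node (.node (.node (.leaf 0) (.leaf 3)) (.node (.leaf 0) (.leaf 3))) (.node (.node (.leaf 3) (.leaf 3)) (.node (.leaf 3) (.leaf 3)))))) (.node (.node (.node (.node (.node (.leaf 0) (.leaf 3)) (.node (.leaf 3) (.leaf 3))) (.node (.node (.leaf 0) (.leaf 3)) (.node (.leaf 0) (.leaf 3)))) (.node (.node (.node (.leaf 0) (.leaf 3)) (.node (.leaf 3) (.leaf 3))) (.node (.node (.leaf 3) (.leaf 3))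 (.node (.leaf 3) (.leaf 3))))) (.node (.node (.node (.node (.leaf 0) (.leaf 3)) (.node (.leaf 3) (.leaf 3))) (.node (.node (.leaf 0) (.leaf 3)) (.node (.leaf 0) (.leaf 3)))) (.node (.node (.node (.leaf 3) (.leaf 3)) (.node (.leaf 0) (.leaf 3))) (.node (.node (.leaf 3) (.leaf 3)) (.node (.leaf 0) (.leaf 3)))))))

def twoKind208 : Janko.Tree (ℕ) :=
  (.node (.node (.node (.node (.node (.node (.leaf 0) (.leaf 3)) (.node (.leaf 3) (.leaf 3))) (.node (.node (.leaf 0) (.leaf 3)) (.node (.leaf 0) (.leaf 3)))) (.node (.node (.node (.leaf 0) (.leaf 0)) (.node (.leaf 3) (.leaf 3))) (.node (.node (.leaf 3) (.leaf 3)) (.node (.leaf 3) (.leaf 3))))) (.node (.node (.node (.node (.leaf 3) (.leaf 3)) (.node (.leaf 3) (.leaf 3))) (.node (.node (.leaf 3) (.leaf 3)) (.node (.leaf 3) (.leaf 3)))) (.node (.node (.node (.leaf 3) (.leaf 3)) (.node (.leaf 3) (.leaf 3))) (.node (.node (.leaf 0) (.leaf 3)) (.node (.leaf 3) (.leaf 3)))))) (.node (.node (.node (.node (.node (.leaf 3) (.leaf 3)) (.node (.leaf 3) (.leaf 0))) (.node (.node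 (.leaf 0) (.leaf 3)) (.node (.leaf 0) (.leaf 3)))) (.node (.node (.node (.leaf 3) (.leaf 3)) (.node (.leaf 3) (.leaf 3))) (.node (.node (.leaf 3) (.leaf 3)) (.node (.leaf 0) (.leaf 3))))) (.node (.node (.node (.node (.leaf 0) (.leaf 3)) (.node (.leaf 3) (.leaf 3))) (.node (.node (.leaf 3) (.leaf 3)) (.node (.leaf 3) (.leaf 3)))) (.node (.node (.node (.leaf 3) (.leaf 3)) (.node (.leaf 0) (.leaf 3))) (.node (.node (.leaf 3) (.leaf 3)) (.node (.leaf 3) (.leaf 3)))))))

def twoKind209 : Janko.Tree (ℕ) :=
  (.node (.node (.node (.node (.node (.node (.leaf 0) (.leaf 0)) (.node (.leaf 3) (.leaf 3))) (.node (.node (.leaf 3) (.leaf 3)) (.node (.leaf 3) (.leaf 3)))) (.node (.node (.node (.leaf 3) (.leaf 3)) (.node (.leaf 3) (.leaf 3))) (.node (.node (.leaf 0) (.leaf 3)) (.node (.leaf 3) (.leaf 3))))) (.node (.node (.node (.node (.leaf 0) (.leaf 3)) (.node (.leaf 3) (.leaf 0))) (.node (.node (.leaf 0) (.leaf 3)) (.node (.leaf 3) (.leaf 3)))) (.node (.node (.node (.leaf 3) (.leaf 3)) (.node (.leaf 0) (.leaf 3))) (.node (.node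 (.leaf 3) (.leaf 3)) (.node (.leaf 3) (.leaf 3)))))) (.node (.node (.node (.node (.node (.leaf 0) (.leaf 3)) (.node (.leaf 3) (.leaf 3))) (.node (.node (.leaf 3) (.leaf 3)) (.node (.leaf 0) (.leaf 3)))) (.node (.node (.node (.leaf 0) (.leaf 3)) (.node (.leaf 0) (.leaf 3))) (.node (.node (.leaf 3) (.leaf 3)) (.node (.leaf 0) (.leaf 3))))) (.node (.node (.node (.node (.leaf 0) (.leaf 3)) (.node (.leaf 3) (.leaf 3))) (.node (.node (.leaf 3) (.leaf 3)) (.node (.leaf 3) (.leaf 3)))) (.node (.node (.node (.leaf 0) (.leaf 3)) (.node (.leaf 0) (.leaf 3))) (.node (.node (.leaf 0) (.leaf 3)) (.node (.leaf 3) (.leaf 3)))))))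

def twoKind210 : Janko.Tree (ℕ) :=
  (.node (.node (.node (.node (.node (.node (.leaf 3) (.leaf 3)) (.node (.leaf 3) (.leaf 3))) (.node (.node (.leaf 0) (.leaf 3)) (.node (.leaf 3) (.leaf 3)))) (.node (.node (.node (.leaf 0) (.leaf 3)) (.node (.leaf 3) (.leaf 3))) (.node (.node (.leaf 3) (.leaf 3)) (.node (.leaf 3) (.leaf 3))))) (.node (.node (.node (.node (.leaf 3) (.leaf 3)) (.node (.leaf 0) (.leaf 3))) (.node (.node (.leaf 3) (.leaf 0)) (.node (.leaf 3) (.leaf 3)))) (.node (.node (.node (.leaf 0) (.leaf 3)) (.node (.leaf 3) (.leaf 3))) (.node (.node (.leaf 3) (.leaf 3)) (.node (.leaf 3) (.leaf 3)))))) (.node (.node (.node (.node (.node (.leaf 0) (.leaf 3)) (.node (.leaf 3) (.leaf 3))) (.node (.node (.leaf 3) (.leaf 3)) (.node (.leaf 0) (.leaf 3)))) (.node (.node (.node (.leaf 0) (.leaf 3)) (.node (.leaf 0) (.leaf 3))) (.node (.node (.leaf 3) (.leaf 3)) (.node (.leaf 3) (.leaf 3))))) (.node (.node (.node (.node (.leaf 0) (.leaf 3)) (.node (.leaf 3) (.leaf 3))) (.node (.node (.leaf 0) (.leaf 3)) (.node (.leaf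 0) (.leaf 3)))) (.node (.node (.node (.leaf 3) (.leaf 3)) (.node (.leaf 3) (.leaf 3))) (.node (.node (.leaf 3) (.leaf 3)) (.node (.leaf 3) (.leaf 3)))))))

def twoKind211 : Janko.Tree (ℕ) :=
  (.node (.node (.node (.node (.node (.node (.leaf 0) (.leaf 0)) (.node (.leaf 3) (.leaf 3))) (.node (.node (.leaf 0) (.leaf 3)) (.node (.leaf 3) (.leaf 3)))) (.node (.node (.node (.leaf 0) (.leaf 3)) (.node (.leaf 3) (.leaf 3))) (.node (.node (.leaf 0) (.leaf 3)) (.node (.leaf 3) (.leaf 3))))) (.node (.node (.node (.node (.leaf 0) (.leaf 3)) (.node (.leaf 3) (.leaf 3))) (.node (.node (.leaf 3) (.leaf 3)) (.node (.leaf 3) (.leaf 3)))) (.node (.node (.node (.leaf 0) (.leaf 3)) (.node (.leaf 0) (.leaf 3))) (.node (.node (.leaf 3) (.leaf 3)) (.node (.leaf 3) (.leaf 3)))))) (.node (.node (.node (.node (.node (.leaf 0) (.leaf 0)) (.node (.leaf 3) (.leaf 0))) (.node (.node (.leaf 0) (.leaf 3)) (.node (.leaf 0) (.leaf 3)))) (.node (.node (.node (.leaf 0) (.leaf 3)) (.node (.leaf 3) (.leaf 3))) (.node (.node (.leaf 0) (.leaf 3))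 (.node (.leaf 0) (.leaf 3))))) (.node (.node (.node (.node (.leaf 0) (.leaf 3)) (.node (.leaf 0) (.leaf 3))) (.node (.node (.leaf 0) (.leaf 3)) (.node (.leaf 3) (.leaf 3)))) (.node (.node (.node (.leaf 0) (.leaf 3)) (.node (.leaf 0) (.leaf 0))) (.node (.node (.leaf 0) (.leaf 3)) (.node (.leaf 3) (.leaf 3)))))))

def twoKind212 : Janko.Tree (ℕ) :=
  (.node (.node (.node (.node (.node (.node (.leaf 0) (.leaf 3)) (.node (.leaf 0) (.leaf 0))) (.node (.node (.leaf 0) (.leaf 3)) (.node (.leaf 0) (.leaf 3)))) (.node (.node (.node (.leaf 0) (.leaf 3)) (.node (.leaf 3) (.leaf 0))) (.node (.node (.leaf 3) (.leaf 3)) (.node (.leaf 3) (.leaf 3))))) (.node (.node (.node (.node (.leaf 0) (.leaf 3)) (.node (.leaf 3) (.leaf 3))) (.node (.node (.leaf 3) (.leaf 3)) (.node (.leaf 3) (.leaf 3)))) (.node (.node (.node (.leaf 0) (.leaf 3)) (.node (.leaf 0) (.leaf 3))) (.node (.node (.leaf 3) (.leaf 3)) (.node (.leaf 0) (.leaf 3)))))) (.node (.node (.node (.node (.node (.leaf 3) (.leaf 3)) (.node (.leaf 0) (.leaf 3))) (.node (.node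 (.leaf 0) (.leaf 3)) (.node (.leaf 3) (.leaf 3)))) (.node (.node (.node (.leaf 0) (.leaf 3)) (.node (.leaf 3) (.leaf 3))) (.node (.node (.leaf 0) (.leaf 0)) (.node (.leaf 0) (.leaf 3))))) (.node (.node (.node (.node (.leaf 3) (.leaf 0)) (.node (.leaf 3) (.leaf 3))) (.node (.node (.leaf 3) (.leaf 0)) (.node (.leaf 3) (.leaf 3)))) (.node (.node (.node (.leaf 3) (.leaf 3)) (.node (.leaf 3) (.leaf 3))) (.node (.node (.leaf 0) (.leaf 3)) (.node (.leaf 3) (.leaf 3)))))))

def twoKind213 : Janko.Tree (ℕ) :=
  (.node (.node (.node (.node (.node (.node (.leaf 0) (.leaf 3)) (.node (.leaf 3) (.leaf 3))) (.node (.node (.leaf 3) (.leaf 3)) (.node (.leaf 3) (.leaf 3)))) (.node (.node (.node (.leaf 0) (.leaf 3)) (.node (.leaf 0) (.leaf 3))) (.node (.node (.leaf 3) (.leaf 0)) (.node (.leaf 3) (.leaf 3))))) (.node (.node (.node (.node (.leaf 0) (.leaf 0)) (.node (.leaf 3) (.leaf 3))) (.node (.node (.leaf 3) (.leaf 3)) (.node (.leaf 0) (.leaf 3)))) (.node (.node (.node (.leaf 3) (.leaf 3)) (.node (.leaf 3) (.leaf 3))) (.node (.node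 (.leaf 0) (.leaf 3)) (.node (.leaf 3) (.leaf 3)))))) (.node (.node (.node (.node (.node (.leaf 0) (.leaf 3)) (.node (.leaf 3) (.leaf 3))) (.node (.node (.leaf 0) (.leaf 3)) (.node (.leaf 0) (.leaf 3)))) (.node (.node (.node (.leaf 3) (.leaf 3)) (.node (.leaf 3) (.leaf 3))) (.node (.node (.leaf 0) (.leaf 3)) (.node (.leaf 3) (.leaf 3))))) (.node (.node (.node (.node (.leaf 0) (.leaf 3)) (.node (.leaf 3) (.leaf 3))) (.node (.node (.leaf 0) (.leaf 0)) (.node (.leaf 3) (.leaf 3)))) (.node (.node (.node (.leaf 0) (.leaf 3)) (.node (.leaf 3) (.leaf 3))) (.node (.node (.leaf 3) (.leaf 3)) (.node (.leaf 3) (.leaf 3)))))))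

def twoKind214 : Janko.Tree (ℕ) :=
  (.node (.node (.node (.node (.node (.node (.leaf 0) (.leaf 3)) (.node (.leaf 0) (.leaf 3))) (.node (.node (.leaf 0) (.leaf 3)) (.node (.leaf 0) (.leaf 3)))) (.node (.node (.node (.leaf 3) (.leaf 3)) (.node (.leaf 3) (.leaf 3))) (.node (.node (.leaf 0) (.leaf 0)) (.node (.leaf 3) (.leaf 3))))) (.node (.node (.node (.node (.leaf 3) (.leaf 3)) (.node (.leaf 3) (.leaf 3))) (.node (.node (.leaf 3) (.leaf 3)) (.node (.leaf 3) (.leaf 3)))) (.node (.node (.node (.leaf 0) (.leaf 3)) (.node (.leaf 0) (.leaf 3))) (.node (.node (.leaf 3) (.leaf 3)) (.node (.leaf 3) (.leaf 3)))))) (.node (.node (.node (.node (.node (.leaf 0) (.leaf 3)) (.node (.leaf 3) (.leaf 3))) (.node (.node (.leaf 3) (.leaf 3)) (.node (.leaf 3) (.leaf 3)))) (.node (.node (.node (.leaf 3) (.leaf 0)) (.node (.leaf 3) (.leaf 3))) (.node (.node (.leaf 0) (.leaf 3)) (.node (.leaf 0) (.leaf 3))))) (.node (.node (.node (.node (.leaf 0) (.leaf 3)) (.node (.leaf 3) (.leaf 3))) (.node (.node (.leaf 0) (.leaf 3)) (.node (.leaf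 3) (.leaf 3)))) (.node (.node (.node (.leaf 3) (.leaf 3)) (.node (.leaf 0) (.leaf 3))) (.node (.node (.leaf 3) (.leaf 3)) (.node (.leaf 3) (.leaf 3)))))))

def twoKind215 : Janko.Tree (ℕ) :=
  (.node (.node (.node (.node (.node (.node (.leaf 0) (.leaf 0)) (.node (.leaf 0) (.leaf 3))) (.node (.node (.leaf 0) (.leaf 3)) (.node (.leaf 0) (.leaf 3)))) (.node (.node (.node (.leaf 0) (.leaf 3)) (.node (.leaf 3) (.leaf 3))) (.node (.node (.leaf 0) (.leaf 3)) (.node (.leaf 3) (.leaf 3))))) (.node (.node (.node (.node (.leaf 0) (.leaf 3)) (.node (.leaf 3) (.leaf 3))) (.node (.node (.leaf 0) (.leaf 3)) (.node (.leaf 3) (.leaf 3)))) (.node (.node (.node (.leaf 0) (.leaf 3)) (.node (.leaf 3) (.leaf 3))) (.node (.node (.leaf 0) (.leaf 3)) (.node (.leaf 3) (.leaf 3)))))) (.node (.node (.node (.node (.node (.leaf 0) (.leaf 3)) (.node (.leaf 0) (.leaf 3))) (.node (.node (.leaf 3) (.leaf 3)) (.node (.leaf 3) (.leaf 3)))) (.node (.node (.node (.leaf 0) (.leaf 3)) (.node (.leaf 0) (.leaf 3))) (.node (.node (.leaf 3) (.leaf 3))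 (.node (.leaf 3) (.leaf 3))))) (.node (.node (.node (.node (.leaf 0) (.leaf 3)) (.node (.leaf 0) (.leaf 3))) (.node (.node (.leaf 3) (.leaf 3)) (.node (.leaf 0) (.leaf 3)))) (.node (.node (.node (.leaf 0) (.leaf 3)) (.node (.leaf 3) (.leaf 3))) (.node (.node (.leaf 3) (.leaf 3)) (.node (.leaf 3) (.leaf 3)))))))

def twoKind216 : Janko.Tree (ℕ) :=
  (.node (.node (.node (.node (.node (.node (.leaf 3) (.leaf 3)) (.node (.leaf 3) (.leaf 3))) (.node (.node (.leaf 3) (.leaf 3)) (.node (.leaf 3) (.leaf 3)))) (.node (.node (.node (.leaf 3) (.leaf 3)) (.node (.leaf 3) (.leaf 3))) (.node (.node (.leaf 0) (.leaf 3)) (.node (.leaf 3) (.leaf 3))))) (.node (.node (.node (.node (.leaf 0) (.leaf 3)) (.node (.leaf 0) (.leaf 3))) (.node (.node (.leaf 0) (.leaf 3)) (.node (.leaf 0) (.leaf 3)))) (.node (.node (.node (.leaf 3) (.leaf 3)) (.node (.leaf 3) (.leaf 3))) (.node (.node (.leaf 3) (.leaf 3)) (.node (.leaf 3) (.leaf 3)))))) (.node (.node (.node (.node (.node (.leaf 0) (.leaf 3)) (.node (.leaf 3) (.leaf 3))) (.node (.node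 (.leaf 3) (.leaf 3)) (.node (.leaf 3) (.leaf 3)))) (.node (.node (.node (.leaf 0) (.leaf 3)) (.node (.leaf 0) (.leaf 3))) (.node (.node (.leaf 3) (.leaf 0)) (.node (.leaf 3) (.leaf 3))))) (.node (.node (.node (.node (.leaf 0) (.leaf 3)) (.node (.leaf 3) (.leaf 0))) (.node (.node (.leaf 0) (.leaf 3)) (.node (.leaf 3) (.leaf 3)))) (.node (.node (.node (.leaf 3) (.leaf 3)) (.node (.leaf 3) (.leaf 3))) (.node (.node (.leaf 3) (.leaf 3)) (.node (.leaf 0) (.leaf 3)))))))

def twoKind217 : Janko.Tree (ℕ) :=
  (.node (.node (.node (.node (.node (.node (.leaf 0) (.leaf 3)) (.node (.leaf 3) (.leaf 3))) (.node (.node (.leaf 3) (.leaf 3)) (.node (.leaf 3) (.leaf 3)))) (.node (.node (.node (.leaf 0) (.leaf 3)) (.node (.leaf 3) (.leaf 3))) (.node (.node (.leaf 3) (.leaf 3)) (.node (.leaf 3) (.leaf 3))))) (.node (.node (.node (.node (.leaf 0) (.leaf 0)) (.node (.leaf 0) (.leaf 3))) (.node (.node (.leaf 0) (.leaf 3)) (.node (.leaf 3) (.leaf 3)))) (.node (.node (.node (.leaf 3) (.leaf 3)) (.node (.leaf 0) (.leaf 3))) (.node (.node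 (.leaf 0) (.leaf 3)) (.node (.leaf 3) (.leaf 3)))))) (.node (.node (.node (.node (.node (.leaf 0) (.leaf 0)) (.node (.leaf 3) (.leaf 3))) (.node (.node (.leaf 0) (.leaf 3)) (.node (.leaf 3) (.leaf 3)))) (.node (.node (.node (.leaf 0) (.leaf 3)) (.node (.leaf 3) (.leaf 3))) (.node (.node (.leaf 3) (.leaf 3)) (.node (.leaf 3) (.leaf 3))))) (.node (.node (.node (.node (.leaf 3) (.leaf 3)) (.node (.leaf 3) (.leaf 3))) (.node (.node (.leaf 3) (.leaf 3)) (.node (.leaf 0) (.leaf 3)))) (.node (.node (.node (.leaf 3) (.leaf 3)) (.node (.leaf 0) (.leaf 3))) (.node (.node (.leaf 0) (.leaf 3)) (.node (.leaf 3) (.leaf 3)))))))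

def twoKind218 : Janko.Tree (ℕ) :=
  (.node (.node (.node (.node (.node (.node (.leaf 0) (.leaf 3)) (.node (.leaf 0) (.leaf 3))) (.node (.node (.leaf 3) (.leaf 3)) (.node (.leaf 3) (.leaf 3)))) (.node (.node (.node (.leaf 3) (.leaf 3)) (.node (.leaf 3) (.leaf 3))) (.node (.node (.leaf 3) (.leaf 3)) (.node (.leaf 3) (.leaf 3))))) (.node (.node (.node (.node (.leaf 0) (.leaf 3)) (.node (.leaf 3) (.leaf 3))) (.node (.node (.leaf 0) (.leaf 3)) (.node (.leaf 3) (.leaf 3)))) (.node (.node (.node (.leaf 3) (.leaf 3)) (.node (.leaf 3) (.leaf 3))) (.node (.node (.leaf 3) (.leaf 3)) (.node (.leaf 3) (.leaf 3)))))) (.node (.node (.node (.node (.node (.leaf 3) (.leaf 3)) (.node (.leaf 3) (.leaf 3))) (.node (.node (.leaf 3) (.leaf 3)) (.node (.leaf 3) (.leaf 3)))) (.node (.node (.node (.leaf 0) (.leaf 0)) (.node (.leaf 3) (.leaf 3))) (.node (.node (.leaf 3) (.leaf 3)) (.node (.leaf 0) (.leaf 3))))) (.node (.node (.node (.node (.leaf 0) (.leaf 3)) (.node (.leaf 3) (.leaf 3))) (.node (.node (.leaf 0) (.leaf 3)) (.node (.leaf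 3) (.leaf 3)))) (.node (.node (.node (.leaf 3) (.leaf 3)) (.node (.leaf 3) (.leaf 3))) (.node (.node (.leaf 3) (.leaf 3)) (.node (.leaf 3) (.leaf 3)))))))

def twoKind219 : Janko.Tree (ℕ) :=
  (.node (.node (.node (.node (.node (.node (.leaf 0) (.leaf 3)) (.node (.leaf 3) (.leaf 3))) (.node (.node (.leaf 3) (.leaf 3)) (.node (.leaf 0) (.leaf 3)))) (.node (.node (.node (.leaf 0) (.leaf 3)) (.node (.leaf 0) (.leaf 3))) (.node (.node (.leaf 0) (.leaf 3)) (.node (.leaf 3) (.leaf 3))))) (.node (.node (.node (.node (.leaf 0) (.leaf 3)) (.node (.leaf 3) (.leaf 0))) (.node (.node (.leaf 0) (.leaf 3)) (.node (.leaf 3) (.leaf 3)))) (.node (.node (.node (.leaf 0) (.leaf 3)) (.node (.leaf 0) (.leaf 3))) (.node (.node (.leaf 0) (.leaf 3)) (.node (.leaf 3) (.leaf 3)))))) (.node (.node (.node (.node (.node (.leaf 0) (.leaf 0)) (.node (.leaf 3) (.leaf 3))) (.node (.node (.leaf 0) (.leaf 3)) (.node (.leaf 3) (.leaf 3)))) (.node (.node (.node (.leaf 0) (.leaf 3)) (.node (.leaf 3) (.leaf 3))) (.node (.node (.leaf 0) (.leaf 3))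 (.node (.leaf 3) (.leaf 3))))) (.node (.node (.node (.node (.leaf 3) (.leaf 3)) (.node (.leaf 3) (.leaf 3))) (.node (.node (.leaf 0) (.leaf 3)) (.node (.leaf 3) (.leaf 3)))) (.node (.node (.node (.leaf 0) (.leaf 3)) (.node (.leaf 0) (.leaf 3))) (.node (.node (.leaf 0) (.leaf 3)) (.node (.leaf 3) (.leaf 3)))))))

def twoKind220 : Janko.Tree (ℕ) :=
  (.node (.node (.node (.node (.node (.node (.leaf 0) (.leaf 0)) (.node (.leaf 0) (.leaf 3))) (.node (.node (.leaf 3) (.leaf 3)) (.node (.leaf 0) (.leaf 3)))) (.node (.node (.node (.leaf 3) (.leaf 3)) (.node (.leaf 3) (.leaf 0))) (.node (.node (.leaf 0) (.leaf 3)) (.node (.leaf 3) (.leaf 3))))) (.node (.node (.node (.node (.leaf 3) (.leaf 3)) (.node (.leaf 3) (.leaf 3))) (.node (.node (.leaf 3) (.leaf 3)) (.node (.leaf 0) (.leaf 3)))) (.node (.node (.node (.leaf 3) (.leaf 3)) (.node (.leaf 3) (.leaf 3))) (.node (.node (.leaf 0) (.leaf 3)) (.node (.leaf 3) (.leaf 3)))))) (.node (.node (.node (.node (.node (.leaf 0) (.leaf 3)) (.node (.leaf 3) (.leaf 3))) (.node (.node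 (.leaf 3) (.leaf 3)) (.node (.leaf 3) (.leaf 3)))) (.node (.node (.node (.leaf 3) (.leaf 3)) (.node (.leaf 3) (.leaf 3))) (.node (.node (.leaf 0) (.leaf 3)) (.node (.leaf 0) (.leaf 3))))) (.node (.node (.node (.node (.leaf 0) (.leaf 3)) (.node (.leaf 3) (.leaf 3))) (.node (.node (.leaf 0) (.leaf 3)) (.node (.leaf 3) (.leaf 3)))) (.node (.node (.node (.leaf 0) (.leaf 3)) (.node (.leaf 3) (.leaf 3))) (.node (.node (.leaf 0) (.leaf 3)) (.node (.leaf 3) (.leaf 3)))))))

def twoKind221 : Janko.Tree (ℕ) :=
  (.node (.node (.node (.node (.node (.node (.leaf 3) (.leaf 3)) (.node (.leaf 3) (.leaf 3))) (.node (.node (.leaf 3) (.leaf 3)) (.node (.leaf 0) (.leaf 3)))) (.node (.node (.node (.leaf 0) (.leaf 3)) (.node (.leaf 3) (.leaf 3))) (.node (.node (.leaf 0) (.leaf 0)) (.node (.leaf 0) (.leaf 3))))) (.node (.node (.node (.node (.leaf 0) (.leaf 3)) (.node (.leaf 3) (.leaf 0))) (.node (.node (.leaf 3) (.leaf 3)) (.node (.leaf 0) (.leaf 3)))) (.node (.node (.node (.leaf 3) (.leaf 3)) (.node (.leaf 0) (.leaf 3))) (.node (.node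 (.leaf 3) (.leaf 3)) (.node (.leaf 0) (.leaf 3)))))) (.node (.node (.node (.node (.node (.leaf 0) (.leaf 0)) (.node (.leaf 3) (.leaf 3))) (.node (.node (.leaf 3) (.leaf 3)) (.node (.leaf 3) (.leaf 3)))) (.node (.node (.node (.leaf 0) (.leaf 3)) (.node (.leaf 3) (.leaf 3))) (.node (.node (.leaf 0) (.leaf 3)) (.node (.leaf 0) (.leaf 3))))) (.node (.node (.node (.node (.leaf 0) (.leaf 3)) (.node (.leaf 0) (.leaf 3))) (.node (.node (.leaf 0) (.leaf 3)) (.node (.leaf 3) (.leaf 3)))) (.node (.node (.node (.leaf 3) (.leaf 3)) (.node (.leaf 3) (.leaf 3))) (.node (.node (.leaf 3) (.leaf 3)) (.node (.leaf 3) (.leaf 3)))))))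

def twoKind222 : Janko.Tree (ℕ) :=
  (.node (.node (.node (.node (.node (.node (.leaf 0) (.leaf 3)) (.node (.leaf 0) (.leaf 3))) (.node (.node (.leaf 3) (.leaf 3)) (.node (.leaf 3) (.leaf 3)))) (.node (.node (.node (.leaf 3) (.leaf 3)) (.node (.leaf 3) (.leaf 3))) (.node (.node (.leaf 3) (.leaf 3)) (.node (.leaf 3) (.leaf 3))))) (.node (.node (.node (.node (.leaf 3) (.leaf 3)) (.node (.leaf 3) (.leaf 3))) (.node (.node (.leaf 0) (.leaf 0)) (.node (.leaf 0) (.leaf 3)))) (.node (.node (.node (.leaf 0) (.leaf 3)) (.node (.leaf 0) (.leaf 3))) (.node (.node (.leaf 0) (.leaf 3)) (.node (.leaf 0) (.leaf 3)))))) (.node (.node (.node (.node (.node (.leaf 0) (.leaf 3)) (.node (.leaf 3) (.leaf 3))) (.node (.node (.leaf 0) (.leaf 3)) (.node (.leaf 3) (.leaf 3)))) (.node (.node (.node (.leaf 3) (.leaf 3)) (.node (.leaf 3) (.leaf 3))) (.node (.node (.leaf 0) (.leaf 3)) (.node (.leaf 3) (.leaf 3))))) (.node (.node (.node (.node (.leaf 3) (.leaf 3)) (.node (.leaf 3) (.leaf 3))) (.node (.node (.leaf 3) (.leaf 3)) (.node (.leaf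 3) (.leaf 3)))) (.node (.node (.node (.leaf 0) (.leaf 3)) (.node (.leaf 0) (.leaf 3))) (.node (.node (.leaf 0) (.leaf 3)) (.node (.leaf 3) (.leaf 3)))))))

def twoKind223 : Janko.Tree (ℕ) :=
  (.node (.node (.node (.node (.node (.node (.leaf 0) (.leaf 3)) (.node (.leaf 3) (.leaf 3))) (.node (.node (.leaf 0) (.leaf 3)) (.node (.leaf 3) (.leaf 3)))) (.node (.node (.node (.leaf 3) (.leaf 3)) (.node (.leaf 0) (.leaf 3))) (.node (.node (.leaf 0) (.leaf 3)) (.node (.leaf 0) (.leaf 3))))) (.node (.node (.node (.node (.leaf 0) (.leaf 3)) (.node (.leaf 0) (.leaf 3))) (.node (.node (.leaf 0) (.leaf 3)) (.node (.leaf 3) (.leaf 3)))) (.node (.node (.node (.leaf 0) (.leaf 3)) (.node (.leaf 0) (.leaf 3))) (.node (.node (.leaf 0) (.leaf 3)) (.node (.leaf 3) (.leaf 3)))))) (.node (.node (.node (.node (.node (.leaf 0) (.leaf 3)) (.node (.leaf 3) (.leaf 3))) (.node (.node (.leaf 0) (.leaf 3)) (.node (.leaf 3) (.leaf 3)))) (.node (.node (.node (.leaf 0) (.leaf 0)) (.node (.leaf 3) (.leaf 3))) (.node (.node (.leaf 0) (.leaf 3))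 (.node (.leaf 3) (.leaf 3))))) (.node (.node (.node (.node (.leaf 0) (.leaf 3)) (.node (.leaf 3) (.leaf 3))) (.node (.node (.leaf 0) (.leaf 0)) (.node (.leaf 0) (.leaf 3)))) (.node (.node (.node (.leaf 0) (.leaf 3)) (.node (.leaf 0) (.leaf 3))) (.node (.node (.leaf 0) (.leaf 3)) (.node (.leaf 3) (.leaf 3)))))))

def twoKind224 : Janko.Tree (ℕ) :=
  (.node (.node (.node (.node (.node (.node (.leaf 0) (.leaf 0)) (.node (.leaf 3) (.leaf 3))) (.node (.node (.leaf 0) (.leaf 3)) (.node (.leaf 3) (.leaf 3)))) (.node (.node (.node (.leaf 3) (.leaf 3)) (.node (.leaf 3) (.leaf 3))) (.node (.node (.leaf 3) (.leaf 3)) (.node (.leaf 3) (.leaf 3))))) (.node (.node (.node (.node (.leaf 0) (.leaf 3)) (.node (.leaf 3) (.leaf 3))) (.node (.node (.leaf 0) (.leaf 3)) (.node (.leaf 3) (.leaf 3)))) (.node (.node (.node (.leaf 3) (.leaf 3)) (.node (.leaf 0) (.leaf 3))) (.node (.node (.leaf 3) (.leaf 3)) (.node (.leaf 3) (.leaf 3)))))) (.node (.node (.node (.node (.node (.leaf 3) (.leaf 3)) (.node (.leaf 3) (.leaf 3))) (.node (.node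 (.leaf 0) (.leaf 3)) (.node (.leaf 0) (.leaf 3)))) (.node (.node (.node (.leaf 3) (.leaf 3)) (.node (.leaf 3) (.leaf 3))) (.node (.node (.leaf 3) (.leaf 3)) (.node (.leaf 3) (.leaf 0))))) (.node (.node (.node (.node (.leaf 0) (.leaf 3)) (.node (.leaf 3) (.leaf 3))) (.node (.node (.leaf 3) (.leaf 3)) (.node (.leaf 3) (.leaf 3)))) (.node (.node (.node (.leaf 0) (.leaf 3)) (.node (.leaf 3) (.leaf 3))) (.node (.node (.leaf 3) (.leaf 3)) (.node (.leaf 3) (.leaf 3)))))))

def twoKind225 : Janko.Tree (ℕ) :=
  (.node (.node (.node (.node (.node (.node (.leaf 0) (.leaf 3)) (.node (.leaf 0) (.leaf 3))) (.node (.node (.leaf 3) (.leaf 0)) (.node (.leaf 0) (.leaf 3)))) (.node (.node (.node (.leaf 0) (.leaf 3)) (.node (.leaf 3) (.leaf 3))) (.node (.node (.leaf 3) (.leaf 3)) (.node (.leaf 3) (.leaf 3))))) (.node (.node (.node (.node (.leaf 3) (.leaf 3)) (.node (.leaf 3) (.leaf 3))) (.node (.node (.leaf 3) (.leaf 3)) (.node (.leaf 0) (.leaf 3)))) (.node (.node (.node (.leaf 3) (.leaf 3)) (.node (.leaf 3) (.leaf 3))) (.node (.node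 (.leaf 3) (.leaf 3)) (.node (.leaf 3) (.leaf 3)))))) (.node (.node (.node (.node (.node (.leaf 0) (.leaf 3)) (.node (.leaf 3) (.leaf 3))) (.node (.node (.leaf 0) (.leaf 3)) (.node (.leaf 3) (.leaf 3)))) (.node (.node (.node (.leaf 3) (.leaf 3)) (.node (.leaf 3) (.leaf 3))) (.node (.node (.leaf 0) (.leaf 3)) (.node (.leaf 3) (.leaf 3))))) (.node (.node (.node (.node (.leaf 0) (.leaf 0)) (.node (.leaf 0) (.leaf 3))) (.node (.node (.leaf 3) (.leaf 3)) (.node (.leaf 0) (.leaf 3)))) (.node (.node (.node (.leaf 0) (.leaf 3)) (.node (.leaf 3) (.leaf 3))) (.node (.node (.leaf 0) (.leaf 3)) (.node (.leaf 3) (.leaf 3)))))))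

def twoKind226 : Janko.Tree (ℕ) :=
  (.node (.node (.node (.node (.node (.node (.leaf 0) (.leaf 0)) (.node (.leaf 3) (.leaf 3))) (.node (.node (.leaf 0) (.leaf 3)) (.node (.leaf 3) (.leaf 3)))) (.node (.node (.node (.leaf 3) (.leaf 3)) (.node (.leaf 3) (.leaf 3))) (.node (.node (.leaf 0) (.leaf 0)) (.node (.leaf 3) (.leaf 3))))) (.node (.node (.node (.node (.leaf 0) (.leaf 3)) (.node (.leaf 0) (.leaf 3))) (.node (.node (.leaf 0) (.leaf 3)) (.node (.leaf 0) (.leaf 3)))) (.node (.node (.node (.leaf 3) (.leaf 3)) (.node (.leaf 3) (.leaf 3))) (.node (.node (.leaf 0) (.leaf 3)) (.node (.leaf 3) (.leaf 3)))))) (.node (.node (.node (.node (.node (.leaf 0) (.leaf 3)) (.node (.leaf 3) (.leaf 3))) (.node (.node (.leaf 3) (.leaf 3)) (.node (.leaf 0) (.leaf 3)))) (.node (.node (.node (.leaf 0) (.leaf 3)) (.node (.leaf 3) (.leaf 3))) (.node (.node (.leaf 0) (.leaf 3)) (.node (.leaf 3) (.leaf 3))))) (.node (.node (.node (.node (.leaf 0) (.leaf 3)) (.node (.leaf 3) (.leaf 3))) (.node (.node (.leaf 3) (.leaf 3)) (.node (.leaf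 3) (.leaf 3)))) (.node (.node (.node (.leaf 0) (.leaf 3)) (.node (.leaf 3) (.leaf 3))) (.node (.node (.leaf 3) (.leaf 3)) (.node (.leaf 3) (.leaf 3)))))))

def twoKind227 : Janko.Tree (ℕ) :=
  (.node (.node (.node (.node (.node (.node (.leaf 0) (.leaf 3)) (.node (.leaf 0) (.leaf 3))) (.node (.node (.leaf 0) (.leaf 3)) (.node (.leaf 3) (.leaf 3)))) (.node (.node (.node (.leaf 0) (.leaf 3)) (.node (.leaf 3) (.leaf 3))) (.node (.node (.leaf 0) (.leaf 3)) (.node (.leaf 3) (.leaf 3))))) (.node (.node (.node (.node (.leaf 0) (.leaf 3)) (.node (.leaf 3) (.leaf 3))) (.node (.node (.leaf 3) (.leaf 3)) (.node (.leaf 0) (.leaf 3)))) (.node (.node (.node (.leaf 0) (.leaf 3)) (.node (.leaf 0) (.leaf 3))) (.node (.node (.leaf 3) (.leaf 0)) (.node (.leaf 3) (.leaf 3)))))) (.node (.node (.node (.node (.node (.leaf 0) (.leaf 3)) (.node (.leaf 3) (.leaf 3))) (.node (.node (.leaf 0) (.leaf 3)) (.node (.leaf 0) (.leaf 3)))) (.node (.node (.node (.leaf 3) (.leaf 3)) (.node (.leaf 3) (.leaf 3))) (.node (.node (.leaf 0) (.leaf 3))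 (.node (.leaf 3) (.leaf 3))))) (.node (.node (.node (.node (.leaf 0) (.leaf 3)) (.node (.leaf 3) (.leaf 3))) (.node (.node (.leaf 0) (.leaf 3)) (.node (.leaf 0) (.leaf 3)))) (.node (.node (.node (.leaf 0) (.leaf 3)) (.node (.leaf 3) (.leaf 3))) (.node (.node (.leaf 0) (.leaf 0)) (.node (.leaf 3) (.leaf 3)))))))

def twoKind228 : Janko.Tree (ℕ) :=
  (.node (.node (.node (.node (.node (.node (.leaf 3) (.leaf 3)) (.node (.leaf 0) (.leaf 3))) (.node (.node (.leaf 3) (.leaf 3)) (.node (.leaf 0) (.leaf 3)))) (.node (.node (.node (.leaf 3) (.leaf 3)) (.node (.leaf 3) (.leaf 3))) (.node (.node (.leaf 3) (.leaf 3)) (.node (.leaf 3) (.leaf 3))))) (.node (.node (.node (.node (.leaf 3) (.leaf 3)) (.node (.leaf 3) (.leaf 3))) (.node (.node (.leaf 0) (.leaf 3)) (.node (.leaf 3) (.leaf 3)))) (.node (.node (.node (.leaf 0) (.leaf 3)) (.node (.leaf 3) (.leaf 3))) (.node (.node (.leaf 3) (.leaf 0)) (.node (.leaf 3) (.leaf 3)))))) (.node (.node (.node (.node (.node (.leaf 0) (.leaf 0)) (.node (.leaf 3) (.leaf 3))) (.node (.node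 (.leaf 3) (.leaf 3)) (.node (.leaf 3) (.leaf 3)))) (.node (.node (.node (.leaf 3) (.leaf 3)) (.node (.leaf 0) (.leaf 3))) (.node (.node (.leaf 0) (.leaf 3)) (.node (.leaf 3) (.leaf 3))))) (.node (.node (.node (.node (.leaf 0) (.leaf 3)) (.node (.leaf 3) (.leaf 3))) (.node (.node (.leaf 3) (.leaf 3)) (.node (.leaf 3) (.leaf 3)))) (.node (.node (.node (.leaf 3) (.leaf 3)) (.node (.leaf 3) (.leaf 3))) (.node (.node (.leaf 3) (.leaf 3)) (.node (.leaf 0) (.leaf 3)))))))

def twoKind229 : Janko.Tree (ℕ) :=
  (.node (.node (.node (.node (.node (.node (.leaf 0) (.leaf 0)) (.node (.leaf 3) (.leaf 3))) (.node (.node (.leaf 0) (.leaf 3)) (.node (.leaf 3) (.leaf 3)))) (.node (.node (.node (.leaf 0) (.leaf 0)) (.node (.leaf 3) (.leaf 3))) (.node (.node (.leaf 0) (.leaf 3)) (.node (.leaf 3) (.leaf 3))))) (.node (.node (.node (.node (.leaf 0) (.leaf 3)) (.node (.leaf 0) (.leaf 3))) (.node (.node (.leaf 0) (.leaf 3)) (.node (.leaf 3) (.leaf 3)))) (.node (.node (.node (.leaf 3) (.leaf 3)) (.node (.leaf 3) (.leaf 3))) (.node (.node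 (.leaf 3) (.leaf 3)) (.node (.leaf 0) (.leaf 3)))))) (.node (.node (.node (.node (.node (.leaf 3) (.leaf 3)) (.node (.leaf 3) (.leaf 3))) (.node (.node (.leaf 3) (.leaf 3)) (.node (.leaf 3) (.leaf 3)))) (.node (.node (.node (.leaf 3) (.leaf 3)) (.node (.leaf 3) (.leaf 3))) (.node (.node (.leaf 3) (.leaf 3)) (.node (.leaf 0) (.leaf 3))))) (.node (.node (.node (.node (.leaf 3) (.leaf 3)) (.node (.leaf 3) (.leaf 3))) (.node (.node (.leaf 3) (.leaf 3)) (.node (.leaf 0) (.leaf 3)))) (.node (.node (.node (.leaf 0) (.leaf 3)) (.node (.leaf 3) (.leaf 3))) (.node (.node (.leaf 0) (.leaf 3)) (.node (.leaf 3) (.leaf 3)))))))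

def twoKind230 : Janko.Tree (ℕ) :=
  (.node (.node (.node (.node (.node (.node (.leaf 3) (.leaf 3)) (.node (.leaf 0) (.leaf 3))) (.node (.node (.leaf 3) (.leaf 3)) (.node (.leaf 0) (.leaf 3)))) (.node (.node (.node (.leaf 3) (.leaf 3)) (.node (.leaf 3) (.leaf 3))) (.node (.node (.leaf 3) (.leaf 0)) (.node (.leaf 3) (.leaf 3))))) (.node (.node (.node (.node (.leaf 3) (.leaf 3)) (.node (.leaf 3) (.leaf 3))) (.node (.node (.leaf 3) (.leaf 3)) (.node (.leaf 3) (.leaf 3)))) (.node (.node (.node (.leaf 3) (.leaf 0)) (.node (.leaf 3) (.leaf 3))) (.node (.node (.leaf 3) (.leaf 3)) (.node (.leaf 0) (.leaf 3)))))) (.node (.node (.node (.node (.node (.leaf 0) (.leaf 3)) (.node (.leaf 0) (.leaf 3))) (.node (.node (.leaf 3) (.leaf 3)) (.node (.leaf 3) (.leaf 3)))) (.node (.node (.node (.leaf 3) (.leaf 3)) (.node (.leaf 0) (.leaf 3))) (.node (.node (.leaf 0) (.leaf 3)) (.node (.leaf 3) (.leaf 3))))) (.node (.node (.node (.node (.leaf 0) (.leaf 3)) (.node (.leaf 3) (.leaf 3))) (.node (.node (.leaf 3) (.leaf 3)) (.node (.leaf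 0) (.leaf 3)))) (.node (.node (.node (.leaf 0) (.leaf 3)) (.node (.leaf 3) (.leaf 3))) (.node (.node (.leaf 3) (.leaf 3)) (.node (.leaf 3) (.leaf 3)))))))

def twoKind231 : Janko.Tree (ℕ) :=
  (.node (.node (.node (.node (.node (.node (.leaf 0) (.leaf 3)) (.node (.leaf 3) (.leaf 3))) (.node (.node (.leaf 0) (.leaf 3)) (.node (.leaf 3) (.leaf 3)))) (.node (.node (.node (.leaf 0) (.leaf 3)) (.node (.leaf 3) (.leaf 3))) (.node (.node (.leaf 0) (.leaf 0)) (.node (.leaf 0) (.leaf 3))))) (.node (.node (.node (.node (.leaf 0) (.leaf 3)) (.node (.leaf 3) (.leaf 3))) (.node (.node (.leaf 0) (.leaf 3)) (.node (.leaf 3) (.leaf 3)))) (.node (.node (.node (.leaf 3) (.leaf 3)) (.node (.leaf 0) (.leaf 0))) (.node (.node (.leaf 0) (.leaf 3)) (.node (.leaf 3) (.leaf 3)))))) (.node (.node (.node (.node (.node (.leaf 0) (.leaf 0)) (.node (.leaf 0) (.leaf 3))) (.node (.node (.leaf 3) (.leaf 3)) (.node (.leaf 3) (.leaf 3)))) (.node (.node (.node (.leaf 0) (.leaf 3)) (.node (.leaf 3) (.leaf 3))) (.node (.node (.leaf 3) (.leaf 3))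 (.node (.leaf 3) (.leaf 3))))) (.node (.node (.node (.node (.leaf 0) (.leaf 3)) (.node (.leaf 0) (.leaf 3))) (.node (.node (.leaf 0) (.leaf 3)) (.node (.leaf 3) (.leaf 3)))) (.node (.node (.node (.leaf 0) (.leaf 3)) (.node (.leaf 0) (.leaf 3))) (.node (.node (.leaf 3) (.leaf 0)) (.node (.leaf 3) (.leaf 3)))))))

def twoKind232 : Janko.Tree (ℕ) :=
  (.node (.node (.node (.node (.node (.node (.leaf 0) (.leaf 0)) (.node (.leaf 0) (.leaf 3))) (.node (.node (.leaf 0) (.leaf 3)) (.node (.leaf 0) (.leaf 3)))) (.node (.node (.node (.leaf 0) (.leaf 3)) (.node (.leaf 3) (.leaf 3))) (.node (.node (.leaf 3) (.leaf 3)) (.node (.leaf 3) (.leaf 3))))) (.node (.node (.node (.node (.leaf 0) (.leaf 3)) (.node (.leaf 3) (.leaf 3))) (.node (.node (.leaf 0) (.leaf 3)) (.node (.leaf 0) (.leaf 3)))) (.node (.node (.node (.leaf 3) (.leaf 3)) (.node (.leaf 3) (.leaf 3))) (.node (.node (.leaf 0) (.leaf 3)) (.node (.leaf 3) (.leaf 3)))))) (.node (.node (.node (.node (.node (.leaf 0) (.leaf 0)) (.node (.leaf 0) (.leaf 3))) (.node (.node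 (.leaf 3) (.leaf 3)) (.node (.leaf 3) (.leaf 3)))) (.node (.node (.node (.leaf 3) (.leaf 3)) (.node (.leaf 3) (.leaf 3))) (.node (.node (.leaf 0) (.leaf 3)) (.node (.leaf 3) (.leaf 3))))) (.node (.node (.node (.node (.leaf 3) (.leaf 3)) (.node (.leaf 0) (.leaf 3))) (.node (.node (.leaf 3) (.leaf 3)) (.node (.leaf 0) (.leaf 3)))) (.node (.node (.node (.leaf 0) (.leaf 3)) (.node (.leaf 3) (.leaf 3))) (.node (.node (.leaf 3) (.leaf 3)) (.node (.leaf 0) (.leaf 3)))))))

def twoKind233 : Janko.Tree (ℕ) :=
  (.node (.node (.node (.node (.node (.node (.leaf 3) (.leaf 0)) (.node (.leaf 3) (.leaf 3))) (.node (.node (.leaf 3) (.leaf 3)) (.node (.leaf 3) (.leaf 3)))) (.node (.node (.node (.leaf 0) (.leaf 3)) (.node (.leaf 3) (.leaf 3))) (.node (.node (.leaf 0) (.leaf 3)) (.node (.leaf 3) (.leaf 3))))) (.node (.node (.node (.node (.leaf 3) (.leaf 3)) (.node (.leaf 3) (.leaf 3))) (.node (.node (.leaf 3) (.leaf 3)) (.node (.leaf 0) (.leaf 3)))) (.node (.node (.node (.leaf 0) (.leaf 3)) (.node (.leaf 0) (.leaf 3))) (.node (.node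 (.leaf 0) (.leaf 3)) (.node (.leaf 3) (.leaf 3)))))) (.node (.node (.node (.node (.node (.leaf 0) (.leaf 3)) (.node (.leaf 3) (.leaf 3))) (.node (.node (.leaf 3) (.leaf 3)) (.node (.leaf 0) (.leaf 3)))) (.node (.node (.node (.leaf 0) (.leaf 3)) (.node (.leaf 0) (.leaf 3))) (.node (.node (.leaf 0) (.leaf 3)) (.node (.leaf 0) (.leaf 3))))) (.node (.node (.node (.node (.leaf 0) (.leaf 0)) (.node (.leaf 3) (.leaf 3))) (.node (.node (.leaf 0) (.leaf 3)) (.node (.leaf 3) (.leaf 3)))) (.node (.node (.node (.leaf 3) (.leaf 3)) (.node (.leaf 0) (.leaf 3))) (.node (.node (.leaf 0) (.leaf 3)) (.node (.leaf 3) (.leaf 3)))))))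

def twoKind234 : Janko.Tree (ℕ) :=
  (.node (.node (.node (.node (.node (.node (.leaf 0) (.leaf 3)) (.node (.leaf 3) (.leaf 3))) (.node (.node (.leaf 0) (.leaf 3)) (.node (.leaf 3) (.leaf 3)))) (.node (.node (.node (.leaf 0) (.leaf 3)) (.node (.leaf 3) (.leaf 3))) (.node (.node (.leaf 3) (.leaf 3)) (.node (.leaf 3) (.leaf 3))))) (.node (.node (.node (.node (.leaf 3) (.leaf 3)) (.node (.leaf 3) (.leaf 3))) (.node (.node (.leaf 3) (.leaf 3)) (.node (.leaf 3) (.leaf 3)))) (.node (.node (.node (.leaf 3) (.leaf 3)) (.node (.leaf 0) (.leaf 3))) (.node (.node (.leaf 0) (.leaf 3)) (.node (.leaf 0) (.leaf 3)))))) (.node (.node (.node (.node (.node (.leaf 0) (.leaf 0)) (.node (.leaf 3) (.leaf 3))) (.node (.node (.leaf 3) (.leaf 3)) (.node (.leaf 3) (.leaf 3)))) (.node (.node (.node (.leaf 0) (.leaf 3)) (.node (.leaf 3) (.leaf 3))) (.node (.node (.leaf 3) (.leaf 3)) (.node (.leaf 3) (.leaf 3))))) (.node (.node (.node (.node (.leaf 3) (.leaf 3)) (.node (.leaf 0) (.leaf 3))) (.node (.node (.leaf 3) (.leaf 3)) (.node (.leaf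 3) (.leaf 3)))) (.node (.node (.node (.leaf 0) (.leaf 3)) (.node (.leaf 0) (.leaf 3))) (.node (.node (.leaf 3) (.leaf 3)) (.node (.leaf 3) (.leaf 3)))))))

def twoKind235 : Janko.Tree (ℕ) :=
  (.node (.node (.node (.node (.node (.node (.leaf 0) (.leaf 3)) (.node (.leaf 0) (.leaf 3))) (.node (.node (.leaf 3) (.leaf 3)) (.node (.leaf 3) (.leaf 3)))) (.node (.node (.node (.leaf 3) (.leaf 0)) (.node (.leaf 3) (.leaf 3))) (.node (.node (.leaf 0) (.leaf 0)) (.node (.leaf 3) (.leaf 3))))) (.node (.node (.node (.node (.leaf 0) (.leaf 3)) (.node (.leaf 3) (.leaf 3))) (.node (.node (.leaf 3) (.leaf 3)) (.node (.leaf 0) (.leaf 3)))) (.node (.node (.node (.leaf 0) (.leaf 3)) (.node (.leaf 3) (.leaf 3))) (.node (.node (.leaf 3) (.leaf 3)) (.node (.leaf 3) (.leaf 3)))))) (.node (.node (.node (.node (.node (.leaf 0) (.leaf 3)) (.node (.leaf 3) (.leaf 3))) (.node (.node (.leaf 0) (.leaf 3)) (.node (.leaf 3) (.leaf 3)))) (.node (.node (.node (.leaf 0) (.leaf 3)) (.node (.leaf 3) (.leaf 3))) (.node (.node (.leaf 0) (.leaf 3))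 (.node (.leaf 0) (.leaf 3))))) (.node (.node (.node (.node (.leaf 0) (.leaf 3)) (.node (.leaf 3) (.leaf 3))) (.node (.node (.leaf 3) (.leaf 3)) (.node (.leaf 3) (.leaf 3)))) (.node (.node (.node (.leaf 3) (.leaf 3)) (.node (.leaf 3) (.leaf 3))) (.node (.node (.leaf 0) (.leaf 3)) (.node (.leaf 0) (.leaf 3)))))))

def twoKind236 : Janko.Tree (ℕ) :=
  (.node (.node (.node (.node (.node (.node (.leaf 0) (.leaf 3)) (.node (.leaf 3) (.leaf 3))) (.node (.node (.leaf 0) (.leaf 3)) (.node (.leaf 3) (.leaf 3)))) (.node (.node (.node (.leaf 3) (.leaf 3)) (.node (.leaf 3) (.leaf 3))) (.node (.node (.leaf 3) (.leaf 0)) (.node (.leaf 3) (.leaf 3))))) (.node (.node (.node (.node (.leaf 0) (.leaf 3)) (.node (.leaf 3) (.leaf 3))) (.node (.node (.leaf 3) (.leaf 3)) (.node (.leaf 3) (.leaf 3)))) (.node (.node (.node (.leaf 0) (.leaf 3)) (.node (.leaf 3) (.leaf 3))) (.node (.node (.leaf 3) (.leaf 3)) (.node (.leaf 0) (.leaf 3)))))) (.node (.node (.node (.node (.node (.leaf 3) (.leaf 3)) (.node (.leaf 3) (.leaf 3))) (.node (.node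 (.leaf 0) (.leaf 3)) (.node (.leaf 0) (.leaf 3)))) (.node (.node (.node (.leaf 0) (.leaf 3)) (.node (.leaf 3) (.leaf 3))) (.node (.node (.leaf 0) (.leaf 3)) (.node (.leaf 3) (.leaf 3))))) (.node (.node (.node (.node (.leaf 3) (.leaf 3)) (.node (.leaf 3) (.leaf 3))) (.node (.node (.leaf 3) (.leaf 3)) (.node (.leaf 0) (.leaf 3)))) (.node (.node (.node (.leaf 0) (.leaf 3)) (.node (.leaf 3) (.leaf 3))) (.node (.node (.leaf 3) (.leaf 3)) (.node (.leaf 3) (.leaf 3)))))))

def twoKind237 : Janko.Tree (ℕ) :=
  (.node (.node (.node (.node (.node (.node (.leaf 0) (.leaf 3)) (.node (.leaf 0) (.leaf 3))) (.node (.node (.leaf 3) (.leaf 3)) (.node (.leaf 3) (.leaf 3)))) (.node (.node (.node (.leaf 0) (.leaf 3)) (.node (.leaf 0) (.leaf 3))) (.node (.node (.leaf 3) (.leaf 3)) (.node (.leaf 0) (.leaf 3))))) (.node (.node (.node (.node (.leaf 3) (.leaf 3)) (.node (.leaf 3) (.leaf 3))) (.node (.node (.leaf 3) (.leaf 3)) (.node (.leaf 3) (.leaf 3)))) (.node (.node (.node (.leaf 3) (.leaf 3)) (.node (.leaf 3) (.leaf 3))) (.node (.node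 (.leaf 3) (.leaf 3)) (.node (.leaf 3) (.leaf 3)))))) (.node (.node (.node (.node (.node (.leaf 0) (.leaf 0)) (.node (.leaf 3) (.leaf 3))) (.node (.node (.leaf 3) (.leaf 3)) (.node (.leaf 3) (.leaf 3)))) (.node (.node (.node (.leaf 3) (.leaf 3)) (.node (.leaf 3) (.leaf 3))) (.node (.node (.leaf 3) (.leaf 3)) (.node (.leaf 0) (.leaf 3))))) (.node (.node (.node (.node (.leaf 0) (.leaf 3)) (.node (.leaf 0) (.leaf 3))) (.node (.node (.leaf 0) (.leaf 3)) (.node (.leaf 3) (.leaf 3)))) (.node (.node (.node (.leaf 0) (.leaf 3)) (.node (.leaf 3) (.leaf 3))) (.node (.node (.leaf 0) (.leaf 3)) (.node (.leaf 0) (.leaf 3)))))))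

def twoKind238 : Janko.Tree (ℕ) :=
  (.node (.node (.node (.node (.node (.node (.leaf 3) (.leaf 3)) (.node (.leaf 3) (.leaf 3))) (.node (.node (.leaf 3) (.leaf 3)) (.node (.leaf 0) (.leaf 3)))) (.node (.node (.node (.leaf 0) (.leaf 3)) (.node (.leaf 3) (.leaf 3))) (.node (.node (.leaf 0) (.leaf 3)) (.node (.leaf 3) (.leaf 3))))) (.node (.node (.node (.node (.leaf 0) (.leaf 3)) (.node (.leaf 3) (.leaf 3))) (.node (.node (.leaf 3) (.leaf 3)) (.node (.leaf 3) (.leaf 3)))) (.node (.node (.node (.leaf 3) (.leaf 3)) (.node (.leaf 0) (.leaf 3))) (.node (.node (.leaf 3) (.leaf 3)) (.node (.leaf 0) (.leaf 3)))))) (.node (.node (.node (.node (.node (.leaf 3) (.leaf 3)) (.node (.leaf 3) (.leaf 3))) (.node (.node (.leaf 3) (.leaf 3)) (.node (.leaf 3) (.leaf 3)))) (.node (.node (.node (.leaf 0) (.leaf 3)) (.node (.leaf 3) (.leaf 3))) (.node (.node (.leaf 0) (.leaf 3)) (.node (.leaf 3) (.leaf 3))))) (.node (.node (.node (.node (.leaf 0) (.leaf 3)) (.node (.leaf 3) (.leaf 3))) (.node (.node (.leaf 0) (.leaf 3)) (.node (.leaf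 0) (.leaf 3)))) (.node (.node (.node (.leaf 3) (.leaf 3)) (.node (.leaf 3) (.leaf 3))) (.node (.node (.leaf 3) (.leaf 3)) (.node (.leaf 3) (.leaf 3)))))))

def twoKind239 : Janko.Tree (ℕ) :=
  (.node (.node (.node (.node (.node (.node (.leaf 0) (.leaf 3)) (.node (.leaf 3) (.leaf 3))) (.node (.node (.leaf 0) (.leaf 3)) (.node (.leaf 0) (.leaf 3)))) (.node (.node (.node (.leaf 0) (.leaf 3)) (.node (.leaf 3) (.leaf 3))) (.node (.node (.leaf 3) (.leaf 3)) (.node (.leaf 3) (.leaf 3))))) (.node (.node (.node (.node (.leaf 0) (.leaf 0)) (.node (.leaf 0) (.leaf 0))) (.node (.node (.leaf 0) (.leaf 3)) (.node (.leaf 3) (.leaf 3)))) (.node (.node (.node (.leaf 3) (.leaf 3)) (.node (.leaf 0) (.leaf 3))) (.node (.node (.leaf 0) (.leaf 3)) (.node (.leaf 3) (.leaf 3)))))) (.node (.node (.node (.node (.node (.leaf 0) (.leaf 0)) (.node (.leaf 3) (.leaf 3))) (.node (.node (.leaf 0) (.leaf 3)) (.node (.leaf 0) (.leaf 3)))) (.node (.node (.node (.leaf 0) (.leaf 3)) (.node (.leaf 3) (.leaf 3))) (.node (.node (.leaf 0) (.leaf 3))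 (.node (.leaf 3) (.leaf 3))))) (.node (.node (.node (.node (.leaf 0) (.leaf 3)) (.node (.leaf 3) (.leaf 3))) (.node (.node (.leaf 3) (.leaf 0)) (.node (.leaf 3) (.leaf 3)))) (.node (.node (.node (.leaf 0) (.leaf 3)) (.node (.leaf 0) (.leaf 3))) (.node (.node (.leaf 0) (.leaf 3)) (.node (.leaf 3) (.leaf 3)))))))

def twoKind240 : Janko.Tree (ℕ) :=
  (.node (.node (.node (.node (.node (.node (.leaf 0) (.leaf 3)) (.node (.leaf 3) (.leaf 3))) (.node (.node (.leaf 3) (.leaf 3)) (.node (.leaf 3) (.leaf 3)))) (.node (.node (.node (.leaf 0) (.leaf 3)) (.node (.leaf 3) (.leaf 3))) (.node (.node (.leaf 3) (.leaf 3)) (.node (.leaf 3) (.leaf 3))))) (.node (.node (.node (.node (.leaf 3) (.leaf 3)) (.node (.leaf 3) (.leaf 3))) (.node (.node (.leaf 0) (.leaf 3)) (.node (.leaf 3) (.leaf 3)))) (.node (.node (.node (.leaf 3) (.leaf 3)) (.node (.leaf 0) (.leaf 3))) (.node (.node (.leaf 3) (.leaf 3)) (.node (.leaf 0) (.leaf 3)))))) (.node (.node (.node (.node (.node (.leaf 0) (.leaf 3)) (.node (.leaf 3) (.leaf 3))) (.node (.node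 (.leaf 0) (.leaf 3)) (.node (.leaf 0) (.leaf 3)))) (.node (.node (.node (.leaf 3) (.leaf 3)) (.node (.leaf 3) (.leaf 3))) (.node (.node (.leaf 3) (.leaf 3)) (.node (.leaf 0) (.leaf 3))))) (.node (.node (.node (.node (.leaf 3) (.leaf 3)) (.node (.leaf 3) (.leaf 3))) (.node (.node (.leaf 0) (.leaf 3)) (.node (.leaf 3) (.leaf 3)))) (.node (.node (.node (.leaf 0) (.leaf 3)) (.node (.leaf 3) (.leaf 3))) (.node (.node (.leaf 3) (.leaf 3)) (.node (.leaf 3) (.leaf 3)))))))

def twoKind241 : Janko.Tree (ℕ) :=
  (.node (.node (.node (.node (.node (.node (.leaf 0) (.leaf 0)) (.node (.leaf 3) (.leaf 3))) (.node (.node (.leaf 0) (.leaf 3)) (.node (.leaf 0) (.leaf 3)))) (.node (.node (.node (.leaf 3) (.leaf 0)) (.node (.leaf 3) (.leaf 3))) (.node (.node (.leaf 0) (.leaf 3)) (.node (.leaf 0) (.leaf 3))))) (.node (.node (.node (.node (.leaf 0) (.leaf 3)) (.node (.leaf 3) (.leaf 3))) (.node (.node (.leaf 0) (.leaf 3)) (.node (.leaf 0) (.leaf 3)))) (.node (.node (.node (.leaf 0) (.leaf 3)) (.node (.leaf 3) (.leaf 3))) (.node (.node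 (.leaf 3) (.leaf 3)) (.node (.leaf 0) (.leaf 3)))))) (.node (.node (.node (.node (.node (.leaf 3) (.leaf 3)) (.node (.leaf 3) (.leaf 3))) (.node (.node (.leaf 0) (.leaf 3)) (.node (.leaf 0) (.leaf 3)))) (.node (.node (.node (.leaf 0) (.leaf 3)) (.node (.leaf 3) (.leaf 3))) (.node (.node (.leaf 0) (.leaf 3)) (.node (.leaf 3) (.leaf 3))))) (.node (.node (.node (.node (.leaf 0) (.leaf 0)) (.node (.leaf 3) (.leaf 3))) (.node (.node (.leaf 0) (.leaf 3)) (.node (.leaf 0) (.leaf 3)))) (.node (.node (.node (.leaf 0) (.leaf 0)) (.node (.leaf 3) (.leaf 3))) (.node (.node (.leaf 3) (.leaf 3)) (.node (.leaf 3) (.leaf 3)))))))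

def twoKind242 : Janko.Tree (ℕ) :=
  (.node (.node (.node (.node (.node (.node (.leaf 0) (.leaf 3)) (.node (.leaf 3) (.leaf 3))) (.node (.node (.leaf 3) (.leaf 3)) (.node (.leaf 0) (.leaf 3)))) (.node (.node (.node (.leaf 0) (.leaf 3)) (.node (.leaf 0) (.leaf 3))) (.node (.node (.leaf 3) (.leaf 3)) (.node (.leaf 0) (.leaf 3))))) (.node (.node (.node (.node (.leaf 0) (.leaf 3)) (.node (.leaf 0) (.leaf 3))) (.node (.node (.leaf 0) (.leaf 3)) (.node (.leaf 3) (.leaf 3)))) (.node (.node (.node (.leaf 0) (.leaf 3)) (.node (.leaf 0) (.leaf 3))) (.node (.node (.leaf 0) (.leaf 3)) (.node (.leaf 3) (.leaf 3)))))) (.node (.node (.node (.node (.node (.leaf 0) (.leaf 3)) (.node (.leaf 0) (.leaf 3))) (.node (.node (.leaf 0) (.leaf 3)) (.node (.leaf 3) (.leaf 3)))) (.node (.node (.node (.leaf 3) (.leaf 3)) (.node (.leaf 0) (.leaf 3))) (.node (.node (.leaf 3) (.leaf 3)) (.node (.leaf 3) (.leaf 3))))) (.node (.node (.node (.node (.leaf 0) (.leaf 3)) (.node (.leaf 3) (.leaf 0))) (.node (.node (.leaf 3) (.leaf 3)) (.node (.leaf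 3) (.leaf 3)))) (.node (.node (.node (.leaf 0) (.leaf 3)) (.node (.leaf 3) (.leaf 3))) (.node (.node (.leaf 3) (.leaf 3)) (.node (.leaf 3) (.leaf 3)))))))

def twoKind243 : Janko.Tree (ℕ) :=
  (.node (.node (.node (.node (.node (.node (.leaf 3) (.leaf 3)) (.node (.leaf 0) (.leaf 3))) (.node (.node (.leaf 3) (.leaf 3)) (.node (.leaf 3) (.leaf 3)))) (.node (.node (.node (.leaf 0) (.leaf 3)) (.node (.leaf 3) (.leaf 3))) (.node (.node (.leaf 0) (.leaf 3)) (.node (.leaf 3) (.leaf 3))))) (.node (.node (.node (.node (.leaf 0) (.leaf 3)) (.node (.leaf 3) (.leaf 3))) (.node (.node (.leaf 3) (.leaf 3)) (.node (.leaf 0) (.leaf 3)))) (.node (.node (.node (.leaf 3) (.leaf 3)) (.node (.leaf 3) (.leaf 3))) (.node (.node (.leaf 3) (.leaf 3)) (.node (.leaf 0) (.leaf 3)))))) (.node (.node (.node (.node (.node (.leaf 0) (.leaf 3)) (.node (.leaf 3) (.leaf 3))) (.node (.node (.leaf 3) (.leaf 3)) (.node (.leaf 0) (.leaf 3)))) (.node (.node (.node (.leaf 3) (.leaf 3)) (.node (.leaf 0) (.leaf 3))) (.node (.node (.leaf 3) (.leaf 0))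 (.node (.leaf 3) (.leaf 3))))) (.node (.node (.node (.node (.leaf 0) (.leaf 3)) (.node (.leaf 3) (.leaf 3))) (.node (.node (.leaf 0) (.leaf 3)) (.node (.leaf 0) (.leaf 3)))) (.node (.node (.node (.leaf 0) (.leaf 3)) (.node (.leaf 0) (.leaf 3))) (.node (.node (.leaf 0) (.leaf 3)) (.node (.leaf 3) (.leaf 3)))))))

def twoKind244 : Janko.Tree (ℕ) :=
  (.node (.node (.node (.node (.node (.node (.leaf 0) (.leaf 3)) (.node (.leaf 3) (.leaf 3))) (.node (.node (.leaf 3) (.leaf 3)) (.node (.leaf 3) (.leaf 3)))) (.node (.node (.node (.leaf 0) (.leaf 3)) (.node (.leaf 0) (.leaf 3))) (.node (.node (.leaf 0) (.leaf 3)) (.node (.leaf 3) (.leaf 3))))) (.node (.node (.node (.node (.leaf 3) (.leaf 3)) (.node (.leaf 3) (.leaf 3))) (.node (.node (.leaf 3) (.leaf 3)) (.node (.leaf 3) (.leaf 3)))) (.node (.node (.node (.leaf 0) (.leaf 3)) (.node (.leaf 0) (.leaf 3))) (.node (.node (.leaf 3) (.leaf 3)) (.node (.leaf 0) (.leaf 3)))))) (.node (.node (.node (.node (.node (.leaf 0) (.leaf 0)) (.node (.leaf 3) (.leaf 3))) (.node (.node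 (.leaf 3) (.leaf 3)) (.node (.leaf 3) (.leaf 3)))) (.node (.node (.node (.leaf 3) (.leaf 3)) (.node (.leaf 3) (.leaf 3))) (.node (.node (.leaf 3) (.leaf 3)) (.node (.leaf 3) (.leaf 3))))) (.node (.node (.node (.node (.leaf 0) (.leaf 3)) (.node (.leaf 3) (.leaf 3))) (.node (.node (.leaf 0) (.leaf 3)) (.node (.leaf 0) (.leaf 3)))) (.node (.node (.node (.leaf 0) (.leaf 0)) (.node (.leaf 3) (.leaf 3))) (.node (.node (.leaf 0) (.leaf 3)) (.node (.leaf 3) (.leaf 3)))))))

def twoKind245 : Janko.Tree (ℕ) :=
  (.node (.node (.node (.node (.node (.node (.leaf 3) (.leaf 3)) (.node (.leaf 3) (.leaf 3))) (.node (.node (.leaf 3) (.leaf 3)) (.node (.leaf 3) (.leaf 3)))) (.node (.node (.node (.leaf 0) (.leaf 3)) (.node (.leaf 3) (.leaf 0))) (.node (.node (.leaf 3) (.leaf 3)) (.node (.leaf 3) (.leaf 3))))) (.node (.node (.node (.node (.leaf 0) (.leaf 3)) (.node (.leaf 3) (.leaf 3))) (.node (.node (.leaf 0) (.leaf 3)) (.node (.leaf 3) (.leaf 3)))) (.node (.node (.node (.leaf 3) (.leaf 3)) (.node (.leaf 3) (.leaf 3))) (.node (.node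 (.leaf 0) (.leaf 3)) (.node (.leaf 3) (.leaf 3)))))) (.node (.node (.node (.node (.node (.leaf 0) (.leaf 3)) (.node (.leaf 3) (.leaf 3))) (.node (.node (.leaf 0) (.leaf 3)) (.node (.leaf 3) (.leaf 3)))) (.node (.node (.node (.leaf 0) (.leaf 3)) (.node (.leaf 3) (.leaf 3))) (.node (.node (.leaf 0) (.leaf 3)) (.node (.leaf 3) (.leaf 3))))) (.node (.node (.node (.node (.leaf 0) (.leaf 3)) (.node (.leaf 3) (.leaf 3))) (.node (.node (.leaf 0) (.leaf 3)) (.node (.leaf 3) (.leaf 3)))) (.node (.node (.node (.leaf 3) (.leaf 3)) (.node (.leaf 3) (.leaf 3))) (.node (.node (.leaf 3) (.leaf 3)) (.node (.leaf 3) (.leaf 3)))))))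

def twoKind246 : Janko.Tree (ℕ) :=
  (.node (.node (.node (.node (.node (.node (.leaf 0) (.leaf 3)) (.node (.leaf 3) (.leaf 3))) (.node (.node (.leaf 3) (.leaf 3)) (.node (.leaf 0) (.leaf 3)))) (.node (.node (.node (.leaf 3) (.leaf 3)) (.node (.leaf 3) (.leaf 3))) (.node (.node (.leaf 3) (.leaf 3)) (.node (.leaf 0) (.leaf 3))))) (.node (.node (.node (.node (.leaf 3) (.leaf 3)) (.node (.leaf 3) (.leaf 3))) (.node (.node (.leaf 3) (.leaf 3)) (.node (.leaf 0) (.leaf 3)))) (.node (.node (.node (.leaf 0) (.leaf 3)) (.node (.leaf 3) (.leaf 3))) (.node (.node (.leaf 3) (.leaf 3)) (.node (.leaf 3) (.leaf 3)))))) (.node (.node (.node (.node (.node (.leaf 3) (.leaf 3)) (.node (.leaf 3) (.leaf 3))) (.node (.node (.leaf 3) (.leaf 3)) (.node (.leaf 0) (.leaf 3)))) (.node (.node (.node (.leaf 0) (.leaf 3)) (.node (.leaf 3) (.leaf 3))) (.node (.node (.leaf 0) (.leaf 3)) (.node (.leaf 0) (.leaf 3))))) (.node (.node (.node (.node (.leaf 3) (.leaf 3)) (.node (.leaf 3) (.leaf 3))) (.node (.node (.leaf 3) (.leaf 3)) (.node (.leaf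 3) (.leaf 3)))) (.node (.node (.node (.leaf 0) (.leaf 3)) (.node (.leaf 3) (.leaf 3))) (.node (.node (.leaf 3) (.leaf 3)) (.node (.leaf 3) (.leaf 3)))))))

def twoKind247 : Janko.Tree (ℕ) :=
  (.node (.node (.node (.node (.node (.node (.leaf 0) (.leaf 3)) (.node (.leaf 3) (.leaf 3))) (.node (.node (.leaf 0) (.leaf 3)) (.node (.leaf 0) (.leaf 3)))) (.node (.node (.node (.leaf 0) (.leaf 3)) (.node (.leaf 0) (.leaf 3))) (.node (.node (.leaf 3) (.leaf 3)) (.node (.leaf 3) (.leaf 3))))) (.node (.node (.node (.node (.leaf 0) (.leaf 3)) (.node (.leaf 0) (.leaf 3))) (.node (.node (.leaf 0) (.leaf 3)) (.node (.leaf 0) (.leaf 3)))) (.node (.node (.node (.leaf 0) (.leaf 3)) (.node (.leaf 0) (.leaf 3))) (.node (.node (.leaf 0) (.leaf 3)) (.node (.leaf 0) (.leaf 3)))))) (.node (.node (.node (.node (.node (.leaf 0) (.leaf 3)) (.node (.leaf 0) (.leaf 3))) (.node (.node (.leaf 0) (.leaf 3)) (.node (.leaf 0) (.leaf 3)))) (.node (.node (.node (.leaf 3) (.leaf 3)) (.node (.leaf 3) (.leaf 3))) (.node (.node (.leaf 3) (.leaf 3))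 (.node (.leaf 3) (.leaf 3))))) (.node (.node (.node (.node (.leaf 0) (.leaf 0)) (.node (.leaf 0) (.leaf 3))) (.node (.node (.leaf 3) (.leaf 3)) (.node (.leaf 3) (.leaf 0)))) (.node (.node (.node (.leaf 0) (.leaf 3)) (.node (.leaf 0) (.leaf 3))) (.node (.node (.leaf 0) (.leaf 3)) (.node (.leaf 3) (.leaf 3)))))))

def twoKind248 : Janko.Tree (ℕ) :=
  (.node (.node (.node (.node (.node (.node (.leaf 0) (.leaf 3)) (.node (.leaf 3) (.leaf 3))) (.node (.node (.leaf 3) (.leaf 0)) (.node (.leaf 3) (.leaf 3)))) (.node (.node (.node (.leaf 0) (.leaf 0)) (.node (.leaf 3) (.leaf 3))) (.node (.node (.leaf 0) (.leaf 3)) (.node (.leaf 0) (.leaf 3))))) (.node (.node (.node (.node (.leaf 3) (.leaf 3)) (.node (.leaf 3) (.leaf 3))) (.node (.node (.leaf 0) (.leaf 3)) (.node (.leaf 3) (.leaf 3)))) (.node (.node (.node (.leaf 3) (.leaf 3)) (.node (.leaf 3) (.leaf 3))) (.node (.node (.leaf 3) (.leaf 3)) (.node (.leaf 3) (.leaf 3)))))) (.node (.node (.node (.node (.node (.leaf 0) (.leaf 3)) (.node (.leaf 3) (.leaf 3))) (.node (.node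 (.leaf 0) (.leaf 3)) (.node (.leaf 3) (.leaf 3)))) (.node (.node (.node (.leaf 3) (.leaf 3)) (.node (.leaf 3) (.leaf 3))) (.node (.node (.leaf 3) (.leaf 3)) (.node (.leaf 3) (.leaf 3))))) (.node (.node (.node (.node (.leaf 0) (.leaf 3)) (.node (.leaf 3) (.leaf 3))) (.node (.node (.leaf 0) (.leaf 3)) (.node (.leaf 3) (.leaf 3)))) (.node (.node (.node (.leaf 3) (.leaf 3)) (.node (.leaf 3) (.leaf 3))) (.node (.node (.leaf 3) (.leaf 3)) (.node (.leaf 3) (.leaf 3)))))))

def twoKind249 : Janko.Tree (ℕ) :=
  (.node (.node (.node (.node (.node (.node (.leaf 0) (.leaf 3)) (.node (.leaf 0) (.leaf 3))) (.node (.node (.leaf 3) (.leaf 3)) (.node (.leaf 0) (.leaf 3)))) (.node (.node (.node (.leaf 0) (.leaf 3)) (.node (.leaf 3) (.leaf 3))) (.node (.node (.leaf 3) (.leaf 3)) (.node (.leaf 0) (.leaf 3))))) (.node (.node (.node (.node (.leaf 0) (.leaf 3)) (.node (.leaf 0) (.leaf 3))) (.node (.node (.leaf 0) (.leaf 3)) (.node (.leaf 3) (.leaf 3)))) (.node (.node (.node (.leaf 0) (.leaf 0)) (.node (.leaf 3) (.leaf 3))) (.node (.node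 (.leaf 3) (.leaf 3)) (.node (.leaf 3) (.leaf 3)))))) (.node (.node (.node (.node (.node (.leaf 0) (.leaf 3)) (.node (.leaf 3) (.leaf 3))) (.node (.node (.leaf 3) (.leaf 3)) (.node (.leaf 0) (.leaf 3)))) (.node (.node (.node (.leaf 0) (.leaf 3)) (.node (.leaf 3) (.leaf 3))) (.node (.node (.leaf 0) (.leaf 0)) (.node (.leaf 3) (.leaf 3))))) (.node (.node (.node (.node (.leaf 0) (.leaf 0)) (.node (.leaf 3) (.leaf 3))) (.node (.node (.leaf 3) (.leaf 3)) (.node (.leaf 0) (.leaf 3)))) (.node (.node (.node (.leaf 3) (.leaf 3)) (.node (.leaf 0) (.leaf 3))) (.node (.node (.leaf 0) (.leaf 3)) (.node (.leaf 3) (.leaf 3)))))))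

def twoKind250 : Janko.Tree (ℕ) :=
  (.node (.node (.node (.node (.node (.node (.leaf 3) (.leaf 0)) (.node (.leaf 3) (.leaf 3))) (.node (.node (.leaf 3) (.leaf 3)) (.node (.leaf 3) (.leaf 3)))) (.node (.node (.node (.leaf 0) (.leaf 3)) (.node (.leaf 3) (.leaf 3))) (.node (.node (.leaf 0) (.leaf 3)) (.node (.leaf 3) (.leaf 3))))) (.node (.node (.node (.node (.leaf 3) (.leaf 3)) (.node (.leaf 3) (.leaf 3))) (.node (.node (.leaf 0) (.leaf 3)) (.node (.leaf 3) (.leaf 3)))) (.node (.node (.node (.leaf 3) (.leaf 3)) (.node (.leaf 3) (.leaf 3))) (.node (.node (.leaf 3) (.leaf 3)) (.node (.leaf 3) (.leaf 3)))))) (.node (.node (.node (.node (.node (.leaf 0) (.leaf 3)) (.node (.leaf 3) (.leaf 3))) (.node (.node (.leaf 3) (.leaf 3)) (.node (.leaf 3) (.leaf 3)))) (.node (.node (.node (.leaf 3) (.leaf 3)) (.node (.leaf 3) (.leaf 3))) (.node (.node (.leaf 0) (.leaf 0)) (.node (.leaf 3) (.leaf 3))))) (.node (.node (.node (.node (.leaf 3) (.leaf 3)) (.node (.leaf 3) (.leaf 3))) (.node (.node (.leaf 0) (.leaf 3)) (.node (.leaf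 3) (.leaf 3)))) (.node (.node (.node (.leaf 3) (.leaf 3)) (.node (.leaf 3) (.leaf 3))) (.node (.node (.leaf 0) (.leaf 3)) (.node (.leaf 3) (.leaf 3)))))))

def twoKind251 : Janko.Tree (ℕ) :=
  (.node (.node (.node (.node (.node (.node (.leaf 0) (.leaf 3)) (.node (.leaf 0) (.leaf 3))) (.node (.node (.leaf 3) (.leaf 3)) (.node (.leaf 3) (.leaf 3)))) (.node (.node (.node (.leaf 0) (.leaf 0)) (.node (.leaf 3) (.leaf 3))) (.node (.node (.leaf 0) (.leaf 3)) (.node (.leaf 3) (.leaf 3))))) (.node (.node (.node (.node (.leaf 0) (.leaf 3)) (.node (.leaf 3) (.leaf 3))) (.node (.node (.leaf 0) (.leaf 3)) (.node (.leaf 0) (.leaf 3)))) (.node (.node (.node (.leaf 0) (.leaf 3)) (.node (.leaf 3) (.leaf 3))) (.node (.node (.leaf 3) (.leaf 3)) (.node (.leaf 3) (.leaf 3)))))) (.node (.node (.node (.node (.node (.leaf 3) (.leaf 0)) (.node (.leaf 3) (.leaf 3))) (.node (.node (.leaf 3) (.leaf 3)) (.node (.leaf 0) (.leaf 3)))) (.node (.node (.node (.leaf 0) (.leaf 3)) (.node (.leaf 0) (.leaf 3))) (.node (.node (.leaf 0) (.leaf 3))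 (.node (.leaf 0) (.leaf 3))))) (.node (.node (.node (.node (.leaf 0) (.leaf 3)) (.node (.leaf 3) (.leaf 0))) (.node (.node (.leaf 0) (.leaf 0)) (.node (.leaf 0) (.leaf 3)))) (.node (.node (.node (.leaf 0) (.leaf 3)) (.node (.leaf 0) (.leaf 3))) (.node (.node (.leaf 0) (.leaf 3)) (.node (.leaf 0) (.leaf 3)))))))

def twoKind252 : Janko.Tree (ℕ) :=
  (.node (.node (.node (.node (.node (.node (.leaf 0) (.leaf 3)) (.node (.leaf 3) (.leaf 3))) (.node (.node (.leaf 3) (.leaf 3)) (.node (.leaf 0) (.leaf 3)))) (.node (.node (.node (.leaf 0) (.leaf 3)) (.node (.leaf 3) (.leaf 3))) (.node (.node (.leaf 0) (.leaf 3)) (.node (.leaf 0) (.leaf 3))))) (.node (.node (.node (.node (.leaf 0) (.leaf 3)) (.node (.leaf 3) (.leaf 0))) (.node (.node (.leaf 3) (.leaf 3)) (.node (.leaf 0) (.leaf 3)))) (.node (.node (.node (.leaf 0) (.leaf 3)) (.node (.leaf 0) (.leaf 3))) (.node (.node (.leaf 3) (.leaf 3)) (.node (.leaf 3) (.leaf 3)))))) (.node (.node (.node (.node (.node (.leaf 3) (.leaf 3)) (.node (.leaf 0) (.leaf 3))) (.node (.node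 (.leaf 0) (.leaf 3)) (.node (.leaf 3) (.leaf 3)))) (.node (.node (.node (.leaf 0) (.leaf 0)) (.node (.leaf 3) (.leaf 3))) (.node (.node (.leaf 0) (.leaf 3)) (.node (.leaf 3) (.leaf 3))))) (.node (.node (.node (.node (.leaf 3) (.leaf 3)) (.node (.leaf 3) (.leaf 3))) (.node (.node (.leaf 3) (.leaf 3)) (.node (.leaf 3) (.leaf 3)))) (.node (.node (.node (.leaf 0) (.leaf 3)) (.node (.leaf 3) (.leaf 3))) (.node (.node (.leaf 3) (.leaf 3)) (.node (.leaf 3) (.leaf 3)))))))

def twoKind253 : Janko.Tree (ℕ) :=
  (.node (.node (.node (.node (.node (.node (.leaf 0) (.leaf 3)) (.node (.leaf 3) (.leaf 3))) (.node (.node (.leaf 3) (.leaf 3)) (.node (.leaf 3) (.leaf 3)))) (.node (.node (.node (.leaf 3) (.leaf 3)) (.node (.leaf 3) (.leaf 3))) (.node (.node (.leaf 3) (.leaf 3)) (.node (.leaf 3) (.leaf 3))))) (.node (.node (.node (.node (.leaf 0) (.leaf 3)) (.node (.leaf 0) (.leaf 3))) (.node (.node (.leaf 3) (.leaf 3)) (.node (.leaf 3) (.leaf 3)))) (.node (.node (.node (.leaf 3) (.leaf 3)) (.node (.leaf 3) (.leaf 3))) (.node (.node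 (.leaf 3) (.leaf 3)) (.node (.leaf 3) (.leaf 3)))))) (.node (.node (.node (.node (.node (.leaf 3) (.leaf 3)) (.node (.leaf 3) (.leaf 3))) (.node (.node (.leaf 0) (.leaf 3)) (.node (.leaf 0) (.leaf 3)))) (.node (.node (.node (.leaf 0) (.leaf 3)) (.node (.leaf 3) (.leaf 3))) (.node (.node (.leaf 0) (.leaf 3)) (.node (.leaf 3) (.leaf 3))))) (.node (.node (.node (.node (.leaf 0) (.leaf 3)) (.node (.leaf 3) (.leaf 3))) (.node (.node (.leaf 0) (.leaf 3)) (.node (.leaf 0) (.leaf 3)))) (.node (.node (.node (.leaf 0) (.leaf 3)) (.node (.leaf 3) (.leaf 3))) (.node (.node (.leaf 0) (.leaf 3)) (.node (.leaf 3) (.leaf 3)))))))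

def twoKind254 : Janko.Tree (ℕ) :=
  (.node (.node (.node (.node (.node (.node (.leaf 0) (.leaf 3)) (.node (.leaf 3) (.leaf 3))) (.node (.node (.leaf 3) (.leaf 3)) (.node (.leaf 0) (.leaf 3)))) (.node (.node (.node (.leaf 0) (.leaf 0)) (.node (.leaf 0) (.leaf 3))) (.node (.node (.leaf 0) (.leaf 3)) (.node (.leaf 0) (.leaf 3))))) (.node (.node (.node (.node (.leaf 0) (.leaf 3)) (.node (.leaf 3) (.leaf 3))) (.node (.node (.leaf 0) (.leaf 3)) (.node (.leaf 3) (.leaf 3)))) (.node (.node (.node (.leaf 0) (.leaf 3)) (.node (.leaf 3) (.leaf 3))) (.node (.node (.leaf 3) (.leaf 3)) (.node (.leaf 3) (.leaf 3)))))) (.node (.node (.node (.node (.node (.leaf 3) (.leaf 3)) (.node (.leaf 0) (.leaf 3))) (.node (.node (.leaf 0) (.leaf 3)) (.node (.leaf 3) (.leaf 3)))) (.node (.node (.node (.leaf 3) (.leaf 3)) (.node (.leaf 3) (.leaf 3))) (.node (.node (.leaf 3) (.leaf 3)) (.node (.leaf 3) (.leaf 3))))) (.node (.node (.node (.node (.leaf 3) (.leaf 3)) (.node (.leaf 3) (.leaf 3))) (.node (.node (.leaf 3) (.leaf 3)) (.node (.leaf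 3) (.leaf 3)))) (.node (.node (.node (.leaf 0) (.leaf 3)) (.node (.leaf 0) (.leaf 3))) (.node (.node (.leaf 0) (.leaf 3)) (.node (.leaf 0) (.leaf 3)))))))

def twoKind255 : Janko.Tree (ℕ) :=
  (.node (.node (.node (.node (.node (.node (.leaf 0) (.leaf 3)) (.node (.leaf 3) (.leaf 0))) (.node (.node (.leaf 0) (.leaf 3)) (.node (.leaf 0) (.leaf 3)))) (.node (.node (.node (.leaf 0) (.leaf 3)) (.node (.leaf 3) (.leaf 3))) (.node (.node (.leaf 3) (.leaf 0)) (.node (.leaf 3) (.leaf 3))))) (.node (.node (.node (.node (.leaf 0) (.leaf 3)) (.node (.leaf 3) (.leaf 0))) (.node (.node (.leaf 0) (.leaf 3)) (.node (.leaf 0) (.leaf 3)))) (.node (.node (.node (.leaf 3) (.leaf 3)) (.node (.leaf 0) (.leaf 3))) (.node (.node (.leaf 0) (.leaf 3)) (.node (.leaf 3) (.leaf 3)))))) (.node (.node (.node (.node (.node (.leaf 0) (.leaf 0)) (.node (.leaf 3) (.leaf 3))) (.node (.node (.leaf 3) (.leaf 3)) (.node (.leaf 0) (.leaf 3)))) (.node (.node (.node (.leaf 0) (.leaf 3)) (.node (.leaf 3) (.leaf 3))) (.node (.node (.leaf 0) (.leaf 3))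 (.node (.leaf 3) (.leaf 3))))) (.node (.node (.node (.node (.leaf 0) (.leaf 3)) (.node (.leaf 0) (.leaf 3))) (.node (.node (.leaf 3) (.leaf 3)) (.node (.leaf 3) (.leaf 3)))) (.node (.node (.node (.leaf 3) (.leaf 0)) (.node (.leaf 0) (.leaf 3))) (.node (.node (.leaf 0) (.leaf 3)) (.node (.leaf 3) (.leaf 3)))))))

def twoKind : Janko.Tree (ℕ) := (.node (.node (.node (.node (.node (.node (.node (.node twoKind0 twoKind128) (.node twoKind64 twoKind192)) (.node (.node twoKind32 twoKind160) (.node twoKind96 twoKind224))) (.node (.node (.node twoKind16 twoKind144) (.node twoKind80 twoKind208)) (.node (.node twoKind48 twoKind176) (.node twoKind112 twoKind240)))) (.node (.node (.node (.node twoKind8 twoKind136) (.node twoKind72 twoKind200)) (.node (.node twoKind40 twoKind168) (.node twoKind104 twoKind232))) (.node (.node (.node twoKind24 twoKind152) (.node twoKind88 twoKind216)) (.node (.node twoKind56 twoKind184) (.node twoKind120 twoKind248))))) (.node (.node (.node (.node (.node twoKind4 twoKind132) (.node twoKind68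 twoKind196)) (.node (.node twoKind36 twoKind164) (.node twoKind100 twoKind228))) (.node (.node (.node twoKind20 twoKind148) (.node twoKind84 twoKind212)) (.node (.node twoKind52 twoKind180) (.node twoKind116 twoKind244)))) (.node (.node (.node (.node twoKind12 twoKind140) (.node twoKind76 twoKind204)) (.node (.node twoKind44 twoKind172) (.node twoKind108 twoKind236))) (.node (.node (.node twoKind28 twoKind156) (.node twoKind92 twoKind220)) (.node (.node twoKind60 twoKind188) (.node twoKind124 twoKind252)))))) (.node (.node (.node (.node (.node (.node twoKind2 twoKind130) (.node twoKind66 twoKind194)) (.node (.node twoKind34 twoKind162) (.node twoKind98 twoKind226))) (.node (.node (.node twoKind18 twoKind146) (.node twoKind82 twoKind210)) (.node (.node twoKind50 twoKind178) (.node twoKind114 twoKind242)))) (.node (.node (.node (.node twoKind10 twoKind138) (.node twoKind74 twoKind202)) (.node (.node twoKind42 twoKind170) (.node twoKind106 twoKind234))) (.node (.node (.node twoKind26 twoKind154) (.node twoKind90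 twoKind218)) (.node (.node twoKind58 twoKind186) (.node twoKind122 twoKind250))))) (.node (.node (.node (.node (.node twoKind6 twoKind134) (.node twoKind70 twoKind198)) (.node (.node twoKind38 twoKind166) (.node twoKind102 twoKind230))) (.node (.node (.node twoKind22 twoKind150) (.node twoKind86 twoKind214)) (.node (.node twoKind54 twoKind182) (.node twoKind118 twoKind246)))) (.node (.node (.node (.node twoKind14 twoKind142) (.node twoKind78 twoKind206)) (.node (.node twoKind46 twoKind174) (.node twoKind110 twoKind238))) (.node (.node (.node twoKind30 twoKind158) (.node twoKind94 twoKind222)) (.node (.node twoKind62 twoKind190) (.node twoKind126 twoKind254))))))) (.node (.node (.node (.node (.node (.node (.node twoKind1 twoKind129) (.node twoKind65 twoKind193)) (.node (.node twoKind33 twoKind161) (.node twoKind97 twoKind225))) (.node (.node (.node twoKind17 twoKind145) (.node twoKind81 twoKind209)) (.node (.node twoKind49 twoKind177) (.node twoKind113 twoKind241)))) (.node (.node (.node (.node twoKind9 twoKind137)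 (.node twoKind73 twoKind201)) (.node (.node twoKind41 twoKind169) (.node twoKind105 twoKind233))) (.node (.node (.node twoKind25 twoKind153) (.node twoKind89 twoKind217)) (.node (.node twoKind57 twoKind185) (.node twoKind121 twoKind249))))) (.node (.node (.node (.node (.node twoKind5 twoKind133) (.node twoKind69 twoKind197)) (.node (.node twoKind37 twoKind165) (.node twoKind101 twoKind229))) (.node (.node (.node twoKind21 twoKind149) (.node twoKind85 twoKind213)) (.node (.node twoKind53 twoKind181) (.node twoKind117 twoKind245)))) (.node (.node (.node (.node twoKind13 twoKind141) (.node twoKind77 twoKind205)) (.node (.node twoKind45 twoKind173) (.node twoKind109 twoKind237))) (.node (.node (.node twoKind29 twoKind157) (.node twoKind93 twoKind221)) (.node (.node twoKind61 twoKind189) (.node twoKind125 twoKind253)))))) (.node (.node (.node (.node (.node (.node twoKind3 twoKind131) (.node twoKind67 twoKind195)) (.node (.node twoKind35 twoKind163) (.node twoKind99 twoKind227))) (.node (.node (.node twoKind19 twoKind147)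 (.node twoKind83 twoKind211)) (.node (.node twoKind51 twoKind179) (.node twoKind115 twoKind243)))) (.node (.node (.node (.node twoKind11 twoKind139) (.node twoKind75 twoKind203)) (.node (.node twoKind43 twoKind171) (.node twoKind107 twoKind235))) (.node (.node (.node twoKind27 twoKind155) (.node twoKind91 twoKind219)) (.node (.node twoKind59 twoKind187) (.node twoKind123 twoKind251))))) (.node (.node (.node (.node (.node twoKind7 twoKind135) (.node twoKind71 twoKind199)) (.node (.node twoKind39 twoKind167) (.node twoKind103 twoKind231))) (.node (.node (.node twoKind23 twoKind151) (.node twoKind87 twoKind215)) (.node (.node twoKind55 twoKind183) (.node twoKind119 twoKind247)))) (.node (.node (.node (.node twoKind15 twoKind143) (.node twoKind79 twoKind207)) (.node (.node twoKind47 twoKind175) (.node twoKind111 twoKind239))) (.node (.node (.node twoKind31 twoKind159) (.node twoKind95 twoKind223)) (.node (.node twoKind63 twoKind191) (.node twoKind127 twoKind255))))))))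

def twoRank0 : Janko.Tree (ℕ) :=
  (.node (.node (.node (.node (.node (.node (.node (.leaf 0) (.leaf 4095)) (.leaf 3545)) (.node (.leaf 2344) (.leaf 4311))) (.node (.node (.leaf 4833) (.leaf 4415)) (.node (.leaf 2957) (.leaf 4208)))) (.node (.node (.node (.leaf 737) (.leaf 4462)) (.node (.leaf 10075) (.leaf 14323))) (.node (.node (.leaf 12877) (.leaf 8209)) (.node (.leaf 4570) (.leaf 15238))))) (.node (.node (.node (.node (.leaf 7439) (.leaf 3644)) (.node (.leaf 4702) (.leaf 4285))) (.node (.node (.leaf 4806) (.leaf 12457)) (.node (.leaf 16294) (.leaf 9364)))) (.node (.node (.node (.leaf 1053) (.leaf 14230)) (.node (.leaf 15641) (.leaf 10002))) (.node (.node (.leaf 8884) (.leaf 14264)) (.node (.leaf 8686) (.leaf 8651)))))) (.node (.node (.node (.node (.node (.leaf 4932) (.leaf 3590)) (.node (.leaf 14119) (.leaf 10905))) (.node (.node (.leaf 4821) (.leaf 13543)) (.node (.leaf 16147) (.leaf 15227)))) (.node (.node (.node (.leaf 906) (.leaf 4452)) (.node (.leaf 4660) (.leaf 15530))) (.node (.node (.leaf 13054)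 (.leaf 3869)) (.node (.leaf 7572) (.leaf 9931))))) (.node (.node (.node (.node (.leaf 4903) (.leaf 3675)) (.node (.leaf 9651) (.leaf 13258))) (.node (.node (.leaf 1743) (.leaf 4379)) (.node (.leaf 4584) (.leaf 9909)))) (.node (.node (.node (.leaf 14850) (.leaf 4427)) (.node (.leaf 2833) (.leaf 12584))) (.node (.node (.leaf 16047) (.leaf 10954)) (.node (.leaf 15994) (.leaf 12785)))))))

def twoRank1 : Janko.Tree (ℕ) :=
  (.node (.node (.node (.node (.node (.node (.node (.leaf 1) (.leaf 4947)) (.leaf 5474)) (.node (.leaf 5728) (.leaf 15809))) (.node (.node (.leaf 7936) (.leaf 12170)) (.node (.leaf 8936) (.leaf 8305)))) (.node (.node (.node (.leaf 5929) (.leaf 14227)) (.node (.leaf 5662) (.leaf 9549))) (.node (.node (.leaf 1879) (.leaf 5276)) (.node (.leaf 11248) (.leaf 5013))))) (.node (.node (.node (.node (.leaf 400) (.leaf 9870)) (.node (.leaf 2504) (.leaf 13636))) (.node (.node (.leaf 1600) (.leaf 12135)) (.node (.leaf 8744) (.leaf 9362)))) (.node (.node (.node (.leaf 1054) (.leaf 11360)) (.node (.leaf 7167)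 (.leaf 11729))) (.node (.node (.leaf 8882) (.leaf 5245)) (.node (.leaf 11181) (.leaf 4980)))))) (.node (.node (.node (.node (.node (.leaf 207) (.leaf 8149)) (.node (.leaf 9426) (.leaf 10642))) (.node (.node (.leaf 1451) (.leaf 11128)) (.node (.leaf 3055) (.leaf 5062)))) (.node (.node (.node (.leaf 907) (.leaf 8872)) (.node (.leaf 8806) (.leaf 12962))) (.node (.node (.leaf 2015) (.leaf 5262)) (.node (.leaf 3387) (.leaf 9929))))) (.node (.node (.node (.node (.leaf 564) (.leaf 14022)) (.node (.leaf 5678) (.leaf 4038))) (.node (.node (.leaf 5815) (.leaf 10007)) (.node (.leaf 3232) (.leaf 5030)))) (.node (.node (.node (.leaf 1187) (.leaf 12649)) (.node (.leaf 2834) (.leaf 5091))) (.node (.node (.leaf 2238) (.leaf 5230)) (.node (.leaf 5485) (.leaf 4966)))))))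

def twoRank2 : Janko.Tree (ℕ) :=
  (.node (.node (.node (.node (.node (.node (.node (.leaf 2) (.leaf 5990)) (.leaf 16297)) (.node (.leaf 2345) (.leaf 16131))) (.node (.node (.leaf 7905) (.leaf 10429)) (.node (.leaf 6867) (.leaf 8268)))) (.node (.node (.node (.leaf 738) (.leaf 13929)) (.node (.leaf 12831) (.leaf 10223))) (.node (.node (.leaf 14314) (.leaf 13592)) (.node (.leaf 11635) (.leaf 11697))))) (.node (.node (.node (.node (.leaf 6790) (.leaf 3645)) (.node (.leaf 8031) (.leaf 16033))) (.node (.node (.leaf 7627) (.leaf 6271)) (.node (.leaf 3160) (.leaf 13050)))) (.node (.node (.node (.leaf 1055) (.leaf 14252)) (.node (.leaf 6531) (.leaf 9968))) (.node (.node (.leaf 8838) (.leaf 13421)) (.node (.leaf 6430) (.leaf 13424)))))) (.node (.node (.node (.node (.node (.leaf 208) (.leaf 16453)) (.node (.leaf 6878) (.leaf 10738))) (.node (.node (.leaf 7048) (.leaf 14918)) (.node (.leaf 6493) (.leaf 16374)))) (.node (.node (.node (.leaf 6746) (.leaf 7958)) (.node (.leaf 7929) (.leaf 6120))) (.node (.node (.leaf 6644)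 (.leaf 11321)) (.node (.leaf 6442) (.leaf 6026))))) (.node (.node (.node (.node (.leaf 7030) (.leaf 6365)) (.node (.leaf 9812) (.leaf 10437))) (.node (.node (.leaf 1744) (.leaf 10033)) (.node (.leaf 7829) (.leaf 12799)))) (.node (.node (.node (.leaf 6718) (.leaf 8067)) (.node (.leaf 6517) (.leaf 12156))) (.node (.node (.leaf 2239) (.leaf 11457)) (.node (.leaf 3495) (.leaf 12586)))))))

def twoRank3 : Janko.Tree (ℕ) :=
  (.node (.node (.node (.node (.node (.node (.node (.leaf 3) (.leaf 6821)) (.leaf 9583)) (.node (.leaf 9311) (.leaf 13870))) (.node (.node (.leaf 7907) (.leaf 12172)) (.node (.leaf 6865) (.leaf 9590)))) (.node (.node (.node (.leaf 739) (.leaf 14559)) (.node (.leaf 2662) (.leaf 6833))) (.node (.node (.leaf 1880) (.leaf 15920)) (.node (.leaf 3304) (.leaf 9541))))) (.node (.node (.node (.node (.leaf 401) (.leaf 13289)) (.node (.leaf 2505) (.leaf 16027))) (.node (.node (.leaf 1601) (.leaf 16284)) (.node (.leaf 7074) (.leaf 14153)))) (.node (.node (.node (.leaf 1056) (.leaf 14991)) (.node (.leaf 16046)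 (.leaf 9970))) (.node (.node (.leaf 2136) (.leaf 14696)) (.node (.leaf 3447) (.leaf 11959)))))) (.node (.node (.node (.node (.node (.leaf 209) (.leaf 11356)) (.node (.leaf 6876) (.leaf 8446))) (.node (.node (.leaf 1452) (.leaf 9298)) (.node (.leaf 16070) (.leaf 10500)))) (.node (.node (.node (.leaf 908) (.leaf 8888)) (.node (.leaf 8808) (.leaf 15459))) (.node (.node (.leaf 2016) (.leaf 3870)) (.node (.leaf 3388) (.leaf 9927))))) (.node (.node (.node (.node (.leaf 565) (.leaf 14845)) (.node (.leaf 2583) (.leaf 15143))) (.node (.node (.leaf 10325) (.leaf 14063)) (.node (.leaf 3233) (.leaf 8391)))) (.node (.node (.node (.leaf 1188) (.leaf 12856)) (.node (.leaf 2835) (.leaf 11199))) (.node (.node (.leaf 2240) (.leaf 3943)) (.node (.leaf 15998) (.leaf 11376)))))))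

def twoRank4 : Janko.Tree (ℕ) :=
  (.node (.node (.node (.node (.node (.node (.node (.leaf 4946) (.leaf 6822)) (.leaf 16010)) (.node (.leaf 14727) (.leaf 3975))) (.node (.node (.leaf 1329) (.leaf 3785)) (.node (.leaf 4621) (.leaf 8266)))) (.node (.node (.node (.leaf 740) (.leaf 14281)) (.node (.leaf 9368) (.leaf 9178))) (.node (.node (.leaf 4780) (.leaf 14525)) (.node (.leaf 14721) (.leaf 16097))))) (.node (.node (.node (.node (.leaf 402) (.leaf 3646)) (.node (.leaf 8048) (.leaf 10246))) (.node (.node (.leaf 1602) (.leaf 13895)) (.node (.leaf 4596) (.leaf 11812)))) (.node (.node (.node (.leaf 4859) (.leaf 4440)) (.node (.leaf 10654) (.leaf 12766))) (.node (.node (.leaf 4756) (.leaf 16058)) (.node (.leaf 14808) (.leaf 11132)))))) (.node (.node (.node (.node (.node (.leaf 210) (.leaf 4500)) (.node (.leaf 4716) (.leaf 11303))) (.node (.node (.leaf 7531) (.leaf 4404)) (.node (.leaf 11298) (.leaf 14150)))) (.node (.node (.node (.leaf 16169) (.leaf 13328)) (.node (.leaf 11960) (.leaf 16127))) (.node (.node (.leaf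 8935) (.leaf 7566)) (.node (.leaf 3389) (.leaf 15858))))) (.node (.node (.node (.node (.leaf 8852) (.leaf 9097)) (.node (.leaf 10497) (.leaf 12839))) (.node (.node (.leaf 1745) (.leaf 10051)) (.node (.leaf 8125) (.leaf 13382)))) (.node (.node (.node (.leaf 12507) (.leaf 15732)) (.node (.leaf 14130) (.leaf 8340))) (.node (.node (.leaf 4742) (.leaf 15381)) (.node (.leaf 16276) (.leaf 13290)))))))

def twoRank5 : Janko.Tree (ℕ) :=
  (.node (.node (.node (.node (.node (.node (.node (.leaf 4) (.leaf 6906)) (.leaf 8714)) (.node (.leaf 2346) (.leaf 5210))) (.node (.node (.leaf 1330) (.leaf 5343)) (.node (.leaf 7859) (.leaf 15792)))) (.node (.node (.node (.leaf 741) (.leaf 13948)) (.node (.leaf 5661) (.leaf 9474))) (.node (.node (.leaf 1881) (.leaf 13641)) (.node (.leaf 3305) (.leaf 5012))))) (.node (.node (.node (.node (.leaf 403) (.leaf 3647)) (.node (.leaf 8024) (.leaf 13634))) (.node (.node (.leaf 5833) (.leaf 8082)) (.node (.leaf 10908) (.leaf 9616)))) (.node (.node (.node (.leaf 1057) (.leaf 11594)) (.node (.leaf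 5630) (.leaf 5107))) (.node (.node (.leaf 2137) (.leaf 15657)) (.node (.leaf 14803) (.leaf 9987)))))) (.node (.node (.node (.node (.node (.leaf 5974) (.leaf 7096)) (.node (.leaf 2440) (.leaf 9464))) (.node (.node (.leaf 5846) (.leaf 8433)) (.node (.leaf 5582) (.leaf 9916)))) (.node (.node (.node (.leaf 909) (.leaf 9524)) (.node (.leaf 9166) (.leaf 5129))) (.node (.node (.leaf 2017) (.leaf 3871)) (.node (.leaf 3390) (.leaf 4995))))) (.node (.node (.node (.node (.leaf 5944) (.leaf 11160)) (.node (.leaf 5677) (.leaf 5163))) (.node (.node (.leaf 1746) (.leaf 10020)) (.node (.leaf 5546) (.leaf 9600)))) (.node (.node (.node (.leaf 1189) (.leaf 14952)) (.node (.leaf 2836) (.leaf 13129))) (.node (.node (.leaf 7113) (.leaf 3944)) (.node (.leaf 15742) (.leaf 4965)))))))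

def twoRank6 : Janko.Tree (ℕ) :=
  (.node (.node (.node (.node (.node (.node (.node (.leaf 5) (.leaf 6960)) (.leaf 3546)) (.node (.leaf 6607) (.leaf 16346))) (.node (.node (.leaf 1331) (.leaf 12166)) (.node (.leaf 7066) (.leaf 6088)))) (.node (.node (.node (.leaf 10042) (.leaf 6348)) (.node (.leaf 9377) (.leaf 6132))) (.node (.node (.leaf 1882) (.leaf 15183)) (.node (.leaf 14723) (.leaf 11884))))) (.node (.node (.node (.node (.leaf 404) (.leaf 16443)) (.node (.leaf 6582) (.leaf 6162))) (.node (.node (.leaf 1603) (.leaf 6270)) (.node (.leaf 10462) (.leaf 13384)))) (.node (.node (.node (.leaf 10289) (.leaf 8483)) (.node (.leaf 10867) (.leaf 13329))) (.node (.node (.leaf 7105) (.leaf 16060)) (.node (.leaf 9756) (.leaf 13109)))))) (.node (.node (.node (.node (.node (.leaf 211) (.leaf 3591)) (.node (.leaf 7828) (.leaf 6177))) (.node (.node (.leaf 7528) (.leaf 9371)) (.node (.leaf 11006) (.leaf 16061)))) (.node (.node (.node (.leaf 910) (.leaf 13475)) (.node (.leaf 11895) (.leaf 16293))) (.node (.node (.leaf 2018)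 (.leaf 6229)) (.node (.leaf 3391) (.leaf 13419))))) (.node (.node (.node (.node (.leaf 566) (.leaf 8889)) (.node (.leaf 7277) (.leaf 16409))) (.node (.node (.leaf 6668) (.leaf 12529)) (.node (.leaf 8603) (.leaf 6049)))) (.node (.node (.node (.leaf 1190) (.leaf 15734)) (.node (.leaf 12087) (.leaf 6099))) (.node (.node (.leaf 2241) (.leaf 15650)) (.node (.leaf 3496) (.leaf 11259)))))))

def twoRank7 : Janko.Tree (ℕ) :=
  (.node (.node (.node (.node (.node (.node (.node (.leaf 6) (.leaf 6963)) (.leaf 13854)) (.node (.leaf 2347) (.leaf 15653))) (.node (.node (.leaf 1332) (.leaf 9507)) (.node (.leaf 2958) (.leaf 16277)))) (.node (.node (.node (.leaf 742) (.leaf 14826)) (.node (.leaf 13055) (.leaf 9176))) (.node (.node (.leaf 14475) (.leaf 6924)) (.node (.leaf 8444) (.leaf 10558))))) (.node (.node (.node (.node (.leaf 405) (.leaf 8988)) (.node (.leaf 7374) (.leaf 14846))) (.node (.node (.leaf 1604) (.leaf 6916)) (.node (.leaf 9283) (.leaf 9614)))) (.node (.node (.node (.leaf 1058) (.leaf 9537)) (.node (.leaf 10924)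 (.leaf 14836))) (.node (.node (.leaf 12102) (.leaf 16103)) (.node (.leaf 7060) (.leaf 8625)))))) (.node (.node (.node (.node (.node (.leaf 212) (.leaf 10719)) (.node (.leaf 8518) (.leaf 10855))) (.node (.node (.leaf 14623) (.leaf 9293)) (.node (.leaf 3056) (.leaf 9914)))) (.node (.node (.node (.leaf 911) (.leaf 7960)) (.node (.leaf 7913) (.leaf 13631))) (.node (.node (.leaf 2019) (.leaf 12164)) (.node (.leaf 11625) (.leaf 14731))))) (.node (.node (.node (.node (.leaf 567) (.leaf 7737)) (.node (.leaf 2584) (.leaf 4039))) (.node (.node (.leaf 1747) (.leaf 14390)) (.node (.leaf 15011) (.leaf 13493)))) (.node (.node (.node (.leaf 1191) (.leaf 7464)) (.node (.leaf 2837) (.leaf 10038))) (.node (.node (.leaf 2242) (.leaf 9397)) (.node (.leaf 3497) (.leaf 9045)))))))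

def twoRank8 : Janko.Tree (ℕ) :=
  (.node (.node (.node (.node (.node (.node (.node (.leaf 7) (.leaf 6970)) (.leaf 3547)) (.node (.leaf 2348) (.leaf 13746))) (.node (.node (.leaf 4832) (.leaf 10998)) (.node (.leaf 7282) (.leaf 12004)))) (.node (.node (.node (.leaf 4887) (.leaf 12587)) (.node (.leaf 9990) (.leaf 14445))) (.node (.node (.leaf 1883) (.leaf 11203)) (.node (.leaf 3306) (.leaf 15983))))) (.node (.node (.node (.node (.leaf 7535) (.leaf 4486)) (.node (.leaf 16165) (.leaf 7358))) (.node (.node (.leaf 12844) (.leaf 4390)) (.node (.leaf 10853) (.leaf 10792)))) (.node (.node (.node (.leaf 16244) (.leaf 8489)) (.node (.leaf 11423) (.leaf 13340))) (.node (.node (.leaf 2138) (.leaf 11946)) (.node (.leaf 4541) (.leaf 14334)))))) (.node (.node (.node (.node (.node (.leaf 213) (.leaf 15916)) (.node (.leaf 8118) (.leaf 15129))) (.node (.node (.leaf 14101) (.leaf 4403)) (.node (.leaf 10254) (.leaf 4192)))) (.node (.node (.node (.leaf 4873) (.leaf 13317)) (.node (.leaf 13517) (.leaf 15190))) (.node (.node (.leaf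 10443) (.leaf 3872)) (.node (.leaf 14299) (.leaf 16248))))) (.node (.node (.node (.node (.leaf 568) (.leaf 7663)) (.node (.leaf 10519) (.leaf 13835))) (.node (.node (.leaf 1748) (.leaf 4378)) (.node (.leaf 3234) (.leaf 14073)))) (.node (.node (.node (.leaf 1192) (.leaf 7250)) (.node (.leaf 4635) (.leaf 4225))) (.node (.node (.leaf 2243) (.leaf 4322)) (.node (.leaf 4527) (.leaf 9873)))))))

def twoRank9 : Janko.Tree (ℕ) :=
  (.node (.node (.node (.node (.node (.node (.node (.leaf 5989) (.leaf 7208)) (.leaf 8131)) (.node (.leaf 2349) (.leaf 13748))) (.node (.node (.leaf 9532) (.leaf 10206)) (.node (.leaf 5600) (.leaf 5078)))) (.node (.node (.node (.leaf 743) (.leaf 3705)) (.node (.leaf 2663) (.leaf 13533))) (.node (.node (.leaf 1884) (.leaf 5275)) (.node (.leaf 5532) (.leaf 9563))))) (.node (.node (.node (.node (.leaf 5960) (.leaf 12976)) (.node (.leaf 2506) (.leaf 5181))) (.node (.node (.leaf 1605) (.leaf 15698)) (.node (.leaf 7832) (.leaf 5045)))) (.node (.node (.node (.leaf 5899) (.leaf 7853)) (.node (.leaf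 9134) (.leaf 11981))) (.node (.node (.leaf 5761) (.leaf 14839)) (.node (.leaf 11686) (.leaf 4979)))))) (.node (.node (.node (.node (.node (.leaf 214) (.leaf 5459)) (.node (.leaf 5709) (.leaf 14717))) (.node (.node (.leaf 1453) (.leaf 12631)) (.node (.leaf 3057) (.leaf 10062)))) (.node (.node (.node (.leaf 912) (.leaf 12794)) (.node (.leaf 13230) (.leaf 11662))) (.node (.node (.leaf 5780) (.leaf 12956)) (.node (.leaf 5517) (.leaf 16246))))) (.node (.node (.node (.node (.leaf 569) (.leaf 11956)) (.node (.leaf 2585) (.leaf 4040))) (.node (.node (.leaf 7891) (.leaf 13996)) (.node (.leaf 11180) (.leaf 15029)))) (.node (.node (.node (.leaf 5881) (.leaf 10751)) (.node (.leaf 2838) (.leaf 12379))) (.node (.node (.leaf 5744) (.leaf 11788)) (.node (.leaf 12917) (.leaf 12025)))))))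

def twoRank10 : Janko.Tree (ℕ) :=
  (.node (.node (.node (.node (.node (.node (.node (.leaf 8) (.leaf 7296)) (.leaf 3548)) (.node (.leaf 2350) (.leaf 14250))) (.node (.node (.leaf 1333) (.leaf 6294)) (.node (.leaf 7755) (.leaf 8064)))) (.node (.node (.node (.leaf 7023) (.leaf 9415)) (.node (.leaf 10086) (.leaf 14083))) (.node (.node (.leaf 6656) (.leaf 10417)) (.node (.leaf 3307) (.leaf 15178))))) (.node (.node (.node (.node (.leaf 7441) (.leaf 12963)) (.node (.leaf 10300) (.leaf 8019))) (.node (.node (.leaf 1606) (.leaf 7192)) (.node (.leaf 6479) (.leaf 11533)))) (.node (.node (.node (.leaf 1059) (.leaf 6320)) (.node (.leaf 8963) (.leaf 11688))) (.node (.node (.leaf 2139) (.leaf 6219)) (.node (.leaf 10967) (.leaf 14032)))))) (.node (.node (.node (.node (.node (.leaf 215) (.leaf 10562)) (.node (.leaf 7816) (.leaf 15132))) (.node (.node (.leaf 6899) (.leaf 16454)) (.node (.leaf 10261) (.leaf 7421)))) (.node (.node (.node (.leaf 913) (.leaf 9503)) (.node (.leaf 6543) (.leaf 11660))) (.node (.node (.leaf 8348)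 (.leaf 16212)) (.node (.leaf 14284) (.leaf 15351))))) (.node (.node (.node (.node (.leaf 6905) (.leaf 6364)) (.node (.leaf 2586) (.leaf 11049))) (.node (.node (.leaf 7463) (.leaf 15721)) (.node (.leaf 3235) (.leaf 14075)))) (.node (.node (.node (.leaf 10499) (.leaf 6307)) (.node (.leaf 2839) (.leaf 8339))) (.node (.node (.leaf 12100) (.leaf 15052)) (.node (.leaf 6965) (.leaf 13554)))))))

def twoRank11 : Janko.Tree (ℕ) :=
  (.node (.node (.node (.node (.node (.node (.node (.leaf 9) (.leaf 7302)) (.leaf 9159)) (.node (.leaf 2351) (.leaf 13999))) (.node (.node (.leaf 1334) (.leaf 10114)) (.node (.leaf 7763) (.leaf 9006)))) (.node (.node (.node (.leaf 744) (.leaf 15458)) (.node (.leaf 7165) (.leaf 13365))) (.node (.node (.leaf 14180) (.leaf 3821)) (.node (.leaf 10747) (.leaf 12291))))) (.node (.node (.node (.node (.leaf 406) (.leaf 14001)) (.node (.leaf 8033) (.leaf 8005))) (.node (.node (.leaf 1607) (.leaf 14759)) (.node (.leaf 6921) (.leaf 10772)))) (.node (.node (.node (.leaf 1060) (.leaf 14612)) (.node (.leaf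 8961) (.leaf 14730))) (.node (.node (.leaf 2140) (.leaf 14698)) (.node (.leaf 3448) (.leaf 8465)))))) (.node (.node (.node (.node (.node (.leaf 216) (.leaf 10414)) (.node (.leaf 8136) (.leaf 11013))) (.node (.node (.leaf 6897) (.leaf 10199)) (.node (.leaf 7070) (.leaf 10188)))) (.node (.node (.node (.leaf 914) (.leaf 13302)) (.node (.leaf 2715) (.leaf 15194))) (.node (.node (.leaf 2020) (.leaf 13574)) (.node (.leaf 14480) (.leaf 13709))))) (.node (.node (.node (.node (.leaf 6903) (.leaf 12829)) (.node (.leaf 10511) (.leaf 15324))) (.node (.node (.leaf 1749) (.leaf 14533)) (.node (.leaf 6949) (.leaf 13897)))) (.node (.node (.node (.leaf 1193) (.leaf 12665)) (.node (.leaf 2840) (.leaf 10112))) (.node (.node (.leaf 10874) (.leaf 15076)) (.node (.leaf 12487) (.leaf 10559)))))))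

def twoRank12 : Janko.Tree (ℕ) :=
  (.node (.node (.node (.node (.node (.node (.node (.leaf 10) (.leaf 7324)) (.leaf 3549)) (.node (.leaf 2352) (.leaf 4310))) (.node (.node (.leaf 1335) (.leaf 13095)) (.node (.leaf 2959) (.leaf 4207)))) (.node (.node (.node (.leaf 745) (.leaf 16140)) (.node (.leaf 15299) (.leaf 7690))) (.node (.node (.leaf 8643) (.leaf 11190)) (.node (.leaf 3308) (.leaf 11854))))) (.node (.node (.node (.node (.leaf 7137) (.leaf 15457)) (.node (.leaf 2507) (.leaf 13345))) (.node (.node (.leaf 1608) (.leaf 15228)) (.node (.leaf 3161) (.leaf 10371)))) (.node (.node (.node (.leaf 10281) (.leaf 4439)) (.node (.leaf 4648) (.leaf 13969))) (.node (.node (.leaf 2141) (.leaf 3920)) (.node (.leaf 11179) (.leaf 10999)))))) (.node (.node (.node (.node (.node (.leaf 4931) (.leaf 3592)) (.node (.leaf 7343) (.leaf 12094))) (.node (.node (.leaf 1454) (.leaf 14514)) (.node (.leaf 4607) (.leaf 4191)))) (.node (.node (.node (.leaf 915) (.leaf 13727)) (.node (.leaf 12424) (.leaf 16451))) (.node (.node (.leaf 2021)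 (.leaf 4346)) (.node (.leaf 14901) (.leaf 4137))))) (.node (.node (.node (.node (.leaf 4902) (.leaf 15878)) (.node (.leaf 4690) (.leaf 4273))) (.node (.node (.leaf 1750) (.leaf 15909)) (.node (.leaf 4583) (.leaf 11569)))) (.node (.node (.node (.leaf 7512) (.leaf 14202)) (.node (.leaf 2841) (.leaf 11364))) (.node (.node (.leaf 2244) (.leaf 3945)) (.node (.leaf 8534) (.leaf 12697)))))))

def twoRank13 : Janko.Tree (ℕ) :=
  (.node (.node (.node (.node (.node (.node (.node (.leaf 11) (.leaf 7712)) (.leaf 5473)) (.node (.leaf 5727) (.leaf 10978))) (.node (.node (.leaf 5864) (.leaf 11281)) (.node (.leaf 2960) (.leaf 12723)))) (.node (.node (.node (.leaf 5928) (.leaf 5410)) (.node (.leaf 5660) (.leaf 5145))) (.node (.node (.leaf 1885) (.leaf 10928)) (.node (.leaf 3309) (.leaf 14029))))) (.node (.node (.node (.node (.leaf 407) (.leaf 5441)) (.node (.leaf 5692) (.leaf 5180))) (.node (.node (.leaf 5832) (.leaf 5307)) (.node (.leaf 11421) (.leaf 10367)))) (.node (.node (.node (.leaf 1061) (.leaf 8561)) (.node (.leaf 8215)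 (.leaf 15289))) (.node (.node (.leaf 2142) (.leaf 13423)) (.node (.leaf 11920) (.leaf 4978)))))) (.node (.node (.node (.node (.node (.leaf 217) (.leaf 10962)) (.node (.leaf 10735) (.leaf 11072))) (.node (.node (.leaf 5845) (.leaf 13505)) (.node (.leaf 13564) (.leaf 10181)))) (.node (.node (.node (.leaf 916) (.leaf 11400)) (.node (.leaf 2716) (.leaf 14465))) (.node (.node (.leaf 8316) (.leaf 3873)) (.node (.leaf 3392) (.leaf 11753))))) (.node (.node (.node (.node (.leaf 570) (.leaf 12497)) (.node (.leaf 10503) (.leaf 16015))) (.node (.node (.leaf 5814) (.leaf 5287)) (.node (.leaf 8837) (.leaf 10770)))) (.node (.node (.node (.leaf 1194) (.leaf 9548)) (.node (.leaf 2842) (.leaf 5090))) (.node (.node (.leaf 2245) (.leaf 13441)) (.node (.leaf 5484) (.leaf 4964)))))))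

def twoRank14 : Janko.Tree (ℕ) :=
  (.node (.node (.node (.node (.node (.node (.node (.leaf 6820) (.leaf 8095)) (.leaf 12709)) (.node (.leaf 2353) (.leaf 8690))) (.node (.node (.leaf 1336) (.leaf 12151)) (.node (.leaf 8344) (.leaf 14562)))) (.node (.node (.node (.leaf 8824) (.leaf 16144)) (.node (.leaf 15301) (.leaf 12498))) (.node (.node (.leaf 8649) (.leaf 6244)) (.node (.leaf 3310) (.leaf 6038))))) (.node (.node (.node (.node (.leaf 7138) (.leaf 14009)) (.node (.leaf 13597) (.leaf 12000))) (.node (.node (.leaf 1609) (.leaf 15700)) (.node (.leaf 3162) (.leaf 11958)))) (.node (.node (.node (.leaf 6730) (.leaf 7942)) (.node (.leaf 10872) (.leaf 14590))) (.node (.node (.leaf 10285) (.leaf 11446)) (.node (.leaf 6429) (.leaf 12570)))))) (.node (.node (.node (.node (.node (.leaf 218) (.leaf 6389)) (.node (.leaf 6594) (.leaf 6176))) (.node (.node (.leaf 1455) (.leaf 3797)) (.node (.leaf 3058) (.leaf 16249)))) (.node (.node (.node (.leaf 6745) (.leaf 13353)) (.node (.leaf 9237) (.leaf 15810))) (.node (.node (.leaf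 2022) (.leaf 7331)) (.node (.leaf 6441) (.leaf 13702))))) (.node (.node (.node (.node (.leaf 7046) (.leaf 16295)) (.node (.leaf 7679) (.leaf 11699))) (.node (.node (.leaf 1751) (.leaf 15907)) (.node (.leaf 8772) (.leaf 13864)))) (.node (.node (.node (.leaf 6717) (.leaf 13695)) (.node (.leaf 6516) (.leaf 15828))) (.node (.node (.leaf 6619) (.leaf 6204)) (.node (.leaf 12985) (.leaf 11874)))))))

def twoRank15 : Janko.Tree (ℕ) :=
  (.node (.node (.node (.node (.node (.node (.node (.leaf 12) (.leaf 8448)) (.leaf 3550)) (.node (.leaf 2354) (.leaf 9930))) (.node (.node (.leaf 1337) (.leaf 10105)) (.node (.leaf 10878) (.leaf 11602)))) (.node (.node (.node (.leaf 746) (.leaf 16148)) (.node (.leaf 2664) (.leaf 13799))) (.node (.node (.leaf 1886) (.leaf 3822)) (.node (.leaf 3311) (.leaf 14579))))) (.node (.node (.node (.node (.leaf 7130) (.leaf 12966)) (.node (.leaf 10065) (.leaf 12287))) (.node (.node (.leaf 1610) (.leaf 11676)) (.node (.leaf 3163) (.leaf 10369)))) (.node (.node (.node (.leaf 1062) (.leaf 9967)) (.node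 (.leaf 2764) (.leaf 15978))) (.node (.node (.leaf 2143) (.leaf 3921)) (.node (.leaf 3449) (.leaf 11003)))))) (.node (.node (.node (.node (.node (.leaf 219) (.leaf 9919)) (.node (.leaf 2441) (.leaf 14656))) (.node (.node (.leaf 1456) (.leaf 8051)) (.node (.leaf 14683) (.leaf 13172)))) (.node (.node (.node (.leaf 917) (.leaf 8426)) (.node (.leaf 9235) (.leaf 14461))) (.node (.node (.leaf 2023) (.leaf 12484)) (.node (.leaf 3393) (.leaf 13699))))) (.node (.node (.node (.node (.leaf 571) (.leaf 13791)) (.node (.leaf 2587) (.leaf 14426))) (.node (.node (.leaf 1752) (.leaf 15986)) (.node (.leaf 3236) (.leaf 9016)))) (.node (.node (.node (.leaf 1195) (.leaf 12097)) (.node (.leaf 2843) (.leaf 15770))) (.node (.node (.leaf 14985) (.leaf 14662)) (.node (.leaf 3498) (.leaf 8451)))))))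

def twoRank16 : Janko.Tree (ℕ) :=
  (.node (.node (.node (.node (.node (.node (.node (.leaf 13) (.leaf 7332)) (.leaf 9981)) (.node (.leaf 7518) (.leaf 8692))) (.node (.node (.leaf 1338) (.leaf 9040)) (.node (.leaf 2961) (.leaf 7454)))) (.node (.node (.node (.leaf 747) (.leaf 13907)) (.node (.leaf 16105) (.leaf 12205))) (.node (.node (.leaf 1887) (.leaf 12258)) (.node (.leaf 4569) (.leaf 13812))))) (.node (.node (.node (.node (.leaf 4916) (.leaf 16187)) (.node (.leaf 12370) (.leaf 10296))) (.node (.node (.leaf 11613) (.leaf 10015)) (.node (.leaf 3164) (.leaf 4176)))) (.node (.node (.node (.leaf 1063) (.leaf 16437)) (.node (.leaf 4647) (.leaf 15731))) (.node (.node (.leaf 4755) (.leaf 3922)) (.node (.leaf 12433) (.leaf 11977)))))) (.node (.node (.node (.node (.node (.leaf 220) (.leaf 11207)) (.node (.leaf 2442) (.leaf 10120))) (.node (.node (.leaf 7214) (.leaf 13643)) (.node (.leaf 12836) (.leaf 4190)))) (.node (.node (.node (.leaf 918) (.leaf 4451)) (.node (.leaf 7911) (.leaf 4249))) (.node (.node (.leaf 7808)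 (.leaf 7233)) (.node (.leaf 4554) (.leaf 12800))))) (.node (.node (.node (.node (.leaf 572) (.leaf 4476)) (.node (.leaf 11963) (.leaf 15827))) (.node (.node (.leaf 7540) (.leaf 15977)) (.node (.leaf 14497) (.leaf 15820)))) (.node (.node (.node (.leaf 1196) (.leaf 4426)) (.node (.leaf 2844) (.leaf 14418))) (.node (.node (.leaf 8739) (.leaf 14909)) (.node (.leaf 11520) (.leaf 9796)))))))

def twoRank17 : Janko.Tree (ℕ) :=
  (.node (.node (.node (.node (.node (.node (.node (.leaf 14) (.leaf 7313)) (.leaf 8626)) (.node (.leaf 10373) (.leaf 12542))) (.node (.node (.leaf 1339) (.leaf 13480)) (.node (.leaf 10828) (.leaf 5077)))) (.node (.node (.node (.leaf 748) (.leaf 14085)) (.node (.leaf 16302) (.leaf 5144))) (.node (.node (.leaf 5797) (.leaf 3823)) (.node (.leaf 14944) (.leaf 10934))))) (.node (.node (.node (.node (.leaf 408) (.leaf 13871)) (.node (.leaf 12971) (.leaf 12969))) (.node (.node (.leaf 1611) (.leaf 5306)) (.node (.leaf 5565) (.leaf 15598)))) (.node (.node (.node (.leaf 6959) (.leaf 9125)) (.node (.leaf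 12708) (.leaf 5106))) (.node (.node (.leaf 2144) (.leaf 10935)) (.node (.leaf 3450) (.leaf 8591)))))) (.node (.node (.node (.node (.node (.leaf 5973) (.leaf 8163)) (.node (.leaf 2443) (.leaf 4001))) (.node (.node (.leaf 1457) (.leaf 5327)) (.node (.leaf 3059) (.leaf 8272)))) (.node (.node (.node (.leaf 8286) (.leaf 11260)) (.node (.leaf 5645) (.leaf 11918))) (.node (.node (.leaf 5779) (.leaf 5261)) (.node (.leaf 14438) (.leaf 12299))))) (.node (.node (.node (.node (.leaf 5943) (.leaf 15405)) (.node (.leaf 5676) (.leaf 5162))) (.node (.node (.leaf 1753) (.leaf 3811)) (.node (.leaf 3237) (.leaf 5029)))) (.node (.node (.node (.leaf 1197) (.leaf 15280)) (.node (.leaf 10880) (.leaf 11852))) (.node (.node (.leaf 5743) (.leaf 5229)) (.node (.leaf 8519) (.leaf 9798)))))))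

def twoRank18 : Janko.Tree (ℕ) :=
  (.node (.node (.node (.node (.node (.node (.node (.leaf 15) (.leaf 7309)) (.leaf 9952)) (.node (.leaf 6606) (.leaf 6189))) (.node (.node (.leaf 6707) (.leaf 6293)) (.node (.leaf 2962) (.leaf 13292)))) (.node (.node (.node (.leaf 6760) (.leaf 14024)) (.node (.leaf 6556) (.leaf 12015))) (.node (.node (.leaf 1888) (.leaf 7564)) (.node (.leaf 3312) (.leaf 12547))))) (.node (.node (.node (.node (.leaf 7122) (.leaf 6377)) (.node (.leaf 2508) (.leaf 4022))) (.node (.node (.leaf 6680) (.leaf 16192)) (.node (.leaf 3165) (.leaf 15812)))) (.node (.node (.node (.leaf 6880) (.leaf 3753)) (.node (.leaf 12712) (.leaf 14570))) (.node (.node (.leaf 6994) (.leaf 12918)) (.node (.leaf 11063) (.leaf 8635)))))) (.node (.node (.node (.node (.node (.leaf 221) (.leaf 7660)) (.node (.leaf 2444) (.leaf 4002))) (.node (.node (.leaf 6695) (.leaf 13495)) (.node (.leaf 6492) (.leaf 8869)))) (.node (.node (.node (.leaf 8980) (.leaf 9924)) (.node (.leaf 7927) (.leaf 11525))) (.node (.node (.leaf 7846) (.leaf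 12732)) (.node (.leaf 11721) (.leaf 13280))))) (.node (.node (.node (.node (.leaf 573) (.leaf 15213)) (.node (.leaf 2588) (.leaf 16441))) (.node (.node (.leaf 6667) (.leaf 6258)) (.node (.leaf 3238) (.leaf 11646)))) (.node (.node (.node (.leaf 1198) (.leaf 7247)) (.node (.leaf 10578) (.leaf 4078))) (.node (.node (.leaf 7848) (.leaf 13931)) (.node (.leaf 6415) (.leaf 9803)))))))

def twoRank19 : Janko.Tree (ℕ) :=
  (.node (.node (.node (.node (.node (.node (.node (.leaf 16) (.leaf 7065)) (.leaf 8596)) (.node (.leaf 15108) (.leaf 12214))) (.node (.node (.leaf 1340) (.leaf 12981)) (.node (.leaf 8213) (.leaf 16141)))) (.node (.node (.node (.leaf 749) (.leaf 3706)) (.node (.leaf 2665) (.leaf 11135))) (.node (.node (.leaf 14182) (.leaf 7038)) (.node (.leaf 15853) (.leaf 10936))))) (.node (.node (.node (.node (.leaf 15663) (.leaf 3648)) (.node (.leaf 2509) (.leaf 9610))) (.node (.node (.leaf 1612) (.leaf 14950)) (.node (.leaf 8775) (.leaf 16330)))) (.node (.node (.node (.leaf 1064) (.leaf 8143)) (.node (.leaf 13479)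 (.leaf 13504))) (.node (.node (.leaf 2145) (.leaf 9153)) (.node (.leaf 8731) (.leaf 15763)))))) (.node (.node (.node (.node (.node (.leaf 222) (.leaf 10694)) (.node (.leaf 8915) (.leaf 8604))) (.node (.node (.leaf 1458) (.leaf 3798)) (.node (.leaf 3060) (.leaf 11158)))) (.node (.node (.node (.leaf 919) (.leaf 9103)) (.node (.leaf 9232) (.leaf 11916))) (.node (.node (.leaf 2024) (.leaf 3874)) (.node (.leaf 3394) (.leaf 9201))))) (.node (.node (.node (.node (.leaf 574) (.leaf 15913)) (.node (.leaf 2589) (.leaf 16011))) (.node (.node (.leaf 1754) (.leaf 15911)) (.node (.leaf 9514) (.leaf 11437)))) (.node (.node (.node (.leaf 1199) (.leaf 12760)) (.node (.leaf 10580) (.leaf 8070))) (.node (.node (.leaf 2246) (.leaf 14821)) (.node (.leaf 3499) (.leaf 7200)))))))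

def twoRank20 : Janko.Tree (ℕ) :=
  (.node (.node (.node (.node (.node (.node (.node (.leaf 17) (.leaf 8469)) (.leaf 15638)) (.node (.leaf 13611) (.leaf 16057))) (.node (.node (.leaf 1341) (.leaf 9717)) (.node (.leaf 4620) (.leaf 11385)))) (.node (.node (.node (.leaf 750) (.leaf 14273)) (.node (.leaf 4674) (.leaf 8492))) (.node (.node (.leaf 14737) (.leaf 4360)) (.node (.leaf 10008) (.leaf 12931))))) (.node (.node (.node (.node (.leaf 409) (.leaf 3649)) (.node (.leaf 11883) (.leaf 11720))) (.node (.node (.leaf 12212) (.leaf 8080)) (.node (.leaf 12091) (.leaf 12862)))) (.node (.node (.node (.leaf 1065) (.leaf 16375)) (.node (.leaf 12710) (.leaf 14074))) (.node (.node (.leaf 10909) (.leaf 3923)) (.node (.leaf 14748) (.leaf 8470)))))) (.node (.node (.node (.node (.node (.leaf 223) (.leaf 13456)) (.node (.leaf 4715) (.leaf 4299))) (.node (.node (.leaf 1459) (.leaf 10067)) (.node (.leaf 12588) (.leaf 14420)))) (.node (.node (.node (.leaf 4872) (.leaf 11287)) (.node (.leaf 2717) (.leaf 11523))) (.node (.node (.leaf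 2025) (.leaf 14703)) (.node (.leaf 10718) (.leaf 13697))))) (.node (.node (.node (.node (.leaf 575) (.leaf 4475)) (.node (.leaf 2590) (.leaf 9630))) (.node (.node (.leaf 16393) (.leaf 13759)) (.node (.leaf 4582) (.leaf 13116)))) (.node (.node (.node (.leaf 4847) (.leaf 11369)) (.node (.leaf 4634) (.leaf 4224))) (.node (.node (.leaf 7395) (.leaf 15462)) (.node (.leaf 3500) (.leaf 4108)))))))

def twoRank21 : Janko.Tree (ℕ) :=
  (.node (.node (.node (.node (.node (.node (.node (.leaf 5988) (.leaf 8471)) (.leaf 5472)) (.node (.leaf 2355) (.leaf 15009))) (.node (.node (.leaf 8200) (.leaf 9711)) (.node (.leaf 2963) (.leaf 5076)))) (.node (.node (.node (.leaf 751) (.leaf 5409)) (.node (.leaf 11432) (.leaf 16397))) (.node (.node (.leaf 1889) (.leaf 10470)) (.node (.leaf 5531) (.leaf 5011))))) (.node (.node (.node (.node (.leaf 5959) (.leaf 9759)) (.node (.leaf 5691) (.leaf 5179))) (.node (.node (.leaf 1613) (.leaf 5305)) (.node (.leaf 3166) (.leaf 12131)))) (.node (.node (.node (.leaf 5898) (.leaf 5377)) (.node (.leaf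 13315) (.leaf 12533))) (.node (.node (.leaf 5760) (.leaf 5244)) (.node (.leaf 3451) (.leaf 8687)))))) (.node (.node (.node (.node (.node (.leaf 224) (.leaf 5458)) (.node (.leaf 6956) (.leaf 10070))) (.node (.node (.leaf 1460) (.leaf 11712)) (.node (.leaf 3061) (.leaf 14064)))) (.node (.node (.node (.leaf 920) (.leaf 14932)) (.node (.leaf 11315) (.leaf 5128))) (.node (.node (.leaf 2026) (.leaf 3875)) (.node (.leaf 16106) (.leaf 10022))))) (.node (.node (.node (.node (.leaf 576) (.leaf 12397)) (.node (.leaf 2591) (.leaf 14978))) (.node (.node (.leaf 1755) (.leaf 13757)) (.node (.leaf 3239) (.leaf 5028)))) (.node (.node (.node (.leaf 1200) (.leaf 9844)) (.node (.leaf 2845) (.leaf 13264))) (.node (.node (.leaf 2247) (.leaf 3946)) (.node (.leaf 7732) (.leaf 10550)))))))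

def twoRank22 : Janko.Tree (ℕ) :=
  (.node (.node (.node (.node (.node (.node (.node (.leaf 18) (.leaf 9624)) (.leaf 14661)) (.node (.leaf 2356) (.leaf 12967))) (.node (.node (.leaf 8195) (.leaf 6292)) (.node (.leaf 7604) (.leaf 10710)))) (.node (.node (.node (.leaf 752) (.leaf 14235)) (.node (.leaf 15631) (.leaf 8494))) (.node (.node (.leaf 14739) (.leaf 10691)) (.node (.leaf 3313) (.leaf 12444))))) (.node (.node (.node (.node (.leaf 410) (.leaf 8298)) (.node (.leaf 2510) (.leaf 13946))) (.node (.node (.leaf 1614) (.leaf 14594)) (.node (.leaf 6478) (.leaf 11792)))) (.node (.node (.node (.leaf 1066) (.leaf 15226)) (.node (.leaf 6530) (.leaf 6113))) (.node (.node (.leaf 8893) (.leaf 3924)) (.node (.leaf 7178) (.leaf 10974)))))) (.node (.node (.node (.node (.node (.leaf 6805) (.leaf 3593)) (.node (.leaf 7561) (.leaf 4003))) (.node (.node (.leaf 1461) (.leaf 10133)) (.node (.leaf 9946) (.leaf 15122)))) (.node (.node (.node (.leaf 921) (.leaf 6336)) (.node (.leaf 2718) (.leaf 12228))) (.node (.node (.leaf 2027)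 (.leaf 3876)) (.node (.leaf 6440) (.leaf 16279))))) (.node (.node (.node (.node (.leaf 6775) (.leaf 7445)) (.node (.leaf 2592) (.leaf 9067))) (.node (.node (.leaf 1756) (.leaf 13761)) (.node (.leaf 7218) (.leaf 12858)))) (.node (.node (.node (.leaf 7510) (.leaf 6306)) (.node (.leaf 2846) (.leaf 12866))) (.node (.node (.leaf 6618) (.leaf 16460)) (.node (.leaf 15543) (.leaf 15500)))))))

def twoRank23 : Janko.Tree (ℕ) :=
  (.node (.node (.node (.node (.node (.node (.node (.leaf 19) (.leaf 7734)) (.leaf 8598)) (.node (.leaf 7050) (.leaf 3976))) (.node (.node (.leaf 1342) (.leaf 12978)) (.node (.leaf 14872) (.leaf 10704)))) (.node (.node (.node (.leaf 7116) (.leaf 3707)) (.node (.leaf 11430) (.leaf 12465))) (.node (.node (.leaf 1890) (.leaf 12154)) (.node (.leaf 9220) (.leaf 11134))))) (.node (.node (.node (.node (.leaf 411) (.leaf 9039)) (.node (.leaf 9032) (.leaf 13650))) (.node (.node (.leaf 1615) (.leaf 14070)) (.node (.leaf 10273) (.leaf 14603)))) (.node (.node (.node (.leaf 1067) (.leaf 9345)) (.node (.leaf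 2765) (.leaf 11680))) (.node (.node (.leaf 2146) (.leaf 10484)) (.node (.leaf 7180) (.leaf 12906)))))) (.node (.node (.node (.node (.node (.leaf 225) (.leaf 11819)) (.node (.leaf 14191) (.leaf 10078))) (.node (.node (.leaf 1462) (.leaf 9568)) (.node (.leaf 8597) (.leaf 10711)))) (.node (.node (.node (.leaf 922) (.leaf 9545)) (.node (.leaf 8210) (.leaf 11521))) (.node (.node (.leaf 2028) (.leaf 9262)) (.node (.leaf 16303) (.leaf 12037))))) (.node (.node (.node (.node (.leaf 577) (.leaf 12494)) (.node (.leaf 9019) (.leaf 15400))) (.node (.node (.leaf 1757) (.leaf 14751)) (.node (.leaf 14625) (.leaf 11427)))) (.node (.node (.node (.leaf 1201) (.leaf 11333)) (.node (.leaf 2847) (.leaf 14340))) (.node (.node (.leaf 2248) (.leaf 3947)) (.node (.leaf 7578) (.leaf 15504)))))))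

def twoRank24 : Janko.Tree (ℕ) :=
  (.node (.node (.node (.node (.node (.node (.node (.leaf 20) (.leaf 7007)) (.leaf 11236)) (.node (.leaf 4727) (.leaf 8610))) (.node (.node (.leaf 1343) (.leaf 4414)) (.node (.leaf 16455) (.leaf 12165)))) (.node (.node (.node (.leaf 4886) (.leaf 7656)) (.node (.leaf 2666) (.leaf 9472))) (.node (.node (.leaf 1891) (.leaf 12874)) (.node (.leaf 3314) (.leaf 12814))))) (.node (.node (.node (.node (.leaf 7126) (.leaf 16115)) (.node (.leaf 13856) (.leaf 14724))) (.node (.node (.leaf 1616) (.leaf 14555)) (.node (.leaf 8927) (.leaf 4175)))) (.node (.node (.node (.leaf 13752) (.leaf 16183)) (.node (.leaf 9508) (.leaf 4237))) (.node (.node (.leaf 2147) (.leaf 12211)) (.node (.leaf 4540) (.leaf 13742)))))) (.node (.node (.node (.node (.node (.leaf 226) (.leaf 7700)) (.node (.leaf 2445) (.leaf 4004))) (.node (.node (.leaf 4820) (.leaf 15119)) (.node (.leaf 11615) (.leaf 13377)))) (.node (.node (.node (.leaf 923) (.leaf 11253)) (.node (.leaf 4659) (.leaf 12925))) (.node (.node (.leaf 4767)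 (.leaf 3877)) (.node (.leaf 3395) (.leaf 4136))))) (.node (.node (.node (.node (.leaf 4901) (.leaf 9495)) (.node (.leaf 4689) (.leaf 4272))) (.node (.node (.leaf 4794) (.leaf 4377)) (.node (.leaf 3240) (.leaf 14539)))) (.node (.node (.node (.leaf 7285) (.leaf 13088)) (.node (.leaf 10582) (.leaf 9512))) (.node (.node (.leaf 14184) (.leaf 3948)) (.node (.leaf 4526) (.leaf 13220)))))))

def twoRank25 : Janko.Tree (ℕ) :=
  (.node (.node (.node (.node (.node (.node (.node (.leaf 21) (.leaf 7398)) (.leaf 5471)) (.node (.leaf 7906) (.leaf 5209))) (.node (.node (.leaf 5863) (.leaf 3786)) (.node (.leaf 5599) (.leaf 14575)))) (.node (.node (.node (.leaf 753) (.leaf 15934)) (.node (.leaf 5659) (.leaf 10333))) (.node (.node (.leaf 5796) (.leaf 13194)) (.node (.leaf 3315) (.leaf 10348))))) (.node (.node (.node (.node (.leaf 412) (.leaf 8312)) (.node (.leaf 13468) (.leaf 15391))) (.node (.node (.leaf 5831) (.leaf 14937)) (.node (.leaf 10731) (.leaf 10198)))) (.node (.node (.node (.leaf 1068) (.leaf 9114)) (.node (.leaf 9510)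 (.leaf 14833))) (.node (.node (.leaf 10322) (.leaf 12221)) (.node (.leaf 3452) (.leaf 11762)))))) (.node (.node (.node (.node (.node (.leaf 227) (.leaf 3594)) (.node (.leaf 5708) (.leaf 5194))) (.node (.node (.leaf 1463) (.leaf 13076)) (.node (.leaf 5581) (.leaf 5061)))) (.node (.node (.node (.leaf 5913) (.leaf 10455)) (.node (.leaf 10961) (.leaf 11515))) (.node (.node (.leaf 7801) (.leaf 8207)) (.node (.leaf 3396) (.leaf 9994))))) (.node (.node (.node (.node (.leaf 578) (.leaf 5425)) (.node (.leaf 2593) (.leaf 15062))) (.node (.node (.leaf 1758) (.leaf 14681)) (.node (.leaf 5545) (.leaf 5027)))) (.node (.node (.node (.leaf 5880) (.leaf 10891)) (.node (.leaf 5617) (.leaf 12429))) (.node (.node (.leaf 8628) (.leaf 5228)) (.node (.leaf 12247) (.leaf 10997)))))))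

def twoRank26 : Janko.Tree (ℕ) :=
  (.node (.node (.node (.node (.node (.node (.node (.leaf 6819) (.leaf 6860)) (.leaf 10682)) (.node (.leaf 7948) (.leaf 8612))) (.node (.node (.leaf 7915) (.leaf 9042)) (.node (.leaf 2964) (.leaf 6087)))) (.node (.node (.node (.leaf 7827) (.leaf 6347)) (.node (.leaf 15633) (.leaf 10491))) (.node (.node (.leaf 1892) (.leaf 3824)) (.node (.leaf 6453) (.leaf 10346))))) (.node (.node (.node (.node (.leaf 6789) (.leaf 8308)) (.node (.leaf 6581) (.leaf 14720))) (.node (.node (.leaf 10316) (.leaf 14557)) (.node (.leaf 10679) (.leaf 10341)))) (.node (.node (.node (.leaf 1069) (.leaf 3754)) (.node (.leaf 11168) (.leaf 15676))) (.node (.node (.leaf 6631) (.leaf 6218)) (.node (.leaf 7177) (.leaf 12949)))))) (.node (.node (.node (.node (.node (.leaf 228) (.leaf 6388)) (.node (.leaf 2446) (.leaf 10816))) (.node (.node (.leaf 1464) (.leaf 14200)) (.node (.leaf 3062) (.leaf 12749)))) (.node (.node (.node (.leaf 924) (.leaf 10518)) (.node (.leaf 9658) (.leaf 6119))) (.node (.node (.leaf 8726)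 (.leaf 12678)) (.node (.leaf 3397) (.leaf 10115))))) (.node (.node (.node (.node (.leaf 579) (.leaf 13410)) (.node (.leaf 16287) (.leaf 13925))) (.node (.node (.leaf 1759) (.leaf 15861)) (.node (.leaf 13437) (.leaf 15941)))) (.node (.node (.node (.leaf 8023) (.leaf 6874)) (.node (.leaf 2848) (.leaf 6098))) (.node (.node (.leaf 2249) (.leaf 13044)) (.node (.leaf 14806) (.leaf 10425)))))))

def twoRank27 : Janko.Tree (ℕ) :=
  (.node (.node (.node (.node (.node (.node (.node (.leaf 22) (.leaf 10311)) (.leaf 12506)) (.node (.leaf 7937) (.leaf 3977))) (.node (.node (.leaf 1344) (.leaf 13563)) (.node (.leaf 10419) (.leaf 14459)))) (.node (.node (.node (.leaf 754) (.leaf 12123)) (.node (.leaf 14285) (.leaf 8440))) (.node (.node (.leaf 1893) (.leaf 11234)) (.node (.leaf 15245) (.leaf 9212))))) (.node (.node (.node (.node (.leaf 413) (.leaf 8306)) (.node (.leaf 14228) (.leaf 8418))) (.node (.node (.leaf 1617) (.leaf 8585)) (.node (.leaf 3167) (.leaf 13362)))) (.node (.node (.node (.leaf 1070) (.leaf 13807)) (.node (.leaf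 10575) (.leaf 15665))) (.node (.node (.leaf 6942) (.leaf 15632)) (.node (.leaf 13444) (.leaf 15253)))))) (.node (.node (.node (.node (.node (.leaf 229) (.leaf 11868)) (.node (.leaf 9282) (.leaf 10818))) (.node (.node (.leaf 1465) (.leaf 11032)) (.node (.leaf 3063) (.leaf 12479)))) (.node (.node (.node (.leaf 925) (.leaf 9101)) (.node (.leaf 8799) (.leaf 4067))) (.node (.node (.leaf 2029) (.leaf 8875)) (.node (.leaf 14308) (.leaf 10205))))) (.node (.node (.node (.node (.leaf 580) (.leaf 14373)) (.node (.leaf 14685) (.leaf 14889))) (.node (.node (.leaf 15032) (.leaf 14765)) (.node (.leaf 8752) (.leaf 11350)))) (.node (.node (.node (.leaf 1202) (.leaf 14468)) (.node (.leaf 2849) (.leaf 4079))) (.node (.node (.leaf 8735) (.leaf 14702)) (.node (.leaf 3501) (.leaf 9213)))))))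

def twoRank28 : Janko.Tree (ℕ) :=
  (.node (.node (.node (.node (.node (.node (.node (.leaf 23) (.leaf 7210)) (.leaf 7211)) (.node (.leaf 2357) (.leaf 10118))) (.node (.node (.leaf 15234) (.leaf 12735)) (.node (.leaf 7608) (.leaf 4206)))) (.node (.node (.node (.leaf 755) (.leaf 7415)) (.node (.leaf 11114) (.leaf 9236))) (.node (.node (.leaf 14220) (.leaf 12591)) (.node (.leaf 12064) (.leaf 13756))))) (.node (.node (.node (.node (.leaf 7229) (.leaf 4485)) (.node (.leaf 12207) (.leaf 4284))) (.node (.node (.leaf 1618) (.leaf 14351)) (.node (.leaf 11300) (.leaf 9923)))) (.node (.node (.node (.leaf 4858) (.leaf 3755)) (.node (.leaf 4646) (.leaf 11736))) (.node (.node (.leaf 2148) (.leaf 13649)) (.node (.leaf 3453) (.leaf 13744)))))) (.node (.node (.node (.node (.node (.leaf 230) (.leaf 14287)) (.node (.leaf 7559) (.leaf 12111))) (.node (.node (.leaf 1466) (.leaf 11611)) (.node (.leaf 10068) (.leaf 11807)))) (.node (.node (.node (.leaf 926) (.leaf 9378)) (.node (.leaf 9862) (.leaf 14110))) (.node (.node (.leaf 10638)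 (.leaf 13176)) (.node (.leaf 4553) (.leaf 9992))))) (.node (.node (.node (.node (.leaf 581) (.leaf 14126)) (.node (.leaf 11622) (.leaf 9794))) (.node (.node (.leaf 1760) (.leaf 4376)) (.node (.leaf 7216) (.leaf 13043)))) (.node (.node (.node (.leaf 1203) (.leaf 4425)) (.node (.leaf 15908) (.leaf 13603))) (.node (.node (.leaf 4741) (.leaf 14904)) (.node (.leaf 15479) (.leaf 10129)))))))

def twoRank29 : Janko.Tree (ℕ) :=
  (.node (.node (.node (.node (.node (.node (.node (.leaf 24) (.leaf 11182)) (.leaf 10680)) (.node (.leaf 2358) (.leaf 3978))) (.node (.node (.leaf 11667) (.leaf 5342)) (.node (.leaf 2965) (.leaf 8092)))) (.node (.node (.node (.leaf 7810) (.leaf 5408)) (.node (.leaf 5658) (.leaf 5143))) (.node (.node (.leaf 1894) (.leaf 13163)) (.node (.leaf 11640) (.leaf 13218))))) (.node (.node (.node (.node (.leaf 5958) (.leaf 14452)) (.node (.leaf 2511) (.leaf 15471))) (.node (.node (.leaf 1619) (.leaf 5304)) (.node (.leaf 5564) (.leaf 11810)))) (.node (.node (.node (.leaf 8137) (.leaf 5376)) (.node (.leaf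 2766) (.leaf 14853))) (.node (.node (.leaf 8912) (.leaf 11395)) (.node (.leaf 5497) (.leaf 11216)))))) (.node (.node (.node (.node (.node (.leaf 5972) (.leaf 11431)) (.node (.leaf 10327) (.leaf 4005))) (.node (.node (.leaf 1467) (.leaf 5326)) (.node (.leaf 3064) (.leaf 11805)))) (.node (.node (.node (.leaf 927) (.leaf 10389)) (.node (.leaf 2719) (.leaf 5127))) (.node (.node (.leaf 5778) (.leaf 5260)) (.node (.leaf 3398) (.leaf 10126))))) (.node (.node (.node (.node (.leaf 7288) (.leaf 11510)) (.node (.leaf 5675) (.leaf 11489))) (.node (.node (.leaf 7764) (.leaf 15279)) (.node (.leaf 3241) (.leaf 5026)))) (.node (.node (.node (.leaf 1204) (.leaf 3767)) (.node (.leaf 15431) (.leaf 12158))) (.node (.node (.leaf 8361) (.leaf 3949)) (.node (.leaf 15477) (.leaf 4963)))))))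

def twoRank30 : Janko.Tree (ℕ) :=
  (.node (.node (.node (.node (.node (.node (.node (.leaf 25) (.leaf 11017)) (.leaf 6402)) (.node (.leaf 2359) (.leaf 11050))) (.node (.node (.leaf 1345) (.leaf 14979)) (.node (.leaf 6504) (.leaf 8169)))) (.node (.node (.node (.leaf 6759) (.leaf 12407)) (.node (.leaf 10841) (.leaf 9158))) (.node (.node (.leaf 6655) (.leaf 12680)) (.node (.leaf 11643) (.leaf 9214))))) (.node (.node (.node (.node (.leaf 7448) (.leaf 7422)) (.node (.leaf 9558) (.leaf 9041))) (.node (.node (.leaf 6679) (.leaf 15241)) (.node (.leaf 7835) (.leaf 9925)))) (.node (.node (.node (.leaf 8883) (.leaf 12583)) (.node (.leaf 2767) (.leaf 6848))) (.node (.node (.leaf 2149) (.leaf 3925)) (.node (.leaf 12320) (.leaf 15806)))))) (.node (.node (.node (.node (.node (.leaf 231) (.leaf 15498)) (.node (.leaf 6593) (.leaf 6175))) (.node (.node (.leaf 1468) (.leaf 11149)) (.node (.leaf 6491) (.leaf 6075)))) (.node (.node (.node (.leaf 928) (.leaf 6335)) (.node (.leaf 6542) (.leaf 14499))) (.node (.node (.leaf 8363) (.leaf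 13117)) (.node (.leaf 15585) (.leaf 6025))))) (.node (.node (.node (.node (.leaf 6774) (.leaf 15159)) (.node (.leaf 2594) (.leaf 6147))) (.node (.node (.leaf 6666) (.leaf 9997)) (.node (.leaf 6467) (.leaf 10183)))) (.node (.node (.node (.leaf 1205) (.leaf 13607)) (.node (.leaf 2850) (.leaf 6097))) (.node (.node (.leaf 2250) (.leaf 6203)) (.node (.leaf 14769) (.leaf 13255)))))))

def twoRank31 : Janko.Tree (ℕ) :=
  (.node (.node (.node (.node (.node (.node (.node (.leaf 26) (.leaf 7722)) (.leaf 14962)) (.node (.leaf 2360) (.leaf 6838))) (.node (.node (.leaf 1346) (.leaf 14320)) (.node (.leaf 2966) (.leaf 14530)))) (.node (.node (.node (.leaf 6948) (.leaf 12129)) (.node (.leaf 15952) (.leaf 8115))) (.node (.node (.leaf 1895) (.leaf 10689)) (.node (.leaf 10018) (.leaf 14747))))) (.node (.node (.node (.node (.leaf 414) (.leaf 10185)) (.node (.leaf 14384) (.leaf 15469))) (.node (.node (.leaf 1620) (.leaf 11670)) (.node (.leaf 3168) (.leaf 10089)))) (.node (.node (.node (.leaf 8139) (.leaf 3756)) (.node (.leaf 15007)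 (.leaf 15847))) (.node (.node (.leaf 7098) (.leaf 11229)) (.node (.leaf 8384) (.leaf 12998)))))) (.node (.node (.node (.node (.node (.leaf 232) (.leaf 12489)) (.node (.leaf 2447) (.leaf 4006))) (.node (.node (.leaf 1469) (.leaf 11051)) (.node (.leaf 10079) (.leaf 15648)))) (.node (.node (.node (.leaf 6944) (.leaf 15832)) (.node (.leaf 8793) (.leaf 13629))) (.node (.node (.leaf 10640) (.leaf 13178)) (.node (.leaf 11658) (.leaf 10117))))) (.node (.node (.node (.node (.leaf 582) (.leaf 7771)) (.node (.leaf 11599) (.leaf 13179))) (.node (.node (.leaf 1761) (.leaf 15390)) (.node (.leaf 16333) (.leaf 9603)))) (.node (.node (.node (.leaf 8230) (.leaf 11695)) (.node (.leaf 2851) (.leaf 13447))) (.node (.node (.leaf 14318) (.leaf 10790)) (.node (.leaf 8697) (.leaf 8385)))))))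

def twoRank32 : Janko.Tree (ℕ) :=
  (.node (.node (.node (.node (.node (.node (.node (.leaf 4945) (.leaf 7311)) (.leaf 3551)) (.node (.leaf 4726) (.leaf 16094))) (.node (.node (.leaf 11206) (.leaf 4413)) (.node (.leaf 10595) (.leaf 7321)))) (.node (.node (.node (.leaf 756) (.leaf 14431)) (.node (.leaf 10156) (.leaf 9148))) (.node (.node (.leaf 14044) (.leaf 12134)) (.node (.leaf 11445) (.leaf 4151))))) (.node (.node (.node (.node (.leaf 7451) (.leaf 3650)) (.node (.leaf 11339) (.leaf 4023))) (.node (.node (.leaf 1621) (.leaf 4389)) (.node (.leaf 3169) (.leaf 13972)))) (.node (.node (.node (.leaf 8135) (.leaf 10193)) (.node (.leaf 13324) (.leaf 10242))) (.node (.node (.leaf 4754) (.leaf 13021)) (.node (.leaf 7175) (.leaf 4119)))))) (.node (.node (.node (.node (.node (.leaf 6961) (.leaf 4499)) (.node (.leaf 2448) (.leaf 13863))) (.node (.node (.leaf 4819) (.leaf 3799)) (.node (.leaf 12935) (.leaf 4189)))) (.node (.node (.node (.leaf 4871) (.leaf 3734)) (.node (.leaf 8958) (.leaf 15805))) (.node (.node (.leaf 8720)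 (.leaf 4345)) (.node (.leaf 14435) (.leaf 4135))))) (.node (.node (.node (.node (.leaf 583) (.leaf 11463)) (.node (.leaf 14372) (.leaf 13908))) (.node (.node (.leaf 4793) (.leaf 13024)) (.node (.leaf 11156) (.leaf 4165)))) (.node (.node (.node (.leaf 4846) (.leaf 13414)) (.node (.leaf 8336) (.leaf 11392))) (.node (.node (.leaf 4740) (.leaf 16344)) (.node (.leaf 3502) (.leaf 12993)))))))

def twoRank33 : Janko.Tree (ℕ) :=
  (.node (.node (.node (.node (.node (.node (.node (.leaf 27) (.leaf 7435)) (.leaf 3552)) (.node (.leaf 13918) (.leaf 5208))) (.node (.node (.leaf 1347) (.leaf 12783)) (.node (.leaf 8205) (.leaf 13469)))) (.node (.node (.node (.leaf 757) (.leaf 16292)) (.node (.leaf 15197) (.leaf 9156))) (.node (.node (.leaf 1896) (.leaf 5274)) (.node (.leaf 5530) (.leaf 12196))))) (.node (.node (.node (.node (.leaf 415) (.leaf 15085)) (.node (.leaf 5690) (.leaf 5178))) (.node (.node (.leaf 1622) (.leaf 9118)) (.node (.leaf 3170) (.leaf 7731)))) (.node (.node (.node (.leaf 1071) (.leaf 8577)) (.node (.leaf 13331)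 (.leaf 15775))) (.node (.node (.leaf 2150) (.leaf 11652)) (.node (.leaf 3454) (.leaf 15649)))))) (.node (.node (.node (.node (.node (.leaf 233) (.leaf 3595)) (.node (.leaf 5707) (.leaf 8634))) (.node (.node (.leaf 1470) (.leaf 5325)) (.node (.leaf 3065) (.leaf 13231)))) (.node (.node (.node (.leaf 929) (.leaf 8218)) (.node (.leaf 9465) (.leaf 14486))) (.node (.node (.leaf 10636) (.leaf 9267)) (.node (.leaf 5516) (.leaf 13026))))) (.node (.node (.node (.node (.leaf 584) (.leaf 5424)) (.node (.leaf 2595) (.leaf 14838))) (.node (.node (.leaf 1762) (.leaf 10009)) (.node (.leaf 5544) (.leaf 15394)))) (.node (.node (.node (.leaf 1206) (.leaf 11365)) (.node (.leaf 5616) (.leaf 10848))) (.node (.node (.leaf 2251) (.leaf 8411)) (.node (.leaf 5483) (.leaf 10342)))))))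

def twoRank34 : Janko.Tree (ℕ) :=
  (.node (.node (.node (.node (.node (.node (.node (.leaf 28) (.leaf 7381)) (.leaf 15804)) (.node (.leaf 11698) (.leaf 16442))) (.node (.node (.leaf 6706) (.leaf 11065)) (.node (.leaf 7613) (.leaf 6086)))) (.node (.node (.node (.leaf 758) (.leaf 14899)) (.node (.leaf 15593) (.leaf 6131))) (.node (.node (.leaf 15664) (.leaf 12147)) (.node (.leaf 11371) (.leaf 7637))))) (.node (.node (.node (.node (.leaf 6788) (.leaf 6376)) (.node (.leaf 10528) (.leaf 9719))) (.node (.node (.leaf 1623) (.leaf 15919)) (.node (.leaf 3171) (.leaf 6065)))) (.node (.node (.node (.leaf 6729) (.leaf 11077)) (.node (.leaf 6529) (.leaf 6112))) (.node (.node (.leaf 8059) (.leaf 12218)) (.node (.leaf 6428) (.leaf 15647)))))) (.node (.node (.node (.node (.node (.leaf 6804) (.leaf 3596)) (.node (.leaf 7869) (.leaf 8637))) (.node (.node (.leaf 1471) (.leaf 10093)) (.node (.leaf 16329) (.leaf 11289)))) (.node (.node (.node (.leaf 6993) (.leaf 9058)) (.node (.leaf 11172) (.leaf 14491))) (.node (.node (.leaf 6643)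 (.leaf 10655)) (.node (.leaf 13637) (.leaf 10175))))) (.node (.node (.node (.node (.leaf 585) (.leaf 12611)) (.node (.leaf 6567) (.leaf 6146))) (.node (.node (.leaf 7542) (.leaf 6257)) (.node (.leaf 8926) (.leaf 15222)))) (.node (.node (.node (.leaf 8948) (.leaf 6305)) (.node (.leaf 9498) (.leaf 11381))) (.node (.node (.leaf 7393) (.leaf 16093)) (.node (.leaf 14527) (.leaf 10344)))))))

def twoRank35 : Janko.Tree (ℕ) :=
  (.node (.node (.node (.node (.node (.node (.node (.leaf 29) (.leaf 7077)) (.leaf 10665)) (.node (.leaf 2361) (.leaf 12605))) (.node (.node (.leaf 1348) (.leaf 12431)) (.node (.leaf 2967) (.leaf 10897)))) (.node (.node (.node (.leaf 759) (.leaf 9299)) (.node (.leaf 9355) (.leaf 11204))) (.node (.node (.leaf 7132) (.leaf 8953)) (.node (.leaf 11452) (.leaf 12402))))) (.node (.node (.node (.node (.leaf 416) (.leaf 8985)) (.node (.leaf 2512) (.leaf 8984))) (.node (.node (.leaf 1624) (.leaf 15681)) (.node (.leaf 3172) (.leaf 6908)))) (.node (.node (.node (.leaf 1072) (.leaf 8565)) (.node (.leaf 13242)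 (.leaf 9884))) (.node (.node (.leaf 2151) (.leaf 3926)) (.node (.leaf 3455) (.leaf 15680)))))) (.node (.node (.node (.node (.node (.leaf 234) (.leaf 11671)) (.node (.leaf 16073) (.leaf 4007))) (.node (.node (.leaf 1472) (.leaf 10331)) (.node (.leaf 3066) (.leaf 13644)))) (.node (.node (.node (.leaf 930) (.leaf 10594)) (.node (.leaf 8791) (.leaf 4068))) (.node (.node (.leaf 2030) (.leaf 9259)) (.node (.leaf 3399) (.leaf 14657))))) (.node (.node (.node (.node (.leaf 586) (.leaf 9780)) (.node (.leaf 2596) (.leaf 14844))) (.node (.node (.leaf 1763) (.leaf 15332)) (.node (.leaf 3242) (.leaf 16193)))) (.node (.node (.node (.leaf 1207) (.leaf 9194)) (.node (.leaf 2852) (.leaf 11377))) (.node (.node (.leaf 2252) (.leaf 7532)) (.node (.leaf 9750) (.leaf 10340)))))))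

def twoRank36 : Janko.Tree (ℕ) :=
  (.node (.node (.node (.node (.node (.node (.node (.leaf 30) (.leaf 10657)) (.leaf 4513)) (.node (.leaf 2362) (.leaf 11474))) (.node (.node (.leaf 10358) (.leaf 3787)) (.node (.leaf 7549) (.leaf 4205)))) (.node (.node (.node (.leaf 4885) (.leaf 9911)) (.node (.leaf 4673) (.leaf 16366))) (.node (.node (.leaf 4779) (.leaf 12884)) (.node (.leaf 3316) (.leaf 4150))))) (.node (.node (.node (.node (.leaf 417) (.leaf 3651)) (.node (.leaf 7362) (.leaf 9043))) (.node (.node (.leaf 4805) (.leaf 15849)) (.node (.leaf 4595) (.leaf 13703)))) (.node (.node (.node (.leaf 1073) (.leaf 8602)) (.node (.leaf 8903) (.leaf 10217))) (.node (.node (.leaf 2152) (.leaf 9485)) (.node (.leaf 4539) (.leaf 8656)))))) (.node (.node (.node (.node (.node (.leaf 235) (.leaf 15830)) (.node (.leaf 15491) (.leaf 16334))) (.node (.node (.leaf 1473) (.leaf 13527)) (.node (.leaf 4606) (.leaf 14354)))) (.node (.node (.node (.leaf 931) (.leaf 4450)) (.node (.leaf 14049) (.leaf 4248))) (.node (.node (.leaf 2031) (.leaf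 16327)) (.node (.leaf 3400) (.leaf 14618))))) (.node (.node (.node (.node (.leaf 4900) (.leaf 12602)) (.node (.leaf 2597) (.leaf 12289))) (.node (.node (.leaf 8065) (.leaf 15521)) (.node (.leaf 13438) (.leaf 15207)))) (.node (.node (.node (.leaf 10577) (.leaf 14347)) (.node (.leaf 2853) (.leaf 13876))) (.node (.node (.leaf 2253) (.leaf 14587)) (.node (.leaf 14827) (.leaf 9976)))))))

def twoRank37 : Janko.Tree (ℕ) :=
  (.node (.node (.node (.node (.node (.node (.node (.leaf 31) (.leaf 10602)) (.leaf 8157)) (.node (.leaf 5726) (.leaf 5207))) (.node (.node (.leaf 5862) (.leaf 5341)) (.node (.leaf 2968) (.leaf 12772)))) (.node (.node (.node (.leaf 760) (.leaf 5407)) (.node (.leaf 2667) (.leaf 15330))) (.node (.node (.leaf 1897) (.leaf 12456)) (.node (.leaf 3317) (.leaf 8311))))) (.node (.node (.node (.node (.leaf 418) (.leaf 9072)) (.node (.leaf 2513) (.leaf 15070))) (.node (.node (.leaf 1625) (.leaf 15412)) (.node (.leaf 7840) (.leaf 5044)))) (.node (.node (.node (.leaf 1074) (.leaf 5375)) (.node (.leaf 5629) (.leaf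 13693))) (.node (.node (.leaf 8003) (.leaf 9483)) (.node (.leaf 15929) (.leaf 8654)))))) (.node (.node (.node (.node (.node (.leaf 236) (.leaf 13132)) (.node (.leaf 11862) (.leaf 5193))) (.node (.node (.leaf 5844) (.leaf 13529)) (.node (.leaf 14610) (.leaf 14203)))) (.node (.node (.node (.leaf 5912) (.leaf 13378)) (.node (.leaf 9348) (.leaf 16242))) (.node (.node (.leaf 8351) (.leaf 3878)) (.node (.leaf 15672) (.leaf 4994))))) (.node (.node (.node (.node (.leaf 7230) (.leaf 12200)) (.node (.leaf 2598) (.leaf 12045))) (.node (.node (.leaf 5813) (.leaf 5286)) (.node (.leaf 13339) (.leaf 13654)))) (.node (.node (.node (.leaf 5879) (.leaf 5359)) (.node (.leaf 10890) (.leaf 13874))) (.node (.node (.leaf 14762) (.leaf 5227)) (.node (.leaf 13890) (.leaf 4962)))))))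

def twoRank38 : Janko.Tree (ℕ) :=
  (.node (.node (.node (.node (.node (.node (.node (.leaf 6818) (.leaf 10423)) (.leaf 13276)) (.node (.leaf 15966) (.leaf 13815))) (.node (.node (.leaf 8789) (.leaf 12483)) (.node (.leaf 7643) (.leaf 7319)))) (.node (.node (.node (.leaf 7136) (.leaf 13244)) (.node (.leaf 15361) (.leaf 15315))) (.node (.node (.leaf 11055) (.leaf 6243)) (.node (.leaf 3318) (.leaf 8315))))) (.node (.node (.node (.node (.leaf 419) (.leaf 9059)) (.node (.leaf 6580) (.leaf 6161))) (.node (.node (.leaf 1626) (.leaf 6269)) (.node (.leaf 8608) (.leaf 13698)))) (.node (.node (.node (.leaf 1075) (.leaf 7818)) (.node (.leaf 12603) (.leaf 13705))) (.node (.node (.leaf 6630) (.leaf 11388)) (.node (.leaf 13308) (.leaf 12362)))))) (.node (.node (.node (.node (.node (.leaf 237) (.leaf 6387)) (.node (.leaf 16132) (.leaf 15959))) (.node (.node (.leaf 1474) (.leaf 6278)) (.node (.leaf 3067) (.leaf 14856)))) (.node (.node (.node (.leaf 932) (.leaf 11113)) (.node (.leaf 15427) (.leaf 15674))) (.node (.node (.leaf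 2032) (.leaf 6228)) (.node (.leaf 16238) (.leaf 15968))))) (.node (.node (.node (.node (.leaf 7525) (.leaf 9906)) (.node (.leaf 9023) (.leaf 4041))) (.node (.node (.leaf 1764) (.leaf 13796)) (.node (.leaf 13550) (.leaf 15558)))) (.node (.node (.node (.leaf 1208) (.leaf 15236)) (.node (.leaf 2854) (.leaf 14018))) (.node (.node (.leaf 2254) (.leaf 11777)) (.node (.leaf 9751) (.leaf 12758)))))))

def twoRank39 : Janko.Tree (ℕ) :=
  (.node (.node (.node (.node (.node (.node (.node (.leaf 32) (.leaf 11889)) (.leaf 15639)) (.node (.leaf 13073) (.leaf 3979))) (.node (.node (.leaf 10413) (.leaf 10495)) (.node (.leaf 8317) (.leaf 11123)))) (.node (.node (.node (.leaf 761) (.leaf 9401)) (.node (.leaf 12417) (.leaf 10553))) (.node (.node (.leaf 1898) (.leaf 15993)) (.node (.leaf 10617) (.leaf 9586))))) (.node (.node (.node (.node (.leaf 420) (.leaf 7417)) (.node (.leaf 2514) (.leaf 15917))) (.node (.node (.leaf 1627) (.leaf 15251)) (.node (.leaf 8547) (.leaf 14495)))) (.node (.node (.node (.leaf 1076) (.leaf 10898)) (.node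 (.leaf 16130) (.leaf 12821))) (.node (.node (.leaf 6943) (.leaf 10750)) (.node (.leaf 15927) (.leaf 14705)))))) (.node (.node (.node (.node (.node (.leaf 7143) (.leaf 11742)) (.node (.leaf 2449) (.leaf 15955))) (.node (.node (.leaf 1475) (.leaf 15017)) (.node (.leaf 14135) (.leaf 11291)))) (.node (.node (.node (.leaf 933) (.leaf 9441)) (.node (.leaf 11779) (.leaf 16082))) (.node (.node (.leaf 2033) (.leaf 3879)) (.node (.leaf 6950) (.leaf 11247))))) (.node (.node (.node (.node (.leaf 587) (.leaf 10405)) (.node (.leaf 2599) (.leaf 14725))) (.node (.node (.leaf 1765) (.leaf 10053)) (.node (.leaf 8919) (.leaf 11285)))) (.node (.node (.node (.leaf 11196) (.leaf 3768)) (.node (.leaf 7552) (.leaf 13690))) (.node (.node (.leaf 7389) (.leaf 11130)) (.node (.leaf 14892) (.leaf 8387)))))))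

def twoRank40 : Janko.Tree (ℕ) :=
  (.node (.node (.node (.node (.node (.node (.node (.leaf 33) (.leaf 8508)) (.leaf 14577)) (.node (.leaf 2363) (.leaf 11473))) (.node (.node (.leaf 1349) (.leaf 11061)) (.node (.leaf 7312) (.leaf 8079)))) (.node (.node (.node (.leaf 762) (.leaf 13293)) (.node (.leaf 15876) (.leaf 12017))) (.node (.node (.leaf 14597) (.leaf 9578)) (.node (.leaf 10221) (.leaf 8338))))) (.node (.node (.node (.node (.leaf 4915) (.leaf 4484)) (.node (.leaf 4701) (.leaf 14027))) (.node (.node (.leaf 1628) (.leaf 12576)) (.node (.leaf 10412) (.leaf 15764)))) (.node (.node (.node (.leaf 4857) (.leaf 13033)) (.node (.leaf 16167) (.leaf 9135))) (.node (.node (.leaf 2153) (.leaf 8293)) (.node (.leaf 15175) (.leaf 11806)))))) (.node (.node (.node (.node (.node (.leaf 4930) (.leaf 4498)) (.node (.leaf 4714) (.leaf 4298))) (.node (.node (.leaf 1476) (.leaf 3800)) (.node (.leaf 11882) (.leaf 4188)))) (.node (.node (.node (.leaf 934) (.leaf 15854)) (.node (.leaf 9329) (.leaf 13112))) (.node (.node (.leaf 2034)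 (.leaf 16173)) (.node (.leaf 14840) (.leaf 15693))))) (.node (.node (.node (.node (.leaf 588) (.leaf 14440)) (.node (.leaf 2600) (.leaf 15320))) (.node (.node (.leaf 1766) (.leaf 15193)) (.node (.leaf 4581) (.leaf 4164)))) (.node (.node (.node (.leaf 1209) (.leaf 12854)) (.node (.leaf 2855) (.leaf 4223))) (.node (.node (.leaf 7804) (.leaf 12755)) (.node (.leaf 15264) (.leaf 13327)))))))

def twoRank41 : Janko.Tree (ℕ) :=
  (.node (.node (.node (.node (.node (.node (.node (.leaf 34) (.leaf 7714)) (.leaf 5470)) (.node (.leaf 2364) (.leaf 12996))) (.node (.node (.leaf 8801) (.leaf 10107)) (.node (.leaf 5598) (.leaf 8075)))) (.node (.node (.node (.leaf 5927) (.leaf 12206)) (.node (.leaf 13792) (.leaf 10337))) (.node (.node (.leaf 1899) (.leaf 8549)) (.node (.leaf 3319) (.leaf 14072))))) (.node (.node (.node (.node (.leaf 421) (.leaf 11617)) (.node (.leaf 2515) (.leaf 15925))) (.node (.node (.leaf 5830) (.leaf 12425)) (.node (.leaf 5563) (.leaf 5043)))) (.node (.node (.node (.leaf 1077) (.leaf 12338)) (.node (.leaf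 2768) (.leaf 5105))) (.node (.node (.leaf 11885) (.leaf 5243)) (.node (.leaf 5496) (.leaf 9622)))))) (.node (.node (.node (.node (.node (.leaf 238) (.leaf 3597)) (.node (.leaf 10548) (.leaf 14532))) (.node (.node (.leaf 1477) (.leaf 10189)) (.node (.leaf 3068) (.leaf 12582)))) (.node (.node (.node (.leaf 935) (.leaf 14361)) (.node (.leaf 11219) (.leaf 8509))) (.node (.node (.leaf 5777) (.leaf 13664)) (.node (.leaf 14697) (.leaf 10213))))) (.node (.node (.node (.node (.leaf 5942) (.leaf 13724)) (.node (.leaf 5674) (.leaf 5161))) (.node (.node (.leaf 15322) (.leaf 15191)) (.node (.leaf 8045) (.leaf 10996)))) (.node (.node (.node (.leaf 8232) (.leaf 3769)) (.node (.leaf 5615) (.leaf 9470))) (.node (.node (.leaf 5742) (.leaf 9428)) (.node (.leaf 13848) (.leaf 9598)))))))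

def twoRank42 : Janko.Tree (ℕ) :=
  (.node (.node (.node (.node (.node (.node (.node (.leaf 35) (.leaf 8453)) (.leaf 16360)) (.node (.leaf 6605) (.leaf 13428))) (.node (.node (.leaf 1350) (.leaf 6291)) (.node (.leaf 7408) (.leaf 6085)))) (.node (.node (.node (.leaf 763) (.leaf 6346)) (.node (.leaf 6555) (.leaf 6130))) (.node (.node (.leaf 15281) (.leaf 6242)) (.node (.leaf 3320) (.leaf 6037))))) (.node (.node (.node (.node (.leaf 7461) (.leaf 13165)) (.node (.leaf 7364) (.leaf 13473))) (.node (.node (.leaf 7813) (.leaf 13268)) (.node (.leaf 8122) (.leaf 13696)))) (.node (.node (.node (.leaf 7017) (.leaf 13546)) (.node (.leaf 15367) (.leaf 9090))) (.node (.node (.leaf 13499) (.leaf 3927)) (.node (.leaf 14216) (.leaf 13375)))))) (.node (.node (.node (.node (.node (.leaf 239) (.leaf 7702)) (.node (.leaf 7541) (.leaf 13730))) (.node (.node (.leaf 6694) (.leaf 6277)) (.node (.leaf 6490) (.leaf 13100)))) (.node (.node (.node (.leaf 6744) (.leaf 6845)) (.node (.leaf 6541) (.leaf 7579))) (.node (.node (.leaf 2035) (.leaf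 15022)) (.node (.leaf 16035) (.leaf 15691))))) (.node (.node (.node (.node (.leaf 589) (.leaf 6363)) (.node (.leaf 16219) (.leaf 15195))) (.node (.node (.leaf 1767) (.leaf 6256)) (.node (.leaf 3243) (.leaf 12168)))) (.node (.node (.node (.leaf 1210) (.leaf 12850)) (.node (.leaf 8435) (.leaf 9230))) (.node (.node (.leaf 7800) (.leaf 3950)) (.node (.leaf 6414) (.leaf 5998)))))))

def twoRank43 : Janko.Tree (ℕ) :=
  (.node (.node (.node (.node (.node (.node (.node (.leaf 36) (.leaf 8116)) (.leaf 3553)) (.node (.leaf 2365) (.leaf 10744))) (.node (.node (.leaf 1351) (.leaf 10111)) (.node (.leaf 8287) (.leaf 7659)))) (.node (.node (.node (.leaf 764) (.leaf 13295)) (.node (.leaf 10155) (.leaf 12309))) (.node (.node (.leaf 1900) (.leaf 10957)) (.node (.leaf 13794) (.leaf 14483))))) (.node (.node (.node (.node (.leaf 422) (.leaf 14377)) (.node (.leaf 2516) (.leaf 13307))) (.node (.node (.leaf 1629) (.leaf 12423)) (.node (.leaf 10645) (.leaf 16179)))) (.node (.node (.node (.leaf 9161) (.leaf 8028)) (.node (.leaf 12541)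 (.leaf 9092))) (.node (.node (.leaf 2154) (.leaf 3928)) (.node (.leaf 8719) (.leaf 9620)))))) (.node (.node (.node (.node (.node (.leaf 240) (.leaf 11872)) (.node (.leaf 11850) (.leaf 13728))) (.node (.node (.leaf 1478) (.leaf 11344)) (.node (.leaf 14137) (.leaf 16199)))) (.node (.node (.node (.leaf 936) (.leaf 6843)) (.node (.leaf 2720) (.leaf 4069))) (.node (.node (.leaf 2036) (.leaf 13666)) (.node (.leaf 7570) (.leaf 10211))))) (.node (.node (.node (.node (.leaf 590) (.leaf 15358)) (.node (.leaf 2601) (.leaf 4042))) (.node (.node (.leaf 1768) (.leaf 14650)) (.node (.leaf 14304) (.leaf 12163)))) (.node (.node (.node (.leaf 1211) (.leaf 13552)) (.node (.leaf 10775) (.leaf 9077))) (.node (.node (.leaf 10900) (.leaf 11136)) (.node (.leaf 13847) (.leaf 11899)))))))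

def twoRank44 : Janko.Tree (ℕ) :=
  (.node (.node (.node (.node (.node (.node (.node (.leaf 4944) (.leaf 8466)) (.leaf 12469)) (.node (.leaf 11535) (.leaf 3980))) (.node (.node (.leaf 4831) (.leaf 16089)) (.node (.leaf 2969) (.leaf 15304)))) (.node (.node (.node (.leaf 13677) (.leaf 9340)) (.node (.leaf 2668) (.leaf 12633))) (.node (.node (.leaf 4778) (.leaf 14608)) (.node (.leaf 4568) (.leaf 12178))))) (.node (.node (.node (.node (.leaf 7342) (.leaf 11608)) (.node (.leaf 2517) (.leaf 7514))) (.node (.node (.leaf 1630) (.leaf 9706)) (.node (.leaf 8611) (.leaf 4174)))) (.node (.node (.node (.leaf 8173) (.leaf 4438)) (.node (.leaf 9445) (.leaf 4236))) (.node (.node (.leaf 4753) (.leaf 13017)) (.node (.leaf 10240) (.leaf 11150)))))) (.node (.node (.node (.node (.node (.leaf 241) (.leaf 8078)) (.node (.leaf 7543) (.leaf 11004))) (.node (.node (.leaf 10524) (.leaf 4402)) (.node (.leaf 9575) (.leaf 4187)))) (.node (.node (.node (.leaf 937) (.leaf 11171)) (.node (.leaf 2721) (.leaf 8490))) (.node (.node (.leaf 13306)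 (.leaf 4344)) (.node (.leaf 14798) (.leaf 4134))))) (.node (.node (.node (.node (.leaf 591) (.leaf 7391)) (.node (.leaf 14968) (.leaf 4271))) (.node (.node (.leaf 4792) (.leaf 16318)) (.node (.leaf 15852) (.leaf 14360)))) (.node (.node (.node (.leaf 1212) (.leaf 12476)) (.node (.leaf 7213) (.leaf 12653))) (.node (.node (.leaf 8847) (.leaf 3951)) (.node (.leaf 15436) (.leaf 15793)))))))

def twoRank45 : Janko.Tree (ℕ) :=
  (.node (.node (.node (.node (.node (.node (.node (.leaf 37) (.leaf 10545)) (.leaf 11419)) (.node (.leaf 14749) (.leaf 5206))) (.node (.node (.leaf 11097) (.leaf 5340)) (.node (.leaf 5597) (.leaf 5075)))) (.node (.node (.node (.leaf 765) (.leaf 11119)) (.node (.leaf 5657) (.leaf 10036))) (.node (.node (.leaf 7787) (.leaf 11511)) (.node (.leaf 13904) (.leaf 5010))))) (.node (.node (.node (.node (.leaf 5957) (.leaf 11604)) (.node (.leaf 2518) (.leaf 12913))) (.node (.node (.leaf 1631) (.leaf 9440)) (.node (.leaf 10980) (.leaf 9313)))) (.node (.node (.node (.leaf 5897) (.leaf 8034)) (.node (.leaf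 5628) (.leaf 12445))) (.node (.node (.leaf 2155) (.leaf 8766)) (.node (.leaf 14343) (.leaf 4977)))))) (.node (.node (.node (.node (.node (.leaf 242) (.leaf 5457)) (.node (.leaf 7762) (.leaf 8733))) (.node (.node (.leaf 1479) (.leaf 11857)) (.node (.leaf 3069) (.leaf 13190)))) (.node (.node (.node (.leaf 938) (.leaf 5390)) (.node (.leaf 8221) (.leaf 15423))) (.node (.node (.leaf 8805) (.leaf 13661)) (.node (.leaf 14796) (.leaf 9769))))) (.node (.node (.node (.node (.leaf 592) (.leaf 8592)) (.node (.leaf 2602) (.leaf 12970))) (.node (.node (.leaf 7885) (.leaf 16236)) (.node (.leaf 5543) (.leaf 5025)))) (.node (.node (.node (.leaf 5878) (.leaf 5358)) (.node (.leaf 5614) (.leaf 8657))) (.node (.node (.leaf 8851) (.leaf 3952)) (.node (.leaf 3503) (.leaf 16335)))))))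

def twoRank46 : Janko.Tree (ℕ) :=
  (.node (.node (.node (.node (.node (.node (.node (.leaf 38) (.leaf 8450)) (.leaf 6401)) (.node (.leaf 8244) (.leaf 16180))) (.node (.node (.leaf 7185) (.leaf 14691)) (.node (.leaf 7330) (.leaf 13464)))) (.node (.node (.node (.leaf 766) (.leaf 9342)) (.node (.leaf 14205) (.leaf 12557))) (.node (.node (.leaf 7697) (.leaf 13941)) (.node (.leaf 3321) (.leaf 7890))))) (.node (.node (.node (.node (.leaf 423) (.leaf 11214)) (.node (.leaf 11702) (.leaf 6160))) (.node (.node (.leaf 1632) (.leaf 9648)) (.node (.leaf 6477) (.leaf 14036)))) (.node (.node (.node (.leaf 8975) (.leaf 8032)) (.node (.leaf 8905) (.leaf 12930))) (.node (.node (.leaf 7100) (.leaf 16348)) (.node (.leaf 6427) (.leaf 10814)))))) (.node (.node (.node (.node (.node (.leaf 6803) (.leaf 3598)) (.node (.leaf 6592) (.leaf 6174))) (.node (.node (.leaf 8804) (.leaf 10195)) (.node (.leaf 9577) (.leaf 13002)))) (.node (.node (.node (.leaf 7506) (.leaf 10537)) (.node (.leaf 8223) (.leaf 11514))) (.node (.node (.leaf 15642)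 (.leaf 10263)) (.node (.leaf 15740) (.leaf 7406))))) (.node (.node (.node (.node (.leaf 593) (.leaf 6362)) (.node (.leaf 16012) (.leaf 7546))) (.node (.node (.leaf 7202) (.leaf 14644)) (.node (.leaf 8041) (.leaf 15697)))) (.node (.node (.node (.leaf 1213) (.leaf 12477)) (.node (.leaf 10472) (.leaf 8653))) (.node (.node (.leaf 6617) (.leaf 6202)) (.node (.leaf 3504) (.leaf 15844)))))))

def twoRank47 : Janko.Tree (ℕ) :=
  (.node (.node (.node (.node (.node (.node (.node (.leaf 39) (.leaf 7300)) (.leaf 15970)) (.node (.leaf 2366) (.leaf 3981))) (.node (.node (.leaf 1352) (.leaf 9005)) (.node (.leaf 15081) (.leaf 12195)))) (.node (.node (.node (.leaf 767) (.leaf 3708)) (.node (.leaf 15557) (.leaf 9209))) (.node (.node (.leaf 1901) (.leaf 3825)) (.node (.leaf 14031) (.leaf 8506))))) (.node (.node (.node (.node (.leaf 424) (.leaf 9591)) (.node (.leaf 2519) (.leaf 15259))) (.node (.node (.leaf 1633) (.leaf 6840)) (.node (.leaf 14949) (.leaf 13009)))) (.node (.node (.node (.leaf 1078) (.leaf 9104)) (.node (.leaf 12093)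 (.leaf 14565))) (.node (.node (.leaf 2156) (.leaf 8751)) (.node (.leaf 15149) (.leaf 11008)))))) (.node (.node (.node (.node (.node (.leaf 243) (.leaf 14980)) (.node (.leaf 11694) (.leaf 4008))) (.node (.node (.leaf 1480) (.leaf 12647)) (.node (.leaf 3070) (.leaf 13006)))) (.node (.node (.node (.leaf 7102) (.leaf 10522)) (.node (.leaf 2722) (.leaf 16400))) (.node (.node (.leaf 7025) (.leaf 3880)) (.node (.leaf 3401) (.leaf 9826))))) (.node (.node (.node (.node (.leaf 594) (.leaf 3676)) (.node (.leaf 9757) (.leaf 4043))) (.node (.node (.leaf 1769) (.leaf 16234)) (.node (.leaf 8036) (.leaf 13482)))) (.node (.node (.node (.leaf 1214) (.leaf 12474)) (.node (.leaf 2856) (.leaf 12979))) (.node (.node (.leaf 8776) (.leaf 15787)) (.node (.leaf 15699) (.leaf 13927)))))))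

def twoRank48 : Janko.Tree (ℕ) :=
  (.node (.node (.node (.node (.node (.node (.node (.leaf 40) (.leaf 7727)) (.leaf 11915)) (.node (.leaf 2367) (.leaf 8416))) (.node (.node (.leaf 8193) (.leaf 10241)) (.node (.leaf 4619) (.leaf 10674)))) (.node (.node (.node (.leaf 768) (.leaf 10958)) (.node (.leaf 13407) (.leaf 4261))) (.node (.node (.leaf 1902) (.leaf 4359)) (.node (.leaf 14785) (.leaf 4149))))) (.node (.node (.node (.node (.leaf 425) (.leaf 7322)) (.node (.leaf 2520) (.leaf 10883))) (.node (.node (.leaf 4804) (.leaf 14990)) (.node (.leaf 3173) (.leaf 15748)))) (.node (.node (.node (.leaf 1079) (.leaf 14161)) (.node (.leaf 8930) (.leaf 13083))) (.node (.node (.leaf 12869) (.leaf 10464)) (.node (.leaf 13474) (.leaf 10408)))))) (.node (.node (.node (.node (.node (.leaf 244) (.leaf 14926)) (.node (.leaf 11634) (.leaf 15109))) (.node (.node (.leaf 7527) (.leaf 8573)) (.node (.leaf 3071) (.leaf 12898)))) (.node (.node (.node (.leaf 4870) (.leaf 11251)) (.node (.leaf 4658) (.leaf 10966))) (.node (.node (.leaf 8826)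 (.leaf 13901)) (.node (.leaf 15164) (.leaf 4133))))) (.node (.node (.node (.node (.leaf 4899) (.leaf 3677)) (.node (.leaf 4688) (.leaf 13820))) (.node (.node (.leaf 8285) (.leaf 13551)) (.node (.leaf 3244) (.leaf 4163)))) (.node (.node (.node (.leaf 13272) (.leaf 4424)) (.node (.leaf 2857) (.leaf 4222))) (.node (.node (.leaf 2255) (.leaf 12757)) (.node (.leaf 4525) (.leaf 11152)))))))

def twoRank49 : Janko.Tree (ℕ) :=
  (.node (.node (.node (.node (.node (.node (.node (.leaf 5987) (.leaf 10560)) (.leaf 12213)) (.node (.leaf 5725) (.leaf 15589))) (.node (.node (.leaf 5861) (.leaf 14332)) (.node (.leaf 2970) (.leaf 5074)))) (.node (.node (.node (.leaf 5926) (.leaf 5406)) (.node (.leaf 9531) (.leaf 9943))) (.node (.node (.leaf 5795) (.leaf 11153)) (.node (.leaf 5529) (.leaf 12696))))) (.node (.node (.node (.node (.leaf 426) (.leaf 5440)) (.node (.leaf 5689) (.leaf 11188))) (.node (.node (.leaf 1634) (.leaf 8410)) (.node (.leaf 8354) (.leaf 14428)))) (.node (.node (.node (.leaf 1080) (.leaf 5374)) (.node (.leaf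 8907) (.leaf 8158))) (.node (.node (.leaf 5759) (.leaf 9497)) (.node (.leaf 3456) (.leaf 11466)))))) (.node (.node (.node (.node (.node (.leaf 245) (.leaf 13831)) (.node (.leaf 5706) (.leaf 7728))) (.node (.node (.leaf 1481) (.leaf 5324)) (.node (.leaf 5580) (.leaf 13192)))) (.node (.node (.node (.leaf 7279) (.leaf 10530)) (.node (.leaf 2723) (.leaf 5126))) (.node (.node (.leaf 8780) (.leaf 5259)) (.node (.leaf 5515) (.leaf 9846))))) (.node (.node (.node (.node (.leaf 595) (.leaf 5423)) (.node (.leaf 15887) (.leaf 12543))) (.node (.node (.leaf 5812) (.leaf 12624)) (.node (.leaf 8050) (.leaf 11060)))) (.node (.node (.node (.leaf 1215) (.leaf 12368)) (.node (.leaf 2858) (.leaf 14401))) (.node (.node (.leaf 5741) (.leaf 10606)) (.node (.leaf 13845) (.leaf 10547)))))))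

def twoRank50 : Janko.Tree (ℕ) :=
  (.node (.node (.node (.node (.node (.node (.node (.leaf 41) (.leaf 10336)) (.leaf 13720)) (.node (.leaf 7955) (.leaf 8414))) (.node (.node (.leaf 1353) (.leaf 6290)) (.node (.leaf 7565) (.leaf 11424)))) (.node (.node (.node (.leaf 769) (.leaf 10949)) (.node (.leaf 14505) (.leaf 9979))) (.node (.node (.leaf 1903) (.leaf 3826)) (.node (.leaf 13903) (.leaf 14470))))) (.node (.node (.node (.node (.leaf 427) (.leaf 8001)) (.node (.leaf 14876) (.leaf 6159))) (.node (.node (.leaf 8754) (.leaf 15141)) (.node (.leaf 3174) (.leaf 6064)))) (.node (.node (.node (.leaf 6884) (.leaf 8038)) (.node (.leaf 6528) (.leaf 6111))) (.node (.node (.leaf 2157) (.leaf 6217)) (.node (.leaf 8663) (.leaf 12634)))))) (.node (.node (.node (.node (.node (.leaf 246) (.leaf 3599)) (.node (.leaf 10614) (.leaf 15754))) (.node (.node (.leaf 9352) (.leaf 12645)) (.node (.leaf 13869) (.leaf 6074)))) (.node (.node (.node (.leaf 10663) (.leaf 6334)) (.node (.leaf 10441) (.leaf 11176))) (.node (.node (.leaf 6642)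 (.leaf 16118)) (.node (.leaf 14048) (.leaf 15903))))) (.node (.node (.node (.node (.leaf 596) (.leaf 15720)) (.node (.leaf 2603) (.leaf 13113))) (.node (.node (.leaf 1770) (.leaf 12720)) (.node (.leaf 6466) (.leaf 13262)))) (.node (.node (.node (.leaf 9643) (.leaf 13509)) (.node (.leaf 2859) (.leaf 10238))) (.node (.node (.leaf 2256) (.leaf 3953)) (.node (.leaf 16226) (.leaf 13601)))))))

def twoRank51 : Janko.Tree (ℕ) :=
  (.node (.node (.node (.node (.node (.node (.node (.leaf 42) (.leaf 7306)) (.leaf 8427)) (.node (.leaf 2368) (.leaf 10320))) (.node (.node (.leaf 1354) (.leaf 14336)) (.node (.leaf 2971) (.leaf 14544)))) (.node (.node (.node (.leaf 770) (.leaf 3709)) (.node (.leaf 15618) (.leaf 9935))) (.node (.node (.leaf 1904) (.leaf 15467)) (.node (.leaf 13541) (.leaf 10948))))) (.node (.node (.node (.node (.leaf 428) (.leaf 15077)) (.node (.leaf 10083) (.leaf 12145))) (.node (.node (.leaf 1635) (.leaf 11555)) (.node (.leaf 3175) (.leaf 14888)))) (.node (.node (.node (.leaf 6882) (.leaf 8265)) (.node (.leaf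 2769) (.leaf 11791))) (.node (.node (.leaf 2158) (.leaf 12355)) (.node (.leaf 15634) (.leaf 10406)))))) (.node (.node (.node (.node (.node (.leaf 247) (.leaf 3600)) (.node (.leaf 16117) (.leaf 7402))) (.node (.node (.leaf 7094) (.leaf 12859)) (.node (.leaf 15049) (.leaf 13622)))) (.node (.node (.node (.leaf 939) (.leaf 9106)) (.node (.leaf 8589) (.leaf 13301))) (.node (.node (.leaf 2037) (.leaf 12001)) (.node (.leaf 3402) (.leaf 13186))))) (.node (.node (.node (.node (.leaf 597) (.leaf 9776)) (.node (.leaf 2604) (.leaf 9138))) (.node (.node (.leaf 1771) (.leaf 3812)) (.node (.leaf 3245) (.leaf 10123)))) (.node (.node (.node (.leaf 7146) (.leaf 15404)) (.node (.leaf 10354) (.leaf 14738))) (.node (.node (.leaf 2257) (.leaf 11035)) (.node (.leaf 3505) (.leaf 9195)))))))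

def twoRank52 : Janko.Tree (ℕ) :=
  (.node (.node (.node (.node (.node (.node (.node (.leaf 43) (.leaf 7328)) (.leaf 4512)) (.node (.leaf 15963) (.leaf 14993))) (.node (.node (.leaf 1355) (.leaf 7513)) (.node (.leaf 7567) (.leaf 7698)))) (.node (.node (.node (.leaf 9882) (.leaf 9332)) (.node (.leaf 4672) (.leaf 12383))) (.node (.node (.leaf 1905) (.leaf 3827)) (.node (.leaf 3322) (.leaf 7636))))) (.node (.node (.node (.node (.leaf 4914) (.leaf 12746)) (.node (.leaf 12451) (.leaf 7674))) (.node (.node (.leaf 11363) (.leaf 15776)) (.node (.leaf 10861) (.leaf 12795)))) (.node (.node (.node (.leaf 4856) (.leaf 8042)) (.node (.leaf 12843) (.leaf 9279))) (.node (.node (.leaf 12694) (.leaf 15800)) (.node (.leaf 16456) (.leaf 4118)))))) (.node (.node (.node (.node (.node (.leaf 4929) (.leaf 4497)) (.node (.leaf 2450) (.leaf 16299))) (.node (.node (.leaf 4818) (.leaf 4401)) (.node (.leaf 15651) (.leaf 13531)))) (.node (.node (.node (.leaf 11353) (.leaf 10798)) (.node (.leaf 8198) (.leaf 11074))) (.node (.node (.leaf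 2038) (.leaf 13519)) (.node (.leaf 12983) (.leaf 4132))))) (.node (.node (.node (.node (.leaf 598) (.leaf 12334)) (.node (.leaf 2605) (.leaf 9146))) (.node (.node (.leaf 10388) (.leaf 8206)) (.node (.leaf 8850) (.leaf 15873)))) (.node (.node (.node (.leaf 4845) (.leaf 10139)) (.node (.leaf 7601) (.leaf 8723))) (.node (.node (.leaf 9940) (.leaf 4321)) (.node (.leaf 3506) (.leaf 15912)))))))

def twoRank53 : Janko.Tree (ℕ) :=
  (.node (.node (.node (.node (.node (.node (.node (.leaf 44) (.leaf 7231)) (.leaf 16059)) (.node (.leaf 11167) (.leaf 11361))) (.node (.node (.leaf 1356) (.leaf 14586)) (.node (.leaf 2972) (.leaf 4084)))) (.node (.node (.node (.leaf 771) (.leaf 5405)) (.node (.leaf 11037) (.leaf 5142))) (.node (.node (.leaf 1906) (.leaf 7256)) (.node (.leaf 3323) (.leaf 5009))))) (.node (.node (.node (.node (.leaf 429) (.leaf 5439)) (.node (.leaf 13296) (.leaf 5177))) (.node (.node (.leaf 5829) (.leaf 14857)) (.node (.leaf 5562) (.leaf 12354)))) (.node (.node (.node (.leaf 1081) (.leaf 8054)) (.node (.leaf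 2770) (.leaf 5104))) (.node (.node (.leaf 2159) (.leaf 11653)) (.node (.leaf 15840) (.leaf 14744)))))) (.node (.node (.node (.node (.node (.leaf 248) (.leaf 12558)) (.node (.leaf 9825) (.leaf 5192))) (.node (.node (.leaf 1482) (.leaf 13101)) (.node (.leaf 3072) (.leaf 14946)))) (.node (.node (.node (.leaf 7850) (.leaf 5389)) (.node (.leaf 5644) (.leaf 5125))) (.node (.node (.leaf 8757) (.leaf 7295)) (.node (.leaf 5514) (.leaf 8328))))) (.node (.node (.node (.node (.leaf 5941) (.leaf 12467)) (.node (.leaf 15733) (.leaf 8330))) (.node (.node (.leaf 8279) (.leaf 8208)) (.node (.leaf 10513) (.leaf 13937)))) (.node (.node (.node (.leaf 1216) (.leaf 11610)) (.node (.leaf 5613) (.leaf 10561))) (.node (.node (.leaf 2258) (.leaf 13768)) (.node (.leaf 15475) (.leaf 4961)))))))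

def twoRank54 : Janko.Tree (ℕ) :=
  (.node (.node (.node (.node (.node (.node (.node (.leaf 45) (.leaf 7237)) (.leaf 13811)) (.node (.leaf 12365) (.leaf 11703))) (.node (.node (.leaf 6705) (.leaf 6289)) (.node (.leaf 6503) (.leaf 6084)))) (.node (.node (.node (.leaf 6758) (.leaf 9328)) (.node (.leaf 9570) (.leaf 4055))) (.node (.node (.leaf 1907) (.leaf 6241)) (.node (.leaf 6452) (.leaf 12194))))) (.node (.node (.node (.node (.leaf 430) (.leaf 12744)) (.node (.leaf 2521) (.leaf 13511))) (.node (.node (.leaf 1636) (.leaf 14355)) (.node (.leaf 3176) (.leaf 13625)))) (.node (.node (.node (.leaf 6989) (.leaf 6319)) (.node (.leaf 11923) (.leaf 9288))) (.node (.node (.leaf 12403) (.leaf 15533)) (.node (.leaf 6426) (.leaf 16257)))))) (.node (.node (.node (.node (.node (.leaf 249) (.leaf 13130)) (.node (.leaf 2451) (.leaf 16394))) (.node (.node (.leaf 10486) (.leaf 12360)) (.node (.leaf 16275) (.leaf 6073)))) (.node (.node (.node (.leaf 6743) (.leaf 13333)) (.node (.leaf 8196) (.leaf 11178))) (.node (.node (.leaf 2039)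 (.leaf 6866)) (.node (.leaf 7573) (.leaf 8828))))) (.node (.node (.node (.node (.leaf 599) (.leaf 8532)) (.node (.leaf 6566) (.leaf 9154))) (.node (.node (.leaf 6665) (.leaf 11983)) (.node (.leaf 8030) (.leaf 6048)))) (.node (.node (.node (.leaf 10323) (.leaf 6304)) (.node (.leaf 10572) (.leaf 11595))) (.node (.node (.leaf 10144) (.leaf 3954)) (.node (.leaf 15931) (.leaf 10712)))))))

def twoRank55 : Janko.Tree (ℕ) :=
  (.node (.node (.node (.node (.node (.node (.node (.leaf 46) (.leaf 7326)) (.leaf 14834)) (.node (.leaf 2369) (.leaf 6969))) (.node (.node (.leaf 1357) (.leaf 12901)) (.node (.leaf 2973) (.leaf 12036)))) (.node (.node (.node (.leaf 772) (.leaf 13374)) (.node (.leaf 9959) (.leaf 10549))) (.node (.node (.leaf 1908) (.leaf 3828)) (.node (.leaf 14339) (.leaf 16067))))) (.node (.node (.node (.node (.leaf 431) (.leaf 9533)) (.node (.leaf 9534) (.leaf 13122))) (.node (.node (.leaf 10460) (.leaf 9388)) (.node (.leaf 10536) (.leaf 11566)))) (.node (.node (.node (.leaf 1082) (.leaf 15268)) (.node (.leaf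 7026) (.leaf 11571))) (.node (.node (.leaf 2160) (.leaf 3929)) (.node (.leaf 3457) (.leaf 16259)))))) (.node (.node (.node (.node (.node (.leaf 250) (.leaf 3601)) (.node (.leaf 7539) (.leaf 14887))) (.node (.node (.leaf 1483) (.leaf 16026)) (.node (.leaf 3073) (.leaf 11677)))) (.node (.node (.node (.leaf 940) (.leaf 12450)) (.node (.leaf 14742) (.leaf 11974))) (.node (.node (.leaf 2040) (.leaf 13309)) (.node (.leaf 16029) (.leaf 10916))))) (.node (.node (.node (.node (.leaf 600) (.leaf 8460)) (.node (.leaf 2606) (.leaf 10489))) (.node (.node (.leaf 1772) (.leaf 9231)) (.node (.leaf 8015) (.leaf 15727)))) (.node (.node (.node (.leaf 1217) (.leaf 12447)) (.node (.leaf 2860) (.leaf 8725))) (.node (.node (.leaf 2259) (.leaf 14014)) (.node (.leaf 8696) (.leaf 11351)))))))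

def twoRank56 : Janko.Tree (ℕ) :=
  (.node (.node (.node (.node (.node (.node (.node (.leaf 4943) (.leaf 7717)) (.leaf 11184)) (.node (.leaf 10838) (.leaf 4309))) (.node (.node (.leaf 1358) (.leaf 4412)) (.node (.leaf 2974) (.leaf 13892)))) (.node (.node (.node (.leaf 11912) (.leaf 10297)) (.node (.leaf 9574) (.leaf 4056))) (.node (.node (.leaf 4777) (.leaf 4358)) (.node (.leaf 8817) (.leaf 10490))))) (.node (.node (.node (.node (.leaf 432) (.leaf 9171)) (.node (.leaf 10496) (.leaf 9649))) (.node (.node (.leaf 8761) (.leaf 10787)) (.node (.leaf 3177) (.leaf 10815)))) (.node (.node (.node (.leaf 1083) (.leaf 4437)) (.node (.leaf 15928) (.leaf 16194))) (.node (.node (.leaf 15464) (.leaf 4332)) (.node (.leaf 14588) (.leaf 13397)))))) (.node (.node (.node (.node (.node (.leaf 251) (.leaf 3602)) (.node (.leaf 8283) (.leaf 4297))) (.node (.node (.leaf 10482) (.leaf 13193)) (.node (.leaf 3074) (.leaf 11383)))) (.node (.node (.node (.leaf 941) (.leaf 14498)) (.node (.leaf 15796) (.leaf 14098))) (.node (.node (.leaf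 4766) (.leaf 8295)) (.node (.leaf 7305) (.leaf 15069))))) (.node (.node (.node (.node (.leaf 601) (.leaf 4474)) (.node (.leaf 12636) (.leaf 4270))) (.node (.node (.leaf 1773) (.leaf 14017)) (.node (.leaf 7560) (.leaf 9921)))) (.node (.node (.node (.leaf 1218) (.leaf 13155)) (.node (.leaf 2861) (.leaf 4221))) (.node (.node (.leaf 2260) (.leaf 14253)) (.node (.leaf 4524) (.leaf 13093)))))))

def twoRank57 : Janko.Tree (ℕ) :=
  (.node (.node (.node (.node (.node (.node (.node (.leaf 47) (.leaf 7743)) (.leaf 10866)) (.node (.leaf 10387) (.leaf 11464))) (.node (.node (.leaf 1359) (.leaf 14572)) (.node (.leaf 5596) (.leaf 5073)))) (.node (.node (.node (.leaf 773) (.leaf 10631)) (.node (.leaf 13547) (.leaf 4057))) (.node (.node (.leaf 1909) (.leaf 3829)) (.node (.leaf 5528) (.leaf 5008))))) (.node (.node (.node (.node (.leaf 5956) (.leaf 8276)) (.node (.leaf 9536) (.leaf 12251))) (.node (.node (.leaf 10586) (.leaf 5303)) (.node (.leaf 9278) (.leaf 8578)))) (.node (.node (.node (.leaf 5896) (.leaf 10541)) (.node (.leaf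 11258) (.leaf 15072))) (.node (.node (.leaf 5758) (.leaf 3930)) (.node (.leaf 15153) (.leaf 13722)))))) (.node (.node (.node (.node (.node (.leaf 5971) (.leaf 7736)) (.node (.leaf 5705) (.leaf 10186))) (.node (.node (.leaf 1484) (.leaf 12897)) (.node (.leaf 5579) (.leaf 9173)))) (.node (.node (.node (.leaf 942) (.leaf 14185)) (.node (.leaf 2724) (.leaf 13859))) (.node (.node (.leaf 2041) (.leaf 5258)) (.node (.leaf 3403) (.leaf 15067))))) (.node (.node (.node (.node (.leaf 602) (.leaf 14143)) (.node (.leaf 2607) (.leaf 4044))) (.node (.node (.leaf 7758) (.leaf 11841)) (.node (.leaf 12880) (.leaf 16258)))) (.node (.node (.node (.leaf 1219) (.leaf 11348)) (.node (.leaf 2862) (.leaf 9256))) (.node (.node (.leaf 5740) (.leaf 5226)) (.node (.leaf 12366) (.leaf 4960)))))))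

def twoRank58 : Janko.Tree (ℕ) :=
  (.node (.node (.node (.node (.node (.node (.node (.leaf 48) (.leaf 7767)) (.leaf 11201)) (.node (.leaf 6604) (.leaf 11970))) (.node (.node (.leaf 1360) (.leaf 15863)) (.node (.leaf 2975) (.leaf 12193)))) (.node (.node (.node (.leaf 774) (.leaf 9783)) (.node (.leaf 6554) (.leaf 6129))) (.node (.node (.leaf 1910) (.leaf 7401)) (.node (.leaf 7863) (.leaf 11241))))) (.node (.node (.node (.node (.leaf 433) (.leaf 8966)) (.node (.leaf 6579) (.leaf 4024))) (.node (.node (.leaf 6678) (.leaf 11029)) (.node (.leaf 3178) (.leaf 10201)))) (.node (.node (.node (.leaf 1084) (.leaf 7240)) (.node (.leaf 8366) (.leaf 15068))) (.node (.node (.leaf 14528) (.leaf 13234)) (.node (.leaf 16160) (.leaf 11508)))))) (.node (.node (.node (.node (.node (.leaf 252) (.leaf 6386)) (.node (.leaf 7766) (.leaf 14272))) (.node (.node (.leaf 6693) (.leaf 6276)) (.node (.leaf 3075) (.leaf 10532)))) (.node (.node (.node (.leaf 943) (.leaf 14111)) (.node (.leaf 6870) (.leaf 14637))) (.node (.node (.leaf 7000) (.leaf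 10986)) (.node (.leaf 6439) (.leaf 15071))))) (.node (.node (.node (.node (.leaf 6773) (.leaf 13562)) (.node (.leaf 9606) (.leaf 13183))) (.node (.node (.leaf 7339) (.leaf 15786)) (.node (.leaf 6465) (.leaf 14416)))) (.node (.node (.node (.leaf 6716) (.leaf 7371)) (.node (.leaf 2863) (.leaf 8364))) (.node (.node (.leaf 2261) (.leaf 14992)) (.node (.leaf 14862) (.leaf 13115)))))))

def twoRank59 : Janko.Tree (ℕ) :=
  (.node (.node (.node (.node (.node (.node (.node (.leaf 49) (.leaf 6922)) (.leaf 3554)) (.node (.leaf 2370) (.leaf 14077))) (.node (.node (.leaf 7680) (.leaf 10272)) (.node (.leaf 2976) (.leaf 12695)))) (.node (.node (.node (.leaf 775) (.leaf 7171)) (.node (.leaf 12339) (.leaf 11401))) (.node (.node (.leaf 1911) (.leaf 10314)) (.node (.leaf 3324) (.leaf 10476))))) (.node (.node (.node (.node (.leaf 9100) (.leaf 10707)) (.node (.leaf 13594) (.leaf 9021))) (.node (.node (.leaf 1637) (.leaf 11027)) (.node (.leaf 8405) (.leaf 6828)))) (.node (.node (.node (.leaf 10573) (.leaf 9554)) (.node (.leaf 8256)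 (.leaf 8178))) (.node (.node (.leaf 8994) (.leaf 3931)) (.node (.leaf 3458) (.leaf 14274)))))) (.node (.node (.node (.node (.node (.leaf 253) (.leaf 6925)) (.node (.leaf 7756) (.leaf 4009))) (.node (.node (.leaf 1485) (.leaf 14669)) (.node (.leaf 3076) (.leaf 13267)))) (.node (.node (.node (.leaf 944) (.leaf 9309)) (.node (.leaf 6868) (.leaf 7769))) (.node (.node (.leaf 2042) (.leaf 3881)) (.node (.leaf 11926) (.leaf 11438))))) (.node (.node (.node (.node (.leaf 603) (.leaf 14709)) (.node (.leaf 2608) (.leaf 11719))) (.node (.node (.leaf 7341) (.leaf 11838)) (.node (.leaf 10177) (.leaf 12427)))) (.node (.node (.node (.leaf 1220) (.leaf 3770)) (.node (.leaf 2864) (.leaf 14369))) (.node (.node (.leaf 8645) (.leaf 11086)) (.node (.leaf 13349) (.leaf 11326)))))))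

def twoRank60 : Janko.Tree (ℕ) :=
  (.node (.node (.node (.node (.node (.node (.node (.leaf 50) (.leaf 7344)) (.leaf 12891)) (.node (.leaf 2371) (.leaf 13281))) (.node (.node (.leaf 4830) (.leaf 15343)) (.node (.leaf 10258) (.leaf 11422)))) (.node (.node (.node (.leaf 776) (.leaf 15489)) (.node (.leaf 15841) (.leaf 13949))) (.node (.node (.leaf 1912) (.leaf 16062)) (.node (.leaf 11929) (.leaf 12069))))) (.node (.node (.node (.node (.leaf 434) (.leaf 4483)) (.node (.leaf 13899) (.leaf 15083))) (.node (.node (.leaf 11357) (.leaf 10001)) (.node (.leaf 4594) (.leaf 15525)))) (.node (.node (.node (.leaf 1085) (.leaf 7244)) (.node (.leaf 4645) (.leaf 4235))) (.node (.node (.leaf 9762) (.leaf 16157)) (.node (.leaf 4538) (.leaf 4117)))))) (.node (.node (.node (.node (.node (.leaf 254) (.leaf 14556)) (.node (.leaf 7873) (.leaf 16420))) (.node (.node (.leaf 1486) (.leaf 12159)) (.node (.leaf 15658) (.leaf 10918)))) (.node (.node (.node (.leaf 7449) (.leaf 9908)) (.node (.leaf 4657) (.leaf 4247))) (.node (.node (.leaf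 2043) (.leaf 15654)) (.node (.leaf 4552) (.leaf 12537))))) (.node (.node (.node (.node (.leaf 604) (.leaf 15882)) (.node (.leaf 4687) (.leaf 10056))) (.node (.node (.leaf 4791) (.leaf 12539)) (.node (.leaf 9754) (.leaf 12514)))) (.node (.node (.node (.leaf 1221) (.leaf 16091)) (.node (.leaf 4633) (.leaf 8353))) (.node (.node (.leaf 15513) (.leaf 3955)) (.node (.leaf 8701) (.leaf 14081)))))))

def twoRank61 : Janko.Tree (ℕ) :=
  (.node (.node (.node (.node (.node (.node (.node (.leaf 5986) (.leaf 10321)) (.leaf 5469)) (.node (.leaf 9099) (.leaf 10398))) (.node (.node (.leaf 7275) (.leaf 5339)) (.node (.leaf 14780) (.leaf 12870)))) (.node (.node (.node (.leaf 5925) (.leaf 11863)) (.node (.leaf 2669) (.leaf 5141))) (.node (.node (.leaf 5794) (.leaf 9671)) (.node (.leaf 10335) (.leaf 14472))))) (.node (.node (.node (.node (.leaf 435) (.leaf 13838)) (.node (.leaf 15751) (.leaf 5176))) (.node (.node (.leaf 1638) (.leaf 5302)) (.node (.leaf 3179) (.leaf 8394)))) (.node (.node (.node (.leaf 1086) (.leaf 7238)) (.node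 (.leaf 8369) (.leaf 9453))) (.node (.node (.leaf 2161) (.leaf 3932)) (.node (.leaf 14510) (.leaf 9801)))))) (.node (.node (.node (.node (.node (.leaf 255) (.leaf 13932)) (.node (.leaf 2452) (.leaf 16112))) (.node (.node (.leaf 1487) (.leaf 5323)) (.node (.leaf 3077) (.leaf 9094)))) (.node (.node (.node (.leaf 5911) (.leaf 5388)) (.node (.leaf 9060) (.leaf 7140))) (.node (.node (.leaf 5776) (.leaf 8753)) (.node (.leaf 3404) (.leaf 4993))))) (.node (.node (.node (.node (.leaf 605) (.leaf 15884)) (.node (.leaf 2609) (.leaf 15139))) (.node (.node (.leaf 1774) (.leaf 5285)) (.node (.leaf 10543) (.leaf 12943)))) (.node (.node (.node (.leaf 1222) (.leaf 14910)) (.node (.leaf 2865) (.leaf 5089))) (.node (.node (.leaf 2262) (.leaf 15684)) (.node (.leaf 5482) (.leaf 4959)))))))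

def twoRank62 : Janko.Tree (ℕ) :=
  (.node (.node (.node (.node (.node (.node (.node (.leaf 51) (.leaf 7304)) (.leaf 10571)) (.node (.leaf 2372) (.leaf 10394))) (.node (.node (.leaf 7489) (.leaf 3788)) (.node (.leaf 2977) (.leaf 6083)))) (.node (.node (.node (.leaf 10819) (.leaf 6345)) (.node (.leaf 14311) (.leaf 15890))) (.node (.node (.leaf 1913) (.leaf 13993)) (.node (.leaf 3325) (.leaf 6036))))) (.node (.node (.node (.node (.leaf 6787) (.leaf 7996)) (.node (.leaf 2522) (.leaf 9737))) (.node (.node (.leaf 1639) (.leaf 10013)) (.node (.leaf 6974) (.leaf 15872)))) (.node (.node (.node (.leaf 6728) (.leaf 6318)) (.node (.leaf 2771) (.leaf 8967))) (.node (.node (.leaf 6629) (.leaf 16358)) (.node (.leaf 12810) (.leaf 11024)))))) (.node (.node (.node (.node (.node (.leaf 6802) (.leaf 13930)) (.node (.leaf 7645) (.leaf 15609))) (.node (.node (.leaf 1488) (.leaf 7484)) (.node (.leaf 6489) (.leaf 6072)))) (.node (.node (.node (.leaf 7430) (.leaf 12409)) (.node (.leaf 9073) (.leaf 12475))) (.node (.node (.leaf 2044)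 (.leaf 14456)) (.node (.leaf 7583) (.leaf 13612))))) (.node (.node (.node (.node (.leaf 606) (.leaf 6361)) (.node (.leaf 7042) (.leaf 14006))) (.node (.node (.leaf 7067) (.leaf 13862)) (.node (.leaf 15490) (.leaf 6047)))) (.node (.node (.node (.leaf 1223) (.leaf 6303)) (.node (.leaf 2866) (.leaf 9253))) (.node (.node (.leaf 6616) (.leaf 6201)) (.node (.leaf 12713) (.leaf 16017)))))))

def twoRank63 : Janko.Tree (ℕ) :=
  (.node (.node (.node (.node (.node (.node (.node (.leaf 52) (.leaf 13973)) (.leaf 12443)) (.node (.leaf 2373) (.leaf 10396))) (.node (.node (.leaf 1361) (.leaf 14566)) (.node (.leaf 7088) (.leaf 12658)))) (.node (.node (.node (.leaf 777) (.leaf 11861)) (.node (.leaf 2670) (.leaf 14795))) (.node (.node (.leaf 8521) (.leaf 10564)) (.node (.leaf 8822) (.leaf 14583))))) (.node (.node (.node (.node (.leaf 436) (.leaf 3652)) (.node (.leaf 2523) (.leaf 15426))) (.node (.node (.leaf 1640) (.leaf 8586)) (.node (.leaf 3180) (.leaf 11103)))) (.node (.node (.node (.leaf 1087) (.leaf 10501)) (.node (.leaf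 9588) (.leaf 8833))) (.node (.node (.leaf 14629) (.leaf 9543)) (.node (.leaf 16312) (.leaf 12657)))))) (.node (.node (.node (.node (.node (.leaf 256) (.leaf 12063)) (.node (.leaf 7337) (.leaf 8711))) (.node (.node (.leaf 8214) (.leaf 10805)) (.node (.leaf 3078) (.leaf 7107)))) (.node (.node (.node (.leaf 945) (.leaf 11968)) (.node (.leaf 10515) (.leaf 16018))) (.node (.node (.leaf 10487) (.leaf 10681)) (.node (.leaf 12609) (.leaf 13614))))) (.node (.node (.node (.node (.leaf 607) (.leaf 15334)) (.node (.leaf 2610) (.leaf 9183))) (.node (.node (.leaf 1775) (.leaf 13997)) (.node (.leaf 12737) (.leaf 11118)))) (.node (.node (.node (.leaf 1224) (.leaf 14908)) (.node (.leaf 2867) (.leaf 13096))) (.node (.node (.leaf 2263) (.leaf 14255)) (.node (.leaf 11174) (.leaf 11436)))))))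

def twoRank64 : Janko.Tree (ℕ) :=
  (.node (.node (.node (.node (.node (.node (.node (.leaf 53) (.leaf 8102)) (.leaf 15350)) (.node (.leaf 8242) (.leaf 3982))) (.node (.node (.leaf 7499) (.leaf 12581)) (.node (.leaf 7774) (.leaf 15551)))) (.node (.node (.node (.leaf 778) (.leaf 16078)) (.node (.leaf 9381) (.leaf 15738))) (.node (.node (.leaf 1914) (.leaf 4357)) (.node (.leaf 10576) (.leaf 4148))))) (.node (.node (.node (.node (.leaf 437) (.leaf 7505)) (.node (.leaf 4700) (.leaf 4283))) (.node (.node (.leaf 1641) (.leaf 11901)) (.node (.leaf 3181) (.leaf 4173)))) (.node (.node (.node (.leaf 1088) (.leaf 9901)) (.node (.leaf 2772) (.leaf 8792))) (.node (.node (.leaf 12153) (.leaf 4331)) (.node (.leaf 15623) (.leaf 9627)))))) (.node (.node (.node (.node (.node (.leaf 257) (.leaf 12042)) (.node (.leaf 7630) (.leaf 4296))) (.node (.node (.leaf 4817) (.leaf 10197)) (.node (.leaf 16098) (.leaf 9482)))) (.node (.node (.node (.leaf 7101) (.leaf 12893)) (.node (.leaf 9071) (.leaf 16145))) (.node (.node (.leaf 2045) (.leaf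 3882)) (.node (.leaf 7575) (.leaf 11813))))) (.node (.node (.node (.node (.leaf 608) (.leaf 4473)) (.node (.leaf 4686) (.leaf 13367))) (.node (.node (.leaf 1776) (.leaf 13330)) (.node (.leaf 4580) (.leaf 4162)))) (.node (.node (.node (.leaf 4844) (.leaf 11342)) (.node (.leaf 2868) (.leaf 4220))) (.node (.node (.leaf 12518) (.leaf 4320)) (.node (.leaf 3507) (.leaf 12769)))))))

def twoRank65 : Janko.Tree (ℕ) :=
  (.node (.node (.node (.node (.node (.node (.node (.leaf 54) (.leaf 7741)) (.leaf 12053)) (.node (.leaf 5724) (.leaf 5205))) (.node (.node (.leaf 1362) (.leaf 11189)) (.node (.leaf 5595) (.leaf 15337)))) (.node (.node (.node (.leaf 779) (.leaf 5404)) (.node (.leaf 5656) (.leaf 14799))) (.node (.node (.leaf 1915) (.leaf 3830)) (.node (.leaf 3326) (.leaf 7713))))) (.node (.node (.node (.node (.leaf 438) (.leaf 5438)) (.node (.leaf 14269) (.leaf 10979))) (.node (.node (.leaf 5828) (.leaf 5301)) (.node (.leaf 5561) (.leaf 10116)))) (.node (.node (.node (.leaf 1089) (.leaf 12688)) (.node (.leaf 2773) (.leaf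 8171))) (.node (.node (.leaf 2162) (.leaf 11243)) (.node (.leaf 15345) (.leaf 11490)))))) (.node (.node (.node (.node (.node (.leaf 258) (.leaf 5456)) (.node (.leaf 5704) (.leaf 12548))) (.node (.node (.leaf 1489) (.leaf 3801)) (.node (.leaf 3079) (.leaf 9488)))) (.node (.node (.node (.leaf 946) (.leaf 12371)) (.node (.leaf 5643) (.leaf 11506))) (.node (.node (.leaf 5775) (.leaf 11327)) (.node (.leaf 5513) (.leaf 11811))))) (.node (.node (.node (.node (.leaf 5940) (.leaf 13478)) (.node (.leaf 10677) (.leaf 7254))) (.node (.node (.leaf 7761) (.leaf 12765)) (.node (.leaf 10534) (.leaf 10407)))) (.node (.node (.node (.leaf 1225) (.leaf 5357)) (.node (.leaf 5612) (.leaf 8355))) (.node (.node (.leaf 2264) (.leaf 11759)) (.node (.leaf 8694) (.leaf 4958)))))))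

def twoRank66 : Janko.Tree (ℕ) :=
  (.node (.node (.node (.node (.node (.node (.node (.leaf 6817) (.leaf 8455)) (.leaf 15383)) (.node (.leaf 2374) (.leaf 12754))) (.node (.node (.leaf 6704) (.leaf 12327)) (.node (.leaf 10469) (.leaf 6082)))) (.node (.node (.node (.leaf 6757) (.leaf 16051)) (.node (.leaf 9383) (.leaf 6128))) (.node (.node (.leaf 6654) (.leaf 7882)) (.node (.leaf 6451) (.leaf 8183))))) (.node (.node (.node (.node (.leaf 439) (.leaf 9560)) (.node (.leaf 10244) (.leaf 7650))) (.node (.node (.leaf 1642) (.leaf 11542)) (.node (.leaf 3182) (.leaf 10343)))) (.node (.node (.node (.leaf 7830) (.leaf 14444)) (.node (.leaf 6527) (.leaf 8154))) (.node (.node (.leaf 2163) (.leaf 13156)) (.node (.leaf 6425) (.leaf 9629)))))) (.node (.node (.node (.node (.node (.leaf 259) (.leaf 12040)) (.node (.leaf 7628) (.leaf 15461))) (.node (.node (.leaf 1490) (.leaf 12234)) (.node (.leaf 16345) (.leaf 12654)))) (.node (.node (.node (.leaf 7111) (.leaf 6333)) (.node (.leaf 10456) (.leaf 6118))) (.node (.node (.leaf 7799)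 (.leaf 12637)) (.node (.leaf 13071) (.leaf 6024))))) (.node (.node (.node (.node (.leaf 609) (.leaf 12707)) (.node (.leaf 7724) (.leaf 6145))) (.node (.node (.leaf 6664) (.leaf 6255)) (.node (.leaf 3246) (.leaf 9657)))) (.node (.node (.node (.leaf 9748) (.leaf 13187)) (.node (.leaf 2869) (.leaf 8706))) (.node (.node (.leaf 2265) (.leaf 12342)) (.node (.leaf 3508) (.leaf 9848)))))))

def twoRank67 : Janko.Tree (ℕ) :=
  (.node (.node (.node (.node (.node (.node (.node (.leaf 55) (.leaf 7298)) (.leaf 12055)) (.node (.leaf 2375) (.leaf 8380))) (.node (.node (.leaf 1363) (.leaf 8029)) (.node (.leaf 2978) (.leaf 15063)))) (.node (.node (.node (.leaf 780) (.leaf 15078)) (.node (.leaf 2671) (.leaf 14801))) (.node (.node (.leaf 1916) (.leaf 3831)) (.node (.leaf 10485) (.leaf 14651))))) (.node (.node (.node (.node (.leaf 440) (.leaf 10203)) (.node (.leaf 14837) (.leaf 14677))) (.node (.node (.leaf 1643) (.leaf 12482)) (.node (.leaf 10591) (.leaf 12848)))) (.node (.node (.node (.leaf 10851) (.leaf 7711)) (.node (.leaf 2774)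 (.leaf 8126))) (.node (.node (.leaf 2164) (.leaf 9596)) (.node (.leaf 14041) (.leaf 9802)))))) (.node (.node (.node (.node (.node (.leaf 260) (.leaf 12446)) (.node (.leaf 10906) (.leaf 13018))) (.node (.node (.leaf 1491) (.leaf 8576)) (.node (.leaf 7072) (.leaf 9136)))) (.node (.node (.node (.leaf 7099) (.leaf 12373)) (.node (.leaf 11041) (.leaf 14674))) (.node (.node (.leaf 2046) (.leaf 3883)) (.node (.leaf 3405) (.leaf 15824))))) (.node (.node (.node (.node (.leaf 610) (.leaf 15891)) (.node (.leaf 2611) (.leaf 15101))) (.node (.node (.leaf 6933) (.leaf 11847)) (.node (.leaf 3247) (.leaf 11468)))) (.node (.node (.node (.leaf 1226) (.leaf 16342)) (.node (.leaf 10687) (.leaf 11589))) (.node (.node (.leaf 2266) (.leaf 14708)) (.node (.leaf 8683) (.leaf 9602)))))))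

def twoRank68 : Janko.Tree (ℕ) :=
  (.node (.node (.node (.node (.node (.node (.node (.leaf 56) (.leaf 14500)) (.leaf 4511)) (.node (.leaf 2376) (.leaf 13494))) (.node (.node (.leaf 1364) (.leaf 9513)) (.node (.leaf 2979) (.leaf 12928)))) (.node (.node (.node (.leaf 781) (.leaf 11046)) (.node (.leaf 9978) (.leaf 14375))) (.node (.node (.leaf 1917) (.leaf 15586)) (.node (.leaf 4567) (.leaf 7317))))) (.node (.node (.node (.node (.leaf 441) (.leaf 13615)) (.node (.leaf 16037) (.leaf 4282))) (.node (.node (.leaf 7629) (.leaf 4388)) (.node (.leaf 3183) (.leaf 11799)))) (.node (.node (.node (.leaf 7334) (.leaf 4436)) (.node (.leaf 9459) (.leaf 11504))) (.node (.node (.leaf 2165) (.leaf 15856)) (.node (.leaf 12220) (.leaf 13970)))))) (.node (.node (.node (.node (.node (.leaf 261) (.leaf 14664)) (.node (.leaf 8845) (.leaf 8689))) (.node (.node (.leaf 1492) (.leaf 4400)) (.node (.leaf 4605) (.leaf 11165)))) (.node (.node (.node (.leaf 4869) (.leaf 9334)) (.node (.leaf 9089) (.leaf 12331))) (.node (.node (.leaf 14054)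 (.leaf 4343)) (.node (.leaf 3406) (.leaf 4131))))) (.node (.node (.node (.node (.leaf 7555) (.leaf 13351)) (.node (.leaf 2612) (.leaf 13523))) (.node (.node (.leaf 16290) (.leaf 14652)) (.node (.leaf 3248) (.leaf 11476)))) (.node (.node (.node (.leaf 1227) (.leaf 16256)) (.node (.leaf 2870) (.leaf 15151))) (.node (.node (.leaf 8441) (.leaf 12881)) (.node (.leaf 15615) (.leaf 4107)))))))

def twoRank69 : Janko.Tree (ℕ) :=
  (.node (.node (.node (.node (.node (.node (.node (.leaf 57) (.leaf 11897)) (.leaf 9132)) (.node (.leaf 8240) (.leaf 9675))) (.node (.node (.leaf 1365) (.leaf 12345)) (.node (.leaf 2980) (.leaf 13085)))) (.node (.node (.node (.leaf 782) (.leaf 5403)) (.node (.leaf 2672) (.leaf 5140))) (.node (.node (.leaf 1918) (.leaf 3832)) (.node (.leaf 10339) (.leaf 12729))))) (.node (.node (.node (.node (.leaf 5955) (.leaf 3653)) (.node (.leaf 2524) (.leaf 14900))) (.node (.node (.leaf 1644) (.leaf 10395)) (.node (.leaf 5560) (.leaf 5042)))) (.node (.node (.node (.leaf 5895) (.leaf 11905)) (.node (.leaf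 10992) (.leaf 5103))) (.node (.node (.leaf 5757) (.leaf 5242)) (.node (.leaf 12224) (.leaf 7729)))))) (.node (.node (.node (.node (.node (.leaf 5970) (.leaf 5455)) (.node (.leaf 8162) (.leaf 5191))) (.node (.node (.leaf 5843) (.leaf 15940)) (.node (.leaf 3080) (.leaf 9502)))) (.node (.node (.node (.leaf 947) (.leaf 11092)) (.node (.leaf 10433) (.leaf 5124))) (.node (.node (.leaf 2047) (.leaf 7854)) (.node (.leaf 15492) (.leaf 12825))))) (.node (.node (.node (.node (.leaf 611) (.leaf 13323)) (.node (.leaf 11309) (.leaf 10812))) (.node (.node (.leaf 1777) (.leaf 5284)) (.node (.leaf 7241) (.leaf 5024)))) (.node (.node (.node (.leaf 5877) (.leaf 16254)) (.node (.leaf 2871) (.leaf 10658))) (.node (.node (.leaf 2267) (.leaf 9336)) (.node (.leaf 3509) (.leaf 15282)))))))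

def twoRank70 : Janko.Tree (ℕ) :=
  (.node (.node (.node (.node (.node (.node (.node (.leaf 58) (.leaf 14424)) (.leaf 13145)) (.node (.leaf 6603) (.leaf 6188))) (.node (.node (.leaf 10101) (.leaf 6288)) (.node (.leaf 2981) (.leaf 7704)))) (.node (.node (.node (.leaf 783) (.leaf 10758)) (.node (.leaf 10066) (.leaf 13951))) (.node (.node (.leaf 1919) (.leaf 15148)) (.node (.leaf 8114) (.leaf 6035))))) (.node (.node (.node (.node (.leaf 442) (.leaf 3654)) (.node (.leaf 6578) (.leaf 4025))) (.node (.node (.leaf 6677) (.leaf 13221)) (.node (.leaf 7843) (.leaf 11801)))) (.node (.node (.node (.leaf 1090) (.leaf 7862)) (.node (.leaf 9451) (.leaf 13298))) (.node (.node (.leaf 8237) (.leaf 7889)) (.node (.leaf 10823) (.leaf 6014)))))) (.node (.node (.node (.node (.node (.leaf 262) (.leaf 14097)) (.node (.leaf 8866) (.leaf 13813))) (.node (.node (.leaf 1493) (.leaf 13618)) (.node (.leaf 11470) (.leaf 9504)))) (.node (.node (.node (.leaf 7110) (.leaf 14464)) (.node (.leaf 6540) (.leaf 8531))) (.node (.node (.leaf 15865)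 (.leaf 6979)) (.node (.leaf 3407) (.leaf 11370))))) (.node (.node (.node (.node (.leaf 6772) (.leaf 6360)) (.node (.leaf 2613) (.leaf 13602))) (.node (.node (.leaf 1778) (.leaf 12571)) (.node (.leaf 6464) (.leaf 11527)))) (.node (.node (.node (.leaf 1228) (.leaf 16252)) (.node (.leaf 6515) (.leaf 6096))) (.node (.node (.leaf 6615) (.leaf 12885)) (.node (.leaf 6413) (.leaf 16399)))))))

def twoRank71 : Janko.Tree (ℕ) :=
  (.node (.node (.node (.node (.node (.node (.node (.leaf 59) (.leaf 11893)) (.leaf 3555)) (.node (.leaf 2377) (.leaf 3983))) (.node (.node (.leaf 8554) (.leaf 3789)) (.node (.leaf 7706) (.leaf 15553)))) (.node (.node (.node (.leaf 784) (.leaf 14982)) (.node (.leaf 6871) (.leaf 15082))) (.node (.node (.leaf 1920) (.leaf 7340)) (.node (.leaf 14147) (.leaf 11089))))) (.node (.node (.node (.node (.leaf 443) (.leaf 12006)) (.node (.leaf 15319) (.leaf 15348))) (.node (.node (.leaf 14224) (.leaf 9670)) (.node (.leaf 3184) (.leaf 16314)))) (.node (.node (.node (.leaf 1091) (.leaf 12661)) (.node (.leaf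 8039) (.leaf 12027))) (.node (.node (.leaf 2166) (.leaf 8342)) (.node (.leaf 9538) (.leaf 6907)))))) (.node (.node (.node (.node (.node (.leaf 263) (.leaf 9594)) (.node (.leaf 8124) (.leaf 11528))) (.node (.node (.leaf 1494) (.leaf 15004)) (.node (.leaf 3081) (.leaf 12551)))) (.node (.node (.node (.leaf 14115) (.leaf 12946)) (.node (.leaf 9062) (.leaf 12016))) (.node (.node (.leaf 8630) (.leaf 3884)) (.node (.leaf 8528) (.leaf 13790))))) (.node (.node (.node (.node (.leaf 612) (.leaf 8662)) (.node (.leaf 2614) (.leaf 11722))) (.node (.node (.leaf 7037) (.leaf 11913)) (.node (.leaf 15392) (.leaf 12041)))) (.node (.node (.node (.leaf 1229) (.leaf 8443)) (.node (.leaf 2872) (.leaf 8718))) (.node (.node (.leaf 2268) (.leaf 9304)) (.node (.leaf 9724) (.leaf 16404)))))))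

def twoRank72 : Janko.Tree (ℕ) :=
  (.node (.node (.node (.node (.node (.node (.node (.leaf 4942) (.leaf 14004)) (.leaf 12038)) (.node (.leaf 9110) (.leaf 16008))) (.node (.node (.leaf 7483) (.leaf 7723)) (.node (.leaf 4618) (.leaf 13128)))) (.node (.node (.node (.leaf 4884) (.leaf 15888)) (.node (.leaf 15625) (.leaf 15084))) (.node (.node (.leaf 1921) (.leaf 4356)) (.node (.leaf 10347) (.leaf 4147))))) (.node (.node (.node (.node (.leaf 7147) (.leaf 14604)) (.node (.leaf 2525) (.leaf 14159))) (.node (.node (.leaf 12022) (.leaf 9808)) (.node (.leaf 15969) (.leaf 13369)))) (.node (.node (.node (.leaf 1092) (.leaf 13205)) (.node (.leaf 2775) (.leaf 15560))) (.node (.node (.leaf 2167) (.leaf 4330)) (.node (.leaf 4537) (.leaf 13866)))))) (.node (.node (.node (.node (.node (.leaf 264) (.leaf 14666)) (.node (.leaf 4713) (.leaf 15834))) (.node (.node (.leaf 1495) (.leaf 15090)) (.node (.leaf 14746) (.leaf 11795)))) (.node (.node (.node (.leaf 948) (.leaf 11456)) (.node (.leaf 15020) (.leaf 13127))) (.node (.node (.leaf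 4765) (.leaf 4342)) (.node (.leaf 4551) (.leaf 14399))))) (.node (.node (.node (.node (.leaf 613) (.leaf 12408)) (.node (.leaf 8938) (.leaf 10268))) (.node (.node (.leaf 1779) (.leaf 8928)) (.node (.leaf 4579) (.leaf 15918)))) (.node (.node (.node (.leaf 1230) (.leaf 3771)) (.node (.leaf 2873) (.leaf 10939))) (.node (.node (.leaf 16278) (.leaf 11481)) (.node (.leaf 14977) (.leaf 16215)))))))

def twoRank73 : Janko.Tree (ℕ) :=
  (.node (.node (.node (.node (.node (.node (.node (.leaf 60) (.leaf 11891)) (.leaf 12277)) (.node (.leaf 2378) (.leaf 10404))) (.node (.node (.leaf 5860) (.leaf 5338)) (.node (.leaf 7798) (.leaf 13803)))) (.node (.node (.node (.leaf 785) (.leaf 15550)) (.node (.leaf 5655) (.leaf 15548))) (.node (.node (.leaf 5793) (.leaf 10350)) (.node (.leaf 8103) (.leaf 13046))))) (.node (.node (.node (.node (.leaf 444) (.leaf 12002)) (.node (.leaf 7475) (.leaf 5175))) (.node (.node (.leaf 1645) (.leaf 5300)) (.node (.leaf 3185) (.leaf 14755)))) (.node (.node (.node (.leaf 1093) (.leaf 15945)) (.node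 (.leaf 9526) (.leaf 5102))) (.node (.node (.leaf 2168) (.leaf 6912)) (.node (.leaf 3459) (.leaf 4976)))))) (.node (.node (.node (.node (.node (.leaf 265) (.leaf 14893)) (.node (.leaf 2453) (.leaf 8709))) (.node (.node (.leaf 1496) (.leaf 5322)) (.node (.leaf 3082) (.leaf 5060)))) (.node (.node (.node (.leaf 5910) (.leaf 5387)) (.node (.leaf 2725) (.leaf 9845))) (.node (.node (.leaf 7265) (.leaf 3885)) (.node (.leaf 3408) (.leaf 14353))))) (.node (.node (.node (.node (.leaf 614) (.leaf 8642)) (.node (.leaf 10863) (.leaf 5160))) (.node (.node (.leaf 5811) (.leaf 15502)) (.node (.leaf 12841) (.leaf 15539)))) (.node (.node (.node (.leaf 6957) (.leaf 5356)) (.node (.leaf 5611) (.leaf 9269))) (.node (.node (.leaf 8668) (.leaf 5225)) (.node (.leaf 15399) (.leaf 13793)))))))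

def twoRank74 : Janko.Tree (ℕ) :=
  (.node (.node (.node (.node (.node (.node (.node (.leaf 61) (.leaf 13978)) (.leaf 6400)) (.node (.leaf 2379) (.leaf 16413))) (.node (.node (.leaf 7934) (.leaf 7725)) (.node (.leaf 7390) (.leaf 13801)))) (.node (.node (.node (.leaf 786) (.leaf 13950)) (.node (.leaf 14573) (.leaf 15086))) (.node (.node (.leaf 1922) (.leaf 7550)) (.node (.leaf 6450) (.leaf 7315))))) (.node (.node (.node (.node (.leaf 6786) (.leaf 6375)) (.node (.leaf 7357) (.leaf 4026))) (.node (.node (.leaf 1646) (.leaf 9704)) (.node (.leaf 16440) (.leaf 11696)))) (.node (.node (.node (.leaf 1094) (.leaf 7648)) (.node (.leaf 11973) (.leaf 16331))) (.node (.node (.leaf 6628) (.leaf 7316)) (.node (.leaf 14915) (.leaf 12910)))))) (.node (.node (.node (.node (.node (.leaf 6801) (.leaf 6385)) (.node (.leaf 7590) (.leaf 12908))) (.node (.node (.leaf 6692) (.leaf 14540)) (.node (.leaf 15756) (.leaf 7989)))) (.node (.node (.node (.leaf 949) (.leaf 10628)) (.node (.leaf 15024) (.leaf 12524))) (.node (.node (.leaf 8737)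 (.leaf 13883)) (.node (.leaf 9903) (.leaf 14411))))) (.node (.node (.node (.node (.leaf 615) (.leaf 12621)) (.node (.leaf 10733) (.leaf 10119))) (.node (.node (.leaf 1780) (.leaf 12273)) (.node (.leaf 7558) (.leaf 15682)))) (.node (.node (.node (.leaf 6904) (.leaf 9036)) (.node (.leaf 2874) (.leaf 13783))) (.node (.node (.leaf 2269) (.leaf 11485)) (.node (.leaf 16009) (.leaf 14357)))))))

def twoRank75 : Janko.Tree (ℕ) :=
  (.node (.node (.node (.node (.node (.node (.node (.leaf 62) (.leaf 13980)) (.leaf 13540)) (.node (.leaf 7655) (.leaf 9687))) (.node (.node (.leaf 1366) (.leaf 12422)) (.node (.leaf 2982) (.leaf 13430)))) (.node (.node (.node (.leaf 787) (.leaf 11218)) (.node (.leaf 13689) (.leaf 15546))) (.node (.node (.leaf 1923) (.leaf 14672)) (.node (.leaf 3327) (.leaf 10826))))) (.node (.node (.node (.node (.leaf 445) (.leaf 15377)) (.node (.leaf 14302) (.leaf 11155))) (.node (.node (.leaf 7071) (.leaf 9674)) (.node (.leaf 8516) (.leaf 16410)))) (.node (.node (.node (.leaf 7351) (.leaf 16096)) (.node (.leaf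 8810) (.leaf 10965))) (.node (.node (.leaf 2169) (.leaf 11782)) (.node (.leaf 11681) (.leaf 15818)))))) (.node (.node (.node (.node (.node (.leaf 266) (.leaf 3603)) (.node (.leaf 2454) (.leaf 8680))) (.node (.node (.leaf 1497) (.leaf 9330)) (.node (.leaf 3083) (.leaf 11675)))) (.node (.node (.node (.leaf 8964) (.leaf 3735)) (.node (.leaf 12564) (.leaf 13125))) (.node (.node (.leaf 2048) (.leaf 3886)) (.node (.leaf 12470) (.leaf 11372))))) (.node (.node (.node (.node (.leaf 7075) (.leaf 8640)) (.node (.leaf 2615) (.leaf 9188))) (.node (.node (.leaf 1781) (.leaf 7032)) (.node (.leaf 10060) (.leaf 12683)))) (.node (.node (.node (.leaf 8995) (.leaf 3772)) (.node (.leaf 2875) (.leaf 9271))) (.node (.node (.leaf 11797) (.leaf 3956)) (.node (.leaf 9726) (.leaf 11447)))))))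

def twoRank76 : Janko.Tree (ℕ) :=
  (.node (.node (.node (.node (.node (.node (.node (.leaf 63) (.leaf 7335)) (.leaf 8167)) (.node (.leaf 4725) (.leaf 16247))) (.node (.node (.leaf 1367) (.leaf 15767)) (.node (.leaf 15118) (.leaf 4204)))) (.node (.node (.node (.leaf 788) (.leaf 4461)) (.node (.leaf 11547) (.leaf 4260))) (.node (.node (.leaf 7695) (.leaf 13216)) (.node (.leaf 10643) (.leaf 7984))))) (.node (.node (.node (.node (.leaf 9887) (.leaf 15656)) (.node (.leaf 13335) (.leaf 14277))) (.node (.node (.leaf 4803) (.leaf 9861)) (.node (.leaf 4593) (.leaf 15169)))) (.node (.node (.node (.leaf 4855) (.leaf 4435)) (.node (.leaf 4644) (.leaf 15594))) (.node (.node (.leaf 2170) (.leaf 7314)) (.node (.leaf 14512) (.leaf 14327)))))) (.node (.node (.node (.node (.node (.leaf 14100) (.leaf 3604)) (.node (.leaf 14869) (.leaf 14082))) (.node (.node (.leaf 1498) (.leaf 15092)) (.node (.leaf 4604) (.leaf 14535)))) (.node (.node (.node (.leaf 7106) (.leaf 11169)) (.node (.leaf 11085) (.leaf 12235))) (.node (.node (.leaf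 8457) (.leaf 13015)) (.node (.leaf 11122) (.leaf 4130))))) (.node (.node (.node (.node (.leaf 4898) (.leaf 11151)) (.node (.leaf 2616) (.leaf 10124))) (.node (.node (.leaf 13037) (.leaf 13393)) (.node (.leaf 10993) (.leaf 4161)))) (.node (.node (.node (.leaf 1231) (.leaf 13225)) (.node (.leaf 7091) (.leaf 4219))) (.node (.node (.leaf 4739) (.leaf 13035)) (.node (.leaf 16043) (.leaf 4106)))))))

def twoRank77 : Janko.Tree (ℕ) :=
  (.node (.node (.node (.node (.node (.node (.node (.leaf 64) (.leaf 13975)) (.leaf 5468)) (.node (.leaf 7263) (.leaf 5204))) (.node (.node (.leaf 5859) (.leaf 9556)) (.node (.leaf 5594) (.leaf 8076)))) (.node (.node (.node (.leaf 5924) (.leaf 16084)) (.node (.leaf 5654) (.leaf 12280))) (.node (.node (.leaf 11009) (.leaf 5273)) (.node (.leaf 10610) (.leaf 7977))))) (.node (.node (.node (.node (.leaf 446) (.leaf 5437)) (.node (.leaf 9517) (.leaf 4027))) (.node (.node (.leaf 1647) (.leaf 11626)) (.node (.leaf 7255) (.leaf 5041)))) (.node (.node (.node (.leaf 1095) (.leaf 13780)) (.node (.leaf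 12837) (.leaf 5101))) (.node (.node (.leaf 2171) (.leaf 10360)) (.node (.leaf 5495) (.leaf 4975)))))) (.node (.node (.node (.node (.node (.leaf 267) (.leaf 5454)) (.node (.leaf 2455) (.leaf 13663))) (.node (.node (.leaf 1499) (.leaf 13196)) (.node (.leaf 7811) (.leaf 15707)))) (.node (.node (.node (.leaf 950) (.leaf 11042)) (.node (.leaf 5642) (.leaf 8738))) (.node (.node (.leaf 7781) (.leaf 7093)) (.node (.leaf 5512) (.leaf 13395))))) (.node (.node (.node (.node (.leaf 7290) (.leaf 5422)) (.node (.leaf 8250) (.leaf 4045))) (.node (.node (.leaf 1782) (.leaf 5283)) (.node (.leaf 5542) (.leaf 15187)))) (.node (.node (.node (.leaf 5876) (.leaf 3773)) (.node (.leaf 2876) (.leaf 13627))) (.node (.node (.leaf 10403) (.leaf 5224)) (.node (.leaf 5481) (.leaf 11576)))))))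

def twoRank78 : Janko.Tree (ℕ) :=
  (.node (.node (.node (.node (.node (.node (.leaf 6816) (.leaf 13463)) (.node (.leaf 13683) (.leaf 3984))) (.node (.node (.leaf 1368) (.leaf 10239)) (.node (.leaf 2983) (.leaf 7474)))) (.node (.node (.node (.leaf 7831) (.leaf 16321)) (.node (.leaf 11562) (.leaf 9205))) (.node (.node (.leaf 6653) (.leaf 3833)) (.node (.leaf 3328) (.leaf 6034))))) (.node (.node (.node (.node (.leaf 447) (.leaf 12390)) (.node (.leaf 12120) (.leaf 6158))) (.node (.node (.leaf 10901) (.leaf 9863)) (.node (.leaf 8600) (.leaf 16368)))) (.node (.node (.node (.leaf 7545) (.leaf 16382)) (.node (.leaf 2776) (.leaf 14699))) (.node (.node (.leaf 2172) (.leaf 6216)) (.node (.leaf 3460) (.leaf 13576)))))) (.node (.node (.node (.node (.node (.leaf 268) (.leaf 11418)) (.node (.leaf 15487) (.leaf 6173))) (.node (.node (.leaf 1500) (.leaf 6275)) (.node (.leaf 7631) (.leaf 14538)))) (.node (.node (.node (.leaf 6742) (.leaf 11044)) (.node (.leaf 12350) (.leaf 12079))) (.node (.node (.leaf 6641) (.leaf 6227)) (.node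 (.leaf 12204) (.leaf 12986))))) (.node (.node (.node (.node (.leaf 616) (.leaf 11606)) (.node (.leaf 2617) (.leaf 6144))) (.node (.node (.leaf 9949) (.leaf 13355)) (.node (.leaf 3249) (.leaf 15503)))) (.node (.node (.node (.leaf 11194) (.leaf 10393)) (.node (.leaf 6514) (.leaf 13579))) (.node (.node (.leaf 7666) (.leaf 9416)) (.node (.leaf 3510) (.leaf 12072)))))))

def twoRank79 : Janko.Tree (ℕ) :=
  (.node (.node (.node (.node (.node (.node (.leaf 65) (.leaf 14793)) (.node (.leaf 14891) (.leaf 14329))) (.node (.node (.leaf 1369) (.leaf 6841)) (.node (.leaf 7796) (.leaf 4085)))) (.node (.node (.node (.leaf 789) (.leaf 13688)) (.node (.leaf 2673) (.leaf 12818))) (.node (.node (.leaf 1924) (.leaf 12468)) (.node (.leaf 7593) (.leaf 7612))))) (.node (.node (.node (.node (.leaf 448) (.leaf 16280)) (.node (.leaf 10465) (.leaf 15274))) (.node (.node (.leaf 1648) (.leaf 9859)) (.node (.leaf 3186) (.leaf 16038)))) (.node (.node (.node (.leaf 1096) (.leaf 15960)) (.node (.leaf 13565) (.leaf 8177))) (.node (.node (.leaf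 12907) (.leaf 14521)) (.node (.leaf 14306) (.leaf 16119)))))) (.node (.node (.node (.node (.node (.leaf 269) (.leaf 3605)) (.node (.leaf 7587) (.leaf 10259))) (.node (.node (.leaf 1501) (.leaf 16188)) (.node (.leaf 3084) (.leaf 12663)))) (.node (.node (.node (.leaf 951) (.leaf 8447)) (.node (.leaf 2726) (.leaf 12520))) (.node (.node (.leaf 16447) (.leaf 15300)) (.node (.leaf 11516) (.leaf 15379))))) (.node (.node (.node (.node (.leaf 617) (.leaf 3678)) (.node (.leaf 9112) (.leaf 10266))) (.node (.node (.leaf 1783) (.leaf 11412)) (.node (.leaf 14244) (.leaf 15501)))) (.node (.node (.node (.leaf 1232) (.leaf 14770)) (.node (.leaf 13209) (.leaf 12367))) (.node (.node (.leaf 2270) (.leaf 3957)) (.node (.leaf 3511) (.leaf 12068)))))))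

def twoRank80 : Janko.Tree (ℕ) :=
  (.node (.node (.node (.node (.node (.node (.leaf 66) (.leaf 13992)) (.node (.leaf 7657) (.leaf 16004))) (.node (.node (.leaf 12495) (.leaf 9047)) (.node (.leaf 7392) (.leaf 15514)))) (.node (.node (.node (.leaf 790) (.leaf 3710)) (.node (.leaf 9918) (.leaf 13385))) (.node (.node (.leaf 1925) (.leaf 11605)) (.node (.leaf 4566) (.leaf 15666))))) (.node (.node (.node (.node (.leaf 4913) (.leaf 16311)) (.node (.leaf 8284) (.leaf 13047))) (.node (.node (.leaf 1649) (.leaf 13040)) (.node (.leaf 8621) (.leaf 4172)))) (.node (.node (.node (.leaf 1097) (.leaf 10230)) (.node (.leaf 12610) (.leaf 15047))) (.node (.node (.leaf 4752) (.leaf 12535)) (.node (.leaf 3461) (.leaf 4116)))))) (.node (.node (.node (.node (.node (.leaf 4928) (.leaf 7470)) (.node (.leaf 11450) (.leaf 16203))) (.node (.node (.leaf 1502) (.leaf 14429)) (.node (.leaf 3085) (.leaf 15946)))) (.node (.node (.node (.leaf 7443) (.leaf 11308)) (.node (.leaf 2727) (.leaf 12496))) (.node (.node (.leaf 7779) (.leaf 3887)) (.node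 (.leaf 4550) (.leaf 4129))))) (.node (.node (.node (.node (.leaf 7446) (.leaf 15443)) (.node (.leaf 4685) (.leaf 13766))) (.node (.node (.leaf 1784) (.leaf 8269)) (.node (.leaf 16351) (.leaf 13219)))) (.node (.node (.node (.leaf 14734) (.leaf 12511)) (.node (.leaf 11612) (.leaf 4218))) (.node (.node (.leaf 2271) (.leaf 3958)) (.node (.leaf 16045) (.leaf 15110)))))))

def twoRank81 : Janko.Tree (ℕ) :=
  (.node (.node (.node (.node (.node (.node (.leaf 67) (.leaf 13947)) (.node (.leaf 2380) (.leaf 11582))) (.node (.node (.leaf 1370) (.leaf 9486)) (.node (.leaf 2984) (.leaf 15369)))) (.node (.node (.node (.leaf 791) (.leaf 5402)) (.node (.leaf 2674) (.leaf 5139))) (.node (.node (.leaf 1926) (.leaf 11607)) (.node (.leaf 7253) (.leaf 5007))))) (.node (.node (.node (.node (.leaf 449) (.leaf 14263)) (.node (.leaf 8013) (.leaf 5174))) (.node (.node (.leaf 1650) (.leaf 5299)) (.node (.leaf 7822) (.leaf 14771)))) (.node (.node (.node (.leaf 5894) (.leaf 13777)) (.node (.leaf 5627) (.leaf 14114))) (.node (.node (.leaf 2173)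 (.leaf 5241)) (.node (.leaf 15678) (.leaf 8681)))))) (.node (.node (.node (.node (.node (.leaf 270) (.leaf 3606)) (.node (.leaf 5703) (.leaf 16208))) (.node (.node (.leaf 5842) (.leaf 5321)) (.node (.leaf 5578) (.leaf 5059)))) (.node (.node (.node (.leaf 952) (.leaf 9296)) (.node (.leaf 14907) (.leaf 9843))) (.node (.node (.leaf 7775) (.leaf 5257)) (.node (.leaf 11487) (.leaf 13299))))) (.node (.node (.node (.node (.leaf 618) (.leaf 3679)) (.node (.leaf 8053) (.leaf 4046))) (.node (.node (.leaf 5810) (.leaf 12253)) (.node (.leaf 10714) (.leaf 5023)))) (.node (.node (.node (.leaf 8842) (.leaf 5355)) (.node (.leaf 2877) (.leaf 9477))) (.node (.node (.leaf 2272) (.leaf 10797)) (.node (.leaf 6910) (.leaf 4957)))))))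

def twoRank82 : Janko.Tree (ℕ) :=
  (.node (.node (.node (.node (.node (.node (.leaf 68) (.leaf 14819)) (.node (.leaf 6602) (.leaf 6187))) (.node (.node (.leaf 6703) (.leaf 6287)) (.node (.leaf 6502) (.leaf 15516)))) (.node (.node (.node (.leaf 792) (.leaf 16101)) (.node (.leaf 13520) (.leaf 13133))) (.node (.node (.leaf 1927) (.leaf 11609)) (.node (.leaf 12263) (.leaf 12887))))) (.node (.node (.node (.node (.leaf 450) (.leaf 16313)) (.node (.leaf 6577) (.leaf 7215))) (.node (.node (.leaf 6676) (.leaf 12505)) (.node (.leaf 6476) (.leaf 15564)))) (.node (.node (.node (.leaf 1098) (.leaf 6317)) (.node (.leaf 2777) (.leaf 9897))) (.node (.node (.leaf 2174) (.leaf 7975)) (.node (.leaf 15803) (.leaf 16457)))))) (.node (.node (.node (.node (.node (.leaf 271) (.leaf 6384)) (.node (.leaf 7270) (.leaf 16206))) (.node (.node (.leaf 1503) (.leaf 14109)) (.node (.leaf 14764) (.leaf 14387)))) (.node (.node (.node (.leaf 6741) (.leaf 6332)) (.node (.leaf 2728) (.leaf 11948))) (.node (.node (.leaf 10721) (.leaf 11629)) (.node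 (.leaf 9841) (.leaf 13719))))) (.node (.node (.node (.node (.leaf 6771) (.leaf 15822)) (.node (.leaf 9000) (.leaf 16436))) (.node (.node (.leaf 1785) (.leaf 6254)) (.node (.leaf 9899) (.leaf 8911)))) (.node (.node (.node (.leaf 16044) (.leaf 16023)) (.node (.leaf 2878) (.leaf 8332))) (.node (.node (.leaf 2273) (.leaf 3959)) (.node (.leaf 6889) (.leaf 15243)))))))

def twoRank83 : Janko.Tree (ℕ) :=
  (.node (.node (.node (.node (.node (.node (.leaf 69) (.leaf 6926)) (.node (.leaf 2381) (.leaf 13935))) (.node (.node (.leaf 10064) (.leaf 9049)) (.node (.leaf 2985) (.leaf 15371)))) (.node (.node (.node (.leaf 793) (.leaf 15438)) (.node (.leaf 11531) (.leaf 4058))) (.node (.node (.leaf 7061) (.leaf 12650)) (.node (.leaf 3329) (.leaf 13743))))) (.node (.node (.node (.node (.leaf 451) (.leaf 16170)) (.node (.leaf 2526) (.leaf 15807))) (.node (.node (.leaf 1651) (.leaf 15297)) (.node (.leaf 14639) (.leaf 15566)))) (.node (.node (.node (.leaf 10989) (.leaf 15305)) (.node (.leaf 2778) (.leaf 9895))) (.node (.node (.leaf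 2175) (.leaf 11659)) (.node (.leaf 3462) (.leaf 12902)))))) (.node (.node (.node (.node (.node (.leaf 272) (.leaf 12067)) (.node (.leaf 2456) (.leaf 16210))) (.node (.node (.leaf 1504) (.leaf 12086)) (.node (.leaf 3086) (.leaf 9044)))) (.node (.node (.node (.leaf 953) (.leaf 11227)) (.node (.leaf 8558) (.leaf 13150))) (.node (.node (.leaf 2049) (.leaf 3888)) (.node (.leaf 3409) (.leaf 13717))))) (.node (.node (.node (.node (.leaf 619) (.leaf 8673)) (.node (.leaf 2618) (.leaf 13763))) (.node (.node (.leaf 9193) (.leaf 9745)) (.node (.leaf 3250) (.leaf 8863)))) (.node (.node (.node (.leaf 1233) (.leaf 3774)) (.node (.leaf 13498) (.leaf 13247))) (.node (.node (.leaf 8101) (.leaf 9395)) (.node (.leaf 16162) (.leaf 13446)))))))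

def twoRank84 : Janko.Tree (ℕ) :=
  (.node (.node (.node (.node (.node (.node (.leaf 4941) (.leaf 10873)) (.node (.leaf 12579) (.leaf 15039))) (.node (.node (.leaf 11127) (.leaf 16176)) (.node (.leaf 8864) (.leaf 4203)))) (.node (.node (.node (.leaf 4883) (.leaf 13917)) (.node (.leaf 2675) (.leaf 9998))) (.node (.node (.leaf 4776) (.leaf 11831)) (.node (.leaf 7688) (.leaf 10656))))) (.node (.node (.node (.node (.leaf 452) (.leaf 13659)) (.node (.leaf 7995) (.leaf 7219))) (.node (.node (.leaf 1652) (.leaf 12044)) (.node (.leaf 4592) (.leaf 16271)))) (.node (.node (.node (.leaf 7537) (.leaf 7551)) (.node (.leaf 12606) (.leaf 4234))) (.node (.node (.leaf 8006) (.leaf 7606)) (.node (.leaf 4536) (.leaf 15325)))))) (.node (.node (.node (.node (.node (.leaf 273) (.leaf 3607)) (.node (.leaf 2457) (.leaf 14457))) (.node (.node (.leaf 1505) (.leaf 15015)) (.node (.leaf 13356) (.leaf 15055)))) (.node (.node (.node (.leaf 954) (.leaf 14719)) (.node (.leaf 4656) (.leaf 9874))) (.node (.node (.leaf 4764) (.leaf 3889)) (.node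 (.leaf 9789) (.leaf 12934))))) (.node (.node (.node (.node (.leaf 620) (.leaf 4472)) (.node (.leaf 10328) (.leaf 12276))) (.node (.node (.leaf 15200) (.leaf 4375)) (.node (.leaf 4578) (.leaf 4160)))) (.node (.node (.node (.leaf 4843) (.leaf 13836)) (.node (.leaf 4632) (.leaf 4217))) (.node (.node (.leaf 4738) (.leaf 4319)) (.node (.leaf 13316) (.leaf 4105)))))))

def twoRank85 : Janko.Tree (ℕ) :=
  (.node (.node (.node (.node (.node (.node (.leaf 70) (.leaf 5467)) (.node (.leaf 2382) (.leaf 15859))) (.node (.node (.leaf 5858) (.leaf 13665)) (.node (.leaf 7780) (.leaf 12753)))) (.node (.node (.node (.leaf 794) (.leaf 13915)) (.node (.leaf 5653) (.leaf 15116))) (.node (.node (.leaf 7814) (.leaf 5272)) (.node (.leaf 3330) (.leaf 5006))))) (.node (.node (.node (.node (.leaf 453) (.leaf 15953)) (.node (.leaf 8235) (.leaf 12920))) (.node (.node (.leaf 1653) (.leaf 12290)) (.node (.leaf 3187) (.leaf 15219)))) (.node (.node (.node (.leaf 1099) (.leaf 5373)) (.node (.leaf 11927) (.leaf 6909))) (.node (.node (.leaf 5756)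 (.leaf 7715)) (.node (.leaf 11522) (.leaf 16128)))))) (.node (.node (.node (.node (.node (.leaf 274) (.leaf 13704)) (.node (.leaf 2458) (.leaf 5190))) (.node (.node (.leaf 1506) (.leaf 11822)) (.node (.leaf 3087) (.leaf 14813)))) (.node (.node (.node (.leaf 955) (.leaf 15127)) (.node (.leaf 2729) (.leaf 5123))) (.node (.node (.leaf 2050) (.leaf 3890)) (.node (.leaf 12106) (.leaf 12924))))) (.node (.node (.node (.node (.leaf 621) (.leaf 11505)) (.node (.leaf 5673) (.leaf 12039))) (.node (.node (.leaf 1786) (.leaf 13067)) (.node (.leaf 9280) (.leaf 11939)))) (.node (.node (.node (.leaf 8255) (.leaf 3775)) (.node (.leaf 2879) (.leaf 9599))) (.node (.node (.leaf 10461) (.leaf 13778)) (.node (.leaf 5480) (.leaf 11644)))))))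

def twoRank86 : Janko.Tree (ℕ) :=
  (.node (.node (.node (.node (.node (.node (.leaf 71) (.leaf 10596)) (.node (.leaf 9816) (.leaf 15041))) (.node (.node (.leaf 10802) (.leaf 15948)) (.node (.leaf 7790) (.leaf 10601)))) (.node (.node (.node (.leaf 8843) (.leaf 15481)) (.node (.leaf 16408) (.leaf 10014))) (.node (.node (.leaf 7783) (.leaf 16449)) (.node (.leaf 6449) (.leaf 11323))))) (.node (.node (.node (.node (.leaf 6785) (.leaf 6374)) (.node (.leaf 7993) (.leaf 6157))) (.node (.node (.leaf 1654) (.leaf 11743)) (.node (.leaf 6978) (.leaf 6844)))) (.node (.node (.node (.leaf 6727) (.leaf 7883)) (.node (.leaf 6526) (.leaf 16149))) (.node (.node (.leaf 8058) (.leaf 6215)) (.node (.leaf 7173) (.leaf 6013)))))) (.node (.node (.node (.node (.node (.leaf 6800) (.leaf 14745)) (.node (.leaf 2459) (.leaf 4010))) (.node (.node (.leaf 6691) (.leaf 11820)) (.node (.leaf 3088) (.leaf 6071)))) (.node (.node (.node (.leaf 956) (.leaf 16274)) (.node (.leaf 10141) (.leaf 9693))) (.node (.node (.leaf 7004) (.leaf 3891)) (.node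 (.leaf 6438) (.leaf 6023))))) (.node (.node (.node (.node (.leaf 622) (.leaf 16315)) (.node (.leaf 9109) (.leaf 11648))) (.node (.node (.leaf 6663) (.leaf 8270)) (.node (.leaf 7201) (.leaf 8262)))) (.node (.node (.node (.leaf 8846) (.leaf 11532)) (.node (.leaf 2880) (.leaf 14954))) (.node (.node (.leaf 10666) (.leaf 15962)) (.node (.leaf 11593) (.leaf 12762)))))))

def twoRank87 : Janko.Tree (ℕ) :=
  (.node (.node (.node (.node (.node (.node (.leaf 72) (.leaf 3556)) (.node (.leaf 9307) (.leaf 13633))) (.node (.node (.leaf 1371) (.leaf 13227)) (.node (.leaf 7782) (.leaf 10248)))) (.node (.node (.node (.leaf 795) (.leaf 16439)) (.node (.leaf 2676) (.leaf 7686))) (.node (.node (.leaf 7785) (.leaf 3834)) (.node (.leaf 14621) (.leaf 14593))))) (.node (.node (.node (.node (.leaf 454) (.leaf 14248)) (.node (.leaf 2527) (.leaf 13045))) (.node (.node (.leaf 1655) (.leaf 16123)) (.node (.leaf 3188) (.leaf 14363)))) (.node (.node (.node (.leaf 1100) (.leaf 7880)) (.node (.leaf 2779) (.leaf 15640))) (.node (.node (.leaf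 2176) (.leaf 11679)) (.node (.leaf 8512) (.leaf 16126)))))) (.node (.node (.node (.node (.node (.leaf 275) (.leaf 13694)) (.node (.leaf 12058) (.leaf 4011))) (.node (.node (.leaf 1507) (.leaf 15814)) (.node (.leaf 3089) (.leaf 14146)))) (.node (.node (.node (.leaf 957) (.leaf 10803)) (.node (.leaf 13271) (.leaf 11465))) (.node (.node (.leaf 2051) (.leaf 12703)) (.node (.leaf 12108) (.leaf 13868))))) (.node (.node (.node (.node (.leaf 623) (.leaf 14278)) (.node (.leaf 9107) (.leaf 16426))) (.node (.node (.leaf 1787) (.leaf 9872)) (.node (.leaf 8972) (.leaf 14682)))) (.node (.node (.node (.leaf 1234) (.leaf 15456)) (.node (.leaf 2881) (.leaf 9834))) (.node (.node (.leaf 10847) (.leaf 15972)) (.node (.leaf 3512) (.leaf 9871)))))))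

def twoRank88 : Janko.Tree (ℕ) :=
  (.node (.node (.node (.node (.node (.node (.leaf 73) (.leaf 10923)) (.node (.leaf 7524) (.leaf 4308))) (.node (.node (.leaf 1372) (.leaf 7677)) (.node (.leaf 10727) (.leaf 11817)))) (.node (.node (.node (.leaf 11220) (.leaf 4460)) (.node (.leaf 8434) (.leaf 4259))) (.node (.node (.leaf 1928) (.leaf 13131)) (.node (.leaf 10173) (.leaf 7603))))) (.node (.node (.node (.node (.leaf 455) (.leaf 3655)) (.node (.leaf 2528) (.leaf 12727))) (.node (.node (.leaf 4802) (.leaf 13971)) (.node (.leaf 7651) (.leaf 15388)))) (.node (.node (.node (.leaf 11254) (.leaf 12099)) (.node (.leaf 2780) (.leaf 12473))) (.node (.node (.leaf 2177) (.leaf 10421)) (.node (.leaf 15773) (.leaf 11934)))))) (.node (.node (.node (.node (.node (.leaf 276) (.leaf 4496)) (.node (.leaf 7861) (.leaf 14454))) (.node (.node (.leaf 15366) (.leaf 15590)) (.node (.leaf 4603) (.leaf 4186)))) (.node (.node (.node (.leaf 7658) (.leaf 12348)) (.node (.leaf 11147) (.leaf 14473))) (.node (.node (.leaf 7425) (.leaf 4341)) (.node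 (.leaf 8736) (.leaf 11999))))) (.node (.node (.node (.node (.leaf 4897) (.leaf 3680)) (.node (.leaf 9004) (.leaf 14474))) (.node (.node (.leaf 12101) (.leaf 11256)) (.node (.leaf 3251) (.leaf 11871)))) (.node (.node (.node (.leaf 1235) (.leaf 4423)) (.node (.leaf 2882) (.leaf 15779))) (.node (.node (.leaf 10850) (.leaf 14243)) (.node (.leaf 9985) (.leaf 14463)))))))

def twoRank89 : Janko.Tree (ℕ) :=
  (.node (.node (.node (.node (.node (.node (.leaf 5985) (.leaf 10875)) (.node (.leaf 5723) (.leaf 3985))) (.node (.node (.leaf 1373) (.leaf 5337)) (.node (.leaf 8929) (.leaf 12197)))) (.node (.node (.node (.leaf 5923) (.leaf 10765)) (.node (.leaf 8436) (.leaf 14789))) (.node (.node (.leaf 1929) (.leaf 12561)) (.node (.leaf 3331) (.leaf 4091))))) (.node (.node (.node (.node (.leaf 456) (.leaf 13518)) (.node (.leaf 10477) (.leaf 13439))) (.node (.node (.leaf 1656) (.leaf 14502)) (.node (.leaf 5559) (.leaf 15386)))) (.node (.node (.node (.leaf 1101) (.leaf 5372)) (.node (.leaf 9057) (.leaf 16087))) (.node (.node (.leaf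 2178) (.leaf 5240)) (.node (.leaf 8670) (.leaf 11936)))))) (.node (.node (.node (.node (.node (.leaf 277) (.leaf 3608)) (.node (.leaf 5702) (.leaf 14188))) (.node (.node (.leaf 1508) (.leaf 15363)) (.node (.leaf 3090) (.leaf 16251)))) (.node (.node (.node (.leaf 5909) (.leaf 11111)) (.node (.leaf 5641) (.leaf 14469))) (.node (.node (.leaf 5774) (.leaf 7888)) (.node (.leaf 10796) (.leaf 14367))))) (.node (.node (.node (.node (.leaf 6927) (.leaf 13858)) (.node (.leaf 10535) (.leaf 5159))) (.node (.node (.leaf 1788) (.leaf 5282)) (.node (.leaf 10709) (.leaf 14516)))) (.node (.node (.node (.leaf 1236) (.leaf 15005)) (.node (.leaf 2883) (.leaf 9564))) (.node (.node (.leaf 5739) (.leaf 14245)) (.node (.leaf 9936) (.leaf 13933)))))))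

def twoRank90 : Janko.Tree (ℕ) :=
  (.node (.node (.node (.node (.node (.node (.leaf 74) (.leaf 6399)) (.node (.leaf 7908) (.leaf 15606))) (.node (.node (.leaf 1374) (.leaf 11961)) (.node (.leaf 6501) (.leaf 15154)))) (.node (.node (.node (.leaf 796) (.leaf 9408)) (.node (.leaf 8432) (.leaf 14797))) (.node (.node (.leaf 1930) (.leaf 12559)) (.node (.leaf 10171) (.leaf 6033))))) (.node (.node (.node (.node (.leaf 8848) (.leaf 11284)) (.node (.leaf 6875) (.leaf 15637))) (.node (.node (.leaf 10264) (.leaf 14346)) (.node (.leaf 7400) (.leaf 6063)))) (.node (.node (.node (.leaf 7350) (.leaf 13283)) (.node (.leaf 9053) (.leaf 6110))) (.node (.node (.leaf 2179) (.leaf 11322)) (.node (.leaf 3463) (.leaf 11938)))))) (.node (.node (.node (.node (.node (.leaf 278) (.leaf 7468)) (.node (.leaf 7870) (.leaf 6856))) (.node (.node (.leaf 1509) (.leaf 15588)) (.node (.leaf 3091) (.leaf 16260)))) (.node (.node (.node (.leaf 958) (.leaf 6331)) (.node (.leaf 12442) (.leaf 15285))) (.node (.node (.leaf 7665) (.leaf 3892)) (.node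 (.leaf 8740) (.leaf 6022))))) (.node (.node (.node (.node (.leaf 624) (.leaf 6359)) (.node (.leaf 6565) (.leaf 13957))) (.node (.node (.leaf 1789) (.leaf 15982)) (.node (.leaf 3252) (.leaf 6046)))) (.node (.node (.node (.leaf 1237) (.leaf 11700)) (.node (.leaf 6513) (.leaf 11745))) (.node (.node (.leaf 10463) (.leaf 6200)) (.node (.leaf 9942) (.leaf 5997)))))))

def twoRank91 : Janko.Tree (ℕ) :=
  (.node (.node (.node (.node (.node (.node (.leaf 75) (.leaf 3557)) (.node (.leaf 16166) (.leaf 14348))) (.node (.node (.leaf 10364) (.leaf 13497)) (.node (.leaf 2986) (.leaf 12664)))) (.node (.node (.node (.leaf 10902) (.leaf 9634)) (.node (.leaf 10804) (.leaf 10027))) (.node (.node (.leaf 1931) (.leaf 3835)) (.node (.leaf 9196) (.leaf 13222))))) (.node (.node (.node (.node (.leaf 457) (.leaf 3656)) (.node (.leaf 6873) (.leaf 13769))) (.node (.node (.leaf 1657) (.leaf 15607)) (.node (.leaf 15356) (.leaf 15114)))) (.node (.node (.node (.leaf 1102) (.leaf 13525)) (.node (.leaf 12486) (.leaf 16085))) (.node (.node (.leaf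 2180) (.leaf 14790)) (.node (.leaf 7063) (.leaf 11588)))))) (.node (.node (.node (.node (.node (.leaf 279) (.leaf 12065)) (.node (.leaf 2460) (.leaf 14186))) (.node (.node (.leaf 1510) (.leaf 15867)) (.node (.leaf 3092) (.leaf 15288)))) (.node (.node (.node (.leaf 959) (.leaf 15373)) (.node (.leaf 11088) (.leaf 14471))) (.node (.node (.leaf 16081) (.leaf 12313)) (.node (.leaf 3410) (.leaf 11410))))) (.node (.node (.node (.node (.leaf 625) (.leaf 14096)) (.node (.leaf 2619) (.leaf 14455))) (.node (.node (.leaf 1790) (.leaf 15979)) (.node (.leaf 7349) (.leaf 14489)))) (.node (.node (.node (.leaf 1238) (.leaf 15008)) (.node (.leaf 2884) (.leaf 8314))) (.node (.node (.leaf 11354) (.leaf 15019)) (.node (.leaf 8633) (.leaf 14458)))))))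

def twoRank92 : Janko.Tree (ℕ) :=
  (.node (.node (.node (.node (.node (.node (.leaf 76) (.leaf 12560)) (.node (.leaf 11492) (.leaf 10234))) (.node (.node (.leaf 4829) (.leaf 12240)) (.node (.leaf 14643) (.leaf 12061)))) (.node (.node (.node (.leaf 8859) (.leaf 8481)) (.node (.leaf 14509) (.leaf 14931))) (.node (.node (.leaf 4775) (.leaf 3836)) (.node (.leaf 9947) (.leaf 13291))))) (.node (.node (.node (.node (.leaf 4912) (.leaf 3657)) (.node (.leaf 4699) (.leaf 4281))) (.node (.node (.leaf 16198) (.leaf 15924)) (.node (.leaf 15365) (.leaf 4171)))) (.node (.node (.node (.leaf 7626) (.leaf 10276)) (.node (.leaf 15184) (.leaf 12104))) (.node (.node (.leaf 4751) (.leaf 16230)) (.node (.leaf 4535) (.leaf 10788)))))) (.node (.node (.node (.node (.node (.leaf 4927) (.leaf 7235)) (.node (.leaf 16389) (.leaf 8522))) (.node (.node (.leaf 4816) (.leaf 4399)) (.node (.leaf 3093) (.leaf 15375)))) (.node (.node (.node (.leaf 960) (.leaf 9854)) (.node (.leaf 15510) (.leaf 12938))) (.node (.node (.leaf 15636) (.leaf 4340))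 (.node (.leaf 9782) (.leaf 10533))))) (.node (.node (.node (.node (.leaf 626) (.leaf 16138)) (.node (.leaf 2620) (.leaf 14453))) (.node (.node (.leaf 1791) (.leaf 15974)) (.node (.leaf 4577) (.leaf 13501)))) (.node (.node (.node (.leaf 4842) (.leaf 15645)) (.node (.leaf 8881) (.leaf 14688))) (.node (.node (.leaf 2274) (.leaf 13707)) (.node (.leaf 16075) (.leaf 9625)))))))

def twoRank93 : Janko.Tree (ℕ) :=
  (.node (.node (.node (.node (.node (.node (.leaf 77) (.leaf 3558)) (.node (.leaf 5722) (.leaf 3986))) (.node (.node (.leaf 10378) (.leaf 5336)) (.node (.leaf 2987) (.leaf 5072)))) (.node (.node (.node (.leaf 797) (.leaf 13624)) (.node (.leaf 14507) (.leaf 15246))) (.node (.node (.leaf 9540) (.leaf 5271)) (.node (.leaf 5527) (.leaf 5005))))) (.node (.node (.node (.node (.leaf 458) (.leaf 11192)) (.node (.leaf 8009) (.leaf 12233))) (.node (.node (.leaf 5827) (.leaf 5298)) (.node (.leaf 8734) (.leaf 8220)))) (.node (.node (.node (.leaf 1103) (.leaf 12077)) (.node (.leaf 10005) (.leaf 5100))) (.node (.node (.leaf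 8008) (.leaf 13844)) (.node (.leaf 8914) (.leaf 8527)))))) (.node (.node (.node (.node (.node (.leaf 280) (.leaf 5453)) (.node (.leaf 14040) (.leaf 5189))) (.node (.node (.leaf 1511) (.leaf 12146)) (.node (.leaf 5577) (.leaf 13828)))) (.node (.node (.node (.leaf 961) (.leaf 3736)) (.node (.leaf 2730) (.leaf 10305))) (.node (.node (.leaf 2052) (.leaf 16233)) (.node (.leaf 5511) (.leaf 9476))))) (.node (.node (.node (.node (.leaf 5939) (.leaf 5421)) (.node (.leaf 8275) (.leaf 15667))) (.node (.node (.leaf 5809) (.leaf 11583)) (.node (.leaf 3253) (.leaf 13555)))) (.node (.node (.node (.leaf 1239) (.leaf 5354)) (.node (.leaf 8885) (.leaf 5088))) (.node (.node (.leaf 5738) (.leaf 5223)) (.node (.leaf 7141) (.leaf 15811)))))))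

def twoRank94 : Janko.Tree (ℕ) :=
  (.node (.node (.node (.node (.node (.node (.leaf 78) (.leaf 7472)) (.node (.leaf 2383) (.leaf 6186))) (.node (.node (.leaf 10374) (.leaf 12116)) (.node (.leaf 2988) (.leaf 15283)))) (.node (.node (.node (.leaf 6756) (.leaf 6344)) (.node (.leaf 16064) (.leaf 14922))) (.node (.node (.leaf 1932) (.leaf 11435)) (.node (.leaf 10136) (.leaf 12478))))) (.node (.node (.node (.node (.leaf 7154) (.leaf 12419)) (.node (.leaf 7477) (.leaf 7217))) (.node (.node (.leaf 1658) (.leaf 14335)) (.node (.leaf 6857) (.leaf 8375)))) (.node (.node (.node (.leaf 7624) (.leaf 3757)) (.node (.leaf 14676) (.leaf 9907))) (.node (.node (.leaf 8974) (.leaf 3933)) (.node (.leaf 7807) (.leaf 9677)))))) (.node (.node (.node (.node (.node (.leaf 281) (.leaf 13126)) (.node (.leaf 2461) (.leaf 11509))) (.node (.node (.leaf 1512) (.leaf 11804)) (.node (.leaf 3094) (.leaf 6070)))) (.node (.node (.node (.leaf 962) (.leaf 3737)) (.node (.leaf 14607) (.leaf 10303))) (.node (.node (.leaf 6890) (.leaf 16320)) (.node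 (.leaf 12693) (.leaf 10334))))) (.node (.node (.node (.node (.leaf 627) (.leaf 13914)) (.node (.leaf 2621) (.leaf 14496))) (.node (.node (.leaf 10613) (.leaf 3813)) (.node (.leaf 7867) (.leaf 13557)))) (.node (.node (.node (.leaf 7027) (.leaf 14620)) (.node (.leaf 8877) (.leaf 16423))) (.node (.node (.leaf 8732) (.leaf 16385)) (.node (.leaf 6412) (.leaf 14163)))))))

def twoRank95 : Janko.Tree (ℕ) :=
  (.node (.node (.node (.node (.node (.node (.leaf 79) (.leaf 7057)) (.node (.leaf 2384) (.leaf 15765))) (.node (.node (.leaf 1375) (.leaf 11020)) (.node (.leaf 2989) (.leaf 12084)))) (.node (.node (.node (.leaf 798) (.leaf 12141)) (.node (.leaf 7183) (.leaf 10046))) (.node (.node (.leaf 1933) (.leaf 14321)) (.node (.leaf 3332) (.leaf 12724))))) (.node (.node (.node (.node (.leaf 459) (.leaf 8834)) (.node (.leaf 2529) (.leaf 12730))) (.node (.node (.leaf 1659) (.leaf 12310)) (.node (.leaf 6855) (.leaf 9266)))) (.node (.node (.node (.leaf 7526) (.leaf 9611)) (.node (.leaf 2781) (.leaf 12306))) (.node (.node (.leaf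 2181) (.leaf 8216)) (.node (.leaf 8916) (.leaf 6824)))))) (.node (.node (.node (.node (.node (.leaf 282) (.leaf 3609)) (.node (.leaf 7592) (.leaf 12644))) (.node (.node (.leaf 1513) (.leaf 12144)) (.node (.leaf 8631) (.leaf 15000)))) (.node (.node (.node (.leaf 7792) (.leaf 9337)) (.node (.leaf 7486) (.leaf 15156))) (.node (.node (.leaf 6888) (.leaf 16231)) (.node (.leaf 3411) (.leaf 13729))))) (.node (.node (.node (.node (.leaf 628) (.leaf 14668)) (.node (.leaf 8260) (.leaf 6937))) (.node (.node (.leaf 1792) (.leaf 8052)) (.node (.leaf 3254) (.leaf 13638)))) (.node (.node (.node (.leaf 1240) (.leaf 14995)) (.node (.leaf 2885) (.leaf 11638))) (.node (.node (.leaf 2275) (.leaf 3960)) (.node (.leaf 14641) (.leaf 12984)))))))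

def twoRank96 : Janko.Tree (ℕ) :=
  (.node (.node (.node (.node (.node (.node (.leaf 4940) (.leaf 4510)) (.node (.leaf 9781) (.leaf 3987))) (.node (.node (.leaf 7497) (.leaf 8998)) (.node (.leaf 4617) (.leaf 4202)))) (.node (.node (.node (.leaf 799) (.leaf 16324)) (.node (.leaf 4671) (.leaf 15643))) (.node (.node (.leaf 1934) (.leaf 3837)) (.node (.leaf 10615) (.leaf 11320))))) (.node (.node (.node (.node (.leaf 460) (.leaf 3658)) (.node (.leaf 13584) (.leaf 9250))) (.node (.node (.leaf 10256) (.leaf 15843)) (.node (.leaf 4591) (.leaf 13466)))) (.node (.node (.node (.leaf 7696) (.leaf 11655)) (.node (.leaf 2782) (.leaf 13944))) (.node (.node (.leaf 2182) (.leaf 12385)) (.node (.leaf 13823) (.leaf 16422)))))) (.node (.node (.node (.node (.node (.leaf 283) (.leaf 14551)) (.node (.leaf 10492) (.leaf 9829))) (.node (.node (.leaf 1514) (.leaf 11774)) (.node (.leaf 15031) (.leaf 12448)))) (.node (.node (.node (.leaf 4868) (.leaf 4449)) (.node (.leaf 4655) (.leaf 4246))) (.node (.node (.leaf 4763) (.leaf 12517)) (.node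 (.leaf 8727) (.leaf 11226))))) (.node (.node (.node (.node (.leaf 629) (.leaf 14547)) (.node (.leaf 10597) (.leaf 7689))) (.node (.node (.leaf 7597) (.leaf 4374)) (.node (.leaf 7871) (.leaf 4159)))) (.node (.node (.node (.leaf 8258) (.leaf 9926)) (.node (.leaf 4631) (.leaf 10127))) (.node (.node (.leaf 9950) (.leaf 4318)) (.node (.leaf 10672) (.leaf 12812)))))))

def twoRank97 : Janko.Tree (ℕ) :=
  (.node (.node (.node (.node (.node (.node (.leaf 80) (.leaf 10730)) (.node (.leaf 2385) (.leaf 5203))) (.node (.node (.leaf 5857) (.leaf 15749)) (.node (.leaf 7092) (.leaf 15791)))) (.node (.node (.node (.leaf 800) (.leaf 14542)) (.node (.leaf 10780) (.leaf 5138))) (.node (.node (.leaf 5792) (.leaf 3838)) (.node (.leaf 5526) (.leaf 13203))))) (.node (.node (.node (.node (.leaf 5954) (.leaf 5436)) (.node (.leaf 5688) (.leaf 5173))) (.node (.node (.leaf 1660) (.leaf 12381)) (.node (.leaf 3189) (.leaf 10960)))) (.node (.node (.node (.leaf 5893) (.leaf 5371)) (.node (.leaf 14854) (.leaf 5099))) (.node (.node (.leaf 8278)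 (.leaf 11730)) (.node (.leaf 9286) (.leaf 8392)))))) (.node (.node (.node (.node (.node (.leaf 5969) (.leaf 3610)) (.node (.leaf 5701) (.leaf 9683))) (.node (.node (.leaf 1515) (.leaf 5320)) (.node (.leaf 3095) (.leaf 5058)))) (.node (.node (.node (.leaf 963) (.leaf 9777)) (.node (.leaf 11264) (.leaf 9886))) (.node (.node (.leaf 2053) (.leaf 8310)) (.node (.leaf 5510) (.leaf 8771))))) (.node (.node (.node (.node (.leaf 630) (.leaf 3681)) (.node (.leaf 5672) (.leaf 9186))) (.node (.node (.leaf 1793) (.leaf 13814)) (.node (.leaf 7860) (.leaf 10813)))) (.node (.node (.node (.leaf 5875) (.leaf 14197)) (.node (.leaf 2886) (.leaf 10125))) (.node (.node (.leaf 2276) (.leaf 14266)) (.node (.leaf 5479) (.leaf 13068)))))))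

def twoRank98 : Janko.Tree (ℕ) :=
  (.node (.node (.node (.node (.node (.node (.leaf 81) (.leaf 10864)) (.node (.leaf 6601) (.leaf 15033))) (.node (.node (.leaf 1376) (.leaf 8996)) (.node (.leaf 2990) (.leaf 13692)))) (.node (.node (.node (.leaf 801) (.leaf 13138)) (.node (.leaf 11557) (.leaf 16381))) (.node (.node (.leaf 1935) (.leaf 6240)) (.node (.leaf 7269) (.leaf 6032))))) (.node (.node (.node (.node (.leaf 461) (.leaf 3659)) (.node (.leaf 2530) (.leaf 12922))) (.node (.node (.leaf 6675) (.leaf 6268)) (.node (.leaf 7950) (.leaf 10313)))) (.node (.node (.node (.leaf 7694) (.leaf 13961)) (.node (.leaf 14743) (.leaf 14286))) (.node (.node (.leaf 2183) (.leaf 7610)) (.node (.leaf 12018) (.leaf 16391)))))) (.node (.node (.node (.node (.node (.leaf 284) (.leaf 3611)) (.node (.leaf 2462) (.leaf 9679))) (.node (.node (.leaf 6690) (.leaf 12418)) (.node (.leaf 6488) (.leaf 13415)))) (.node (.node (.node (.leaf 964) (.leaf 3738)) (.node (.leaf 10059) (.leaf 16104))) (.node (.node (.leaf 2054) (.leaf 8345)) (.node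 (.leaf 8463) (.leaf 6021))))) (.node (.node (.node (.node (.leaf 6770) (.leaf 14549)) (.node (.leaf 7925) (.leaf 6143))) (.node (.node (.leaf 6662) (.leaf 13817)) (.node (.leaf 6463) (.leaf 11007)))) (.node (.node (.node (.leaf 8785) (.leaf 9108)) (.node (.leaf 7089) (.leaf 11047))) (.node (.node (.leaf 10098) (.leaf 15026)) (.node (.leaf 10931) (.leaf 5996)))))))

def twoRank99 : Janko.Tree (ℕ) :=
  (.node (.node (.node (.node (.node (.node (.leaf 82) (.leaf 12020)) (.node (.leaf 9779) (.leaf 14415))) (.node (.node (.leaf 1377) (.leaf 13210)) (.node (.leaf 2991) (.leaf 15795)))) (.node (.node (.node (.leaf 802) (.leaf 3711)) (.node (.leaf 14249) (.leaf 13953))) (.node (.node (.leaf 1936) (.leaf 12792)) (.node (.leaf 3333) (.leaf 12722))))) (.node (.node (.node (.node (.leaf 462) (.leaf 10887)) (.node (.leaf 2531) (.leaf 14239))) (.node (.node (.leaf 1661) (.leaf 11741)) (.node (.leaf 8559) (.leaf 9912)))) (.node (.node (.node (.leaf 1104) (.leaf 13873)) (.node (.leaf 2783) (.leaf 13718))) (.node (.node (.leaf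 2184) (.leaf 7602)) (.node (.leaf 7791) (.leaf 11529)))))) (.node (.node (.node (.node (.node (.leaf 285) (.leaf 9130)) (.node (.leaf 10353) (.leaf 8514))) (.node (.node (.leaf 1516) (.leaf 11768)) (.node (.leaf 3096) (.leaf 13528)))) (.node (.node (.node (.leaf 965) (.leaf 9785)) (.node (.leaf 2731) (.leaf 7845))) (.node (.node (.leaf 11925) (.leaf 14523)) (.node (.leaf 12613) (.leaf 7087))))) (.node (.node (.node (.node (.leaf 631) (.leaf 3682)) (.node (.leaf 2622) (.leaf 12095))) (.node (.node (.leaf 1794) (.leaf 15862)) (.node (.leaf 7462) (.leaf 10546)))) (.node (.node (.node (.leaf 8241) (.leaf 16002)) (.node (.leaf 13207) (.leaf 15411))) (.node (.node (.leaf 7667) (.leaf 15687)) (.node (.leaf 10688) (.leaf 11145)))))))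

def twoRank100 : Janko.Tree (ℕ) :=
  (.node (.node (.node (.node (.node (.node (.leaf 83) (.leaf 12932)) (.node (.leaf 10375) (.leaf 14021))) (.node (.node (.leaf 1378) (.leaf 9484)) (.node (.leaf 2992) (.leaf 12528)))) (.node (.node (.node (.leaf 803) (.leaf 9339)) (.node (.leaf 11553) (.leaf 15272))) (.node (.node (.leaf 1937) (.leaf 15125)) (.node (.leaf 11297) (.leaf 15338))))) (.node (.node (.node (.node (.leaf 463) (.leaf 12138)) (.node (.leaf 9856) (.leaf 10227))) (.node (.node (.leaf 1662) (.leaf 4387)) (.node (.leaf 8192) (.leaf 12959)))) (.node (.node (.node (.leaf 1105) (.leaf 15133)) (.node (.leaf 4643) (.leaf 12526))) (.node (.node (.leaf 2185) (.leaf 13762)) (.node (.leaf 12048) (.leaf 4115)))))) (.node (.node (.node (.node (.node (.leaf 286) (.leaf 3612)) (.node (.leaf 10349) (.leaf 11867))) (.node (.node (.leaf 1517) (.leaf 13191)) (.node (.leaf 3097) (.leaf 15106)))) (.node (.node (.node (.leaf 966) (.leaf 3739)) (.node (.leaf 10172) (.leaf 15382))) (.node (.node (.leaf 10734) (.leaf 7856))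 (.node (.leaf 9701) (.leaf 9273))))) (.node (.node (.node (.node (.leaf 632) (.leaf 3683)) (.node (.leaf 14218) (.leaf 14225))) (.node (.node (.leaf 1795) (.leaf 9521)) (.node (.leaf 16379) (.leaf 4158)))) (.node (.node (.node (.leaf 1241) (.leaf 4422)) (.node (.leaf 2887) (.leaf 11584))) (.node (.node (.leaf 10639) (.leaf 14847)) (.node (.leaf 11319) (.leaf 4104)))))))

def twoRank101 : Janko.Tree (ℕ) :=
  (.node (.node (.node (.node (.node (.node (.leaf 5984) (.leaf 13019)) (.node (.leaf 5721) (.leaf 16124))) (.node (.node (.leaf 1379) (.leaf 10531)) (.node (.leaf 5593) (.leaf 5071)))) (.node (.node (.node (.leaf 5922) (.leaf 5401)) (.node (.leaf 12344) (.leaf 15265))) (.node (.node (.leaf 1938) (.leaf 3839)) (.node (.leaf 3334) (.leaf 15273))))) (.node (.node (.node (.node (.leaf 464) (.leaf 12563)) (.node (.leaf 2532) (.leaf 15802))) (.node (.node (.leaf 6955) (.leaf 14394)) (.node (.leaf 5558) (.leaf 5040)))) (.node (.node (.node (.leaf 5892) (.leaf 15137)) (.node (.leaf 9295) (.leaf 9770))) (.node (.node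 (.leaf 5755) (.leaf 5239)) (.node (.leaf 12824) (.leaf 9858)))))) (.node (.node (.node (.node (.node (.leaf 287) (.leaf 8165)) (.node (.leaf 8112) (.leaf 14433))) (.node (.node (.leaf 8281) (.leaf 11766)) (.node (.leaf 3098) (.leaf 5057)))) (.node (.node (.node (.leaf 5908) (.leaf 5386)) (.node (.leaf 12203) (.leaf 5122))) (.node (.node (.leaf 7280) (.leaf 5256)) (.node (.leaf 3412) (.leaf 9270))))) (.node (.node (.node (.node (.leaf 633) (.leaf 5420)) (.node (.leaf 8814) (.leaf 13928))) (.node (.node (.leaf 1796) (.leaf 11921)) (.node (.leaf 3255) (.leaf 13457)))) (.node (.node (.node (.leaf 1242) (.leaf 15231)) (.node (.leaf 5610) (.leaf 13841))) (.node (.node (.leaf 2277) (.leaf 13781)) (.node (.leaf 9263) (.leaf 10370)))))))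

def twoRank102 : Janko.Tree (ℕ) :=
  (.node (.node (.node (.node (.node (.node (.leaf 84) (.leaf 3559)) (.node (.leaf 10379) (.leaf 3988))) (.node (.node (.leaf 1380) (.leaf 11382)) (.node (.leaf 12508) (.leaf 13732)))) (.node (.node (.node (.leaf 804) (.leaf 9324)) (.node (.leaf 6553) (.leaf 6127))) (.node (.node (.leaf 6652) (.leaf 15906)) (.node (.leaf 3335) (.leaf 6031))))) (.node (.node (.node (.node (.leaf 9749) (.leaf 6373)) (.node (.leaf 2533) (.leaf 10229))) (.node (.node (.leaf 6859) (.leaf 15690)) (.node (.leaf 7938) (.leaf 9850)))) (.node (.node (.node (.leaf 7554) (.leaf 15135)) (.node (.leaf 9056) (.leaf 12085))) (.node (.node (.leaf 12777) (.leaf 7641)) (.node (.leaf 6424) (.leaf 10621)))))) (.node (.node (.node (.node (.node (.leaf 288) (.leaf 12279)) (.node (.leaf 8105) (.leaf 6172))) (.node (.node (.leaf 8978) (.leaf 6274)) (.node (.leaf 3099) (.leaf 10280)))) (.node (.node (.node (.leaf 7776) (.leaf 10789)) (.node (.leaf 6539) (.leaf 14292))) (.node (.node (.leaf 6640) (.leaf 11434)) (.node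 (.leaf 9793) (.leaf 12642))))) (.node (.node (.node (.node (.leaf 634) (.leaf 12770)) (.node (.leaf 15718) (.leaf 12500))) (.node (.node (.leaf 1797) (.leaf 6253)) (.node (.leaf 10301) (.leaf 13063)))) (.node (.node (.node (.leaf 6902) (.leaf 13891)) (.node (.leaf 2888) (.leaf 6095))) (.node (.node (.leaf 6614) (.leaf 6199)) (.node (.leaf 9268) (.leaf 9953)))))))

def twoRank103 : Janko.Tree (ℕ) :=
  (.node (.node (.node (.node (.node (.node (.leaf 85) (.leaf 10862)) (.node (.leaf 2386) (.leaf 8710))) (.node (.node (.leaf 1381) (.leaf 8430)) (.node (.leaf 10927) (.leaf 12523)))) (.node (.node (.node (.leaf 805) (.leaf 3712)) (.node (.leaf 2677) (.leaf 13682))) (.node (.node (.leaf 1939) (.leaf 12823)) (.node (.leaf 10351) (.leaf 15262))))) (.node (.node (.node (.node (.leaf 465) (.leaf 15013)) (.node (.leaf 9028) (.leaf 13041))) (.node (.node (.leaf 1663) (.leaf 15688)) (.node (.leaf 8133) (.leaf 8071)))) (.node (.node (.node (.leaf 1106) (.leaf 8412)) (.node (.leaf 9238) (.leaf 9768))) (.node (.node (.leaf 2186)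 (.leaf 10352)) (.node (.leaf 3464) (.leaf 12752)))))) (.node (.node (.node (.node (.node (.leaf 289) (.leaf 8836)) (.node (.leaf 9447) (.leaf 16291))) (.node (.node (.leaf 1518) (.leaf 3802)) (.node (.leaf 3100) (.leaf 14271)))) (.node (.node (.node (.leaf 8790) (.leaf 10791)) (.node (.leaf 12201) (.leaf 8661))) (.node (.node (.leaf 2055) (.leaf 13535)) (.node (.leaf 7139) (.leaf 9257))))) (.node (.node (.node (.node (.leaf 635) (.leaf 14552)) (.node (.leaf 10865) (.leaf 9184))) (.node (.node (.leaf 1798) (.leaf 3814)) (.node (.leaf 7744) (.leaf 13459)))) (.node (.node (.node (.leaf 6900) (.leaf 14370)) (.node (.leaf 2889) (.leaf 14582))) (.node (.node (.leaf 2278) (.leaf 15307)) (.node (.leaf 9265) (.leaf 11131)))))))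

def twoRank104 : Janko.Tree (ℕ) :=
  (.node (.node (.node (.node (.node (.node (.leaf 86) (.leaf 12266)) (.node (.leaf 11311) (.leaf 4307))) (.node (.node (.leaf 4828) (.leaf 9082)) (.node (.leaf 2993) (.leaf 13617)))) (.node (.node (.node (.leaf 7131) (.leaf 9852)) (.node (.leaf 13318) (.leaf 15275))) (.node (.node (.leaf 1940) (.leaf 4355)) (.node (.leaf 4565) (.leaf 12597))))) (.node (.node (.node (.node (.leaf 4911) (.leaf 12264)) (.node (.leaf 4698) (.leaf 12815))) (.node (.node (.leaf 1664) (.leaf 11836)) (.node (.leaf 7348) (.leaf 13089)))) (.node (.node (.node (.leaf 4854) (.leaf 4434)) (.node (.leaf 2784) (.leaf 12198))) (.node (.node (.leaf 7112) (.leaf 4329)) (.node (.leaf 12545) (.leaf 11494)))))) (.node (.node (.node (.node (.node (.leaf 4926) (.leaf 13429)) (.node (.leaf 4712) (.leaf 4295))) (.node (.node (.leaf 4815) (.leaf 15189)) (.node (.leaf 3101) (.leaf 16263)))) (.node (.node (.node (.leaf 967) (.leaf 13595)) (.node (.leaf 9370) (.leaf 4245))) (.node (.node (.leaf 2056) (.leaf 15485)) (.node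 (.leaf 15668) (.leaf 11305))))) (.node (.node (.node (.node (.leaf 636) (.leaf 15353)) (.node (.leaf 4684) (.leaf 12372))) (.node (.node (.leaf 4790) (.leaf 13391)) (.node (.leaf 3256) (.leaf 12080)))) (.node (.node (.node (.leaf 4841) (.leaf 10087)) (.node (.leaf 2890) (.leaf 4216))) (.node (.node (.leaf 2279) (.leaf 13042)) (.node (.leaf 4523) (.leaf 10603)))))))

def twoRank105 : Janko.Tree (ℕ) :=
  (.node (.node (.node (.node (.node (.node (.leaf 87) (.leaf 12819)) (.node (.leaf 9294) (.leaf 11976))) (.node (.node (.leaf 1382) (.leaf 5335)) (.node (.leaf 2994) (.leaf 14229)))) (.node (.node (.node (.leaf 806) (.leaf 3713)) (.node (.leaf 2678) (.leaf 10212))) (.node (.node (.leaf 8123) (.leaf 3840)) (.node (.leaf 10551) (.leaf 13160))))) (.node (.node (.node (.node (.leaf 466) (.leaf 11386)) (.node (.leaf 8020) (.leaf 5172))) (.node (.node (.leaf 5826) (.leaf 14859)) (.node (.leaf 10475) (.leaf 11814)))) (.node (.node (.node (.leaf 1107) (.leaf 16269)) (.node (.leaf 2785) (.leaf 11488))) (.node (.node (.leaf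 2187) (.leaf 12639)) (.node (.leaf 3465) (.leaf 4974)))))) (.node (.node (.node (.node (.node (.leaf 290) (.leaf 5452)) (.node (.leaf 11250) (.leaf 12096))) (.node (.node (.leaf 1519) (.leaf 5319)) (.node (.leaf 5576) (.leaf 5056)))) (.node (.node (.node (.leaf 7849) (.leaf 3740)) (.node (.leaf 11078) (.leaf 14966))) (.node (.node (.leaf 2057) (.leaf 16159)) (.node (.leaf 5509) (.leaf 9467))))) (.node (.node (.node (.node (.leaf 5938) (.leaf 3684)) (.node (.leaf 7919) (.leaf 5158))) (.node (.node (.leaf 1799) (.leaf 11907)) (.node (.leaf 5541) (.leaf 5022)))) (.node (.node (.node (.leaf 1243) (.leaf 10809)) (.node (.leaf 2891) (.leaf 14056))) (.node (.node (.leaf 11001) (.leaf 13774)) (.node (.leaf 8160) (.leaf 4956)))))))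

def twoRank106 : Janko.Tree (ℕ) :=
  (.node (.node (.node (.node (.node (.node (.leaf 6815) (.leaf 12282)) (.node (.leaf 2387) (.leaf 16411))) (.node (.node (.leaf 16432) (.leaf 8970)) (.node (.leaf 6500) (.leaf 13195)))) (.node (.node (.node (.leaf 6755) (.leaf 11124)) (.node (.leaf 11579) (.leaf 16190))) (.node (.node (.leaf 8121) (.leaf 13758)) (.node (.leaf 7692) (.leaf 7609))))) (.node (.node (.node (.node (.leaf 7031) (.leaf 3660)) (.node (.leaf 7516) (.leaf 13716))) (.node (.node (.leaf 1665) (.leaf 6869)) (.node (.leaf 6475) (.leaf 6062)))) (.node (.node (.node (.leaf 7596) (.leaf 9223)) (.node (.leaf 6525) (.leaf 12188))) (.node (.node (.leaf 6627) (.leaf 7563)) (.node (.leaf 9081) (.leaf 11524)))))) (.node (.node (.node (.node (.node (.leaf 7020) (.leaf 13413)) (.node (.leaf 7691) (.leaf 12098))) (.node (.node (.leaf 1520) (.leaf 16448)) (.node (.leaf 3102) (.leaf 7973)))) (.node (.node (.node (.leaf 6740) (.leaf 6330)) (.node (.leaf 9372) (.leaf 16273))) (.node (.node (.leaf 2058) (.leaf 10159)) (.node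 (.leaf 15670) (.leaf 9469))))) (.node (.node (.node (.node (.leaf 637) (.leaf 6358)) (.node (.leaf 7045) (.leaf 12305))) (.node (.node (.leaf 7595) (.leaf 6252)) (.node (.leaf 12090) (.leaf 13604)))) (.node (.node (.node (.leaf 7043) (.leaf 6302)) (.node (.leaf 10260) (.leaf 11827))) (.node (.node (.leaf 2280) (.leaf 9612)) (.node (.leaf 11202) (.leaf 11773)))))))

def twoRank107 : Janko.Tree (ℕ) :=
  (.node (.node (.node (.node (.node (.node (.leaf 88) (.leaf 11185)) (.node (.leaf 10391) (.leaf 3989))) (.node (.node (.leaf 15881) (.leaf 8239)) (.node (.leaf 15922) (.leaf 13619)))) (.node (.node (.node (.leaf 14290) (.leaf 6846)) (.node (.leaf 11112) (.leaf 15695))) (.node (.node (.leaf 1941) (.leaf 13443)) (.node (.leaf 3336) (.leaf 16232))))) (.node (.node (.node (.node (.leaf 467) (.leaf 11301)) (.node (.leaf 2534) (.leaf 11146))) (.node (.node (.leaf 1666) (.leaf 15777)) (.node (.leaf 3190) (.leaf 13454)))) (.node (.node (.node (.leaf 1108) (.leaf 14160)) (.node (.leaf 8821) (.leaf 11815))) (.node (.node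 (.leaf 14667) (.leaf 12260)) (.node (.leaf 9083) (.leaf 15053)))))) (.node (.node (.node (.node (.node (.leaf 291) (.leaf 12374)) (.node (.leaf 9182) (.leaf 11678))) (.node (.node (.leaf 1521) (.leaf 12088)) (.node (.leaf 3103) (.leaf 11228)))) (.node (.node (.node (.leaf 968) (.leaf 3741)) (.node (.leaf 12356) (.leaf 15212))) (.node (.node (.leaf 11414) (.leaf 7588)) (.node (.leaf 3413) (.leaf 12173))))) (.node (.node (.node (.node (.leaf 638) (.leaf 10817)) (.node (.leaf 2623) (.leaf 11616))) (.node (.node (.leaf 1800) (.leaf 13481)) (.node (.leaf 9772) (.leaf 8556)))) (.node (.node (.node (.leaf 1244) (.leaf 12375)) (.node (.leaf 2892) (.leaf 14211))) (.node (.node (.leaf 8666) (.leaf 3961)) (.node (.leaf 3513) (.leaf 13105)))))))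

def twoRank108 : Janko.Tree (ℕ) :=
  (.node (.node (.node (.node (.node (.node (.leaf 89) (.leaf 12227)) (.node (.leaf 4724) (.leaf 10400))) (.node (.node (.leaf 13982) (.leaf 9061)) (.node (.leaf 9422) (.leaf 14655)))) (.node (.node (.node (.leaf 12336) (.leaf 15938)) (.node (.leaf 4670) (.leaf 4258))) (.node (.node (.leaf 1942) (.leaf 7338)) (.node (.leaf 12092) (.leaf 13802))))) (.node (.node (.node (.node (.leaf 468) (.leaf 13877)) (.node (.leaf 13976) (.leaf 13451))) (.node (.node (.leaf 13387) (.leaf 10226)) (.node (.leaf 3191) (.leaf 13530)))) (.node (.node (.node (.leaf 7594) (.leaf 3758)) (.node (.leaf 2786) (.leaf 4233))) (.node (.node (.leaf 12739) (.leaf 11325)) (.node (.leaf 7789) (.leaf 13582)))))) (.node (.node (.node (.node (.node (.leaf 292) (.leaf 4495)) (.node (.leaf 10612) (.leaf 13217))) (.node (.node (.leaf 1522) (.leaf 15296)) (.node (.leaf 7625) (.leaf 11855)))) (.node (.node (.node (.leaf 7802) (.leaf 13449)) (.node (.leaf 10210) (.leaf 15179))) (.node (.node (.leaf 10832) (.leaf 13204))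 (.node (.leaf 14873) (.leaf 11545))))) (.node (.node (.node (.node (.leaf 639) (.leaf 15708)) (.node (.leaf 2624) (.leaf 8499))) (.node (.node (.leaf 7281) (.leaf 11387)) (.node (.leaf 12439) (.leaf 12899)))) (.node (.node (.node (.leaf 1245) (.leaf 11978)) (.node (.leaf 4630) (.leaf 9764))) (.node (.node (.leaf 4737) (.leaf 4317)) (.node (.leaf 4522) (.leaf 14066)))))))

def twoRank109 : Janko.Tree (ℕ) :=
  (.node (.node (.node (.node (.node (.node (.leaf 90) (.leaf 5466)) (.node (.leaf 10779) (.leaf 5202))) (.node (.node (.leaf 5856) (.leaf 9088)) (.node (.leaf 5592) (.leaf 5070)))) (.node (.node (.node (.leaf 807) (.leaf 5400)) (.node (.leaf 2679) (.leaf 14811))) (.node (.node (.leaf 5791) (.leaf 5270)) (.node (.leaf 5525) (.leaf 13432))))) (.node (.node (.node (.node (.leaf 5953) (.leaf 11379)) (.node (.leaf 5687) (.leaf 8623))) (.node (.node (.leaf 1667) (.leaf 14317)) (.node (.leaf 3192) (.leaf 13526)))) (.node (.node (.node (.leaf 1109) (.leaf 5370)) (.node (.leaf 10359) (.leaf 9076))) (.node (.node (.leaf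 2188) (.leaf 5238)) (.node (.leaf 5494) (.leaf 14938)))))) (.node (.node (.node (.node (.node (.leaf 5968) (.leaf 8962)) (.node (.leaf 2463) (.leaf 13755))) (.node (.node (.leaf 5841) (.leaf 15161)) (.node (.leaf 10410) (.leaf 13934)))) (.node (.node (.node (.leaf 969) (.leaf 9319)) (.node (.leaf 5640) (.leaf 5121))) (.node (.node (.leaf 5773) (.leaf 3893)) (.node (.leaf 14295) (.leaf 4992))))) (.node (.node (.node (.node (.leaf 640) (.leaf 8403)) (.node (.leaf 5671) (.leaf 15145))) (.node (.node (.leaf 5808) (.leaf 11391)) (.node (.leaf 13402) (.leaf 11772)))) (.node (.node (.node (.leaf 5874) (.leaf 15308)) (.node (.leaf 2893) (.leaf 13668))) (.node (.node (.leaf 2281) (.leaf 3962)) (.node (.leaf 13032) (.leaf 14068)))))))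

def twoRank110 : Janko.Tree (ℕ) :=
  (.node (.node (.node (.node (.node (.node (.leaf 91) (.leaf 11919)) (.node (.leaf 10774) (.leaf 14534))) (.node (.node (.leaf 1383) (.leaf 6286)) (.node (.leaf 7970) (.leaf 13141)))) (.node (.node (.node (.leaf 808) (.leaf 14998)) (.node (.leaf 2680) (.leaf 14817))) (.node (.node (.leaf 7793) (.leaf 7877)) (.node (.leaf 3337) (.leaf 12252))))) (.node (.node (.node (.node (.leaf 8865) (.leaf 13075)) (.node (.leaf 10717) (.leaf 12033))) (.node (.node (.leaf 1668) (.leaf 6267)) (.node (.leaf 3193) (.leaf 6061)))) (.node (.node (.node (.leaf 6726) (.leaf 10012)) (.node (.leaf 2787) (.leaf 9179))) (.node (.node (.leaf 12742) (.leaf 9264)) (.node (.leaf 7805) (.leaf 11707)))))) (.node (.node (.node (.node (.node (.leaf 293) (.leaf 10673)) (.node (.leaf 6591) (.leaf 6171))) (.node (.node (.leaf 1523) (.leaf 15163)) (.node (.leaf 6487) (.leaf 14581)))) (.node (.node (.node (.leaf 970) (.leaf 9317)) (.node (.leaf 12619) (.leaf 15778))) (.node (.node (.leaf 10726) (.leaf 6226)) (.node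 (.leaf 6437) (.leaf 7981))))) (.node (.node (.node (.node (.leaf 6769) (.leaf 15937)) (.node (.leaf 7917) (.leaf 8501))) (.node (.node (.leaf 7868) (.leaf 11393)) (.node (.leaf 3257) (.leaf 11770)))) (.node (.node (.node (.leaf 1246) (.leaf 6301)) (.node (.leaf 6981) (.leaf 6094))) (.node (.node (.leaf 9891) (.leaf 6972)) (.node (.leaf 13544) (.leaf 15914)))))))

def twoRank111 : Janko.Tree (ℕ) :=
  (.node (.node (.node (.node (.node (.node (.leaf 92) (.leaf 8820)) (.node (.leaf 2388) (.leaf 14878))) (.node (.node (.leaf 11091) (.leaf 10675)) (.node (.leaf 2995) (.leaf 13198)))) (.node (.node (.node (.leaf 7133) (.leaf 13074)) (.node (.leaf 2681) (.leaf 13686))) (.node (.node (.leaf 1943) (.leaf 3841)) (.node (.leaf 3338) (.leaf 12250))))) (.node (.node (.node (.node (.leaf 469) (.leaf 3661)) (.node (.leaf 2535) (.leaf 8606))) (.node (.node (.leaf 1669) (.leaf 10151)) (.node (.leaf 8807) (.leaf 13751)))) (.node (.node (.node (.leaf 1110) (.leaf 9202)) (.node (.leaf 7685) (.leaf 12460))) (.node (.node (.leaf 7054)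 (.leaf 14855)) (.node (.leaf 9128) (.leaf 16022)))))) (.node (.node (.node (.node (.node (.leaf 294) (.leaf 9133)) (.node (.leaf 2464) (.leaf 11673))) (.node (.node (.leaf 1524) (.leaf 3803)) (.node (.leaf 14599) (.leaf 9291)))) (.node (.node (.node (.leaf 7387) (.leaf 3742)) (.node (.leaf 2732) (.leaf 11513))) (.node (.node (.leaf 2059) (.leaf 14294)) (.node (.leaf 3414) (.leaf 11408))))) (.node (.node (.node (.node (.leaf 641) (.leaf 7424)) (.node (.leaf 7899) (.leaf 12103))) (.node (.node (.leaf 1801) (.leaf 11389)) (.node (.leaf 3258) (.leaf 11764)))) (.node (.node (.node (.leaf 10664) (.leaf 14451)) (.node (.leaf 2894) (.leaf 15685))) (.node (.node (.leaf 14023) (.leaf 3963)) (.node (.leaf 13078) (.leaf 13135)))))))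

def twoRank112 : Janko.Tree (ℕ) :=
  (.node (.node (.node (.node (.node (.node (.leaf 93) (.leaf 12833)) (.node (.leaf 7416) (.leaf 8700))) (.node (.node (.leaf 14976) (.leaf 15790)) (.node (.leaf 7622) (.leaf 15686)))) (.node (.node (.node (.leaf 4882) (.leaf 11567)) (.node (.leaf 2682) (.leaf 4059))) (.node (.node (.leaf 16218) (.leaf 11856)) (.node (.leaf 3339) (.leaf 4146))))) (.node (.node (.node (.node (.leaf 470) (.leaf 9473)) (.node (.leaf 15043) (.leaf 9755))) (.node (.node (.leaf 4801) (.leaf 10233)) (.node (.leaf 4590) (.leaf 4170)))) (.node (.node (.node (.leaf 9150) (.leaf 9225)) (.node (.leaf 4642) (.leaf 15291))) (.node (.node (.leaf 4750) (.leaf 3934)) (.node (.leaf 3466) (.leaf 14005)))))) (.node (.node (.node (.node (.node (.leaf 295) (.leaf 15433)) (.node (.leaf 14805) (.leaf 10669))) (.node (.node (.leaf 1525) (.leaf 4398)) (.node (.leaf 12750) (.leaf 4185)))) (.node (.node (.node (.leaf 8648) (.leaf 16030)) (.node (.leaf 10648) (.leaf 15413))) (.node (.node (.leaf 2060) (.leaf 11483)) (.node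 (.leaf 4549) (.leaf 16355))))) (.node (.node (.node (.node (.leaf 14622) (.leaf 16412)) (.node (.leaf 2625) (.leaf 8497))) (.node (.node (.leaf 1802) (.leaf 13570)) (.node (.leaf 11864) (.leaf 13923)))) (.node (.node (.node (.leaf 1247) (.leaf 11980)) (.node (.leaf 10588) (.leaf 4215))) (.node (.node (.leaf 2282) (.leaf 4316)) (.node (.leaf 13080) (.leaf 4103)))))))

def twoRank113 : Janko.Tree (ℕ) :=
  (.node (.node (.node (.node (.node (.node (.leaf 5983) (.leaf 12816)) (.node (.leaf 5720) (.leaf 11462))) (.node (.node (.leaf 1384) (.leaf 15788)) (.node (.leaf 2996) (.leaf 13955)))) (.node (.node (.node (.leaf 809) (.leaf 5399)) (.node (.leaf 5652) (.leaf 15058))) (.node (.node (.leaf 10926) (.leaf 10556)) (.node (.leaf 3340) (.leaf 7976))))) (.node (.node (.node (.node (.leaf 471) (.leaf 9471)) (.node (.leaf 2536) (.leaf 14624))) (.node (.node (.leaf 8134) (.leaf 13573)) (.node (.leaf 6919) (.leaf 13016)))) (.node (.node (.node (.leaf 1111) (.leaf 15121)) (.node (.leaf 11200) (.leaf 5098))) (.node (.node (.leaf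 8227) (.leaf 15769)) (.node (.leaf 10569) (.leaf 4973)))))) (.node (.node (.node (.node (.node (.leaf 296) (.leaf 3613)) (.node (.leaf 14807) (.leaf 8128))) (.node (.node (.leaf 1526) (.leaf 15448)) (.node (.leaf 3104) (.leaf 12857)))) (.node (.node (.node (.leaf 971) (.leaf 5385)) (.node (.leaf 10521) (.leaf 13860))) (.node (.node (.leaf 13715) (.leaf 10627)) (.node (.leaf 11329) (.leaf 16340))))) (.node (.node (.node (.node (.leaf 642) (.leaf 5419)) (.node (.leaf 5670) (.leaf 5157))) (.node (.node (.leaf 1803) (.leaf 13568)) (.node (.leaf 5540) (.leaf 13919)))) (.node (.node (.node (.leaf 7151) (.leaf 13341)) (.node (.leaf 5609) (.leaf 7770))) (.node (.node (.leaf 5737) (.leaf 7894)) (.node (.leaf 12322) (.leaf 14368)))))))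

def twoRank114 : Janko.Tree (ℕ) :=
  (.node (.node (.node (.node (.node (.node (.leaf 94) (.leaf 6398)) (.node (.leaf 2389) (.leaf 6185))) (.node (.node (.leaf 6702) (.leaf 14316)) (.node (.leaf 6499) (.leaf 6081)))) (.node (.node (.node (.leaf 11299) (.leaf 12875)) (.node (.leaf 12169) (.leaf 14386))) (.node (.node (.leaf 1944) (.leaf 3842)) (.node (.leaf 3341) (.leaf 7301))))) (.node (.node (.node (.node (.leaf 6784) (.leaf 11378)) (.node (.leaf 6576) (.leaf 6156))) (.node (.node (.leaf 8880) (.leaf 12904)) (.node (.leaf 7380) (.leaf 11453)))) (.node (.node (.node (.leaf 8818) (.leaf 6316)) (.node (.leaf 11186) (.leaf 15287))) (.node (.node (.leaf 10493) (.leaf 14503)) (.node (.leaf 3467) (.leaf 15140)))))) (.node (.node (.node (.node (.node (.leaf 6799) (.leaf 6383)) (.node (.leaf 14524) (.leaf 10846))) (.node (.node (.leaf 1527) (.leaf 15578)) (.node (.leaf 3105) (.leaf 14969)))) (.node (.node (.node (.leaf 6739) (.leaf 16028)) (.node (.leaf 10650) (.leaf 13850))) (.node (.node (.leaf 12411) (.leaf 11454))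 (.node (.leaf 15352) (.leaf 16357))))) (.node (.node (.node (.node (.leaf 643) (.leaf 11512)) (.node (.leaf 8046) (.leaf 9069))) (.node (.node (.leaf 1804) (.leaf 15850)) (.node (.leaf 3259) (.leaf 13921)))) (.node (.node (.node (.leaf 6715) (.leaf 3776)) (.node (.leaf 8762) (.leaf 15575))) (.node (.node (.leaf 2283) (.leaf 9406)) (.node (.leaf 6411) (.leaf 15403)))))))

def twoRank115 : Janko.Tree (ℕ) :=
  (.node (.node (.node (.node (.node (.node (.leaf 95) (.leaf 13983)) (.node (.leaf 2390) (.leaf 3990))) (.node (.node (.leaf 1385) (.leaf 10505)) (.node (.leaf 2997) (.leaf 14616)))) (.node (.node (.node (.leaf 810) (.leaf 3714)) (.node (.leaf 8390) (.leaf 10040))) (.node (.node (.leaf 1945) (.leaf 10554)) (.node (.leaf 9198) (.leaf 4092))))) (.node (.node (.node (.node (.leaf 472) (.leaf 10326)) (.node (.leaf 2537) (.leaf 14635))) (.node (.node (.leaf 8186) (.leaf 12184)) (.node (.leaf 14125) (.leaf 11849)))) (.node (.node (.node (.leaf 1112) (.leaf 14065)) (.node (.leaf 2788) (.leaf 12987))) (.node (.node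 (.leaf 2189) (.leaf 12003)) (.node (.leaf 8156) (.leaf 14645)))))) (.node (.node (.node (.node (.node (.leaf 297) (.leaf 3614)) (.node (.leaf 12295) (.leaf 10667))) (.node (.node (.leaf 6936) (.leaf 15576)) (.node (.leaf 7006) (.leaf 12648)))) (.node (.node (.node (.leaf 972) (.leaf 16034)) (.node (.leaf 8439) (.leaf 14397))) (.node (.node (.leaf 2061) (.leaf 9552)) (.node (.leaf 11317) (.leaf 13882))))) (.node (.node (.node (.node (.leaf 644) (.leaf 11461)) (.node (.leaf 2626) (.leaf 13273))) (.node (.node (.leaf 8108) (.leaf 11941)) (.node (.leaf 9215) (.leaf 14517)))) (.node (.node (.node (.leaf 1248) (.leaf 14414)) (.node (.leaf 2895) (.leaf 8797))) (.node (.node (.leaf 2284) (.leaf 9119)) (.node (.leaf 3514) (.leaf 15508)))))))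

def twoRank116 : Janko.Tree (ℕ) :=
  (.node (.node (.node (.node (.node (.node (.leaf 96) (.leaf 9582)) (.node (.leaf 2391) (.leaf 13232))) (.node (.node (.leaf 1386) (.leaf 11992)) (.node (.leaf 15046) (.leaf 4201)))) (.node (.node (.node (.leaf 811) (.leaf 11714)) (.node (.leaf 2683) (.leaf 16129))) (.node (.node (.leaf 10982) (.leaf 4354)) (.node (.leaf 4564) (.leaf 14613))))) (.node (.node (.node (.node (.leaf 473) (.leaf 8292)) (.node (.leaf 4697) (.leaf 11924))) (.node (.node (.leaf 8138) (.leaf 9258)) (.node (.leaf 3194) (.leaf 13600)))) (.node (.node (.node (.leaf 1113) (.leaf 14170)) (.node (.leaf 7726) (.leaf 11728))) (.node (.node (.leaf 2190) (.leaf 7978)) (.node (.leaf 4534) (.leaf 4114)))))) (.node (.node (.node (.node (.node (.leaf 298) (.leaf 14443)) (.node (.leaf 15255) (.leaf 4294))) (.node (.node (.leaf 4814) (.leaf 12861)) (.node (.leaf 4602) (.leaf 9975)))) (.node (.node (.node (.leaf 9761) (.leaf 4448)) (.node (.leaf 4654) (.leaf 13148))) (.node (.node (.leaf 4762) (.leaf 12830)) (.node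 (.leaf 3415) (.leaf 16155))))) (.node (.node (.node (.node (.leaf 4896) (.leaf 12160)) (.node (.leaf 13506) (.leaf 10102))) (.node (.node (.leaf 4789) (.leaf 4373)) (.node (.leaf 13440) (.leaf 8083)))) (.node (.node (.node (.leaf 1249) (.leaf 15317)) (.node (.leaf 2896) (.leaf 4080))) (.node (.node (.leaf 2285) (.leaf 9123)) (.node (.leaf 9452) (.leaf 13512)))))))

def twoRank117 : Janko.Tree (ℕ) :=
  (.node (.node (.node (.node (.node (.node (.leaf 97) (.leaf 8572)) (.node (.leaf 2392) (.leaf 15951))) (.node (.node (.leaf 1387) (.leaf 11338)) (.node (.leaf 9308) (.leaf 10308)))) (.node (.node (.node (.leaf 812) (.leaf 12780)) (.node (.leaf 2684) (.leaf 5137))) (.node (.node (.leaf 1946) (.leaf 11397)) (.node (.leaf 3342) (.leaf 15098))))) (.node (.node (.node (.node (.leaf 474) (.leaf 5435)) (.node (.leaf 12394) (.leaf 10968))) (.node (.node (.leaf 1670) (.leaf 5297)) (.node (.leaf 5557) (.leaf 5039)))) (.node (.node (.node (.leaf 5891) (.leaf 15729)) (.node (.leaf 8917) (.leaf 15205))) (.node (.node (.leaf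 2191) (.leaf 5237)) (.node (.leaf 11095) (.leaf 15142)))))) (.node (.node (.node (.node (.node (.leaf 299) (.leaf 13534)) (.node (.leaf 5700) (.leaf 4012))) (.node (.node (.leaf 1528) (.leaf 8550)) (.node (.leaf 7784) (.leaf 9928)))) (.node (.node (.node (.leaf 973) (.leaf 14778)) (.node (.leaf 10517) (.leaf 11518))) (.node (.node (.leaf 2062) (.leaf 5255)) (.node (.leaf 5508) (.leaf 4991))))) (.node (.node (.node (.node (.leaf 645) (.leaf 9561)) (.node (.leaf 11709) (.leaf 9210))) (.node (.node (.leaf 1805) (.leaf 9505)) (.node (.leaf 12728) (.leaf 14716)))) (.node (.node (.node (.leaf 5873) (.leaf 5353)) (.node (.leaf 10837) (.leaf 7773))) (.node (.node (.leaf 6918) (.leaf 8251)) (.node (.leaf 9458) (.leaf 4955)))))))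

def twoRank118 : Janko.Tree (ℕ) :=
  (.node (.node (.node (.node (.node (.node (.leaf 6814) (.leaf 6397)) (.node (.leaf 2393) (.leaf 10265))) (.node (.node (.leaf 1388) (.leaf 6285)) (.node (.leaf 2998) (.leaf 13144)))) (.node (.node (.node (.leaf 6754) (.leaf 12999)) (.node (.leaf 6552) (.leaf 13347))) (.node (.node (.leaf 6651) (.leaf 10882)) (.node (.leaf 15892) (.leaf 15465))))) (.node (.node (.node (.node (.leaf 475) (.leaf 3662)) (.node (.leaf 2538) (.leaf 11685))) (.node (.node (.leaf 6674) (.leaf 9252)) (.node (.leaf 3195) (.leaf 13598)))) (.node (.node (.node (.leaf 1114) (.leaf 13359)) (.node (.leaf 6524) (.leaf 6109))) (.node (.node (.leaf 6626) (.leaf 12686)) (.node (.leaf 9954) (.leaf 15144)))))) (.node (.node (.node (.node (.node (.leaf 300) (.leaf 15595)) (.node (.leaf 16433) (.leaf 13800))) (.node (.node (.leaf 6980) (.leaf 7494)) (.node (.leaf 7826) (.leaf 11099)))) (.node (.node (.node (.leaf 974) (.leaf 13380)) (.node (.leaf 9501) (.leaf 13472))) (.node (.node (.leaf 12268) (.leaf 13453))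 (.node (.leaf 15014) (.leaf 14948))))) (.node (.node (.node (.node (.leaf 646) (.leaf 3685)) (.node (.leaf 14214) (.leaf 9937))) (.node (.node (.leaf 8815) (.leaf 9126)) (.node (.leaf 6462) (.leaf 7502)))) (.node (.node (.node (.leaf 1250) (.leaf 15813)) (.node (.leaf 6512) (.leaf 6093))) (.node (.node (.leaf 6883) (.leaf 6198)) (.node (.leaf 10904) (.leaf 9243)))))))

def twoRank119 : Janko.Tree (ℕ) :=
  (.node (.node (.node (.node (.node (.node (.leaf 98) (.leaf 11212)) (.node (.leaf 2394) (.leaf 7005))) (.node (.node (.leaf 1389) (.leaf 13503)) (.node (.leaf 9425) (.leaf 14237)))) (.node (.node (.node (.leaf 813) (.leaf 11084)) (.node (.leaf 2685) (.leaf 15385))) (.node (.node (.leaf 1947) (.leaf 3843)) (.node (.leaf 14047) (.leaf 14615))))) (.node (.node (.node (.node (.leaf 7149) (.leaf 3663)) (.node (.leaf 16281) (.leaf 14007))) (.node (.node (.leaf 1671) (.leaf 9254)) (.node (.leaf 9162) (.leaf 13522)))) (.node (.node (.node (.leaf 1115) (.leaf 12049)) (.node (.leaf 7152) (.leaf 15833))) (.node (.node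 (.leaf 2192) (.leaf 15087)) (.node (.leaf 9292) (.leaf 15146)))))) (.node (.node (.node (.node (.node (.leaf 7129) (.leaf 13416)) (.node (.leaf 13827) (.leaf 14342))) (.node (.node (.leaf 1529) (.leaf 3804)) (.node (.leaf 7815) (.leaf 14911)))) (.node (.node (.node (.leaf 975) (.leaf 13266)) (.node (.leaf 8982) (.leaf 4070))) (.node (.node (.leaf 2063) (.leaf 9550)) (.node (.leaf 14176) (.leaf 9448))))) (.node (.node (.node (.node (.leaf 647) (.leaf 10635)) (.node (.leaf 13508) (.leaf 7128))) (.node (.node (.leaf 1806) (.leaf 9055)) (.node (.leaf 14671) (.leaf 7496)))) (.node (.node (.node (.leaf 1251) (.leaf 3777)) (.node (.leaf 6934) (.leaf 11016))) (.node (.node (.leaf 8646) (.leaf 8587)) (.node (.leaf 10737) (.leaf 8931)))))))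

def twoRank120 : Janko.Tree (ℕ) :=
  (.node (.node (.node (.node (.node (.node (.leaf 99) (.leaf 14093)) (.node (.leaf 4723) (.leaf 4306))) (.node (.node (.leaf 1390) (.leaf 11957)) (.node (.leaf 4616) (.leaf 12590)))) (.node (.node (.node (.leaf 814) (.leaf 3715)) (.node (.leaf 2686) (.leaf 10034))) (.node (.node (.leaf 10444) (.leaf 13764)) (.node (.leaf 11632) (.leaf 4145))))) (.node (.node (.node (.node (.leaf 4910) (.leaf 12462)) (.node (.leaf 13646) (.leaf 14152))) (.node (.node (.leaf 1672) (.leaf 4386)) (.node (.leaf 7303) (.leaf 11546)))) (.node (.node (.node (.leaf 10016) (.leaf 7599)) (.node (.leaf 8913) (.leaf 9691))) (.node (.node (.leaf 14011) (.leaf 14259)) (.node (.leaf 9969) (.leaf 15218)))))) (.node (.node (.node (.node (.node (.leaf 4925) (.leaf 4494)) (.node (.leaf 10028) (.leaf 12308))) (.node (.node (.leaf 1530) (.leaf 9569)) (.node (.leaf 3106) (.leaf 4184)))) (.node (.node (.node (.leaf 4867) (.leaf 11537)) (.node (.leaf 2733) (.leaf 4071))) (.node (.node (.leaf 2064) (.leaf 12490)) (.node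 (.leaf 10432) (.leaf 14812))))) (.node (.node (.node (.node (.leaf 648) (.leaf 3686)) (.node (.leaf 4683) (.leaf 15671))) (.node (.node (.leaf 10877) (.leaf 12641)) (.node (.leaf 12242) (.leaf 12030)))) (.node (.node (.node (.leaf 1252) (.leaf 4421)) (.node (.leaf 2897) (.leaf 4214))) (.node (.node (.leaf 2286) (.leaf 8249)) (.node (.leaf 4521) (.leaf 4102)))))))

def twoRank121 : Janko.Tree (ℕ) :=
  (.node (.node (.node (.node (.node (.node (.leaf 100) (.leaf 11209)) (.node (.leaf 2395) (.leaf 13818))) (.node (.node (.leaf 5855) (.leaf 9743)) (.node (.leaf 8243) (.leaf 5069)))) (.node (.node (.node (.leaf 815) (.leaf 5398)) (.node (.leaf 11093) (.leaf 12071))) (.node (.node (.leaf 5790) (.leaf 5269)) (.node (.leaf 5524) (.leaf 12847))))) (.node (.node (.node (.node (.leaf 476) (.leaf 8895)) (.node (.leaf 12509) (.leaf 16196))) (.node (.node (.leaf 1673) (.leaf 13104)) (.node (.leaf 10749) (.leaf 13344)))) (.node (.node (.node (.leaf 1116) (.leaf 13808)) (.node (.leaf 10652) (.leaf 5097))) (.node (.node (.leaf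 10713) (.leaf 13667)) (.node (.leaf 3468) (.leaf 16270)))))) (.node (.node (.node (.node (.node (.leaf 301) (.leaf 13706)) (.node (.leaf 2465) (.leaf 12499))) (.node (.node (.leaf 5840) (.leaf 14939)) (.node (.leaf 3107) (.leaf 16006)))) (.node (.node (.node (.leaf 10447) (.leaf 9436)) (.node (.leaf 5639) (.leaf 5120))) (.node (.node (.leaf 5772) (.leaf 8748)) (.node (.leaf 5507) (.leaf 14816))))) (.node (.node (.node (.node (.leaf 649) (.leaf 3687)) (.node (.leaf 7245) (.leaf 5156))) (.node (.node (.leaf 5807) (.leaf 9365)) (.node (.leaf 3260) (.leaf 9360)))) (.node (.node (.node (.leaf 1253) (.leaf 12078)) (.node (.leaf 9242) (.leaf 8636))) (.node (.node (.leaf 8365) (.leaf 11045)) (.node (.leaf 3515) (.leaf 12796)))))))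

def twoRank122 : Janko.Tree (ℕ) :=
  (.node (.node (.node (.node (.node (.node (.leaf 101) (.leaf 13956)) (.node (.leaf 16032) (.leaf 16289))) (.node (.node (.leaf 14684) (.leaf 13106)) (.node (.leaf 2999) (.leaf 12376)))) (.node (.node (.node (.leaf 816) (.leaf 16120)) (.node (.leaf 2687) (.leaf 10025))) (.node (.node (.leaf 8853) (.leaf 13084)) (.node (.leaf 3343) (.leaf 10422))))) (.node (.node (.node (.node (.leaf 7949) (.leaf 16445)) (.node (.leaf 6575) (.leaf 14494))) (.node (.node (.leaf 1674) (.leaf 13161)) (.node (.leaf 6474) (.leaf 16265)))) (.node (.node (.node (.leaf 1117) (.leaf 6315)) (.node (.leaf 11744) (.leaf 9695))) (.node (.node (.leaf 2193) (.leaf 3935)) (.node (.leaf 6423) (.leaf 6836)))))) (.node (.node (.node (.node (.node (.leaf 302) (.leaf 10288)) (.node (.leaf 6590) (.leaf 6170))) (.node (.node (.leaf 1531) (.leaf 11776)) (.node (.leaf 3108) (.leaf 12572)))) (.node (.node (.node (.leaf 976) (.leaf 6329)) (.node (.leaf 8870) (.leaf 4072))) (.node (.node (.leaf 2065) (.leaf 14654)) (.node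 (.leaf 11358) (.leaf 6020))))) (.node (.node (.node (.node (.leaf 6768) (.leaf 6357)) (.node (.leaf 9011) (.leaf 14835))) (.node (.node (.leaf 1807) (.leaf 9361)) (.node (.leaf 9551) (.leaf 9366)))) (.node (.node (.node (.leaf 1254) (.leaf 7360)) (.node (.leaf 2898) (.leaf 13319))) (.node (.node (.leaf 2287) (.leaf 8868)) (.node (.leaf 3516) (.leaf 8327)))))))

def twoRank123 : Janko.Tree (ℕ) :=
  (.node (.node (.node (.node (.node (.node (.leaf 102) (.leaf 3560)) (.node (.leaf 16036) (.leaf 3991))) (.node (.node (.leaf 1391) (.leaf 9105)) (.node (.leaf 14155) (.leaf 13606)))) (.node (.node (.node (.leaf 817) (.leaf 3716)) (.node (.leaf 9702) (.leaf 9585))) (.node (.node (.leaf 10592) (.leaf 13275)) (.node (.leaf 11630) (.leaf 10232))))) (.node (.node (.node (.node (.leaf 477) (.leaf 8901)) (.node (.leaf 2539) (.leaf 13853))) (.node (.node (.leaf 1675) (.leaf 14784)) (.node (.leaf 3196) (.leaf 11544)))) (.node (.node (.node (.leaf 7119) (.leaf 15344)) (.node (.leaf 9494) (.leaf 8072))) (.node (.node (.leaf 13660)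 (.leaf 12682)) (.node (.leaf 9312) (.leaf 15216)))))) (.node (.node (.node (.node (.node (.leaf 303) (.leaf 3615)) (.node (.leaf 14371) (.leaf 14195))) (.node (.node (.leaf 1532) (.leaf 15221)) (.node (.leaf 3109) (.leaf 16202)))) (.node (.node (.node (.leaf 977) (.leaf 3743)) (.node (.leaf 8404) (.leaf 10409))) (.node (.node (.leaf 9084) (.leaf 3894)) (.node (.leaf 14841) (.leaf 15056))))) (.node (.node (.node (.node (.leaf 650) (.leaf 15329)) (.node (.leaf 14772) (.leaf 14117))) (.node (.node (.leaf 10879) (.leaf 13052)) (.node (.leaf 14447) (.leaf 8382)))) (.node (.node (.node (.leaf 1255) (.leaf 3778)) (.node (.leaf 7080) (.leaf 8632))) (.node (.node (.leaf 2288) (.leaf 8142)) (.node (.leaf 14774) (.leaf 15474)))))))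

def twoRank124 : Janko.Tree (ℕ) :=
  (.node (.node (.node (.node (.node (.node (.leaf 4939) (.leaf 4509)) (.node (.leaf 14781) (.leaf 11906))) (.node (.node (.leaf 15719) (.leaf 4411)) (.node (.leaf 4615) (.leaf 10292)))) (.node (.node (.node (.leaf 4881) (.leaf 8422)) (.node (.leaf 16216) (.leaf 13825))) (.node (.node (.leaf 1948) (.leaf 7642)) (.node (.leaf 15894) (.leaf 11727))))) (.node (.node (.node (.node (.leaf 478) (.leaf 10834)) (.node (.leaf 9765) (.leaf 4280))) (.node (.node (.leaf 4800) (.leaf 11995)) (.node (.leaf 3197) (.leaf 12784)))) (.node (.node (.node (.leaf 7429) (.leaf 11396)) (.node (.leaf 2789) (.leaf 12851))) (.node (.node (.leaf 4749) (.leaf 4328)) (.node (.leaf 9277) (.leaf 15115)))))) (.node (.node (.node (.node (.node (.leaf 304) (.leaf 13422)) (.node (.leaf 2466) (.leaf 8910))) (.node (.node (.leaf 1533) (.leaf 11563)) (.node (.leaf 4601) (.leaf 8486)))) (.node (.node (.node (.leaf 978) (.leaf 14598)) (.node (.leaf 9050) (.leaf 11684))) (.node (.node (.leaf 12057) (.leaf 14628))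 (.node (.leaf 9889) (.leaf 4128))))) (.node (.node (.node (.node (.leaf 651) (.leaf 12798)) (.node (.leaf 8997) (.leaf 14905))) (.node (.node (.leaf 1808) (.leaf 4372)) (.node (.leaf 11637) (.leaf 4157)))) (.node (.node (.node (.leaf 4840) (.leaf 12132)) (.node (.leaf 4629) (.leaf 8650))) (.node (.node (.leaf 4736) (.leaf 15097)) (.node (.leaf 12502) (.leaf 11887)))))))

def twoRank125 : Janko.Tree (ℕ) :=
  (.node (.node (.node (.node (.node (.node (.leaf 103) (.leaf 11570)) (.node (.leaf 5719) (.leaf 13392))) (.node (.node (.leaf 1392) (.leaf 9647)) (.node (.leaf 3000) (.leaf 13087)))) (.node (.node (.node (.leaf 818) (.leaf 14580)) (.node (.leaf 5651) (.leaf 5136))) (.node (.node (.leaf 8857) (.leaf 7547)) (.node (.leaf 3344) (.leaf 13658))))) (.node (.node (.node (.node (.leaf 7932) (.leaf 8891)) (.node (.leaf 2540) (.leaf 8510))) (.node (.node (.leaf 1676) (.leaf 8212)) (.node (.leaf 5556) (.leaf 12432)))) (.node (.node (.node (.leaf 1118) (.leaf 10881)) (.node (.leaf 11302) (.leaf 12853))) (.node (.node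 (.leaf 2194) (.leaf 11222)) (.node (.leaf 9297) (.leaf 15389)))))) (.node (.node (.node (.node (.node (.leaf 7284) (.leaf 5451)) (.node (.leaf 5699) (.leaf 5188))) (.node (.node (.leaf 1534) (.leaf 5318)) (.node (.leaf 13747) (.leaf 15689)))) (.node (.node (.node (.leaf 7266) (.leaf 7730)) (.node (.leaf 8407) (.leaf 4073))) (.node (.node (.leaf 2066) (.leaf 5254)) (.node (.leaf 15025) (.leaf 15898))))) (.node (.node (.node (.node (.leaf 652) (.leaf 11472)) (.node (.leaf 8040) (.leaf 15659))) (.node (.node (.leaf 8110) (.leaf 14740)) (.node (.leaf 5539) (.leaf 7492)))) (.node (.node (.node (.leaf 7956) (.leaf 12863)) (.node (.leaf 2899) (.leaf 11763))) (.node (.node (.leaf 10988) (.leaf 9285)) (.node (.leaf 13034) (.leaf 15610)))))))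

def twoRank126 : Janko.Tree (ℕ) :=
  (.node (.node (.node (.node (.node (.node (.leaf 104) (.leaf 3561)) (.node (.leaf 16352) (.leaf 6184))) (.node (.node (.leaf 14219) (.leaf 9690)) (.node (.leaf 7620) (.leaf 12076)))) (.node (.node (.node (.leaf 9746) (.leaf 8420)) (.node (.leaf 2688) (.leaf 11955))) (.node (.node (.leaf 1949) (.leaf 6239)) (.node (.leaf 6448) (.leaf 15209))))) (.node (.node (.node (.node (.leaf 6783) (.leaf 6372)) (.node (.leaf 9788) (.leaf 8176))) (.node (.node (.leaf 7012) (.leaf 6266)) (.node (.leaf 8022) (.leaf 11543)))) (.node (.node (.node (.leaf 9580) (.leaf 6314)) (.node (.leaf 16425) (.leaf 6108))) (.node (.node (.leaf 9890) (.leaf 15987)) (.node (.leaf 10608) (.leaf 6012)))))) (.node (.node (.node (.node (.node (.leaf 6798) (.leaf 16383)) (.node (.leaf 8423) (.leaf 13405))) (.node (.node (.leaf 6689) (.leaf 11554)) (.node (.leaf 11701) (.leaf 8488)))) (.node (.node (.node (.leaf 6738) (.leaf 14061)) (.node (.leaf 6538) (.leaf 13383))) (.node (.node (.leaf 6639) (.leaf 10163)) (.node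 (.leaf 15012) (.leaf 15771))))) (.node (.node (.node (.node (.leaf 653) (.leaf 3688)) (.node (.leaf 6564) (.leaf 6142))) (.node (.node (.leaf 1809) (.leaf 10222)) (.node (.leaf 10611) (.leaf 13426)))) (.node (.node (.node (.leaf 1256) (.leaf 12860)) (.node (.leaf 7886) (.leaf 12513))) (.node (.node (.leaf 7014) (.leaf 16300)) (.node (.leaf 6410) (.leaf 5995)))))))

def twoRank127 : Janko.Tree (ℕ) :=
  (.node (.node (.node (.node (.node (.node (.leaf 105) (.leaf 15113)) (.node (.leaf 11079) (.leaf 14943))) (.node (.node (.leaf 1393) (.leaf 9639)) (.node (.leaf 3001) (.leaf 12210)))) (.node (.node (.node (.leaf 819) (.leaf 10800)) (.node (.leaf 16003) (.leaf 12700))) (.node (.node (.leaf 1950) (.leaf 13977)) (.node (.leaf 3345) (.leaf 13653))))) (.node (.node (.node (.node (.leaf 6951) (.leaf 11975)) (.node (.leaf 8993) (.leaf 9660))) (.node (.node (.leaf 9281) (.leaf 11732)) (.node (.leaf 16143) (.leaf 11539)))) (.node (.node (.node (.leaf 8858) (.leaf 11917)) (.node (.leaf 8263) (.leaf 12855))) (.node (.node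 (.leaf 2195) (.leaf 8830)) (.node (.leaf 8855) (.leaf 15466)))))) (.node (.node (.node (.node (.node (.leaf 305) (.leaf 13538)) (.node (.leaf 10383) (.leaf 12089))) (.node (.node (.leaf 1535) (.leaf 12326)) (.node (.leaf 3110) (.leaf 9948)))) (.node (.node (.node (.leaf 979) (.leaf 7414)) (.node (.leaf 10869) (.leaf 10971))) (.node (.node (.leaf 2067) (.leaf 14192)) (.node (.leaf 8647) (.leaf 14501))))) (.node (.node (.node (.node (.leaf 654) (.leaf 10633)) (.node (.leaf 11865) (.leaf 11726))) (.node (.node (.leaf 1810) (.leaf 14204)) (.node (.leaf 3261) (.leaf 11279)))) (.node (.node (.node (.leaf 1257) (.leaf 8832)) (.node (.leaf 2900) (.leaf 15326))) (.node (.node (.leaf 2289) (.leaf 11415)) (.node (.leaf 13036) (.leaf 14033)))))))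

def twoRank128 : Janko.Tree (ℕ) :=
  (.node (.node (.node (.node (.node (.node (.leaf 106) (.leaf 3562)) (.node (.leaf 13905) (.leaf 13261))) (.node (.node (.leaf 4827) (.leaf 12032)) (.node (.leaf 3002) (.leaf 15447)))) (.node (.node (.node (.leaf 820) (.leaf 15964)) (.node (.leaf 2689) (.leaf 9792))) (.node (.node (.leaf 4774) (.leaf 11268)) (.node (.leaf 3346) (.leaf 12736))))) (.node (.node (.node (.node (.leaf 479) (.leaf 16125)) (.node (.leaf 9655) (.leaf 14701))) (.node (.node (.leaf 8132) (.leaf 8795)) (.node (.leaf 14133) (.leaf 12790)))) (.node (.node (.node (.leaf 10590) (.leaf 7687)) (.node (.leaf 4641) (.leaf 12640))) (.node (.node (.leaf 13233) (.leaf 11324)) (.node (.leaf 14687) (.leaf 4113)))))) (.node (.node (.node (.node (.node (.leaf 306) (.leaf 11947)) (.node (.leaf 2467) (.leaf 12926))) (.node (.node (.leaf 1536) (.leaf 11558)) (.node (.leaf 3111) (.leaf 8685)))) (.node (.node (.node (.leaf 980) (.leaf 14875)) (.node (.leaf 14366) (.leaf 13613))) (.node (.node (.leaf 11164) (.leaf 11451))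 (.node (.leaf 4548) (.leaf 14658))))) (.node (.node (.node (.node (.leaf 4895) (.leaf 4471)) (.node (.leaf 4682) (.leaf 4269))) (.node (.node (.leaf 1811) (.leaf 9403)) (.node (.leaf 7544) (.leaf 13736)))) (.node (.node (.node (.leaf 4839) (.leaf 8968)) (.node (.leaf 2901) (.leaf 4213))) (.node (.node (.leaf 2290) (.leaf 4315)) (.node (.leaf 8922) (.leaf 13739)))))))

def twoRank129 : Janko.Tree (ℕ) :=
  (.node (.node (.node (.node (.node (.node (.leaf 5982) (.leaf 7262)) (.node (.leaf 14087) (.leaf 11499))) (.node (.node (.leaf 14787) (.leaf 5334)) (.node (.leaf 15476) (.leaf 15450)))) (.node (.node (.node (.leaf 5921) (.leaf 11785)) (.node (.leaf 2690) (.leaf 9864))) (.node (.node (.leaf 11496) (.leaf 11270)) (.node (.leaf 3347) (.leaf 5004))))) (.node (.node (.node (.node (.leaf 480) (.leaf 10856)) (.node (.leaf 5686) (.leaf 4028))) (.node (.node (.leaf 5825) (.leaf 5296)) (.node (.leaf 11881) (.leaf 12574)))) (.node (.node (.node (.leaf 5890) (.leaf 5369)) (.node (.leaf 8047) (.leaf 13120))) (.node (.node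 (.leaf 5754) (.leaf 3936)) (.node (.leaf 8613) (.leaf 8129)))))) (.node (.node (.node (.node (.node (.leaf 307) (.leaf 7293)) (.node (.leaf 2468) (.leaf 4013))) (.node (.node (.leaf 1537) (.leaf 5317)) (.node (.leaf 5575) (.leaf 5055)))) (.node (.node (.node (.leaf 981) (.leaf 5384)) (.node (.leaf 2734) (.leaf 5119))) (.node (.node (.leaf 2068) (.leaf 5253)) (.node (.leaf 3416) (.leaf 13754))))) (.node (.node (.node (.node (.leaf 655) (.leaf 13966)) (.node (.leaf 2627) (.leaf 14466))) (.node (.node (.leaf 5806) (.leaf 11115)) (.node (.leaf 3262) (.leaf 10214)))) (.node (.node (.node (.leaf 1258) (.leaf 8274)) (.node (.leaf 7878) (.leaf 7480))) (.node (.node (.leaf 2291) (.leaf 7824)) (.node (.leaf 5478) (.leaf 13737)))))))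

def twoRank130 : Janko.Tree (ℕ) :=
  (.node (.node (.node (.node (.node (.node (.leaf 107) (.leaf 6396)) (.node (.leaf 6600) (.leaf 11502))) (.node (.node (.leaf 1394) (.leaf 3790)) (.node (.leaf 3003) (.leaf 15444)))) (.node (.node (.node (.leaf 821) (.leaf 11691)) (.node (.leaf 6551) (.leaf 9787))) (.node (.node (.leaf 7064) (.leaf 10808)) (.node (.leaf 9207) (.leaf 15547))))) (.node (.node (.node (.node (.leaf 481) (.leaf 15215)) (.node (.leaf 9815) (.leaf 4029))) (.node (.node (.leaf 8977) (.leaf 8798)) (.node (.leaf 16322) (.leaf 11541)))) (.node (.node (.node (.leaf 10483) (.leaf 12307)) (.node (.leaf 9002) (.leaf 6107))) (.node (.node (.leaf 2196) (.leaf 6214)) (.node (.leaf 16221) (.leaf 8352)))))) (.node (.node (.node (.node (.node (.leaf 308) (.leaf 6886)) (.node (.leaf 2469) (.leaf 10310))) (.node (.node (.leaf 7591) (.leaf 11552)) (.node (.leaf 16376) (.leaf 8678)))) (.node (.node (.node (.leaf 9169) (.leaf 16434)) (.node (.leaf 2735) (.leaf 10100))) (.node (.node (.leaf 2069) (.leaf 3895)) (.node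 (.leaf 14467) (.leaf 6019))))) (.node (.node (.node (.node (.leaf 656) (.leaf 3689)) (.node (.leaf 7041) (.leaf 15349))) (.node (.node (.leaf 1812) (.leaf 11755)) (.node (.leaf 6461) (.leaf 6045)))) (.node (.node (.node (.leaf 1259) (.leaf 9086)) (.node (.leaf 6511) (.leaf 12725))) (.node (.node (.leaf 6881) (.leaf 6975)) (.node (.leaf 13072) (.leaf 13735)))))))

def twoRank131 : Janko.Tree (ℕ) :=
  (.node (.node (.node (.node (.node (.node (.leaf 108) (.leaf 3563)) (.node (.leaf 14965) (.leaf 11497))) (.node (.node (.leaf 1395) (.leaf 10507)) (.node (.leaf 7616) (.leaf 10287)))) (.node (.node (.node (.leaf 822) (.leaf 7051)) (.node (.leaf 13368) (.leaf 9608))) (.node (.node (.leaf 1951) (.leaf 12594)) (.node (.leaf 3348) (.leaf 13175))))) (.node (.node (.node (.node (.leaf 482) (.leaf 3664)) (.node (.leaf 2541) (.leaf 8398))) (.node (.node (.leaf 1677) (.leaf 11154)) (.node (.leaf 3198) (.leaf 6827)))) (.node (.node (.node (.leaf 1119) (.leaf 12852)) (.node (.leaf 14680) (.leaf 14058))) (.node (.node (.leaf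 2197) (.leaf 12958)) (.node (.leaf 11500) (.leaf 8956)))))) (.node (.node (.node (.node (.node (.leaf 309) (.leaf 12051)) (.node (.leaf 9151) (.leaf 7008))) (.node (.node (.leaf 7076) (.leaf 12352)) (.node (.leaf 12604) (.leaf 8675)))) (.node (.node (.node (.leaf 8428) (.leaf 14477)) (.node (.leaf 10801) (.leaf 8672))) (.node (.node (.leaf 2070) (.leaf 14994)) (.node (.leaf 13241) (.leaf 15683))))) (.node (.node (.node (.node (.leaf 657) (.leaf 15932)) (.node (.leaf 2628) (.leaf 12449))) (.node (.node (.leaf 1813) (.leaf 9380)) (.node (.leaf 3263) (.leaf 9986)))) (.node (.node (.node (.leaf 14301) (.leaf 10703)) (.node (.leaf 6935) (.leaf 11873))) (.node (.node (.leaf 6879) (.leaf 11478)) (.node (.leaf 16086) (.leaf 13733)))))))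

def twoRank132 : Janko.Tree (ℕ) :=
  (.node (.node (.node (.node (.node (.node (.leaf 109) (.leaf 4508)) (.node (.leaf 2396) (.leaf 3992))) (.node (.node (.leaf 1396) (.leaf 3791)) (.node (.leaf 7926) (.leaf 8897)))) (.node (.node (.node (.leaf 9736) (.leaf 4459)) (.node (.leaf 15230) (.leaf 14815))) (.node (.node (.leaf 8119) (.leaf 10338)) (.node (.leaf 3349) (.leaf 4144))))) (.node (.node (.node (.node (.leaf 4909) (.leaf 4482)) (.node (.leaf 14226) (.leaf 10822))) (.node (.node (.leaf 1678) (.leaf 16403)) (.node (.leaf 4589) (.leaf 13460)))) (.node (.node (.node (.leaf 1120) (.leaf 9945)) (.node (.leaf 9008) (.leaf 4232))) (.node (.node (.leaf 9894) (.leaf 14240)) (.node (.leaf 8617) (.leaf 12726)))))) (.node (.node (.node (.node (.node (.leaf 4924) (.leaf 8290)) (.node (.leaf 4711) (.leaf 12275))) (.node (.node (.leaf 4813) (.leaf 14659)) (.node (.leaf 3112) (.leaf 4183)))) (.node (.node (.node (.leaf 4866) (.leaf 4447)) (.node (.leaf 12155) (.leaf 4244))) (.node (.node (.leaf 2071) (.leaf 14895)) (.node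 (.leaf 15660) (.leaf 12269))))) (.node (.node (.node (.node (.leaf 658) (.leaf 15484)) (.node (.leaf 14894) (.leaf 4268))) (.node (.node (.leaf 13278) (.leaf 4371)) (.node (.leaf 4576) (.leaf 13214)))) (.node (.node (.node (.leaf 1260) (.leaf 4420)) (.node (.leaf 2902) (.leaf 16336))) (.node (.node (.leaf 4735) (.leaf 15866)) (.node (.leaf 16055) (.leaf 4101)))))))

def twoRank133 : Janko.Tree (ℕ) :=
  (.node (.node (.node (.node (.node (.node (.leaf 110) (.leaf 3564)) (.node (.leaf 13079) (.leaf 5201))) (.node (.node (.leaf 14144) (.leaf 3792)) (.node (.leaf 5591) (.leaf 9142)))) (.node (.node (.node (.leaf 823) (.leaf 11140)) (.node (.leaf 15235) (.leaf 9461))) (.node (.node (.leaf 5789) (.leaf 3844)) (.node (.leaf 5523) (.leaf 15314))))) (.node (.node (.node (.node (.leaf 483) (.leaf 3665)) (.node (.leaf 2542) (.leaf 5171))) (.node (.node (.leaf 1679) (.leaf 15123)) (.node (.leaf 10506) (.leaf 12315)))) (.node (.node (.node (.leaf 1121) (.leaf 13431)) (.node (.leaf 10540) (.leaf 12774))) (.node (.node (.leaf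 15815) (.leaf 14261)) (.node (.leaf 10567) (.leaf 11096)))))) (.node (.node (.node (.node (.node (.leaf 7291) (.leaf 5450)) (.node (.leaf 2470) (.leaf 11429))) (.node (.node (.leaf 7273) (.leaf 13786)) (.node (.leaf 3113) (.leaf 14558)))) (.node (.node (.node (.leaf 982) (.leaf 9824)) (.node (.leaf 11082) (.leaf 14595))) (.node (.node (.leaf 5771) (.leaf 11444)) (.node (.leaf 13239) (.leaf 4990))))) (.node (.node (.node (.node (.leaf 5937) (.leaf 5418)) (.node (.leaf 14665) (.leaf 12054))) (.node (.node (.leaf 1814) (.leaf 9096)) (.node (.leaf 3264) (.leaf 5021)))) (.node (.node (.node (.leaf 5872) (.leaf 3779)) (.node (.leaf 11724) (.leaf 5087))) (.node (.node (.leaf 2292) (.leaf 5222)) (.node (.leaf 3517) (.leaf 11568)))))))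

def twoRank134 : Janko.Tree (ℕ) :=
  (.node (.node (.node (.node (.node (.node (.leaf 111) (.leaf 7413)) (.node (.leaf 2397) (.leaf 12805))) (.node (.node (.leaf 6701) (.leaf 6284)) (.node (.leaf 7922) (.leaf 15276)))) (.node (.node (.node (.leaf 6753) (.leaf 12580)) (.node (.leaf 15233) (.leaf 16349))) (.node (.node (.leaf 1952) (.leaf 6238)) (.node (.leaf 14791) (.leaf 13572))))) (.node (.node (.node (.node (.leaf 7162) (.leaf 12828)) (.node (.leaf 16390) (.leaf 11597))) (.node (.node (.leaf 6863) (.leaf 14421)) (.node (.leaf 7367) (.leaf 10557)))) (.node (.node (.node (.leaf 1122) (.leaf 3759)) (.node (.leaf 6523) (.leaf 4074))) (.node (.node (.leaf 6625) (.leaf 12391)) (.node (.leaf 6422) (.leaf 11102)))))) (.node (.node (.node (.node (.node (.leaf 7432) (.leaf 11224)) (.node (.leaf 2471) (.leaf 12399))) (.node (.node (.leaf 10480) (.leaf 15048)) (.node (.leaf 6486) (.leaf 16083)))) (.node (.node (.node (.leaf 7668) (.leaf 14601)) (.node (.leaf 6537) (.leaf 14069))) (.node (.node (.leaf 10728) (.leaf 6225))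 (.node (.leaf 6436) (.leaf 12283))))) (.node (.node (.node (.node (.leaf 659) (.leaf 15965)) (.node (.leaf 9752) (.leaf 14179))) (.node (.node (.leaf 9939) (.leaf 8377)) (.node (.leaf 7538) (.leaf 13090)))) (.node (.node (.node (.leaf 1261) (.leaf 13157)) (.node (.leaf 13411) (.leaf 10706))) (.node (.node (.leaf 6986) (.leaf 7817)) (.node (.leaf 16168) (.leaf 10771)))))))

def twoRank135 : Janko.Tree (ℕ) :=
  (.node (.node (.node (.node (.node (.node (.leaf 112) (.leaf 10760)) (.node (.leaf 2398) (.leaf 8378))) (.node (.node (.leaf 1397) (.leaf 11672)) (.node (.leaf 10380) (.leaf 9140)))) (.node (.node (.node (.leaf 824) (.leaf 14711)) (.node (.leaf 15263) (.leaf 9463))) (.node (.node (.leaf 1953) (.leaf 3845)) (.node (.leaf 3350) (.leaf 15027))))) (.node (.node (.node (.node (.leaf 484) (.leaf 3666)) (.node (.leaf 2543) (.leaf 10824))) (.node (.node (.leaf 6861) (.leaf 8224)) (.node (.leaf 11581) (.leaf 15313)))) (.node (.node (.node (.leaf 1123) (.leaf 9200)) (.node (.leaf 11734) (.leaf 12781))) (.node (.node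 (.leaf 16396) (.leaf 12389)) (.node (.leaf 3469) (.leaf 10209)))))) (.node (.node (.node (.node (.node (.leaf 310) (.leaf 3616)) (.node (.leaf 2472) (.leaf 11162))) (.node (.node (.leaf 1538) (.leaf 7768)) (.node (.leaf 3114) (.leaf 11731)))) (.node (.node (.node (.leaf 983) (.leaf 3744)) (.node (.leaf 15930) (.leaf 14419))) (.node (.node (.leaf 2072) (.leaf 3896)) (.node (.leaf 9888) (.leaf 12113))))) (.node (.node (.node (.node (.leaf 660) (.leaf 11477)) (.node (.leaf 6872) (.leaf 12052))) (.node (.node (.leaf 7121) (.leaf 15188)) (.node (.leaf 3265) (.leaf 11108)))) (.node (.node (.node (.leaf 1262) (.leaf 11654)) (.node (.leaf 2903) (.leaf 10708))) (.node (.node (.leaf 11816) (.leaf 10720)) (.node (.leaf 13679) (.leaf 10769)))))))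

def twoRank136 : Janko.Tree (ℕ) :=
  (.node (.node (.node (.node (.node (.node (.leaf 4938) (.leaf 15692)) (.node (.leaf 11945) (.leaf 12630))) (.node (.node (.leaf 1398) (.leaf 13885)) (.node (.leaf 8783) (.leaf 4200)))) (.node (.node (.node (.leaf 825) (.leaf 12182)) (.node (.leaf 4669) (.leaf 4257))) (.node (.node (.leaf 1954) (.leaf 15064)) (.node (.leaf 14987) (.leaf 13639))))) (.node (.node (.node (.node (.leaf 485) (.leaf 15714)) (.node (.leaf 4696) (.leaf 12410))) (.node (.node (.leaf 4799) (.leaf 4385)) (.node (.leaf 7369) (.leaf 15254)))) (.node (.node (.node (.leaf 4853) (.leaf 14139)) (.node (.leaf 2790) (.leaf 12868))) (.node (.node (.leaf 8294) (.leaf 10257)) (.node (.leaf 3470) (.leaf 13373)))))) (.node (.node (.node (.node (.node (.leaf 311) (.leaf 15437)) (.node (.leaf 13821) (.leaf 4293))) (.node (.node (.leaf 10725) (.leaf 4397)) (.node (.leaf 11002) (.leaf 14545)))) (.node (.node (.node (.leaf 10436) (.leaf 14404)) (.node (.leaf 9988) (.leaf 11932))) (.node (.node (.leaf 7460) (.leaf 14008))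 (.node (.leaf 3417) (.leaf 14246))))) (.node (.node (.node (.node (.leaf 661) (.leaf 3690)) (.node (.leaf 4681) (.leaf 15582))) (.node (.node (.leaf 4788) (.leaf 8376)) (.node (.leaf 3266) (.leaf 12778)))) (.node (.node (.node (.leaf 1263) (.leaf 9763)) (.node (.leaf 4628) (.leaf 11161))) (.node (.node (.leaf 2293) (.leaf 3964)) (.node (.leaf 8944) (.leaf 4100)))))))

def twoRank137 : Janko.Tree (ℕ) :=
  (.node (.node (.node (.node (.node (.node (.leaf 113) (.leaf 10004)) (.node (.leaf 5718) (.leaf 9665))) (.node (.node (.leaf 1399) (.leaf 5333)) (.node (.leaf 8787) (.leaf 11821)))) (.node (.node (.node (.leaf 6931) (.leaf 11083)) (.node (.leaf 2691) (.leaf 9245))) (.node (.node (.leaf 1955) (.leaf 15335)) (.node (.leaf 3351) (.leaf 5003))))) (.node (.node (.node (.node (.leaf 5952) (.leaf 3667)) (.node (.leaf 2544) (.leaf 8641))) (.node (.node (.leaf 1680) (.leaf 9509)) (.node (.leaf 7998) (.leaf 15075)))) (.node (.node (.node (.leaf 7964) (.leaf 5368)) (.node (.leaf 8277) (.leaf 7576))) (.node (.node (.leaf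 5753) (.leaf 3937)) (.node (.leaf 8130) (.leaf 4972)))))) (.node (.node (.node (.node (.node (.leaf 5967) (.leaf 8899)) (.node (.leaf 5698) (.leaf 11420))) (.node (.node (.leaf 7972) (.leaf 7166)) (.node (.leaf 15409) (.leaf 5054)))) (.node (.node (.node (.leaf 5907) (.leaf 14406)) (.node (.leaf 2736) (.leaf 11592))) (.node (.node (.leaf 10678) (.leaf 13386)) (.node (.leaf 5506) (.leaf 4989))))) (.node (.node (.node (.node (.leaf 662) (.leaf 14999)) (.node (.leaf 15472) (.leaf 10165))) (.node (.node (.leaf 1815) (.leaf 5281)) (.node (.leaf 3267) (.leaf 12997)))) (.node (.node (.node (.leaf 1264) (.leaf 14254)) (.node (.leaf 2904) (.leaf 11225))) (.node (.node (.leaf 5736) (.leaf 5221)) (.node (.leaf 5477) (.leaf 12748)))))))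

def twoRank138 : Janko.Tree (ℕ) :=
  (.node (.node (.node (.node (.node (.node (.leaf 114) (.leaf 14526)) (.node (.leaf 14233) (.leaf 6183))) (.node (.node (.leaf 9571) (.leaf 16285)) (.node (.leaf 6498) (.leaf 15147)))) (.node (.node (.node (.leaf 6892) (.leaf 10438)) (.node (.leaf 9999) (.leaf 12628))) (.node (.node (.leaf 6650) (.leaf 15885)) (.node (.leaf 14996) (.leaf 12005))))) (.node (.node (.node (.node (.leaf 486) (.leaf 16438)) (.node (.leaf 2545) (.leaf 12764))) (.node (.node (.leaf 6976) (.leaf 9152)) (.node (.leaf 6473) (.leaf 6060)))) (.node (.node (.node (.leaf 1124) (.leaf 10030)) (.node (.leaf 9085) (.leaf 6106))) (.node (.node (.leaf 8018) (.leaf 6213)) (.node (.leaf 8226) (.leaf 10122)))))) (.node (.node (.node (.node (.node (.leaf 312) (.leaf 15725)) (.node (.leaf 15439) (.leaf 4014))) (.node (.node (.leaf 6688) (.leaf 13894)) (.node (.leaf 8362) (.leaf 15936)))) (.node (.node (.node (.leaf 984) (.leaf 14714)) (.node (.leaf 2737) (.leaf 11590))) (.node (.node (.leaf 6638) (.leaf 14632)) (.node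 (.leaf 15384) (.leaf 10255))))) (.node (.node (.node (.node (.leaf 663) (.leaf 6356)) (.node (.leaf 13252) (.leaf 6141))) (.node (.node (.leaf 11636) (.leaf 9091)) (.node (.leaf 11692) (.leaf 6044)))) (.node (.node (.node (.leaf 6714) (.leaf 16042)) (.node (.leaf 7082) (.leaf 11157))) (.node (.node (.leaf 2294) (.leaf 8190)) (.node (.leaf 8924) (.leaf 13171)))))))

def twoRank139 : Janko.Tree (ℕ) :=
  (.node (.node (.node (.node (.node (.node (.leaf 115) (.leaf 10762)) (.node (.leaf 16024) (.leaf 11334))) (.node (.node (.leaf 1400) (.leaf 15735)) (.node (.leaf 8840) (.leaf 14247)))) (.node (.node (.node (.leaf 826) (.leaf 10440)) (.node (.leaf 15277) (.leaf 13642))) (.node (.node (.leaf 1956) (.leaf 3846)) (.node (.leaf 10050) (.leaf 12684))))) (.node (.node (.node (.node (.leaf 487) (.leaf 9546)) (.node (.leaf 15354) (.leaf 10970))) (.node (.node (.leaf 1681) (.leaf 9139)) (.node (.leaf 11705) (.leaf 14605)))) (.node (.node (.node (.leaf 1125) (.leaf 14707)) (.node (.leaf 8371) (.leaf 10626))) (.node (.node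 (.leaf 2198) (.leaf 13979)) (.node (.leaf 3471) (.leaf 7742)))))) (.node (.node (.node (.node (.node (.leaf 313) (.leaf 11238)) (.node (.leaf 8894) (.leaf 15316))) (.node (.node (.leaf 1539) (.leaf 15942)) (.node (.leaf 3115) (.leaf 12977)))) (.node (.node (.node (.leaf 985) (.leaf 9439)) (.node (.leaf 9375) (.leaf 13985))) (.node (.node (.leaf 2073) (.leaf 7034)) (.node (.leaf 14735) (.leaf 14600))))) (.node (.node (.node (.node (.leaf 664) (.leaf 15138)) (.node (.leaf 2629) (.leaf 10152))) (.node (.node (.leaf 1816) (.leaf 12317)) (.node (.leaf 3268) (.leaf 12024)))) (.node (.node (.node (.leaf 1265) (.leaf 9037)) (.node (.leaf 2905) (.leaf 11159))) (.node (.node (.leaf 10698) (.leaf 9331)) (.node (.leaf 12347) (.leaf 13589)))))))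

def twoRank140 : Janko.Tree (ℕ) :=
  (.node (.node (.node (.node (.node (.node (.leaf 116) (.leaf 4507)) (.node (.leaf 14877) (.leaf 4305))) (.node (.node (.leaf 15999) (.leaf 14800)) (.node (.leaf 3004) (.leaf 10653)))) (.node (.node (.node (.leaf 827) (.leaf 3717)) (.node (.leaf 10011) (.leaf 13502))) (.node (.node (.leaf 1957) (.leaf 15741)) (.node (.leaf 4563) (.leaf 12007))))) (.node (.node (.node (.node (.leaf 12878) (.leaf 4481)) (.node (.leaf 2546) (.leaf 4279))) (.node (.node (.leaf 1682) (.leaf 8856)) (.node (.leaf 11623) (.leaf 13960)))) (.node (.node (.node (.leaf 1126) (.leaf 4433)) (.node (.leaf 2791) (.leaf 4231))) (.node (.node (.leaf 12565) (.leaf 16164)) (.node (.leaf 4533) (.leaf 13521)))))) (.node (.node (.node (.node (.node (.leaf 314) (.leaf 3617)) (.node (.leaf 2473) (.leaf 12294))) (.node (.node (.leaf 1540) (.leaf 16071)) (.node (.leaf 3116) (.leaf 13965)))) (.node (.node (.node (.leaf 986) (.leaf 4446)) (.node (.leaf 4653) (.leaf 14356))) (.node (.node (.leaf 12225) (.leaf 4339)) (.node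 (.leaf 13507) (.leaf 15605))))) (.node (.node (.node (.node (.leaf 4894) (.leaf 4470)) (.node (.leaf 12797) (.leaf 14315))) (.node (.node (.leaf 1817) (.leaf 4370)) (.node (.leaf 3269) (.leaf 11133)))) (.node (.node (.node (.leaf 7203) (.leaf 13489)) (.node (.leaf 13201) (.leaf 12808))) (.node (.node (.leaf 2295) (.leaf 4314)) (.node (.leaf 8943) (.leaf 13064)))))))

def twoRank141 : Janko.Tree (ℕ) :=
  (.node (.node (.node (.node (.node (.node (.leaf 5981) (.leaf 3565)) (.node (.leaf 2399) (.leaf 14446))) (.node (.node (.leaf 5854) (.leaf 15613)) (.node (.leaf 5590) (.leaf 9095)))) (.node (.node (.node (.leaf 5920) (.leaf 5397)) (.node (.leaf 2692) (.leaf 14169))) (.node (.node (.leaf 1958) (.leaf 15990)) (.node (.leaf 15574) (.leaf 14773))))) (.node (.node (.node (.node (.leaf 488) (.leaf 10542)) (.node (.leaf 13725) (.leaf 14695))) (.node (.node (.leaf 5824) (.leaf 8191)) (.node (.leaf 5555) (.leaf 15158)))) (.node (.node (.node (.leaf 5889) (.leaf 10766)) (.node (.leaf 5626) (.leaf 9744))) (.node (.node (.leaf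 2199) (.leaf 3938)) (.node (.leaf 3472) (.leaf 11808)))))) (.node (.node (.node (.node (.node (.leaf 315) (.leaf 11428)) (.node (.leaf 2474) (.leaf 5187))) (.node (.node (.leaf 1541) (.leaf 11789)) (.node (.leaf 5574) (.leaf 13967)))) (.node (.node (.node (.leaf 987) (.leaf 12459)) (.node (.leaf 10084) (.leaf 14358))) (.node (.node (.leaf 2074) (.leaf 3897)) (.node (.leaf 9539) (.leaf 4988))))) (.node (.node (.node (.node (.leaf 665) (.leaf 11591)) (.node (.leaf 7276) (.leaf 5155))) (.node (.node (.leaf 1818) (.leaf 8248)) (.node (.leaf 5538) (.leaf 12028)))) (.node (.node (.node (.leaf 7963) (.leaf 7260)) (.node (.leaf 5608) (.leaf 9520))) (.node (.node (.leaf 7115) (.leaf 11117)) (.node (.leaf 8937) (.leaf 4954)))))))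

def twoRank142 : Janko.Tree (ℕ) :=
  (.node (.node (.node (.node (.node (.node (.leaf 117) (.leaf 8007)) (.node (.leaf 15526) (.leaf 16040))) (.node (.node (.leaf 1401) (.leaf 6283)) (.node (.leaf 3005) (.leaf 11935)))) (.node (.node (.node (.leaf 828) (.leaf 12161)) (.node (.leaf 6550) (.leaf 6126))) (.node (.node (.leaf 1959) (.leaf 6237)) (.node (.leaf 3352) (.leaf 12961))))) (.node (.node (.node (.node (.leaf 489) (.leaf 13177)) (.node (.leaf 6574) (.leaf 9902))) (.node (.node (.leaf 1683) (.leaf 8187)) (.node (.leaf 10498) (.leaf 13958)))) (.node (.node (.node (.leaf 1127) (.leaf 7669)) (.node (.leaf 8035) (.leaf 10746))) (.node (.node (.leaf 2200) (.leaf 11823)) (.node (.leaf 11493) (.leaf 6011)))))) (.node (.node (.node (.node (.node (.leaf 316) (.leaf 12615)) (.node (.leaf 6589) (.leaf 4015))) (.node (.node (.leaf 1542) (.leaf 6273)) (.node (.leaf 7833) (.leaf 14960)))) (.node (.node (.node (.leaf 9893) (.leaf 14548)) (.node (.leaf 2738) (.leaf 14861))) (.node (.node (.leaf 2075) (.leaf 8109)) (.node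 (.leaf 14733) (.leaf 7851))))) (.node (.node (.node (.node (.leaf 7010) (.leaf 13321)) (.node (.leaf 6563) (.leaf 14291))) (.node (.node (.leaf 6661) (.leaf 9405)) (.node (.leaf 14886) (.leaf 6043)))) (.node (.node (.node (.leaf 7941) (.leaf 6300)) (.node (.leaf 2906) (.leaf 7466))) (.node (.node (.leaf 6613) (.leaf 8477)) (.node (.leaf 6409) (.leaf 13458)))))))

def twoRank143 : Janko.Tree (ℕ) :=
  (.node (.node (.node (.node (.node (.node (.leaf 118) (.leaf 3566)) (.node (.leaf 14296) (.leaf 15494))) (.node (.node (.leaf 1402) (.leaf 15737)) (.node (.leaf 3006) (.leaf 11943)))) (.node (.node (.node (.leaf 829) (.leaf 8383)) (.node (.leaf 2693) (.leaf 14831))) (.node (.node (.leaf 7693) (.leaf 15429)) (.node (.leaf 3353) (.leaf 12009))))) (.node (.node (.node (.node (.leaf 490) (.leaf 9597)) (.node (.leaf 15360) (.leaf 16174))) (.node (.node (.leaf 10693) (.leaf 8189)) (.node (.leaf 16384) (.leaf 15875)))) (.node (.node (.node (.leaf 8141) (.leaf 15470)) (.node (.leaf 2792) (.leaf 9742))) (.node (.node (.leaf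 9516) (.leaf 8887)) (.node (.leaf 8539) (.leaf 13450)))))) (.node (.node (.node (.node (.node (.leaf 317) (.leaf 3618)) (.node (.leaf 2475) (.leaf 8878))) (.node (.node (.leaf 1543) (.leaf 14611)) (.node (.leaf 3117) (.leaf 15482)))) (.node (.node (.node (.leaf 988) (.leaf 12461)) (.node (.leaf 10104) (.leaf 8667))) (.node (.node (.leaf 7058) (.leaf 3898)) (.node (.leaf 14039) (.leaf 10854))))) (.node (.node (.node (.node (.leaf 666) (.leaf 15425)) (.node (.leaf 15309) (.leaf 10150))) (.node (.node (.leaf 1819) (.leaf 11757)) (.node (.leaf 9790) (.leaf 13146)))) (.node (.node (.node (.leaf 1266) (.leaf 14088)) (.node (.leaf 2907) (.leaf 7059))) (.node (.node (.leaf 14116) (.leaf 16063)) (.node (.leaf 3518) (.leaf 8515)))))))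

def twoRank144 : Janko.Tree (ℕ) :=
  (.node (.node (.node (.node (.node (.node (.leaf 119) (.leaf 16308)) (.node (.leaf 2400) (.leaf 14541))) (.node (.node (.leaf 14648) (.leaf 15549)) (.node (.leaf 9644) (.leaf 16186)))) (.node (.node (.node (.leaf 13712) (.leaf 11898)) (.node (.leaf 4668) (.leaf 9274))) (.node (.node (.leaf 4773) (.leaf 3847)) (.node (.leaf 3354) (.leaf 15372))))) (.node (.node (.node (.node (.leaf 491) (.leaf 16459)) (.node (.leaf 2547) (.leaf 9900))) (.node (.node (.leaf 1684) (.leaf 11802)) (.node (.leaf 3199) (.leaf 13510)))) (.node (.node (.node (.leaf 1128) (.leaf 4432)) (.node (.leaf 14921) (.leaf 13000))) (.node (.node (.leaf 4748) (.leaf 4327)) (.node (.leaf 8175) (.leaf 12288)))))) (.node (.node (.node (.node (.node (.leaf 4923) (.leaf 4493)) (.node (.leaf 8890) (.leaf 12262))) (.node (.node (.leaf 7562) (.leaf 12471)) (.node (.leaf 16354) (.leaf 4182)))) (.node (.node (.node (.leaf 4865) (.leaf 9414)) (.node (.leaf 2739) (.leaf 10428))) (.node (.node (.leaf 4761) (.leaf 15755))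 (.node (.leaf 4547) (.leaf 11586))))) (.node (.node (.node (.node (.leaf 667) (.leaf 13245)) (.node (.leaf 10099) (.leaf 13902))) (.node (.node (.leaf 1820) (.leaf 15835)) (.node (.leaf 12272) (.leaf 15981)))) (.node (.node (.node (.leaf 10607) (.leaf 11950)) (.node (.leaf 12832) (.leaf 13025))) (.node (.node (.leaf 12568) (.leaf 8475)) (.node (.leaf 12128) (.leaf 12029)))))))

def twoRank145 : Janko.Tree (ℕ) :=
  (.node (.node (.node (.node (.node (.node (.leaf 120) (.leaf 3567)) (.node (.leaf 14268) (.leaf 5200))) (.node (.node (.leaf 1403) (.leaf 5332)) (.node (.leaf 3007) (.leaf 12143)))) (.node (.node (.node (.leaf 830) (.leaf 9973)) (.node (.leaf 2694) (.leaf 9247))) (.node (.node (.leaf 7267) (.leaf 7639)) (.node (.leaf 15571) (.leaf 5002))))) (.node (.node (.node (.node (.leaf 5951) (.leaf 5434)) (.node (.leaf 5685) (.leaf 16240))) (.node (.node (.leaf 1685) (.leaf 5295)) (.node (.leaf 10187) (.leaf 5038)))) (.node (.node (.node (.leaf 1129) (.leaf 15445)) (.node (.leaf 2793) (.leaf 5096))) (.node (.node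 (.leaf 10852) (.leaf 7292)) (.node (.leaf 5493) (.leaf 12286)))))) (.node (.node (.node (.node (.node (.leaf 318) (.leaf 7992)) (.node (.leaf 8896) (.leaf 9129))) (.node (.node (.leaf 5839) (.leaf 5316)) (.node (.leaf 11307) (.leaf 15171)))) (.node (.node (.node (.leaf 10753) (.leaf 5383)) (.node (.leaf 5638) (.leaf 5118))) (.node (.node (.leaf 6958) (.leaf 3899)) (.node (.leaf 10964) (.leaf 13936))))) (.node (.node (.node (.node (.leaf 5936) (.leaf 8622)) (.node (.leaf 2630) (.leaf 13542))) (.node (.node (.leaf 1821) (.leaf 10829)) (.node (.leaf 12515) (.leaf 5020)))) (.node (.node (.node (.leaf 5871) (.leaf 10768)) (.node (.leaf 2908) (.leaf 15217))) (.node (.node (.leaf 5735) (.leaf 8094)) (.node (.leaf 3519) (.leaf 11526)))))))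

def twoRank146 : Janko.Tree (ℕ) :=
  (.node (.node (.node (.node (.node (.node (.leaf 6813) (.leaf 15568)) (.node (.leaf 6599) (.leaf 16156))) (.node (.node (.leaf 14646) (.leaf 13887)) (.node (.leaf 9904) (.leaf 16171)))) (.node (.node (.node (.leaf 831) (.leaf 6343)) (.node (.leaf 15701) (.leaf 9276))) (.node (.node (.leaf 7574) (.leaf 8319)) (.node (.leaf 6447) (.leaf 12965))))) (.node (.node (.node (.node (.leaf 492) (.leaf 8063)) (.node (.leaf 2548) (.leaf 6155))) (.node (.node (.leaf 6673) (.leaf 13189)) (.node (.leaf 3200) (.leaf 8932)))) (.node (.node (.node (.leaf 6725) (.leaf 3760)) (.node (.leaf 16388) (.leaf 4075))) (.node (.node (.leaf 9170) (.leaf 7662)) (.node (.leaf 8117) (.leaf 6010)))))) (.node (.node (.node (.node (.node (.leaf 319) (.leaf 6992)) (.node (.leaf 10910) (.leaf 6169))) (.node (.node (.leaf 7437) (.leaf 9430)) (.node (.leaf 12434) (.leaf 9623)))) (.node (.node (.node (.leaf 7016) (.leaf 13099)) (.node (.leaf 2740) (.leaf 11064))) (.node (.node (.leaf 2076) (.leaf 15206)) (.node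 (.leaf 8698) (.leaf 15868))))) (.node (.node (.node (.node (.leaf 668) (.leaf 12491)) (.node (.leaf 11951) (.leaf 14038))) (.node (.node (.leaf 1822) (.leaf 6251)) (.node (.leaf 3270) (.leaf 15975)))) (.node (.node (.node (.leaf 10376) (.leaf 13390)) (.node (.leaf 12492) (.leaf 16272))) (.node (.node (.leaf 2296) (.leaf 6197)) (.node (.leaf 12578) (.leaf 11519)))))))

def twoRank147 : Janko.Tree (ℕ) :=
  (.node (.node (.node (.node (.node (.node (.leaf 121) (.leaf 7356)) (.node (.leaf 2401) (.leaf 8615))) (.node (.node (.leaf 1404) (.leaf 14138)) (.node (.leaf 3008) (.leaf 11433)))) (.node (.node (.node (.leaf 832) (.leaf 3718)) (.node (.leaf 13370) (.leaf 10420))) (.node (.node (.leaf 1960) (.leaf 11860)) (.node (.leaf 3355) (.leaf 12974))))) (.node (.node (.node (.node (.leaf 493) (.leaf 8259)) (.node (.leaf 15199) (.leaf 14084))) (.node (.node (.leaf 1686) (.leaf 13001)) (.node (.leaf 7365) (.leaf 15611)))) (.node (.node (.node (.leaf 1130) (.leaf 15449)) (.node (.leaf 14917) (.leaf 12302))) (.node (.node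 (.leaf 2201) (.leaf 14183)) (.node (.leaf 15596) (.leaf 13184)))))) (.node (.node (.node (.node (.node (.leaf 320) (.leaf 3619)) (.node (.leaf 8813) (.leaf 4016))) (.node (.node (.leaf 1544) (.leaf 12117)) (.node (.leaf 3118) (.leaf 9619)))) (.node (.node (.node (.leaf 9164) (.leaf 11104)) (.node (.leaf 10759) (.leaf 11062))) (.node (.node (.leaf 2077) (.leaf 8107)) (.node (.leaf 9663) (.leaf 8800))))) (.node (.node (.node (.node (.leaf 669) (.leaf 8624)) (.node (.leaf 11034) (.leaf 14313))) (.node (.node (.leaf 1823) (.leaf 9385)) (.node (.leaf 8747) (.leaf 15984)))) (.node (.node (.node (.leaf 1267) (.leaf 11737)) (.node (.leaf 2909) (.leaf 12296))) (.node (.node (.leaf 2297) (.leaf 10761)) (.node (.leaf 7018) (.leaf 11517)))))))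

def twoRank148 : Janko.Tree (ℕ) :=
  (.node (.node (.node (.node (.node (.node (.leaf 122) (.leaf 4506)) (.node (.leaf 2402) (.leaf 12010))) (.node (.node (.leaf 4826) (.leaf 14378)) (.node (.leaf 3009) (.leaf 12187)))) (.node (.node (.node (.leaf 4880) (.leaf 15703)) (.node (.leaf 2695) (.leaf 14297))) (.node (.node (.leaf 7584) (.leaf 3848)) (.node (.leaf 12614) (.leaf 15001))))) (.node (.node (.node (.node (.leaf 10149) (.leaf 4480)) (.node (.leaf 15201) (.leaf 12401))) (.node (.node (.leaf 1687) (.leaf 14359)) (.node (.leaf 8288) (.leaf 13486)))) (.node (.node (.node (.leaf 1131) (.leaf 16191)) (.node (.leaf 4640) (.leaf 11828))) (.node (.node (.leaf 10907) (.leaf 13346)) (.node (.leaf 15331) (.leaf 4112)))))) (.node (.node (.node (.node (.node (.leaf 321) (.leaf 4492)) (.node (.leaf 7204) (.leaf 9074))) (.node (.node (.leaf 7083) (.leaf 12731)) (.node (.leaf 10450) (.leaf 8716)))) (.node (.node (.node (.leaf 8144) (.leaf 16197)) (.node (.leaf 2741) (.leaf 13483))) (.node (.node (.leaf 2078) (.leaf 4338))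 (.node (.leaf 8491) (.leaf 4127))))) (.node (.node (.node (.node (.leaf 670) (.leaf 10807)) (.node (.leaf 4680) (.leaf 4267))) (.node (.node (.leaf 4787) (.leaf 10871)) (.node (.leaf 10616) (.leaf 9404)))) (.node (.node (.node (.leaf 10031) (.leaf 10293)) (.node (.leaf 15368) (.leaf 8077))) (.node (.node (.leaf 9694) (.leaf 4313)) (.node (.leaf 14584) (.leaf 13842)))))))

def twoRank149 : Janko.Tree (ℕ) :=
  (.node (.node (.node (.node (.node (.node (.leaf 123) (.leaf 10510)) (.node (.leaf 2403) (.leaf 14775))) (.node (.node (.leaf 1405) (.leaf 14376)) (.node (.leaf 5589) (.leaf 5068)))) (.node (.node (.node (.leaf 833) (.leaf 11138)) (.node (.leaf 5650) (.leaf 4060))) (.node (.node (.leaf 1961) (.leaf 8309)) (.node (.leaf 3356) (.leaf 13251))))) (.node (.node (.node (.node (.leaf 494) (.leaf 6917)) (.node (.leaf 2549) (.leaf 11416))) (.node (.node (.leaf 1688) (.leaf 5294)) (.node (.leaf 5554) (.leaf 5037)))) (.node (.node (.node (.leaf 7945) (.leaf 5367)) (.node (.leaf 7242) (.leaf 13008))) (.node (.node (.leaf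 8010) (.leaf 5236)) (.node (.leaf 3473) (.leaf 12463)))))) (.node (.node (.node (.node (.node (.leaf 5966) (.leaf 3620)) (.node (.leaf 2476) (.leaf 9456))) (.node (.node (.leaf 1545) (.leaf 10180)) (.node (.leaf 11355) (.leaf 5053)))) (.node (.node (.node (.leaf 5906) (.leaf 9437)) (.node (.leaf 2742) (.leaf 5117))) (.node (.node (.leaf 5770) (.leaf 7872)) (.node (.leaf 13477) (.leaf 11964))))) (.node (.node (.node (.node (.leaf 671) (.leaf 5417)) (.node (.leaf 2631) (.leaf 11245))) (.node (.node (.leaf 1824) (.leaf 9487)) (.node (.leaf 8749) (.leaf 15646)))) (.node (.node (.node (.leaf 1268) (.leaf 5352)) (.node (.leaf 5607) (.leaf 10676))) (.node (.node (.leaf 2298) (.leaf 3965)) (.node (.leaf 11366) (.leaf 13675)))))))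

def twoRank150 : Janko.Tree (ℕ) :=
  (.node (.node (.node (.node (.node (.node (.leaf 124) (.leaf 7456)) (.node (.leaf 9409) (.leaf 6182))) (.node (.node (.leaf 7047) (.leaf 14380)) (.node (.leaf 3010) (.leaf 7852)))) (.node (.node (.node (.leaf 8949) (.leaf 15860)) (.node (.leaf 14319) (.leaf 12369))) (.node (.node (.leaf 6649) (.leaf 3849)) (.node (.leaf 9604) (.leaf 6030))))) (.node (.node (.node (.node (.leaf 6782) (.leaf 7320)) (.node (.leaf 14858) (.leaf 10570))) (.node (.node (.leaf 7952) (.leaf 15561)) (.node (.leaf 8021) (.leaf 12208)))) (.node (.node (.node (.leaf 7959) (.leaf 3761)) (.node (.leaf 8999) (.leaf 14151))) (.node (.node (.leaf 6624) (.leaf 14736)) (.node (.leaf 6849) (.leaf 11262)))))) (.node (.node (.node (.node (.node (.leaf 322) (.leaf 12662)) (.node (.leaf 6588) (.leaf 8225))) (.node (.node (.leaf 7085) (.leaf 12685)) (.node (.leaf 6485) (.leaf 8712)))) (.node (.node (.node (.leaf 8979) (.leaf 13418)) (.node (.leaf 6536) (.leaf 11682))) (.node (.node (.leaf 2079) (.leaf 7410)) (.node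 (.leaf 6435) (.leaf 14988))))) (.node (.node (.node (.node (.leaf 6767) (.leaf 11269)) (.node (.leaf 2632) (.leaf 9605))) (.node (.node (.leaf 10041) (.leaf 13861)) (.node (.leaf 6460) (.leaf 9402)))) (.node (.node (.node (.leaf 10026) (.leaf 9853)) (.node (.leaf 14653) (.leaf 10985))) (.node (.node (.leaf 2299) (.leaf 6971)) (.node (.leaf 8320) (.leaf 13673)))))))

def twoRank151 : Janko.Tree (ℕ) :=
  (.node (.node (.node (.node (.node (.node (.leaf 125) (.leaf 16430)) (.node (.leaf 2404) (.leaf 16056))) (.node (.node (.leaf 1406) (.leaf 14722)) (.node (.leaf 9353) (.leaf 11668)))) (.node (.node (.node (.leaf 834) (.leaf 10095)) (.node (.leaf 14349) (.leaf 7021))) (.node (.node (.leaf 1962) (.leaf 9048)) (.node (.leaf 3357) (.leaf 15225))))) (.node (.node (.node (.node (.leaf 495) (.leaf 11596)) (.node (.leaf 2550) (.leaf 9444))) (.node (.node (.leaf 10724) (.leaf 11564)) (.node (.leaf 8017) (.leaf 8945)))) (.node (.node (.node (.leaf 7947) (.leaf 10868)) (.node (.leaf 9475) (.leaf 13360))) (.node (.node (.leaf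 2202) (.leaf 8841)) (.node (.leaf 6847) (.leaf 11869)))))) (.node (.node (.node (.node (.node (.leaf 323) (.leaf 3621)) (.node (.leaf 2477) (.leaf 8835))) (.node (.node (.leaf 7081) (.leaf 13599)) (.node (.leaf 3119) (.leaf 10972)))) (.node (.node (.node (.leaf 989) (.leaf 9120)) (.node (.leaf 2743) (.leaf 11900))) (.node (.node (.leaf 10363) (.leaf 14704)) (.node (.leaf 11910) (.leaf 11966))))) (.node (.node (.node (.node (.leaf 672) (.leaf 3691)) (.node (.leaf 10204) (.leaf 10113))) (.node (.node (.leaf 1825) (.leaf 9489)) (.node (.leaf 12110) (.leaf 11028)))) (.node (.node (.node (.leaf 7160) (.leaf 8991)) (.node (.leaf 9191) (.leaf 10983))) (.node (.node (.leaf 9321) (.leaf 11148)) (.node (.leaf 8318) (.leaf 15506)))))))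

def twoRank152 : Janko.Tree (ℕ) :=
  (.node (.node (.node (.node (.node (.node (.leaf 126) (.leaf 13671)) (.node (.leaf 15378) (.leaf 12215))) (.node (.node (.leaf 14113) (.leaf 4410)) (.node (.leaf 14223) (.leaf 13916)))) (.node (.node (.node (.leaf 8952) (.leaf 15901)) (.node (.leaf 15248) (.leaf 4256))) (.node (.node (.leaf 1963) (.leaf 4353)) (.node (.leaf 4562) (.leaf 4143))))) (.node (.node (.node (.node (.leaf 12337) (.leaf 7318)) (.node (.leaf 2551) (.leaf 13051))) (.node (.node (.leaf 7346) (.leaf 14700)) (.node (.leaf 8057) (.leaf 11989)))) (.node (.node (.node (.leaf 10755) (.leaf 15074)) (.node (.leaf 9013) (.leaf 4230))) (.node (.node (.leaf 8012) (.leaf 7444)) (.node (.leaf 4532) (.leaf 13455)))))) (.node (.node (.node (.node (.node (.leaf 324) (.leaf 13151)) (.node (.leaf 14121) (.leaf 4292))) (.node (.node (.leaf 4812) (.leaf 13185)) (.node (.leaf 3120) (.leaf 12666)))) (.node (.node (.node (.leaf 990) (.leaf 15947)) (.node (.leaf 2744) (.leaf 7176))) (.node (.node (.leaf 2080) (.leaf 3900))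 (.node (.leaf 15177) (.leaf 9809))))) (.node (.node (.node (.node (.leaf 673) (.leaf 12127)) (.node (.leaf 12643) (.leaf 8503))) (.node (.node (.leaf 1826) (.leaf 4369)) (.node (.leaf 13906) (.leaf 9626)))) (.node (.node (.node (.leaf 4838) (.leaf 9851)) (.node (.leaf 10055) (.leaf 15162))) (.node (.node (.leaf 4734) (.leaf 11922)) (.node (.leaf 4520) (.leaf 8084)))))))

def twoRank153 : Janko.Tree (ℕ) :=
  (.node (.node (.node (.node (.node (.node (.leaf 5980) (.leaf 5465)) (.node (.leaf 5717) (.leaf 3993))) (.node (.node (.leaf 8581) (.leaf 12679)) (.node (.leaf 3011) (.leaf 14959)))) (.node (.node (.node (.leaf 835) (.leaf 5396)) (.node (.leaf 14706) (.leaf 11460))) (.node (.node (.leaf 1964) (.leaf 3850)) (.node (.leaf 3358) (.leaf 10304))))) (.node (.node (.node (.node (.leaf 496) (.leaf 10446)) (.node (.leaf 5684) (.leaf 5170))) (.node (.node (.leaf 5823) (.leaf 5293)) (.node (.leaf 3201) (.leaf 12676)))) (.node (.node (.node (.leaf 5888) (.leaf 3762)) (.node (.leaf 8037) (.leaf 13714))) (.node (.node (.leaf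 10502) (.leaf 9466)) (.node (.leaf 9181) (.leaf 4971)))))) (.node (.node (.node (.node (.node (.leaf 325) (.leaf 7114)) (.node (.leaf 8580) (.leaf 8401))) (.node (.node (.leaf 1546) (.leaf 9421)) (.node (.leaf 8759) (.leaf 12990)))) (.node (.node (.node (.leaf 8146) (.leaf 13872)) (.node (.leaf 8552) (.leaf 9977))) (.node (.node (.leaf 10365) (.leaf 5252)) (.node (.leaf 3418) (.leaf 9632))))) (.node (.node (.node (.node (.leaf 674) (.leaf 5416)) (.node (.leaf 5669) (.leaf 5154))) (.node (.node (.leaf 5805) (.leaf 13403)) (.node (.leaf 16395) (.leaf 14035)))) (.node (.node (.node (.leaf 1269) (.leaf 3780)) (.node (.leaf 2910) (.leaf 9519))) (.node (.node (.leaf 7916) (.leaf 7258)) (.node (.leaf 8324) (.leaf 15126)))))))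

def twoRank154 : Janko.Tree (ℕ) :=
  (.node (.node (.node (.node (.node (.node (.leaf 127) (.leaf 3568)) (.node (.leaf 2405) (.leaf 11503))) (.node (.node (.leaf 1407) (.leaf 9025)) (.node (.leaf 6497) (.leaf 15943)))) (.node (.node (.node (.leaf 6752) (.leaf 3719)) (.node (.leaf 2696) (.leaf 9860))) (.node (.node (.leaf 9811) (.leaf 7640)) (.node (.leaf 6998) (.leaf 13669))))) (.node (.node (.node (.node (.leaf 497) (.leaf 6371)) (.node (.leaf 12638) (.leaf 4030))) (.node (.node (.leaf 1689) (.leaf 16172)) (.node (.leaf 7476) (.leaf 6059)))) (.node (.node (.node (.leaf 10481) (.leaf 6313)) (.node (.leaf 6522) (.leaf 6964))) (.node (.node (.leaf 11294) (.leaf 6212)) (.node (.leaf 9248) (.leaf 12109)))))) (.node (.node (.node (.node (.node (.leaf 6797) (.leaf 6382)) (.node (.leaf 2478) (.leaf 9172))) (.node (.node (.leaf 7090) (.leaf 13065)) (.node (.leaf 3121) (.leaf 6069)))) (.node (.node (.node (.leaf 6737) (.leaf 6328)) (.node (.leaf 7495) (.leaf 6117))) (.node (.node (.leaf 6637) (.leaf 12261)) (.node (.leaf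 14508) (.leaf 11498))))) (.node (.node (.node (.node (.leaf 675) (.leaf 8730)) (.node (.leaf 2633) (.leaf 8507))) (.node (.node (.leaf 1827) (.leaf 11903)) (.node (.leaf 3271) (.leaf 6042)))) (.node (.node (.node (.leaf 1270) (.leaf 6299)) (.node (.leaf 6510) (.leaf 7228))) (.node (.node (.leaf 2300) (.leaf 6196)) (.node (.leaf 3520) (.leaf 7586)))))))

def twoRank155 : Janko.Tree (ℕ) :=
  (.node (.node (.node (.node (.node (.node (.leaf 128) (.leaf 12600)) (.node (.leaf 2406) (.leaf 11914))) (.node (.node (.leaf 7161) (.leaf 13164)) (.node (.leaf 3012) (.leaf 12189)))) (.node (.node (.node (.leaf 836) (.leaf 15762)) (.node (.leaf 9491) (.leaf 8682))) (.node (.node (.leaf 8513) (.leaf 14293)) (.node (.leaf 3359) (.leaf 14267))))) (.node (.node (.node (.node (.leaf 498) (.leaf 15739)) (.node (.leaf 14030) (.leaf 10736))) (.node (.node (.leaf 1690) (.leaf 8217)) (.node (.leaf 7353) (.leaf 4087)))) (.node (.node (.node (.leaf 1132) (.leaf 15552)) (.node (.leaf 14189) (.leaf 14037))) (.node (.node (.leaf 2203) (.leaf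 13795)) (.node (.leaf 10581) (.leaf 11952)))))) (.node (.node (.node (.node (.node (.leaf 326) (.leaf 15669)) (.node (.leaf 2479) (.leaf 8831))) (.node (.node (.leaf 14633) (.leaf 12919)) (.node (.leaf 3122) (.leaf 13259)))) (.node (.node (.node (.leaf 991) (.leaf 10284)) (.node (.leaf 2745) (.leaf 10132))) (.node (.node (.leaf 2081) (.leaf 3901)) (.node (.leaf 3419) (.leaf 15677))))) (.node (.node (.node (.node (.leaf 7442) (.leaf 3692)) (.node (.leaf 8566) (.leaf 12035))) (.node (.node (.leaf 1828) (.leaf 12436)) (.node (.leaf 3272) (.leaf 15600)))) (.node (.node (.node (.leaf 14262) (.leaf 10291)) (.node (.leaf 14194) (.leaf 6830))) (.node (.node (.leaf 2301) (.leaf 13962)) (.node (.leaf 9584) (.leaf 7581)))))))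

def twoRank156 : Janko.Tree (ℕ) :=
  (.node (.node (.node (.node (.node (.node (.leaf 6962) (.leaf 10951)) (.node (.leaf 16419) (.leaf 14940))) (.node (.node (.leaf 4825) (.leaf 12677)) (.node (.leaf 13436) (.leaf 4199)))) (.node (.node (.node (.leaf 837) (.leaf 15038)) (.node (.leaf 4667) (.leaf 9662))) (.node (.node (.leaf 7568) (.leaf 3851)) (.node (.leaf 4561) (.leaf 13288))))) (.node (.node (.node (.node (.leaf 499) (.leaf 12312)) (.node (.leaf 16319) (.leaf 11747))) (.node (.node (.leaf 1691) (.leaf 14626)) (.node (.leaf 7653) (.leaf 12531)))) (.node (.node (.node (.leaf 1133) (.leaf 12773)) (.node (.leaf 4639) (.leaf 12298))) (.node (.node (.leaf 4747) (.leaf 16296)) (.node (.leaf 9227) (.leaf 11796)))))) (.node (.node (.node (.node (.node (.leaf 327) (.leaf 3622)) (.node (.leaf 4710) (.leaf 9087))) (.node (.node (.leaf 1547) (.leaf 13235)) (.node (.leaf 8360) (.leaf 4181)))) (.node (.node (.node (.leaf 992) (.leaf 16182)) (.node (.leaf 15923) (.leaf 12822))) (.node (.node (.leaf 10442) (.leaf 3902))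 (.node (.leaf 8722) (.leaf 4126))))) (.node (.node (.node (.node (.leaf 4893) (.leaf 3693)) (.node (.leaf 2634) (.leaf 10134))) (.node (.node (.leaf 1829) (.leaf 4368)) (.node (.leaf 4575) (.leaf 12553)))) (.node (.node (.node (.leaf 1271) (.leaf 13968)) (.node (.leaf 12021) (.leaf 7234))) (.node (.node (.leaf 4733) (.leaf 9938)) (.node (.leaf 3521) (.leaf 12900)))))))

def twoRank157 : Janko.Tree (ℕ) :=
  (.node (.node (.node (.node (.node (.node (.leaf 129) (.leaf 10956)) (.node (.leaf 2407) (.leaf 15704))) (.node (.node (.leaf 1408) (.leaf 5331)) (.node (.leaf 3013) (.leaf 14403)))) (.node (.node (.node (.leaf 838) (.leaf 11851)) (.node (.leaf 12421) (.leaf 16181))) (.node (.node (.leaf 5788) (.leaf 3852)) (.node (.leaf 10686) (.leaf 5001))))) (.node (.node (.node (.node (.leaf 5950) (.leaf 5433)) (.node (.leaf 2552) (.leaf 16088))) (.node (.node (.leaf 1692) (.leaf 14634)) (.node (.leaf 5553) (.leaf 13591)))) (.node (.node (.node (.leaf 1134) (.leaf 5366)) (.node (.leaf 9318) (.leaf 11475))) (.node (.node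 (.leaf 2204) (.leaf 8743)) (.node (.leaf 5492) (.leaf 11949)))))) (.node (.node (.node (.node (.node (.leaf 328) (.leaf 5449)) (.node (.leaf 8194) (.leaf 8969))) (.node (.node (.leaf 5838) (.leaf 10178)) (.node (.leaf 5573) (.leaf 15036)))) (.node (.node (.node (.leaf 993) (.leaf 15759)) (.node (.leaf 5637) (.leaf 11902))) (.node (.node (.leaf 8252) (.leaf 10106)) (.node (.leaf 5505) (.leaf 15040))))) (.node (.node (.node (.node (.leaf 7283) (.leaf 11053)) (.node (.leaf 2635) (.leaf 10345))) (.node (.node (.leaf 6920) (.leaf 9174)) (.node (.leaf 16114) (.leaf 12813)))) (.node (.node (.node (.leaf 1272) (.leaf 3781)) (.node (.leaf 2911) (.leaf 5086))) (.node (.node (.leaf 2302) (.leaf 3966)) (.node (.leaf 3522) (.leaf 8652)))))))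

def twoRank158 : Janko.Tree (ℕ) :=
  (.node (.node (.node (.node (.node (.node (.leaf 6812) (.leaf 10953)) (.node (.leaf 15728) (.leaf 14942))) (.node (.node (.leaf 7969) (.leaf 11988)) (.node (.leaf 3014) (.leaf 12973)))) (.node (.node (.node (.leaf 839) (.leaf 6342)) (.node (.leaf 7197) (.leaf 6125))) (.node (.node (.leaf 7812) (.leaf 6236)) (.node (.leaf 8090) (.leaf 13180))))) (.node (.node (.node (.node (.leaf 10778) (.leaf 7739)) (.node (.leaf 6573) (.leaf 6154))) (.node (.node (.leaf 1693) (.leaf 10164)) (.node (.leaf 7521) (.leaf 6058)))) (.node (.node (.node (.leaf 1135) (.leaf 7223)) (.node (.leaf 15478) (.leaf 13610))) (.node (.node (.leaf 6995) (.leaf 15877)) (.node (.leaf 10990) (.leaf 15603)))))) (.node (.node (.node (.node (.node (.leaf 329) (.leaf 11600)) (.node (.leaf 7966) (.leaf 6168))) (.node (.node (.leaf 1548) (.leaf 13343)) (.node (.leaf 3123) (.leaf 16262)))) (.node (.node (.node (.leaf 994) (.leaf 16184)) (.node (.leaf 15921) (.leaf 12047))) (.node (.node (.leaf 8254) (.leaf 3903)) (.node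 (.leaf 8721) (.leaf 12789))))) (.node (.node (.node (.node (.leaf 7378) (.leaf 3694)) (.node (.leaf 6562) (.leaf 9941))) (.node (.node (.leaf 6895) (.leaf 8261)) (.node (.leaf 10228) (.leaf 13560)))) (.node (.node (.node (.leaf 6713) (.leaf 16370)) (.node (.leaf 2912) (.leaf 7738))) (.node (.node (.leaf 10302) (.leaf 13082)) (.node (.leaf 6408) (.leaf 8658)))))))

def twoRank159 : Janko.Tree (ℕ) :=
  (.node (.node (.node (.node (.node (.node (.leaf 130) (.leaf 13434)) (.node (.leaf 2408) (.leaf 3994))) (.node (.node (.leaf 1409) (.leaf 3793)) (.node (.leaf 3015) (.leaf 14019)))) (.node (.node (.node (.leaf 840) (.leaf 13964)) (.node (.leaf 2697) (.leaf 15761))) (.node (.node (.leaf 1965) (.leaf 9216)) (.node (.leaf 3360) (.leaf 13286))))) (.node (.node (.node (.node (.leaf 500) (.leaf 11825)) (.node (.leaf 2553) (.leaf 14814))) (.node (.node (.leaf 7333) (.leaf 10162)) (.node (.leaf 10860) (.leaf 14417)))) (.node (.node (.node (.leaf 7961) (.leaf 16136)) (.node (.leaf 2794) (.leaf 11471))) (.node (.node (.leaf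 2205) (.leaf 13819)) (.node (.leaf 10641) (.leaf 11794)))))) (.node (.node (.node (.node (.node (.leaf 330) (.leaf 3623)) (.node (.leaf 2480) (.leaf 8965))) (.node (.node (.leaf 8873) (.leaf 12886)) (.node (.leaf 3124) (.leaf 13896)))) (.node (.node (.node (.leaf 7097) (.leaf 15757)) (.node (.leaf 13986) (.leaf 11904))) (.node (.node (.leaf 10827) (.leaf 13371)) (.node (.leaf 3420) (.leaf 16353))))) (.node (.node (.node (.node (.leaf 676) (.leaf 8671)) (.node (.leaf 10278) (.leaf 6834))) (.node (.node (.leaf 9192) (.leaf 13023)) (.node (.leaf 15310) (.leaf 12929)))) (.node (.node (.node (.leaf 1273) (.leaf 11996)) (.node (.leaf 2913) (.leaf 7740))) (.node (.node (.leaf 16150) (.leaf 10976)) (.node (.leaf 3523) (.leaf 8379)))))))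

def twoRank160 : Janko.Tree (ℕ) :=
  (.node (.node (.node (.node (.node (.node (.leaf 131) (.leaf 11866)) (.node (.leaf 4722) (.leaf 4304))) (.node (.node (.leaf 1410) (.leaf 9709)) (.node (.leaf 8437) (.leaf 11715)))) (.node (.node (.node (.leaf 4879) (.leaf 16005)) (.node (.leaf 11110) (.leaf 16227))) (.node (.node (.leaf 1966) (.leaf 4352)) (.node (.leaf 3361) (.leaf 10267))))) (.node (.node (.node (.node (.leaf 501) (.leaf 7701)) (.node (.leaf 14052) (.leaf 13111))) (.node (.node (.leaf 4798) (.leaf 4384)) (.node (.leaf 8781) (.leaf 13670)))) (.node (.node (.node (.leaf 7352) (.leaf 7227)) (.node (.leaf 14768) (.leaf 16429))) (.node (.node (.leaf 9098) (.leaf 7394)) (.node (.leaf 9157) (.leaf 12186)))))) (.node (.node (.node (.node (.node (.leaf 331) (.leaf 3624)) (.node (.leaf 2481) (.leaf 15760))) (.node (.node (.leaf 7086) (.leaf 10148)) (.node (.leaf 3125) (.leaf 13569)))) (.node (.node (.node (.leaf 4864) (.leaf 15726)) (.node (.leaf 11633) (.leaf 4243))) (.node (.node (.leaf 2082) (.leaf 4337)) (.node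 (.leaf 9689) (.leaf 8476))))) (.node (.node (.node (.node (.leaf 7373) (.leaf 4469)) (.node (.leaf 2636) (.leaf 14914))) (.node (.node (.leaf 1830) (.leaf 4367)) (.node (.leaf 15956) (.leaf 4156)))) (.node (.node (.node (.leaf 1274) (.leaf 12939)) (.node (.leaf 2914) (.leaf 13723))) (.node (.node (.leaf 2303) (.leaf 12702)) (.node (.leaf 9511) (.leaf 4099)))))))

def twoRank161 : Janko.Tree (ℕ) :=
  (.node (.node (.node (.node (.node (.node (.leaf 132) (.leaf 5464)) (.node (.leaf 2409) (.leaf 12964))) (.node (.node (.leaf 7928) (.leaf 15517)) (.node (.leaf 3016) (.leaf 11272)))) (.node (.node (.node (.leaf 841) (.leaf 16122)) (.node (.leaf 5649) (.leaf 15165))) (.node (.node (.leaf 5787) (.leaf 11038)) (.node (.leaf 11304) (.leaf 13091))))) (.node (.node (.node (.node (.leaf 502) (.leaf 7735)) (.node (.leaf 2554) (.leaf 5169))) (.node (.node (.leaf 1694) (.leaf 6914)) (.node (.leaf 8204) (.leaf 12734)))) (.node (.node (.node (.leaf 1136) (.leaf 12521)) (.node (.leaf 9115) (.leaf 16225))) (.node (.node (.leaf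 5752) (.leaf 7778)) (.node (.leaf 10649) (.leaf 12323)))))) (.node (.node (.node (.node (.node (.leaf 5965) (.leaf 3625)) (.node (.leaf 7943) (.leaf 8152))) (.node (.node (.leaf 1549) (.leaf 5315)) (.node (.leaf 8358) (.leaf 5052)))) (.node (.node (.node (.leaf 995) (.leaf 5382)) (.node (.leaf 13990) (.leaf 11775))) (.node (.node (.leaf 5769) (.leaf 3904)) (.node (.leaf 3421) (.leaf 15675))))) (.node (.node (.node (.node (.leaf 677) (.leaf 13632)) (.node (.leaf 8571) (.leaf 5153))) (.node (.node (.leaf 5804) (.leaf 9601)) (.node (.leaf 3273) (.leaf 14090)))) (.node (.node (.node (.leaf 1275) (.leaf 12386)) (.node (.leaf 5606) (.leaf 13396))) (.node (.node (.leaf 5734) (.leaf 5220)) (.node (.leaf 10454) (.leaf 7577)))))))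

def twoRank162 : Janko.Tree (ℕ) :=
  (.node (.node (.node (.node (.node (.node (.leaf 133) (.leaf 14870)) (.node (.leaf 6990) (.leaf 12975))) (.node (.node (.leaf 6700) (.leaf 9721)) (.node (.leaf 6496) (.leaf 11713)))) (.node (.node (.node (.leaf 7022) (.leaf 16007)) (.node (.leaf 13784) (.leaf 16229))) (.node (.node (.leaf 1967) (.leaf 7530)) (.node (.leaf 3362) (.leaf 13215))))) (.node (.node (.node (.node (.leaf 6781) (.leaf 6370)) (.node (.leaf 15626) (.leaf 7438))) (.node (.node (.leaf 7361) (.leaf 16069)) (.node (.leaf 8825) (.leaf 15224)))) (.node (.node (.node (.leaf 6724) (.leaf 6312)) (.node (.leaf 2795) (.leaf 6105))) (.node (.node (.leaf 2206) (.leaf 6211)) (.node (.leaf 6421) (.leaf 11076)))))) (.node (.node (.node (.node (.node (.leaf 332) (.leaf 3626)) (.node (.leaf 6587) (.leaf 8150))) (.node (.node (.leaf 6687) (.leaf 9982)) (.node (.leaf 6484) (.leaf 14726)))) (.node (.node (.node (.leaf 7931) (.leaf 3745)) (.node (.leaf 6535) (.leaf 13254))) (.node (.node (.leaf 7372) (.leaf 13710)) (.node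 (.leaf 9773) (.leaf 8478))))) (.node (.node (.node (.node (.leaf 6766) (.leaf 16025)) (.node (.leaf 2637) (.leaf 14832))) (.node (.node (.leaf 11398) (.leaf 16337)) (.node (.leaf 6459) (.leaf 8182)))) (.node (.node (.node (.leaf 10135) (.leaf 11665)) (.node (.leaf 8113) (.leaf 6092))) (.node (.node (.leaf 2304) (.leaf 9989)) (.node (.leaf 8981) (.leaf 12622)))))))

def twoRank163 : Janko.Tree (ℕ) :=
  (.node (.node (.node (.node (.node (.node (.leaf 7124) (.leaf 3569)) (.node (.leaf 2410) (.leaf 14631))) (.node (.node (.leaf 6940) (.leaf 7673)) (.node (.leaf 3017) (.leaf 11274)))) (.node (.node (.node (.leaf 842) (.leaf 13779)) (.node (.leaf 14930) (.leaf 13609))) (.node (.node (.leaf 1968) (.leaf 9389)) (.node (.leaf 3363) (.leaf 12968))))) (.node (.node (.node (.node (.leaf 503) (.leaf 11740)) (.node (.leaf 7144) (.leaf 14609))) (.node (.node (.leaf 1695) (.leaf 16074)) (.node (.leaf 8202) (.leaf 9261)))) (.node (.node (.node (.leaf 1137) (.leaf 12771)) (.node (.leaf 9113) (.leaf 16223))) (.node (.node (.leaf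 2207) (.leaf 3939)) (.node (.leaf 9111) (.leaf 11056)))))) (.node (.node (.node (.node (.node (.leaf 333) (.leaf 12951)) (.node (.leaf 2482) (.leaf 8148))) (.node (.node (.leaf 1550) (.leaf 10366)) (.node (.leaf 3126) (.leaf 15562)))) (.node (.node (.node (.leaf 996) (.leaf 3746)) (.node (.leaf 14142) (.leaf 9964))) (.node (.node (.leaf 2083) (.leaf 3905)) (.node (.leaf 6850) (.leaf 9652))))) (.node (.node (.node (.node (.leaf 678) (.leaf 14234)) (.node (.leaf 12237) (.leaf 13539))) (.node (.node (.leaf 1831) (.leaf 10109)) (.node (.leaf 15312) (.leaf 9400)))) (.node (.node (.node (.leaf 8564) (.leaf 15347)) (.node (.leaf 2915) (.leaf 16113))) (.node (.node (.leaf 2305) (.leaf 8595)) (.node (.leaf 7748) (.leaf 10947)))))))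

def twoRank164 : Janko.Tree (ℕ) :=
  (.node (.node (.node (.node (.node (.node (.leaf 4937) (.leaf 12255)) (.node (.leaf 14105) (.leaf 4303))) (.node (.node (.leaf 1411) (.leaf 4409)) (.node (.leaf 14413) (.leaf 4198)))) (.node (.node (.node (.leaf 8788) (.leaf 4458)) (.node (.leaf 9411) (.leaf 10219))) (.node (.node (.leaf 12840) (.leaf 7635)) (.node (.leaf 8941) (.leaf 16347))))) (.node (.node (.node (.node (.leaf 504) (.leaf 10600)) (.node (.leaf 4695) (.leaf 4278))) (.node (.node (.leaf 1696) (.leaf 12191)) (.node (.leaf 4588) (.leaf 4169)))) (.node (.node (.node (.leaf 1138) (.leaf 13467)) (.node (.leaf 2796) (.leaf 15838))) (.node (.node (.leaf 2208) (.leaf 8359)) (.node (.leaf 16158) (.leaf 12573)))))) (.node (.node (.node (.node (.node (.leaf 7447) (.leaf 4491)) (.node (.leaf 4709) (.leaf 10857))) (.node (.node (.leaf 7386) (.leaf 14576)) (.node (.leaf 9064) (.leaf 12759)))) (.node (.node (.node (.leaf 997) (.leaf 15724)) (.node (.leaf 14928) (.leaf 4242))) (.node (.node (.leaf 2084) (.leaf 11835)) (.node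 (.leaf 14042) (.leaf 9410))))) (.node (.node (.node (.node (.leaf 679) (.leaf 15103)) (.node (.leaf 7487) (.leaf 13388))) (.node (.node (.leaf 15556) (.leaf 14923)) (.node (.leaf 3274) (.leaf 4155)))) (.node (.node (.node (.leaf 1276) (.leaf 16109)) (.node (.leaf 2916) (.leaf 12895))) (.node (.node (.leaf 16142) (.leaf 12660)) (.node (.leaf 3524) (.leaf 13556)))))))

def twoRank165 : Janko.Tree (ℕ) :=
  (.node (.node (.node (.node (.node (.node (.leaf 134) (.leaf 12259)) (.node (.leaf 9442) (.leaf 3995))) (.node (.node (.leaf 11166) (.leaf 15430)) (.node (.leaf 9392) (.leaf 13734)))) (.node (.node (.node (.leaf 5919) (.leaf 3720)) (.node (.leaf 11565) (.leaf 10023))) (.node (.node (.leaf 1969) (.leaf 3853)) (.node (.leaf 10690) (.leaf 15380))))) (.node (.node (.node (.node (.leaf 505) (.leaf 5432)) (.node (.leaf 11293) (.leaf 15204))) (.node (.node (.leaf 5822) (.leaf 15250)) (.node (.leaf 3202) (.leaf 8659)))) (.node (.node (.node (.leaf 1139) (.leaf 13857)) (.node (.leaf 5625) (.leaf 15836))) (.node (.node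 (.leaf 8908) (.leaf 5235)) (.node (.leaf 3474) (.leaf 12791)))))) (.node (.node (.node (.node (.node (.leaf 334) (.leaf 8060)) (.node (.leaf 2483) (.leaf 9289))) (.node (.node (.leaf 1551) (.leaf 14561)) (.node (.leaf 3127) (.leaf 12801)))) (.node (.node (.node (.leaf 7910) (.leaf 15042)) (.node (.leaf 5636) (.leaf 9972))) (.node (.node (.leaf 2085) (.leaf 5251)) (.node (.leaf 5504) (.leaf 4987))))) (.node (.node (.node (.node (.leaf 680) (.leaf 15105)) (.node (.leaf 2638) (.leaf 4047))) (.node (.node (.leaf 8778) (.leaf 9566)) (.node (.leaf 7644) (.leaf 7638)))) (.node (.node (.node (.leaf 5870) (.leaf 5351)) (.node (.leaf 2917) (.leaf 12230))) (.node (.node (.leaf 2306) (.leaf 3967)) (.node (.leaf 9518) (.leaf 9917)))))))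

def twoRank166 : Janko.Tree (ℕ) :=
  (.node (.node (.node (.node (.node (.node (.leaf 135) (.leaf 12257)) (.node (.leaf 2411) (.leaf 14989))) (.node (.node (.leaf 1412) (.leaf 15991)) (.node (.leaf 3018) (.leaf 13741)))) (.node (.node (.node (.leaf 843) (.leaf 16250)) (.node (.leaf 6549) (.leaf 15789))) (.node (.node (.leaf 6648) (.leaf 9218)) (.node (.leaf 10473) (.leaf 16090))))) (.node (.node (.node (.node (.leaf 506) (.leaf 11417)) (.node (.leaf 11624) (.leaf 15679))) (.node (.node (.leaf 1697) (.leaf 6265)) (.node (.leaf 7515) (.leaf 8796)))) (.node (.node (.node (.leaf 1140) (.leaf 14102)) (.node (.leaf 16458) (.leaf 6104))) (.node (.node (.leaf 6887) (.leaf 8462)) (.node (.leaf 15198) (.leaf 11683)))))) (.node (.node (.node (.node (.node (.leaf 6796) (.leaf 3627)) (.node (.leaf 7951) (.leaf 6167))) (.node (.node (.leaf 6686) (.leaf 16110)) (.node (.leaf 3128) (.leaf 6068)))) (.node (.node (.node (.leaf 6736) (.leaf 6877)) (.node (.leaf 2746) (.leaf 7174))) (.node (.node (.leaf 6636) (.leaf 16255)) (.node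 (.leaf 14338) (.leaf 9399))))) (.node (.node (.node (.node (.leaf 681) (.leaf 6355)) (.node (.leaf 6561) (.leaf 13731))) (.node (.node (.leaf 16019) (.leaf 11826)) (.node (.leaf 7548) (.leaf 13465)))) (.node (.node (.node (.leaf 1277) (.leaf 13942)) (.node (.leaf 6509) (.leaf 11211))) (.node (.node (.leaf 6612) (.leaf 6195)) (.node (.leaf 12351) (.leaf 5994)))))))

def twoRank167 : Janko.Tree (ℕ) :=
  (.node (.node (.node (.node (.node (.node (.leaf 136) (.leaf 3570)) (.node (.leaf 7172) (.leaf 11704))) (.node (.node (.leaf 1413) (.leaf 9734)) (.node (.leaf 11559) (.leaf 11984)))) (.node (.node (.node (.leaf 844) (.leaf 14592)) (.node (.leaf 2698) (.leaf 8335))) (.node (.node (.leaf 9771) (.leaf 10488)) (.node (.leaf 3364) (.leaf 10262))))) (.node (.node (.node (.node (.leaf 507) (.leaf 15397)) (.node (.leaf 2555) (.leaf 15591))) (.node (.node (.leaf 10457) (.leaf 15808)) (.node (.leaf 3203) (.leaf 9669)))) (.node (.node (.node (.leaf 1141) (.leaf 13855)) (.node (.leaf 9427) (.leaf 15746))) (.node (.node (.leaf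 6885) (.leaf 15573)) (.node (.leaf 12222) (.leaf 6823)))))) (.node (.node (.node (.node (.node (.leaf 335) (.leaf 12532)) (.node (.leaf 2484) (.leaf 11040))) (.node (.node (.leaf 1552) (.leaf 14563)) (.node (.leaf 7632) (.leaf 13282)))) (.node (.node (.node (.leaf 6946) (.leaf 15044)) (.node (.leaf 15166) (.leaf 10108))) (.node (.node (.leaf 2086) (.leaf 11833)) (.node (.leaf 12219) (.leaf 9407))))) (.node (.node (.node (.node (.leaf 682) (.leaf 15155)) (.node (.leaf 2639) (.leaf 11645))) (.node (.node (.leaf 1832) (.leaf 8267)) (.node (.leaf 14283) (.leaf 11886)))) (.node (.node (.node (.leaf 1278) (.leaf 14208)) (.node (.leaf 2918) (.leaf 4081))) (.node (.node (.leaf 16146) (.leaf 10247)) (.node (.leaf 8918) (.leaf 9697)))))))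

def twoRank168 : Janko.Tree (ℕ) :=
  (.node (.node (.node (.node (.node (.node (.leaf 137) (.leaf 3571)) (.node (.leaf 4721) (.leaf 16189))) (.node (.node (.leaf 1414) (.leaf 14955)) (.node (.leaf 4614) (.leaf 12623)))) (.node (.node (.node (.leaf 845) (.leaf 10218)) (.node (.leaf 14141) (.leaf 4255))) (.node (.node (.leaf 11011) (.leaf 4351)) (.node (.leaf 3365) (.leaf 8768))))) (.node (.node (.node (.node (.leaf 4908) (.leaf 15261)) (.node (.leaf 15136) (.leaf 9272))) (.node (.node (.leaf 7363) (.leaf 13284)) (.node (.leaf 16450) (.leaf 16341)))) (.node (.node (.node (.leaf 4852) (.leaf 4431)) (.node (.leaf 16339) (.leaf 9731))) (.node (.node (.leaf 4746) (.leaf 13888)) (.node (.leaf 11469) (.leaf 13590)))))) (.node (.node (.node (.node (.node (.leaf 336) (.leaf 4490)) (.node (.leaf 8197) (.leaf 4291))) (.node (.node (.leaf 1553) (.leaf 13297)) (.node (.leaf 4600) (.leaf 15100)))) (.node (.node (.node (.leaf 998) (.leaf 8563)) (.node (.leaf 15168) (.leaf 10128))) (.node (.node (.leaf 15488) (.leaf 3906)) (.node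 (.leaf 11687) (.leaf 4125))))) (.node (.node (.node (.node (.leaf 7431) (.leaf 12392)) (.node (.leaf 2640) (.leaf 4048))) (.node (.node (.leaf 4786) (.leaf 14919)) (.node (.leaf 13726) (.leaf 15030)))) (.node (.node (.node (.leaf 13153) (.leaf 15817)) (.node (.leaf 2919) (.leaf 8421))) (.node (.node (.leaf 10520) (.leaf 7307)) (.node (.leaf 4519) (.leaf 13211)))))))

def twoRank169 : Janko.Tree (ℕ) :=
  (.node (.node (.node (.node (.node (.node (.leaf 138) (.leaf 5463)) (.node (.leaf 10587) (.leaf 5199))) (.node (.node (.leaf 5853) (.leaf 14953)) (.node (.leaf 11137) (.leaf 5067)))) (.node (.node (.node (.leaf 846) (.leaf 3721)) (.node (.leaf 14710) (.leaf 11394))) (.node (.node (.leaf 5786) (.leaf 11651)) (.node (.leaf 8349) (.leaf 9462))))) (.node (.node (.node (.node (.leaf 508) (.leaf 13787)) (.node (.leaf 2556) (.leaf 5168))) (.node (.node (.leaf 1698) (.leaf 5292)) (.node (.leaf 3204) (.leaf 16356)))) (.node (.node (.node (.leaf 7117) (.leaf 12082)) (.node (.leaf 9124) (.leaf 15744))) (.node (.node (.leaf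 8014) (.leaf 8614)) (.node (.leaf 5491) (.leaf 12534)))))) (.node (.node (.node (.node (.node (.leaf 337) (.leaf 16049)) (.node (.leaf 5697) (.leaf 16239))) (.node (.node (.leaf 1554) (.leaf 10309)) (.node (.leaf 7257) (.leaf 14003)))) (.node (.node (.node (.leaf 999) (.leaf 5381)) (.node (.leaf 15172) (.leaf 5116))) (.node (.node (.leaf 2087) (.leaf 14402)) (.node (.leaf 5503) (.leaf 15580))))) (.node (.node (.node (.node (.leaf 5935) (.leaf 5415)) (.node (.leaf 2641) (.leaf 5152))) (.node (.node (.leaf 8322) (.leaf 5280)) (.node (.leaf 9525) (.leaf 5019)))) (.node (.node (.node (.leaf 1279) (.leaf 15303)) (.node (.leaf 2920) (.leaf 4082))) (.node (.node (.leaf 5733) (.leaf 12838)) (.node (.leaf 12122) (.leaf 4953)))))))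

def twoRank170 : Janko.Tree (ℕ) :=
  (.node (.node (.node (.node (.node (.node (.leaf 6811) (.leaf 11345)) (.node (.leaf 10836) (.leaf 15099))) (.node (.node (.leaf 1415) (.leaf 14958)) (.node (.leaf 7529) (.leaf 12625)))) (.node (.node (.node (.leaf 6896) (.leaf 6341)) (.node (.leaf 10049) (.leaf 13097))) (.node (.node (.leaf 11014) (.leaf 12593)) (.node (.leaf 3366) (.leaf 14149))))) (.node (.node (.node (.node (.leaf 509) (.leaf 3668)) (.node (.leaf 15545) (.leaf 13049))) (.node (.node (.leaf 6672) (.leaf 10143)) (.node (.leaf 14129) (.leaf 6057)))) (.node (.node (.node (.leaf 1142) (.leaf 7225)) (.node (.leaf 2797) (.leaf 7585))) (.node (.node (.leaf 7068) (.leaf 14951)) (.node (.leaf 11972) (.leaf 11717)))))) (.node (.node (.node (.node (.node (.leaf 338) (.leaf 16153)) (.node (.leaf 9338) (.leaf 8468))) (.node (.node (.leaf 1555) (.leaf 10307)) (.node (.leaf 11930) (.leaf 6067)))) (.node (.node (.node (.leaf 1000) (.leaf 11793)) (.node (.leaf 2747) (.leaf 9932))) (.node (.node (.leaf 13630) (.leaf 6224))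 (.node (.leaf 10969) (.leaf 16077))))) (.node (.node (.node (.node (.leaf 7427) (.leaf 16116)) (.node (.leaf 2642) (.leaf 15855))) (.node (.node (.leaf 8782) (.leaf 15524)) (.node (.leaf 12835) (.leaf 10478)))) (.node (.node (.node (.leaf 6712) (.leaf 15819)) (.node (.leaf 2921) (.leaf 6091))) (.node (.node (.leaf 11126) (.leaf 6194)) (.node (.leaf 3525) (.leaf 13213)))))))

def twoRank171 : Janko.Tree (ℕ) :=
  (.node (.node (.node (.node (.node (.node (.leaf 139) (.leaf 14071)) (.node (.leaf 9163) (.leaf 14382))) (.node (.node (.leaf 8812) (.leaf 9753)) (.node (.leaf 3019) (.leaf 12953)))) (.node (.node (.node (.leaf 6894) (.leaf 14326)) (.node (.leaf 7181) (.leaf 11909))) (.node (.node (.leaf 1970) (.leaf 9593)) (.node (.leaf 9063) (.leaf 9249))))) (.node (.node (.node (.node (.leaf 510) (.leaf 8168)) (.node (.leaf 8445) (.leaf 13771))) (.node (.node (.leaf 1699) (.leaf 13123)) (.node (.leaf 7504) (.leaf 16343)))) (.node (.node (.node (.leaf 1143) (.leaf 13605)) (.node (.leaf 13770) (.leaf 15128))) (.node (.node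 (.leaf 2209) (.leaf 6939)) (.node (.leaf 3475) (.leaf 15857)))))) (.node (.node (.node (.node (.node (.leaf 7103) (.leaf 15051)) (.node (.leaf 15592) (.leaf 9121))) (.node (.node (.leaf 1556) (.leaf 15497)) (.node (.leaf 14941) (.leaf 11405)))) (.node (.node (.node (.leaf 7615) (.leaf 12358)) (.node (.leaf 2748) (.leaf 9962))) (.node (.node (.leaf 2088) (.leaf 14408)) (.node (.leaf 3422) (.leaf 11790))))) (.node (.node (.node (.node (.leaf 683) (.leaf 3695)) (.node (.leaf 11217) (.leaf 13826))) (.node (.node (.leaf 1833) (.leaf 11340)) (.node (.leaf 10833) (.leaf 11239)))) (.node (.node (.node (.leaf 10170) (.leaf 6945)) (.node (.leaf 13417) (.leaf 12171))) (.node (.node (.leaf 2307) (.leaf 3968)) (.node (.leaf 13681) (.leaf 11067)))))))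

def twoRank172 : Janko.Tree (ℕ) :=
  (.node (.node (.node (.node (.node (.node (.leaf 140) (.leaf 3572)) (.node (.leaf 11232) (.leaf 3996))) (.node (.node (.leaf 12612) (.leaf 14970)) (.node (.leaf 3020) (.leaf 12947)))) (.node (.node (.node (.leaf 4878) (.leaf 3722)) (.node (.leaf 4666) (.leaf 4061))) (.node (.node (.leaf 1971) (.leaf 10021)) (.node (.leaf 4560) (.leaf 4142))))) (.node (.node (.node (.node (.leaf 511) (.leaf 12265)) (.node (.leaf 2557) (.leaf 8923))) (.node (.node (.leaf 11362) (.leaf 13959)) (.node (.leaf 10332) (.leaf 15346)))) (.node (.node (.node (.leaf 1144) (.leaf 9478)) (.node (.leaf 2798) (.leaf 14422))) (.node (.node (.leaf 7286) (.leaf 13070)) (.node (.leaf 3476) (.leaf 15339)))))) (.node (.node (.node (.node (.node (.leaf 4922) (.leaf 13435)) (.node (.leaf 2485) (.leaf 9398))) (.node (.node (.leaf 7382) (.leaf 4396)) (.node (.leaf 7634) (.leaf 4180)))) (.node (.node (.node (.leaf 4863) (.leaf 10191)) (.node (.leaf 4652) (.leaf 9955))) (.node (.node (.leaf 4760) (.leaf 12278)) (.node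 (.leaf 10207) (.leaf 16328))))) (.node (.node (.node (.node (.leaf 7163) (.leaf 4468)) (.node (.leaf 14479) (.leaf 4266))) (.node (.node (.leaf 1834) (.leaf 9879)) (.node (.leaf 8289) (.leaf 10913)))) (.node (.node (.node (.leaf 13678) (.leaf 7676)) (.node (.leaf 4627) (.leaf 4212))) (.node (.node (.leaf 10279) (.leaf 10236)) (.node (.leaf 13265) (.leaf 12846)))))))

def twoRank173 : Janko.Tree (ℕ) :=
  (.node (.node (.node (.node (.node (.node (.leaf 141) (.leaf 3573)) (.node (.leaf 7954) (.leaf 15214))) (.node (.node (.leaf 1416) (.leaf 5330)) (.node (.leaf 3021) (.leaf 12719)))) (.node (.node (.node (.leaf 847) (.leaf 5395)) (.node (.leaf 11549) (.leaf 8329))) (.node (.node (.leaf 1972) (.leaf 5268)) (.node (.leaf 8086) (.leaf 11661))))) (.node (.node (.node (.node (.leaf 5949) (.leaf 11163)) (.node (.leaf 5683) (.leaf 4031))) (.node (.node (.leaf 1700) (.leaf 5291)) (.node (.leaf 5552) (.leaf 13809)))) (.node (.node (.node (.leaf 5887) (.leaf 5365)) (.node (.leaf 8188) (.leaf 16398))) (.node (.node (.leaf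 5751) (.leaf 13789)) (.node (.leaf 16134) (.leaf 14276)))))) (.node (.node (.node (.node (.node (.leaf 7289) (.leaf 8302)) (.node (.leaf 11550) (.leaf 15745))) (.node (.node (.leaf 5837) (.leaf 10153)) (.node (.leaf 3129) (.leaf 14997)))) (.node (.node (.node (.leaf 1001) (.leaf 10091)) (.node (.leaf 12420) (.leaf 11101))) (.node (.node (.leaf 2089) (.leaf 5250)) (.node (.leaf 3423) (.leaf 4986))))) (.node (.node (.node (.node (.leaf 684) (.leaf 14238)) (.node (.leaf 5668) (.leaf 14614))) (.node (.node (.leaf 1835) (.leaf 9877)) (.node (.leaf 7760) (.leaf 10919)))) (.node (.node (.node (.leaf 1280) (.leaf 8989)) (.node (.leaf 2922) (.leaf 11105))) (.node (.node (.leaf 2308) (.leaf 3969)) (.node (.leaf 5476) (.leaf 12779)))))))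

def twoRank174 : Janko.Tree (ℕ) :=
  (.node (.node (.node (.node (.node (.node (.leaf 142) (.leaf 6395)) (.node (.leaf 6598) (.leaf 15406))) (.node (.node (.leaf 6699) (.leaf 16163)) (.node (.leaf 3022) (.leaf 6080)))) (.node (.node (.node (.leaf 7002) (.leaf 15563)) (.node (.leaf 11560) (.leaf 6124))) (.node (.node (.leaf 1973) (.leaf 3854)) (.node (.leaf 8496) (.leaf 15567))))) (.node (.node (.node (.node (.leaf 7953) (.leaf 7705)) (.node (.leaf 2558) (.leaf 13816))) (.node (.node (.leaf 7376) (.leaf 14177)) (.node (.leaf 7278) (.leaf 6056)))) (.node (.node (.node (.leaf 1145) (.leaf 12361)) (.node (.leaf 2799) (.leaf 16402))) (.node (.node (.leaf 8016) (.leaf 13366)) (.node (.leaf 3477) (.leaf 6009)))))) (.node (.node (.node (.node (.node (.leaf 339) (.leaf 8304)) (.node (.leaf 2486) (.leaf 6166))) (.node (.node (.leaf 1557) (.leaf 16309)) (.node (.leaf 6483) (.leaf 15939)))) (.node (.node (.node (.leaf 7520) (.leaf 10097)) (.node (.leaf 7194) (.leaf 9957))) (.node (.node (.leaf 2090) (.leaf 9204)) (.node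 (.leaf 13389) (.leaf 16092))))) (.node (.node (.node (.node (.leaf 7164) (.leaf 15794)) (.node (.leaf 14303) (.leaf 11628))) (.node (.node (.leaf 1836) (.leaf 10397)) (.node (.leaf 6458) (.leaf 10917)))) (.node (.node (.node (.leaf 15895) (.leaf 6298)) (.node (.leaf 2923) (.leaf 7671))) (.node (.node (.leaf 10286) (.leaf 14481)) (.node (.leaf 3526) (.leaf 5993)))))))

def twoRank175 : Janko.Tree (ℕ) :=
  (.node (.node (.node (.node (.node (.node (.leaf 143) (.leaf 12575)) (.node (.leaf 6929) (.leaf 3997))) (.node (.node (.leaf 1417) (.leaf 13889)) (.node (.leaf 8431) (.leaf 11749)))) (.node (.node (.node (.leaf 848) (.leaf 14162)) (.node (.leaf 2699) (.leaf 12670))) (.node (.node (.leaf 10696) (.leaf 8323)) (.node (.leaf 3367) (.leaf 15107))))) (.node (.node (.node (.node (.leaf 512) (.leaf 7397)) (.node (.leaf 10994) (.leaf 8750))) (.node (.node (.leaf 1701) (.leaf 13007)) (.node (.leaf 3205) (.leaf 15342)))) (.node (.node (.node (.leaf 10585) (.leaf 14265)) (.node (.leaf 8971) (.leaf 8717))) (.node (.node (.leaf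 7999) (.leaf 9443)) (.node (.leaf 8517) (.leaf 14091)))))) (.node (.node (.node (.node (.node (.leaf 340) (.leaf 13981)) (.node (.leaf 6952) (.leaf 8584))) (.node (.node (.leaf 1558) (.leaf 7967)) (.node (.leaf 3130) (.leaf 11407)))) (.node (.node (.node (.leaf 1002) (.leaf 8555)) (.node (.leaf 12150) (.leaf 9934))) (.node (.node (.leaf 2091) (.leaf 3907)) (.node (.leaf 11005) (.leaf 13199))))) (.node (.node (.node (.node (.leaf 7156) (.leaf 15196)) (.node (.leaf 14298) (.leaf 14647))) (.node (.node (.leaf 1837) (.leaf 15783)) (.node (.leaf 3275) (.leaf 10915)))) (.node (.node (.node (.leaf 1281) (.leaf 11896)) (.node (.leaf 2924) (.leaf 12782))) (.node (.node (.leaf 7168) (.leaf 8669)) (.node (.leaf 3527) (.leaf 12776)))))))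

def twoRank176 : Janko.Tree (ℕ) :=
  (.node (.node (.node (.node (.node (.node (.leaf 4936) (.leaf 14715)) (.node (.leaf 2412) (.leaf 15468))) (.node (.node (.leaf 8925) (.leaf 15336)) (.node (.leaf 4613) (.leaf 7299)))) (.node (.node (.node (.leaf 849) (.leaf 14164)) (.node (.leaf 11551) (.leaf 13011))) (.node (.node (.leaf 4772) (.leaf 12595)) (.node (.leaf 11332) (.leaf 10671))))) (.node (.node (.node (.node (.leaf 513) (.leaf 13840)) (.node (.leaf 2559) (.leaf 8044))) (.node (.node (.leaf 7519) (.leaf 12687)) (.node (.leaf 3206) (.leaf 4168)))) (.node (.node (.node (.leaf 1146) (.leaf 10243)) (.node (.leaf 2800) (.leaf 12162))) (.node (.node (.leaf 2210) (.leaf 13342)) (.node (.leaf 4531) (.leaf 13945)))))) (.node (.node (.node (.node (.node (.leaf 7383) (.leaf 7994)) (.node (.leaf 4708) (.leaf 4017))) (.node (.node (.leaf 1559) (.leaf 14207)) (.node (.leaf 11969) (.leaf 8482)))) (.node (.node (.node (.leaf 1003) (.leaf 11832)) (.node (.leaf 8583) (.leaf 4241))) (.node (.node (.leaf 2092) (.leaf 7409)) (.node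 (.leaf 3424) (.leaf 13765))))) (.node (.node (.node (.node (.leaf 4892) (.leaf 15306)) (.node (.leaf 14896) (.leaf 11627))) (.node (.node (.leaf 4785) (.leaf 11853)) (.node (.leaf 7857) (.leaf 12229)))) (.node (.node (.node (.leaf 4837) (.leaf 15511)) (.node (.leaf 7881) (.leaf 11888))) (.node (.node (.leaf 4732) (.leaf 16237)) (.node (.leaf 12343) (.leaf 11018)))))))

def twoRank177 : Janko.Tree (ℕ) :=
  (.node (.node (.node (.node (.node (.node (.leaf 144) (.leaf 3574)) (.node (.leaf 11313) (.leaf 15117))) (.node (.node (.leaf 1418) (.leaf 14678)) (.node (.leaf 10777) (.leaf 11278)))) (.node (.node (.node (.leaf 5918) (.leaf 14729)) (.node (.leaf 12428) (.leaf 13548))) (.node (.node (.leaf 10317) (.leaf 8325)) (.node (.leaf 5522) (.leaf 9255))))) (.node (.node (.node (.node (.leaf 514) (.leaf 5431)) (.node (.leaf 2560) (.leaf 14649))) (.node (.node (.leaf 1702) (.leaf 10063)) (.node (.leaf 3207) (.leaf 8582)))) (.node (.node (.node (.leaf 1147) (.leaf 14843)) (.node (.leaf 5624) (.leaf 9562))) (.node (.node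 (.leaf 2211) (.leaf 5234)) (.node (.leaf 3478) (.leaf 14903)))))) (.node (.node (.node (.node (.node (.leaf 341) (.leaf 5448)) (.node (.leaf 8876) (.leaf 5186))) (.node (.node (.leaf 1560) (.leaf 5314)) (.node (.leaf 3131) (.leaf 15252)))) (.node (.node (.node (.leaf 5905) (.leaf 16446)) (.node (.leaf 5635) (.leaf 8688))) (.node (.node (.leaf 2093) (.leaf 8111)) (.node (.leaf 5502) (.leaf 13767))))) (.node (.node (.node (.node (.leaf 685) (.leaf 13635)) (.node (.leaf 2643) (.leaf 14589))) (.node (.node (.leaf 1838) (.leaf 13922)) (.node (.leaf 8106) (.leaf 9528)))) (.node (.node (.node (.leaf 1282) (.leaf 13911)) (.node (.leaf 5605) (.leaf 10764))) (.node (.node (.leaf 13680) (.leaf 5219)) (.node (.leaf 12567) (.leaf 12300)))))))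

def twoRank178 : Janko.Tree (ℕ) :=
  (.node (.node (.node (.node (.node (.node (.leaf 145) (.leaf 15247)) (.node (.leaf 2413) (.leaf 3998))) (.node (.node (.leaf 1419) (.leaf 6282)) (.node (.leaf 11231) (.leaf 6079)))) (.node (.node (.node (.leaf 850) (.leaf 3723)) (.node (.leaf 6548) (.leaf 13013))) (.node (.node (.leaf 10741) (.leaf 6235)) (.node (.leaf 9068) (.leaf 12353))))) (.node (.node (.node (.node (.leaf 515) (.leaf 7457)) (.node (.leaf 2561) (.leaf 6153))) (.node (.node (.leaf 7517) (.leaf 13174)) (.node (.leaf 3208) (.leaf 12133)))) (.node (.node (.node (.leaf 6723) (.leaf 10245)) (.node (.leaf 13031) (.leaf 13357))) (.node (.node (.leaf 8303) (.leaf 7983)) (.node (.leaf 9905) (.leaf 13943)))))) (.node (.node (.node (.node (.node (.leaf 6795) (.leaf 11346)) (.node (.leaf 8886) (.leaf 8184))) (.node (.node (.leaf 1561) (.leaf 15628)) (.node (.leaf 10138) (.leaf 8484)))) (.node (.node (.node (.leaf 1004) (.leaf 6327)) (.node (.leaf 12669) (.leaf 6966))) (.node (.node (.leaf 6635) (.leaf 6223)) (.node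 (.leaf 14756) (.leaf 13998))))) (.node (.node (.node (.node (.leaf 7145) (.leaf 6354)) (.node (.leaf 6560) (.leaf 6140))) (.node (.node (.leaf 7019) (.leaf 6250)) (.node (.leaf 7855) (.leaf 7664)))) (.node (.node (.node (.leaf 1283) (.leaf 12330)) (.node (.leaf 7887) (.leaf 14333))) (.node (.node (.leaf 2309) (.leaf 13567)) (.node (.leaf 6407) (.leaf 5992)))))))

def twoRank179 : Janko.Tree (ℕ) :=
  (.node (.node (.node (.node (.node (.node (.leaf 146) (.leaf 13580)) (.node (.leaf 2414) (.leaf 6968))) (.node (.node (.leaf 1420) (.leaf 13566)) (.node (.leaf 11390) (.leaf 12704)))) (.node (.node (.node (.leaf 851) (.leaf 9438)) (.node (.leaf 2700) (.leaf 8400))) (.node (.node (.leaf 1974) (.leaf 11631)) (.node (.leaf 9065) (.leaf 12395))))) (.node (.node (.node (.node (.leaf 516) (.leaf 10527)) (.node (.leaf 2562) (.leaf 12472))) (.node (.node (.leaf 7433) (.leaf 10061)) (.node (.leaf 12733) (.leaf 8590)))) (.node (.node (.node (.leaf 1148) (.leaf 12767)) (.node (.leaf 2801) (.leaf 6831))) (.node (.node (.leaf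 11197) (.leaf 7982)) (.node (.leaf 13277) (.leaf 14783)))))) (.node (.node (.node (.node (.node (.leaf 342) (.leaf 13662)) (.node (.leaf 2487) (.leaf 9327))) (.node (.node (.leaf 7914) (.leaf 9433)) (.node (.leaf 8627) (.leaf 10146)))) (.node (.node (.node (.leaf 1005) (.leaf 14432)) (.node (.leaf 2749) (.leaf 14324))) (.node (.node (.leaf 2094) (.leaf 3908)) (.node (.leaf 3425) (.leaf 14251))))) (.node (.node (.node (.node (.leaf 15879) (.leaf 14848)) (.node (.leaf 2644) (.leaf 4049))) (.node (.node (.leaf 1839) (.leaf 14325)) (.node (.leaf 3276) (.leaf 7040)))) (.node (.node (.node (.leaf 16108) (.leaf 8987)) (.node (.leaf 2925) (.leaf 8419))) (.node (.node (.leaf 14045) (.leaf 14777)) (.node (.leaf 3528) (.leaf 13118)))))))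

def twoRank180 : Janko.Tree (ℕ) :=
  (.node (.node (.node (.node (.node (.node (.leaf 147) (.leaf 4505)) (.node (.leaf 2415) (.leaf 4302))) (.node (.node (.leaf 10357) (.leaf 14148)) (.node (.leaf 10911) (.leaf 7327)))) (.node (.node (.node (.leaf 852) (.leaf 4457)) (.node (.leaf 12324) (.leaf 13314))) (.node (.node (.leaf 7582) (.leaf 3855)) (.node (.leaf 8504) (.leaf 15091))))) (.node (.node (.node (.node (.leaf 4907) (.leaf 4479)) (.node (.leaf 4694) (.leaf 4277))) (.node (.node (.leaf 7683) (.leaf 13310)) (.node (.leaf 8025) (.leaf 8570)))) (.node (.node (.node (.leaf 1149) (.leaf 12455)) (.node (.leaf 9692) (.leaf 4229))) (.node (.node (.leaf 2212) (.leaf 3940)) (.node (.leaf 10896) (.leaf 12992)))))) (.node (.node (.node (.node (.node (.leaf 343) (.leaf 16372)) (.node (.leaf 15723) (.leaf 15376))) (.node (.node (.leaf 4811) (.leaf 4395)) (.node (.leaf 7308) (.leaf 13325)))) (.node (.node (.node (.leaf 12404) (.leaf 4445)) (.node (.leaf 11767) (.leaf 12817))) (.node (.node (.leaf 2095) (.leaf 3909)) (.node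 (.leaf 8098) (.leaf 4124))))) (.node (.node (.node (.node (.leaf 686) (.leaf 12768)) (.node (.leaf 4679) (.leaf 4265))) (.node (.node (.leaf 8341) (.leaf 4366)) (.node (.leaf 3277) (.leaf 13249)))) (.node (.node (.node (.leaf 1284) (.leaf 12441)) (.node (.leaf 2926) (.leaf 13878))) (.node (.node (.leaf 12121) (.leaf 4312)) (.node (.leaf 3529) (.leaf 15421)))))))

def twoRank181 : Janko.Tree (ℕ) :=
  (.node (.node (.node (.node (.node (.node (.leaf 5979) (.leaf 3575)) (.node (.leaf 5716) (.leaf 8765))) (.node (.node (.leaf 5852) (.leaf 9915)) (.node (.leaf 5588) (.leaf 5066)))) (.node (.node (.node (.leaf 853) (.leaf 13012)) (.node (.leaf 2701) (.leaf 11507))) (.node (.node (.leaf 5785) (.leaf 8180)) (.node (.leaf 10452) (.leaf 12216))))) (.node (.node (.node (.node (.leaf 517) (.leaf 12651)) (.node (.leaf 14365) (.leaf 11967))) (.node (.node (.leaf 5821) (.leaf 10810)) (.node (.leaf 5551) (.leaf 9424)))) (.node (.node (.node (.leaf 8062) (.leaf 5364)) (.node (.leaf 9306) (.leaf 9714))) (.node (.node (.leaf 10659)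 (.leaf 14165)) (.node (.leaf 5490) (.leaf 4970)))))) (.node (.node (.node (.node (.node (.leaf 344) (.leaf 14242)) (.node (.leaf 2488) (.leaf 11784))) (.node (.node (.leaf 1562) (.leaf 14059)) (.node (.leaf 5572) (.leaf 9621)))) (.node (.node (.node (.leaf 1006) (.leaf 13270)) (.node (.leaf 8560) (.leaf 12226))) (.node (.node (.leaf 11187) (.leaf 10110)) (.node (.leaf 8096) (.leaf 15747))))) (.node (.node (.node (.node (.leaf 5934) (.leaf 13851)) (.node (.leaf 15357) (.leaf 12074))) (.node (.node (.leaf 5803) (.leaf 14213)) (.node (.leaf 10705) (.leaf 14362)))) (.node (.node (.node (.leaf 1285) (.leaf 5350)) (.node (.leaf 2927) (.leaf 5085))) (.node (.node (.leaf 2310) (.leaf 14670)) (.node (.leaf 9228) (.leaf 4952)))))))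

def twoRank182 : Janko.Tree (ℕ) :=
  (.node (.node (.node (.node (.node (.node (.leaf 148) (.leaf 13588)) (.node (.leaf 2416) (.leaf 7836))) (.node (.node (.leaf 8253) (.leaf 15089)) (.node (.leaf 10835) (.leaf 12592)))) (.node (.node (.node (.leaf 6751) (.leaf 16021)) (.node (.leaf 11574) (.leaf 14689))) (.node (.node (.leaf 1975) (.leaf 16461)) (.node (.leaf 6446) (.leaf 16102))))) (.node (.node (.node (.node (.leaf 8779) (.leaf 7473)) (.node (.leaf 2563) (.leaf 8043))) (.node (.node (.leaf 7681) (.leaf 13491)) (.node (.leaf 8049) (.leaf 10277)))) (.node (.node (.node (.leaf 7375) (.leaf 13005)) (.node (.leaf 9656) (.leaf 9740))) (.node (.node (.leaf 2213) (.leaf 6210)) (.node (.leaf 12014) (.leaf 8862)))))) (.node (.node (.node (.node (.node (.leaf 345) (.leaf 9892)) (.node (.leaf 2489) (.leaf 15483))) (.node (.node (.leaf 1563) (.leaf 15536)) (.node (.leaf 7786) (.leaf 13226)))) (.node (.node (.node (.leaf 1007) (.leaf 13648)) (.node (.leaf 6534) (.leaf 6116))) (.node (.node (.leaf 10514) (.leaf 3910)) (.node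 (.leaf 8100) (.leaf 9617))))) (.node (.node (.node (.node (.leaf 687) (.leaf 9618)) (.node (.leaf 11656) (.leaf 11577))) (.node (.node (.leaf 8849) (.leaf 11746)) (.node (.leaf 6854) (.leaf 16407)))) (.node (.node (.node (.leaf 6711) (.leaf 13124)) (.node (.leaf 2928) (.leaf 11800))) (.node (.node (.leaf 6611) (.leaf 13912)) (.node (.leaf 9075) (.leaf 15417)))))))

def twoRank183 : Janko.Tree (ℕ) :=
  (.node (.node (.node (.node (.node (.node (.leaf 149) (.leaf 13485)) (.node (.leaf 8839) (.leaf 8763))) (.node (.node (.leaf 1421) (.leaf 14158)) (.node (.leaf 10386) (.leaf 14118)))) (.node (.node (.node (.leaf 854) (.leaf 3724)) (.node (.leaf 9417) (.leaf 8594))) (.node (.node (.leaf 1976) (.leaf 10839)) (.node (.leaf 3368) (.leaf 11725))))) (.node (.node (.node (.node (.leaf 518) (.leaf 12382)) (.node (.leaf 14015) (.leaf 13285))) (.node (.node (.leaf 1703) (.leaf 11809)) (.node (.leaf 3209) (.leaf 8574)))) (.node (.node (.node (.leaf 1150) (.leaf 10895)) (.node (.leaf 9302) (.leaf 15066))) (.node (.node (.leaf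 8155) (.leaf 15801)) (.node (.leaf 11479) (.leaf 14515)))))) (.node (.node (.node (.node (.node (.leaf 346) (.leaf 7503)) (.node (.leaf 9523) (.leaf 15711))) (.node (.node (.leaf 1564) (.leaf 15454)) (.node (.leaf 16054) (.leaf 14884)))) (.node (.node (.node (.leaf 1008) (.leaf 11411)) (.node (.leaf 2750) (.leaf 15889))) (.node (.node (.leaf 10512) (.leaf 12209)) (.node (.leaf 11012) (.leaf 9613))))) (.node (.node (.node (.node (.leaf 688) (.leaf 3696)) (.node (.leaf 2645) (.leaf 12552))) (.node (.node (.leaf 8357) (.leaf 15034)) (.node (.leaf 6852) (.leaf 11991)))) (.node (.node (.node (.leaf 14289) (.leaf 11491)) (.node (.leaf 2929) (.leaf 12107))) (.node (.node (.leaf 2311) (.leaf 15579)) (.node (.leaf 12149) (.leaf 15829)))))))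

def twoRank184 : Janko.Tree (ℕ) :=
  (.node (.node (.node (.node (.node (.node (.leaf 150) (.leaf 7354)) (.node (.leaf 13596) (.leaf 13381))) (.node (.node (.leaf 1422) (.leaf 4408)) (.node (.leaf 3023) (.leaf 10190)))) (.node (.node (.node (.leaf 855) (.leaf 11081)) (.node (.leaf 15408) (.leaf 4254))) (.node (.node (.leaf 1977) (.leaf 4350)) (.node (.leaf 3369) (.leaf 13492))))) (.node (.node (.node (.node (.leaf 10568) (.leaf 11426)) (.node (.leaf 9715) (.leaf 15570))) (.node (.node (.leaf 1704) (.leaf 4383)) (.node (.leaf 15880) (.leaf 11141)))) (.node (.node (.node (.leaf 1151) (.leaf 12883)) (.node (.leaf 14103) (.leaf 9758))) (.node (.node (.leaf 4745) (.leaf 8770)) (.node (.leaf 15499) (.leaf 12316)))))) (.node (.node (.node (.node (.node (.leaf 4921) (.leaf 12871)) (.node (.leaf 4707) (.leaf 4290))) (.node (.node (.leaf 1565) (.leaf 15780)) (.node (.leaf 11614) (.leaf 4179)))) (.node (.node (.node (.leaf 1009) (.leaf 13514)) (.node (.leaf 2751) (.leaf 13581))) (.node (.node (.leaf 4759) (.leaf 3911))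 (.node (.leaf 14310) (.leaf 8467))))) (.node (.node (.node (.node (.leaf 7153) (.leaf 4467)) (.node (.leaf 10893) (.leaf 4050))) (.node (.node (.leaf 1840) (.leaf 10057)) (.node (.leaf 4574) (.leaf 7985)))) (.node (.node (.node (.leaf 9351) (.leaf 9010)) (.node (.leaf 4626) (.leaf 12530))) (.node (.node (.leaf 12034) (.leaf 15079)) (.node (.leaf 14818) (.leaf 8724)))))))

def twoRank185 : Janko.Tree (ℕ) :=
  (.node (.node (.node (.node (.node (.node (.leaf 151) (.leaf 5462)) (.node (.leaf 2417) (.leaf 9515))) (.node (.node (.leaf 8271) (.leaf 14145)) (.node (.leaf 5587) (.leaf 10192)))) (.node (.node (.node (.leaf 5917) (.leaf 5394)) (.node (.leaf 2702) (.leaf 8099))) (.node (.node (.leaf 1978) (.leaf 7078)) (.node (.leaf 8331) (.leaf 5000))))) (.node (.node (.node (.node (.leaf 5948) (.leaf 5430)) (.node (.leaf 5682) (.leaf 15520))) (.node (.node (.leaf 5820) (.leaf 9054)) (.node (.leaf 15619) (.leaf 10271)))) (.node (.node (.node (.leaf 5886) (.leaf 9346)) (.node (.leaf 5623) (.leaf 9727))) (.node (.node (.leaf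 2214) (.leaf 10914)) (.node (.leaf 3479) (.leaf 4969)))))) (.node (.node (.node (.node (.node (.leaf 6930) (.leaf 3628)) (.node (.leaf 2490) (.leaf 11756))) (.node (.node (.leaf 5836) (.leaf 5313)) (.node (.leaf 5571) (.leaf 10096)))) (.node (.node (.node (.leaf 5904) (.leaf 13585)) (.node (.leaf 8081) (.leaf 8085))) (.node (.node (.leaf 2096) (.leaf 3912)) (.node (.leaf 14312) (.leaf 4985))))) (.node (.node (.node (.node (.leaf 689) (.leaf 3697)) (.node (.leaf 14871) (.leaf 5151))) (.node (.node (.leaf 1841) (.leaf 13829)) (.node (.leaf 7875) (.leaf 11205)))) (.node (.node (.node (.leaf 1286) (.leaf 15565)) (.node (.leaf 7874) (.leaf 5084))) (.node (.node (.leaf 2312) (.leaf 13884)) (.node (.leaf 9672) (.leaf 15826)))))))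

def twoRank186 : Janko.Tree (ℕ) :=
  (.node (.node (.node (.node (.node (.node (.leaf 6810) (.leaf 8002)) (.node (.leaf 6597) (.leaf 12341))) (.node (.node (.leaf 1423) (.leaf 15185)) (.node (.leaf 9418) (.leaf 12536)))) (.node (.node (.node (.leaf 856) (.leaf 14830)) (.node (.leaf 7191) (.leaf 8459))) (.node (.node (.leaf 1979) (.leaf 3856)) (.node (.leaf 3370) (.leaf 7987))))) (.node (.node (.node (.node (.leaf 519) (.leaf 9079)) (.node (.leaf 2564) (.leaf 15572))) (.node (.node (.leaf 7450) (.leaf 9046)) (.node (.leaf 3210) (.leaf 6055)))) (.node (.node (.node (.leaf 1152) (.leaf 12589)) (.node (.leaf 14636) (.leaf 13640))) (.node (.node (.leaf 7699) (.leaf 8774)) (.node (.leaf 14092) (.leaf 12243)))))) (.node (.node (.node (.node (.node (.leaf 347) (.leaf 6381)) (.node (.leaf 7226) (.leaf 8473))) (.node (.node (.leaf 7898) (.leaf 14924)) (.node (.leaf 3132) (.leaf 10092)))) (.node (.node (.node (.leaf 1010) (.leaf 6326)) (.node (.leaf 14596) (.leaf 6115))) (.node (.node (.leaf 2097) (.leaf 15644)) (.node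 (.leaf 15781) (.leaf 9122))))) (.node (.node (.node (.node (.leaf 6765) (.leaf 6985)) (.node (.leaf 6559) (.leaf 12070))) (.node (.node (.leaf 6893) (.leaf 6249)) (.node (.leaf 7646) (.leaf 11223)))) (.node (.node (.node (.leaf 9357) (.leaf 9012)) (.node (.leaf 8976) (.leaf 12179))) (.node (.node (.leaf 9650) (.leaf 6193)) (.node (.leaf 14820) (.leaf 8705)))))))

def twoRank187 : Janko.Tree (ℕ) :=
  (.node (.node (.node (.node (.node (.node (.leaf 152) (.leaf 3576)) (.node (.leaf 10250) (.leaf 7838))) (.node (.node (.leaf 1424) (.leaf 13963)) (.node (.leaf 3024) (.leaf 7055)))) (.node (.node (.node (.leaf 857) (.leaf 14964)) (.node (.leaf 7196) (.leaf 8677))) (.node (.node (.leaf 1980) (.leaf 10894)) (.node (.leaf 8343) (.leaf 11404))))) (.node (.node (.node (.node (.leaf 10382) (.leaf 14410)) (.node (.leaf 9038) (.leaf 7710))) (.node (.node (.leaf 1705) (.leaf 12549)) (.node (.leaf 7507) (.leaf 10269)))) (.node (.node (.node (.leaf 1153) (.leaf 9335)) (.node (.leaf 9344) (.leaf 15278))) (.node (.node (.leaf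 16107) (.leaf 7979)) (.node (.leaf 7571) (.leaf 9093)))))) (.node (.node (.node (.node (.node (.leaf 348) (.leaf 15302)) (.node (.leaf 14122) (.leaf 9529))) (.node (.node (.leaf 8854) (.leaf 11778)) (.node (.leaf 3133) (.leaf 10094)))) (.node (.node (.node (.leaf 1011) (.leaf 11406)) (.node (.leaf 7493) (.leaf 6911))) (.node (.node (.leaf 2098) (.leaf 9185)) (.node (.leaf 7062) (.leaf 10785))))) (.node (.node (.node (.node (.leaf 690) (.leaf 3698)) (.node (.leaf 15581) (.leaf 9460))) (.node (.node (.leaf 6891) (.leaf 15002)) (.node (.leaf 3278) (.leaf 11221)))) (.node (.node (.node (.leaf 1287) (.leaf 13208)) (.node (.leaf 2930) (.leaf 13092))) (.node (.node (.leaf 9301) (.leaf 15716)) (.node (.leaf 3530) (.leaf 11058)))))))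

def twoRank188 : Janko.Tree (ℕ) :=
  (.node (.node (.node (.node (.node (.node (.leaf 153) (.leaf 11587)) (.node (.leaf 8934) (.leaf 11937))) (.node (.node (.leaf 7930) (.leaf 3794)) (.node (.leaf 9654) (.leaf 11286)))) (.node (.node (.node (.leaf 7222) (.leaf 9572)) (.node (.leaf 4665) (.leaf 4253))) (.node (.node (.leaf 4771) (.leaf 15743)) (.node (.leaf 10418) (.leaf 13749))))) (.node (.node (.node (.node (.leaf 8803) (.leaf 3669)) (.node (.leaf 2565) (.leaf 7239))) (.node (.node (.leaf 4797) (.leaf 16195)) (.node (.leaf 10940) (.leaf 4167)))) (.node (.node (.node (.leaf 7366) (.leaf 10048)) (.node (.leaf 4638) (.leaf 4228))) (.node (.node (.leaf 16406) (.leaf 7707)) (.node (.leaf 4530) (.leaf 13134)))))) (.node (.node (.node (.node (.node (.leaf 349) (.leaf 11265)) (.node (.leaf 2491) (.leaf 8479))) (.node (.node (.leaf 1566) (.leaf 15180)) (.node (.leaf 10074) (.leaf 4086)))) (.node (.node (.node (.leaf 11781) (.leaf 10651)) (.node (.leaf 4651) (.leaf 4240))) (.node (.node (.leaf 10516) (.leaf 4336)) (.node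 (.leaf 4546) (.leaf 13256))))) (.node (.node (.node (.node (.leaf 7221) (.leaf 4466)) (.node (.leaf 2646) (.leaf 11030))) (.node (.node (.leaf 4784) (.leaf 4365)) (.node (.leaf 13260) (.leaf 14487)))) (.node (.node (.node (.leaf 1288) (.leaf 9001)) (.node (.leaf 2931) (.leaf 9849))) (.node (.node (.leaf 11480) (.leaf 12125)) (.node (.leaf 3531) (.leaf 9922)))))))

def twoRank189 : Janko.Tree (ℕ) :=
  (.node (.node (.node (.node (.node (.node (.leaf 154) (.leaf 11710)) (.node (.leaf 10471) (.leaf 12577))) (.node (.node (.leaf 5851) (.leaf 15229)) (.node (.leaf 3025) (.leaf 8990)))) (.node (.node (.node (.leaf 858) (.leaf 11129)) (.node (.leaf 2703) (.leaf 12175))) (.node (.node (.leaf 1981) (.leaf 5267)) (.node (.leaf 5521) (.leaf 14934))))) (.node (.node (.node (.node (.leaf 520) (.leaf 15286)) (.node (.leaf 2566) (.leaf 11580))) (.node (.node (.leaf 1706) (.leaf 5290)) (.node (.leaf 5550) (.leaf 10032)))) (.node (.node (.node (.leaf 1154) (.leaf 14123)) (.node (.leaf 2802) (.leaf 14829))) (.node (.node (.leaf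 5750) (.leaf 12689)) (.node (.leaf 11455) (.leaf 13027)))))) (.node (.node (.node (.node (.node (.leaf 5964) (.leaf 11267)) (.node (.leaf 5696) (.leaf 7988))) (.node (.node (.leaf 7971) (.leaf 13782)) (.node (.leaf 3134) (.leaf 10811)))) (.node (.node (.node (.leaf 1012) (.leaf 8219)) (.node (.leaf 12043) (.leaf 14750))) (.node (.node (.leaf 5768) (.leaf 13197)) (.node (.leaf 10821) (.leaf 12672))))) (.node (.node (.node (.node (.leaf 5933) (.leaf 7772)) (.node (.leaf 2647) (.leaf 9910))) (.node (.node (.leaf 1842) (.leaf 7892)) (.node (.leaf 5537) (.leaf 9527)))) (.node (.node (.node (.leaf 5869) (.leaf 5349)) (.node (.leaf 8313) (.leaf 10629))) (.node (.node (.leaf 5732) (.leaf 3970)) (.node (.leaf 14409) (.leaf 16261)))))))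

def twoRank190 : Janko.Tree (ℕ) :=
  (.node (.node (.node (.node (.node (.node (.leaf 155) (.leaf 3577)) (.node (.leaf 10684) (.leaf 9468))) (.node (.node (.leaf 7968) (.leaf 14947)) (.node (.leaf 9680) (.leaf 6078)))) (.node (.node (.node (.leaf 6750) (.leaf 6340)) (.node (.leaf 7190) (.leaf 15398))) (.node (.node (.leaf 14986) (.leaf 11116)) (.node (.leaf 7803) (.leaf 16154))))) (.node (.node (.node (.node (.leaf 6780) (.leaf 15290)) (.node (.leaf 6572) (.leaf 6152))) (.node (.node (.leaf 7511) (.leaf 15768)) (.node (.leaf 3211) (.leaf 10006)))) (.node (.node (.node (.leaf 6722) (.leaf 6311)) (.node (.leaf 2803) (.leaf 14963))) (.node (.node (.leaf 2215) (.leaf 6209)) (.node (.leaf 9766) (.leaf 6008)))))) (.node (.node (.node (.node (.node (.leaf 350) (.leaf 11263)) (.node (.leaf 12519) (.leaf 6165))) (.node (.node (.leaf 6685) (.leaf 13773)) (.node (.leaf 6482) (.leaf 6066)))) (.node (.node (.node (.leaf 6735) (.leaf 10668)) (.node (.leaf 13988) (.leaf 7179))) (.node (.node (.leaf 2099) (.leaf 13139)) (.node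 (.leaf 11073) (.leaf 6018))))) (.node (.node (.node (.node (.leaf 7556) (.leaf 8674)) (.node (.leaf 2648) (.leaf 6139))) (.node (.node (.leaf 6999) (.leaf 16243)) (.node (.leaf 3279) (.leaf 7220)))) (.node (.node (.node (.leaf 1289) (.leaf 9009)) (.node (.leaf 2932) (.leaf 9847))) (.node (.node (.leaf 2313) (.leaf 8729)) (.node (.leaf 15597) (.leaf 5991)))))))

def twoRank191 : Janko.Tree (ℕ) :=
  (.node (.node (.node (.node (.node (.node (.leaf 156) (.leaf 10504)) (.node (.leaf 2418) (.leaf 12325))) (.node (.node (.leaf 1425) (.leaf 9747)) (.node (.leaf 7533) (.leaf 11894)))) (.node (.node (.node (.leaf 859) (.leaf 3725)) (.node (.leaf 13484) (.leaf 9821))) (.node (.node (.leaf 14792) (.leaf 10593)) (.node (.leaf 3371) (.leaf 13745))))) (.node (.node (.node (.node (.leaf 521) (.leaf 13536)) (.node (.leaf 15396) (.leaf 13257))) (.node (.node (.leaf 1707) (.leaf 13701)) (.node (.leaf 10526) (.leaf 14757)))) (.node (.node (.node (.leaf 1155) (.leaf 14660)) (.node (.leaf 12118) (.leaf 14779))) (.node (.node (.leaf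 10598) (.leaf 12691)) (.node (.leaf 3480) (.leaf 4094)))))) (.node (.node (.node (.node (.node (.leaf 351) (.leaf 9559)) (.node (.leaf 8900) (.leaf 14675))) (.node (.node (.leaf 1567) (.leaf 15774)) (.node (.leaf 10072) (.leaf 10426)))) (.node (.node (.node (.leaf 1013) (.leaf 11230)) (.node (.leaf 2752) (.leaf 15124))) (.node (.node (.leaf 2100) (.leaf 14776)) (.node (.leaf 15480) (.leaf 12761))))) (.node (.node (.node (.node (.leaf 691) (.leaf 8679)) (.node (.leaf 14511) (.leaf 9807))) (.node (.node (.leaf 1843) (.leaf 9290)) (.node (.leaf 3280) (.leaf 6826)))) (.node (.node (.node (.leaf 14693) (.leaf 13279)) (.node (.leaf 2933) (.leaf 8992))) (.node (.node (.leaf 2314) (.leaf 15093)) (.node (.leaf 3532) (.leaf 15035)))))))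

def twoRank192 : Janko.Tree (ℕ) :=
  (.node (.node (.node (.node (.node (.node (.leaf 157) (.leaf 4504)) (.node (.leaf 10385) (.leaf 13334))) (.node (.node (.leaf 1426) (.leaf 14427)) (.node (.leaf 10843) (.leaf 10194)))) (.node (.node (.node (.leaf 860) (.leaf 12826)) (.node (.leaf 2704) (.leaf 14217))) (.node (.node (.leaf 15992) (.leaf 3857)) (.node (.leaf 14513) (.leaf 4141))))) (.node (.node (.node (.node (.leaf 522) (.leaf 8074)) (.node (.leaf 12681) (.leaf 14352))) (.node (.node (.leaf 7509) (.leaf 11818)) (.node (.leaf 10509) (.leaf 9996)))) (.node (.node (.node (.leaf 14906) (.leaf 12119)) (.node (.leaf 10474) (.leaf 15419))) (.node (.node (.leaf 7703) (.leaf 15662)) (.node (.leaf 9837) (.leaf 12314)))))) (.node (.node (.node (.node (.node (.leaf 352) (.leaf 12692)) (.node (.leaf 7224) (.leaf 4289))) (.node (.node (.leaf 7924) (.leaf 13713)) (.node (.leaf 10742) (.leaf 14025)))) (.node (.node (.node (.leaf 12139) (.leaf 4444)) (.node (.leaf 16288) (.leaf 15242))) (.node (.node (.leaf 14786) (.leaf 15094))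 (.node (.leaf 11177) (.leaf 4123))))) (.node (.node (.node (.node (.leaf 7553) (.leaf 8713)) (.node (.leaf 4678) (.leaf 13462))) (.node (.node (.leaf 1844) (.leaf 3815)) (.node (.leaf 10131) (.leaf 7232)))) (.node (.node (.node (.leaf 15452) (.leaf 9810)) (.node (.leaf 2934) (.leaf 16306))) (.node (.node (.leaf 9775) (.leaf 16066)) (.node (.leaf 4518) (.leaf 12512)))))))

def twoRank193 : Janko.Tree (ℕ) :=
  (.node (.node (.node (.node (.node (.node (.leaf 5978) (.leaf 11198)) (.node (.leaf 5715) (.leaf 11657))) (.node (.node (.leaf 1427) (.leaf 5329)) (.node (.leaf 3026) (.leaf 13170)))) (.node (.node (.node (.leaf 861) (.leaf 14842)) (.node (.leaf 5648) (.leaf 12311))) (.node (.node (.leaf 5784) (.leaf 11094)) (.node (.leaf 8947) (.leaf 15608))))) (.node (.node (.node (.node (.leaf 523) (.leaf 5429)) (.node (.leaf 11601) (.leaf 9555))) (.node (.node (.leaf 1708) (.leaf 14492)) (.node (.leaf 8236) (.leaf 13119)))) (.node (.node (.node (.leaf 1156) (.leaf 11561)) (.node (.leaf 7274) (.leaf 5095))) (.node (.node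 (.leaf 2216) (.leaf 13236)) (.node (.leaf 12238) (.leaf 13461)))))) (.node (.node (.node (.node (.node (.leaf 353) (.leaf 5447)) (.node (.leaf 2492) (.leaf 8520))) (.node (.node (.leaf 1568) (.leaf 11771)) (.node (.leaf 5570) (.leaf 15604)))) (.node (.node (.node (.leaf 1014) (.leaf 3747)) (.node (.leaf 14761) (.leaf 5115))) (.node (.node (.leaf 14927) (.leaf 5249)) (.node (.leaf 12607) (.leaf 15601))))) (.node (.node (.node (.node (.leaf 692) (.leaf 8356)) (.node (.leaf 2649) (.leaf 11443))) (.node (.node (.leaf 5802) (.leaf 7895)) (.node (.leaf 3281) (.leaf 5018)))) (.node (.node (.node (.leaf 1290) (.leaf 9027)) (.node (.leaf 5604) (.leaf 5083))) (.node (.node (.leaf 2315) (.leaf 5218)) (.node (.leaf 8960) (.leaf 12453)))))))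

def twoRank194 : Janko.Tree (ℕ) :=
  (.node (.node (.node (.node (.node (.node (.leaf 158) (.leaf 11195)) (.node (.leaf 7957) (.leaf 12349))) (.node (.node (.leaf 1428) (.leaf 13655)) (.node (.leaf 6495) (.leaf 11359)))) (.node (.node (.node (.leaf 862) (.leaf 10290)) (.node (.leaf 13363) (.leaf 4062))) (.node (.node (.leaf 1982) (.leaf 6234)) (.node (.leaf 14828) (.leaf 12550))))) (.node (.node (.node (.node (.leaf 524) (.leaf 12525)) (.node (.leaf 11618) (.leaf 13575))) (.node (.node (.leaf 6671) (.leaf 6264)) (.node (.leaf 8234) (.leaf 6054)))) (.node (.node (.node (.leaf 1157) (.leaf 11548)) (.node (.leaf 6521) (.leaf 15432))) (.node (.node (.leaf 6623) (.leaf 14106)) (.node (.leaf 6420) (.leaf 6007)))))) (.node (.node (.node (.node (.node (.leaf 6794) (.leaf 12741)) (.node (.leaf 6586) (.leaf 7820))) (.node (.node (.leaf 1569) (.leaf 13358)) (.node (.leaf 10318) (.leaf 14028)))) (.node (.node (.node (.leaf 1015) (.leaf 12510)) (.node (.leaf 15410) (.leaf 16325))) (.node (.node (.leaf 2101) (.leaf 14258))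 (.node (.leaf 6434) (.leaf 15846))))) (.node (.node (.node (.node (.leaf 6764) (.leaf 6353)) (.node (.leaf 16307) (.leaf 12488))) (.node (.node (.leaf 1845) (.leaf 6248)) (.node (.leaf 3282) (.leaf 7980)))) (.node (.node (.node (.leaf 14400) (.leaf 9641)) (.node (.leaf 12056) (.leaf 15583))) (.node (.node (.leaf 6610) (.leaf 16072)) (.node (.leaf 9078) (.leaf 12950)))))))

def twoRank195 : Janko.Tree (ℕ) :=
  (.node (.node (.node (.node (.node (.node (.leaf 159) (.leaf 3578)) (.node (.leaf 2419) (.leaf 8424))) (.node (.node (.leaf 1429) (.leaf 15387)) (.node (.leaf 3027) (.leaf 6829)))) (.node (.node (.node (.leaf 863) (.leaf 7049)) (.node (.leaf 8388) (.leaf 8069))) (.node (.node (.leaf 10899) (.leaf 10215)) (.node (.leaf 11413) (.leaf 16364))))) (.node (.node (.node (.node (.leaf 525) (.leaf 14381)) (.node (.leaf 9725) (.leaf 13269))) (.node (.node (.leaf 1709) (.leaf 15150)) (.node (.leaf 8983) (.leaf 15976)))) (.node (.node (.node (.leaf 1158) (.leaf 14256)) (.node (.leaf 2804) (.leaf 15434))) (.node (.node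 (.leaf 2217) (.leaf 13238)) (.node (.leaf 12236) (.leaf 15845)))))) (.node (.node (.node (.node (.node (.leaf 354) (.leaf 9557)) (.node (.leaf 16031) (.leaf 9673))) (.node (.node (.leaf 7614) (.leaf 3805)) (.node (.leaf 3135) (.leaf 15602)))) (.node (.node (.node (.leaf 1016) (.leaf 15522)) (.node (.leaf 9493) (.leaf 11409))) (.node (.node (.leaf 2102) (.leaf 13137)) (.node (.leaf 3426) (.leaf 13926))))) (.node (.node (.node (.node (.leaf 693) (.leaf 8538)) (.node (.leaf 11824) (.leaf 9866))) (.node (.node (.leaf 10479) (.leaf 11080)) (.node (.leaf 9211) (.leaf 7974)))) (.node (.node (.node (.leaf 1291) (.leaf 7155)) (.node (.leaf 2935) (.leaf 9026))) (.node (.node (.leaf 9786) (.leaf 16068)) (.node (.leaf 9080) (.leaf 12944)))))))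

def twoRank196 : Janko.Tree (ℕ) :=
  (.node (.node (.node (.node (.node (.node (.leaf 160) (.leaf 11998)) (.node (.leaf 2420) (.leaf 4301))) (.node (.node (.leaf 4824) (.leaf 9741)) (.node (.leaf 3028) (.leaf 13060)))) (.node (.node (.node (.leaf 4877) (.leaf 4456)) (.node (.leaf 7188) (.leaf 13824))) (.node (.node (.leaf 15996) (.leaf 10981)) (.node (.leaf 4559) (.leaf 10745))))) (.node (.node (.node (.node (.leaf 526) (.leaf 14010)) (.node (.leaf 11283) (.leaf 4276))) (.node (.node (.leaf 9499) (.leaf 9980)) (.node (.leaf 4587) (.leaf 11842)))) (.node (.node (.node (.leaf 4851) (.leaf 15294)) (.node (.leaf 2805) (.leaf 15415))) (.node (.node (.leaf 10416) (.leaf 4326)) (.node (.leaf 8458) (.leaf 13909)))))) (.node (.node (.node (.node (.node (.leaf 355) (.leaf 12405)) (.node (.leaf 10889) (.leaf 15655))) (.node (.node (.leaf 9356) (.leaf 3806)) (.node (.leaf 10538) (.leaf 15327)))) (.node (.node (.node (.leaf 1017) (.leaf 12942)) (.node (.leaf 2753) (.leaf 9722))) (.node (.node (.leaf 8264) (.leaf 15460))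 (.node (.leaf 13030) (.leaf 13875))))) (.node (.node (.node (.node (.leaf 694) (.leaf 8350)) (.node (.leaf 15355) (.leaf 9222))) (.node (.node (.leaf 1846) (.leaf 4364)) (.node (.leaf 4573) (.leaf 12130)))) (.node (.node (.node (.leaf 1292) (.leaf 14882)) (.node (.leaf 7084) (.leaf 13159))) (.node (.node (.leaf 13687) (.leaf 11979)) (.node (.leaf 3533) (.leaf 4098)))))))

def twoRank197 : Janko.Tree (ℕ) :=
  (.node (.node (.node (.node (.node (.node (.leaf 161) (.leaf 5461)) (.node (.leaf 2421) (.leaf 11368))) (.node (.node (.leaf 7923) (.leaf 12167)) (.node (.leaf 11033) (.leaf 5065)))) (.node (.node (.node (.leaf 864) (.leaf 12867)) (.node (.leaf 2705) (.leaf 5135))) (.node (.node (.leaf 1983) (.leaf 8203)) (.node (.leaf 7797) (.leaf 10625))))) (.node (.node (.node (.node (.leaf 5947) (.leaf 13830)) (.node (.leaf 5681) (.leaf 15455))) (.node (.node (.leaf 1710) (.leaf 5289)) (.node (.leaf 11295) (.leaf 15577)))) (.node (.node (.node (.leaf 1159) (.leaf 15292)) (.node (.leaf 2806) (.leaf 4076))) (.node (.node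 (.leaf 8161) (.leaf 15798)) (.node (.leaf 10401) (.leaf 12059)))))) (.node (.node (.node (.node (.node (.leaf 356) (.leaf 9535)) (.node (.leaf 5695) (.leaf 8715))) (.node (.node (.leaf 1570) (.leaf 5312)) (.node (.leaf 8959) (.leaf 13571)))) (.node (.node (.node (.leaf 5903) (.leaf 11962)) (.node (.leaf 5634) (.leaf 5114))) (.node (.node (.leaf 5767) (.leaf 13621)) (.node (.leaf 3427) (.leaf 4984))))) (.node (.node (.node (.node (.leaf 695) (.leaf 10739)) (.node (.leaf 5667) (.leaf 13077))) (.node (.node (.leaf 7118) (.leaf 9435)) (.node (.leaf 7765) (.leaf 12864)))) (.node (.node (.node (.leaf 5868) (.leaf 5348)) (.node (.leaf 2936) (.leaf 12598))) (.node (.node (.leaf 2316) (.leaf 15950)) (.node (.leaf 3534) (.leaf 14606)))))))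

def twoRank198 : Janko.Tree (ℕ) :=
  (.node (.node (.node (.node (.node (.node (.leaf 6809) (.leaf 11994)) (.node (.leaf 2422) (.leaf 9628))) (.node (.node (.leaf 9369) (.leaf 9732)) (.node (.leaf 3029) (.leaf 11666)))) (.node (.node (.node (.leaf 865) (.leaf 16283)) (.node (.leaf 6547) (.leaf 12396))) (.node (.node (.leaf 6647) (.leaf 7611)) (.node (.leaf 7001) (.leaf 10620))))) (.node (.node (.node (.node (.leaf 527) (.leaf 3670)) (.node (.leaf 11290) (.leaf 7243))) (.node (.node (.leaf 8951) (.leaf 9984)) (.node (.leaf 7678) (.leaf 6053)))) (.node (.node (.node (.leaf 1160) (.leaf 15831)) (.node (.leaf 2807) (.leaf 6103))) (.node (.node (.leaf 7661) (.leaf 15532)) (.node (.leaf 8456) (.leaf 14423)))))) (.node (.node (.node (.node (.node (.leaf 357) (.leaf 15370)) (.node (.leaf 8946) (.leaf 4018))) (.node (.node (.leaf 6684) (.leaf 3807)) (.node (.leaf 3136) (.leaf 13822)))) (.node (.node (.node (.leaf 10377) (.leaf 6325)) (.node (.leaf 13994) (.leaf 16405))) (.node (.node (.leaf 9149) (.leaf 6222)) (.node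 (.leaf 11798) (.leaf 14020))))) (.node (.node (.node (.node (.leaf 696) (.leaf 8827)) (.node (.leaf 13408) (.leaf 6138))) (.node (.node (.leaf 6660) (.leaf 12786)) (.node (.leaf 7600) (.leaf 6041)))) (.node (.node (.node (.leaf 1293) (.leaf 15298)) (.node (.leaf 6508) (.leaf 6090))) (.node (.node (.leaf 14546) (.leaf 14167)) (.node (.leaf 6406) (.leaf 8170)))))))

def twoRank199 : Janko.Tree (ℕ) :=
  (.node (.node (.node (.node (.node (.node (.leaf 162) (.leaf 13188)) (.node (.leaf 2423) (.leaf 8758))) (.node (.node (.leaf 1430) (.leaf 9589)) (.node (.leaf 9390) (.leaf 12384)))) (.node (.node (.node (.leaf 866) (.leaf 3726)) (.node (.leaf 2706) (.leaf 4063))) (.node (.node (.leaf 1984) (.leaf 10362)) (.node (.leaf 3372) (.leaf 10618))))) (.node (.node (.node (.node (.leaf 528) (.leaf 13136)) (.node (.leaf 11261) (.leaf 12802))) (.node (.node (.leaf 1711) (.leaf 8073)) (.node (.leaf 9454) (.leaf 12936)))) (.node (.node (.node (.leaf 14728) (.leaf 13772)) (.node (.leaf 10754) (.leaf 15821))) (.node (.node (.leaf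 2218) (.leaf 15537)) (.node (.leaf 12646) (.leaf 9131)))))) (.node (.node (.node (.node (.node (.leaf 358) (.leaf 3629)) (.node (.leaf 2493) (.leaf 8174))) (.node (.node (.leaf 1571) (.leaf 10372)) (.node (.leaf 10435) (.leaf 8548)))) (.node (.node (.node (.leaf 1018) (.leaf 14627)) (.node (.leaf 10043) (.leaf 14389))) (.node (.node (.leaf 2103) (.leaf 3913)) (.node (.leaf 10430) (.leaf 14034))))) (.node (.node (.node (.node (.leaf 697) (.leaf 8172)) (.node (.leaf 2650) (.leaf 13053))) (.node (.node (.leaf 1847) (.leaf 9314)) (.node (.leaf 3283) (.leaf 14270)))) (.node (.node (.node (.leaf 1294) (.leaf 14865)) (.node (.leaf 14823) (.leaf 14120))) (.node (.node (.leaf 2317) (.leaf 3971)) (.node (.leaf 8954) (.leaf 8703)))))))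

def twoRank200 : Janko.Tree (ℕ) :=
  (.node (.node (.node (.node (.node (.node (.leaf 15635) (.leaf 7458)) (.node (.leaf 4720) (.leaf 11374))) (.node (.node (.leaf 10842) (.leaf 12629)) (.node (.leaf 4612) (.leaf 9920)))) (.node (.node (.node (.leaf 867) (.leaf 12157)) (.node (.leaf 4664) (.leaf 9774))) (.node (.node (.leaf 1985) (.leaf 13173)) (.node (.leaf 3373) (.leaf 4140))))) (.node (.node (.node (.node (.leaf 7157) (.leaf 4478)) (.node (.leaf 2567) (.leaf 11288))) (.node (.node (.leaf 1712) (.leaf 13121)) (.node (.leaf 10529) (.leaf 12806)))) (.node (.node (.node (.leaf 1161) (.leaf 4430)) (.node (.leaf 10722) (.leaf 13837))) (.node (.node (.leaf 7455) (.leaf 4325)) (.node (.leaf 9913) (.leaf 4111)))))) (.node (.node (.node (.node (.node (.leaf 359) (.leaf 14193)) (.node (.leaf 13322) (.leaf 15967))) (.node (.node (.leaf 10054) (.leaf 10786)) (.node (.leaf 4599) (.leaf 8655)))) (.node (.node (.node (.leaf 1019) (.leaf 9244)) (.node (.leaf 15717) (.leaf 7733))) (.node (.node (.leaf 2104) (.leaf 3914)) (.node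 (.leaf 4545) (.leaf 12991))))) (.node (.node (.node (.node (.leaf 4891) (.leaf 15527)) (.node (.leaf 2651) (.leaf 10010))) (.node (.node (.leaf 1848) (.leaf 9358)) (.node (.leaf 14095) (.leaf 13399)))) (.node (.node (.node (.leaf 16316) (.leaf 16392)) (.node (.leaf 12620) (.leaf 12894))) (.node (.node (.leaf 4731) (.leaf 14602)) (.node (.leaf 3535) (.leaf 13920)))))))

def twoRank201 : Janko.Tree (ℕ) :=
  (.node (.node (.node (.node (.node (.node (.leaf 163) (.leaf 7359)) (.node (.leaf 7962) (.leaf 14956))) (.node (.node (.leaf 5850) (.leaf 5328)) (.node (.leaf 3030) (.leaf 9018)))) (.node (.node (.node (.leaf 868) (.leaf 12585)) (.node (.leaf 15257) (.leaf 10619))) (.node (.node (.leaf 1986) (.leaf 5266)) (.node (.leaf 5520) (.leaf 13558))))) (.node (.node (.node (.node (.leaf 529) (.leaf 10984)) (.node (.leaf 2568) (.leaf 10179))) (.node (.node (.leaf 5819) (.leaf 13110)) (.node (.leaf 3212) (.leaf 13398)))) (.node (.node (.node (.leaf 8000) (.leaf 8551)) (.node (.leaf 5622) (.leaf 13587))) (.node (.node (.leaf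 2219) (.leaf 13496)) (.node (.leaf 5489) (.leaf 9367)))))) (.node (.node (.node (.node (.node (.leaf 5963) (.leaf 5446)) (.node (.leaf 13350) (.leaf 5185))) (.node (.node (.leaf 1572) (.leaf 3808)) (.node (.leaf 10820) (.leaf 5051)))) (.node (.node (.node (.leaf 1020) (.leaf 5380)) (.node (.leaf 13954) (.leaf 5113))) (.node (.node (.leaf 10715) (.leaf 10052)) (.node (.leaf 3428) (.leaf 12667))))) (.node (.node (.node (.node (.leaf 698) (.leaf 9165)) (.node (.leaf 14883) (.leaf 10000))) (.node (.node (.leaf 5801) (.leaf 11787)) (.node (.leaf 5536) (.leaf 12807)))) (.node (.node (.node (.leaf 1295) (.leaf 14868)) (.node (.leaf 2937) (.leaf 15318))) (.node (.node (.leaf 14640) (.leaf 5217)) (.node (.leaf 10445) (.leaf 8395)))))))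

def twoRank202 : Janko.Tree (ℕ) :=
  (.node (.node (.node (.node (.node (.node (.leaf 164) (.leaf 6394)) (.node (.leaf 9333) (.leaf 6181))) (.node (.node (.leaf 8245) (.leaf 12690)) (.node (.leaf 10158) (.leaf 12659)))) (.node (.node (.node (.leaf 869) (.leaf 6339)) (.node (.leaf 12050) (.leaf 9819))) (.node (.node (.leaf 1987) (.leaf 3858)) (.node (.leaf 7795) (.leaf 13806))))) (.node (.node (.node (.node (.leaf 6779) (.leaf 15435)) (.node (.leaf 2569) (.leaf 6151))) (.node (.node (.leaf 1713) (.leaf 6263)) (.node (.leaf 6472) (.leaf 6052)))) (.node (.node (.node (.leaf 6721) (.leaf 8199)) (.node (.leaf 10466) (.leaf 13839))) (.node (.node (.leaf 7459) (.leaf 7384)) (.node (.leaf 12747) (.leaf 9287)))))) (.node (.node (.node (.node (.node (.leaf 360) (.leaf 9896)) (.node (.leaf 13246) (.leaf 14617))) (.node (.node (.leaf 1573) (.leaf 13326)) (.node (.leaf 11010) (.leaf 12083)))) (.node (.node (.node (.leaf 6734) (.leaf 12406)) (.node (.leaf 10044) (.leaf 15541))) (.node (.node (.leaf 2105) (.leaf 8307)) (.node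 (.leaf 3429) (.leaf 6017))))) (.node (.node (.node (.node (.leaf 7536) (.leaf 14874)) (.node (.leaf 14881) (.leaf 6137))) (.node (.node (.leaf 1849) (.leaf 12554)) (.node (.leaf 10892) (.leaf 10959)))) (.node (.node (.node (.leaf 6710) (.leaf 6297)) (.node (.leaf 12023) (.leaf 9034))) (.node (.node (.leaf 2318) (.leaf 15973)) (.node (.leaf 3536) (.leaf 15869)))))))

def twoRank203 : Janko.Tree (ℕ) :=
  (.node (.node (.node (.node (.node (.node (.leaf 165) (.leaf 14094)) (.node (.leaf 8568) (.leaf 9542))) (.node (.node (.leaf 10844) (.leaf 12626)) (.node (.leaf 14166) (.leaf 11336)))) (.node (.node (.node (.leaf 870) (.leaf 14364)) (.node (.leaf 14585) (.leaf 8452))) (.node (.node (.leaf 1988) (.leaf 11664)) (.node (.leaf 7777) (.leaf 12293))))) (.node (.node (.node (.node (.leaf 14181) (.leaf 8871)) (.node (.leaf 11275) (.leaf 10329))) (.node (.node (.leaf 1714) (.leaf 13107)) (.node (.leaf 3213) (.leaf 11837)))) (.node (.node (.node (.leaf 1162) (.leaf 9956)) (.node (.leaf 2808) (.leaf 14758))) (.node (.node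 (.leaf 8257) (.leaf 12745)) (.node (.leaf 3481) (.leaf 9965)))))) (.node (.node (.node (.node (.node (.leaf 361) (.leaf 14124)) (.node (.leaf 8811) (.leaf 8605))) (.node (.node (.leaf 1574) (.leaf 10784)) (.node (.leaf 3137) (.leaf 8546)))) (.node (.node (.node (.leaf 1021) (.leaf 13628)) (.node (.leaf 14824) (.leaf 14322))) (.node (.node (.leaf 7452) (.leaf 9221)) (.node (.leaf 3430) (.leaf 12183))))) (.node (.node (.node (.node (.leaf 699) (.leaf 10589)) (.node (.leaf 6953) (.leaf 13200))) (.node (.node (.leaf 1850) (.leaf 15837)) (.node (.leaf 3284) (.leaf 4088)))) (.node (.node (.node (.leaf 1296) (.leaf 11845)) (.node (.leaf 7035) (.leaf 15486))) (.node (.node (.leaf 15493) (.leaf 3972)) (.node (.leaf 7672) (.leaf 7411)))))))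

def twoRank204 : Janko.Tree (ℕ) :=
  (.node (.node (.node (.node (.node (.node (.leaf 4935) (.leaf 11486)) (.node (.leaf 10757) (.leaf 10584))) (.node (.node (.leaf 9382) (.leaf 10085)) (.node (.leaf 3031) (.leaf 14060)))) (.node (.node (.node (.leaf 4876) (.leaf 12674)) (.node (.leaf 15839) (.leaf 15240))) (.node (.node (.leaf 1989) (.leaf 7605)) (.node (.leaf 3374) (.leaf 12699))))) (.node (.node (.node (.node (.leaf 12199) (.leaf 11425)) (.node (.leaf 10237) (.leaf 13181))) (.node (.node (.leaf 9723) (.leaf 12652)) (.node (.leaf 13989) (.leaf 10870)))) (.node (.node (.node (.leaf 4850) (.leaf 14553)) (.node (.leaf 2809) (.leaf 4227))) (.node (.node (.leaf 7420) (.leaf 9240)) (.node (.leaf 10845) (.leaf 15706)))))) (.node (.node (.node (.node (.node (.leaf 362) (.leaf 11619)) (.node (.leaf 4706) (.leaf 16205))) (.node (.node (.leaf 4810) (.leaf 12480)) (.node (.leaf 7404) (.leaf 9855)))) (.node (.node (.node (.leaf 1022) (.leaf 12599)) (.node (.leaf 14679) (.leaf 16361))) (.node (.node (.leaf 2106) (.leaf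 16245)) (.node (.leaf 3431) (.leaf 14448))))) (.node (.node (.node (.node (.leaf 7336) (.leaf 4465)) (.node (.leaf 16414) (.leaf 4264))) (.node (.node (.leaf 1851) (.leaf 10683)) (.node (.leaf 14187) (.leaf 8415)))) (.node (.node (.node (.leaf 15864) (.leaf 4419)) (.node (.leaf 4625) (.leaf 14212))) (.node (.node (.leaf 11859) (.leaf 7633)) (.node (.leaf 4517) (.leaf 14002)))))))

def twoRank205 : Janko.Tree (ℕ) :=
  (.node (.node (.node (.node (.node (.node (.leaf 166) (.leaf 11484)) (.node (.leaf 5714) (.leaf 10991))) (.node (.node (.leaf 11039) (.leaf 10103)) (.node (.leaf 5586) (.leaf 5064)))) (.node (.node (.node (.leaf 871) (.leaf 11100)) (.node (.leaf 5647) (.leaf 12982))) (.node (.node (.leaf 5783) (.leaf 3859)) (.node (.leaf 5519) (.leaf 4999))))) (.node (.node (.node (.node (.leaf 530) (.leaf 3671)) (.node (.leaf 2570) (.leaf 10716))) (.node (.node (.leaf 1715) (.leaf 13147)) (.node (.leaf 13987) (.leaf 5036)))) (.node (.node (.node (.leaf 1163) (.leaf 3763)) (.node (.leaf 13004) (.leaf 15473))) (.node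 (.node (.leaf 5749) (.leaf 5233)) (.node (.leaf 10647) (.leaf 14536)))))) (.node (.node (.node (.node (.node (.leaf 363) (.leaf 5445)) (.node (.leaf 7752) (.leaf 8707))) (.node (.node (.leaf 10390) (.leaf 5311)) (.node (.leaf 5569) (.leaf 9784)))) (.node (.node (.node (.leaf 1023) (.leaf 3748)) (.node (.leaf 13833) (.leaf 14754))) (.node (.node (.leaf 5766) (.leaf 8299)) (.node (.leaf 5501) (.leaf 15495))))) (.node (.node (.node (.node (.leaf 5932) (.leaf 7946)) (.node (.leaf 16177) (.leaf 4051))) (.node (.node (.leaf 1852) (.leaf 5279)) (.node (.leaf 3285) (.leaf 4089)))) (.node (.node (.node (.leaf 1297) (.leaf 15362)) (.node (.leaf 8104) (.leaf 15870))) (.node (.node (.leaf 2319) (.leaf 14766)) (.node (.leaf 10929) (.leaf 4951)))))))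

def twoRank206 : Janko.Tree (ℕ) :=
  (.node (.node (.node (.node (.node (.node (.leaf 167) (.leaf 11482)) (.node (.leaf 8201) (.leaf 11252))) (.node (.node (.leaf 6698) (.leaf 10080)) (.node (.leaf 3032) (.leaf 16424)))) (.node (.node (.node (.leaf 872) (.leaf 11048)) (.node (.leaf 14055) (.leaf 14350))) (.node (.node (.leaf 14046) (.leaf 6233)) (.node (.leaf 7719) (.leaf 12701))))) (.node (.node (.node (.node (.leaf 531) (.leaf 6369)) (.node (.leaf 2571) (.leaf 6853))) (.node (.node (.leaf 1716) (.leaf 6262)) (.node (.leaf 13991) (.leaf 16065)))) (.node (.node (.node (.leaf 7368) (.leaf 3764)) (.node (.leaf 12416) (.leaf 15935))) (.node (.node (.leaf 7418) (.leaf 13500)) (.node (.leaf 10434) (.leaf 6006)))))) (.node (.node (.node (.node (.node (.leaf 6793) (.leaf 3630)) (.node (.leaf 2494) (.leaf 4019))) (.node (.node (.leaf 1575) (.leaf 9682)) (.node (.leaf 3138) (.leaf 9778)))) (.node (.node (.node (.leaf 1024) (.leaf 10306)) (.node (.leaf 6533) (.leaf 16363))) (.node (.node (.leaf 8097) (.leaf 8301)) (.node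 (.leaf 12073) (.leaf 6016))))) (.node (.node (.node (.node (.leaf 700) (.leaf 6988)) (.node (.leaf 15954) (.leaf 9224))) (.node (.node (.leaf 1853) (.leaf 11235)) (.node (.leaf 6457) (.leaf 6040)))) (.node (.node (.node (.leaf 14053) (.leaf 15451)) (.node (.leaf 10941) (.leaf 14485))) (.node (.node (.leaf 6609) (.leaf 6192)) (.node (.leaf 10933) (.leaf 11109)))))))

def twoRank207 : Janko.Tree (ℕ) :=
  (.node (.node (.node (.node (.node (.node (.leaf 168) (.leaf 12249)) (.node (.leaf 10523) (.leaf 8756))) (.node (.node (.leaf 1431) (.leaf 9609)) (.node (.leaf 3033) (.leaf 11738)))) (.node (.node (.node (.leaf 873) (.leaf 11098)) (.node (.leaf 9384) (.leaf 11000))) (.node (.node (.leaf 1990) (.leaf 11848)) (.node (.leaf 3375) (.leaf 12705))))) (.node (.node (.node (.node (.leaf 7159) (.leaf 13158)) (.node (.leaf 13237) (.leaf 14560))) (.node (.node (.leaf 7148) (.leaf 15211)) (.node (.leaf 11986) (.leaf 14140)))) (.node (.node (.node (.leaf 1164) (.leaf 8406)) (.node (.leaf 2810) (.leaf 15933))) (.node (.node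 (.leaf 8282) (.leaf 15893)) (.node (.leaf 8429) (.leaf 14753)))))) (.node (.node (.node (.node (.node (.leaf 364) (.leaf 14425)) (.node (.leaf 14300) (.leaf 12914))) (.node (.node (.leaf 1576) (.leaf 9396)) (.node (.leaf 3139) (.leaf 8660)))) (.node (.node (.node (.leaf 1025) (.leaf 7013)) (.node (.leaf 13832) (.leaf 8536))) (.node (.node (.leaf 10459) (.leaf 8297)) (.node (.leaf 8386) (.leaf 11669))))) (.node (.node (.node (.node (.leaf 701) (.leaf 11087)) (.node (.leaf 7485) (.leaf 13798))) (.node (.node (.leaf 1854) (.leaf 12124)) (.node (.leaf 3286) (.leaf 12075)))) (.node (.node (.node (.leaf 7158) (.leaf 12270)) (.node (.leaf 2938) (.leaf 6996))) (.node (.node (.leaf 15080) (.leaf 13352)) (.node (.leaf 3537) (.leaf 11107)))))))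

def twoRank208 : Janko.Tree (ℕ) :=
  (.node (.node (.node (.node (.node (.node (.leaf 169) (.leaf 11021)) (.node (.leaf 9325) (.leaf 8464))) (.node (.node (.leaf 1432) (.leaf 15186)) (.node (.leaf 3034) (.leaf 4197)))) (.node (.node (.node (.leaf 874) (.leaf 3727)) (.node (.leaf 10224) (.leaf 11125))) (.node (.node (.leaf 15535) (.leaf 14178)) (.node (.leaf 13409) (.leaf 12718))))) (.node (.node (.node (.node (.leaf 4906) (.leaf 15023)) (.node (.leaf 4693) (.leaf 4275))) (.node (.node (.leaf 7436) (.leaf 4382)) (.node (.leaf 15341) (.leaf 14933)))) (.node (.node (.node (.leaf 8061) (.leaf 10781)) (.node (.leaf 4637) (.leaf 4226))) (.node (.node (.leaf 2220) (.leaf 14190)) (.node (.leaf 4529) (.leaf 16427)))))) (.node (.node (.node (.node (.node (.leaf 16080) (.leaf 14476)) (.node (.leaf 14016) (.leaf 4020))) (.node (.node (.leaf 1577) (.leaf 4394)) (.node (.leaf 3140) (.leaf 4178)))) (.node (.node (.node (.leaf 4862) (.leaf 13167)) (.node (.leaf 15988) (.leaf 14201))) (.node (.node (.leaf 7212) (.leaf 4335))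 (.node (.leaf 3432) (.leaf 4122))))) (.node (.node (.node (.node (.leaf 702) (.leaf 14462)) (.node (.leaf 15612) (.leaf 12060))) (.node (.node (.leaf 4783) (.leaf 7209)) (.node (.leaf 4572) (.leaf 4154)))) (.node (.node (.node (.leaf 4836) (.leaf 4418)) (.node (.leaf 2939) (.leaf 4211))) (.node (.node (.leaf 9579) (.leaf 7403)) (.node (.leaf 8088) (.leaf 13168)))))))

def twoRank209 : Janko.Tree (ℕ) :=
  (.node (.node (.node (.node (.node (.node (.leaf 170) (.leaf 3579)) (.node (.leaf 11208) (.leaf 10448))) (.node (.node (.leaf 8374) (.leaf 9141)) (.node (.leaf 6913) (.leaf 13162)))) (.node (.node (.node (.leaf 5916) (.leaf 5393)) (.node (.leaf 15523) (.leaf 5134))) (.node (.node (.leaf 1991) (.leaf 11318)) (.node (.leaf 10555) (.leaf 12716))))) (.node (.node (.node (.node (.leaf 532) (.leaf 14012)) (.node (.leaf 13940) (.leaf 4032))) (.node (.node (.leaf 1717) (.leaf 12026)) (.node (.leaf 5549) (.leaf 5035)))) (.node (.node (.node (.leaf 5885) (.leaf 5363)) (.node (.leaf 2811) (.leaf 15134))) (.node (.node (.leaf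 5748) (.leaf 11210)) (.node (.leaf 10583) (.leaf 12912)))))) (.node (.node (.node (.node (.node (.leaf 365) (.leaf 11282)) (.node (.leaf 5694) (.leaf 5184))) (.node (.node (.leaf 7271) (.leaf 15542)) (.node (.leaf 3141) (.leaf 12656)))) (.node (.node (.node (.leaf 1026) (.leaf 10987)) (.node (.leaf 2754) (.leaf 5112))) (.node (.node (.leaf 5765) (.leaf 15816)) (.node (.leaf 3433) (.leaf 16013))))) (.node (.node (.node (.node (.leaf 703) (.leaf 5414)) (.node (.leaf 15736) (.leaf 5150))) (.node (.node (.leaf 7834) (.leaf 11237)) (.node (.leaf 11944) (.leaf 10973)))) (.node (.node (.node (.leaf 1298) (.leaf 13652)) (.node (.leaf 2940) (.leaf 11343))) (.node (.node (.leaf 2320) (.leaf 5216)) (.node (.leaf 8809) (.leaf 12888)))))))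

def twoRank210 : Janko.Tree (ℕ) :=
  (.node (.node (.node (.node (.node (.node (.leaf 6808) (.leaf 6393)) (.node (.leaf 6596) (.leaf 6180))) (.node (.node (.leaf 1433) (.leaf 14395)) (.node (.leaf 6862) (.leaf 9024)))) (.node (.node (.node (.leaf 875) (.leaf 13263)) (.node (.leaf 6546) (.leaf 10793))) (.node (.node (.leaf 15712) (.leaf 15157)) (.node (.leaf 14057) (.leaf 6029))))) (.node (.node (.node (.node (.leaf 10384) (.leaf 13708)) (.node (.leaf 2572) (.leaf 13287))) (.node (.node (.leaf 9576) (.leaf 3809)) (.node (.leaf 15065) (.leaf 10174)))) (.node (.node (.node (.leaf 1165) (.leaf 11783)) (.node (.leaf 13166) (.leaf 9708))) (.node (.node (.leaf 7467) (.leaf 14902)) (.node (.leaf 9450) (.leaf 6005)))))) (.node (.node (.node (.node (.node (.leaf 366) (.leaf 6380)) (.node (.leaf 7750) (.leaf 13394))) (.node (.node (.leaf 6683) (.leaf 15538)) (.node (.leaf 3142) (.leaf 15758)))) (.node (.node (.node (.leaf 1027) (.leaf 12872)) (.node (.leaf 2755) (.leaf 15120))) (.node (.node (.leaf 10732) (.leaf 7407))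 (.node (.leaf 6433) (.leaf 16095))))) (.node (.node (.node (.node (.leaf 704) (.leaf 7939)) (.node (.leaf 15614) (.leaf 14198))) (.node (.node (.leaf 1855) (.leaf 6247)) (.node (.leaf 3287) (.leaf 7652)))) (.node (.node (.node (.leaf 10799) (.leaf 14288)) (.node (.leaf 6507) (.leaf 10494))) (.node (.node (.leaf 9581) (.leaf 12412)) (.node (.leaf 6405) (.leaf 13364)))))))

def twoRank211 : Janko.Tree (ℕ) :=
  (.node (.node (.node (.node (.node (.node (.leaf 171) (.leaf 3580)) (.node (.leaf 14388) (.leaf 14493))) (.node (.node (.leaf 1434) (.leaf 9143)) (.node (.leaf 9354) (.leaf 14504)))) (.node (.node (.node (.leaf 876) (.leaf 8381)) (.node (.leaf 15569) (.leaf 10795))) (.node (.node (.leaf 1992) (.leaf 12152)) (.node (.leaf 13406) (.leaf 11843))))) (.node (.node (.node (.node (.leaf 533) (.leaf 13420)) (.node (.leaf 14174) (.leaf 11706))) (.node (.node (.leaf 8802) (.leaf 13471)) (.node (.leaf 13657) (.leaf 13048)))) (.node (.node (.node (.leaf 1166) (.leaf 11121)) (.node (.leaf 2812) (.leaf 14391))) (.node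 (.node (.leaf 14136) (.leaf 7893)) (.node (.leaf 9446) (.leaf 15256)))))) (.node (.node (.node (.node (.node (.leaf 367) (.leaf 3631)) (.node (.leaf 7746) (.leaf 4021))) (.node (.node (.leaf 1578) (.leaf 15540)) (.node (.leaf 3143) (.leaf 9667)))) (.node (.node (.node (.leaf 1028) (.leaf 10912)) (.node (.leaf 16326) (.leaf 11403))) (.node (.node (.leaf 2107) (.leaf 9823)) (.node (.leaf 3434) (.leaf 11674))))) (.node (.node (.node (.node (.leaf 705) (.leaf 10830)) (.node (.leaf 2652) (.leaf 14157))) (.node (.node (.leaf 1856) (.leaf 13995)) (.node (.leaf 14694) (.leaf 12318)))) (.node (.node (.node (.leaf 1299) (.leaf 13311)) (.node (.leaf 2941) (.leaf 4083))) (.node (.node (.leaf 2321) (.leaf 12842)) (.node (.leaf 7125) (.leaf 12890)))))))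

def twoRank212 : Janko.Tree (ℕ) :=
  (.node (.node (.node (.node (.node (.node (.leaf 172) (.leaf 15266)) (.node (.leaf 2424) (.leaf 3999))) (.node (.node (.leaf 1435) (.leaf 4407)) (.node (.leaf 3035) (.leaf 12671)))) (.node (.node (.node (.leaf 877) (.leaf 12174)) (.node (.leaf 12340) (.leaf 4064))) (.node (.node (.leaf 4770) (.leaf 4349)) (.node (.leaf 4558) (.leaf 7297))))) (.node (.node (.node (.node (.leaf 534) (.leaf 10282)) (.node (.leaf 14564) (.leaf 12284))) (.node (.node (.leaf 10662) (.leaf 13202)) (.node (.leaf 9735) (.leaf 14935)))) (.node (.node (.node (.leaf 1167) (.leaf 12415)) (.node (.leaf 2813) (.leaf 13248))) (.node (.node (.leaf 4744) (.leaf 11139)) (.node (.leaf 3482) (.leaf 4110)))))) (.node (.node (.node (.node (.node (.leaf 4920) (.leaf 14257)) (.node (.leaf 2495) (.leaf 9831))) (.node (.node (.leaf 1579) (.leaf 13549)) (.node (.leaf 4598) (.leaf 15696)))) (.node (.node (.node (.leaf 1029) (.leaf 4443)) (.node (.leaf 4650) (.leaf 4239))) (.node (.node (.leaf 2108) (.leaf 3915)) (.node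 (.leaf 3435) (.leaf 8472))))) (.node (.node (.node (.node (.leaf 4890) (.leaf 3699)) (.node (.leaf 16222) (.leaf 4263))) (.node (.node (.leaf 4782) (.leaf 3816)) (.node (.leaf 13532) (.leaf 11870)))) (.node (.node (.node (.leaf 15544) (.leaf 16304)) (.node (.leaf 14260) (.leaf 4210))) (.node (.node (.leaf 2322) (.leaf 14898)) (.node (.leaf 9241) (.leaf 13608)))))))

def twoRank213 : Janko.Tree (ℕ) :=
  (.node (.node (.node (.node (.node (.node (.leaf 173) (.leaf 15271)) (.node (.leaf 8247) (.leaf 8127))) (.node (.node (.leaf 5849) (.leaf 8909)) (.node (.leaf 8373) (.leaf 12675)))) (.node (.node (.node (.leaf 878) (.leaf 9961)) (.node (.leaf 2707) (.leaf 5133))) (.node (.node (.leaf 14981) (.leaf 3860)) (.node (.leaf 7249) (.leaf 11641))))) (.node (.node (.node (.node (.leaf 535) (.leaf 3672)) (.node (.leaf 5680) (.leaf 11257))) (.node (.node (.leaf 5818) (.leaf 7491)) (.node (.leaf 3214) (.leaf 15705)))) (.node (.node (.node (.leaf 14405) (.leaf 9323)) (.node (.leaf 5621) (.leaf 9716))) (.node (.node (.leaf 2221)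 (.leaf 5232)) (.node (.leaf 5488) (.leaf 8533)))))) (.node (.node (.node (.node (.node (.leaf 368) (.leaf 13753)) (.node (.leaf 8066) (.leaf 8526))) (.node (.node (.leaf 1580) (.leaf 11760)) (.node (.leaf 3144) (.leaf 5050)))) (.node (.node (.node (.leaf 5902) (.leaf 11314)) (.node (.leaf 13788) (.leaf 8684))) (.node (.node (.leaf 2109) (.leaf 14379)) (.node (.leaf 11069) (.leaf 15182))))) (.node (.node (.node (.node (.leaf 706) (.leaf 5413)) (.node (.leaf 5666) (.leaf 12319))) (.node (.node (.leaf 1857) (.leaf 3817)) (.node (.leaf 13069) (.leaf 10977)))) (.node (.node (.node (.leaf 1300) (.leaf 9898)) (.node (.leaf 11647) (.leaf 8004))) (.node (.node (.leaf 5731) (.leaf 14108)) (.node (.leaf 10670) (.leaf 4950)))))))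

def twoRank214 : Janko.Tree (ℕ) :=
  (.node (.node (.node (.node (.node (.node (.leaf 174) (.leaf 16378)) (.node (.leaf 2425) (.leaf 9229))) (.node (.node (.leaf 1436) (.leaf 12706)) (.node (.leaf 3036) (.leaf 12673)))) (.node (.node (.node (.leaf 6749) (.leaf 6338)) (.node (.leaf 9386) (.leaf 9685))) (.node (.node (.leaf 1993) (.leaf 3861)) (.node (.leaf 8500) (.leaf 6028))))) (.node (.node (.node (.node (.leaf 6778) (.leaf 6368)) (.node (.leaf 13939) (.leaf 6150))) (.node (.node (.leaf 10886) (.leaf 6261)) (.node (.leaf 6471) (.leaf 6051)))) (.node (.node (.node (.leaf 1168) (.leaf 13038)) (.node (.leaf 2814) (.leaf 6102))) (.node (.node (.leaf 7471) (.leaf 13056)) (.node (.leaf 8829) (.leaf 12988)))))) (.node (.node (.node (.node (.node (.leaf 369) (.leaf 15095)) (.node (.leaf 6585) (.leaf 10402))) (.node (.node (.leaf 9480) (.leaf 11758)) (.node (.leaf 16332) (.leaf 12522)))) (.node (.node (.node (.leaf 7935) (.leaf 3749)) (.node (.leaf 15554) (.leaf 14067))) (.node (.node (.leaf 2110) (.leaf 6221)) (.node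 (.leaf 3436) (.leaf 8474))))) (.node (.node (.node (.node (.leaf 707) (.leaf 8151)) (.node (.leaf 14686) (.leaf 11026))) (.node (.node (.leaf 1858) (.leaf 16417)) (.node (.leaf 6456) (.leaf 14568)))) (.node (.node (.node (.leaf 15393) (.leaf 6296)) (.node (.leaf 2942) (.leaf 7478))) (.node (.node (.leaf 13623) (.leaf 14430)) (.node (.leaf 11690) (.leaf 15028)))))))

def twoRank215 : Janko.Tree (ℕ) :=
  (.node (.node (.node (.node (.node (.node (.leaf 175) (.leaf 3581)) (.node (.leaf 2426) (.leaf 10415))) (.node (.node (.leaf 1437) (.leaf 11954)) (.node (.leaf 3037) (.leaf 9020)))) (.node (.node (.node (.leaf 879) (.leaf 10330)) (.node (.leaf 14099) (.leaf 11449))) (.node (.node (.leaf 1994) (.leaf 11402)) (.node (.leaf 14630) (.leaf 12952))))) (.node (.node (.node (.node (.leaf 536) (.leaf 15102)) (.node (.leaf 12809) (.leaf 9015))) (.node (.node (.leaf 1718) (.leaf 11271)) (.node (.leaf 14890) (.leaf 15910)))) (.node (.node (.node (.leaf 1169) (.leaf 10783)) (.node (.leaf 9234) (.leaf 15797))) (.node (.node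 (.leaf 2222) (.leaf 10073)) (.node (.leaf 8396) (.leaf 8540)))))) (.node (.node (.node (.node (.node (.leaf 370) (.leaf 7053)) (.node (.leaf 2496) (.leaf 8524))) (.node (.node (.leaf 8438) (.leaf 15995)) (.node (.leaf 15957) (.leaf 8541)))) (.node (.node (.node (.leaf 1030) (.leaf 15321)) (.node (.leaf 2756) (.leaf 15441))) (.node (.node (.leaf 10525) (.leaf 9203)) (.node (.leaf 9991) (.leaf 9814))))) (.node (.node (.node (.node (.leaf 708) (.leaf 8620)) (.node (.leaf 2653) (.leaf 11942))) (.node (.node (.leaf 14478) (.leaf 11331)) (.node (.leaf 3288) (.leaf 8413)))) (.node (.node (.node (.leaf 1301) (.leaf 9885)) (.node (.leaf 12398) (.leaf 11341))) (.node (.node (.leaf 14638) (.leaf 8593)) (.node (.leaf 9239) (.leaf 12378)))))))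

def twoRank216 : Janko.Tree (ℕ) :=
  (.node (.node (.node (.node (.node (.node (.leaf 4934) (.leaf 15173)) (.node (.leaf 11233) (.leaf 4300))) (.node (.node (.leaf 13348) (.leaf 13740)) (.node (.leaf 4611) (.leaf 4196)))) (.node (.node (.node (.leaf 10355) (.leaf 4455)) (.node (.leaf 15414) (.leaf 12285))) (.node (.node (.leaf 1995) (.leaf 15985)) (.node (.leaf 8495) (.leaf 7325))))) (.node (.node (.node (.node (.leaf 537) (.leaf 16380)) (.node (.leaf 2573) (.leaf 14591))) (.node (.node (.leaf 1719) (.leaf 4381)) (.node (.leaf 3215) (.leaf 11876)))) (.node (.node (.node (.leaf 4849) (.leaf 4429)) (.node (.leaf 12972) (.leaf 16220))) (.node (.node (.leaf 7469) (.leaf 12466)) (.node (.leaf 9175) (.leaf 8544)))))) (.node (.node (.node (.node (.node (.leaf 371) (.leaf 4489)) (.node (.leaf 8786) (.leaf 9343))) (.node (.node (.leaf 4809) (.leaf 14852)) (.node (.leaf 16452) (.leaf 13274)))) (.node (.node (.node (.leaf 1031) (.leaf 11985)) (.node (.leaf 2757) (.leaf 15784))) (.node (.node (.leaf 7396) (.leaf 3916))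 (.node (.leaf 15401) (.leaf 12501))))) (.node (.node (.node (.node (.leaf 709) (.leaf 4464)) (.node (.leaf 12426) (.leaf 4052))) (.node (.node (.leaf 1859) (.leaf 4363)) (.node (.leaf 10058) (.leaf 12217)))) (.node (.node (.node (.leaf 4835) (.leaf 15896)) (.node (.leaf 4624) (.leaf 11347))) (.node (.node (.leaf 15440) (.leaf 10208)) (.node (.leaf 3538) (.leaf 14713)))))))

def twoRank217 : Janko.Tree (ℕ) :=
  (.node (.node (.node (.node (.node (.node (.leaf 176) (.leaf 14929)) (.node (.leaf 5713) (.leaf 12538))) (.node (.node (.leaf 8861) (.leaf 14026)) (.node (.leaf 10458) (.leaf 9664)))) (.node (.node (.node (.leaf 880) (.leaf 14385)) (.node (.leaf 15176) (.leaf 12112))) (.node (.node (.leaf 14810) (.leaf 12256)) (.node (.leaf 7749) (.leaf 4998))))) (.node (.node (.node (.node (.leaf 538) (.leaf 3673)) (.node (.leaf 2574) (.leaf 5167))) (.node (.node (.leaf 1720) (.leaf 10037)) (.node (.leaf 5548) (.leaf 15295)))) (.node (.node (.node (.leaf 8055) (.leaf 14241)) (.node (.leaf 2815) (.leaf 5094))) (.node (.node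 (.leaf 2223) (.leaf 12335)) (.node (.leaf 8399) (.leaf 8741)))))) (.node (.node (.node (.node (.node (.leaf 372) (.leaf 3632)) (.node (.leaf 10579) (.leaf 5183))) (.node (.node (.leaf 1581) (.leaf 15559)) (.node (.leaf 5568) (.leaf 5049)))) (.node (.node (.node (.leaf 1032) (.leaf 5379)) (.node (.leaf 14763) (.leaf 15782))) (.node (.node (.leaf 5764) (.leaf 9226)) (.node (.leaf 5500) (.leaf 9615))))) (.node (.node (.node (.node (.leaf 5931) (.leaf 10563)) (.node (.leaf 5665) (.leaf 5149))) (.node (.node (.leaf 5800) (.leaf 8211)) (.node (.leaf 3289) (.leaf 5017)))) (.node (.node (.node (.leaf 7909) (.leaf 5347)) (.node (.leaf 2943) (.leaf 5082))) (.node (.node (.leaf 2323) (.leaf 5215)) (.node (.leaf 11312) (.leaf 14076)))))))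

def twoRank218 : Janko.Tree (ℕ) :=
  (.node (.node (.node (.node (.node (.node (.leaf 177) (.leaf 6392)) (.node (.leaf 2427) (.leaf 10431))) (.node (.node (.leaf 14971) (.leaf 6281)) (.node (.leaf 7009) (.leaf 9637)))) (.node (.node (.node (.leaf 8860) (.leaf 14383)) (.node (.leaf 6545) (.leaf 6123))) (.node (.node (.leaf 6646) (.leaf 6232)) (.node (.leaf 6445) (.leaf 12244))))) (.node (.node (.node (.node (.leaf 539) (.leaf 11663)) (.node (.leaf 6571) (.leaf 15060))) (.node (.node (.leaf 1721) (.leaf 11273)) (.node (.leaf 8417) (.leaf 6050)))) (.node (.node (.node (.leaf 7207) (.leaf 10169)) (.node (.leaf 6520) (.leaf 13561))) (.node (.node (.leaf 6622) (.leaf 10142)) (.node (.leaf 6419) (.leaf 10252)))))) (.node (.node (.node (.node (.node (.leaf 6792) (.leaf 8231)) (.node (.leaf 7866) (.leaf 7940))) (.node (.node (.leaf 7534) (.leaf 15203)) (.node (.leaf 16178) (.leaf 13433)))) (.node (.node (.node (.leaf 1033) (.leaf 3750)) (.node (.leaf 14078) (.leaf 6114))) (.node (.node (.leaf 10692) (.leaf 9180)) (.node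 (.leaf 3437) (.leaf 13212))))) (.node (.node (.node (.node (.leaf 710) (.leaf 8487)) (.node (.leaf 7488) (.leaf 12177))) (.node (.node (.leaf 1860) (.leaf 11997)) (.node (.leaf 10081) (.leaf 11495)))) (.node (.node (.node (.leaf 7684) (.leaf 15627)) (.node (.leaf 10157) (.leaf 15284))) (.node (.node (.leaf 15442) (.leaf 12882)) (.node (.leaf 15237) (.leaf 13924)))))))

def twoRank219 : Janko.Tree (ℕ) :=
  (.node (.node (.node (.node (.node (.node (.leaf 178) (.leaf 14788)) (.node (.leaf 10451) (.leaf 8745))) (.node (.node (.leaf 7033) (.leaf 14392)) (.node (.leaf 3038) (.leaf 9822)))) (.node (.node (.node (.leaf 881) (.leaf 14619)) (.node (.leaf 2708) (.leaf 15192))) (.node (.node (.leaf 1996) (.leaf 11689)) (.node (.leaf 11830) (.leaf 15364))))) (.node (.node (.node (.node (.leaf 540) (.leaf 8764)) (.node (.leaf 14574) (.leaf 4033))) (.node (.node (.leaf 1722) (.leaf 10035)) (.node (.leaf 10903) (.leaf 11839)))) (.node (.node (.node (.leaf 1170) (.leaf 14442)) (.node (.leaf 2816) (.leaf 9760))) (.node (.node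 (.leaf 2224) (.leaf 10368)) (.node (.leaf 10937) (.leaf 8542)))))) (.node (.node (.node (.node (.node (.leaf 373) (.leaf 3633)) (.node (.leaf 7754) (.leaf 11090))) (.node (.node (.leaf 1582) (.leaf 9391)) (.node (.leaf 11015) (.leaf 11120)))) (.node (.node (.node (.leaf 1034) (.leaf 8449)) (.node (.leaf 9492) (.leaf 15181))) (.node (.node (.leaf 2111) (.leaf 7405)) (.node (.leaf 16367) (.leaf 16241))))) (.node (.node (.node (.node (.leaf 8755) (.leaf 14912)) (.node (.leaf 15958) (.leaf 10943))) (.node (.node (.leaf 1861) (.leaf 14104)) (.node (.leaf 9190) (.leaf 12012)))) (.node (.node (.node (.leaf 1302) (.leaf 9883)) (.node (.leaf 2944) (.leaf 11280))) (.node (.node (.leaf 2324) (.leaf 8704)) (.node (.leaf 8346) (.leaf 12380)))))))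

def twoRank220 : Janko.Tree (ℕ) :=
  (.node (.node (.node (.node (.node (.node (.leaf 179) (.leaf 3582)) (.node (.leaf 2428) (.leaf 16268))) (.node (.node (.leaf 8867) (.leaf 9455)) (.node (.leaf 3039) (.leaf 9635)))) (.node (.node (.node (.leaf 7434) (.leaf 15010)) (.node (.leaf 14344) (.leaf 4065))) (.node (.node (.leaf 1997) (.leaf 4348)) (.node (.leaf 4557) (.leaf 9828))))) (.node (.node (.node (.node (.leaf 4905) (.leaf 4477)) (.node (.leaf 8950) (.leaf 13108))) (.node (.node (.leaf 4796) (.leaf 12301)) (.node (.leaf 3216) (.leaf 12569)))) (.node (.node (.node (.leaf 8280) (.leaf 10167)) (.node (.leaf 11183) (.leaf 15018))) (.node (.node (.leaf 2225) (.leaf 15359)) (.node (.leaf 14945) (.leaf 11530)))))) (.node (.node (.node (.node (.node (.leaf 374) (.leaf 14062)) (.node (.leaf 7323) (.leaf 13332))) (.node (.node (.leaf 10392) (.leaf 11578)) (.node (.leaf 13900) (.leaf 9359)))) (.node (.node (.node (.leaf 4861) (.leaf 13094)) (.node (.leaf 4649) (.leaf 12793))) (.node (.node (.leaf 2112) (.leaf 4334))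 (.node (.leaf 3438) (.leaf 4121))))) (.node (.node (.node (.node (.leaf 711) (.leaf 8485)) (.node (.leaf 7500) (.leaf 11572))) (.node (.node (.leaf 1862) (.leaf 14407)) (.node (.leaf 9951) (.leaf 12297)))) (.node (.node (.node (.leaf 1303) (.leaf 13938)) (.node (.leaf 12827) (.leaf 15702))) (.node (.node (.leaf 2325) (.leaf 12937)) (.node (.leaf 4516) (.leaf 4097)))))))

def twoRank221 : Janko.Tree (ℕ) :=
  (.node (.node (.node (.node (.node (.node (.leaf 5977) (.leaf 7481)) (.node (.leaf 8794) (.leaf 15111))) (.node (.node (.leaf 8844) (.leaf 8957)) (.node (.leaf 3040) (.leaf 9633)))) (.node (.node (.node (.leaf 882) (.leaf 5392)) (.node (.leaf 15208) (.leaf 9827))) (.node (.node (.leaf 1998) (.leaf 3862)) (.node (.leaf 3376) (.leaf 9830))))) (.node (.node (.node (.node (.leaf 541) (.leaf 7294)) (.node (.leaf 5679) (.leaf 4034))) (.node (.node (.leaf 7842) (.leaf 5288)) (.node (.leaf 3217) (.leaf 5034)))) (.node (.node (.node (.leaf 5884) (.leaf 14879)) (.node (.leaf 2817) (.leaf 15016))) (.node (.node (.leaf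 5747) (.leaf 13337)) (.node (.leaf 3483) (.leaf 10298)))))) (.node (.node (.node (.node (.node (.leaf 375) (.leaf 3634)) (.node (.leaf 13152) (.leaf 11911))) (.node (.node (.leaf 5835) (.leaf 5310)) (.node (.leaf 14449) (.leaf 5048)))) (.node (.node (.node (.leaf 1035) (.leaf 9233)) (.node (.leaf 12435) (.leaf 13303))) (.node (.node (.leaf 2113) (.leaf 11642)) (.node (.leaf 3439) (.leaf 9678))))) (.node (.node (.node (.node (.leaf 712) (.leaf 8093)) (.node (.leaf 2654) (.leaf 9867))) (.node (.node (.leaf 1863) (.leaf 5278)) (.node (.leaf 5535) (.leaf 5016)))) (.node (.node (.node (.leaf 5867) (.leaf 13313)) (.node (.leaf 5603) (.leaf 5081))) (.node (.node (.leaf 5730) (.leaf 12241)) (.node (.leaf 7753) (.leaf 10088)))))))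

def twoRank222 : Janko.Tree (ℕ) :=
  (.node (.node (.node (.node (.node (.node (.leaf 180) (.leaf 8367)) (.node (.leaf 2429) (.leaf 6837))) (.node (.node (.leaf 6697) (.leaf 9457)) (.node (.leaf 6864) (.leaf 6077)))) (.node (.node (.node (.leaf 8644) (.leaf 15715)) (.node (.leaf 15021) (.leaf 6122))) (.node (.node (.leaf 8699) (.leaf 7607)) (.node (.leaf 6997) (.leaf 13376))))) (.node (.node (.node (.node (.leaf 10039) (.leaf 7708)) (.node (.leaf 8027) (.leaf 13425))) (.node (.node (.leaf 1723) (.leaf 3810)) (.node (.leaf 3218) (.leaf 12126)))) (.node (.node (.node (.leaf 1171) (.leaf 6310)) (.node (.leaf 2818) (.leaf 6101))) (.node (.node (.leaf 2226) (.leaf 6208)) (.node (.leaf 3484) (.leaf 6004)))))) (.node (.node (.node (.node (.node (.leaf 376) (.leaf 16214)) (.node (.leaf 6584) (.leaf 13476))) (.node (.node (.leaf 1583) (.leaf 11575)) (.node (.leaf 6481) (.leaf 12849)))) (.node (.node (.node (.leaf 8898) (.leaf 6324)) (.node (.leaf 15202) (.leaf 12544))) (.node (.node (.leaf 2114) (.leaf 12267)) (.node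 (.leaf 6432) (.leaf 9684))))) (.node (.node (.node (.node (.leaf 6763) (.leaf 6352)) (.node (.leaf 6558) (.leaf 6136))) (.node (.node (.leaf 6659) (.leaf 14936)) (.node (.leaf 10137) (.leaf 12485)))) (.node (.node (.node (.leaf 1304) (.leaf 15617)) (.node (.leaf 2945) (.leaf 11708))) (.node (.node (.leaf 2326) (.leaf 6191)) (.node (.leaf 8498) (.leaf 10090)))))))

def twoRank223 : Janko.Tree (ℕ) :=
  (.node (.node (.node (.node (.node (.node (.leaf 181) (.leaf 11879)) (.node (.leaf 8397) (.leaf 6835))) (.node (.node (.leaf 1438) (.leaf 10599)) (.node (.leaf 6858) (.leaf 9631)))) (.node (.node (.node (.leaf 7104) (.leaf 9326)) (.node (.leaf 2709) (.leaf 10945))) (.node (.node (.leaf 1999) (.leaf 11877)) (.node (.leaf 3377) (.leaf 7036))))) (.node (.node (.node (.node (.leaf 542) (.leaf 14692)) (.node (.leaf 2575) (.leaf 12715))) (.node (.node (.leaf 1724) (.leaf 12304)) (.node (.leaf 9500) (.leaf 10858)))) (.node (.node (.node (.leaf 1172) (.leaf 15949)) (.node (.leaf 2819) (.leaf 14973))) (.node (.node (.leaf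 2227) (.leaf 14439)) (.node (.leaf 10319) (.leaf 10294)))))) (.node (.node (.node (.node (.node (.leaf 377) (.leaf 8229)) (.node (.leaf 9842) (.leaf 7864))) (.node (.node (.leaf 1584) (.leaf 11573)) (.node (.leaf 15753) (.leaf 12632)))) (.node (.node (.node (.leaf 1036) (.leaf 3751)) (.node (.leaf 13305) (.leaf 12546))) (.node (.node (.leaf 2115) (.leaf 14519)) (.node (.leaf 13490) (.leaf 9686))))) (.node (.node (.node (.node (.leaf 713) (.leaf 10565)) (.node (.leaf 12566) (.leaf 9869))) (.node (.node (.leaf 1864) (.leaf 3818)) (.node (.leaf 3290) (.leaf 13143)))) (.node (.node (.node (.leaf 1305) (.leaf 14506)) (.node (.leaf 2946) (.leaf 9544))) (.node (.node (.leaf 2327) (.leaf 12516)) (.node (.leaf 15428) (.leaf 10995)))))))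

def twoRank224 : Janko.Tree (ℕ) :=
  (.node (.node (.node (.node (.node (.node (.leaf 182) (.leaf 3583)) (.node (.leaf 4719) (.leaf 10609))) (.node (.node (.leaf 1439) (.leaf 14897)) (.node (.leaf 4610) (.leaf 16121)))) (.node (.node (.node (.leaf 4875) (.leaf 13620)) (.node (.leaf 4663) (.leaf 4252))) (.node (.node (.leaf 15167) (.leaf 7986)) (.node (.leaf 14221) (.leaf 11448))))) (.node (.node (.node (.node (.leaf 543) (.leaf 13656)) (.node (.leaf 13684) (.leaf 13893))) (.node (.node (.leaf 1725) (.leaf 11875)) (.node (.leaf 4586) (.leaf 12377)))) (.node (.node (.node (.leaf 10449) (.leaf 13487)) (.node (.leaf 2820) (.leaf 16151))) (.node (.node (.leaf 10283) (.leaf 7618)) (.node (.leaf 13354) (.leaf 4109)))))) (.node (.node (.node (.node (.node (.leaf 4919) (.leaf 4488)) (.node (.leaf 10047) (.leaf 4288))) (.node (.node (.leaf 1585) (.leaf 13445)) (.node (.leaf 3145) (.leaf 11467)))) (.node (.node (.node (.leaf 11255) (.leaf 9052)) (.node (.leaf 9573) (.leaf 9995))) (.node (.node (.leaf 4758) (.leaf 10955))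 (.node (.leaf 15059) (.leaf 4093))))) (.node (.node (.node (.node (.leaf 714) (.leaf 4463)) (.node (.leaf 4677) (.leaf 15446))) (.node (.node (.leaf 7198) (.leaf 11993)) (.node (.leaf 16076) (.leaf 10121)))) (.node (.node (.node (.leaf 1306) (.leaf 4417)) (.node (.leaf 10161) (.leaf 16416))) (.node (.node (.leaf 14867) (.leaf 8599)) (.node (.leaf 9070) (.leaf 11892)))))))

def twoRank225 : Janko.Tree (ℕ) :=
  (.node (.node (.node (.node (.node (.node (.leaf 183) (.leaf 8300)) (.node (.leaf 2430) (.leaf 5198))) (.node (.node (.leaf 9102) (.leaf 3795)) (.node (.leaf 3041) (.leaf 5063)))) (.node (.node (.node (.leaf 883) (.leaf 15006)) (.node (.leaf 14309) (.leaf 11858))) (.node (.node (.leaf 5782) (.leaf 5265)) (.node (.leaf 15463) (.leaf 9187))))) (.node (.node (.node (.node (.leaf 5946) (.leaf 5428)) (.node (.leaf 11384) (.leaf 5166))) (.node (.node (.leaf 5817) (.leaf 12995)) (.node (.leaf 3219) (.leaf 5033)))) (.node (.node (.node (.leaf 8296) (.leaf 10920)) (.node (.leaf 5620) (.leaf 16052))) (.node (.node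 (.leaf 15752) (.leaf 9316)) (.node (.leaf 10399) (.leaf 9739)))))) (.node (.node (.node (.node (.node (.leaf 378) (.leaf 8056)) (.node (.leaf 11244) (.leaf 7718))) (.node (.node (.leaf 1586) (.leaf 5309)) (.node (.leaf 12711) (.leaf 9698)))) (.node (.node (.node (.leaf 5901) (.leaf 9275)) (.node (.leaf 5633) (.leaf 8742))) (.node (.node (.leaf 2116) (.leaf 10950)) (.node (.leaf 16217) (.leaf 10767))))) (.node (.node (.node (.node (.leaf 715) (.leaf 3700)) (.node (.leaf 2655) (.leaf 5148))) (.node (.node (.leaf 7841) (.leaf 11328)) (.node (.leaf 3291) (.leaf 10427)))) (.node (.node (.node (.leaf 1307) (.leaf 10544)) (.node (.leaf 14450) (.leaf 5080))) (.node (.node (.leaf 2328) (.leaf 11144)) (.node (.leaf 10752) (.leaf 10270)))))))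

def twoRank226 : Janko.Tree (ℕ) :=
  (.node (.node (.node (.node (.node (.node (.leaf 184) (.leaf 3584)) (.node (.leaf 6987) (.leaf 11310))) (.node (.node (.leaf 1440) (.leaf 12438)) (.node (.leaf 6973) (.leaf 12909)))) (.node (.node (.node (.leaf 10700) (.leaf 6337)) (.node (.leaf 13081) (.leaf 9797))) (.node (.node (.leaf 2000) (.leaf 3863)) (.node (.leaf 10045) (.leaf 6027))))) (.node (.node (.node (.node (.leaf 544) (.leaf 15453)) (.node (.leaf 2576) (.leaf 12192))) (.node (.node (.leaf 1726) (.leaf 15694)) (.node (.leaf 3220) (.leaf 11367)))) (.node (.node (.node (.leaf 6720) (.leaf 11316)) (.node (.leaf 10468) (.leaf 16048))) (.node (.node (.leaf 2228) (.leaf 6207)) (.node (.leaf 6418) (.leaf 9713)))))) (.node (.node (.node (.node (.node (.leaf 379) (.leaf 7423)) (.node (.leaf 14132) (.leaf 7745))) (.node (.node (.leaf 10160) (.leaf 11540)) (.node (.leaf 3146) (.leaf 13553)))) (.node (.node (.node (.leaf 1037) (.leaf 8222)) (.node (.leaf 13711) (.leaf 9944))) (.node (.node (.leaf 2117) (.leaf 11458)) (.node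 (.leaf 16161) (.leaf 6015))))) (.node (.node (.node (.node (.leaf 716) (.leaf 6984)) (.node (.leaf 7498) (.leaf 14920))) (.node (.node (.leaf 7819) (.leaf 6246)) (.node (.leaf 14967) (.leaf 10182)))) (.node (.node (.node (.leaf 1308) (.leaf 9607)) (.node (.leaf 6506) (.leaf 11718))) (.node (.node (.leaf 6608) (.leaf 8601)) (.node (.leaf 6404) (.leaf 10274)))))))

def twoRank227 : Janko.Tree (ℕ) :=
  (.node (.node (.node (.node (.node (.node (.leaf 185) (.leaf 9177)) (.node (.leaf 2431) (.leaf 10646))) (.node (.node (.leaf 1441) (.leaf 7029)) (.node (.leaf 11538) (.leaf 15900)))) (.node (.node (.node (.leaf 884) (.leaf 16323)) (.node (.leaf 14913) (.leaf 11965))) (.node (.node (.leaf 2001) (.leaf 16000)) (.node (.leaf 6851) (.leaf 12019))))) (.node (.node (.node (.node (.leaf 545) (.leaf 8777)) (.node (.leaf 8955) (.leaf 12190))) (.node (.node (.leaf 8145) (.leaf 12655)) (.node (.leaf 3221) (.leaf 9449)))) (.node (.node (.node (.leaf 1173) (.leaf 8940)) (.node (.leaf 2821) (.leaf 16050))) (.node (.node (.leaf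 7108) (.leaf 3941)) (.node (.leaf 15258) (.leaf 14752)))))) (.node (.node (.node (.node (.node (.leaf 380) (.leaf 14550)) (.node (.leaf 12062) (.leaf 8760))) (.node (.node (.leaf 1587) (.leaf 13593)) (.node (.leaf 3147) (.leaf 9305)))) (.node (.node (.node (.leaf 10776) (.leaf 8874)) (.node (.leaf 11556) (.leaf 6832))) (.node (.node (.leaf 2118) (.leaf 9587)) (.node (.leaf 15061) (.leaf 10630))))) (.node (.node (.node (.node (.leaf 717) (.leaf 10794)) (.node (.leaf 12346) (.leaf 8505))) (.node (.node (.leaf 1865) (.leaf 14232)) (.node (.leaf 3292) (.leaf 9189)))) (.node (.node (.node (.leaf 1309) (.leaf 9868)) (.node (.leaf 15750) (.leaf 11276))) (.node (.node (.leaf 2329) (.leaf 3973)) (.node (.leaf 11834) (.leaf 15980)))))))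

def twoRank228 : Janko.Tree (ℕ) :=
  (.node (.node (.node (.node (.node (.node (.leaf 4933) (.leaf 4503)) (.node (.leaf 2432) (.leaf 11296))) (.node (.node (.leaf 4823) (.leaf 4406)) (.node (.leaf 3042) (.leaf 15904)))) (.node (.node (.node (.leaf 10885) (.leaf 12142)) (.node (.leaf 15620) (.leaf 8545))) (.node (.node (.leaf 14975) (.leaf 16428)) (.node (.leaf 4556) (.leaf 9832))))) (.node (.node (.node (.node (.leaf 10029) (.leaf 7385)) (.node (.leaf 10876) (.leaf 4274))) (.node (.node (.leaf 1727) (.leaf 4380)) (.node (.leaf 13775) (.leaf 10147)))) (.node (.node (.node (.leaf 1174) (.leaf 12980)) (.node (.leaf 7329) (.leaf 12714))) (.node (.node (.leaf 7896) (.leaf 3942)) (.node (.leaf 9699) (.leaf 9707)))))) (.node (.node (.node (.node (.node (.leaf 381) (.leaf 3635)) (.node (.leaf 4705) (.leaf 15905))) (.node (.node (.leaf 4808) (.leaf 7189)) (.node (.leaf 12393) (.leaf 14569)))) (.node (.node (.node (.leaf 8892) (.leaf 4442)) (.node (.leaf 2758) (.leaf 15710))) (.node (.node (.leaf 2119) (.leaf 7310)) (.node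 (.leaf 4544) (.leaf 14168))))) (.node (.node (.node (.node (.leaf 718) (.leaf 12430)) (.node (.leaf 7490) (.leaf 10225))) (.node (.node (.leaf 11173) (.leaf 13059)) (.node (.leaf 4571) (.leaf 15584)))) (.node (.node (.node (.leaf 4834) (.leaf 9003)) (.node (.leaf 8291) (.leaf 14925))) (.node (.node (.leaf 16371) (.leaf 11213)) (.node (.leaf 3539) (.leaf 13674)))))))

def twoRank229 : Janko.Tree (ℕ) :=
  (.node (.node (.node (.node (.node (.node (.leaf 186) (.leaf 3585)) (.node (.leaf 5712) (.leaf 10644))) (.node (.node (.leaf 1442) (.leaf 10361)) (.node (.leaf 5585) (.leaf 15902)))) (.node (.node (.node (.leaf 885) (.leaf 3728)) (.node (.leaf 15622) (.leaf 5132))) (.node (.node (.leaf 2002) (.leaf 13846)) (.node (.leaf 14079) (.leaf 13062))))) (.node (.node (.node (.node (.leaf 546) (.leaf 9246)) (.node (.leaf 2577) (.leaf 12437))) (.node (.node (.leaf 1728) (.leaf 13003)) (.node (.leaf 5547) (.leaf 12775)))) (.node (.node (.node (.leaf 8011) (.leaf 5362)) (.node (.leaf 10685) (.leaf 12698))) (.node (.node (.leaf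 5746) (.leaf 5231)) (.node (.leaf 3485) (.leaf 12303)))))) (.node (.node (.node (.node (.node (.leaf 5962) (.leaf 5444)) (.node (.leaf 10453) (.leaf 5182))) (.node (.node (.leaf 10539) (.leaf 9688)) (.node (.leaf 5567) (.leaf 5047)))) (.node (.node (.node (.leaf 10324) (.leaf 8409)) (.node (.leaf 9490) (.leaf 8402))) (.node (.node (.leaf 5763) (.leaf 5248)) (.node (.leaf 3440) (.leaf 16264))))) (.node (.node (.node (.node (.leaf 5930) (.leaf 7264)) (.node (.leaf 5664) (.leaf 14567))) (.node (.node (.leaf 5799) (.leaf 12140)) (.node (.leaf 3293) (.leaf 5015)))) (.node (.node (.node (.leaf 1310) (.leaf 5346)) (.node (.leaf 5602) (.leaf 9565))) (.node (.node (.leaf 2330) (.leaf 5214)) (.node (.leaf 8334) (.leaf 8393)))))))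

def twoRank230 : Janko.Tree (ℕ) :=
  (.node (.node (.node (.node (.node (.node (.leaf 7028) (.leaf 7482)) (.node (.leaf 2433) (.leaf 6179))) (.node (.node (.leaf 7044) (.leaf 9971)) (.node (.leaf 3043) (.leaf 15630)))) (.node (.node (.node (.leaf 6748) (.leaf 11803)) (.node (.leaf 6544) (.leaf 12357))) (.node (.node (.leaf 16039) (.leaf 3864)) (.node (.leaf 13022) (.leaf 11534))))) (.node (.node (.node (.node (.leaf 6777) (.leaf 6367)) (.node (.leaf 6570) (.leaf 13404))) (.node (.node (.leaf 6670) (.leaf 7193)) (.node (.leaf 15652) (.leaf 13738)))) (.node (.node (.node (.leaf 7355) (.leaf 3765)) (.node (.leaf 6519) (.leaf 12948))) (.node (.node (.leaf 10729) (.leaf 15534)) (.node (.leaf 3486) (.leaf 6003)))))) (.node (.node (.node (.node (.node (.leaf 382) (.leaf 11990)) (.node (.leaf 2497) (.leaf 7720))) (.node (.node (.leaf 7011) (.leaf 6272)) (.node (.leaf 15971) (.leaf 14175)))) (.node (.node (.node (.leaf 6733) (.leaf 9145)) (.node (.leaf 2759) (.leaf 16369))) (.node (.node (.leaf 2120) (.leaf 7876)) (.node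 (.leaf 9710) (.leaf 14171))))) (.node (.node (.node (.node (.leaf 719) (.leaf 6351)) (.node (.leaf 12328) (.leaf 6135))) (.node (.node (.leaf 10743) (.leaf 13102)) (.node (.leaf 3294) (.leaf 16305)))) (.node (.node (.node (.leaf 1311) (.leaf 9007)) (.node (.leaf 7884) (.leaf 15842))) (.node (.node (.leaf 15713) (.leaf 11603)) (.node (.leaf 9251) (.leaf 14209)))))))

def twoRank231 : Janko.Tree (ℕ) :=
  (.node (.node (.node (.node (.node (.node (.leaf 187) (.leaf 15621)) (.node (.leaf 10661) (.leaf 9066))) (.node (.node (.leaf 1443) (.leaf 9116)) (.node (.leaf 10756) (.leaf 13867)))) (.node (.node (.node (.leaf 886) (.leaf 13058)) (.node (.leaf 15624) (.leaf 13114))) (.node (.node (.leaf 2003) (.leaf 3865)) (.node (.leaf 3378) (.leaf 6825))))) (.node (.node (.node (.node (.leaf 547) (.leaf 12635)) (.node (.leaf 10888) (.leaf 14972))) (.node (.node (.leaf 1729) (.leaf 15616)) (.node (.leaf 8767) (.leaf 11277)))) (.node (.node (.node (.leaf 7347) (.leaf 10574)) (.node (.leaf 2822) (.leaf 4077))) (.node (.node (.leaf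 2229) (.leaf 10069)) (.node (.leaf 8461) (.leaf 15416)))))) (.node (.node (.node (.node (.node (.leaf 383) (.leaf 3636)) (.node (.leaf 2498) (.leaf 8337))) (.node (.node (.leaf 9284) (.leaf 9820)) (.node (.leaf 15323) (.leaf 9379)))) (.node (.node (.node (.leaf 1038) (.leaf 9137)) (.node (.leaf 9117) (.leaf 11175))) (.node (.node (.leaf 10925) (.leaf 14279)) (.node (.leaf 14543) (.leaf 15037))))) (.node (.node (.node (.node (.leaf 720) (.leaf 13685)) (.node (.leaf 2656) (.leaf 14571))) (.node (.node (.leaf 1866) (.leaf 8425)) (.node (.leaf 14436) (.leaf 9208)))) (.node (.node (.node (.leaf 1312) (.leaf 13223)) (.node (.leaf 2947) (.leaf 11982))) (.node (.node (.leaf 7170) (.leaf 3974)) (.node (.leaf 8326) (.leaf 7399)))))))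

def twoRank232 : Janko.Tree (ℕ) :=
  (.node (.node (.node (.node (.node (.node (.leaf 188) (.leaf 3586)) (.node (.leaf 2434) (.leaf 11054))) (.node (.node (.leaf 1444) (.leaf 9958)) (.node (.leaf 3044) (.leaf 4195)))) (.node (.node (.node (.leaf 887) (.leaf 15422)) (.node (.leaf 12562) (.leaf 4251))) (.node (.node (.leaf 4769) (.leaf 4347)) (.node (.leaf 11940) (.leaf 12892))))) (.node (.node (.node (.node (.leaf 548) (.leaf 14107)) (.node (.leaf 4692) (.leaf 9817))) (.node (.node (.leaf 1730) (.leaf 12180)) (.node (.leaf 3222) (.leaf 12721)))) (.node (.node (.node (.leaf 4848) (.leaf 11844)) (.node (.leaf 12136) (.leaf 8164))) (.node (.node (.leaf 2230) (.leaf 12105)) (.node (.leaf 4528) (.leaf 11748)))))) (.node (.node (.node (.node (.node (.leaf 384) (.leaf 3637)) (.node (.leaf 2499) (.leaf 7751))) (.node (.node (.leaf 8147) (.leaf 12185)) (.node (.leaf 14885) (.leaf 11031)))) (.node (.node (.node (.leaf 10840) (.leaf 9155)) (.node (.leaf 14802) (.leaf 15848))) (.node (.node (.leaf 2121) (.leaf 12618)) (.node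 (.leaf 9718) (.leaf 15785))))) (.node (.node (.node (.node (.leaf 7120) (.leaf 9642)) (.node (.leaf 2657) (.leaf 7598))) (.node (.node (.leaf 9738) (.leaf 4362)) (.node (.leaf 3295) (.leaf 13086)))) (.node (.node (.node (.leaf 1313) (.leaf 9818)) (.node (.leaf 12223) (.leaf 11585))) (.node (.node (.leaf 4730) (.leaf 8609)) (.node (.leaf 3540) (.leaf 15496)))))))

def twoRank233 : Janko.Tree (ℕ) :=
  (.node (.node (.node (.node (.node (.node (.leaf 5976) (.leaf 3587)) (.node (.leaf 5711) (.leaf 5197))) (.node (.node (.leaf 5848) (.leaf 16204)) (.node (.leaf 7095) (.leaf 11840)))) (.node (.node (.node (.leaf 888) (.leaf 16401)) (.node (.leaf 12137) (.leaf 13721))) (.node (.node (.leaf 2004) (.leaf 12248)) (.node (.leaf 7268) (.leaf 4997))))) (.node (.node (.node (.node (.leaf 6928) (.leaf 9300)) (.node (.leaf 11022) (.leaf 10952))) (.node (.node (.leaf 7823) (.leaf 11036)) (.node (.leaf 3223) (.leaf 5032)))) (.node (.node (.node (.leaf 1175) (.leaf 15249)) (.node (.leaf 2823) (.leaf 8166))) (.node (.node (.leaf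 2231) (.leaf 12601)) (.node (.leaf 9791) (.leaf 15673)))))) (.node (.node (.node (.node (.node (.leaf 385) (.leaf 9806)) (.node (.leaf 7252) (.leaf 8087))) (.node (.node (.leaf 5834) (.leaf 13516)) (.node (.leaf 3148) (.leaf 5046)))) (.node (.node (.node (.leaf 1039) (.leaf 9147)) (.node (.leaf 2760) (.leaf 14412))) (.node (.node (.leaf 2122) (.leaf 5247)) (.node (.leaf 3441) (.leaf 13691))))) (.node (.node (.node (.node (.leaf 721) (.leaf 3701)) (.node (.leaf 14134) (.leaf 15926))) (.node (.node (.leaf 1867) (.leaf 16310)) (.node (.leaf 13336) (.leaf 12927)))) (.node (.node (.node (.leaf 5866) (.leaf 10623)) (.node (.leaf 2948) (.leaf 14172))) (.node (.node (.leaf 2331) (.leaf 5213)) (.node (.leaf 5475) (.leaf 4949)))))))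

def twoRank234 : Janko.Tree (ℕ) :=
  (.node (.node (.node (.node (.node (.node (.leaf 189) (.leaf 6391)) (.node (.leaf 7965) (.leaf 12834))) (.node (.node (.leaf 1445) (.leaf 6280)) (.node (.leaf 6494) (.leaf 13865)))) (.node (.node (.node (.leaf 889) (.leaf 15424)) (.node (.leaf 10782) (.leaf 12923))) (.node (.node (.leaf 7003) (.leaf 12254)) (.node (.leaf 6444) (.leaf 11649))))) (.node (.node (.node (.node (.leaf 6901) (.leaf 15661)) (.node (.leaf 8238) (.leaf 6149))) (.node (.node (.leaf 7837) (.leaf 12751)) (.node (.leaf 6470) (.leaf 11716)))) (.node (.node (.node (.leaf 7069) (.leaf 6309)) (.node (.leaf 2824) (.leaf 12292))) (.node (.node (.leaf 2232) (.leaf 9431)) (.node (.leaf 3487) (.leaf 6002)))))) (.node (.node (.node (.node (.node (.leaf 386) (.leaf 3638)) (.node (.leaf 6583) (.leaf 6164))) (.node (.node (.leaf 8973) (.leaf 13626)) (.node (.leaf 16421) (.leaf 12787)))) (.node (.node (.node (.leaf 1040) (.leaf 6323)) (.node (.leaf 6532) (.leaf 14398))) (.node (.node (.leaf 6634) (.leaf 12493)) (.node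 (.leaf 6431) (.leaf 13776))))) (.node (.node (.node (.node (.leaf 6762) (.leaf 12811)) (.node (.leaf 2658) (.leaf 6134))) (.node (.node (.leaf 9733) (.leaf 13785)) (.node (.leaf 6455) (.leaf 6039)))) (.node (.node (.node (.leaf 1314) (.leaf 9645)) (.node (.leaf 2949) (.leaf 6089))) (.node (.node (.leaf 10605) (.leaf 8618)) (.node (.leaf 7747) (.leaf 11068)))))))

def twoRank235 : Janko.Tree (ℕ) :=
  (.node (.node (.node (.node (.node (.node (.leaf 190) (.leaf 9033)) (.node (.leaf 2435) (.leaf 12271))) (.node (.node (.leaf 10701) (.leaf 14330)) (.node (.leaf 14864) (.leaf 12905)))) (.node (.node (.node (.leaf 8159) (.leaf 3729)) (.node (.leaf 9530) (.leaf 15961))) (.node (.node (.leaf 2005) (.leaf 3866)) (.node (.leaf 14086) (.leaf 12031))))) (.node (.node (.node (.node (.leaf 549) (.leaf 12865)) (.node (.leaf 15057) (.leaf 12114))) (.node (.node (.leaf 7825) (.leaf 10604)) (.node (.leaf 3224) (.leaf 9567)))) (.node (.node (.node (.leaf 1176) (.leaf 15054)) (.node (.leaf 7039) (.leaf 9127))) (.node (.node (.leaf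 7623) (.leaf 9374)) (.node (.leaf 9865) (.leaf 13294)))))) (.node (.node (.node (.node (.node (.leaf 387) (.leaf 12957)) (.node (.leaf 15003) (.leaf 15883))) (.node (.node (.leaf 1588) (.leaf 13578)) (.node (.leaf 16301) (.leaf 11536)))) (.node (.node (.node (.leaf 1041) (.leaf 8879)) (.node (.leaf 10017) (.leaf 8665))) (.node (.node (.leaf 2123) (.leaf 8746)) (.node (.leaf 3442) (.leaf 8569))))) (.node (.node (.node (.node (.leaf 722) (.leaf 10763)) (.node (.leaf 8579) (.leaf 13010))) (.node (.node (.leaf 7134) (.leaf 14866)) (.node (.leaf 14441) (.leaf 13974)))) (.node (.node (.node (.leaf 8562) (.leaf 6842)) (.node (.leaf 8906) (.leaf 15730))) (.node (.node (.leaf 2332) (.leaf 12960)) (.node (.leaf 3541) (.leaf 10975)))))))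

def twoRank236 : Janko.Tree (ℕ) :=
  (.node (.node (.node (.node (.node (.node (.leaf 191) (.leaf 4502)) (.node (.leaf 16373) (.leaf 14112))) (.node (.node (.leaf 1446) (.leaf 15555)) (.node (.leaf 11928) (.leaf 12668)))) (.node (.node (.node (.leaf 4874) (.leaf 4454)) (.node (.leaf 4662) (.leaf 13020))) (.node (.node (.leaf 16444) (.leaf 3867)) (.node (.leaf 9681) (.leaf 10216))))) (.node (.node (.node (.node (.leaf 550) (.leaf 7621)) (.node (.leaf 11349) (.leaf 12274))) (.node (.node (.leaf 10699) (.leaf 16224)) (.node (.leaf 9496) (.leaf 10202)))) (.node (.node (.node (.leaf 1177) (.leaf 13470)) (.node (.leaf 4636) (.leaf 15851))) (.node (.node (.leaf 4743) (.leaf 4324)) (.node (.leaf 3488) (.leaf 12231)))))) (.node (.node (.node (.node (.node (.leaf 4918) (.leaf 4487)) (.node (.leaf 4704) (.leaf 4287))) (.node (.node (.leaf 1589) (.leaf 4393)) (.node (.leaf 3149) (.leaf 13014)))) (.node (.node (.node (.leaf 1042) (.leaf 16207)) (.node (.leaf 14196) (.leaf 11066))) (.node (.node (.leaf 2124) (.leaf 9144))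 (.node (.leaf 4543) (.leaf 9363))))) (.node (.node (.node (.node (.leaf 10154) (.leaf 12954)) (.node (.leaf 4676) (.leaf 4262))) (.node (.node (.leaf 4781) (.leaf 10930)) (.node (.leaf 3296) (.leaf 13400)))) (.node (.node (.node (.leaf 1315) (.leaf 14050)) (.node (.leaf 4623) (.leaf 13098))) (.node (.node (.leaf 16213) (.leaf 10275)) (.node (.leaf 14690) (.leaf 12889)))))))

def twoRank237 : Janko.Tree (ℕ) :=
  (.node (.node (.node (.node (.node (.node (.leaf 192) (.leaf 10963)) (.node (.leaf 2436) (.leaf 15045))) (.node (.node (.leaf 5847) (.leaf 15997)) (.node (.leaf 5584) (.leaf 12181)))) (.node (.node (.node (.leaf 890) (.leaf 13140)) (.node (.leaf 2710) (.leaf 12933))) (.node (.node (.leaf 8530) (.leaf 7716)) (.node (.leaf 3379) (.leaf 9197))))) (.node (.node (.node (.node (.leaf 5945) (.leaf 7900)) (.node (.leaf 8228) (.leaf 11440))) (.node (.node (.leaf 5816) (.leaf 16228)) (.node (.leaf 8769) (.leaf 10196)))) (.node (.node (.node (.leaf 7997) (.leaf 5361)) (.node (.leaf 6954) (.leaf 11754))) (.node (.node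 (.leaf 7920) (.leaf 14809)) (.node (.leaf 5487) (.leaf 12896)))))) (.node (.node (.node (.node (.node (.leaf 388) (.leaf 3639)) (.node (.leaf 11953) (.leaf 11242))) (.node (.node (.leaf 8140) (.leaf 11501)) (.node (.leaf 14236) (.leaf 9315)))) (.node (.node (.node (.leaf 5900) (.leaf 8185)) (.node (.leaf 16001) (.leaf 5111))) (.node (.node (.leaf 5762) (.leaf 8333)) (.node (.leaf 3443) (.leaf 4983))))) (.node (.node (.node (.node (.leaf 723) (.leaf 5412)) (.node (.leaf 2659) (.leaf 14337))) (.node (.node (.leaf 1868) (.leaf 10932)) (.node (.leaf 5534) (.leaf 15311)))) (.node (.node (.node (.leaf 1316) (.leaf 5345)) (.node (.leaf 10723) (.leaf 11193))) (.node (.node (.leaf 2333) (.leaf 10806)) (.node (.leaf 3542) (.leaf 13169)))))))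

def twoRank238 : Janko.Tree (ℕ) :=
  (.node (.node (.node (.node (.node (.node (.leaf 6807) (.leaf 7426)) (.node (.leaf 14000) (.leaf 15722))) (.node (.node (.leaf 7921) (.leaf 16431)) (.node (.leaf 3045) (.leaf 13372)))) (.node (.node (.node (.leaf 891) (.leaf 13142)) (.node (.leaf 14051) (.leaf 6121))) (.node (.node (.leaf 2006) (.leaf 6231)) (.node (.leaf 13524) (.leaf 12555))))) (.node (.node (.node (.node (.leaf 551) (.leaf 6366)) (.node (.leaf 6569) (.leaf 7649))) (.node (.node (.leaf 10884) (.leaf 6260)) (.node (.leaf 10849) (.leaf 10200)))) (.node (.node (.node (.leaf 6719) (.leaf 7465)) (.node (.leaf 2825) (.leaf 15328))) (.node (.node (.leaf 7617) (.leaf 13797)) (.node (.leaf 3489) (.leaf 6001)))))) (.node (.node (.node (.node (.node (.leaf 7015) (.leaf 12903)) (.node (.leaf 7379) (.leaf 7251))) (.node (.node (.leaf 6682) (.leaf 12994)) (.node (.leaf 6480) (.leaf 9434)))) (.node (.node (.node (.leaf 1043) (.leaf 8181)) (.node (.leaf 16338) (.leaf 11059))) (.node (.node (.leaf 2125) (.leaf 9051)) (.node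 (.leaf 15239) (.leaf 12232))))) (.node (.node (.node (.node (.leaf 724) (.leaf 9700)) (.node (.leaf 10145) (.leaf 14341))) (.node (.node (.leaf 1869) (.leaf 10922)) (.node (.leaf 3297) (.leaf 9217)))) (.node (.node (.node (.leaf 6709) (.leaf 14393)) (.node (.leaf 9479) (.leaf 12458))) (.node (.node (.leaf 16211) (.leaf 10076)) (.node (.leaf 14767) (.leaf 12763)))))))

def twoRank239 : Janko.Tree (ℕ) :=
  (.node (.node (.node (.node (.node (.node (.leaf 193) (.leaf 8664)) (.node (.leaf 8557) (.leaf 8629))) (.node (.node (.leaf 1447) (.leaf 13881)) (.node (.leaf 3046) (.leaf 9022)))) (.node (.node (.node (.leaf 892) (.leaf 15096)) (.node (.leaf 11739) (.leaf 14282))) (.node (.node (.leaf 7135) (.leaf 6923)) (.node (.leaf 10634) (.leaf 10424))))) (.node (.node (.node (.node (.leaf 552) (.leaf 3674)) (.node (.leaf 2578) (.leaf 4035))) (.node (.node (.leaf 1731) (.leaf 13984)) (.node (.leaf 8921) (.leaf 7205)))) (.node (.node (.node (.leaf 6941) (.leaf 14673)) (.node (.leaf 2826) (.leaf 11750))) (.node (.node (.leaf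 2233) (.leaf 14804)) (.node (.leaf 10315) (.leaf 11752)))))) (.node (.node (.node (.node (.node (.leaf 389) (.leaf 3640)) (.node (.leaf 9767) (.leaf 9547))) (.node (.node (.leaf 1590) (.leaf 9668)) (.node (.leaf 3150) (.leaf 14328)))) (.node (.node (.node (.leaf 1044) (.leaf 8179)) (.node (.leaf 10019) (.leaf 11057))) (.node (.node (.leaf 2126) (.leaf 11330)) (.node (.leaf 13583) (.leaf 8567))))) (.node (.node (.node (.node (.leaf 725) (.leaf 9303)) (.node (.leaf 12332) (.leaf 10249))) (.node (.node (.leaf 14013) (.leaf 3819)) (.node (.leaf 14849) (.leaf 14128)))) (.node (.node (.node (.leaf 1317) (.leaf 13229)) (.node (.leaf 2950) (.leaf 11191))) (.node (.node (.leaf 2334) (.leaf 7073)) (.node (.leaf 16298) (.leaf 12066)))))))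

def twoRank240 : Janko.Tree (ℕ) :=
  (.node (.node (.node (.node (.node (.node (.leaf 194) (.leaf 7453)) (.node (.leaf 4718) (.leaf 10140))) (.node (.node (.leaf 14215) (.leaf 10235)) (.node (.leaf 9983) (.leaf 12911)))) (.node (.node (.node (.leaf 893) (.leaf 4453)) (.node (.leaf 14307) (.leaf 11908))) (.node (.node (.leaf 4768) (.leaf 16362)) (.node (.leaf 4555) (.leaf 15210))))) (.node (.node (.node (.node (.leaf 13849) (.leaf 8246)) (.node (.leaf 11043) (.leaf 16135))) (.node (.node (.leaf 1732) (.leaf 15174)) (.node (.leaf 7199) (.leaf 4166)))) (.node (.node (.node (.leaf 16282) (.leaf 4428)) (.node (.leaf 2827) (.leaf 13379))) (.node (.node (.leaf 16266) (.leaf 15269)) (.node (.leaf 3490) (.leaf 10938)))))) (.node (.node (.node (.node (.node (.leaf 390) (.leaf 11735)) (.node (.leaf 11373) (.leaf 7248))) (.node (.node (.leaf 1591) (.leaf 4392)) (.node (.leaf 3151) (.leaf 8480)))) (.node (.node (.node (.leaf 7522) (.leaf 11375)) (.node (.leaf 16020) (.leaf 9712))) (.node (.node (.leaf 7109) (.leaf 4333))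 (.node (.leaf 3444) (.leaf 10130))))) (.node (.node (.node (.node (.leaf 4889) (.leaf 12556)) (.node (.leaf 10825) (.leaf 15260))) (.node (.node (.leaf 1870) (.leaf 13061)) (.node (.leaf 14863) (.leaf 15871)))) (.node (.node (.node (.leaf 1318) (.leaf 13750)) (.node (.leaf 10859) (.leaf 12873))) (.node (.node (.leaf 4729) (.leaf 14131)) (.node (.leaf 4515) (.leaf 13880)))))))

def twoRank241 : Janko.Tree (ℕ) :=
  (.node (.node (.node (.node (.node (.node (.leaf 195) (.leaf 3588)) (.node (.leaf 7261) (.leaf 5196))) (.node (.node (.leaf 1448) (.leaf 9730)) (.node (.leaf 3047) (.leaf 9729)))) (.node (.node (.node (.leaf 5915) (.leaf 3730)) (.node (.leaf 5646) (.leaf 5131))) (.node (.node (.leaf 2007) (.leaf 13910)) (.node (.leaf 3380) (.leaf 4996))))) (.node (.node (.node (.node (.leaf 553) (.leaf 5427)) (.node (.leaf 11170) (.leaf 16137))) (.node (.node (.leaf 1733) (.leaf 15152)) (.node (.leaf 3225) (.leaf 11337)))) (.node (.node (.node (.leaf 1178) (.leaf 14860)) (.node (.leaf 5619) (.leaf 5093))) (.node (.node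 (.leaf 5745) (.leaf 15267)) (.node (.leaf 3491) (.leaf 4968)))))) (.node (.node (.node (.node (.node (.leaf 5961) (.leaf 5443)) (.node (.leaf 5693) (.leaf 7236))) (.node (.node (.leaf 1592) (.leaf 9676)) (.node (.leaf 3152) (.leaf 9412)))) (.node (.node (.node (.leaf 1045) (.leaf 9167)) (.node (.leaf 5632) (.leaf 5110))) (.node (.node (.leaf 2127) (.leaf 13760)) (.node (.leaf 5499) (.leaf 10077))))) (.node (.node (.node (.node (.leaf 726) (.leaf 3702)) (.node (.leaf 5663) (.leaf 5147))) (.node (.node (.leaf 1871) (.leaf 5277)) (.node (.leaf 3298) (.leaf 14210)))) (.node (.node (.node (.leaf 1319) (.leaf 3782)) (.node (.leaf 7757) (.leaf 5079))) (.node (.node (.leaf 7933) (.leaf 11880)) (.node (.leaf 7246) (.leaf 4948)))))))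

def twoRank242 : Janko.Tree (ℕ) :=
  (.node (.node (.node (.node (.node (.node (.leaf 196) (.leaf 9035)) (.node (.leaf 9341) (.leaf 12414))) (.node (.node (.leaf 15507) (.leaf 16365)) (.node (.leaf 3048) (.leaf 15293)))) (.node (.node (.node (.leaf 894) (.leaf 15709)) (.node (.leaf 2711) (.leaf 7569))) (.node (.node (.leaf 7847) (.leaf 13913)) (.node (.leaf 3381) (.leaf 16386))))) (.node (.node (.node (.node (.leaf 554) (.leaf 9376)) (.node (.leaf 2579) (.leaf 6148))) (.node (.node (.leaf 1734) (.leaf 6259)) (.node (.leaf 6469) (.leaf 15509)))) (.node (.node (.node (.leaf 1179) (.leaf 16100)) (.node (.leaf 2828) (.leaf 13448))) (.node (.node (.leaf 2234) (.leaf 6206)) (.node (.leaf 6417) (.leaf 16139)))))) (.node (.node (.node (.node (.node (.leaf 391) (.leaf 16350)) (.node (.leaf 2500) (.leaf 6163))) (.node (.node (.leaf 1593) (.leaf 7187)) (.node (.leaf 8691) (.leaf 11106)))) (.node (.node (.node (.leaf 6732) (.leaf 6322)) (.node (.leaf 2761) (.leaf 9720))) (.node (.node (.leaf 6633) (.leaf 7858)) (.node (.leaf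 14156) (.leaf 10071))))) (.node (.node (.node (.node (.leaf 727) (.leaf 6350)) (.node (.leaf 12239) (.leaf 4053))) (.node (.node (.leaf 6658) (.leaf 10921)) (.node (.leaf 14851) (.leaf 15505)))) (.node (.node (.node (.leaf 1320) (.leaf 12481)) (.node (.leaf 6505) (.leaf 13103))) (.node (.node (.leaf 7654) (.leaf 6190)) (.node (.leaf 8493) (.leaf 16435)))))))

def twoRank243 : Janko.Tree (ℕ) :=
  (.node (.node (.node (.node (.node (.node (.leaf 7142) (.leaf 10702)) (.node (.leaf 2437) (.leaf 12540))) (.node (.node (.leaf 9310) (.leaf 8372)) (.node (.leaf 8639) (.leaf 12388)))) (.node (.node (.node (.leaf 895) (.leaf 11693)) (.node (.leaf 14482) (.leaf 10632))) (.node (.node (.leaf 2008) (.leaf 12738)) (.node (.leaf 9804) (.leaf 11723))))) (.node (.node (.node (.node (.leaf 555) (.leaf 15886)) (.node (.leaf 7508) (.leaf 16133))) (.node (.node (.leaf 7839) (.leaf 15170)) (.node (.leaf 3226) (.leaf 14484)))) (.node (.node (.node (.leaf 7056) (.leaf 15599)) (.node (.leaf 10695) (.leaf 14961))) (.node (.node (.leaf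 7918) (.leaf 14983)) (.node (.leaf 3492) (.leaf 15340)))))) (.node (.node (.node (.node (.node (.leaf 392) (.leaf 11733)) (.node (.leaf 15104) (.leaf 11246))) (.node (.node (.leaf 7079) (.leaf 9833)) (.node (.leaf 3153) (.leaf 13700)))) (.node (.node (.node (.leaf 15512) (.leaf 10637)) (.node (.leaf 2762) (.leaf 8537))) (.node (.node (.leaf 12464) (.leaf 3917)) (.node (.leaf 14199) (.leaf 9432))))) (.node (.node (.node (.node (.leaf 728) (.leaf 10231)) (.node (.leaf 11765) (.leaf 14331))) (.node (.node (.leaf 1872) (.leaf 13240)) (.node (.leaf 3299) (.leaf 6983)))) (.node (.node (.node (.leaf 1321) (.leaf 11711)) (.node (.leaf 2951) (.leaf 11019))) (.node (.node (.leaf 2335) (.leaf 11878)) (.node (.leaf 9506) (.leaf 13066)))))))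

def twoRank244 : Janko.Tree (ℕ) :=
  (.node (.node (.node (.node (.node (.node (.leaf 197) (.leaf 4501)) (.node (.leaf 9347) (.leaf 13401))) (.node (.node (.leaf 4822) (.leaf 4405)) (.node (.leaf 4609) (.leaf 4194)))) (.node (.node (.node (.leaf 896) (.leaf 15088)) (.node (.leaf 2712) (.leaf 9799))) (.node (.node (.leaf 2009) (.leaf 12246)) (.node (.leaf 12359) (.leaf 4139))))) (.node (.node (.node (.node (.leaf 4904) (.leaf 13952)) (.node (.leaf 4691) (.leaf 11441))) (.node (.node (.leaf 7345) (.leaf 10024)) (.node (.leaf 15587) (.leaf 12803)))) (.node (.node (.node (.leaf 1180) (.leaf 9481)) (.node (.leaf 2829) (.leaf 12504))) (.node (.node (.leaf 7619) (.leaf 4323)) (.node (.leaf 3493) (.leaf 14957)))))) (.node (.node (.node (.node (.node (.leaf 393) (.leaf 3641)) (.node (.leaf 16201) (.leaf 10168))) (.node (.node (.leaf 4807) (.leaf 9875)) (.node (.leaf 16200) (.leaf 13805)))) (.node (.node (.node (.leaf 12743) (.leaf 4441)) (.node (.leaf 14642) (.leaf 13515))) (.node (.node (.leaf 11780) (.leaf 7589)) (.node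 (.leaf 15915) (.leaf 4120))))) (.node (.node (.node (.node (.leaf 729) (.leaf 7523)) (.node (.leaf 4675) (.leaf 11971))) (.node (.node (.leaf 1873) (.leaf 15629)) (.node (.leaf 3300) (.leaf 4153)))) (.node (.node (.node (.leaf 1322) (.leaf 3783)) (.node (.leaf 7759) (.leaf 12454))) (.node (.node (.leaf 2336) (.leaf 14825)) (.node (.leaf 8502) (.leaf 14488)))))))

def twoRank245 : Janko.Tree (ℕ) :=
  (.node (.node (.node (.node (.node (.node (.leaf 5975) (.leaf 11352)) (.node (.leaf 7944) (.leaf 12440))) (.node (.node (.leaf 7272) (.leaf 11380)) (.node (.leaf 7794) (.leaf 9705)))) (.node (.node (.node (.leaf 897) (.leaf 5391)) (.node (.leaf 14396) (.leaf 4066))) (.node (.node (.leaf 7806) (.leaf 5264)) (.node (.leaf 5518) (.leaf 12820))))) (.node (.node (.node (.node (.leaf 556) (.leaf 9349)) (.node (.leaf 7259) (.leaf 5165))) (.node (.node (.leaf 1735) (.leaf 15130)) (.node (.leaf 8529) (.leaf 11442)))) (.node (.node (.node (.leaf 5883) (.leaf 5360)) (.node (.leaf 10697) (.leaf 13039))) (.node (.node (.leaf 2235)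 (.leaf 13545)) (.node (.leaf 8511) (.leaf 4967)))))) (.node (.node (.node (.node (.node (.leaf 394) (.leaf 14741)) (.node (.leaf 11650) (.leaf 12527))) (.node (.node (.leaf 1594) (.leaf 5308)) (.node (.leaf 5566) (.leaf 11786)))) (.node (.node (.node (.leaf 1046) (.leaf 14880)) (.node (.leaf 6915) (.leaf 5109))) (.node (.node (.leaf 2128) (.leaf 5246)) (.node (.leaf 14154) (.leaf 13361))))) (.node (.node (.node (.node (.leaf 730) (.leaf 12452)) (.node (.leaf 11215) (.leaf 11399))) (.node (.node (.leaf 1874) (.leaf 13312)) (.node (.leaf 5533) (.leaf 10944)))) (.node (.node (.node (.leaf 5865) (.leaf 5344)) (.node (.leaf 10552) (.leaf 10508))) (.node (.node (.leaf 5729) (.leaf 5212)) (.node (.leaf 7721) (.leaf 14712)))))))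

def twoRank246 : Janko.Tree (ℕ) :=
  (.node (.node (.node (.node (.node (.node (.leaf 198) (.leaf 12245)) (.node (.leaf 6595) (.leaf 6178))) (.node (.node (.leaf 9420) (.leaf 13304)) (.node (.leaf 3049) (.leaf 9857)))) (.node (.node (.node (.leaf 6747) (.leaf 15529)) (.node (.leaf 16418) (.leaf 12081))) (.node (.node (.leaf 6645) (.leaf 13182)) (.node (.leaf 3382) (.leaf 9206))))) (.node (.node (.node (.node (.leaf 8816) (.leaf 15519)) (.node (.leaf 13647) (.leaf 13442))) (.node (.node (.leaf 6669) (.leaf 7501)) (.node (.leaf 3227) (.leaf 11335)))) (.node (.node (.node (.leaf 1181) (.leaf 12363)) (.node (.leaf 6518) (.leaf 6100))) (.node (.node (.leaf 6621) (.leaf 12627)) (.node (.leaf 7580) (.leaf 9839)))))) (.node (.node (.node (.node (.node (.leaf 6791) (.leaf 6379)) (.node (.leaf 10166) (.leaf 16175))) (.node (.node (.leaf 7809) (.leaf 9636)) (.node (.leaf 3154) (.leaf 13559)))) (.node (.node (.node (.leaf 1047) (.leaf 8728)) (.node (.leaf 6898) (.leaf 11075))) (.node (.node (.leaf 2129) (.leaf 9553)) (.node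 (.leaf 3445) (.leaf 16209))))) (.node (.node (.node (.node (.leaf 6761) (.leaf 6349)) (.node (.leaf 10176) (.leaf 13300))) (.node (.node (.leaf 9813) (.leaf 14206)) (.node (.leaf 12616) (.leaf 10942)))) (.node (.node (.node (.leaf 1323) (.leaf 15220)) (.node (.leaf 11249) (.leaf 10624))) (.node (.node (.leaf 15518) (.leaf 16235)) (.node (.leaf 6403) (.leaf 13843)))))))

def twoRank247 : Janko.Tree (ℕ) :=
  (.node (.node (.node (.node (.node (.node (.leaf 199) (.leaf 9595)) (.node (.leaf 15050) (.leaf 13452))) (.node (.node (.leaf 1449) (.leaf 12756)) (.node (.leaf 3050) (.leaf 9881)))) (.node (.node (.node (.leaf 898) (.leaf 16041)) (.node (.leaf 2713) (.leaf 8525))) (.node (.node (.leaf 6932) (.leaf 12115)) (.node (.leaf 8454) (.leaf 14732))))) (.node (.node (.node (.node (.leaf 557) (.leaf 6947)) (.node (.leaf 2580) (.leaf 14537))) (.node (.node (.leaf 1736) (.leaf 14718)) (.node (.leaf 3228) (.leaf 9030)))) (.node (.node (.node (.leaf 1182) (.leaf 13852)) (.node (.leaf 2830) (.leaf 11846))) (.node (.node (.leaf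 2236) (.leaf 16286)) (.node (.leaf 3494) (.leaf 12364)))))) (.node (.node (.node (.node (.node (.leaf 395) (.leaf 14578)) (.node (.leaf 2501) (.leaf 7709))) (.node (.node (.leaf 1595) (.leaf 9666)) (.node (.leaf 3155) (.leaf 14782)))) (.node (.node (.node (.leaf 7169) (.leaf 8693)) (.node (.leaf 15232) (.leaf 12176))) (.node (.node (.leaf 13412) (.leaf 9805)) (.node (.leaf 8695) (.leaf 9963))))) (.node (.node (.node (.node (.leaf 731) (.leaf 3703)) (.node (.leaf 2660) (.leaf 7865))) (.node (.node (.leaf 8523) (.leaf 13651)) (.node (.leaf 14173) (.leaf 4090)))) (.node (.node (.node (.leaf 1324) (.leaf 13898)) (.node (.leaf 2952) (.leaf 9029))) (.node (.node (.leaf 2337) (.leaf 14280)) (.node (.leaf 14127) (.leaf 13672)))))))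

def twoRank248 : Janko.Tree (ℕ) :=
  (.node (.node (.node (.node (.node (.node (.leaf 200) (.leaf 9728)) (.node (.leaf 4717) (.leaf 8607))) (.node (.node (.leaf 9373) (.leaf 3796)) (.node (.leaf 4608) (.leaf 9703)))) (.node (.node (.node (.leaf 899) (.leaf 3731)) (.node (.leaf 4661) (.leaf 4250))) (.node (.node (.leaf 2010) (.leaf 16377)) (.node (.leaf 3383) (.leaf 12989))))) (.node (.node (.node (.node (.leaf 8819) (.leaf 12329)) (.node (.leaf 7675) (.leaf 15897))) (.node (.node (.leaf 1737) (.leaf 15073)) (.node (.leaf 4585) (.leaf 9880)))) (.node (.node (.node (.leaf 13243) (.leaf 8904)) (.node (.leaf 10356) (.leaf 14529))) (.node (.node (.leaf 8823) (.leaf 13338)) (.node (.leaf 14984) (.leaf 16359)))))) (.node (.node (.node (.node (.node (.leaf 396) (.leaf 12941)) (.node (.leaf 4703) (.leaf 4286))) (.node (.node (.leaf 1596) (.leaf 9659)) (.node (.leaf 14089) (.leaf 13676)))) (.node (.node (.node (.leaf 4860) (.leaf 8676)) (.node (.leaf 12321) (.leaf 4238))) (.node (.node (.leaf 4757) (.leaf 12400)) (.node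 (.leaf 4542) (.leaf 15244))))) (.node (.node (.node (.node (.leaf 732) (.leaf 10220)) (.node (.leaf 10082) (.leaf 9522))) (.node (.node (.leaf 1875) (.leaf 4361)) (.node (.leaf 16152) (.leaf 4152)))) (.node (.node (.node (.leaf 7682) (.leaf 4416)) (.node (.leaf 4622) (.leaf 13586))) (.node (.node (.leaf 13149) (.leaf 10740)) (.node (.leaf 4514) (.leaf 4096)))))))

def twoRank249 : Janko.Tree (ℕ) :=
  (.node (.node (.node (.node (.node (.node (.leaf 201) (.leaf 5460)) (.node (.leaf 2438) (.leaf 11070))) (.node (.node (.leaf 7903) (.leaf 8273)) (.node (.leaf 3051) (.leaf 9878)))) (.node (.node (.node (.leaf 900) (.leaf 15531)) (.node (.leaf 11769) (.leaf 16016))) (.node (.node (.leaf 11306) (.leaf 5263)) (.node (.leaf 3384) (.leaf 13028))))) (.node (.node (.node (.node (.leaf 558) (.leaf 13645)) (.node (.leaf 2581) (.leaf 15772))) (.node (.node (.leaf 1738) (.leaf 15223)) (.node (.leaf 8120) (.leaf 5031)))) (.node (.node (.node (.leaf 1183) (.leaf 3766)) (.node (.leaf 8347) (.leaf 5092))) (.node (.node (.leaf 7902)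 (.leaf 12503)) (.node (.leaf 5486) (.leaf 15944)))))) (.node (.node (.node (.node (.node (.leaf 397) (.leaf 5442)) (.node (.leaf 9160) (.leaf 13577))) (.node (.node (.leaf 7788) (.leaf 10312)) (.node (.leaf 3156) (.leaf 11459)))) (.node (.node (.node (.leaf 1048) (.leaf 15131)) (.node (.leaf 5631) (.leaf 10439))) (.node (.node (.leaf 2130) (.leaf 3918)) (.node (.leaf 12916) (.leaf 4982))))) (.node (.node (.node (.node (.leaf 733) (.leaf 3704)) (.node (.leaf 12013) (.leaf 12608))) (.node (.node (.leaf 5798) (.leaf 9260)) (.node (.leaf 3301) (.leaf 7879)))) (.node (.node (.node (.leaf 10773) (.leaf 15515)) (.node (.leaf 2953) (.leaf 13513))) (.node (.node (.leaf 2338) (.leaf 5211)) (.node (.leaf 8638) (.leaf 9795)))))))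

def twoRank250 : Janko.Tree (ℕ) :=
  (.node (.node (.node (.node (.node (.node (.leaf 6806) (.leaf 3589)) (.node (.leaf 6991) (.leaf 15874))) (.node (.node (.leaf 6696) (.leaf 6279)) (.node (.leaf 10299) (.leaf 6076)))) (.node (.node (.node (.leaf 901) (.leaf 15799)) (.node (.leaf 7186) (.leaf 12008))) (.node (.node (.leaf 2011) (.leaf 14663)) (.node (.leaf 6443) (.leaf 13224))))) (.node (.node (.node (.node (.leaf 6776) (.leaf 13488)) (.node (.leaf 6568) (.leaf 15899))) (.node (.node (.leaf 1739) (.leaf 15395)) (.node (.leaf 7844) (.leaf 13029)))) (.node (.node (.node (.leaf 9653) (.leaf 12876)) (.node (.leaf 8321) (.leaf 12788))) (.node (.node (.leaf 7912) (.leaf 6205)) (.node (.leaf 14794) (.leaf 6000)))))) (.node (.node (.node (.node (.node (.leaf 398) (.leaf 8986)) (.node (.leaf 7206) (.leaf 8026))) (.node (.node (.leaf 6681) (.leaf 9661)) (.node (.leaf 14460) (.leaf 15160)))) (.node (.node (.node (.leaf 10381) (.leaf 6321)) (.node (.leaf 11761) (.leaf 12804))) (.node (.node (.leaf 2131) (.leaf 3919)) (.node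 (.leaf 6967) (.leaf 12921))))) (.node (.node (.node (.node (.leaf 8784) (.leaf 14305)) (.node (.leaf 6557) (.leaf 6133))) (.node (.node (.leaf 1876) (.leaf 11987)) (.node (.leaf 6454) (.leaf 7647)))) (.node (.node (.node (.leaf 6708) (.leaf 11292)) (.node (.leaf 6982) (.leaf 9031))) (.node (.node (.leaf 2339) (.leaf 10411)) (.node (.leaf 14760) (.leaf 9800)))))))

def twoRank251 : Janko.Tree (ℕ) :=
  (.node (.node (.node (.node (.node (.node (.leaf 202) (.leaf 8368)) (.node (.leaf 2439) (.leaf 12717))) (.node (.node (.leaf 14434) (.leaf 12281)) (.node (.leaf 16317) (.leaf 9876)))) (.node (.node (.node (.leaf 902) (.leaf 3732)) (.node (.leaf 8553) (.leaf 16014))) (.node (.node (.leaf 2012) (.leaf 9592)) (.node (.leaf 10253) (.leaf 9199))))) (.node (.node (.node (.node (.leaf 559) (.leaf 8939)) (.node (.leaf 16079) (.leaf 8442))) (.node (.node (.leaf 1740) (.leaf 8588)) (.node (.leaf 3229) (.leaf 8389)))) (.node (.node (.node (.leaf 1184) (.leaf 8902)) (.node (.leaf 10660) (.leaf 13057))) (.node (.node (.leaf 7904)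 (.leaf 9387)) (.node (.leaf 15270) (.leaf 15420)))))) (.node (.node (.node (.node (.node (.leaf 7428) (.leaf 3642)) (.node (.leaf 9168) (.leaf 12617))) (.node (.node (.leaf 6938) (.leaf 9638)) (.node (.leaf 3157) (.leaf 13427)))) (.node (.node (.node (.leaf 1049) (.leaf 8535)) (.node (.leaf 2763) (.leaf 10003))) (.node (.node (.leaf 2132) (.leaf 13616)) (.node (.leaf 3446) (.leaf 8575))))) (.node (.node (.node (.node (.leaf 734) (.leaf 9393)) (.node (.leaf 12011) (.leaf 4054))) (.node (.node (.leaf 1877) (.leaf 3820)) (.node (.leaf 3302) (.leaf 11639)))) (.node (.node (.node (.leaf 1325) (.leaf 15528)) (.node (.leaf 2954) (.leaf 15407))) (.node (.node (.leaf 2340) (.leaf 15333)) (.node (.leaf 3543) (.leaf 10748)))))))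

def twoRank252 : Janko.Tree (ℕ) :=
  (.node (.node (.node (.node (.node (.node (.leaf 203) (.leaf 13206)) (.node (.leaf 7670) (.leaf 11142))) (.node (.node (.leaf 7901) (.leaf 13320)) (.node (.leaf 3052) (.leaf 4193)))) (.node (.node (.node (.leaf 903) (.leaf 15112)) (.node (.leaf 16253) (.leaf 16185))) (.node (.node (.leaf 2013) (.leaf 14822)) (.node (.leaf 3385) (.leaf 4138))))) (.node (.node (.node (.node (.leaf 560) (.leaf 12046)) (.node (.leaf 9838) (.leaf 4036))) (.node (.node (.leaf 4795) (.leaf 12148)) (.node (.leaf 3230) (.leaf 13253)))) (.node (.node (.node (.leaf 1185) (.leaf 8068)) (.node (.leaf 2831) (.leaf 8933))) (.node (.node (.leaf 10467) (.leaf 12413)) (.node (.leaf 11598) (.leaf 11829)))))) (.node (.node (.node (.node (.node (.leaf 4917) (.leaf 7419)) (.node (.leaf 2502) (.leaf 12596))) (.node (.node (.leaf 1597) (.leaf 4391)) (.node (.leaf 4597) (.leaf 4177)))) (.node (.node (.node (.leaf 1050) (.leaf 3752)) (.node (.leaf 9696) (.leaf 9974))) (.node (.node (.leaf 2133) (.leaf 14275)) (.node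 (.leaf 11071) (.leaf 12945))))) (.node (.node (.node (.node (.leaf 4888) (.leaf 16053)) (.node (.leaf 9419) (.leaf 8091))) (.node (.node (.leaf 12879) (.leaf 12387)) (.node (.leaf 14916) (.leaf 11439)))) (.node (.node (.node (.leaf 1326) (.leaf 11620)) (.node (.leaf 8773) (.leaf 4209))) (.node (.node (.leaf 4728) (.leaf 14518)) (.node (.leaf 16387) (.leaf 11890)))))))

def twoRank253 : Janko.Tree (ℕ) :=
  (.node (.node (.node (.node (.node (.node (.leaf 204) (.leaf 8370)) (.node (.leaf 5710) (.leaf 5195))) (.node (.node (.leaf 7897) (.leaf 11933)) (.node (.leaf 5583) (.leaf 13250)))) (.node (.node (.node (.leaf 5914) (.leaf 16267)) (.node (.leaf 9394) (.leaf 5130))) (.node (.node (.leaf 5781) (.leaf 14222)) (.node (.leaf 8543) (.leaf 9960))))) (.node (.node (.node (.node (.leaf 561) (.leaf 5426)) (.node (.leaf 2582) (.leaf 5164))) (.node (.node (.leaf 7150) (.leaf 9429)) (.node (.leaf 7821) (.leaf 11025)))) (.node (.node (.node (.leaf 5882) (.leaf 14974)) (.node (.leaf 5618) (.leaf 15402))) (.node (.node (.leaf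 8942) (.leaf 9350)) (.node (.leaf 14520) (.leaf 14490)))))) (.node (.node (.node (.node (.node (.leaf 7287) (.leaf 8233)) (.node (.leaf 11240) (.leaf 14554))) (.node (.node (.leaf 1598) (.leaf 9413)) (.node (.leaf 3158) (.leaf 15823)))) (.node (.node (.node (.leaf 1051) (.leaf 5378)) (.node (.leaf 9640) (.leaf 5108))) (.node (.node (.leaf 2134) (.leaf 13537)) (.node (.leaf 5498) (.leaf 4981))))) (.node (.node (.node (.node (.leaf 735) (.leaf 5411)) (.node (.leaf 11052) (.leaf 5146))) (.node (.node (.leaf 1878) (.leaf 12940)) (.node (.leaf 3303) (.leaf 5014)))) (.node (.node (.node (.leaf 1327) (.leaf 14345)) (.node (.leaf 5601) (.leaf 12955))) (.node (.node (.leaf 2341) (.leaf 14374)) (.node (.leaf 8708) (.leaf 10295)))))))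

def twoRank254 : Janko.Tree (ℕ) :=
  (.node (.node (.node (.node (.node (.node (.leaf 205) (.leaf 6390)) (.node (.leaf 7412) (.leaf 11266))) (.node (.node (.leaf 10831) (.leaf 11931)) (.node (.leaf 3053) (.leaf 9840)))) (.node (.node (.node (.leaf 904) (.leaf 3733)) (.node (.leaf 2714) (.leaf 14080))) (.node (.node (.leaf 2014) (.leaf 6230)) (.node (.leaf 3386) (.leaf 9933))))) (.node (.node (.node (.node (.leaf 562) (.leaf 7991)) (.node (.leaf 9836) (.leaf 9219))) (.node (.node (.leaf 1741) (.leaf 13834)) (.node (.leaf 6468) (.leaf 10622)))) (.node (.node (.node (.leaf 1186) (.leaf 6308)) (.node (.leaf 7440) (.leaf 13154))) (.node (.node (.leaf 6620) (.leaf 12740)) (.node (.leaf 6416) (.leaf 5999)))))) (.node (.node (.node (.node (.node (.leaf 7557) (.leaf 6378)) (.node (.leaf 2503) (.leaf 7370))) (.node (.node (.leaf 1599) (.leaf 7195)) (.node (.leaf 6977) (.leaf 15825)))) (.node (.node (.node (.leaf 6731) (.leaf 8153)) (.node (.leaf 9646) (.leaf 9993))) (.node (.node (.leaf 6632) (.leaf 6220)) (.node (.leaf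 13810) (.leaf 13804))))) (.node (.node (.node (.node (.leaf 7127) (.leaf 13879)) (.node (.leaf 9423) (.leaf 8089))) (.node (.node (.leaf 6657) (.leaf 6245)) (.node (.leaf 14043) (.leaf 16111)))) (.node (.node (.node (.leaf 1328) (.leaf 6295)) (.node (.leaf 2955) (.leaf 7479))) (.node (.node (.leaf 2342) (.leaf 13886)) (.node (.leaf 3544) (.leaf 10251)))))))

def twoRank255 : Janko.Tree (ℕ) :=
  (.node (.node (.node (.node (.node (.node (.leaf 206) (.leaf 11621)) (.node (.leaf 14437) (.leaf 4000))) (.node (.node (.leaf 1450) (.leaf 8408)) (.node (.leaf 3054) (.leaf 15374)))) (.node (.node (.node (.leaf 905) (.leaf 7052)) (.node (.leaf 7184) (.leaf 8619))) (.node (.node (.leaf 8920) (.leaf 3868)) (.node (.leaf 12202) (.leaf 10184))))) (.node (.node (.node (.node (.leaf 563) (.leaf 7990)) (.node (.leaf 9017) (.leaf 4037))) (.node (.node (.leaf 1742) (.leaf 6839)) (.node (.leaf 3231) (.leaf 11023)))) (.node (.node (.node (.leaf 9014) (.leaf 12333)) (.node (.leaf 2832) (.leaf 7024))) (.node (.node (.leaf 2237) (.leaf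 9322)) (.node (.leaf 14522) (.leaf 11751)))))) (.node (.node (.node (.node (.node (.leaf 399) (.leaf 3643)) (.node (.leaf 7377) (.leaf 16415))) (.node (.node (.leaf 7388) (.leaf 15766)) (.node (.leaf 3159) (.leaf 16099)))) (.node (.node (.node (.leaf 1052) (.leaf 8616)) (.node (.leaf 9320) (.leaf 9966))) (.node (.node (.leaf 2135) (.leaf 14231)) (.node (.leaf 15989) (.leaf 11143))))) (.node (.node (.node (.node (.leaf 736) (.leaf 14531)) (.node (.leaf 2661) (.leaf 12915))) (.node (.node (.leaf 9835) (.leaf 13228)) (.node (.leaf 7123) (.leaf 10946)))) (.node (.node (.node (.leaf 7182) (.leaf 3784)) (.node (.leaf 2956) (.leaf 12845))) (.node (.node (.leaf 2343) (.leaf 10566)) (.node (.leaf 8702) (.leaf 15418)))))))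

def twoRank : Janko.Tree (ℕ) := (.node (.node (.node (.node (.node (.node (.node (.node twoRank0 twoRank128) (.node twoRank64 twoRank192)) (.node (.node twoRank32 twoRank160) (.node twoRank96 twoRank224))) (.node (.node (.node twoRank16 twoRank144) (.node twoRank80 twoRank208)) (.node (.node twoRank48 twoRank176) (.node twoRank112 twoRank240)))) (.node (.node (.node (.node twoRank8 twoRank136) (.node twoRank72 twoRank200)) (.node (.node twoRank40 twoRank168) (.node twoRank104 twoRank232))) (.node (.node (.node twoRank24 twoRank152) (.node twoRank88 twoRank216)) (.node (.node twoRank56 twoRank184) (.node twoRank120 twoRank248))))) (.node (.node (.node (.node (.node twoRank4 twoRank132) (.node twoRank68 twoRank196)) (.node (.node twoRank36 twoRank164) (.node twoRank100 twoRank228))) (.node (.node (.node twoRank20 twoRank148) (.node twoRank84 twoRank212)) (.node (.node twoRank52 twoRank180) (.node twoRank116 twoRank244)))) (.node (.node (.node (.node twoRank12 twoRank140) (.node twoRank76 twoRank204)) (.node (.node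 twoRank44 twoRank172) (.node twoRank108 twoRank236))) (.node (.node (.node twoRank28 twoRank156) (.node twoRank92 twoRank220)) (.node (.node twoRank60 twoRank188) (.node twoRank124 twoRank252)))))) (.node (.node (.node (.node (.node (.node twoRank2 twoRank130) (.node twoRank66 twoRank194)) (.node (.node twoRank34 twoRank162) (.node twoRank98 twoRank226))) (.node (.node (.node twoRank18 twoRank146) (.node twoRank82 twoRank210)) (.node (.node twoRank50 twoRank178) (.node twoRank114 twoRank242)))) (.node (.node (.node (.node twoRank10 twoRank138) (.node twoRank74 twoRank202)) (.node (.node twoRank42 twoRank170) (.node twoRank106 twoRank234))) (.node (.node (.node twoRank26 twoRank154) (.node twoRank90 twoRank218)) (.node (.node twoRank58 twoRank186) (.node twoRank122 twoRank250))))) (.node (.node (.node (.node (.node twoRank6 twoRank134) (.node twoRank70 twoRank198)) (.node (.node twoRank38 twoRank166) (.node twoRank102 twoRank230))) (.node (.node (.node twoRank22 twoRank150) (.node twoRank86 twoRank214)) (.node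 (.node twoRank54 twoRank182) (.node twoRank118 twoRank246)))) (.node (.node (.node (.node twoRank14 twoRank142) (.node twoRank78 twoRank206)) (.node (.node twoRank46 twoRank174) (.node twoRank110 twoRank238))) (.node (.node (.node twoRank30 twoRank158) (.node twoRank94 twoRank222)) (.node (.node twoRank62 twoRank190) (.node twoRank126 twoRank254))))))) (.node (.node (.node (.node (.node (.node (.node twoRank1 twoRank129) (.node twoRank65 twoRank193)) (.node (.node twoRank33 twoRank161) (.node twoRank97 twoRank225))) (.node (.node (.node twoRank17 twoRank145) (.node twoRank81 twoRank209)) (.node (.node twoRank49 twoRank177) (.node twoRank113 twoRank241)))) (.node (.node (.node (.node twoRank9 twoRank137) (.node twoRank73 twoRank201)) (.node (.node twoRank41 twoRank169) (.node twoRank105 twoRank233))) (.node (.node (.node twoRank25 twoRank153) (.node twoRank89 twoRank217)) (.node (.node twoRank57 twoRank185) (.node twoRank121 twoRank249))))) (.node (.node (.node (.node (.node twoRank5 twoRank133) (.node twoRank69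 twoRank197)) (.node (.node twoRank37 twoRank165) (.node twoRank101 twoRank229))) (.node (.node (.node twoRank21 twoRank149) (.node twoRank85 twoRank213)) (.node (.node twoRank53 twoRank181) (.node twoRank117 twoRank245)))) (.node (.node (.node (.node twoRank13 twoRank141) (.node twoRank77 twoRank205)) (.node (.node twoRank45 twoRank173) (.node twoRank109 twoRank237))) (.node (.node (.node twoRank29 twoRank157) (.node twoRank93 twoRank221)) (.node (.node twoRank61 twoRank189) (.node twoRank125 twoRank253)))))) (.node (.node (.node (.node (.node (.node twoRank3 twoRank131) (.node twoRank67 twoRank195)) (.node (.node twoRank35 twoRank163) (.node twoRank99 twoRank227))) (.node (.node (.node twoRank19 twoRank147) (.node twoRank83 twoRank211)) (.node (.node twoRank51 twoRank179) (.node twoRank115 twoRank243)))) (.node (.node (.node (.node twoRank11 twoRank139) (.node twoRank75 twoRank203)) (.node (.node twoRank43 twoRank171) (.node twoRank107 twoRank235))) (.node (.node (.node twoRank27 twoRank155) (.node twoRank91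 twoRank219)) (.node (.node twoRank59 twoRank187) (.node twoRank123 twoRank251))))) (.node (.node (.node (.node (.node twoRank7 twoRank135) (.node twoRank71 twoRank199)) (.node (.node twoRank39 twoRank167) (.node twoRank103 twoRank231))) (.node (.node (.node twoRank23 twoRank151) (.node twoRank87 twoRank215)) (.node (.node twoRank55 twoRank183) (.node twoRank119 twoRank247)))) (.node (.node (.node (.node twoRank15 twoRank143) (.node twoRank79 twoRank207)) (.node (.node twoRank47 twoRank175) (.node twoRank111 twoRank239))) (.node (.node (.node twoRank31 twoRank159) (.node twoRank95 twoRank223)) (.node (.node twoRank63 twoRank191) (.node twoRank127 twoRank255))))))))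

def twoVia0 : Janko.Tree (ℕ × ℕ) :=
  (.node (.node (.node (.node (.node (.node (.node (.leaf (0, 0)) (.leaf (0, 0))) (.leaf (0, 0))) (.node (.leaf (0, 0)) (.leaf (0, 3072)))) (.node (.node (.leaf (0, 512)) (.leaf (0, 2560))) (.node (.leaf (0, 0)) (.leaf (0, 3584))))) (.node (.node (.node (.leaf (0, 0)) (.leaf (0, 2304))) (.node (.leaf (0, 1647)) (.leaf (73, 3188)))) (.node (.node (.leaf (35, 768)) (.leaf (0, 2816))) (.node (.leaf (0, 1792)) (.leaf (71, 3840)))))) (.node (.node (.node (.node (.leaf (35, 582)) (.leaf (0, 0))) (.node (.leaf (0, 1152)) (.leaf (0, 3200)))) (.node (.node (.leaf (0, 640)) (.leaf (76, 2688))) (.node (.leaf (69, 2910)) (.leaf (0, 3963))))) (.node (.node (.node (.leaf (0, 0)) (.leaf (76, 2432))) (.node (.leaf (76, 1408)) (.leaf (62, 2703)))) (.node (.node (.leaf (67, 668)) (.leaf (76, 2944))) (.node (.leaf (15, 1920)) (.leaf (0, 3968))))))) (.node (.node (.node (.node (.node (.leaf (0, 64)) (.leaf (0, 0))) (.node (.leaf (76, 2823)) (.leaf (67, 3329)))) (.node (.node (.leaf (0, 576))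 (.leaf (62, 2624))) (.node (.leaf (75, 3852)) (.leaf (73, 3758))))) (.node (.node (.node (.leaf (0, 0)) (.leaf (0, 2368))) (.node (.leaf (0, 1344)) (.leaf (71, 2398)))) (.node (.node (.leaf (67, 832)) (.leaf (0, 0))) (.node (.leaf (8, 263)) (.leaf (62, 3904)))))) (.node (.node (.node (.node (.leaf (0, 192)) (.leaf (0, 0))) (.node (.leaf (34, 3944)) (.leaf (76, 3264)))) (.node (.node (.leaf (0, 0)) (.leaf (0, 2752))) (.node (.leaf (0, 1728)) (.leaf (0, 3942))))) (.node (.node (.node (.leaf (77, 2279)) (.leaf (0, 2496))) (.node (.leaf (0, 0)) (.leaf (66, 3658)))) (.node (.node (.leaf (74, 960)) (.leaf (62, 2083))) (.node (.leaf (77, 2289)) (.leaf (71, 3743))))))))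

def twoVia1 : Janko.Tree (ℕ × ℕ) :=
  (.node (.node (.node (.node (.node (.node (.node (.leaf (0, 0)) (.leaf (1, 0))) (.leaf (1, 2048))) (.node (.leaf (1, 1024)) (.leaf (77, 1612)))) (.node (.node (.leaf (41, 158)) (.leaf (76, 1304))) (.node (.leaf (66, 833)) (.leaf (57, 2104))))) (.node (.node (.node (.leaf (1, 256)) (.leaf (75, 2860))) (.node (.leaf (1, 1280)) (.leaf (1, 3328)))) (.node (.node (.leaf (0, 0)) (.leaf (1, 2816))) (.node (.leaf (65, 727)) (.leaf (1, 3840)))))) (.node (.node (.node (.node (.leaf (0, 0)) (.leaf (66, 3584))) (.node (.leaf (0, 0)) (.leaf (30, 1700)))) (.node (.node (.leaf (0, 0)) (.leaf (76, 3314))) (.node (.leaf (1, 2983)) (.leaf (58, 1076))))) (.node (.node (.node (.leaf (0, 0)) (.leaf (66, 655))) (.node (.leaf (1, 2658)) (.leaf (1, 3975)))) (.node (.node (.leaf (67, 1495)) (.leaf (1, 2944))) (.node (.leaf (40, 3134)) (.leaf (1, 3968))))))) (.node (.node (.node (.node (.node (.leaf (0, 0)) (.leaf (76, 3591))) (.node (.leaf (66, 536)) (.leaf (76, 1958)))) (.node (.node (.leaf (0,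 0)) (.leaf (61, 2801))) (.node (.leaf (0, 0)) (.leaf (1, 3648))))) (.node (.node (.node (.leaf (0, 0)) (.leaf (15, 1036))) (.node (.leaf (57, 518)) (.leaf (35, 2181)))) (.node (.node (.leaf (0, 0)) (.leaf (1, 2880))) (.node (.leaf (0, 0)) (.leaf (1, 3904)))))) (.node (.node (.node (.node (.leaf (0, 0)) (.leaf (76, 3125))) (.node (.leaf (1, 1216)) (.leaf (0, 0)))) (.node (.node (.leaf (1, 704)) (.leaf (62, 1390))) (.node (.leaf (0, 0)) (.leaf (1, 3776))))) (.node (.node (.node (.leaf (0, 0)) (.leaf (76, 1141))) (.node (.leaf (0, 0)) (.leaf (1, 3520)))) (.node (.node (.leaf (0, 0)) (.leaf (1, 3008))) (.node (.leaf (1, 1984)) (.leaf (1, 4032))))))))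

def twoVia2 : Janko.Tree (ℕ × ℕ) :=
  (.node (.node (.node (.node (.node (.node (.node (.leaf (0, 0)) (.leaf (2, 0))) (.leaf (58, 2983))) (.node (.leaf (0, 0)) (.leaf (77, 890)))) (.node (.node (.leaf (67, 10)) (.leaf (67, 3428))) (.node (.leaf (2, 2893)) (.leaf (8, 2104))))) (.node (.node (.node (.leaf (0, 0)) (.leaf (71, 3944))) (.node (.leaf (76, 2909)) (.leaf (2, 3328)))) (.node (.node (.leaf (74, 486)) (.leaf (66, 2563))) (.node (.leaf (62, 3334)) (.leaf (2, 3840)))))) (.node (.node (.node (.node (.leaf (2, 128)) (.leaf (0, 0))) (.node (.leaf (6, 1709)) (.leaf (70, 1217)))) (.node (.node (.leaf (51, 224)) (.leaf (2, 2688))) (.node (.leaf (0, 0)) (.leaf (66, 2361))))) (.node (.node (.node (.leaf (0, 0)) (.leaf (76, 1579))) (.node (.leaf (2, 1408)) (.leaf (66, 2617)))) (.node (.node (.leaf (67, 698)) (.leaf (62, 604))) (.node (.leaf (2, 1920)) (.leaf (76, 2544))))))) (.node (.node (.node (.node (.node (.leaf (0, 0)) (.leaf (57, 1266))) (.node (.leaf (2, 2409)) (.leaf (66, 457)))) (.node (.node (.leaf (6,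 1242)) (.leaf (77, 2400))) (.node (.leaf (2, 1600)) (.leaf (76, 1083))))) (.node (.node (.node (.leaf (2, 320)) (.leaf (2, 2368))) (.node (.leaf (12, 17)) (.leaf (2, 3392)))) (.node (.node (.leaf (2, 832)) (.leaf (47, 3864))) (.node (.leaf (2, 1856)) (.leaf (2, 3904)))))) (.node (.node (.node (.node (.leaf (8, 471)) (.leaf (2, 2240))) (.node (.leaf (35, 813)) (.leaf (62, 3544)))) (.node (.node (.leaf (0, 0)) (.leaf (64, 2459))) (.node (.leaf (2, 1728)) (.leaf (69, 3706))))) (.node (.node (.node (.leaf (2, 448)) (.leaf (6, 3194))) (.node (.leaf (2, 1472)) (.leaf (76, 1377)))) (.node (.node (.leaf (0, 0)) (.leaf (67, 2087))) (.node (.leaf (0, 0)) (.leaf (66, 3520))))))))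

def twoVia3 : Janko.Tree (ℕ × ℕ) :=
  (.node (.node (.node (.node (.node (.node (.node (.leaf (0, 0)) (.leaf (3, 0))) (.leaf (21, 812))) (.node (.leaf (43, 34)) (.leaf (59, 416)))) (.node (.node (.leaf (76, 373)) (.leaf (67, 379))) (.node (.leaf (4, 207)) (.leaf (32, 1423))))) (.node (.node (.node (.leaf (0, 0)) (.leaf (77, 2262))) (.node (.leaf (0, 0)) (.leaf (4, 735)))) (.node (.node (.leaf (0, 0)) (.leaf (67, 3794))) (.node (.leaf (0, 0)) (.leaf (40, 1504)))))) (.node (.node (.node (.node (.leaf (0, 0)) (.leaf (64, 3879))) (.node (.leaf (0, 0)) (.leaf (74, 2718)))) (.node (.node (.leaf (0, 0)) (.leaf (66, 2025))) (.node (.leaf (24, 640)) (.leaf (73, 3238))))) (.node (.node (.node (.leaf (0, 0)) (.leaf (77, 2700))) (.node (.leaf (75, 3898)) (.leaf (65, 1564)))) (.node (.node (.leaf (0, 0)) (.leaf (77, 1726))) (.node (.leaf (0, 0)) (.leaf (73, 2590))))))) (.node (.node (.node (.node (.node (.leaf (0, 0)) (.leaf (67, 1666))) (.node (.leaf (4, 126)) (.leaf (14, 692)))) (.node (.node (.leaf (0, 0)) (.leaf (44,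 120))) (.node (.leaf (71, 2332)) (.leaf (66, 934))))) (.node (.node (.node (.leaf (0, 0)) (.leaf (67, 334))) (.node (.leaf (67, 747)) (.leaf (74, 2445)))) (.node (.node (.leaf (0, 0)) (.leaf (0, 0))) (.node (.leaf (0, 0)) (.leaf (22, 3685)))))) (.node (.node (.node (.node (.leaf (0, 0)) (.leaf (77, 3201))) (.node (.leaf (0, 0)) (.leaf (76, 3544)))) (.node (.node (.leaf (76, 936)) (.leaf (73, 2410))) (.node (.leaf (0, 0)) (.leaf (43, 331))))) (.node (.node (.node (.leaf (0, 0)) (.leaf (67, 3291))) (.node (.leaf (0, 0)) (.leaf (50, 3212)))) (.node (.node (.leaf (0, 0)) (.leaf (0, 0))) (.node (.leaf (77, 3244)) (.leaf (76, 2428))))))))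

def twoVia4 : Janko.Tree (ℕ × ℕ) :=
  (.node (.node (.node (.node (.node (.node (.node (.leaf (0, 1)) (.leaf (4, 0))) (.leaf (77, 3983))) (.node (.leaf (76, 3359)) (.leaf (0, 0)))) (.node (.node (.leaf (0, 0)) (.leaf (0, 0))) (.node (.leaf (0, 1537)) (.leaf (8, 3585))))) (.node (.node (.node (.leaf (0, 0)) (.leaf (75, 2754))) (.node (.leaf (21, 2723)) (.leaf (58, 3329)))) (.node (.node (.leaf (0, 769)) (.leaf (76, 2853))) (.node (.leaf (71, 628)) (.leaf (77, 3841)))))) (.node (.node (.node (.node (.leaf (0, 0)) (.leaf (0, 0))) (.node (.leaf (57, 1153)) (.leaf (0, 3201)))) (.node (.node (.leaf (0, 0)) (.leaf (71, 711))) (.node (.leaf (0, 1665)) (.leaf (62, 3713))))) (.node (.node (.node (.leaf (0, 385)) (.leaf (0, 2433))) (.node (.leaf (64, 3619)) (.leaf (76, 3457)))) (.node (.node (.leaf (0, 897)) (.leaf (71, 2195))) (.node (.leaf (77, 1921)) (.leaf (76, 3969))))))) (.node (.node (.node (.node (.node (.leaf (0, 0)) (.leaf (0, 2113))) (.node (.leaf (0, 1089)) (.leaf (57, 1947)))) (.node (.node (.leaf (9, 1578))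 (.leaf (0, 2625))) (.node (.leaf (76, 1817)) (.leaf (73, 3649))))) (.node (.node (.node (.leaf (76, 2724)) (.leaf (71, 3693))) (.node (.leaf (71, 2590)) (.leaf (77, 3695)))) (.node (.node (.leaf (46, 1071)) (.leaf (6, 2883))) (.node (.leaf (0, 0)) (.leaf (75, 2563)))))) (.node (.node (.node (.node (.leaf (67, 86)) (.leaf (52, 2241))) (.node (.leaf (67, 1217)) (.leaf (71, 1947)))) (.node (.node (.leaf (0, 0)) (.leaf (0, 2859))) (.node (.leaf (54, 1726)) (.leaf (71, 3958))))) (.node (.node (.node (.leaf (71, 3059)) (.leaf (73, 845))) (.node (.leaf (76, 3937)) (.leaf (0, 3850)))) (.node (.node (.leaf (0, 961)) (.leaf (77, 3009))) (.node (.leaf (44, 3945)) (.leaf (76, 4033))))))))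

def twoVia5 : Janko.Tree (ℕ × ℕ) :=
  (.node (.node (.node (.node (.node (.node (.node (.leaf (0, 0)) (.leaf (5, 0))) (.leaf (65, 2288))) (.node (.leaf (0, 0)) (.leaf (1, 3073)))) (.node (.node (.leaf (0, 0)) (.leaf (1, 2561))) (.node (.leaf (57, 608)) (.leaf (77, 3855))))) (.node (.node (.node (.leaf (0, 0)) (.leaf (35, 79))) (.node (.leaf (1, 1281)) (.leaf (44, 1974)))) (.node (.node (.leaf (0, 0)) (.leaf (66, 3874))) (.node (.leaf (0, 0)) (.leaf (1, 3841)))))) (.node (.node (.node (.node (.leaf (0, 0)) (.leaf (0, 0))) (.node (.leaf (60, 8)) (.leaf (38, 986)))) (.node (.node (.leaf (1, 641)) (.leaf (1, 2689))) (.node (.leaf (67, 666)) (.leaf (1, 3958))))) (.node (.node (.node (.leaf (0, 0)) (.leaf (40, 1081))) (.node (.leaf (1, 1409)) (.leaf (1, 3457)))) (.node (.node (.leaf (0, 0)) (.leaf (77, 2259))) (.node (.leaf (76, 3233)) (.leaf (65, 2046))))))) (.node (.node (.node (.node (.node (.leaf (1, 65)) (.leaf (35, 887))) (.node (.leaf (0, 0)) (.leaf (43, 3530)))) (.node (.node (.leaf (1, 577)) (.leaf (54, 1243)))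 (.node (.leaf (1, 1601)) (.leaf (1, 3649))))) (.node (.node (.node (.leaf (0, 0)) (.leaf (1, 2369))) (.node (.leaf (1, 2290)) (.leaf (1, 3393)))) (.node (.node (.leaf (0, 0)) (.leaf (0, 0))) (.node (.leaf (0, 0)) (.leaf (1, 3905)))))) (.node (.node (.node (.node (.leaf (1, 193)) (.leaf (76, 1124))) (.node (.leaf (1, 1217)) (.leaf (1, 3265)))) (.node (.node (.leaf (0, 0)) (.leaf (43, 56))) (.node (.leaf (1, 1729)) (.leaf (44, 2792))))) (.node (.node (.node (.leaf (0, 0)) (.leaf (76, 2830))) (.node (.leaf (0, 0)) (.leaf (73, 3850)))) (.node (.node (.leaf (5, 343)) (.leaf (0, 0))) (.node (.leaf (76, 2851)) (.leaf (1, 4033))))))))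

def twoVia6 : Janko.Tree (ℕ × ℕ) :=
  (.node (.node (.node (.node (.node (.node (.node (.leaf (0, 0)) (.leaf (6, 0))) (.leaf (0, 0))) (.node (.leaf (2, 1025)) (.leaf (74, 1172)))) (.node (.node (.leaf (0, 0)) (.leaf (73, 1308))) (.node (.leaf (19, 1506)) (.leaf (2, 3585))))) (.node (.node (.node (.leaf (2, 257)) (.leaf (2, 2305))) (.node (.leaf (67, 1564)) (.leaf (2, 3329)))) (.node (.node (.leaf (0, 0)) (.leaf (77, 3044))) (.node (.leaf (77, 3916)) (.leaf (2, 3841)))))) (.node (.node (.node (.node (.leaf (0, 0)) (.leaf (2, 3268))) (.node (.leaf (2, 1153)) (.leaf (2, 3201)))) (.node (.node (.leaf (0, 0)) (.leaf (2, 2689))) (.node (.leaf (76, 2175)) (.leaf (67, 3978))))) (.node (.node (.node (.leaf (7, 122)) (.leaf (28, 3692))) (.node (.leaf (76, 2980)) (.leaf (66, 2285)))) (.node (.node (.leaf (8, 317)) (.leaf (77, 3304))) (.node (.leaf (2, 3215)) (.leaf (67, 1378))))))) (.node (.node (.node (.node (.node (.leaf (0, 0)) (.leaf (0, 0))) (.node (.leaf (19, 400)) (.leaf (2, 3137)))) (.node (.node (.leaf (19, 1588))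 (.leaf (67, 196))) (.node (.leaf (67, 219)) (.leaf (73, 3885))))) (.node (.node (.node (.leaf (0, 0)) (.leaf (76, 2069))) (.node (.leaf (76, 1214)) (.leaf (76, 3161)))) (.node (.node (.leaf (0, 0)) (.leaf (2, 2881))) (.node (.leaf (0, 0)) (.leaf (60, 1026)))))) (.node (.node (.node (.node (.leaf (0, 0)) (.leaf (67, 669))) (.node (.leaf (54, 152)) (.leaf (62, 711)))) (.node (.node (.leaf (2, 705)) (.leaf (66, 743))) (.node (.leaf (48, 3064)) (.leaf (2, 3777))))) (.node (.node (.node (.leaf (0, 0)) (.leaf (77, 1472))) (.node (.leaf (60, 751)) (.leaf (2, 3521)))) (.node (.node (.leaf (0, 0)) (.leaf (76, 3774))) (.node (.leaf (0, 0)) (.leaf (64, 1750))))))))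

def twoVia7 : Janko.Tree (ℕ × ℕ) :=
  (.node (.node (.node (.node (.node (.node (.node (.leaf (0, 0)) (.leaf (7, 0))) (.leaf (21, 1134))) (.node (.leaf (0, 0)) (.leaf (77, 3936)))) (.node (.node (.leaf (0, 0)) (.leaf (21, 925))) (.node (.leaf (0, 0)) (.leaf (39, 3945))))) (.node (.node (.node (.leaf (0, 0)) (.leaf (75, 650))) (.node (.leaf (73, 832)) (.leaf (65, 1741)))) (.node (.node (.leaf (77, 3615)) (.leaf (4, 1490))) (.node (.leaf (14, 2044)) (.leaf (22, 3638)))))) (.node (.node (.node (.node (.leaf (0, 0)) (.leaf (67, 238))) (.node (.leaf (62, 43)) (.leaf (74, 1841)))) (.node (.node (.leaf (0, 0)) (.leaf (5, 1304))) (.node (.leaf (67, 475)) (.leaf (67, 1129))))) (.node (.node (.node (.leaf (0, 0)) (.leaf (40, 2112))) (.node (.leaf (62, 2126)) (.leaf (77, 3414)))) (.node (.node (.leaf (66, 726)) (.leaf (74, 2924))) (.node (.leaf (8, 274)) (.leaf (67, 272))))))) (.node (.node (.node (.node (.node (.leaf (0, 0)) (.leaf (15, 1861))) (.node (.leaf (65, 26)) (.leaf (67, 2615)))) (.node (.node (.leaf (73, 220))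 (.leaf (44, 1242))) (.node (.leaf (0, 0)) (.leaf (4, 1913))))) (.node (.node (.node (.leaf (0, 0)) (.leaf (59, 417))) (.node (.leaf (59, 954)) (.leaf (60, 474)))) (.node (.node (.leaf (0, 0)) (.leaf (69, 4095))) (.node (.leaf (40, 2707)) (.leaf (74, 3006)))))) (.node (.node (.node (.node (.leaf (0, 0)) (.leaf (52, 3559))) (.node (.leaf (0, 0)) (.leaf (0, 0)))) (.node (.node (.leaf (0, 0)) (.leaf (73, 2424))) (.node (.leaf (73, 673)) (.leaf (73, 784))))) (.node (.node (.node (.leaf (0, 0)) (.leaf (4, 707))) (.node (.leaf (0, 0)) (.leaf (66, 3192)))) (.node (.node (.leaf (0, 0)) (.leaf (67, 549))) (.node (.leaf (0, 0)) (.leaf (57, 1173))))))))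

def twoVia8 : Janko.Tree (ℕ × ℕ) :=
  (.node (.node (.node (.node (.node (.node (.node (.leaf (0, 0)) (.leaf (8, 68))) (.leaf (0, 0))) (.node (.leaf (0, 0)) (.leaf (20, 1157)))) (.node (.node (.leaf (0, 514)) (.leaf (50, 3786))) (.node (.leaf (0, 1538)) (.leaf (66, 3586))))) (.node (.node (.node (.leaf (0, 258)) (.leaf (76, 2306))) (.node (.leaf (55, 1378)) (.leaf (73, 3739)))) (.node (.node (.leaf (0, 0)) (.leaf (67, 2818))) (.node (.leaf (0, 0)) (.leaf (76, 3842)))))) (.node (.node (.node (.node (.leaf (35, 72)) (.leaf (0, 2178))) (.node (.leaf (76, 2979)) (.leaf (54, 3202)))) (.node (.node (.leaf (71, 1670)) (.leaf (0, 2690))) (.node (.leaf (67, 329)) (.leaf (67, 3714))))) (.node (.node (.node (.leaf (73, 3401)) (.leaf (31, 2050))) (.node (.leaf (67, 1410)) (.leaf (73, 3006)))) (.node (.node (.leaf (0, 0)) (.leaf (62, 1028))) (.node (.leaf (0, 1922)) (.leaf (73, 3970))))))) (.node (.node (.node (.node (.node (.leaf (0, 0)) (.leaf (77, 2114))) (.node (.leaf (47, 3231)) (.leaf (77, 3138)))) (.node (.node (.leaf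 (73, 588)) (.leaf (0, 2626))) (.node (.leaf (22, 1602)) (.leaf (0, 3650))))) (.node (.node (.node (.leaf (0, 322)) (.leaf (71, 1325))) (.node (.leaf (73, 1346)) (.leaf (74, 2650)))) (.node (.node (.leaf (67, 871)) (.leaf (0, 0))) (.node (.leaf (75, 2416)) (.leaf (74, 3091)))))) (.node (.node (.node (.node (.leaf (0, 0)) (.leaf (6, 2245))) (.node (.leaf (67, 1218)) (.leaf (52, 3686)))) (.node (.node (.leaf (0, 0)) (.leaf (0, 2754))) (.node (.leaf (0, 0)) (.leaf (76, 3778))))) (.node (.node (.node (.leaf (0, 0)) (.leaf (0, 3196))) (.node (.leaf (0, 1474)) (.leaf (0, 3522)))) (.node (.node (.leaf (0, 0)) (.leaf (0, 3010))) (.node (.leaf (0, 1986)) (.leaf (13, 4034))))))))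

def twoVia9 : Janko.Tree (ℕ × ℕ) :=
  (.node (.node (.node (.node (.node (.node (.node (.leaf (1, 2)) (.leaf (8, 0))) (.leaf (43, 340))) (.node (.leaf (0, 0)) (.leaf (1, 3074)))) (.node (.node (.leaf (1, 1292)) (.leaf (1, 2919))) (.node (.leaf (1, 1538)) (.leaf (1, 3586))))) (.node (.node (.node (.leaf (0, 0)) (.leaf (0, 0))) (.node (.leaf (0, 0)) (.leaf (66, 1515)))) (.node (.node (.leaf (0, 0)) (.leaf (1, 2818))) (.node (.leaf (1, 1794)) (.leaf (40, 63)))))) (.node (.node (.node (.node (.leaf (1, 130)) (.leaf (62, 918))) (.node (.leaf (0, 0)) (.leaf (1, 3202)))) (.node (.node (.leaf (0, 0)) (.leaf (76, 3701))) (.node (.leaf (41, 637)) (.leaf (1, 3714))))) (.node (.node (.node (.leaf (1, 386)) (.leaf (1, 3548))) (.node (.leaf (57, 338)) (.leaf (76, 2524)))) (.node (.node (.leaf (1, 898)) (.leaf (76, 2352))) (.node (.leaf (67, 786)) (.leaf (1, 3970))))))) (.node (.node (.node (.node (.node (.leaf (0, 0)) (.leaf (1, 2114))) (.node (.leaf (1, 1090)) (.leaf (76, 3995)))) (.node (.node (.leaf (0, 0)) (.leaf (76,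 3106))) (.node (.leaf (0, 0)) (.leaf (57, 703))))) (.node (.node (.node (.leaf (0, 0)) (.leaf (76, 3613))) (.node (.leaf (65, 1460)) (.leaf (1, 3883)))) (.node (.node (.leaf (1, 834)) (.leaf (76, 3870))) (.node (.leaf (1, 1858)) (.leaf (75, 3195)))))) (.node (.node (.node (.node (.leaf (0, 0)) (.leaf (76, 2982))) (.node (.leaf (0, 0)) (.leaf (0, 0)))) (.node (.node (.leaf (1, 1518)) (.leaf (76, 1415))) (.node (.leaf (48, 1923)) (.leaf (76, 4076))))) (.node (.node (.node (.leaf (1, 450)) (.leaf (66, 3196))) (.node (.leaf (0, 0)) (.leaf (76, 3910)))) (.node (.node (.leaf (1, 962)) (.leaf (62, 1573))) (.node (.leaf (76, 1374)) (.leaf (76, 3413))))))))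

def twoVia10 : Janko.Tree (ℕ × ℕ) :=
  (.node (.node (.node (.node (.node (.node (.node (.leaf (0, 0)) (.leaf (9, 0))) (.leaf (0, 0))) (.node (.leaf (0, 0)) (.leaf (76, 3120)))) (.node (.node (.leaf (0, 0)) (.leaf (2, 2562))) (.node (.leaf (67, 76)) (.leaf (2, 3586))))) (.node (.node (.node (.leaf (6, 748)) (.leaf (40, 168))) (.node (.leaf (66, 1647)) (.leaf (76, 3155)))) (.node (.node (.leaf (2, 770)) (.leaf (76, 2814))) (.node (.leaf (0, 0)) (.leaf (76, 1894)))))) (.node (.node (.node (.node (.leaf (60, 200)) (.leaf (56, 3977))) (.node (.leaf (2, 1598)) (.leaf (56, 103)))) (.node (.node (.leaf (0, 0)) (.leaf (2, 2690))) (.node (.leaf (2, 1666)) (.leaf (66, 3942))))) (.node (.node (.node (.leaf (0, 0)) (.leaf (2, 2434))) (.node (.leaf (54, 898)) (.leaf (22, 276)))) (.node (.node (.leaf (0, 0)) (.leaf (2, 2946))) (.node (.leaf (51, 780)) (.leaf (76, 2624))))))) (.node (.node (.node (.node (.node (.leaf (0, 0)) (.leaf (76, 2433))) (.node (.leaf (65, 131)) (.leaf (77, 3680)))) (.node (.node (.leaf (2, 1405)) (.leaf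 (21, 4033))) (.node (.leaf (16, 662)) (.leaf (19, 2181))))) (.node (.node (.node (.leaf (0, 0)) (.leaf (44, 2781))) (.node (.leaf (2, 1346)) (.leaf (22, 264)))) (.node (.node (.leaf (76, 1139)) (.leaf (70, 3521))) (.node (.leaf (76, 1545)) (.leaf (77, 4066)))))) (.node (.node (.node (.node (.leaf (2, 466)) (.leaf (2, 2242))) (.node (.leaf (0, 0)) (.leaf (66, 3677)))) (.node (.node (.leaf (59, 76)) (.leaf (67, 3099))) (.node (.leaf (0, 0)) (.leaf (77, 3786))))) (.node (.node (.node (.leaf (67, 934)) (.leaf (2, 2498))) (.node (.leaf (0, 0)) (.leaf (6, 3850)))) (.node (.node (.leaf (66, 1789)) (.leaf (77, 944))) (.node (.leaf (2, 3494)) (.leaf (67, 3799))))))))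

def twoVia11 : Janko.Tree (ℕ × ℕ) :=
  (.node (.node (.node (.node (.node (.node (.node (.leaf (0, 0)) (.leaf (11, 2970))) (.leaf (59, 990))) (.node (.leaf (0, 0)) (.leaf (77, 554)))) (.node (.node (.leaf (0, 0)) (.leaf (16, 3903))) (.node (.leaf (60, 678)) (.leaf (59, 193))))) (.node (.node (.node (.leaf (0, 0)) (.leaf (76, 2398))) (.node (.leaf (8, 178)) (.leaf (69, 2063)))) (.node (.node (.leaf (73, 490)) (.leaf (0, 0))) (.node (.leaf (50, 2684)) (.leaf (65, 888)))))) (.node (.node (.node (.node (.leaf (0, 0)) (.leaf (73, 1632))) (.node (.leaf (8, 1092)) (.leaf (56, 332)))) (.node (.node (.leaf (0, 0)) (.leaf (73, 3466))) (.node (.leaf (5, 659)) (.leaf (66, 1329))))) (.node (.node (.node (.leaf (0, 0)) (.leaf (76, 2050))) (.node (.leaf (55, 1352)) (.leaf (76, 3723)))) (.node (.node (.leaf (0, 0)) (.leaf (77, 3330))) (.node (.leaf (0, 0)) (.leaf (57, 282))))))) (.node (.node (.node (.node (.node (.leaf (0, 0)) (.leaf (76, 2113))) (.node (.leaf (60, 230)) (.leaf (67, 854)))) (.node (.node (.leaf (4, 60)) (.leaf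 (43, 157))) (.node (.leaf (19, 676)) (.leaf (4, 3434))))) (.node (.node (.node (.leaf (0, 0)) (.leaf (69, 2207))) (.node (.leaf (0, 0)) (.leaf (74, 3305)))) (.node (.node (.leaf (0, 0)) (.leaf (73, 3095))) (.node (.leaf (75, 3165)) (.leaf (44, 122)))))) (.node (.node (.node (.node (.leaf (26, 47)) (.leaf (67, 3412))) (.node (.leaf (76, 3466)) (.leaf (74, 3748)))) (.node (.node (.leaf (0, 0)) (.leaf (76, 2368))) (.node (.leaf (4, 241)) (.leaf (44, 2780))))) (.node (.node (.node (.leaf (0, 0)) (.leaf (73, 2269))) (.node (.leaf (0, 0)) (.leaf (43, 1282)))) (.node (.node (.leaf (65, 2069)) (.leaf (75, 2470))) (.node (.leaf (67, 2722)) (.leaf (65, 3638))))))))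

def twoVia12 : Janko.Tree (ℕ × ℕ) :=
  (.node (.node (.node (.node (.node (.node (.node (.leaf (0, 0)) (.leaf (12, 1845))) (.leaf (0, 0))) (.node (.leaf (0, 0)) (.leaf (0, 3075)))) (.node (.node (.leaf (0, 0)) (.leaf (69, 3786))) (.node (.leaf (0, 0)) (.leaf (0, 3587))))) (.node (.node (.node (.leaf (0, 0)) (.leaf (76, 3944))) (.node (.leaf (73, 959)) (.leaf (9, 3288)))) (.node (.node (.leaf (57, 1597)) (.leaf (49, 2819))) (.node (.leaf (0, 0)) (.leaf (8, 2796)))))) (.node (.node (.node (.node (.leaf (8, 131)) (.leaf (77, 3942))) (.node (.leaf (0, 0)) (.leaf (69, 3931)))) (.node (.node (.leaf (0, 0)) (.leaf (69, 2691))) (.node (.leaf (0, 0)) (.leaf (76, 3715))))) (.node (.node (.node (.leaf (35, 1028)) (.leaf (0, 2435))) (.node (.leaf (0, 1411)) (.leaf (69, 3459)))) (.node (.node (.leaf (0, 0)) (.leaf (0, 0))) (.node (.leaf (67, 1903)) (.leaf (76, 3971))))))) (.node (.node (.node (.node (.node (.leaf (0, 67)) (.leaf (0, 0))) (.node (.leaf (67, 139)) (.leaf (76, 3139)))) (.node (.node (.leaf (0, 0)) (.leaf (76,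 2627))) (.node (.leaf (0, 1603)) (.leaf (0, 3651))))) (.node (.node (.node (.leaf (0, 0)) (.leaf (51, 2371))) (.node (.leaf (73, 2413)) (.leaf (62, 3395)))) (.node (.node (.leaf (0, 0)) (.leaf (0, 2883))) (.node (.leaf (76, 1859)) (.leaf (0, 3907)))))) (.node (.node (.node (.node (.leaf (0, 195)) (.leaf (73, 2243))) (.node (.leaf (0, 1219)) (.leaf (0, 3267)))) (.node (.node (.leaf (0, 0)) (.leaf (75, 3880))) (.node (.leaf (0, 1731)) (.leaf (65, 3008))))) (.node (.node (.node (.leaf (6, 453)) (.leaf (73, 3292))) (.node (.leaf (0, 0)) (.leaf (76, 3523)))) (.node (.node (.leaf (0, 0)) (.leaf (0, 0))) (.node (.leaf (53, 1727)) (.leaf (73, 2855))))))))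

def twoVia13 : Janko.Tree (ℕ × ℕ) :=
  (.node (.node (.node (.node (.node (.node (.node (.leaf (0, 0)) (.leaf (10, 0))) (.leaf (1, 2051))) (.node (.leaf (1, 1027)) (.leaf (44, 1614)))) (.node (.node (.leaf (1, 515)) (.leaf (76, 3786))) (.node (.leaf (0, 0)) (.leaf (73, 2106))))) (.node (.node (.node (.leaf (1, 259)) (.leaf (1, 2307))) (.node (.leaf (1, 1283)) (.leaf (1, 3331)))) (.node (.node (.leaf (0, 0)) (.leaf (76, 1831))) (.node (.leaf (0, 0)) (.leaf (76, 3375)))))) (.node (.node (.node (.node (.leaf (0, 0)) (.leaf (1, 2179))) (.node (.leaf (1, 1155)) (.leaf (1, 3203)))) (.node (.node (.leaf (1, 643)) (.leaf (1, 2691))) (.node (.leaf (49, 862)) (.leaf (76, 2052))))) (.node (.node (.node (.leaf (0, 0)) (.leaf (67, 1082))) (.node (.leaf (54, 53)) (.leaf (75, 3896)))) (.node (.node (.leaf (0, 0)) (.leaf (31, 2143))) (.node (.leaf (66, 3405)) (.leaf (1, 3971))))))) (.node (.node (.node (.node (.node (.leaf (0, 0)) (.leaf (67, 3593))) (.node (.leaf (67, 857)) (.leaf (64, 1919)))) (.node (.node (.leaf (1, 579))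 (.leaf (76, 793))) (.node (.leaf (61, 1427)) (.leaf (1, 3651))))) (.node (.node (.node (.leaf (0, 0)) (.leaf (1, 3325))) (.node (.leaf (0, 0)) (.leaf (76, 2705)))) (.node (.node (.leaf (18, 2853)) (.leaf (0, 0))) (.node (.leaf (0, 0)) (.leaf (15, 2922)))))) (.node (.node (.node (.node (.leaf (0, 0)) (.leaf (76, 3412))) (.node (.leaf (76, 1697)) (.leaf (77, 390)))) (.node (.node (.leaf (1, 707)) (.leaf (1, 2755))) (.node (.leaf (59, 801)) (.leaf (66, 1697))))) (.node (.node (.node (.leaf (0, 0)) (.leaf (40, 752))) (.node (.leaf (0, 0)) (.leaf (1, 3523)))) (.node (.node (.leaf (0, 0)) (.leaf (76, 1757))) (.node (.leaf (1, 1987)) (.leaf (1, 4035))))))))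

def twoVia14 : Janko.Tree (ℕ × ℕ) :=
  (.node (.node (.node (.node (.node (.node (.node (.leaf (2, 3)) (.leaf (11, 0))) (.leaf (76, 2509))) (.node (.leaf (0, 0)) (.leaf (32, 1909)))) (.node (.node (.leaf (0, 0)) (.leaf (69, 456))) (.node (.leaf (60, 2934)) (.leaf (76, 3590))))) (.node (.node (.node (.leaf (67, 1142)) (.leaf (77, 1537))) (.node (.leaf (77, 3182)) (.leaf (66, 3288)))) (.node (.node (.leaf (67, 311)) (.leaf (2, 2819))) (.node (.leaf (0, 0)) (.leaf (2, 3843)))))) (.node (.node (.node (.node (.leaf (2, 265)) (.leaf (73, 2914))) (.node (.leaf (65, 3574)) (.leaf (66, 1536)))) (.node (.node (.leaf (0, 0)) (.leaf (77, 2767))) (.node (.leaf (0, 0)) (.leaf (67, 1596))))) (.node (.node (.node (.leaf (2, 387)) (.leaf (67, 1127))) (.node (.leaf (66, 2734)) (.leaf (73, 2345)))) (.node (.node (.leaf (35, 949)) (.leaf (66, 1800))) (.node (.leaf (2, 1923)) (.leaf (66, 3046))))))) (.node (.node (.node (.node (.node (.leaf (0, 0)) (.leaf (2, 2115))) (.node (.leaf (2, 1091)) (.leaf (2, 3139)))) (.node (.node (.leaf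 (0, 0)) (.leaf (0, 0))) (.node (.leaf (0, 0)) (.leaf (73, 3906))))) (.node (.node (.node (.leaf (2, 323)) (.leaf (65, 553))) (.node (.leaf (67, 3335)) (.leaf (73, 2296)))) (.node (.node (.leaf (0, 0)) (.leaf (9, 1548))) (.node (.leaf (2, 1859)) (.leaf (54, 2345)))))) (.node (.node (.node (.node (.leaf (6, 576)) (.leaf (76, 1664))) (.node (.leaf (2, 1713)) (.leaf (7, 374)))) (.node (.node (.leaf (0, 0)) (.leaf (74, 3917))) (.node (.leaf (51, 2990)) (.leaf (35, 3144))))) (.node (.node (.node (.leaf (2, 451)) (.leaf (76, 2346))) (.node (.leaf (2, 1475)) (.leaf (73, 4077)))) (.node (.node (.leaf (2, 963)) (.leaf (2, 3011))) (.node (.leaf (57, 1986)) (.leaf (2, 4035))))))))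

def twoVia15 : Janko.Tree (ℕ × ℕ) :=
  (.node (.node (.node (.node (.node (.node (.node (.leaf (0, 0)) (.leaf (12, 0))) (.leaf (0, 0))) (.node (.leaf (0, 0)) (.leaf (66, 1920)))) (.node (.node (.leaf (0, 0)) (.leaf (47, 1153))) (.node (.leaf (59, 2853)) (.leaf (55, 319))))) (.node (.node (.node (.leaf (0, 0)) (.leaf (77, 1600))) (.node (.leaf (0, 0)) (.leaf (67, 1829)))) (.node (.node (.leaf (0, 0)) (.leaf (0, 0))) (.node (.leaf (0, 0)) (.leaf (74, 3224)))))) (.node (.node (.node (.node (.leaf (26, 260)) (.leaf (76, 3824))) (.node (.leaf (47, 244)) (.leaf (76, 3381)))) (.node (.node (.leaf (0, 0)) (.leaf (21, 169))) (.node (.leaf (0, 0)) (.leaf (67, 1279))))) (.node (.node (.node (.leaf (0, 0)) (.leaf (67, 1342))) (.node (.leaf (0, 0)) (.leaf (74, 3793)))) (.node (.node (.leaf (0, 0)) (.leaf (0, 0))) (.node (.leaf (0, 0)) (.leaf (57, 1634))))))) (.node (.node (.node (.node (.node (.leaf (0, 0)) (.leaf (40, 2296))) (.node (.leaf (0, 0)) (.leaf (76, 3611)))) (.node (.node (.leaf (0, 0)) (.leaf (4, 2444))) (.node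 (.leaf (77, 3119)) (.leaf (67, 1253))))) (.node (.node (.node (.leaf (0, 0)) (.leaf (64, 375))) (.node (.leaf (67, 258)) (.leaf (74, 2055)))) (.node (.node (.leaf (0, 0)) (.leaf (73, 1328))) (.node (.leaf (0, 0)) (.leaf (71, 3178)))))) (.node (.node (.node (.node (.leaf (0, 0)) (.leaf (44, 3431))) (.node (.leaf (0, 0)) (.leaf (74, 3319)))) (.node (.node (.leaf (0, 0)) (.leaf (71, 3909))) (.node (.leaf (0, 0)) (.leaf (54, 2582))))) (.node (.node (.node (.leaf (0, 0)) (.leaf (64, 1789))) (.node (.leaf (0, 0)) (.leaf (77, 4058)))) (.node (.node (.leaf (74, 1438)) (.leaf (73, 3222))) (.node (.leaf (0, 0)) (.leaf (46, 3541))))))))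

def twoVia16 : Janko.Tree (ℕ × ℕ) :=
  (.node (.node (.node (.node (.node (.node (.node (.leaf (0, 0)) (.leaf (16, 1548))) (.leaf (47, 2465))) (.node (.leaf (67, 1028)) (.leaf (11, 3076)))) (.node (.node (.leaf (0, 0)) (.leaf (18, 452))) (.node (.leaf (0, 0)) (.leaf (0, 3588))))) (.node (.node (.node (.leaf (0, 0)) (.leaf (7, 2308))) (.node (.leaf (67, 1284)) (.leaf (67, 1007)))) (.node (.node (.leaf (0, 0)) (.leaf (71, 1839))) (.node (.leaf (0, 1796)) (.leaf (51, 1918)))))) (.node (.node (.node (.node (.leaf (0, 132)) (.leaf (74, 3620))) (.node (.leaf (73, 2508)) (.leaf (60, 979)))) (.node (.node (.leaf (0, 1492)) (.leaf (62, 2617))) (.node (.leaf (0, 0)) (.leaf (0, 3716))))) (.node (.node (.node (.leaf (0, 0)) (.leaf (69, 4090))) (.node (.leaf (0, 1412)) (.leaf (77, 3686)))) (.node (.node (.leaf (0, 900)) (.leaf (0, 0))) (.node (.leaf (76, 1924)) (.leaf (76, 3972))))))) (.node (.node (.node (.node (.node (.leaf (0, 0)) (.leaf (67, 2116))) (.node (.leaf (0, 0)) (.leaf (23, 3140)))) (.node (.node (.leaf (28,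 580)) (.leaf (62, 1990))) (.node (.leaf (76, 1604)) (.leaf (0, 3652))))) (.node (.node (.node (.leaf (0, 0)) (.leaf (0, 2372))) (.node (.leaf (76, 1348)) (.leaf (0, 3396)))) (.node (.node (.leaf (34, 86)) (.leaf (0, 3824))) (.node (.leaf (0, 1860)) (.leaf (69, 85)))))) (.node (.node (.node (.node (.leaf (0, 0)) (.leaf (0, 2244))) (.node (.leaf (67, 1220)) (.leaf (76, 3711)))) (.node (.node (.leaf (8, 76)) (.leaf (77, 3850))) (.node (.leaf (74, 1732)) (.leaf (67, 3523))))) (.node (.node (.node (.leaf (0, 0)) (.leaf (0, 2500))) (.node (.leaf (0, 0)) (.leaf (73, 3786)))) (.node (.node (.leaf (43, 109)) (.leaf (75, 3050))) (.node (.leaf (62, 1988)) (.leaf (76, 4036))))))))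

def twoVia17 : Janko.Tree (ℕ × ℕ) :=
  (.node (.node (.node (.node (.node (.node (.node (.leaf (0, 0)) (.leaf (17, 1546))) (.leaf (65, 272))) (.node (.leaf (76, 2006)) (.leaf (65, 1603)))) (.node (.node (.leaf (0, 0)) (.leaf (69, 3209))) (.node (.leaf (76, 2962)) (.leaf (1, 3588))))) (.node (.node (.node (.leaf (0, 0)) (.leaf (73, 3272))) (.node (.leaf (77, 2616)) (.leaf (1, 3332)))) (.node (.node (.leaf (1, 772)) (.leaf (0, 0))) (.node (.leaf (76, 3388)) (.leaf (66, 3277)))))) (.node (.node (.node (.node (.leaf (0, 0)) (.leaf (46, 3072))) (.node (.leaf (76, 2384)) (.leaf (73, 322)))) (.node (.node (.leaf (0, 0)) (.leaf (1, 2692))) (.node (.leaf (1, 1668)) (.leaf (76, 2334))))) (.node (.node (.node (.leaf (1, 868)) (.leaf (1, 2436))) (.node (.leaf (62, 553)) (.leaf (1, 3460)))) (.node (.node (.leaf (0, 0)) (.leaf (1, 3844))) (.node (.leaf (0, 0)) (.leaf (40, 3550))))))) (.node (.node (.node (.node (.node (.leaf (1, 68)) (.leaf (1, 2116))) (.node (.leaf (0, 0)) (.leaf (0, 0)))) (.node (.node (.leaf (0, 0)) (.leaf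 (1, 2628))) (.node (.leaf (0, 0)) (.leaf (65, 2185))))) (.node (.node (.node (.leaf (76, 716)) (.leaf (57, 1750))) (.node (.leaf (1, 1348)) (.leaf (66, 2055)))) (.node (.node (.leaf (1, 836)) (.leaf (1, 2884))) (.node (.leaf (76, 1086)) (.leaf (76, 3495)))))) (.node (.node (.node (.node (.leaf (1, 196)) (.leaf (75, 3800))) (.node (.leaf (1, 1220)) (.leaf (1, 3268)))) (.node (.node (.leaf (0, 0)) (.leaf (0, 0))) (.node (.leaf (0, 0)) (.leaf (1, 3780))))) (.node (.node (.node (.leaf (0, 0)) (.leaf (75, 3650))) (.node (.leaf (76, 733)) (.leaf (1, 3524)))) (.node (.node (.leaf (1, 964)) (.leaf (1, 3012))) (.node (.leaf (43, 1956)) (.leaf (62, 649))))))))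

def twoVia18 : Janko.Tree (ℕ × ℕ) :=
  (.node (.node (.node (.node (.node (.node (.node (.leaf (0, 0)) (.leaf (18, 1645))) (.leaf (4, 2052))) (.node (.leaf (2, 1028)) (.leaf (2, 3076)))) (.node (.node (.leaf (2, 516)) (.leaf (2, 2564))) (.node (.leaf (0, 0)) (.leaf (32, 1489))))) (.node (.node (.node (.leaf (2, 260)) (.leaf (73, 2892))) (.node (.leaf (2, 1284)) (.leaf (67, 1369)))) (.node (.node (.leaf (0, 0)) (.leaf (8, 1547))) (.node (.leaf (0, 0)) (.leaf (67, 3076)))))) (.node (.node (.node (.node (.leaf (7, 250)) (.leaf (2, 2180))) (.node (.leaf (0, 0)) (.leaf (0, 0)))) (.node (.node (.leaf (2, 644)) (.leaf (76, 2750))) (.node (.leaf (0, 0)) (.leaf (77, 3405))))) (.node (.node (.node (.leaf (26, 388)) (.leaf (0, 0))) (.node (.leaf (67, 2051)) (.leaf (76, 3705)))) (.node (.node (.leaf (2, 900)) (.leaf (76, 3212))) (.node (.leaf (55, 4039)) (.leaf (44, 2046))))))) (.node (.node (.node (.node (.node (.leaf (0, 0)) (.leaf (59, 314))) (.node (.leaf (0, 0)) (.leaf (0, 0)))) (.node (.node (.leaf (2, 580)) (.leaf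 (73, 2995))) (.node (.leaf (2, 1604)) (.leaf (51, 2734))))) (.node (.node (.node (.leaf (67, 672)) (.leaf (18, 1039))) (.node (.leaf (67, 551)) (.leaf (2, 3994)))) (.node (.node (.leaf (2, 1943)) (.leaf (67, 3859))) (.node (.leaf (18, 3205)) (.leaf (66, 3951)))))) (.node (.node (.node (.node (.leaf (0, 0)) (.leaf (74, 968))) (.node (.leaf (0, 0)) (.leaf (36, 2177)))) (.node (.node (.leaf (2, 708)) (.leaf (2, 2756))) (.node (.leaf (0, 0)) (.leaf (54, 2805))))) (.node (.node (.node (.leaf (0, 0)) (.leaf (9, 3195))) (.node (.leaf (62, 2453)) (.leaf (0, 0)))) (.node (.node (.leaf (48, 295)) (.leaf (2, 3012))) (.node (.leaf (2, 1988)) (.leaf (41, 3384))))))))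

def twoVia19 : Janko.Tree (ℕ × ℕ) :=
  (.node (.node (.node (.node (.node (.node (.node (.leaf (0, 0)) (.leaf (19, 779))) (.leaf (65, 2251))) (.node (.leaf (74, 1218)) (.leaf (66, 3554)))) (.node (.node (.leaf (0, 0)) (.leaf (69, 2985))) (.node (.leaf (59, 611)) (.leaf (77, 4073))))) (.node (.node (.node (.leaf (0, 0)) (.leaf (0, 0))) (.node (.leaf (0, 0)) (.leaf (49, 3811)))) (.node (.node (.leaf (73, 147)) (.leaf (8, 582))) (.node (.leaf (73, 3334)) (.leaf (66, 2791)))))) (.node (.node (.node (.node (.leaf (76, 2992)) (.leaf (0, 0))) (.node (.leaf (0, 0)) (.leaf (46, 73)))) (.node (.node (.leaf (0, 0)) (.leaf (76, 1468))) (.node (.leaf (57, 1731)) (.leaf (67, 2945))))) (.node (.node (.node (.leaf (0, 0)) (.leaf (59, 672))) (.node (.leaf (60, 2601)) (.leaf (69, 1738)))) (.node (.node (.leaf (0, 0)) (.leaf (67, 3540))) (.node (.leaf (26, 1923)) (.leaf (76, 2051))))))) (.node (.node (.node (.node (.node (.leaf (0, 0)) (.leaf (67, 241))) (.node (.leaf (65, 1713)) (.leaf (58, 1728)))) (.node (.node (.leaf (0, 0))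 (.leaf (0, 0))) (.node (.leaf (0, 0)) (.leaf (67, 330))))) (.node (.node (.node (.leaf (0, 0)) (.leaf (44, 1440))) (.node (.leaf (25, 2886)) (.leaf (62, 2060)))) (.node (.node (.leaf (0, 0)) (.leaf (0, 0))) (.node (.leaf (0, 0)) (.leaf (67, 250)))))) (.node (.node (.node (.node (.leaf (0, 0)) (.leaf (75, 4045))) (.node (.leaf (0, 0)) (.leaf (75, 2603)))) (.node (.node (.leaf (0, 0)) (.leaf (77, 3774))) (.node (.leaf (44, 150)) (.leaf (64, 3817))))) (.node (.node (.node (.leaf (0, 0)) (.leaf (73, 690))) (.node (.leaf (76, 1570)) (.leaf (67, 3192)))) (.node (.node (.leaf (0, 0)) (.leaf (74, 2467))) (.node (.leaf (0, 0)) (.leaf (7, 712))))))))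

def twoVia20 : Janko.Tree (ℕ × ℕ) :=
  (.node (.node (.node (.node (.node (.node (.node (.leaf (0, 0)) (.leaf (20, 1678))) (.leaf (73, 2053))) (.node (.leaf (76, 1029)) (.leaf (77, 3077)))) (.node (.node (.leaf (0, 0)) (.leaf (55, 1916))) (.node (.leaf (0, 1541)) (.leaf (60, 3589))))) (.node (.node (.node (.leaf (0, 0)) (.leaf (73, 376))) (.node (.leaf (0, 1285)) (.leaf (21, 3333)))) (.node (.node (.leaf (76, 852)) (.leaf (0, 2821))) (.node (.leaf (47, 1797)) (.leaf (67, 2219)))))) (.node (.node (.node (.node (.leaf (0, 0)) (.leaf (0, 0))) (.node (.leaf (0, 1610)) (.leaf (20, 3205)))) (.node (.node (.leaf (67, 2950)) (.leaf (23, 2693))) (.node (.leaf (65, 3839)) (.leaf (62, 2751))))) (.node (.node (.node (.leaf (0, 0)) (.leaf (73, 2662))) (.node (.leaf (67, 1413)) (.leaf (75, 3461)))) (.node (.node (.leaf (76, 1093)) (.leaf (0, 0))) (.node (.leaf (76, 1925)) (.leaf (20, 3973))))))) (.node (.node (.node (.node (.node (.leaf (0, 0)) (.leaf (69, 3062))) (.node (.leaf (0, 1093)) (.leaf (0, 3141)))) (.node (.node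 (.leaf (0, 0)) (.leaf (62, 1293))) (.node (.leaf (73, 2306)) (.leaf (77, 3653))))) (.node (.node (.node (.leaf (0, 325)) (.leaf (19, 2372))) (.node (.leaf (0, 0)) (.leaf (76, 3397)))) (.node (.node (.leaf (0, 0)) (.leaf (73, 3783))) (.node (.leaf (16, 1861)) (.leaf (38, 3909)))))) (.node (.node (.node (.node (.leaf (0, 0)) (.leaf (0, 2245))) (.node (.leaf (0, 0)) (.leaf (21, 249)))) (.node (.node (.leaf (71, 2546)) (.leaf (73, 3925))) (.node (.leaf (0, 1733)) (.leaf (67, 3385))))) (.node (.node (.node (.leaf (0, 453)) (.leaf (67, 1638))) (.node (.leaf (0, 1477)) (.leaf (0, 3525)))) (.node (.node (.leaf (10, 967)) (.leaf (76, 3013))) (.node (.leaf (0, 0)) (.leaf (0, 4037))))))))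

def twoVia21 : Janko.Tree (ℕ × ℕ) :=
  (.node (.node (.node (.node (.node (.node (.node (.leaf (1, 5)) (.leaf (21, 3973))) (.leaf (1, 2053))) (.node (.leaf (0, 0)) (.leaf (76, 2498)))) (.node (.node (.leaf (18, 1127)) (.leaf (67, 2600))) (.node (.leaf (0, 0)) (.leaf (1, 3589))))) (.node (.node (.node (.leaf (0, 0)) (.leaf (1, 2309))) (.node (.leaf (1, 2119)) (.leaf (77, 1846)))) (.node (.node (.leaf (0, 0)) (.leaf (58, 340))) (.node (.leaf (1, 1797)) (.leaf (1, 3845)))))) (.node (.node (.node (.node (.leaf (1, 133)) (.leaf (65, 157))) (.node (.leaf (1, 1157)) (.leaf (1, 3205)))) (.node (.node (.leaf (0, 0)) (.leaf (1, 2693))) (.node (.leaf (0, 0)) (.leaf (76, 3825))))) (.node (.node (.node (.leaf (1, 389)) (.leaf (1, 2437))) (.node (.leaf (34, 3373)) (.leaf (66, 558)))) (.node (.node (.leaf (1, 901)) (.leaf (1, 2949))) (.node (.leaf (0, 0)) (.leaf (16, 1920))))))) (.node (.node (.node (.node (.node (.leaf (0, 0)) (.leaf (1, 2117))) (.node (.leaf (5, 402)) (.leaf (59, 224)))) (.node (.node (.leaf (0, 0)) (.leaf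 (61, 2792))) (.node (.leaf (0, 0)) (.leaf (76, 2459))))) (.node (.node (.node (.leaf (0, 0)) (.leaf (76, 3351))) (.node (.leaf (48, 1073)) (.leaf (1, 3397)))) (.node (.node (.leaf (0, 0)) (.leaf (0, 0))) (.node (.leaf (76, 1284)) (.leaf (66, 2859)))))) (.node (.node (.node (.node (.leaf (0, 0)) (.leaf (76, 1048))) (.node (.leaf (0, 0)) (.leaf (76, 2002)))) (.node (.node (.leaf (0, 0)) (.leaf (58, 3847))) (.node (.leaf (0, 0)) (.leaf (1, 3781))))) (.node (.node (.node (.leaf (0, 0)) (.leaf (1, 3412))) (.node (.leaf (0, 0)) (.leaf (76, 2353)))) (.node (.node (.leaf (0, 0)) (.leaf (0, 0))) (.node (.leaf (48, 1903)) (.leaf (57, 3263))))))))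

def twoVia22 : Janko.Tree (ℕ × ℕ) :=
  (.node (.node (.node (.node (.node (.node (.node (.leaf (0, 0)) (.leaf (13, 0))) (.leaf (76, 2657))) (.node (.leaf (0, 0)) (.leaf (73, 2178)))) (.node (.node (.leaf (54, 419)) (.leaf (2, 2565))) (.node (.leaf (17, 1488)) (.leaf (76, 3252))))) (.node (.node (.node (.leaf (0, 0)) (.leaf (76, 1700))) (.node (.leaf (76, 3410)) (.leaf (2, 3333)))) (.node (.node (.leaf (77, 3657)) (.leaf (76, 2898))) (.node (.leaf (0, 0)) (.leaf (66, 3467)))))) (.node (.node (.node (.node (.leaf (0, 0)) (.leaf (59, 324))) (.node (.leaf (0, 0)) (.leaf (73, 4012)))) (.node (.node (.leaf (0, 0)) (.leaf (77, 3849))) (.node (.leaf (2, 1669)) (.leaf (44, 1363))))) (.node (.node (.node (.leaf (0, 0)) (.leaf (76, 2435))) (.node (.leaf (2, 1413)) (.leaf (2, 3461)))) (.node (.node (.leaf (67, 377)) (.leaf (0, 0))) (.node (.leaf (8, 3439)) (.leaf (67, 2829))))))) (.node (.node (.node (.node (.node (.leaf (2, 69)) (.leaf (0, 0))) (.node (.leaf (6, 1746)) (.leaf (0, 0)))) (.node (.node (.leaf (0, 0)) (.leaf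 (66, 1297))) (.node (.leaf (59, 250)) (.leaf (77, 3250))))) (.node (.node (.node (.leaf (0, 0)) (.leaf (2, 2373))) (.node (.leaf (0, 0)) (.leaf (66, 1850)))) (.node (.node (.leaf (0, 0)) (.leaf (0, 0))) (.node (.leaf (2, 1861)) (.leaf (49, 978)))))) (.node (.node (.node (.node (.leaf (2, 197)) (.leaf (6, 2982))) (.node (.leaf (0, 0)) (.leaf (59, 654)))) (.node (.node (.leaf (0, 0)) (.leaf (67, 1524))) (.node (.leaf (2, 3223)) (.leaf (65, 3479))))) (.node (.node (.node (.leaf (6, 688)) (.leaf (2, 2501))) (.node (.leaf (0, 0)) (.leaf (66, 2332)))) (.node (.node (.leaf (2, 965)) (.leaf (63, 4090))) (.node (.leaf (73, 1301)) (.leaf (76, 2770))))))))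

def twoVia23 : Janko.Tree (ℕ × ℕ) :=
  (.node (.node (.node (.node (.node (.node (.node (.leaf (0, 0)) (.leaf (23, 3442))) (.leaf (66, 1651))) (.node (.leaf (26, 1028)) (.leaf (0, 0)))) (.node (.node (.leaf (0, 0)) (.leaf (67, 1197))) (.node (.leaf (77, 2732)) (.leaf (67, 1425))))) (.node (.node (.node (.leaf (35, 679)) (.leaf (0, 0))) (.node (.leaf (59, 1670)) (.leaf (67, 2500)))) (.node (.node (.leaf (0, 0)) (.leaf (76, 1420))) (.node (.leaf (43, 77)) (.leaf (60, 3811)))))) (.node (.node (.node (.node (.leaf (0, 0)) (.leaf (67, 100))) (.node (.leaf (43, 433)) (.leaf (65, 2718)))) (.node (.node (.leaf (0, 0)) (.leaf (77, 3347))) (.node (.leaf (22, 1285)) (.leaf (76, 3565))))) (.node (.node (.node (.leaf (0, 0)) (.leaf (57, 1688))) (.node (.leaf (0, 0)) (.leaf (62, 1938)))) (.node (.node (.leaf (0, 0)) (.leaf (66, 609))) (.node (.leaf (8, 1909)) (.leaf (69, 2429))))))) (.node (.node (.node (.node (.node (.leaf (0, 0)) (.leaf (22, 1581))) (.node (.leaf (73, 1231)) (.leaf (66, 2856)))) (.node (.node (.leaf (0,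 0)) (.leaf (65, 2792))) (.node (.leaf (67, 2251)) (.leaf (53, 3278))))) (.node (.node (.node (.leaf (0, 0)) (.leaf (67, 1440))) (.node (.leaf (53, 1411)) (.leaf (65, 282)))) (.node (.node (.leaf (0, 0)) (.leaf (67, 592))) (.node (.leaf (71, 1540)) (.leaf (66, 2227)))))) (.node (.node (.node (.node (.leaf (0, 0)) (.leaf (73, 2258))) (.node (.leaf (65, 151)) (.leaf (77, 1236)))) (.node (.node (.leaf (0, 0)) (.leaf (73, 1911))) (.node (.leaf (77, 3975)) (.leaf (56, 3615))))) (.node (.node (.node (.leaf (0, 0)) (.leaf (66, 245))) (.node (.leaf (0, 0)) (.leaf (75, 2971)))) (.node (.node (.leaf (0, 0)) (.leaf (0, 0))) (.node (.leaf (53, 265)) (.leaf (77, 3546))))))))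

def twoVia24 : Janko.Tree (ℕ × ℕ) :=
  (.node (.node (.node (.node (.node (.node (.node (.leaf (0, 0)) (.leaf (24, 647))) (.leaf (67, 1833))) (.node (.leaf (0, 1030)) (.leaf (6, 3078)))) (.node (.node (.leaf (0, 0)) (.leaf (0, 2566))) (.node (.leaf (65, 3931)) (.leaf (73, 3590))))) (.node (.node (.node (.leaf (0, 262)) (.leaf (10, 363))) (.node (.leaf (0, 0)) (.leaf (59, 3334)))) (.node (.node (.leaf (0, 0)) (.leaf (71, 1968))) (.node (.leaf (0, 0)) (.leaf (76, 3846)))))) (.node (.node (.node (.node (.leaf (35, 1114)) (.leaf (72, 1150))) (.node (.leaf (73, 11)) (.leaf (71, 1901)))) (.node (.node (.leaf (0, 0)) (.leaf (76, 2694))) (.node (.leaf (46, 1670)) (.leaf (0, 3718))))) (.node (.node (.node (.leaf (71, 1066)) (.leaf (75, 2438))) (.node (.leaf (21, 47)) (.leaf (0, 3462)))) (.node (.node (.leaf (0, 0)) (.leaf (73, 599))) (.node (.leaf (0, 1926)) (.leaf (67, 3974))))))) (.node (.node (.node (.node (.node (.leaf (0, 0)) (.leaf (6, 2122))) (.node (.leaf (0, 0)) (.leaf (0, 0)))) (.node (.node (.leaf (0, 582))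 (.leaf (76, 2630))) (.node (.leaf (12, 1606)) (.leaf (69, 1588))))) (.node (.node (.node (.leaf (0, 0)) (.leaf (67, 1959))) (.node (.leaf (0, 1350)) (.leaf (67, 3398)))) (.node (.node (.leaf (0, 838)) (.leaf (0, 0))) (.node (.leaf (0, 0)) (.leaf (0, 3910)))))) (.node (.node (.node (.node (.leaf (0, 198)) (.leaf (65, 338))) (.node (.leaf (0, 1222)) (.leaf (0, 3270)))) (.node (.node (.leaf (0, 710)) (.leaf (0, 2758))) (.node (.leaf (0, 0)) (.leaf (76, 3782))))) (.node (.node (.node (.leaf (54, 44)) (.leaf (76, 4088))) (.node (.leaf (76, 3917)) (.leaf (7, 837)))) (.node (.node (.leaf (73, 966)) (.leaf (0, 0))) (.node (.leaf (0, 1990)) (.leaf (71, 4038))))))))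

def twoVia25 : Janko.Tree (ℕ × ℕ) :=
  (.node (.node (.node (.node (.node (.node (.node (.leaf (0, 0)) (.leaf (25, 98))) (.leaf (1, 2054))) (.node (.leaf (55, 373)) (.leaf (1, 3078)))) (.node (.node (.leaf (1, 518)) (.leaf (0, 0))) (.node (.leaf (1, 1542)) (.leaf (77, 3872))))) (.node (.node (.node (.leaf (0, 0)) (.leaf (76, 1044))) (.node (.leaf (1, 1286)) (.leaf (62, 2204)))) (.node (.node (.leaf (1, 774)) (.leaf (76, 2638))) (.node (.leaf (0, 0)) (.leaf (65, 250)))))) (.node (.node (.node (.node (.leaf (0, 0)) (.leaf (1, 2853))) (.node (.leaf (59, 2473)) (.leaf (77, 1793)))) (.node (.node (.leaf (1, 646)) (.leaf (76, 3199))) (.node (.leaf (76, 3165)) (.leaf (64, 2640))))) (.node (.node (.node (.leaf (0, 0)) (.leaf (44, 397))) (.node (.leaf (1, 2722)) (.leaf (73, 3867)))) (.node (.node (.leaf (61, 4000)) (.leaf (76, 2036))) (.node (.leaf (0, 0)) (.leaf (61, 3551))))))) (.node (.node (.node (.node (.node (.leaf (0, 0)) (.leaf (0, 0))) (.node (.leaf (1, 1094)) (.leaf (1, 3142)))) (.node (.node (.leaf (0, 0))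 (.leaf (66, 1296))) (.node (.leaf (1, 1606)) (.leaf (1, 3654))))) (.node (.node (.node (.leaf (1, 326)) (.leaf (76, 3334))) (.node (.leaf (65, 1685)) (.leaf (40, 647)))) (.node (.node (.leaf (60, 295)) (.leaf (64, 3824))) (.node (.leaf (0, 0)) (.leaf (54, 3728)))))) (.node (.node (.node (.node (.leaf (0, 0)) (.leaf (1, 2246))) (.node (.leaf (0, 0)) (.leaf (75, 2719)))) (.node (.node (.leaf (0, 0)) (.leaf (71, 1398))) (.node (.leaf (1, 1734)) (.leaf (1, 3782))))) (.node (.node (.node (.leaf (1, 454)) (.leaf (76, 2858))) (.node (.leaf (1, 1478)) (.leaf (76, 2577)))) (.node (.node (.leaf (57, 1841)) (.leaf (1, 3014))) (.node (.leaf (76, 2877)) (.leaf (1, 4038))))))))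

def twoVia26 : Janko.Tree (ℕ × ℕ) :=
  (.node (.node (.node (.node (.node (.node (.node (.leaf (2, 6)) (.leaf (26, 665))) (.leaf (67, 833))) (.node (.leaf (67, 4)) (.leaf (67, 1729)))) (.node (.node (.leaf (4, 518)) (.leaf (2, 3207))) (.node (.leaf (0, 0)) (.leaf (2, 3590))))) (.node (.node (.node (.leaf (51, 807)) (.leaf (2, 2310))) (.node (.leaf (77, 3165)) (.leaf (60, 3854)))) (.node (.node (.leaf (0, 0)) (.leaf (0, 0))) (.node (.leaf (2, 1798)) (.leaf (65, 2629)))))) (.node (.node (.node (.node (.leaf (2, 134)) (.leaf (2, 2930))) (.node (.leaf (2, 1158)) (.leaf (73, 2389)))) (.node (.node (.leaf (66, 1467)) (.leaf (77, 3819))) (.node (.leaf (76, 2135)) (.leaf (65, 2919))))) (.node (.node (.node (.leaf (0, 0)) (.leaf (0, 0))) (.node (.leaf (44, 717)) (.leaf (77, 3215)))) (.node (.node (.leaf (2, 902)) (.leaf (2, 2950))) (.node (.leaf (6, 3433)) (.leaf (67, 3968))))))) (.node (.node (.node (.node (.node (.leaf (0, 0)) (.leaf (2, 2118))) (.node (.leaf (0, 0)) (.leaf (76, 3726)))) (.node (.node (.leaf (0, 0))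 (.leaf (76, 3963))) (.node (.leaf (0, 0)) (.leaf (76, 3629))))) (.node (.node (.node (.leaf (0, 0)) (.leaf (76, 2156))) (.node (.leaf (22, 522)) (.leaf (2, 3398)))) (.node (.node (.leaf (18, 1895)) (.leaf (73, 2599))) (.node (.leaf (0, 0)) (.leaf (18, 2925)))))) (.node (.node (.node (.node (.leaf (0, 0)) (.leaf (62, 1844))) (.node (.leaf (76, 830)) (.leaf (51, 1754)))) (.node (.node (.leaf (0, 0)) (.leaf (73, 3102))) (.node (.leaf (76, 1575)) (.leaf (76, 1258))))) (.node (.node (.node (.leaf (67, 1152)) (.leaf (4, 2502))) (.node (.leaf (0, 0)) (.leaf (2, 3526)))) (.node (.node (.leaf (0, 0)) (.leaf (71, 3783))) (.node (.leaf (73, 1116)) (.leaf (67, 2919))))))))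

def twoVia27 : Janko.Tree (ℕ × ℕ) :=
  (.node (.node (.node (.node (.node (.node (.node (.leaf (0, 0)) (.leaf (14, 0))) (.leaf (71, 1644))) (.node (.leaf (76, 171)) (.leaf (0, 0)))) (.node (.node (.leaf (0, 0)) (.leaf (21, 969))) (.node (.leaf (76, 1839)) (.leaf (75, 3843))))) (.node (.node (.node (.leaf (0, 0)) (.leaf (62, 837))) (.node (.leaf (77, 1597)) (.leaf (64, 140)))) (.node (.node (.leaf (0, 0)) (.leaf (67, 652))) (.node (.leaf (74, 3966)) (.leaf (64, 1761)))))) (.node (.node (.node (.node (.leaf (0, 0)) (.leaf (24, 601))) (.node (.leaf (76, 3681)) (.leaf (64, 1246)))) (.node (.node (.leaf (0, 0)) (.leaf (59, 1082))) (.node (.leaf (0, 0)) (.leaf (73, 3042))))) (.node (.node (.node (.leaf (0, 0)) (.leaf (59, 3709))) (.node (.leaf (67, 1806)) (.leaf (69, 1447)))) (.node (.node (.leaf (26, 318)) (.leaf (71, 867))) (.node (.leaf (67, 3106)) (.leaf (76, 3968))))))) (.node (.node (.node (.node (.node (.leaf (0, 0)) (.leaf (22, 3064))) (.node (.leaf (35, 1665)) (.leaf (67, 853)))) (.node (.node (.leaf (0,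 0)) (.leaf (58, 3706))) (.node (.leaf (0, 0)) (.leaf (73, 3552))))) (.node (.node (.node (.leaf (0, 0)) (.leaf (67, 331))) (.node (.leaf (47, 2429)) (.leaf (0, 0)))) (.node (.node (.leaf (0, 0)) (.leaf (67, 3735))) (.node (.leaf (74, 1988)) (.leaf (20, 3651)))))) (.node (.node (.node (.node (.leaf (0, 0)) (.leaf (77, 1224))) (.node (.leaf (77, 560)) (.leaf (75, 3960)))) (.node (.node (.leaf (77, 2611)) (.leaf (73, 707))) (.node (.leaf (65, 930)) (.leaf (66, 924))))) (.node (.node (.node (.leaf (0, 0)) (.leaf (71, 2637))) (.node (.leaf (0, 0)) (.leaf (0, 0)))) (.node (.node (.leaf (66, 813)) (.leaf (76, 3232))) (.node (.leaf (0, 0)) (.leaf (18, 1761))))))))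

def twoVia28 : Janko.Tree (ℕ × ℕ) :=
  (.node (.node (.node (.node (.node (.node (.node (.leaf (0, 0)) (.leaf (28, 2804))) (.leaf (28, 2055))) (.node (.leaf (0, 0)) (.leaf (59, 3075)))) (.node (.node (.leaf (71, 3769)) (.leaf (76, 2567))) (.node (.leaf (6, 1543)) (.leaf (0, 3591))))) (.node (.node (.node (.leaf (0, 0)) (.leaf (53, 363))) (.node (.leaf (67, 1287)) (.leaf (76, 3335)))) (.node (.node (.leaf (71, 2054)) (.leaf (71, 2159))) (.node (.leaf (64, 2224)) (.leaf (76, 3847)))))) (.node (.node (.node (.node (.leaf (0, 303)) (.leaf (0, 2183))) (.node (.leaf (66, 1159)) (.leaf (0, 3207)))) (.node (.node (.leaf (0, 0)) (.leaf (73, 4040))) (.node (.leaf (76, 1671)) (.leaf (22, 3719))))) (.node (.node (.node (.leaf (0, 391)) (.leaf (0, 0))) (.node (.leaf (0, 1415)) (.leaf (0, 3463)))) (.node (.node (.leaf (0, 0)) (.leaf (67, 2951))) (.node (.leaf (0, 0)) (.leaf (71, 1371))))))) (.node (.node (.node (.node (.node (.leaf (0, 0)) (.leaf (73, 2119))) (.node (.leaf (6, 1095)) (.leaf (73, 1669)))) (.node (.node (.leaf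 (0, 0)) (.leaf (66, 2259))) (.node (.leaf (66, 1607)) (.leaf (0, 3978))))) (.node (.node (.node (.leaf (0, 0)) (.leaf (67, 561))) (.node (.leaf (0, 2707)) (.leaf (71, 1841)))) (.node (.node (.leaf (65, 839)) (.leaf (69, 2737))) (.node (.leaf (0, 1863)) (.leaf (66, 3911)))))) (.node (.node (.node (.node (.leaf (0, 0)) (.leaf (73, 1830))) (.node (.leaf (22, 1223)) (.leaf (66, 3271)))) (.node (.node (.leaf (0, 0)) (.leaf (0, 2759))) (.node (.leaf (35, 580)) (.leaf (73, 3034))))) (.node (.node (.node (.leaf (0, 0)) (.leaf (0, 2503))) (.node (.leaf (77, 3917)) (.leaf (69, 3527)))) (.node (.node (.leaf (0, 967)) (.leaf (77, 3015))) (.node (.leaf (73, 1991)) (.leaf (0, 4039))))))))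

def twoVia29 : Janko.Tree (ℕ × ℕ) :=
  (.node (.node (.node (.node (.node (.node (.node (.leaf (0, 0)) (.leaf (29, 2275))) (.leaf (67, 884))) (.node (.leaf (0, 0)) (.leaf (0, 0)))) (.node (.node (.leaf (1, 1068)) (.leaf (1, 2567))) (.node (.leaf (0, 0)) (.leaf (41, 212))))) (.node (.node (.node (.leaf (12, 7)) (.leaf (1, 2311))) (.node (.leaf (1, 1287)) (.leaf (1, 3335)))) (.node (.node (.leaf (0, 0)) (.leaf (76, 2718))) (.node (.leaf (55, 596)) (.leaf (76, 3163)))))) (.node (.node (.node (.node (.leaf (1, 135)) (.leaf (77, 2856))) (.node (.leaf (0, 0)) (.leaf (77, 2317)))) (.node (.node (.leaf (0, 0)) (.leaf (1, 2695))) (.node (.leaf (1, 1671)) (.leaf (56, 1742))))) (.node (.node (.node (.leaf (76, 1089)) (.leaf (1, 2439))) (.node (.leaf (0, 0)) (.leaf (76, 2678)))) (.node (.node (.leaf (58, 343)) (.leaf (66, 1838))) (.node (.leaf (1, 1927)) (.leaf (61, 489))))))) (.node (.node (.node (.node (.node (.leaf (1, 71)) (.leaf (66, 858))) (.node (.leaf (76, 2372)) (.leaf (0, 0)))) (.node (.node (.leaf (0, 0)) (.leaf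 (1, 2631))) (.node (.leaf (0, 0)) (.leaf (30, 3140))))) (.node (.node (.node (.leaf (0, 0)) (.leaf (76, 2856))) (.node (.leaf (0, 0)) (.leaf (1, 3399)))) (.node (.node (.leaf (1, 839)) (.leaf (1, 2887))) (.node (.leaf (0, 0)) (.leaf (1, 3911)))))) (.node (.node (.node (.node (.leaf (1, 199)) (.leaf (40, 977))) (.node (.leaf (1, 1223)) (.leaf (43, 3026)))) (.node (.node (.leaf (76, 1537)) (.leaf (77, 3650))) (.node (.leaf (0, 0)) (.leaf (1, 3783))))) (.node (.node (.node (.leaf (0, 0)) (.leaf (0, 0))) (.node (.leaf (76, 972)) (.leaf (76, 2354)))) (.node (.node (.leaf (54, 345)) (.leaf (0, 0))) (.node (.leaf (76, 191)) (.leaf (1, 4039))))))))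

def twoVia30 : Janko.Tree (ℕ × ℕ) :=
  (.node (.node (.node (.node (.node (.node (.node (.leaf (0, 0)) (.leaf (30, 967))) (.leaf (2, 2055))) (.node (.leaf (0, 0)) (.leaf (65, 3677)))) (.node (.node (.leaf (0, 0)) (.leaf (77, 3984))) (.node (.leaf (2, 1543)) (.leaf (12, 993))))) (.node (.node (.node (.leaf (2, 263)) (.leaf (71, 1458))) (.node (.leaf (67, 378)) (.leaf (35, 696)))) (.node (.node (.leaf (2, 775)) (.leaf (69, 3341))) (.node (.leaf (54, 1520)) (.leaf (4, 3847)))))) (.node (.node (.node (.node (.leaf (62, 99)) (.leaf (2, 3650))) (.node (.leaf (57, 2192)) (.leaf (6, 2566)))) (.node (.node (.leaf (2, 647)) (.leaf (73, 3379))) (.node (.leaf (60, 659)) (.leaf (2, 3719))))) (.node (.node (.node (.leaf (65, 32)) (.leaf (76, 2637))) (.node (.leaf (0, 0)) (.leaf (4, 3463)))) (.node (.node (.leaf (0, 0)) (.leaf (0, 0))) (.node (.leaf (76, 1922)) (.leaf (73, 3400))))))) (.node (.node (.node (.node (.node (.leaf (0, 0)) (.leaf (74, 3924))) (.node (.leaf (2, 1095)) (.leaf (2, 3143)))) (.node (.node (.leaf (0,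 0)) (.leaf (67, 3694))) (.node (.leaf (2, 1607)) (.leaf (2, 3655))))) (.node (.node (.node (.leaf (0, 0)) (.leaf (2, 2375))) (.node (.leaf (2, 1351)) (.leaf (73, 1458)))) (.node (.node (.leaf (2, 1634)) (.leaf (76, 3781))) (.node (.leaf (76, 3833)) (.leaf (2, 3911)))))) (.node (.node (.node (.node (.leaf (2, 199)) (.leaf (76, 2731))) (.node (.leaf (0, 0)) (.leaf (2, 3271)))) (.node (.node (.leaf (2, 711)) (.leaf (22, 1401))) (.node (.leaf (2, 1735)) (.leaf (2, 3832))))) (.node (.node (.node (.leaf (0, 0)) (.leaf (71, 2635))) (.node (.leaf (0, 0)) (.leaf (2, 3527)))) (.node (.node (.leaf (0, 0)) (.leaf (2, 3015))) (.node (.leaf (73, 2991)) (.leaf (67, 3637))))))))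

def twoVia31 : Janko.Tree (ℕ × ℕ) :=
  (.node (.node (.node (.node (.node (.node (.node (.leaf (0, 0)) (.leaf (31, 11))) (.leaf (77, 2272))) (.node (.leaf (0, 0)) (.leaf (4, 645)))) (.node (.node (.leaf (0, 0)) (.leaf (77, 3768))) (.node (.leaf (0, 0)) (.leaf (73, 3518))))) (.node (.node (.node (.leaf (59, 7)) (.leaf (73, 1785))) (.node (.leaf (77, 2197)) (.leaf (57, 133)))) (.node (.node (.leaf (0, 0)) (.leaf (67, 2821))) (.node (.leaf (55, 738)) (.leaf (73, 1775)))))) (.node (.node (.node (.node (.leaf (0, 0)) (.leaf (22, 3150))) (.node (.leaf (74, 896)) (.leaf (77, 3116)))) (.node (.node (.leaf (0, 0)) (.leaf (15, 507))) (.node (.leaf (0, 0)) (.leaf (21, 435))))) (.node (.node (.node (.leaf (62, 801)) (.leaf (0, 0))) (.node (.leaf (77, 3144)) (.leaf (70, 2610)))) (.node (.node (.leaf (24, 97)) (.leaf (67, 1072))) (.node (.leaf (43, 789)) (.leaf (73, 4075))))))) (.node (.node (.node (.node (.node (.leaf (0, 0)) (.leaf (67, 3888))) (.node (.leaf (0, 0)) (.leaf (0, 0)))) (.node (.node (.leaf (0, 0)) (.leaf (67,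 3726))) (.node (.leaf (57, 1679)) (.leaf (73, 3241))))) (.node (.node (.node (.leaf (4, 145)) (.leaf (77, 1550))) (.node (.leaf (76, 3472)) (.leaf (69, 569)))) (.node (.node (.leaf (66, 779)) (.leaf (71, 2541))) (.node (.leaf (22, 2990)) (.leaf (40, 2356)))))) (.node (.node (.node (.node (.leaf (0, 0)) (.leaf (57, 2050))) (.node (.leaf (22, 312)) (.leaf (76, 2908)))) (.node (.node (.leaf (0, 0)) (.leaf (77, 2995))) (.node (.leaf (77, 3961)) (.leaf (44, 45))))) (.node (.node (.node (.leaf (67, 44)) (.leaf (20, 3122))) (.node (.leaf (0, 0)) (.leaf (69, 3516)))) (.node (.node (.leaf (73, 3126)) (.leaf (67, 3028))) (.node (.leaf (7, 3439)) (.leaf (43, 720))))))))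

def twoVia32 : Janko.Tree (ℕ × ℕ) :=
  (.node (.node (.node (.node (.node (.node (.node (.leaf (0, 8)) (.leaf (32, 613))) (.leaf (0, 0))) (.node (.leaf (0, 1032)) (.leaf (76, 3080)))) (.node (.node (.leaf (61, 520)) (.leaf (0, 2568))) (.node (.leaf (66, 1544)) (.leaf (6, 3593))))) (.node (.node (.node (.leaf (0, 0)) (.leaf (71, 751))) (.node (.leaf (21, 251)) (.leaf (65, 624)))) (.node (.node (.leaf (73, 1436)) (.leaf (65, 2824))) (.node (.leaf (54, 1800)) (.leaf (0, 3848)))))) (.node (.node (.node (.node (.leaf (60, 73)) (.leaf (0, 0))) (.node (.leaf (55, 3772)) (.leaf (0, 0)))) (.node (.node (.leaf (0, 0)) (.leaf (0, 2696))) (.node (.leaf (0, 0)) (.leaf (0, 3720))))) (.node (.node (.node (.leaf (67, 228)) (.leaf (65, 2440))) (.node (.leaf (76, 3141)) (.leaf (0, 3464)))) (.node (.node (.leaf (0, 904)) (.leaf (65, 2952))) (.node (.leaf (6, 1928)) (.leaf (0, 3976))))))) (.node (.node (.node (.node (.node (.leaf (6, 72)) (.leaf (0, 2120))) (.node (.leaf (0, 0)) (.leaf (71, 1580)))) (.node (.node (.leaf (0, 584))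 (.leaf (0, 0))) (.node (.leaf (69, 1366)) (.leaf (0, 3656))))) (.node (.node (.node (.leaf (0, 328)) (.leaf (0, 0))) (.node (.leaf (65, 1352)) (.leaf (74, 3400)))) (.node (.node (.leaf (65, 840)) (.leaf (0, 2888))) (.node (.leaf (75, 2433)) (.leaf (0, 3912)))))) (.node (.node (.node (.node (.leaf (0, 0)) (.leaf (53, 2248))) (.node (.leaf (73, 1224)) (.leaf (0, 3272)))) (.node (.node (.leaf (0, 712)) (.leaf (73, 3927))) (.node (.leaf (61, 1736)) (.leaf (0, 3784))))) (.node (.node (.node (.leaf (0, 456)) (.leaf (76, 4046))) (.node (.leaf (53, 1480)) (.leaf (47, 3528)))) (.node (.node (.leaf (0, 968)) (.leaf (77, 3776))) (.node (.leaf (0, 0)) (.leaf (73, 1850))))))))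

def twoVia33 : Janko.Tree (ℕ × ℕ) :=
  (.node (.node (.node (.node (.node (.node (.node (.leaf (0, 0)) (.leaf (33, 311))) (.leaf (0, 0))) (.node (.leaf (41, 374)) (.leaf (1, 3080)))) (.node (.node (.leaf (0, 0)) (.leaf (76, 1307))) (.node (.leaf (76, 1411)) (.leaf (62, 2473))))) (.node (.node (.node (.leaf (0, 0)) (.leaf (77, 3726))) (.node (.leaf (73, 1528)) (.leaf (76, 3849)))) (.node (.node (.leaf (0, 0)) (.leaf (1, 2824))) (.node (.leaf (1, 1800)) (.leaf (76, 944)))))) (.node (.node (.node (.node (.leaf (0, 0)) (.leaf (76, 3346))) (.node (.leaf (1, 1160)) (.leaf (1, 3208)))) (.node (.node (.leaf (0, 0)) (.leaf (65, 2617))) (.node (.leaf (0, 0)) (.leaf (1, 3720))))) (.node (.node (.node (.leaf (0, 0)) (.leaf (65, 370))) (.node (.leaf (51, 2278)) (.leaf (77, 1747)))) (.node (.node (.leaf (0, 0)) (.leaf (30, 2426))) (.node (.leaf (0, 0)) (.leaf (77, 3741))))))) (.node (.node (.node (.node (.node (.leaf (0, 0)) (.leaf (0, 0))) (.node (.leaf (1, 1096)) (.leaf (64, 2046)))) (.node (.node (.leaf (0, 0)) (.leaf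 (1, 2632))) (.node (.leaf (0, 0)) (.leaf (76, 2198))))) (.node (.node (.node (.leaf (0, 0)) (.leaf (43, 2368))) (.node (.leaf (60, 3472)) (.leaf (74, 1839)))) (.node (.node (.leaf (65, 1895)) (.leaf (34, 1433))) (.node (.leaf (1, 1864)) (.leaf (46, 3556)))))) (.node (.node (.node (.node (.leaf (0, 0)) (.leaf (1, 2248))) (.node (.leaf (0, 0)) (.leaf (77, 2381)))) (.node (.node (.leaf (0, 0)) (.leaf (56, 1082))) (.node (.leaf (1, 1736)) (.leaf (76, 3950))))) (.node (.node (.node (.leaf (0, 0)) (.leaf (36, 3522))) (.node (.leaf (1, 1480)) (.leaf (64, 2621)))) (.node (.node (.leaf (0, 0)) (.leaf (1, 3016))) (.node (.leaf (1, 1992)) (.leaf (57, 2919))))))))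

def twoVia34 : Janko.Tree (ℕ × ℕ) :=
  (.node (.node (.node (.node (.node (.node (.node (.leaf (0, 0)) (.leaf (34, 6))) (.leaf (77, 2791))) (.node (.leaf (2, 1762)) (.leaf (67, 3956)))) (.node (.node (.leaf (2, 520)) (.leaf (12, 4039))) (.node (.leaf (2, 2865)) (.leaf (2, 3592))))) (.node (.node (.node (.leaf (0, 0)) (.leaf (71, 474))) (.node (.leaf (77, 2950)) (.leaf (2, 3336)))) (.node (.node (.leaf (74, 551)) (.leaf (76, 2821))) (.node (.leaf (67, 3307)) (.leaf (19, 2852)))))) (.node (.node (.node (.node (.leaf (2, 136)) (.leaf (2, 2184))) (.node (.leaf (67, 142)) (.leaf (11, 3207)))) (.node (.node (.leaf (0, 0)) (.leaf (73, 3794))) (.node (.leaf (0, 0)) (.leaf (2, 3720))))) (.node (.node (.node (.leaf (2, 392)) (.leaf (44, 1906))) (.node (.leaf (2, 1416)) (.leaf (2, 3464)))) (.node (.node (.leaf (10, 2094)) (.leaf (66, 1849))) (.node (.leaf (2, 1928)) (.leaf (77, 3981))))))) (.node (.node (.node (.node (.node (.leaf (2, 72)) (.leaf (0, 0))) (.node (.leaf (67, 1751)) (.leaf (2, 3972)))) (.node (.node (.leaf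 (0, 0)) (.leaf (2, 3694))) (.node (.leaf (76, 3947)) (.leaf (19, 3250))))) (.node (.node (.node (.leaf (6, 935)) (.leaf (65, 421))) (.node (.leaf (67, 2379)) (.leaf (77, 3489)))) (.node (.node (.leaf (2, 840)) (.leaf (76, 2869))) (.node (.leaf (2, 1864)) (.leaf (2, 3912)))))) (.node (.node (.node (.node (.leaf (0, 0)) (.leaf (66, 1417))) (.node (.leaf (2, 1224)) (.leaf (2, 3272)))) (.node (.node (.leaf (10, 403)) (.leaf (2, 2760))) (.node (.leaf (58, 748)) (.leaf (74, 2779))))) (.node (.node (.node (.leaf (65, 240)) (.leaf (2, 2504))) (.node (.leaf (46, 2528)) (.leaf (76, 3329)))) (.node (.node (.leaf (6, 1556)) (.leaf (74, 2205))) (.node (.leaf (76, 1990)) (.leaf (67, 2925))))))))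

def twoVia35 : Janko.Tree (ℕ × ℕ) :=
  (.node (.node (.node (.node (.node (.node (.node (.leaf (0, 0)) (.leaf (35, 23))) (.leaf (67, 702))) (.node (.leaf (0, 0)) (.leaf (65, 1417)))) (.node (.node (.leaf (0, 0)) (.leaf (73, 2163))) (.node (.leaf (0, 0)) (.leaf (62, 1965))))) (.node (.node (.node (.leaf (0, 0)) (.leaf (67, 363))) (.node (.leaf (67, 3182)) (.leaf (52, 744)))) (.node (.node (.leaf (24, 282)) (.leaf (21, 294))) (.node (.leaf (55, 727)) (.leaf (67, 2941)))))) (.node (.node (.node (.node (.leaf (0, 0)) (.leaf (67, 1423))) (.node (.leaf (0, 0)) (.leaf (66, 101)))) (.node (.node (.leaf (0, 0)) (.leaf (74, 2759))) (.node (.leaf (0, 0)) (.leaf (5, 2337))))) (.node (.node (.node (.leaf (0, 0)) (.leaf (67, 2482))) (.node (.leaf (69, 1123)) (.leaf (26, 3463)))) (.node (.node (.leaf (0, 0)) (.leaf (0, 0))) (.node (.leaf (0, 0)) (.leaf (77, 1340))))))) (.node (.node (.node (.node (.node (.leaf (0, 0)) (.leaf (44, 888))) (.node (.leaf (76, 1405)) (.leaf (0, 0)))) (.node (.node (.leaf (0, 0)) (.leaf (27, 2925)))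 (.node (.leaf (0, 0)) (.leaf (18, 2037))))) (.node (.node (.node (.leaf (0, 0)) (.leaf (67, 1374))) (.node (.leaf (67, 93)) (.leaf (0, 0)))) (.node (.node (.leaf (0, 0)) (.leaf (41, 1496))) (.node (.leaf (0, 0)) (.leaf (74, 3257)))))) (.node (.node (.node (.node (.leaf (0, 0)) (.leaf (25, 2252))) (.node (.leaf (0, 0)) (.leaf (76, 3201)))) (.node (.node (.leaf (0, 0)) (.leaf (73, 3831))) (.node (.leaf (0, 0)) (.leaf (77, 2469))))) (.node (.node (.node (.leaf (0, 0)) (.leaf (67, 3195))) (.node (.leaf (0, 0)) (.leaf (67, 2148)))) (.node (.node (.leaf (0, 0)) (.leaf (32, 577))) (.node (.leaf (66, 1873)) (.leaf (67, 1477))))))))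

def twoVia36 : Janko.Tree (ℕ × ℕ) :=
  (.node (.node (.node (.node (.node (.node (.node (.leaf (0, 0)) (.leaf (36, 2875))) (.leaf (0, 2057))) (.node (.leaf (0, 0)) (.leaf (38, 3081)))) (.node (.node (.leaf (67, 557)) (.leaf (0, 0))) (.node (.leaf (62, 1545)) (.leaf (0, 3593))))) (.node (.node (.node (.leaf (0, 265)) (.leaf (0, 3271))) (.node (.leaf (0, 1289)) (.leaf (73, 3337)))) (.node (.node (.leaf (0, 777)) (.leaf (73, 2825))) (.node (.leaf (0, 0)) (.leaf (0, 3849)))))) (.node (.node (.node (.node (.leaf (0, 0)) (.leaf (0, 0))) (.node (.leaf (17, 233)) (.leaf (6, 3209)))) (.node (.node (.leaf (0, 649)) (.leaf (72, 3450))) (.node (.leaf (0, 1673)) (.leaf (73, 3721))))) (.node (.node (.node (.leaf (0, 0)) (.leaf (67, 1683))) (.node (.leaf (65, 3617)) (.leaf (22, 3465)))) (.node (.node (.leaf (0, 0)) (.leaf (0, 2953))) (.node (.leaf (0, 1929)) (.leaf (0, 3977))))))) (.node (.node (.node (.node (.node (.leaf (0, 0)) (.leaf (77, 3864))) (.node (.leaf (73, 1097)) (.leaf (74, 3929)))) (.node (.node (.leaf (0, 0))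 (.leaf (76, 3977))) (.node (.leaf (0, 1609)) (.leaf (62, 3657))))) (.node (.node (.node (.leaf (0, 0)) (.leaf (0, 2377))) (.node (.leaf (73, 1353)) (.leaf (0, 3401)))) (.node (.node (.leaf (0, 0)) (.leaf (77, 3516))) (.node (.leaf (0, 0)) (.leaf (73, 4023)))))) (.node (.node (.node (.node (.leaf (0, 201)) (.leaf (76, 2249))) (.node (.leaf (0, 0)) (.leaf (73, 686)))) (.node (.node (.leaf (0, 1533)) (.leaf (77, 2761))) (.node (.leaf (65, 1737)) (.leaf (76, 3785))))) (.node (.node (.node (.leaf (67, 457)) (.leaf (73, 3429))) (.node (.leaf (0, 0)) (.leaf (0, 3953)))) (.node (.node (.leaf (0, 0)) (.leaf (76, 3017))) (.node (.leaf (76, 1993)) (.leaf (0, 4041))))))))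

def twoVia37 : Janko.Tree (ℕ × ℕ) :=
  (.node (.node (.node (.node (.node (.node (.node (.leaf (0, 0)) (.leaf (37, 316))) (.leaf (65, 858))) (.node (.leaf (1, 1033)) (.leaf (1, 3081)))) (.node (.node (.leaf (1, 521)) (.leaf (1, 2569))) (.node (.leaf (0, 0)) (.leaf (76, 2115))))) (.node (.node (.node (.leaf (0, 0)) (.leaf (1, 2313))) (.node (.leaf (0, 0)) (.leaf (76, 2780)))) (.node (.node (.leaf (0, 0)) (.leaf (65, 2477))) (.node (.leaf (0, 0)) (.leaf (1, 3849)))))) (.node (.node (.node (.node (.leaf (0, 0)) (.leaf (44, 1359))) (.node (.leaf (0, 0)) (.leaf (75, 2501)))) (.node (.node (.leaf (0, 0)) (.leaf (77, 3434))) (.node (.leaf (35, 670)) (.leaf (1, 3721))))) (.node (.node (.node (.leaf (0, 0)) (.leaf (1, 2441))) (.node (.leaf (1, 1417)) (.leaf (39, 2346)))) (.node (.node (.leaf (60, 71)) (.leaf (14, 2580))) (.node (.leaf (76, 3322)) (.leaf (58, 1675))))))) (.node (.node (.node (.node (.node (.leaf (0, 0)) (.leaf (76, 2838))) (.node (.leaf (66, 1545)) (.leaf (1, 3145)))) (.node (.node (.leaf (1, 585)) (.leaf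 (76, 3699))) (.node (.leaf (76, 3010)) (.leaf (76, 2682))))) (.node (.node (.node (.leaf (1, 329)) (.leaf (76, 3654))) (.node (.leaf (43, 1130)) (.leaf (77, 3920)))) (.node (.node (.leaf (58, 2289)) (.leaf (0, 0))) (.node (.leaf (77, 3809)) (.leaf (1, 3913)))))) (.node (.node (.node (.node (.leaf (28, 62)) (.leaf (76, 3099))) (.node (.leaf (0, 0)) (.leaf (61, 2709)))) (.node (.node (.leaf (1, 713)) (.leaf (1, 2761))) (.node (.leaf (76, 3006)) (.leaf (65, 1190))))) (.node (.node (.node (.leaf (1, 457)) (.leaf (1, 2505))) (.node (.leaf (76, 2854)) (.leaf (1, 3962)))) (.node (.node (.leaf (76, 295)) (.leaf (1, 3017))) (.node (.leaf (1, 3054)) (.leaf (1, 4041))))))))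

def twoVia38 : Janko.Tree (ℕ × ℕ) :=
  (.node (.node (.node (.node (.node (.node (.node (.leaf (2, 9)) (.leaf (38, 593))) (.leaf (71, 1964))) (.node (.leaf (67, 2272)) (.leaf (76, 3102)))) (.node (.node (.leaf (67, 297)) (.leaf (76, 2163))) (.node (.leaf (7, 2847)) (.leaf (6, 2214))))) (.node (.node (.node (.leaf (59, 1)) (.leaf (67, 1605))) (.node (.leaf (73, 1605)) (.leaf (77, 3590)))) (.node (.node (.leaf (64, 3550)) (.leaf (2, 2825))) (.node (.leaf (0, 0)) (.leaf (8, 2853)))))) (.node (.node (.node (.node (.leaf (0, 0)) (.leaf (67, 3038))) (.node (.leaf (2, 1161)) (.leaf (2, 3209)))) (.node (.node (.leaf (0, 0)) (.leaf (2, 2697))) (.node (.leaf (48, 3134)) (.leaf (71, 2849))))) (.node (.node (.node (.leaf (0, 0)) (.leaf (2, 3041))) (.node (.leaf (71, 1091)) (.leaf (76, 3605)))) (.node (.node (.leaf (2, 905)) (.leaf (67, 2204))) (.node (.leaf (71, 2231)) (.leaf (67, 3664))))))) (.node (.node (.node (.node (.node (.leaf (0, 0)) (.leaf (2, 2121))) (.node (.leaf (67, 3946)) (.leaf (76, 3029)))) (.node (.node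 (.leaf (0, 0)) (.leaf (2, 2633))) (.node (.leaf (0, 0)) (.leaf (77, 1287))))) (.node (.node (.node (.leaf (0, 0)) (.leaf (67, 630))) (.node (.leaf (76, 1040)) (.leaf (77, 3770)))) (.node (.node (.leaf (0, 0)) (.leaf (2, 2889))) (.node (.leaf (73, 611)) (.leaf (73, 3411)))))) (.node (.node (.node (.node (.leaf (34, 684)) (.leaf (67, 765))) (.node (.leaf (4, 1225)) (.leaf (0, 0)))) (.node (.node (.leaf (0, 0)) (.leaf (73, 3551))) (.node (.leaf (76, 3927)) (.leaf (74, 631))))) (.node (.node (.node (.leaf (0, 0)) (.leaf (76, 2521))) (.node (.leaf (0, 0)) (.leaf (73, 4008)))) (.node (.node (.leaf (0, 0)) (.leaf (2, 3017))) (.node (.leaf (4, 1993)) (.leaf (69, 3971))))))))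

def twoVia39 : Janko.Tree (ℕ × ℕ) :=
  (.node (.node (.node (.node (.node (.node (.node (.leaf (0, 0)) (.leaf (15, 0))) (.leaf (76, 3898))) (.node (.leaf (66, 2997)) (.leaf (0, 0)))) (.node (.node (.leaf (66, 1674)) (.leaf (66, 2156))) (.node (.leaf (43, 3275)) (.leaf (62, 1875))))) (.node (.node (.node (.leaf (0, 0)) (.leaf (65, 3957))) (.node (.leaf (66, 694)) (.leaf (64, 2902)))) (.node (.node (.leaf (0, 0)) (.leaf (76, 3579))) (.node (.leaf (64, 1765)) (.leaf (32, 2022)))))) (.node (.node (.node (.node (.leaf (0, 0)) (.leaf (25, 947))) (.node (.leaf (0, 0)) (.leaf (70, 2114)))) (.node (.node (.leaf (0, 0)) (.leaf (77, 3256))) (.node (.leaf (57, 1956)) (.leaf (73, 1972))))) (.node (.node (.node (.leaf (0, 0)) (.leaf (66, 3040))) (.node (.leaf (74, 3357)) (.leaf (64, 3467)))) (.node (.node (.leaf (59, 30)) (.leaf (76, 3121))) (.node (.leaf (77, 2462)) (.leaf (74, 2681))))))) (.node (.node (.node (.node (.node (.leaf (26, 72)) (.leaf (22, 2379))) (.node (.leaf (0, 0)) (.leaf (76, 661)))) (.node (.node (.leaf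 (0, 0)) (.leaf (77, 2556))) (.node (.leaf (77, 2699)) (.leaf (66, 149))))) (.node (.node (.node (.leaf (0, 0)) (.leaf (43, 622))) (.node (.leaf (40, 1370)) (.leaf (75, 3239)))) (.node (.node (.leaf (0, 0)) (.leaf (0, 0))) (.node (.leaf (4, 3236)) (.leaf (67, 1692)))))) (.node (.node (.node (.node (.leaf (0, 0)) (.leaf (64, 1878))) (.node (.leaf (0, 0)) (.leaf (73, 3359)))) (.node (.node (.leaf (0, 0)) (.leaf (56, 414))) (.node (.leaf (67, 242)) (.leaf (67, 688))))) (.node (.node (.node (.leaf (67, 1437)) (.leaf (0, 0))) (.node (.leaf (52, 1545)) (.leaf (67, 1251)))) (.node (.node (.leaf (55, 656)) (.leaf (76, 3728))) (.node (.leaf (74, 1647)) (.leaf (43, 608))))))))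

def twoVia40 : Janko.Tree (ℕ × ℕ) :=
  (.node (.node (.node (.node (.node (.node (.node (.leaf (0, 0)) (.leaf (40, 245))) (.leaf (75, 3986))) (.node (.leaf (0, 0)) (.leaf (49, 3082)))) (.node (.node (.leaf (0, 0)) (.leaf (16, 2570))) (.node (.leaf (32, 1521)) (.leaf (0, 3594))))) (.node (.node (.node (.leaf (0, 0)) (.leaf (71, 98))) (.node (.leaf (77, 1290)) (.leaf (73, 3338)))) (.node (.node (.leaf (76, 1399)) (.leaf (67, 692))) (.node (.leaf (18, 2302)) (.leaf (8, 3850)))))) (.node (.node (.node (.node (.leaf (0, 138)) (.leaf (0, 2186))) (.node (.leaf (0, 1162)) (.leaf (75, 3210)))) (.node (.node (.leaf (0, 0)) (.leaf (73, 2512))) (.node (.leaf (67, 1955)) (.leaf (71, 2413))))) (.node (.node (.node (.leaf (0, 394)) (.leaf (67, 1582))) (.node (.leaf (76, 1418)) (.leaf (13, 3466)))) (.node (.node (.leaf (0, 0)) (.leaf (0, 2954))) (.node (.leaf (75, 4048)) (.leaf (62, 3978))))))) (.node (.node (.node (.node (.node (.leaf (0, 74)) (.leaf (0, 2122))) (.node (.leaf (0, 1098)) (.leaf (0, 3146)))) (.node (.node (.leaf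 (0, 0)) (.leaf (0, 0))) (.node (.leaf (8, 1609)) (.leaf (0, 3658))))) (.node (.node (.node (.leaf (0, 0)) (.leaf (77, 2378))) (.node (.leaf (67, 1074)) (.leaf (73, 3402)))) (.node (.node (.leaf (0, 0)) (.leaf (73, 607))) (.node (.leaf (76, 1866)) (.leaf (75, 4067)))))) (.node (.node (.node (.node (.leaf (0, 0)) (.leaf (74, 3482))) (.node (.leaf (0, 0)) (.leaf (76, 3598)))) (.node (.node (.leaf (0, 0)) (.leaf (77, 2762))) (.node (.leaf (0, 1738)) (.leaf (0, 3786))))) (.node (.node (.node (.leaf (0, 0)) (.leaf (62, 2506))) (.node (.leaf (0, 0)) (.leaf (0, 3530)))) (.node (.node (.leaf (48, 260)) (.leaf (76, 3086))) (.node (.leaf (77, 1994)) (.leaf (73, 3693))))))))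

def twoVia41 : Janko.Tree (ℕ × ℕ) :=
  (.node (.node (.node (.node (.node (.node (.node (.leaf (0, 0)) (.leaf (41, 108))) (.leaf (1, 2058))) (.node (.leaf (0, 0)) (.leaf (61, 2740)))) (.node (.node (.leaf (1, 1079)) (.leaf (67, 3903))) (.node (.leaf (1, 1546)) (.leaf (76, 2224))))) (.node (.node (.node (.leaf (1, 266)) (.leaf (76, 3332))) (.node (.leaf (71, 1737)) (.leaf (50, 4037)))) (.node (.node (.leaf (0, 0)) (.leaf (1, 2826))) (.node (.leaf (0, 0)) (.leaf (73, 3521)))))) (.node (.node (.node (.node (.leaf (0, 0)) (.leaf (1, 2186))) (.node (.leaf (0, 0)) (.leaf (77, 3951)))) (.node (.node (.leaf (1, 650)) (.leaf (71, 1347))) (.node (.leaf (1, 1674)) (.leaf (1, 3722))))) (.node (.node (.node (.leaf (0, 0)) (.leaf (76, 884))) (.node (.leaf (0, 0)) (.leaf (1, 3466)))) (.node (.node (.leaf (1, 1743)) (.leaf (1, 2954))) (.node (.leaf (1, 1930)) (.leaf (1, 3978))))))) (.node (.node (.node (.node (.node (.leaf (0, 0)) (.leaf (0, 0))) (.node (.leaf (61, 1513)) (.leaf (76, 2754)))) (.node (.node (.leaf (0, 0)) (.leaf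 (42, 2110))) (.node (.leaf (0, 0)) (.leaf (64, 2576))))) (.node (.node (.node (.leaf (0, 0)) (.leaf (76, 3787))) (.node (.leaf (64, 2799)) (.leaf (40, 4021)))) (.node (.node (.leaf (1, 842)) (.leaf (65, 2812))) (.node (.leaf (76, 670)) (.leaf (1, 3914)))))) (.node (.node (.node (.node (.leaf (1, 202)) (.leaf (56, 3560))) (.node (.leaf (1, 1226)) (.leaf (1, 3274)))) (.node (.node (.leaf (76, 2086)) (.leaf (77, 3394))) (.node (.leaf (1, 1738)) (.leaf (50, 2561))))) (.node (.node (.node (.leaf (9, 1210)) (.leaf (0, 0))) (.node (.leaf (1, 1482)) (.leaf (1, 3930)))) (.node (.node (.leaf (1, 970)) (.leaf (43, 1243))) (.node (.leaf (1, 2873)) (.leaf (44, 3541))))))))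

def twoVia42 : Janko.Tree (ℕ × ℕ) :=
  (.node (.node (.node (.node (.node (.node (.node (.leaf (0, 0)) (.leaf (42, 3541))) (.leaf (77, 4030))) (.node (.leaf (2, 1034)) (.leaf (76, 3803)))) (.node (.node (.leaf (0, 0)) (.leaf (2, 2570))) (.node (.leaf (8, 2917)) (.leaf (2, 3594))))) (.node (.node (.node (.leaf (0, 0)) (.leaf (2, 2314))) (.node (.leaf (2, 1290)) (.leaf (2, 3338)))) (.node (.node (.leaf (77, 3685)) (.leaf (2, 2826))) (.node (.leaf (0, 0)) (.leaf (2, 3850)))))) (.node (.node (.node (.node (.leaf (62, 946)) (.leaf (71, 2664))) (.node (.leaf (11, 1697)) (.leaf (73, 1929)))) (.node (.node (.leaf (67, 262)) (.leaf (56, 2397))) (.node (.leaf (2, 1674)) (.leaf (2, 3722))))) (.node (.node (.node (.leaf (6, 991)) (.leaf (67, 3372))) (.node (.leaf (76, 3473)) (.leaf (62, 1689)))) (.node (.node (.leaf (61, 918)) (.leaf (0, 0))) (.node (.leaf (76, 572)) (.leaf (69, 2201))))))) (.node (.node (.node (.node (.node (.leaf (0, 0)) (.leaf (11, 2120))) (.node (.leaf (17, 404)) (.leaf (73, 2767)))) (.node (.node (.leaf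 (2, 586)) (.leaf (2, 2634))) (.node (.leaf (2, 1610)) (.leaf (62, 2696))))) (.node (.node (.node (.leaf (2, 330)) (.leaf (2, 3733))) (.node (.leaf (2, 1354)) (.leaf (8, 1981)))) (.node (.node (.leaf (0, 0)) (.leaf (76, 2951))) (.node (.leaf (76, 384)) (.leaf (67, 3763)))))) (.node (.node (.node (.node (.leaf (0, 0)) (.leaf (2, 2250))) (.node (.leaf (77, 796)) (.leaf (76, 2896)))) (.node (.node (.leaf (0, 0)) (.leaf (2, 2762))) (.node (.leaf (0, 0)) (.leaf (71, 3159))))) (.node (.node (.node (.leaf (0, 0)) (.leaf (67, 3339))) (.node (.leaf (47, 627)) (.leaf (67, 2032)))) (.node (.node (.leaf (56, 93)) (.leaf (0, 0))) (.node (.leaf (2, 1994)) (.leaf (2, 4042))))))))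

def twoVia43 : Janko.Tree (ℕ × ℕ) :=
  (.node (.node (.node (.node (.node (.node (.node (.leaf (0, 0)) (.leaf (43, 255))) (.leaf (0, 0))) (.node (.leaf (0, 0)) (.leaf (67, 82)))) (.node (.node (.leaf (0, 0)) (.leaf (66, 3849))) (.node (.leaf (65, 919)) (.leaf (5, 342))))) (.node (.node (.node (.leaf (0, 0)) (.leaf (59, 2871))) (.node (.leaf (62, 251)) (.leaf (66, 1233)))) (.node (.node (.leaf (0, 0)) (.leaf (66, 2936))) (.node (.leaf (55, 40)) (.leaf (74, 2213)))))) (.node (.node (.node (.node (.leaf (0, 0)) (.leaf (77, 3345))) (.node (.leaf (0, 0)) (.leaf (58, 236)))) (.node (.node (.leaf (0, 0)) (.leaf (67, 2811))) (.node (.leaf (76, 1811)) (.leaf (74, 530))))) (.node (.node (.node (.leaf (57, 429)) (.leaf (4, 1207))) (.node (.leaf (66, 1415)) (.leaf (66, 671)))) (.node (.node (.leaf (0, 0)) (.leaf (0, 0))) (.node (.leaf (4, 2034)) (.leaf (67, 1728))))))) (.node (.node (.node (.node (.node (.leaf (0, 0)) (.leaf (22, 3134))) (.node (.leaf (22, 3726)) (.leaf (65, 2371)))) (.node (.node (.leaf (0, 0)) (.leaf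 (76, 2440))) (.node (.leaf (74, 2814)) (.leaf (76, 1256))))) (.node (.node (.node (.leaf (0, 0)) (.leaf (4, 378))) (.node (.leaf (0, 0)) (.leaf (0, 0)))) (.node (.node (.leaf (0, 0)) (.leaf (66, 916))) (.node (.leaf (52, 807)) (.leaf (4, 1517)))))) (.node (.node (.node (.node (.leaf (0, 0)) (.leaf (76, 2547))) (.node (.leaf (0, 0)) (.leaf (0, 0)))) (.node (.node (.leaf (0, 0)) (.leaf (76, 2445))) (.node (.leaf (74, 242)) (.leaf (73, 3170))))) (.node (.node (.node (.leaf (0, 0)) (.leaf (76, 2764))) (.node (.leaf (67, 685)) (.leaf (65, 296)))) (.node (.node (.leaf (66, 675)) (.leaf (43, 1271))) (.node (.leaf (66, 2091)) (.leaf (76, 2340))))))))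

def twoVia44 : Janko.Tree (ℕ × ℕ) :=
  (.node (.node (.node (.node (.node (.node (.node (.leaf (0, 11)) (.leaf (44, 756))) (.leaf (73, 1862))) (.node (.leaf (33, 3028)) (.leaf (0, 0)))) (.node (.node (.leaf (0, 523)) (.leaf (73, 4026))) (.node (.leaf (0, 0)) (.leaf (76, 3595))))) (.node (.node (.node (.leaf (28, 490)) (.leaf (48, 2315))) (.node (.leaf (0, 0)) (.leaf (69, 3339)))) (.node (.node (.leaf (0, 779)) (.leaf (76, 3035))) (.node (.leaf (0, 1803)) (.leaf (73, 1927)))))) (.node (.node (.node (.node (.leaf (53, 11)) (.leaf (67, 2187))) (.node (.leaf (0, 0)) (.leaf (0, 3211)))) (.node (.node (.leaf (0, 0)) (.leaf (42, 2176))) (.node (.leaf (0, 3078)) (.leaf (0, 3723))))) (.node (.node (.node (.leaf (52, 395)) (.leaf (0, 2443))) (.node (.leaf (58, 1590)) (.leaf (0, 3467)))) (.node (.node (.leaf (0, 907)) (.leaf (71, 2393))) (.node (.leaf (0, 1931)) (.leaf (76, 3979))))))) (.node (.node (.node (.node (.node (.leaf (0, 0)) (.leaf (0, 3557))) (.node (.leaf (11, 710)) (.leaf (65, 657)))) (.node (.node (.leaf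 (67, 798)) (.leaf (0, 2635))) (.node (.leaf (21, 1611)) (.leaf (0, 3659))))) (.node (.node (.node (.leaf (0, 0)) (.leaf (76, 2379))) (.node (.leaf (0, 0)) (.leaf (21, 3403)))) (.node (.node (.leaf (69, 2035)) (.leaf (0, 2891))) (.node (.leaf (73, 1867)) (.leaf (0, 3915)))))) (.node (.node (.node (.node (.leaf (0, 0)) (.leaf (17, 618))) (.node (.leaf (71, 2601)) (.leaf (0, 3275)))) (.node (.node (.leaf (0, 715)) (.leaf (77, 2763))) (.node (.leaf (73, 2397)) (.leaf (73, 1281))))) (.node (.node (.node (.leaf (0, 0)) (.leaf (67, 1963))) (.node (.leaf (28, 1455)) (.leaf (73, 948)))) (.node (.node (.leaf (43, 1105)) (.leaf (0, 0))) (.node (.leaf (76, 1995)) (.leaf (76, 4043))))))))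

def twoVia45 : Janko.Tree (ℕ × ℕ) :=
  (.node (.node (.node (.node (.node (.node (.node (.leaf (0, 0)) (.leaf (45, 1190))) (.leaf (58, 316))) (.node (.leaf (73, 1925)) (.leaf (1, 3083)))) (.node (.node (.leaf (46, 176)) (.leaf (1, 2571))) (.node (.leaf (1, 1547)) (.leaf (1, 3595))))) (.node (.node (.node (.leaf (0, 0)) (.leaf (65, 2591))) (.node (.leaf (1, 1291)) (.leaf (57, 255)))) (.node (.node (.leaf (67, 789)) (.leaf (1, 2827))) (.node (.leaf (1, 3300)) (.leaf (1, 3851)))))) (.node (.node (.node (.node (.leaf (1, 139)) (.leaf (76, 1277))) (.node (.leaf (0, 0)) (.leaf (1, 4020)))) (.node (.node (.leaf (0, 0)) (.leaf (1, 2699))) (.node (.leaf (67, 1718)) (.leaf (76, 2723))))) (.node (.node (.node (.leaf (1, 395)) (.leaf (57, 1092))) (.node (.leaf (1, 1419)) (.leaf (76, 3901)))) (.node (.node (.leaf (0, 0)) (.leaf (57, 1635))) (.node (.leaf (76, 3265)) (.leaf (1, 3979))))))) (.node (.node (.node (.node (.node (.leaf (0, 0)) (.leaf (1, 2123))) (.node (.leaf (76, 1777)) (.leaf (43, 967)))) (.node (.node (.leaf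 (0, 0)) (.leaf (1, 3281))) (.node (.leaf (0, 0)) (.leaf (76, 2745))))) (.node (.node (.node (.leaf (0, 0)) (.leaf (1, 2379))) (.node (.leaf (1, 2376)) (.leaf (76, 4023)))) (.node (.node (.leaf (44, 175)) (.leaf (65, 1498))) (.node (.leaf (76, 740)) (.leaf (57, 426)))))) (.node (.node (.node (.node (.leaf (0, 0)) (.leaf (53, 3550))) (.node (.leaf (0, 0)) (.leaf (76, 3880)))) (.node (.node (.leaf (52, 248)) (.leaf (76, 2903))) (.node (.leaf (1, 1739)) (.leaf (1, 3787))))) (.node (.node (.node (.leaf (1, 459)) (.leaf (1, 2507))) (.node (.leaf (1, 1483)) (.leaf (40, 3977)))) (.node (.node (.leaf (59, 1741)) (.leaf (0, 0))) (.node (.leaf (0, 0)) (.leaf (77, 3329))))))))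

def twoVia46 : Janko.Tree (ℕ × ℕ) :=
  (.node (.node (.node (.node (.node (.node (.node (.leaf (0, 0)) (.leaf (46, 3534))) (.leaf (2, 2059))) (.node (.leaf (54, 191)) (.leaf (76, 3465)))) (.node (.node (.leaf (19, 502)) (.leaf (76, 2043))) (.node (.leaf (59, 210)) (.leaf (58, 1507))))) (.node (.node (.node (.leaf (0, 0)) (.leaf (2, 2315))) (.node (.leaf (74, 215)) (.leaf (67, 3980)))) (.node (.node (.leaf (35, 1903)) (.leaf (44, 928))) (.node (.leaf (0, 0)) (.leaf (2, 3851)))))) (.node (.node (.node (.node (.leaf (0, 0)) (.leaf (15, 3065))) (.node (.leaf (2, 1631)) (.leaf (2, 3211)))) (.node (.node (.leaf (0, 0)) (.leaf (67, 1221))) (.node (.leaf (2, 1675)) (.leaf (73, 4055))))) (.node (.node (.node (.leaf (67, 1150)) (.leaf (19, 1092))) (.node (.leaf (60, 2494)) (.leaf (71, 970)))) (.node (.node (.leaf (59, 8)) (.leaf (73, 3881))) (.node (.leaf (2, 1931)) (.leaf (56, 1776))))))) (.node (.node (.node (.node (.node (.leaf (2, 75)) (.leaf (0, 0))) (.node (.leaf (2, 1099)) (.leaf (2, 3147)))) (.node (.node (.leaf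 (76, 3192)) (.leaf (56, 435))) (.node (.leaf (2, 1611)) (.leaf (71, 3492))))) (.node (.node (.node (.leaf (53, 44)) (.leaf (67, 1359))) (.node (.leaf (2, 2424)) (.leaf (2, 3403)))) (.node (.node (.leaf (77, 1408)) (.leaf (2, 2891))) (.node (.leaf (77, 2787)) (.leaf (19, 2930)))))) (.node (.node (.node (.node (.leaf (0, 0)) (.leaf (2, 2251))) (.node (.leaf (77, 3267)) (.leaf (19, 1769)))) (.node (.node (.leaf (2, 1749)) (.leaf (74, 108))) (.node (.leaf (55, 1738)) (.leaf (77, 3701))))) (.node (.node (.node (.leaf (0, 0)) (.leaf (2, 3407))) (.node (.leaf (76, 1774)) (.leaf (44, 3753)))) (.node (.node (.leaf (2, 971)) (.leaf (2, 3019))) (.node (.leaf (0, 0)) (.leaf (77, 4051))))))))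

def twoVia47 : Janko.Tree (ℕ × ℕ) :=
  (.node (.node (.node (.node (.node (.node (.node (.leaf (0, 0)) (.leaf (47, 3628))) (.leaf (71, 1682))) (.node (.leaf (0, 0)) (.leaf (0, 0)))) (.node (.node (.leaf (0, 0)) (.leaf (65, 1238))) (.node (.leaf (74, 2065)) (.leaf (66, 751))))) (.node (.node (.node (.leaf (0, 0)) (.leaf (0, 0))) (.node (.leaf (77, 3217)) (.leaf (4, 3338)))) (.node (.node (.leaf (0, 0)) (.leaf (0, 0))) (.node (.leaf (73, 3049)) (.leaf (57, 747)))))) (.node (.node (.node (.node (.leaf (0, 0)) (.leaf (21, 336))) (.node (.leaf (0, 0)) (.leaf (75, 2131)))) (.node (.node (.leaf (0, 0)) (.leaf (4, 508))) (.node (.leaf (74, 3699)) (.leaf (69, 4031))))) (.node (.node (.node (.leaf (0, 0)) (.leaf (40, 568))) (.node (.leaf (71, 765)) (.leaf (76, 2918)))) (.node (.node (.leaf (0, 0)) (.leaf (67, 930))) (.node (.leaf (74, 2989)) (.leaf (66, 1928))))))) (.node (.node (.node (.node (.node (.leaf (0, 0)) (.leaf (74, 2293))) (.node (.leaf (67, 403)) (.leaf (0, 0)))) (.node (.node (.leaf (0, 0)) (.leaf (71, 2241)))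 (.node (.leaf (0, 0)) (.leaf (48, 483))))) (.node (.node (.node (.leaf (19, 336)) (.leaf (76, 1959))) (.node (.leaf (0, 0)) (.leaf (74, 3528)))) (.node (.node (.leaf (26, 748)) (.leaf (0, 0))) (.node (.leaf (0, 0)) (.leaf (4, 3383)))))) (.node (.node (.node (.node (.leaf (0, 0)) (.leaf (0, 0))) (.node (.leaf (4, 2007)) (.leaf (0, 0)))) (.node (.node (.leaf (0, 0)) (.leaf (77, 1505))) (.node (.leaf (59, 194)) (.leaf (69, 2767))))) (.node (.node (.node (.leaf (0, 0)) (.leaf (73, 2803))) (.node (.leaf (0, 0)) (.leaf (66, 1197)))) (.node (.node (.leaf (67, 1947)) (.leaf (73, 3529))) (.node (.leaf (77, 3380)) (.leaf (44, 3529))))))))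

def twoVia48 : Janko.Tree (ℕ × ℕ) :=
  (.node (.node (.node (.node (.node (.node (.node (.leaf (0, 0)) (.leaf (48, 59))) (.leaf (69, 756))) (.node (.leaf (0, 0)) (.leaf (0, 3827)))) (.node (.node (.leaf (54, 1689)) (.leaf (8, 1931))) (.node (.leaf (0, 1548)) (.leaf (60, 952))))) (.node (.node (.node (.leaf (0, 0)) (.leaf (65, 2316))) (.node (.leaf (43, 172)) (.leaf (0, 3340)))) (.node (.node (.leaf (0, 0)) (.leaf (0, 2828))) (.node (.leaf (76, 2169)) (.leaf (0, 3852)))))) (.node (.node (.node (.node (.leaf (0, 0)) (.leaf (17, 2188))) (.node (.leaf (0, 0)) (.leaf (49, 3212)))) (.node (.node (.leaf (0, 652)) (.leaf (73, 2391))) (.node (.leaf (0, 0)) (.leaf (77, 3724))))) (.node (.node (.node (.leaf (0, 0)) (.leaf (73, 2953))) (.node (.leaf (58, 296)) (.leaf (69, 3468)))) (.node (.node (.leaf (69, 1490)) (.leaf (76, 2956))) (.node (.leaf (73, 2578)) (.leaf (76, 3980))))))) (.node (.node (.node (.node (.node (.leaf (0, 0)) (.leaf (73, 2093))) (.node (.leaf (44, 1100)) (.leaf (76, 3148)))) (.node (.node (.leaf (59,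 588)) (.leaf (0, 3757))) (.node (.leaf (0, 0)) (.leaf (76, 3660))))) (.node (.node (.node (.leaf (0, 332)) (.leaf (76, 2380))) (.node (.leaf (0, 1356)) (.leaf (58, 354)))) (.node (.node (.leaf (67, 746)) (.leaf (62, 2892))) (.node (.leaf (70, 467)) (.leaf (0, 3916)))))) (.node (.node (.node (.node (.leaf (0, 204)) (.leaf (0, 0))) (.node (.leaf (0, 1228)) (.leaf (52, 3276)))) (.node (.node (.leaf (47, 1172)) (.leaf (35, 2764))) (.node (.leaf (0, 0)) (.leaf (0, 3788))))) (.node (.node (.node (.leaf (67, 460)) (.leaf (0, 2508))) (.node (.leaf (0, 0)) (.leaf (0, 3532)))) (.node (.node (.leaf (0, 0)) (.leaf (73, 497))) (.node (.leaf (0, 1996)) (.leaf (65, 2259))))))))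

def twoVia49 : Janko.Tree (ℕ × ℕ) :=
  (.node (.node (.node (.node (.node (.node (.node (.leaf (1, 12)) (.leaf (49, 2842))) (.leaf (76, 645))) (.node (.leaf (1, 1036)) (.leaf (74, 3892)))) (.node (.node (.leaf (1, 524)) (.leaf (76, 3323))) (.node (.leaf (0, 0)) (.leaf (1, 3596))))) (.node (.node (.node (.leaf (1, 268)) (.leaf (1, 2316))) (.node (.leaf (14, 1289)) (.leaf (62, 1820)))) (.node (.node (.leaf (1, 780)) (.leaf (76, 4044))) (.node (.leaf (1, 1804)) (.leaf (76, 890)))))) (.node (.node (.node (.node (.leaf (0, 0)) (.leaf (1, 2188))) (.node (.leaf (1, 1164)) (.leaf (76, 2096)))) (.node (.node (.leaf (0, 0)) (.leaf (43, 52))) (.node (.leaf (58, 395)) (.leaf (77, 4018))))) (.node (.node (.node (.leaf (0, 0)) (.leaf (1, 2444))) (.node (.leaf (46, 1531)) (.leaf (1, 3468)))) (.node (.node (.leaf (1, 908)) (.leaf (65, 1465))) (.node (.leaf (0, 0)) (.leaf (76, 1453))))))) (.node (.node (.node (.node (.node (.leaf (0, 0)) (.leaf (16, 545))) (.node (.leaf (1, 1100)) (.leaf (48, 3086)))) (.node (.node (.leaf (0,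 0)) (.leaf (1, 2636))) (.node (.leaf (1, 1612)) (.leaf (67, 2649))))) (.node (.node (.node (.leaf (54, 104)) (.leaf (56, 1218))) (.node (.leaf (0, 0)) (.leaf (1, 3404)))) (.node (.node (.leaf (67, 1344)) (.leaf (1, 2892))) (.node (.leaf (1, 1868)) (.leaf (1, 3916)))))) (.node (.node (.node (.node (.leaf (0, 0)) (.leaf (1, 2252))) (.node (.leaf (77, 1564)) (.leaf (76, 3973)))) (.node (.node (.leaf (1, 716)) (.leaf (76, 3626))) (.node (.leaf (1, 1740)) (.leaf (30, 2568))))) (.node (.node (.node (.leaf (0, 0)) (.leaf (71, 1155))) (.node (.leaf (0, 0)) (.leaf (76, 3922)))) (.node (.node (.leaf (1, 972)) (.leaf (61, 1281))) (.node (.leaf (1, 2967)) (.leaf (66, 1098))))))))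

def twoVia50 : Janko.Tree (ℕ × ℕ) :=
  (.node (.node (.node (.node (.node (.node (.node (.leaf (0, 0)) (.leaf (50, 3540))) (.leaf (10, 3473))) (.node (.leaf (28, 360)) (.leaf (54, 692)))) (.node (.node (.leaf (0, 0)) (.leaf (2, 2572))) (.node (.leaf (9, 2883)) (.leaf (53, 889))))) (.node (.node (.node (.leaf (0, 0)) (.leaf (64, 4072))) (.node (.leaf (76, 1349)) (.leaf (65, 1297)))) (.node (.node (.leaf (0, 0)) (.leaf (0, 0))) (.node (.leaf (50, 1803)) (.leaf (76, 3855)))))) (.node (.node (.node (.node (.leaf (0, 0)) (.leaf (58, 336))) (.node (.leaf (73, 2400)) (.leaf (2, 3212)))) (.node (.node (.leaf (65, 582)) (.leaf (70, 263))) (.node (.leaf (0, 0)) (.leaf (2, 3724))))) (.node (.node (.node (.leaf (2, 989)) (.leaf (55, 2443))) (.node (.leaf (2, 1420)) (.leaf (2, 3468)))) (.node (.node (.leaf (0, 0)) (.leaf (2, 2956))) (.node (.leaf (67, 771)) (.leaf (73, 3339))))))) (.node (.node (.node (.node (.node (.leaf (0, 0)) (.leaf (0, 0))) (.node (.leaf (67, 1533)) (.leaf (74, 2041)))) (.node (.node (.leaf (67, 214))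 (.leaf (67, 3380))) (.node (.leaf (71, 2155)) (.leaf (2, 3660))))) (.node (.node (.node (.leaf (62, 887)) (.leaf (2, 2380))) (.node (.leaf (67, 2081)) (.leaf (67, 805)))) (.node (.node (.leaf (2, 844)) (.leaf (71, 3707))) (.node (.leaf (76, 2237)) (.leaf (76, 3835)))))) (.node (.node (.node (.node (.leaf (0, 0)) (.leaf (76, 2593))) (.node (.leaf (0, 0)) (.leaf (76, 3402)))) (.node (.node (.leaf (0, 0)) (.leaf (66, 3892))) (.node (.leaf (2, 1740)) (.leaf (76, 3104))))) (.node (.node (.node (.leaf (59, 379)) (.leaf (66, 3458))) (.node (.leaf (0, 0)) (.leaf (21, 1203)))) (.node (.node (.leaf (0, 0)) (.leaf (0, 0))) (.node (.leaf (76, 2747)) (.leaf (69, 574))))))))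

def twoVia51 : Janko.Tree (ℕ × ℕ) :=
  (.node (.node (.node (.node (.node (.node (.node (.leaf (0, 0)) (.leaf (51, 281))) (.leaf (25, 865))) (.node (.leaf (0, 0)) (.leaf (67, 1686)))) (.node (.node (.leaf (0, 0)) (.leaf (73, 86))) (.node (.leaf (0, 0)) (.leaf (73, 3451))))) (.node (.node (.node (.leaf (0, 0)) (.leaf (0, 0))) (.node (.leaf (77, 2200)) (.leaf (19, 4057)))) (.node (.node (.leaf (0, 0)) (.leaf (77, 3307))) (.node (.leaf (65, 861)) (.leaf (48, 2840)))))) (.node (.node (.node (.node (.leaf (0, 0)) (.leaf (73, 2478))) (.node (.leaf (67, 1368)) (.leaf (67, 1736)))) (.node (.node (.leaf (0, 0)) (.leaf (65, 528))) (.node (.leaf (0, 0)) (.leaf (77, 3960))))) (.node (.node (.node (.leaf (26, 113)) (.leaf (65, 881))) (.node (.leaf (0, 0)) (.leaf (59, 104)))) (.node (.node (.leaf (0, 0)) (.leaf (55, 3927))) (.node (.leaf (74, 1483)) (.leaf (67, 1878))))))) (.node (.node (.node (.node (.node (.leaf (0, 0)) (.leaf (0, 0))) (.node (.leaf (74, 2897)) (.leaf (25, 1601)))) (.node (.node (.leaf (8, 1588)) (.leaf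 (67, 3699))) (.node (.leaf (76, 4001)) (.leaf (46, 2323))))) (.node (.node (.node (.leaf (0, 0)) (.leaf (4, 1042))) (.node (.leaf (43, 1689)) (.leaf (76, 805)))) (.node (.node (.leaf (0, 0)) (.leaf (67, 686))) (.node (.leaf (0, 0)) (.leaf (67, 1852)))))) (.node (.node (.node (.node (.leaf (0, 0)) (.leaf (60, 1008))) (.node (.leaf (0, 0)) (.leaf (67, 715)))) (.node (.node (.leaf (0, 0)) (.leaf (0, 0))) (.node (.leaf (0, 0)) (.leaf (65, 3832))))) (.node (.node (.node (.leaf (26, 236)) (.leaf (67, 3582))) (.node (.leaf (67, 835)) (.leaf (75, 3657)))) (.node (.node (.leaf (0, 0)) (.leaf (67, 1281))) (.node (.leaf (0, 0)) (.leaf (54, 3331))))))))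

def twoVia52 : Janko.Tree (ℕ × ℕ) :=
  (.node (.node (.node (.node (.node (.node (.node (.leaf (0, 0)) (.leaf (52, 907))) (.leaf (0, 2061))) (.node (.leaf (74, 2368)) (.leaf (76, 3085)))) (.node (.node (.leaf (0, 0)) (.leaf (7, 455))) (.node (.leaf (0, 2881)) (.leaf (18, 889))))) (.node (.node (.node (.leaf (22, 2554)) (.leaf (0, 2317))) (.node (.leaf (0, 1293)) (.leaf (73, 2814)))) (.node (.node (.leaf (0, 0)) (.leaf (0, 0))) (.node (.leaf (0, 0)) (.leaf (0, 3853)))))) (.node (.node (.node (.node (.leaf (0, 141)) (.leaf (73, 1511))) (.node (.leaf (69, 2637)) (.leaf (54, 3213)))) (.node (.node (.leaf (67, 653)) (.leaf (75, 1721))) (.node (.leaf (66, 1677)) (.leaf (67, 3725))))) (.node (.node (.node (.leaf (0, 397)) (.leaf (51, 1738))) (.node (.leaf (73, 1186)) (.leaf (65, 126)))) (.node (.node (.leaf (67, 1008)) (.leaf (73, 720))) (.node (.leaf (62, 1933)) (.leaf (0, 3981))))))) (.node (.node (.node (.node (.node (.leaf (0, 77)) (.leaf (0, 2125))) (.node (.leaf (0, 0)) (.leaf (77, 3149)))) (.node (.node (.leaf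 (0, 589)) (.leaf (0, 2637))) (.node (.leaf (73, 2111)) (.leaf (73, 703))))) (.node (.node (.node (.leaf (56, 885)) (.leaf (76, 3959))) (.node (.leaf (53, 1130)) (.leaf (62, 273)))) (.node (.node (.leaf (0, 0)) (.leaf (65, 2893))) (.node (.leaf (66, 1895)) (.leaf (0, 3917)))))) (.node (.node (.node (.node (.leaf (0, 0)) (.leaf (73, 2729))) (.node (.leaf (0, 0)) (.leaf (18, 3277)))) (.node (.node (.leaf (62, 1533)) (.leaf (65, 2765))) (.node (.leaf (67, 347)) (.leaf (76, 3806))))) (.node (.node (.node (.leaf (0, 461)) (.leaf (66, 2509))) (.node (.leaf (51, 201)) (.leaf (19, 3533)))) (.node (.node (.leaf (62, 973)) (.leaf (0, 3021))) (.node (.leaf (0, 0)) (.leaf (77, 4045))))))))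

def twoVia53 : Janko.Tree (ℕ × ℕ) :=
  (.node (.node (.node (.node (.node (.node (.node (.leaf (0, 0)) (.leaf (53, 107))) (.leaf (76, 3809))) (.node (.leaf (1, 1037)) (.leaf (1, 3085)))) (.node (.node (.leaf (0, 0)) (.leaf (76, 3211))) (.node (.leaf (0, 0)) (.leaf (0, 0))))) (.node (.node (.node (.leaf (0, 0)) (.leaf (1, 2317))) (.node (.leaf (58, 2351)) (.leaf (1, 3341)))) (.node (.node (.leaf (0, 0)) (.leaf (1, 2829))) (.node (.leaf (0, 0)) (.leaf (1, 3853)))))) (.node (.node (.node (.node (.leaf (0, 0)) (.leaf (1, 2189))) (.node (.leaf (76, 2485)) (.leaf (1, 3213)))) (.node (.node (.leaf (1, 653)) (.leaf (76, 3464))) (.node (.leaf (1, 1677)) (.leaf (76, 4062))))) (.node (.node (.node (.leaf (0, 0)) (.leaf (1, 2445))) (.node (.leaf (0, 0)) (.leaf (1, 3469)))) (.node (.node (.leaf (0, 0)) (.leaf (66, 1958))) (.node (.leaf (76, 2820)) (.leaf (76, 3083))))))) (.node (.node (.node (.node (.node (.leaf (0, 0)) (.leaf (76, 3792))) (.node (.leaf (1, 2401)) (.leaf (1, 3149)))) (.node (.node (.leaf (0, 0)) (.leaf (67,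 1256))) (.node (.leaf (0, 0)) (.leaf (73, 2454))))) (.node (.node (.node (.leaf (53, 9)) (.leaf (1, 2381))) (.node (.leaf (1, 1357)) (.leaf (1, 3405)))) (.node (.node (.leaf (43, 1106)) (.leaf (1, 2893))) (.node (.leaf (1, 1869)) (.leaf (34, 2934)))))) (.node (.node (.node (.node (.leaf (1, 205)) (.leaf (76, 2998))) (.node (.leaf (76, 2497)) (.leaf (65, 1501)))) (.node (.node (.leaf (43, 1231)) (.leaf (1, 2886))) (.node (.leaf (76, 971)) (.leaf (1, 3940))))) (.node (.node (.node (.leaf (0, 0)) (.leaf (67, 2159))) (.node (.leaf (1, 1485)) (.leaf (49, 4078)))) (.node (.node (.leaf (0, 0)) (.leaf (1, 3948))) (.node (.leaf (75, 3507)) (.leaf (1, 4045))))))))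

def twoVia54 : Janko.Tree (ℕ × ℕ) :=
  (.node (.node (.node (.node (.node (.node (.node (.leaf (0, 0)) (.leaf (54, 1692))) (.leaf (67, 3226))) (.node (.leaf (66, 1999)) (.leaf (8, 2518)))) (.node (.node (.leaf (2, 525)) (.leaf (2, 2573))) (.node (.leaf (2, 1549)) (.leaf (2, 3597))))) (.node (.node (.node (.leaf (2, 269)) (.leaf (16, 1076))) (.node (.leaf (7, 2654)) (.leaf (0, 0)))) (.node (.node (.leaf (0, 0)) (.leaf (2, 2829))) (.node (.leaf (2, 1805)) (.leaf (67, 890)))))) (.node (.node (.node (.node (.leaf (0, 0)) (.leaf (65, 381))) (.node (.leaf (0, 0)) (.leaf (76, 3748)))) (.node (.node (.leaf (0, 0)) (.leaf (73, 3371))) (.node (.leaf (0, 0)) (.leaf (76, 3658))))) (.node (.node (.node (.leaf (6, 1086)) (.leaf (2, 2445))) (.node (.leaf (55, 3103)) (.leaf (2, 4018)))) (.node (.node (.leaf (66, 1879)) (.leaf (70, 3723))) (.node (.leaf (2, 1933)) (.leaf (68, 2686))))))) (.node (.node (.node (.node (.node (.leaf (0, 0)) (.leaf (66, 3850))) (.node (.leaf (0, 0)) (.leaf (62, 709)))) (.node (.node (.leaf (67, 2804))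 (.leaf (69, 1853))) (.node (.leaf (76, 3945)) (.leaf (2, 3661))))) (.node (.node (.node (.leaf (2, 333)) (.leaf (71, 2276))) (.node (.leaf (51, 419)) (.leaf (47, 1904)))) (.node (.node (.leaf (0, 0)) (.leaf (4, 2893))) (.node (.leaf (55, 266)) (.leaf (51, 3483)))))) (.node (.node (.node (.node (.leaf (0, 0)) (.leaf (2, 3409))) (.node (.leaf (2, 1229)) (.leaf (2, 3277)))) (.node (.node (.leaf (2, 717)) (.leaf (66, 3623))) (.node (.leaf (4, 1741)) (.leaf (2, 3789))))) (.node (.node (.node (.leaf (76, 2148)) (.leaf (2, 2509))) (.node (.leaf (62, 304)) (.leaf (67, 1081)))) (.node (.node (.leaf (35, 853)) (.leaf (0, 0))) (.node (.leaf (73, 1021)) (.leaf (26, 4045))))))))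

def twoVia55 : Janko.Tree (ℕ × ℕ) :=
  (.node (.node (.node (.node (.node (.node (.node (.leaf (0, 0)) (.leaf (55, 3894))) (.leaf (74, 1940))) (.node (.leaf (0, 0)) (.leaf (3, 3127)))) (.node (.node (.leaf (0, 0)) (.leaf (69, 3550))) (.node (.leaf (0, 0)) (.leaf (67, 2496))))) (.node (.node (.node (.leaf (0, 0)) (.leaf (76, 4002))) (.node (.leaf (66, 2351)) (.leaf (65, 1477)))) (.node (.node (.leaf (0, 0)) (.leaf (0, 0))) (.node (.leaf (73, 1380)) (.leaf (77, 3808)))))) (.node (.node (.node (.node (.leaf (0, 0)) (.leaf (40, 2175))) (.node (.leaf (65, 3198)) (.leaf (73, 1160)))) (.node (.node (.leaf (76, 854)) (.leaf (64, 494))) (.node (.leaf (76, 2446)) (.leaf (19, 2656))))) (.node (.node (.node (.leaf (0, 0)) (.leaf (75, 2079))) (.node (.leaf (24, 471)) (.leaf (66, 869)))) (.node (.node (.leaf (0, 0)) (.leaf (0, 0))) (.node (.leaf (0, 0)) (.leaf (77, 4079))))))) (.node (.node (.node (.node (.node (.leaf (0, 0)) (.leaf (0, 0))) (.node (.leaf (67, 1098)) (.leaf (74, 2644)))) (.node (.node (.leaf (0, 0)) (.leaf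 (77, 2199))) (.node (.leaf (0, 0)) (.leaf (26, 3939))))) (.node (.node (.node (.leaf (0, 0)) (.leaf (59, 1464))) (.node (.leaf (75, 1356)) (.leaf (76, 1067)))) (.node (.node (.leaf (0, 0)) (.leaf (21, 2548))) (.node (.leaf (77, 2311)) (.leaf (67, 3530)))))) (.node (.node (.node (.node (.leaf (0, 0)) (.leaf (65, 1969))) (.node (.leaf (0, 0)) (.leaf (66, 123)))) (.node (.node (.leaf (0, 0)) (.leaf (66, 2032))) (.node (.leaf (53, 331)) (.leaf (77, 2408))))) (.node (.node (.node (.leaf (0, 0)) (.leaf (76, 2187))) (.node (.leaf (0, 0)) (.leaf (19, 3124)))) (.node (.node (.leaf (0, 0)) (.leaf (73, 2952))) (.node (.leaf (64, 1913)) (.leaf (67, 879))))))))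

def twoVia56 : Janko.Tree (ℕ × ℕ) :=
  (.node (.node (.node (.node (.node (.node (.node (.leaf (0, 14)) (.leaf (56, 203))) (.leaf (67, 1463))) (.node (.leaf (76, 2924)) (.leaf (0, 3086)))) (.node (.node (.leaf (0, 0)) (.leaf (0, 2574))) (.node (.leaf (0, 0)) (.leaf (71, 2193))))) (.node (.node (.node (.leaf (76, 1483)) (.leaf (0, 3204))) (.node (.leaf (0, 2654)) (.leaf (0, 0)))) (.node (.node (.leaf (0, 782)) (.leaf (0, 2830))) (.node (.leaf (47, 254)) (.leaf (65, 3854)))))) (.node (.node (.node (.node (.leaf (0, 0)) (.leaf (21, 1150))) (.node (.leaf (61, 1166)) (.leaf (7, 3214)))) (.node (.node (.leaf (65, 654)) (.leaf (64, 2702))) (.node (.leaf (0, 0)) (.leaf (66, 3718))))) (.node (.node (.node (.leaf (0, 0)) (.leaf (0, 2446))) (.node (.leaf (77, 1422)) (.leaf (77, 3470)))) (.node (.node (.leaf (77, 910)) (.leaf (0, 2958))) (.node (.leaf (73, 3969)) (.leaf (76, 3982))))))) (.node (.node (.node (.node (.node (.leaf (0, 0)) (.leaf (0, 0))) (.node (.leaf (76, 1102)) (.leaf (0, 3150)))) (.node (.node (.leaf (67,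 590)) (.leaf (62, 1877))) (.node (.leaf (0, 0)) (.leaf (67, 3334))))) (.node (.node (.node (.leaf (0, 0)) (.leaf (75, 1732))) (.node (.leaf (77, 1358)) (.leaf (73, 806)))) (.node (.node (.leaf (0, 846)) (.leaf (51, 1172))) (.node (.leaf (62, 1963)) (.leaf (73, 1926)))))) (.node (.node (.node (.node (.leaf (0, 0)) (.leaf (0, 2254))) (.node (.leaf (66, 1230)) (.leaf (0, 3278)))) (.node (.node (.leaf (0, 0)) (.leaf (73, 3146))) (.node (.leaf (0, 1742)) (.leaf (22, 3790))))) (.node (.node (.node (.leaf (0, 0)) (.leaf (66, 2521))) (.node (.leaf (0, 0)) (.leaf (0, 3534)))) (.node (.node (.leaf (0, 0)) (.leaf (73, 3022))) (.node (.leaf (0, 1998)) (.leaf (71, 872))))))))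

def twoVia57 : Janko.Tree (ℕ × ℕ) :=
  (.node (.node (.node (.node (.node (.node (.node (.leaf (0, 0)) (.leaf (57, 224))) (.leaf (64, 1436))) (.node (.leaf (76, 1580)) (.leaf (64, 2248)))) (.node (.node (.leaf (0, 0)) (.leaf (77, 1206))) (.node (.leaf (1, 1550)) (.leaf (1, 3598))))) (.node (.node (.node (.leaf (0, 0)) (.leaf (62, 3204))) (.node (.leaf (76, 2779)) (.leaf (0, 0)))) (.node (.node (.leaf (0, 0)) (.leaf (0, 0))) (.node (.leaf (1, 1806)) (.leaf (1, 3854)))))) (.node (.node (.node (.node (.leaf (1, 142)) (.leaf (41, 3797))) (.node (.leaf (1, 2161)) (.leaf (66, 307)))) (.node (.node (.leaf (76, 1535)) (.leaf (1, 2702))) (.node (.leaf (65, 1951)) (.leaf (1, 3726))))) (.node (.node (.node (.leaf (1, 398)) (.leaf (67, 1094))) (.node (.leaf (76, 2211)) (.leaf (76, 2690)))) (.node (.node (.leaf (1, 910)) (.leaf (0, 0))) (.node (.leaf (75, 3537)) (.leaf (67, 1855))))))) (.node (.node (.node (.node (.node (.leaf (1, 78)) (.leaf (76, 3603))) (.node (.leaf (1, 1102)) (.leaf (66, 441)))) (.node (.node (.leaf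 (0, 0)) (.leaf (65, 2822))) (.node (.leaf (1, 1614)) (.leaf (40, 2791))))) (.node (.node (.node (.leaf (0, 0)) (.leaf (76, 1299))) (.node (.leaf (0, 0)) (.leaf (1, 3406)))) (.node (.node (.leaf (0, 0)) (.leaf (1, 2894))) (.node (.leaf (0, 0)) (.leaf (76, 3208)))))) (.node (.node (.node (.node (.leaf (0, 0)) (.leaf (76, 1322))) (.node (.leaf (0, 0)) (.leaf (0, 0)))) (.node (.node (.leaf (65, 589)) (.leaf (1, 3642))) (.node (.leaf (76, 1095)) (.leaf (77, 2656))))) (.node (.node (.node (.leaf (0, 0)) (.leaf (53, 3572))) (.node (.leaf (0, 0)) (.leaf (1, 3884)))) (.node (.node (.leaf (1, 974)) (.leaf (1, 3022))) (.node (.leaf (76, 823)) (.leaf (1, 4046))))))))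

def twoVia58 : Janko.Tree (ℕ × ℕ) :=
  (.node (.node (.node (.node (.node (.node (.node (.leaf (0, 0)) (.leaf (58, 209))) (.leaf (67, 565))) (.node (.leaf (2, 1038)) (.leaf (69, 1453)))) (.node (.node (.leaf (0, 0)) (.leaf (77, 2577))) (.node (.leaf (0, 0)) (.leaf (62, 890))))) (.node (.node (.node (.leaf (0, 0)) (.leaf (2, 3699))) (.node (.leaf (2, 1294)) (.leaf (2, 3342)))) (.node (.node (.leaf (0, 0)) (.leaf (2, 2830))) (.node (.leaf (62, 254)) (.leaf (76, 2503)))))) (.node (.node (.node (.node (.leaf (0, 0)) (.leaf (66, 103))) (.node (.leaf (2, 1166)) (.leaf (0, 0)))) (.node (.node (.leaf (2, 654)) (.leaf (62, 3950))) (.node (.leaf (0, 0)) (.leaf (67, 478))))) (.node (.node (.node (.leaf (0, 0)) (.leaf (6, 3249))) (.node (.leaf (8, 2103)) (.leaf (67, 2566)))) (.node (.node (.leaf (74, 1607)) (.leaf (62, 928))) (.node (.leaf (77, 2622)) (.leaf (44, 1962))))))) (.node (.node (.node (.node (.node (.leaf (0, 0)) (.leaf (2, 2126))) (.node (.leaf (56, 720)) (.leaf (76, 1217)))) (.node (.node (.leaf (2, 590)) (.leaf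 (2, 2638))) (.node (.leaf (0, 0)) (.leaf (76, 3224))))) (.node (.node (.node (.leaf (0, 0)) (.leaf (73, 579))) (.node (.leaf (2, 2714)) (.leaf (70, 3198)))) (.node (.node (.leaf (6, 1847)) (.leaf (34, 318))) (.node (.leaf (2, 1870)) (.leaf (77, 2501)))))) (.node (.node (.node (.node (.leaf (2, 206)) (.leaf (2, 3510))) (.node (.leaf (66, 2552)) (.leaf (67, 3937)))) (.node (.node (.leaf (54, 584)) (.leaf (76, 3962))) (.node (.leaf (2, 1742)) (.leaf (73, 4009))))) (.node (.node (.node (.leaf (2, 462)) (.leaf (2, 3199))) (.node (.leaf (0, 0)) (.leaf (16, 4000)))) (.node (.node (.leaf (0, 0)) (.leaf (77, 1393))) (.node (.leaf (74, 3121)) (.leaf (67, 3964))))))))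

def twoVia59 : Janko.Tree (ℕ × ℕ) :=
  (.node (.node (.node (.node (.node (.node (.node (.leaf (0, 0)) (.leaf (59, 70))) (.leaf (0, 0))) (.node (.leaf (0, 0)) (.leaf (76, 3798)))) (.node (.node (.leaf (25, 685)) (.leaf (22, 1414))) (.node (.leaf (0, 0)) (.leaf (73, 909))))) (.node (.node (.node (.leaf (0, 0)) (.leaf (3, 2330))) (.node (.leaf (66, 3327)) (.leaf (22, 738)))) (.node (.node (.leaf (0, 0)) (.leaf (4, 3736))) (.node (.leaf (0, 0)) (.leaf (65, 1102)))))) (.node (.node (.node (.node (.leaf (64, 568)) (.leaf (61, 704))) (.node (.leaf (67, 3654)) (.leaf (18, 916)))) (.node (.node (.leaf (0, 0)) (.leaf (66, 2554))) (.node (.leaf (67, 126)) (.leaf (4, 1026))))) (.node (.node (.node (.leaf (76, 397)) (.leaf (40, 570))) (.node (.leaf (64, 155)) (.leaf (4, 2431)))) (.node (.node (.leaf (57, 1175)) (.leaf (0, 0))) (.node (.leaf (0, 0)) (.leaf (76, 3830))))))) (.node (.node (.node (.node (.node (.leaf (0, 0)) (.leaf (59, 99))) (.node (.leaf (65, 1523)) (.leaf (0, 0)))) (.node (.node (.leaf (0, 0)) (.leaf (76,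 2649))) (.node (.leaf (0, 0)) (.leaf (69, 981))))) (.node (.node (.node (.leaf (0, 0)) (.leaf (65, 36))) (.node (.leaf (4, 176)) (.leaf (58, 2275)))) (.node (.node (.leaf (0, 0)) (.leaf (0, 0))) (.node (.leaf (67, 2205)) (.leaf (67, 1478)))))) (.node (.node (.node (.node (.leaf (0, 0)) (.leaf (74, 3229))) (.node (.leaf (0, 0)) (.leaf (20, 2520)))) (.node (.node (.leaf (59, 38)) (.leaf (8, 1204))) (.node (.leaf (35, 1231)) (.leaf (66, 1270))))) (.node (.node (.node (.leaf (0, 0)) (.leaf (0, 0))) (.node (.leaf (0, 0)) (.leaf (75, 3619)))) (.node (.node (.leaf (66, 887)) (.leaf (50, 1363))) (.node (.leaf (69, 1436)) (.leaf (56, 3880))))))))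

def twoVia60 : Janko.Tree (ℕ × ℕ) :=
  (.node (.node (.node (.node (.node (.node (.node (.leaf (0, 0)) (.leaf (60, 140))) (.leaf (73, 2063))) (.node (.leaf (0, 0)) (.leaf (67, 3776)))) (.node (.node (.leaf (0, 527)) (.leaf (75, 2211))) (.node (.leaf (0, 1551)) (.leaf (47, 3599))))) (.node (.node (.node (.leaf (0, 0)) (.leaf (73, 2083))) (.node (.leaf (77, 1295)) (.leaf (46, 740)))) (.node (.node (.leaf (0, 0)) (.leaf (77, 3483))) (.node (.leaf (67, 1595)) (.leaf (73, 3855)))))) (.node (.node (.node (.node (.leaf (0, 0)) (.leaf (0, 2191))) (.node (.leaf (22, 1167)) (.leaf (76, 3215)))) (.node (.node (.leaf (65, 655)) (.leaf (59, 2703))) (.node (.leaf (0, 1679)) (.leaf (71, 2025))))) (.node (.node (.node (.leaf (0, 0)) (.leaf (6, 2447))) (.node (.leaf (0, 1423)) (.leaf (0, 3471)))) (.node (.node (.leaf (0, 911)) (.leaf (76, 2959))) (.node (.leaf (0, 1935)) (.leaf (0, 3983))))))) (.node (.node (.node (.node (.node (.leaf (0, 0)) (.leaf (75, 3903))) (.node (.leaf (67, 1103)) (.leaf (63, 1063)))) (.node (.node (.leaf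 (0, 0)) (.leaf (66, 2639))) (.node (.leaf (77, 3825)) (.leaf (62, 3617))))) (.node (.node (.node (.leaf (47, 305)) (.leaf (0, 3258))) (.node (.leaf (0, 1359)) (.leaf (0, 3407)))) (.node (.node (.leaf (0, 0)) (.leaf (77, 2895))) (.node (.leaf (0, 1871)) (.leaf (69, 989)))))) (.node (.node (.node (.node (.leaf (0, 0)) (.leaf (76, 2255))) (.node (.leaf (0, 1231)) (.leaf (21, 3279)))) (.node (.node (.leaf (0, 719)) (.leaf (76, 2767))) (.node (.leaf (21, 1743)) (.leaf (76, 3791))))) (.node (.node (.node (.leaf (0, 0)) (.leaf (70, 2386))) (.node (.leaf (0, 1487)) (.leaf (41, 3534)))) (.node (.node (.leaf (77, 1221)) (.leaf (0, 0))) (.node (.leaf (0, 3100)) (.leaf (73, 4047))))))))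

def twoVia61 : Janko.Tree (ℕ × ℕ) :=
  (.node (.node (.node (.node (.node (.node (.node (.leaf (1, 15)) (.leaf (61, 1686))) (.leaf (1, 2063))) (.node (.leaf (44, 935)) (.leaf (56, 2685)))) (.node (.node (.leaf (54, 177)) (.leaf (1, 2575))) (.node (.leaf (77, 2975)) (.leaf (71, 1463))))) (.node (.node (.node (.leaf (1, 271)) (.leaf (1, 2319))) (.node (.leaf (0, 0)) (.leaf (1, 3343)))) (.node (.node (.leaf (1, 783)) (.leaf (40, 1663))) (.node (.leaf (66, 3334)) (.leaf (77, 3607)))))) (.node (.node (.node (.node (.leaf (0, 0)) (.leaf (76, 3506))) (.node (.leaf (77, 2660)) (.leaf (1, 3215)))) (.node (.node (.leaf (0, 0)) (.leaf (1, 2703))) (.node (.leaf (0, 0)) (.leaf (43, 118))))) (.node (.node (.node (.leaf (0, 0)) (.leaf (54, 1093))) (.node (.leaf (57, 558)) (.leaf (65, 1943)))) (.node (.node (.leaf (0, 0)) (.leaf (0, 0))) (.node (.leaf (76, 1303)) (.leaf (64, 3389))))))) (.node (.node (.node (.node (.node (.leaf (0, 0)) (.leaf (1, 3289))) (.node (.leaf (0, 0)) (.leaf (76, 3888)))) (.node (.node (.leaf (0, 0))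 (.leaf (1, 2639))) (.node (.leaf (0, 0)) (.leaf (65, 2785))))) (.node (.node (.node (.leaf (1, 335)) (.leaf (1, 2383))) (.node (.leaf (65, 526)) (.leaf (5, 1873)))) (.node (.node (.leaf (1, 847)) (.leaf (76, 2145))) (.node (.leaf (0, 0)) (.leaf (1, 3919)))))) (.node (.node (.node (.node (.leaf (0, 0)) (.leaf (75, 2828))) (.node (.leaf (0, 0)) (.leaf (77, 2798)))) (.node (.node (.leaf (0, 0)) (.leaf (1, 2767))) (.node (.leaf (66, 940)) (.leaf (76, 4080))))) (.node (.node (.node (.leaf (0, 0)) (.leaf (77, 3012))) (.node (.leaf (0, 0)) (.leaf (1, 3535)))) (.node (.node (.leaf (0, 0)) (.leaf (76, 2530))) (.node (.leaf (1, 1999)) (.leaf (1, 4047))))))))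

def twoVia62 : Janko.Tree (ℕ × ℕ) :=
  (.node (.node (.node (.node (.node (.node (.node (.leaf (0, 0)) (.leaf (62, 6))) (.leaf (2, 3237))) (.node (.leaf (0, 0)) (.leaf (66, 2795)))) (.node (.node (.leaf (51, 162)) (.leaf (0, 0))) (.node (.leaf (0, 0)) (.leaf (2, 3599))))) (.node (.node (.node (.leaf (66, 110)) (.leaf (2, 2319))) (.node (.leaf (73, 1902)) (.leaf (77, 3226)))) (.node (.node (.leaf (0, 0)) (.leaf (73, 3889))) (.node (.leaf (0, 0)) (.leaf (2, 3855)))))) (.node (.node (.node (.node (.leaf (2, 143)) (.leaf (67, 1173))) (.node (.leaf (0, 0)) (.leaf (35, 787)))) (.node (.node (.leaf (0, 0)) (.leaf (67, 1314))) (.node (.leaf (6, 3045)) (.leaf (70, 3505))))) (.node (.node (.node (.leaf (2, 399)) (.leaf (2, 2447))) (.node (.leaf (0, 0)) (.leaf (67, 2791)))) (.node (.node (.leaf (2, 911)) (.leaf (67, 3668))) (.node (.leaf (71, 1460)) (.leaf (65, 2170))))))) (.node (.node (.node (.node (.node (.leaf (2, 79)) (.leaf (60, 134))) (.node (.leaf (67, 200)) (.leaf (77, 4093)))) (.node (.node (.leaf (0, 0)) (.leaf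 (54, 530))) (.node (.leaf (2, 1615)) (.leaf (2, 3663))))) (.node (.node (.node (.leaf (35, 415)) (.leaf (76, 2258))) (.node (.leaf (41, 892)) (.leaf (71, 2898)))) (.node (.node (.leaf (0, 0)) (.leaf (77, 3158))) (.node (.leaf (9, 804)) (.leaf (66, 3630)))))) (.node (.node (.node (.node (.leaf (0, 0)) (.leaf (2, 2255))) (.node (.leaf (6, 569)) (.leaf (73, 3996)))) (.node (.node (.leaf (2, 1537)) (.leaf (2, 3146))) (.node (.leaf (76, 2319)) (.leaf (2, 3791))))) (.node (.node (.node (.leaf (0, 0)) (.leaf (2, 2511))) (.node (.leaf (0, 0)) (.leaf (2, 3535)))) (.node (.node (.leaf (2, 975)) (.leaf (2, 3023))) (.node (.leaf (62, 3988)) (.leaf (76, 1857))))))))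

def twoVia63 : Janko.Tree (ℕ × ℕ) :=
  (.node (.node (.node (.node (.node (.node (.node (.leaf (0, 0)) (.leaf (16, 0))) (.leaf (73, 2541))) (.node (.leaf (0, 0)) (.leaf (65, 1955)))) (.node (.node (.leaf (0, 0)) (.leaf (74, 3287))) (.node (.leaf (59, 607)) (.leaf (67, 3318))))) (.node (.node (.node (.leaf (0, 0)) (.leaf (67, 1474))) (.node (.leaf (0, 0)) (.leaf (77, 1872)))) (.node (.node (.leaf (65, 1681)) (.leaf (66, 994))) (.node (.leaf (67, 471)) (.leaf (73, 3890)))))) (.node (.node (.node (.node (.leaf (0, 0)) (.leaf (0, 0))) (.node (.leaf (0, 0)) (.leaf (77, 2623)))) (.node (.node (.leaf (0, 0)) (.leaf (25, 1326))) (.node (.leaf (0, 0)) (.leaf (49, 3036))))) (.node (.node (.node (.leaf (0, 0)) (.leaf (67, 1093))) (.node (.leaf (21, 476)) (.leaf (47, 4000)))) (.node (.node (.leaf (77, 2911)) (.leaf (43, 584))) (.node (.leaf (75, 2555)) (.leaf (73, 2293))))))) (.node (.node (.node (.node (.node (.leaf (0, 0)) (.leaf (65, 2224))) (.node (.leaf (54, 243)) (.leaf (64, 3094)))) (.node (.node (.leaf (55, 3868))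 (.leaf (66, 162))) (.node (.leaf (0, 0)) (.leaf (35, 2226))))) (.node (.node (.node (.leaf (0, 0)) (.leaf (73, 1740))) (.node (.leaf (67, 59)) (.leaf (74, 1953)))) (.node (.node (.leaf (76, 846)) (.leaf (65, 1172))) (.node (.leaf (76, 1923)) (.leaf (73, 2430)))))) (.node (.node (.node (.node (.leaf (0, 0)) (.leaf (77, 2826))) (.node (.leaf (0, 0)) (.leaf (44, 250)))) (.node (.node (.leaf (0, 0)) (.leaf (77, 3021))) (.node (.leaf (40, 1549)) (.leaf (67, 3813))))) (.node (.node (.node (.leaf (0, 0)) (.leaf (77, 2728))) (.node (.leaf (0, 0)) (.leaf (71, 3534)))) (.node (.node (.leaf (0, 0)) (.leaf (76, 3547))) (.node (.leaf (65, 761)) (.leaf (66, 1523))))))))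

def twoVia64 : Janko.Tree (ℕ × ℕ) :=
  (.node (.node (.node (.node (.node (.node (.node (.leaf (0, 0)) (.leaf (64, 110))) (.leaf (69, 2823))) (.node (.leaf (65, 1040)) (.leaf (0, 0)))) (.node (.node (.leaf (6, 528)) (.leaf (65, 2576))) (.node (.leaf (41, 340)) (.leaf (76, 3600))))) (.node (.node (.node (.leaf (0, 0)) (.leaf (67, 1599))) (.node (.leaf (8, 1040)) (.leaf (75, 3190)))) (.node (.node (.leaf (0, 0)) (.leaf (0, 2832))) (.node (.leaf (65, 1808)) (.leaf (0, 3856)))))) (.node (.node (.node (.node (.leaf (0, 0)) (.leaf (55, 2192))) (.node (.leaf (0, 1168)) (.leaf (0, 3216)))) (.node (.node (.leaf (0, 0)) (.leaf (65, 3895))) (.node (.leaf (0, 0)) (.leaf (0, 3728))))) (.node (.node (.node (.leaf (0, 0)) (.leaf (0, 3236))) (.node (.leaf (0, 0)) (.leaf (65, 3472)))) (.node (.node (.leaf (66, 3628)) (.leaf (0, 2960))) (.node (.leaf (77, 2176)) (.leaf (22, 3984))))))) (.node (.node (.node (.node (.node (.leaf (0, 0)) (.leaf (71, 3792))) (.node (.leaf (32, 657)) (.leaf (0, 3152)))) (.node (.node (.leaf (0, 592))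 (.leaf (62, 2640))) (.node (.leaf (76, 3841)) (.leaf (0, 3664))))) (.node (.node (.node (.leaf (8, 336)) (.leaf (71, 104))) (.node (.leaf (0, 1641)) (.leaf (71, 1537)))) (.node (.node (.leaf (0, 0)) (.leaf (0, 0))) (.node (.leaf (9, 1871)) (.leaf (0, 3920)))))) (.node (.node (.node (.node (.leaf (0, 0)) (.leaf (0, 2256))) (.node (.leaf (0, 1232)) (.leaf (76, 3280)))) (.node (.node (.leaf (0, 0)) (.leaf (71, 1045))) (.node (.leaf (0, 1744)) (.leaf (0, 3792))))) (.node (.node (.node (.leaf (0, 464)) (.leaf (45, 2512))) (.node (.leaf (0, 0)) (.leaf (0, 3536)))) (.node (.node (.leaf (73, 2904)) (.leaf (0, 3024))) (.node (.leaf (0, 0)) (.leaf (73, 2285))))))))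

def twoVia65 : Janko.Tree (ℕ × ℕ) :=
  (.node (.node (.node (.node (.node (.node (.node (.leaf (0, 0)) (.leaf (65, 1553))) (.leaf (65, 339))) (.node (.leaf (1, 1040)) (.leaf (1, 3088)))) (.node (.node (.leaf (0, 0)) (.leaf (61, 2096))) (.node (.leaf (1, 1552)) (.leaf (76, 2604))))) (.node (.node (.node (.leaf (0, 0)) (.leaf (1, 2320))) (.node (.leaf (1, 1296)) (.leaf (76, 1867)))) (.node (.node (.leaf (0, 0)) (.leaf (0, 0))) (.node (.leaf (0, 0)) (.leaf (13, 2861)))))) (.node (.node (.node (.node (.leaf (0, 0)) (.leaf (1, 2192))) (.node (.leaf (76, 437)) (.leaf (76, 3832)))) (.node (.node (.leaf (1, 656)) (.leaf (1, 2704))) (.node (.leaf (1, 1680)) (.leaf (65, 2356))))) (.node (.node (.node (.leaf (0, 0)) (.leaf (69, 3236))) (.node (.leaf (0, 0)) (.leaf (16, 3591)))) (.node (.node (.leaf (0, 0)) (.leaf (64, 1693))) (.node (.leaf (77, 3609)) (.leaf (1, 3984))))))) (.node (.node (.node (.node (.node (.leaf (0, 0)) (.leaf (1, 2128))) (.node (.leaf (1, 1104)) (.leaf (76, 1660)))) (.node (.node (.leaf (0, 0)) (.leaf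 (0, 0))) (.node (.leaf (0, 0)) (.leaf (1, 3664))))) (.node (.node (.node (.leaf (0, 0)) (.leaf (76, 1156))) (.node (.leaf (1, 1360)) (.leaf (1, 3408)))) (.node (.node (.leaf (1, 848)) (.leaf (49, 1488))) (.node (.leaf (1, 1872)) (.leaf (30, 2391)))))) (.node (.node (.node (.node (.leaf (1, 208)) (.leaf (76, 3528))) (.node (.leaf (57, 467)) (.leaf (1, 3280)))) (.node (.node (.leaf (65, 139)) (.leaf (76, 1045))) (.node (.leaf (56, 704)) (.leaf (66, 1554))))) (.node (.node (.node (.leaf (0, 0)) (.leaf (1, 2512))) (.node (.leaf (1, 1488)) (.leaf (65, 2034)))) (.node (.node (.leaf (0, 0)) (.leaf (66, 1582))) (.node (.leaf (1, 3445)) (.leaf (1, 4048))))))))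

def twoVia66 : Janko.Tree (ℕ × ℕ) :=
  (.node (.node (.node (.node (.node (.node (.node (.leaf (2, 16)) (.leaf (66, 1956))) (.leaf (73, 3417))) (.node (.leaf (0, 0)) (.leaf (66, 2740)))) (.node (.node (.leaf (2, 528)) (.leaf (76, 528))) (.node (.leaf (67, 886)) (.leaf (2, 3600))))) (.node (.node (.node (.leaf (2, 272)) (.leaf (77, 2529))) (.node (.leaf (67, 2236)) (.leaf (2, 3344)))) (.node (.node (.leaf (2, 784)) (.leaf (62, 22))) (.node (.leaf (2, 1808)) (.leaf (2, 3856)))))) (.node (.node (.node (.node (.leaf (0, 0)) (.leaf (2, 2192))) (.node (.leaf (7, 437)) (.leaf (28, 3828)))) (.node (.node (.leaf (0, 0)) (.leaf (2, 3744))) (.node (.leaf (0, 0)) (.leaf (53, 3788))))) (.node (.node (.node (.leaf (7, 697)) (.leaf (76, 2141))) (.node (.leaf (2, 1424)) (.leaf (67, 396)))) (.node (.node (.leaf (0, 0)) (.leaf (71, 3290))) (.node (.leaf (2, 1936)) (.leaf (2, 3984))))))) (.node (.node (.node (.node (.node (.leaf (0, 0)) (.leaf (64, 2066))) (.node (.leaf (67, 221)) (.leaf (77, 2929)))) (.node (.node (.leaf (0,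 0)) (.leaf (76, 4022))) (.node (.leaf (73, 3016)) (.leaf (76, 3531))))) (.node (.node (.node (.leaf (8, 907)) (.leaf (2, 2384))) (.node (.leaf (76, 1373)) (.leaf (2, 3408)))) (.node (.node (.leaf (52, 618)) (.leaf (76, 1230))) (.node (.leaf (71, 1782)) (.leaf (2, 3920)))))) (.node (.node (.node (.node (.leaf (0, 0)) (.leaf (71, 3891))) (.node (.leaf (62, 1713)) (.leaf (2, 3280)))) (.node (.node (.leaf (2, 720)) (.leaf (2, 2768))) (.node (.leaf (0, 0)) (.leaf (35, 146))))) (.node (.node (.node (.leaf (7, 89)) (.leaf (71, 3928))) (.node (.leaf (0, 0)) (.leaf (2, 4078)))) (.node (.node (.leaf (0, 0)) (.leaf (56, 836))) (.node (.leaf (0, 0)) (.leaf (2, 4048))))))))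

def twoVia67 : Janko.Tree (ℕ × ℕ) :=
  (.node (.node (.node (.node (.node (.node (.node (.leaf (0, 0)) (.leaf (67, 3893))) (.leaf (76, 1787))) (.node (.leaf (0, 0)) (.leaf (25, 3105)))) (.node (.node (.leaf (0, 0)) (.leaf (67, 240))) (.node (.leaf (0, 0)) (.leaf (77, 3925))))) (.node (.node (.node (.leaf (0, 0)) (.leaf (76, 1756))) (.node (.leaf (0, 0)) (.leaf (74, 799)))) (.node (.node (.leaf (0, 0)) (.leaf (0, 0))) (.node (.leaf (67, 733)) (.leaf (77, 3957)))))) (.node (.node (.node (.node (.leaf (0, 0)) (.leaf (52, 1253))) (.node (.leaf (74, 1045)) (.leaf (74, 57)))) (.node (.node (.leaf (0, 0)) (.leaf (67, 3740))) (.node (.leaf (76, 1679)) (.leaf (76, 3586))))) (.node (.node (.node (.leaf (65, 982)) (.leaf (4, 3253))) (.node (.leaf (0, 0)) (.leaf (55, 1726)))) (.node (.node (.leaf (0, 0)) (.leaf (20, 206))) (.node (.leaf (71, 3820)) (.leaf (22, 1638))))))) (.node (.node (.node (.node (.node (.leaf (0, 0)) (.leaf (67, 2923))) (.node (.leaf (64, 3136)) (.leaf (69, 2205)))) (.node (.node (.leaf (0, 0)) (.leaf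 (58, 162))) (.node (.leaf (26, 657)) (.leaf (66, 1036))))) (.node (.node (.node (.leaf (26, 31)) (.leaf (65, 1379))) (.node (.leaf (67, 229)) (.leaf (77, 1592)))) (.node (.node (.leaf (0, 0)) (.leaf (0, 0))) (.node (.leaf (0, 0)) (.leaf (77, 4006)))))) (.node (.node (.node (.node (.leaf (0, 0)) (.leaf (74, 3891))) (.node (.leaf (0, 0)) (.leaf (73, 736)))) (.node (.node (.leaf (59, 23)) (.leaf (22, 554))) (.node (.leaf (0, 0)) (.leaf (76, 3704))))) (.node (.node (.node (.leaf (0, 0)) (.leaf (77, 3754))) (.node (.leaf (65, 744)) (.leaf (57, 3366)))) (.node (.node (.leaf (0, 0)) (.leaf (77, 3372))) (.node (.leaf (25, 1868)) (.leaf (44, 78))))))))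

def twoVia68 : Janko.Tree (ℕ × ℕ) :=
  (.node (.node (.node (.node (.node (.node (.node (.leaf (0, 0)) (.leaf (68, 195))) (.leaf (0, 2065))) (.node (.leaf (0, 0)) (.leaf (76, 3089)))) (.node (.node (.leaf (0, 0)) (.leaf (0, 3526))) (.node (.leaf (0, 0)) (.leaf (62, 104))))) (.node (.node (.node (.leaf (0, 0)) (.leaf (76, 2786))) (.node (.leaf (57, 1928)) (.leaf (62, 2467)))) (.node (.node (.leaf (0, 0)) (.leaf (73, 2848))) (.node (.leaf (0, 1809)) (.leaf (6, 3858)))))) (.node (.node (.node (.node (.leaf (0, 0)) (.leaf (76, 2215))) (.node (.leaf (77, 1169)) (.leaf (0, 3217)))) (.node (.node (.leaf (67, 657)) (.leaf (0, 2705))) (.node (.leaf (0, 0)) (.leaf (50, 3729))))) (.node (.node (.node (.leaf (54, 3)) (.leaf (0, 2449))) (.node (.leaf (58, 1425)) (.leaf (58, 3473)))) (.node (.node (.leaf (0, 0)) (.leaf (74, 2426))) (.node (.leaf (66, 1937)) (.leaf (0, 3985))))))) (.node (.node (.node (.node (.node (.leaf (0, 0)) (.leaf (71, 3288))) (.node (.leaf (65, 1105)) (.leaf (0, 3153)))) (.node (.node (.leaf (0, 0))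 (.leaf (0, 2641))) (.node (.leaf (0, 1617)) (.leaf (64, 3665))))) (.node (.node (.node (.leaf (0, 337)) (.leaf (48, 2385))) (.node (.leaf (66, 1361)) (.leaf (73, 3053)))) (.node (.node (.leaf (71, 2046)) (.leaf (0, 2897))) (.node (.leaf (0, 0)) (.leaf (0, 3921)))))) (.node (.node (.node (.node (.leaf (59, 40)) (.leaf (76, 2257))) (.node (.leaf (0, 0)) (.leaf (76, 3281)))) (.node (.node (.leaf (77, 3327)) (.leaf (73, 2769))) (.node (.leaf (0, 0)) (.leaf (38, 3792))))) (.node (.node (.node (.leaf (0, 0)) (.leaf (73, 2517))) (.node (.leaf (0, 0)) (.leaf (71, 2749)))) (.node (.node (.leaf (18, 111)) (.leaf (66, 3025))) (.node (.leaf (71, 3536)) (.leaf (0, 4049))))))))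

def twoVia69 : Janko.Tree (ℕ × ℕ) :=
  (.node (.node (.node (.node (.node (.node (.node (.leaf (0, 0)) (.leaf (69, 231))) (.leaf (59, 3173))) (.node (.leaf (43, 3000)) (.leaf (54, 3983)))) (.node (.node (.leaf (0, 0)) (.leaf (67, 3526))) (.node (.leaf (0, 0)) (.leaf (67, 3845))))) (.node (.node (.node (.leaf (0, 0)) (.leaf (1, 2321))) (.node (.leaf (0, 0)) (.leaf (1, 3345)))) (.node (.node (.leaf (0, 0)) (.leaf (0, 0))) (.node (.leaf (67, 735)) (.leaf (62, 3222)))))) (.node (.node (.node (.node (.leaf (1, 145)) (.leaf (0, 0))) (.node (.leaf (0, 0)) (.leaf (77, 1719)))) (.node (.node (.leaf (0, 0)) (.leaf (60, 2707))) (.node (.leaf (1, 1681)) (.leaf (1, 3729))))) (.node (.node (.node (.leaf (1, 401)) (.leaf (76, 1096))) (.node (.leaf (76, 2585)) (.leaf (1, 3473)))) (.node (.node (.leaf (1, 913)) (.leaf (1, 2961))) (.node (.leaf (60, 3978)) (.leaf (1, 3985))))))) (.node (.node (.node (.node (.node (.leaf (1, 81)) (.leaf (1, 2129))) (.node (.leaf (76, 2010)) (.leaf (1, 3153)))) (.node (.node (.leaf (1, 593)) (.leaf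 (70, 3144))) (.node (.leaf (0, 0)) (.leaf (40, 2781))))) (.node (.node (.node (.leaf (0, 0)) (.leaf (65, 1085))) (.node (.leaf (76, 2587)) (.leaf (1, 3409)))) (.node (.node (.leaf (0, 0)) (.leaf (58, 1501))) (.node (.leaf (76, 1097)) (.leaf (76, 2947)))))) (.node (.node (.node (.node (.leaf (0, 0)) (.leaf (71, 1138))) (.node (.leaf (76, 2613)) (.leaf (76, 4087)))) (.node (.node (.leaf (0, 0)) (.leaf (1, 2769))) (.node (.leaf (28, 3249)) (.leaf (1, 3793))))) (.node (.node (.node (.leaf (1, 465)) (.leaf (77, 1343))) (.node (.leaf (0, 0)) (.leaf (36, 4081)))) (.node (.node (.leaf (0, 0)) (.leaf (57, 576))) (.node (.leaf (0, 0)) (.leaf (76, 3685))))))))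

def twoVia70 : Janko.Tree (ℕ × ℕ) :=
  (.node (.node (.node (.node (.node (.node (.node (.leaf (0, 0)) (.leaf (70, 2410))) (.leaf (67, 3831))) (.node (.leaf (2, 1041)) (.leaf (2, 3089)))) (.node (.node (.leaf (4, 3424)) (.leaf (2, 2577))) (.node (.leaf (0, 0)) (.leaf (4, 3601))))) (.node (.node (.node (.leaf (0, 0)) (.leaf (67, 1356))) (.node (.leaf (59, 1231)) (.leaf (2, 3345)))) (.node (.node (.leaf (0, 0)) (.leaf (76, 3399))) (.node (.leaf (10, 603)) (.leaf (2, 3857)))))) (.node (.node (.node (.node (.leaf (0, 0)) (.leaf (0, 0))) (.node (.leaf (2, 1169)) (.leaf (0, 0)))) (.node (.node (.leaf (2, 657)) (.leaf (76, 4038))) (.node (.leaf (51, 241)) (.leaf (43, 2647))))) (.node (.node (.node (.leaf (0, 0)) (.leaf (67, 1110))) (.node (.leaf (2, 1972)) (.leaf (73, 3924)))) (.node (.node (.leaf (67, 326)) (.leaf (65, 613))) (.node (.leaf (66, 3233)) (.leaf (2, 3985))))))) (.node (.node (.node (.node (.node (.leaf (0, 0)) (.leaf (76, 2473))) (.node (.leaf (67, 277)) (.leaf (67, 3844)))) (.node (.node (.leaf (0, 0))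 (.leaf (7, 1258))) (.node (.leaf (55, 1962)) (.leaf (2, 3665))))) (.node (.node (.node (.leaf (6, 897)) (.leaf (77, 4054))) (.node (.leaf (2, 1361)) (.leaf (59, 765)))) (.node (.node (.leaf (71, 3167)) (.leaf (8, 1501))) (.node (.leaf (0, 0)) (.leaf (19, 2947)))))) (.node (.node (.node (.node (.leaf (2, 209)) (.leaf (2, 2257))) (.node (.leaf (0, 0)) (.leaf (62, 2398)))) (.node (.node (.leaf (0, 0)) (.leaf (76, 2494))) (.node (.leaf (2, 1745)) (.leaf (58, 3792))))) (.node (.node (.node (.leaf (0, 0)) (.leaf (77, 3851))) (.node (.leaf (2, 1489)) (.leaf (2, 3537)))) (.node (.node (.leaf (2, 977)) (.leaf (76, 2825))) (.node (.leaf (2, 2001)) (.leaf (77, 1986))))))))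

def twoVia71 : Janko.Tree (ℕ × ℕ) :=
  (.node (.node (.node (.node (.node (.node (.node (.leaf (0, 0)) (.leaf (71, 4088))) (.leaf (0, 0))) (.node (.leaf (0, 0)) (.leaf (0, 0)))) (.node (.node (.leaf (43, 419)) (.leaf (0, 0))) (.node (.leaf (4, 971)) (.leaf (74, 3968))))) (.node (.node (.node (.leaf (0, 0)) (.leaf (73, 288))) (.node (.leaf (4, 166)) (.leaf (74, 1379)))) (.node (.node (.leaf (0, 0)) (.leaf (4, 718))) (.node (.leaf (77, 1278)) (.leaf (64, 3045)))))) (.node (.node (.node (.node (.leaf (0, 0)) (.leaf (65, 325))) (.node (.leaf (77, 3863)) (.leaf (74, 552)))) (.node (.node (.leaf (77, 1820)) (.leaf (58, 3159))) (.node (.leaf (0, 0)) (.leaf (70, 1875))))) (.node (.node (.node (.leaf (0, 0)) (.leaf (73, 1945))) (.node (.leaf (67, 194)) (.leaf (76, 1380)))) (.node (.node (.leaf (0, 0)) (.leaf (28, 748))) (.node (.leaf (47, 1080)) (.leaf (5, 3086))))))) (.node (.node (.node (.node (.node (.leaf (0, 0)) (.leaf (20, 963))) (.node (.leaf (67, 1090)) (.leaf (58, 2829)))) (.node (.node (.leaf (0, 0)) (.leaf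 (77, 2274))) (.node (.leaf (0, 0)) (.leaf (66, 3307))))) (.node (.node (.node (.leaf (76, 2479)) (.leaf (76, 3967))) (.node (.leaf (65, 347)) (.leaf (76, 765)))) (.node (.node (.leaf (67, 69)) (.leaf (0, 0))) (.node (.leaf (26, 3040)) (.leaf (76, 1781)))))) (.node (.node (.node (.node (.leaf (0, 0)) (.leaf (66, 771))) (.node (.leaf (0, 0)) (.leaf (66, 736)))) (.node (.node (.leaf (24, 1506)) (.leaf (66, 1856))) (.node (.leaf (74, 413)) (.leaf (73, 2858))))) (.node (.node (.node (.leaf (0, 0)) (.leaf (14, 2094))) (.node (.leaf (0, 0)) (.leaf (40, 3685)))) (.node (.node (.leaf (0, 0)) (.leaf (48, 3000))) (.node (.leaf (65, 691)) (.leaf (77, 2721))))))))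

def twoVia72 : Janko.Tree (ℕ × ℕ) :=
  (.node (.node (.node (.node (.node (.node (.node (.leaf (0, 18)) (.leaf (72, 3958))) (.leaf (66, 2066))) (.node (.leaf (15, 1042)) (.leaf (73, 1018)))) (.node (.node (.leaf (35, 235)) (.leaf (31, 1713))) (.node (.leaf (0, 1554)) (.leaf (69, 2087))))) (.node (.node (.node (.leaf (0, 274)) (.leaf (76, 2789))) (.node (.leaf (77, 2821)) (.leaf (75, 3346)))) (.node (.node (.leaf (0, 0)) (.leaf (0, 2834))) (.node (.leaf (22, 2792)) (.leaf (0, 3858)))))) (.node (.node (.node (.node (.leaf (7, 146)) (.leaf (71, 3565))) (.node (.leaf (0, 0)) (.leaf (75, 3315)))) (.node (.node (.leaf (73, 1642)) (.leaf (21, 2706))) (.node (.leaf (76, 1682)) (.leaf (35, 1835))))) (.node (.node (.node (.leaf (0, 0)) (.leaf (62, 2936))) (.node (.leaf (0, 0)) (.leaf (76, 3474)))) (.node (.node (.leaf (0, 0)) (.leaf (0, 2962))) (.node (.leaf (0, 1938)) (.leaf (73, 3986))))))) (.node (.node (.node (.node (.node (.leaf (0, 0)) (.leaf (75, 2264))) (.node (.leaf (0, 1106)) (.leaf (77, 3702)))) (.node (.node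 (.leaf (0, 0)) (.leaf (68, 1676))) (.node (.leaf (76, 3921)) (.leaf (22, 660))))) (.node (.node (.node (.leaf (0, 0)) (.leaf (50, 808))) (.node (.leaf (75, 3769)) (.leaf (67, 3594)))) (.node (.node (.leaf (0, 850)) (.leaf (0, 2898))) (.node (.leaf (0, 1874)) (.leaf (73, 2622)))))) (.node (.node (.node (.node (.leaf (0, 0)) (.leaf (69, 2258))) (.node (.leaf (58, 1234)) (.leaf (0, 3880)))) (.node (.node (.leaf (0, 0)) (.leaf (59, 2770))) (.node (.leaf (0, 1746)) (.leaf (77, 3794))))) (.node (.node (.node (.leaf (0, 0)) (.leaf (0, 0))) (.node (.leaf (0, 0)) (.leaf (0, 4028)))) (.node (.node (.leaf (67, 3019)) (.leaf (54, 3026))) (.node (.leaf (75, 3844)) (.leaf (76, 4050))))))))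

def twoVia73 : Janko.Tree (ℕ × ℕ) :=
  (.node (.node (.node (.node (.node (.node (.node (.leaf (0, 0)) (.leaf (73, 4095))) (.leaf (76, 3285))) (.node (.leaf (0, 0)) (.leaf (76, 3983)))) (.node (.node (.leaf (1, 530)) (.leaf (1, 2578))) (.node (.leaf (52, 750)) (.leaf (76, 3867))))) (.node (.node (.node (.leaf (0, 0)) (.leaf (71, 3171))) (.node (.leaf (1, 1298)) (.leaf (76, 2393)))) (.node (.node (.leaf (1, 786)) (.leaf (67, 1113))) (.node (.leaf (64, 2924)) (.leaf (76, 2864)))))) (.node (.node (.node (.node (.leaf (0, 0)) (.leaf (76, 2891))) (.node (.leaf (18, 2098)) (.leaf (1, 3218)))) (.node (.node (.leaf (0, 0)) (.leaf (1, 2706))) (.node (.leaf (0, 0)) (.leaf (76, 4070))))) (.node (.node (.node (.leaf (0, 0)) (.leaf (77, 3569))) (.node (.leaf (1, 1770)) (.leaf (1, 3474)))) (.node (.node (.leaf (0, 0)) (.leaf (5, 1540))) (.node (.leaf (0, 0)) (.leaf (1, 3986))))))) (.node (.node (.node (.node (.node (.leaf (0, 0)) (.leaf (77, 3628))) (.node (.leaf (0, 0)) (.leaf (1, 3988)))) (.node (.node (.leaf (0, 0)) (.leaf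 (1, 2642))) (.node (.leaf (0, 0)) (.leaf (1, 3666))))) (.node (.node (.node (.leaf (1, 338)) (.leaf (1, 2386))) (.node (.leaf (0, 0)) (.leaf (18, 3916)))) (.node (.node (.leaf (54, 300)) (.leaf (0, 0))) (.node (.leaf (0, 0)) (.leaf (76, 3431)))))) (.node (.node (.node (.node (.leaf (0, 0)) (.leaf (1, 3234))) (.node (.leaf (55, 302)) (.leaf (1, 3282)))) (.node (.node (.leaf (1, 722)) (.leaf (76, 3167))) (.node (.leaf (76, 809)) (.leaf (77, 2598))))) (.node (.node (.node (.leaf (1, 1093)) (.leaf (1, 2514))) (.node (.leaf (1, 1490)) (.leaf (44, 92)))) (.node (.node (.leaf (65, 779)) (.leaf (1, 3026))) (.node (.leaf (76, 3738)) (.leaf (61, 411))))))))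

def twoVia74 : Janko.Tree (ℕ × ℕ) :=
  (.node (.node (.node (.node (.node (.node (.node (.leaf (0, 0)) (.leaf (74, 907))) (.leaf (2, 2066))) (.node (.leaf (0, 0)) (.leaf (67, 2344)))) (.node (.node (.leaf (67, 1030)) (.leaf (2, 2578))) (.node (.leaf (19, 1645)) (.leaf (56, 3265))))) (.node (.node (.node (.leaf (0, 0)) (.leaf (43, 740))) (.node (.leaf (76, 3321)) (.leaf (77, 3430)))) (.node (.node (.leaf (0, 0)) (.leaf (67, 1545))) (.node (.leaf (2, 1810)) (.leaf (6, 2963)))))) (.node (.node (.node (.node (.leaf (2, 146)) (.leaf (2, 2194))) (.node (.leaf (26, 1170)) (.leaf (0, 0)))) (.node (.node (.leaf (0, 0)) (.leaf (67, 3646))) (.node (.leaf (76, 1842)) (.leaf (4, 3730))))) (.node (.node (.node (.leaf (0, 0)) (.leaf (4, 2450))) (.node (.leaf (67, 1870)) (.leaf (76, 3814)))) (.node (.node (.leaf (2, 914)) (.leaf (2, 3858))) (.node (.leaf (73, 3811)) (.leaf (67, 1623))))))) (.node (.node (.node (.node (.node (.leaf (2, 82)) (.leaf (2, 2130))) (.node (.leaf (19, 409)) (.leaf (73, 2781)))) (.node (.node (.leaf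 (2, 594)) (.leaf (73, 3782))) (.node (.leaf (71, 2784)) (.leaf (58, 937))))) (.node (.node (.node (.leaf (0, 0)) (.leaf (76, 1967))) (.node (.leaf (70, 892)) (.leaf (76, 3105)))) (.node (.node (.leaf (60, 1)) (.leaf (67, 2373))) (.node (.leaf (21, 765)) (.leaf (77, 1886)))))) (.node (.node (.node (.node (.leaf (0, 0)) (.leaf (76, 1919))) (.node (.leaf (67, 1670)) (.leaf (59, 3079)))) (.node (.node (.leaf (0, 0)) (.leaf (73, 3270))) (.node (.leaf (35, 3)) (.leaf (77, 3732))))) (.node (.node (.node (.leaf (26, 466)) (.leaf (2, 3582))) (.node (.leaf (0, 0)) (.leaf (76, 3034)))) (.node (.node (.leaf (0, 0)) (.leaf (65, 3028))) (.node (.leaf (74, 3983)) (.leaf (73, 1434))))))))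

def twoVia75 : Janko.Tree (ℕ × ℕ) :=
  (.node (.node (.node (.node (.node (.node (.node (.leaf (0, 0)) (.leaf (75, 4081))) (.leaf (69, 1945))) (.node (.leaf (7, 1703)) (.leaf (54, 2684)))) (.node (.node (.leaf (0, 0)) (.leaf (66, 2190))) (.node (.leaf (0, 0)) (.leaf (58, 2138))))) (.node (.node (.node (.leaf (0, 0)) (.leaf (61, 2799))) (.node (.leaf (66, 1338)) (.leaf (77, 3651)))) (.node (.node (.leaf (0, 0)) (.leaf (74, 2884))) (.node (.leaf (0, 0)) (.leaf (62, 1276)))))) (.node (.node (.node (.node (.leaf (0, 0)) (.leaf (73, 4018))) (.node (.leaf (74, 3708)) (.leaf (59, 1468)))) (.node (.node (.leaf (24, 219)) (.leaf (67, 1941))) (.node (.leaf (57, 266)) (.leaf (77, 3442))))) (.node (.node (.node (.leaf (26, 717)) (.leaf (74, 2778))) (.node (.leaf (53, 733)) (.leaf (64, 774)))) (.node (.node (.leaf (0, 0)) (.leaf (57, 3182))) (.node (.leaf (59, 842)) (.leaf (75, 1970))))))) (.node (.node (.node (.node (.node (.leaf (0, 0)) (.leaf (0, 0))) (.node (.leaf (0, 0)) (.leaf (25, 3058)))) (.node (.node (.leaf (0,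 0)) (.leaf (57, 380))) (.node (.leaf (0, 0)) (.leaf (59, 932))))) (.node (.node (.node (.leaf (55, 898)) (.leaf (0, 0))) (.node (.leaf (65, 1324)) (.leaf (67, 3063)))) (.node (.node (.leaf (0, 0)) (.leaf (0, 0))) (.node (.leaf (69, 719)) (.leaf (66, 253)))))) (.node (.node (.node (.node (.leaf (19, 607)) (.leaf (67, 274))) (.node (.leaf (0, 0)) (.leaf (57, 736)))) (.node (.node (.leaf (0, 0)) (.leaf (4, 556))) (.node (.leaf (22, 3275)) (.leaf (67, 614))))) (.node (.node (.node (.leaf (67, 148)) (.leaf (0, 0))) (.node (.leaf (0, 0)) (.leaf (65, 2621)))) (.node (.node (.leaf (58, 1886)) (.leaf (0, 0))) (.node (.leaf (59, 687)) (.leaf (67, 411))))))))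

def twoVia76 : Janko.Tree (ℕ × ℕ) :=
  (.node (.node (.node (.node (.node (.node (.node (.leaf (0, 0)) (.leaf (76, 1845))) (.leaf (0, 3514))) (.node (.leaf (0, 1043)) (.leaf (77, 3091)))) (.node (.node (.leaf (0, 0)) (.leaf (76, 2579))) (.node (.leaf (77, 2236)) (.leaf (0, 3603))))) (.node (.node (.node (.leaf (0, 0)) (.leaf (0, 2323))) (.node (.leaf (64, 1452)) (.leaf (0, 3347)))) (.node (.node (.leaf (19, 1909)) (.leaf (60, 2835))) (.node (.leaf (67, 1811)) (.leaf (0, 3859)))))) (.node (.node (.node (.node (.leaf (60, 771)) (.leaf (73, 3223))) (.node (.leaf (51, 3120)) (.leaf (73, 3219)))) (.node (.node (.leaf (0, 659)) (.leaf (62, 3452))) (.node (.leaf (0, 1683)) (.leaf (75, 3731))))) (.node (.node (.node (.leaf (0, 403)) (.leaf (0, 2451))) (.node (.leaf (0, 1427)) (.leaf (76, 3475)))) (.node (.node (.leaf (0, 0)) (.leaf (17, 2962))) (.node (.leaf (75, 1939)) (.leaf (76, 3987))))))) (.node (.node (.node (.node (.node (.leaf (76, 3517)) (.leaf (0, 0))) (.node (.leaf (76, 1421)) (.leaf (71, 3155)))) (.node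 (.node (.leaf (0, 0)) (.leaf (75, 3885))) (.node (.leaf (0, 1619)) (.leaf (70, 3667))))) (.node (.node (.node (.leaf (6, 339)) (.leaf (66, 1806))) (.node (.leaf (54, 16)) (.leaf (62, 370)))) (.node (.node (.leaf (67, 3374)) (.leaf (73, 3707))) (.node (.leaf (76, 1875)) (.leaf (0, 3923)))))) (.node (.node (.node (.node (.leaf (0, 211)) (.leaf (64, 3979))) (.node (.leaf (0, 0)) (.leaf (56, 224)))) (.node (.node (.leaf (71, 1780)) (.leaf (66, 2771))) (.node (.leaf (76, 2013)) (.leaf (0, 3795))))) (.node (.node (.node (.leaf (0, 0)) (.leaf (76, 2515))) (.node (.leaf (6, 1496)) (.leaf (0, 3539)))) (.node (.node (.leaf (0, 979)) (.leaf (66, 3027))) (.node (.leaf (77, 2003)) (.leaf (0, 4051))))))))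

def twoVia77 : Janko.Tree (ℕ × ℕ) :=
  (.node (.node (.node (.node (.node (.node (.node (.leaf (0, 0)) (.leaf (77, 3845))) (.leaf (1, 2067))) (.node (.leaf (54, 379)) (.leaf (1, 3091)))) (.node (.node (.leaf (1, 531)) (.leaf (1, 3248))) (.node (.leaf (1, 1555)) (.leaf (52, 314))))) (.node (.node (.node (.leaf (1, 275)) (.leaf (76, 3478))) (.node (.leaf (1, 1299)) (.leaf (76, 1824)))) (.node (.node (.leaf (76, 1776)) (.leaf (1, 2835))) (.node (.leaf (76, 3128)) (.leaf (52, 591)))))) (.node (.node (.node (.node (.leaf (0, 0)) (.leaf (1, 2195))) (.node (.leaf (66, 401)) (.leaf (0, 0)))) (.node (.node (.leaf (0, 0)) (.leaf (1, 3710))) (.node (.leaf (54, 675)) (.leaf (1, 3731))))) (.node (.node (.node (.leaf (0, 0)) (.leaf (1, 3029))) (.node (.leaf (62, 471)) (.leaf (1, 3475)))) (.node (.node (.leaf (0, 0)) (.leaf (76, 2425))) (.node (.leaf (1, 1939)) (.leaf (1, 3987))))))) (.node (.node (.node (.node (.node (.leaf (0, 0)) (.leaf (1, 2131))) (.node (.leaf (0, 0)) (.leaf (66, 1750)))) (.node (.node (.leaf (0, 0))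 (.leaf (35, 2930))) (.node (.leaf (76, 756)) (.leaf (72, 4019))))) (.node (.node (.node (.leaf (0, 0)) (.leaf (76, 1359))) (.node (.leaf (1, 1363)) (.leaf (46, 3753)))) (.node (.node (.leaf (65, 284)) (.leaf (1, 2899))) (.node (.leaf (1, 1875)) (.leaf (76, 3386)))))) (.node (.node (.node (.node (.leaf (54, 0)) (.leaf (1, 2259))) (.node (.leaf (65, 3038)) (.leaf (0, 0)))) (.node (.node (.leaf (0, 0)) (.leaf (1, 2771))) (.node (.leaf (1, 1747)) (.leaf (75, 2612))))) (.node (.node (.node (.leaf (1, 467)) (.leaf (0, 0))) (.node (.leaf (0, 0)) (.leaf (76, 2508)))) (.node (.node (.leaf (65, 1309)) (.leaf (1, 3027))) (.node (.leaf (1, 2003)) (.leaf (30, 3309))))))))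

def twoVia78 : Janko.Tree (ℕ × ℕ) :=
  (.node (.node (.node (.node (.node (.node (.leaf (2, 19)) (.leaf (67, 3171))) (.node (.leaf (67, 364)) (.leaf (0, 0)))) (.node (.node (.leaf (0, 0)) (.leaf (2, 3532))) (.node (.leaf (0, 0)) (.leaf (2, 3603))))) (.node (.node (.node (.leaf (10, 650)) (.leaf (67, 3052))) (.node (.leaf (65, 1452)) (.leaf (11, 3901)))) (.node (.node (.leaf (2, 787)) (.leaf (0, 0))) (.node (.leaf (0, 0)) (.leaf (2, 3859)))))) (.node (.node (.node (.node (.leaf (0, 0)) (.leaf (62, 327))) (.node (.leaf (67, 2311)) (.leaf (2, 3219)))) (.node (.node (.leaf (76, 836)) (.leaf (67, 3366))) (.node (.leaf (60, 5)) (.leaf (74, 1182))))) (.node (.node (.node (.leaf (17, 246)) (.leaf (35, 3961))) (.node (.leaf (0, 0)) (.leaf (76, 3330)))) (.node (.node (.leaf (0, 0)) (.leaf (2, 2963))) (.node (.leaf (0, 0)) (.leaf (2, 3987))))))) (.node (.node (.node (.node (.node (.leaf (0, 0)) (.leaf (67, 3557))) (.node (.leaf (74, 2730)) (.leaf (2, 3155)))) (.node (.node (.leaf (0, 0)) (.leaf (2, 2643))) (.node (.leaf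 (8, 1104)) (.leaf (77, 3237))))) (.node (.node (.node (.leaf (2, 339)) (.leaf (66, 734))) (.node (.leaf (69, 1215)) (.leaf (69, 1170)))) (.node (.node (.leaf (2, 851)) (.leaf (2, 2899))) (.node (.leaf (76, 1814)) (.leaf (67, 3188)))))) (.node (.node (.node (.node (.leaf (0, 0)) (.leaf (67, 3065))) (.node (.leaf (0, 0)) (.leaf (2, 3283)))) (.node (.node (.leaf (26, 1605)) (.leaf (76, 1976))) (.node (.leaf (0, 0)) (.leaf (76, 3338))))) (.node (.node (.node (.leaf (15, 2528)) (.leaf (62, 2795))) (.node (.leaf (2, 1491)) (.leaf (71, 3807)))) (.node (.node (.leaf (10, 2107)) (.leaf (2, 3027))) (.node (.leaf (0, 0)) (.leaf (71, 2410))))))))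

def twoVia79 : Janko.Tree (ℕ × ℕ) :=
  (.node (.node (.node (.node (.node (.node (.leaf (0, 0)) (.leaf (74, 2953))) (.node (.leaf (74, 1415)) (.leaf (76, 1452)))) (.node (.node (.leaf (0, 0)) (.leaf (4, 458))) (.node (.leaf (60, 746)) (.leaf (0, 0))))) (.node (.node (.node (.leaf (0, 0)) (.leaf (20, 1009))) (.node (.leaf (0, 0)) (.leaf (69, 277)))) (.node (.node (.leaf (0, 0)) (.leaf (76, 2834))) (.node (.leaf (26, 253)) (.leaf (59, 591)))))) (.node (.node (.node (.node (.leaf (0, 0)) (.leaf (66, 2715))) (.node (.leaf (67, 2956)) (.leaf (75, 3582)))) (.node (.node (.leaf (0, 0)) (.leaf (52, 1309))) (.node (.leaf (0, 0)) (.leaf (73, 977))))) (.node (.node (.node (.leaf (0, 0)) (.leaf (77, 3060))) (.node (.leaf (73, 1228)) (.leaf (65, 1956)))) (.node (.node (.leaf (71, 1497)) (.leaf (73, 1223))) (.node (.leaf (76, 1938)) (.leaf (74, 37))))))) (.node (.node (.node (.node (.node (.leaf (0, 0)) (.leaf (0, 0))) (.node (.leaf (59, 209)) (.leaf (62, 1551)))) (.node (.node (.leaf (0, 0)) (.leaf (77, 2180))) (.node (.leaf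 (0, 0)) (.leaf (67, 3122))))) (.node (.node (.node (.leaf (0, 0)) (.leaf (14, 415))) (.node (.leaf (0, 0)) (.leaf (69, 3385)))) (.node (.node (.leaf (76, 2837)) (.leaf (75, 3603))) (.node (.leaf (65, 2286)) (.leaf (74, 1855)))))) (.node (.node (.node (.node (.leaf (0, 0)) (.leaf (0, 0))) (.node (.leaf (67, 473)) (.leaf (22, 1496)))) (.node (.node (.leaf (0, 0)) (.leaf (50, 2463))) (.node (.leaf (77, 3030)) (.leaf (77, 2010))))) (.node (.node (.node (.leaf (0, 0)) (.leaf (74, 2795))) (.node (.leaf (67, 2874)) (.leaf (71, 823)))) (.node (.node (.leaf (0, 0)) (.leaf (0, 0))) (.node (.leaf (0, 0)) (.leaf (69, 4088))))))))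

def twoVia80 : Janko.Tree (ℕ × ℕ) :=
  (.node (.node (.node (.node (.node (.node (.leaf (0, 0)) (.leaf (76, 2104))) (.node (.leaf (0, 2310)) (.leaf (73, 1140)))) (.node (.node (.leaf (76, 532)) (.leaf (62, 947))) (.node (.leaf (10, 344)) (.leaf (75, 3604))))) (.node (.node (.node (.leaf (0, 0)) (.leaf (0, 0))) (.node (.leaf (0, 1851)) (.leaf (69, 3348)))) (.node (.node (.leaf (0, 0)) (.leaf (65, 2836))) (.node (.leaf (0, 1812)) (.leaf (75, 4073)))))) (.node (.node (.node (.node (.leaf (0, 148)) (.leaf (76, 4074))) (.node (.leaf (67, 1102)) (.leaf (76, 3491)))) (.node (.node (.leaf (0, 0)) (.leaf (76, 2708))) (.node (.leaf (0, 3134)) (.leaf (0, 3732))))) (.node (.node (.node (.leaf (0, 0)) (.leaf (0, 3225))) (.node (.leaf (67, 1428)) (.leaf (73, 1279)))) (.node (.node (.leaf (0, 916)) (.leaf (64, 3751))) (.node (.leaf (0, 0)) (.leaf (0, 3988))))))) (.node (.node (.node (.node (.node (.leaf (0, 84)) (.leaf (0, 2132))) (.node (.leaf (76, 1108)) (.leaf (75, 3156)))) (.node (.node (.leaf (0, 0)) (.leaf (76, 2644)))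 (.node (.leaf (0, 0)) (.leaf (76, 3668))))) (.node (.node (.node (.leaf (67, 211)) (.leaf (55, 3930))) (.node (.leaf (0, 0)) (.leaf (71, 532)))) (.node (.node (.leaf (60, 852)) (.leaf (0, 0))) (.node (.leaf (0, 1876)) (.leaf (0, 3924)))))) (.node (.node (.node (.node (.leaf (35, 29)) (.leaf (73, 2125))) (.node (.leaf (0, 1236)) (.leaf (0, 3948)))) (.node (.node (.leaf (0, 0)) (.leaf (6, 2773))) (.node (.leaf (61, 1748)) (.leaf (62, 3796))))) (.node (.node (.node (.leaf (74, 1232)) (.leaf (58, 2516))) (.node (.leaf (22, 1492)) (.leaf (0, 3540)))) (.node (.node (.leaf (0, 0)) (.leaf (0, 0))) (.node (.leaf (77, 2004)) (.leaf (73, 3520))))))))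

def twoVia81 : Janko.Tree (ℕ × ℕ) :=
  (.node (.node (.node (.node (.node (.node (.leaf (0, 0)) (.leaf (65, 2753))) (.node (.leaf (0, 0)) (.leaf (44, 680)))) (.node (.node (.leaf (0, 0)) (.leaf (44, 1375))) (.node (.leaf (0, 0)) (.leaf (77, 1509))))) (.node (.node (.node (.leaf (0, 0)) (.leaf (1, 2324))) (.node (.leaf (0, 0)) (.leaf (1, 3348)))) (.node (.node (.leaf (0, 0)) (.leaf (55, 2509))) (.node (.leaf (54, 736)) (.leaf (1, 3860)))))) (.node (.node (.node (.node (.leaf (0, 0)) (.leaf (74, 3008))) (.node (.leaf (60, 934)) (.leaf (1, 3220)))) (.node (.node (.leaf (0, 0)) (.leaf (1, 2708))) (.node (.leaf (55, 695)) (.leaf (76, 2795))))) (.node (.node (.node (.leaf (1, 404)) (.leaf (60, 3225))) (.node (.leaf (1, 1428)) (.leaf (76, 1870)))) (.node (.node (.leaf (0, 0)) (.leaf (1, 2964))) (.node (.leaf (77, 3766)) (.leaf (44, 301))))))) (.node (.node (.node (.node (.node (.leaf (0, 0)) (.leaf (0, 0))) (.node (.leaf (1, 1108)) (.leaf (77, 3883)))) (.node (.node (.leaf (1, 596)) (.leaf (1, 2644))) (.node (.leaf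 (1, 1620)) (.leaf (1, 3668))))) (.node (.node (.node (.leaf (0, 0)) (.leaf (1, 2388))) (.node (.leaf (76, 2332)) (.leaf (56, 1876)))) (.node (.node (.leaf (60, 1552)) (.leaf (1, 2900))) (.node (.leaf (67, 2099)) (.leaf (76, 3494)))))) (.node (.node (.node (.node (.leaf (0, 0)) (.leaf (0, 0))) (.node (.leaf (48, 470)) (.leaf (0, 0)))) (.node (.node (.leaf (1, 724)) (.leaf (61, 4051))) (.node (.leaf (1, 1748)) (.leaf (1, 3796))))) (.node (.node (.node (.leaf (60, 551)) (.leaf (1, 2516))) (.node (.leaf (0, 0)) (.leaf (1, 3927)))) (.node (.node (.leaf (0, 0)) (.leaf (60, 3959))) (.node (.leaf (1, 3477)) (.leaf (1, 4052))))))))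

def twoVia82 : Janko.Tree (ℕ × ℕ) :=
  (.node (.node (.node (.node (.node (.node (.leaf (0, 0)) (.leaf (76, 2242))) (.node (.leaf (2, 1044)) (.leaf (2, 3092)))) (.node (.node (.leaf (2, 532)) (.leaf (2, 2580))) (.node (.leaf (2, 1556)) (.leaf (74, 3630))))) (.node (.node (.node (.leaf (0, 0)) (.leaf (67, 1122))) (.node (.leaf (62, 3654)) (.leaf (61, 3347)))) (.node (.node (.leaf (0, 0)) (.leaf (67, 2259))) (.node (.leaf (66, 3172)) (.leaf (67, 3583)))))) (.node (.node (.node (.node (.leaf (0, 0)) (.leaf (77, 2555))) (.node (.leaf (2, 1172)) (.leaf (5, 694)))) (.node (.node (.leaf (2, 660)) (.leaf (71, 240))) (.node (.leaf (2, 1684)) (.leaf (74, 4037))))) (.node (.node (.node (.leaf (0, 0)) (.leaf (2, 2452))) (.node (.leaf (0, 0)) (.leaf (2, 3476)))) (.node (.node (.leaf (0, 0)) (.leaf (65, 611))) (.node (.leaf (76, 3882)) (.leaf (57, 2481))))))) (.node (.node (.node (.node (.node (.leaf (0, 0)) (.leaf (2, 2132))) (.node (.leaf (2, 1816)) (.leaf (77, 3432)))) (.node (.node (.leaf (0, 0)) (.leaf (76, 2412))) (.node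 (.leaf (76, 3895)) (.leaf (76, 1162))))) (.node (.node (.node (.leaf (2, 340)) (.leaf (2, 2388))) (.node (.leaf (0, 0)) (.leaf (67, 2144)))) (.node (.node (.leaf (76, 3040)) (.leaf (50, 1813))) (.node (.leaf (18, 766)) (.leaf (66, 3473)))))) (.node (.node (.node (.node (.leaf (2, 212)) (.leaf (77, 4039))) (.node (.leaf (48, 2584)) (.leaf (56, 3782)))) (.node (.node (.leaf (0, 0)) (.leaf (2, 2772))) (.node (.leaf (15, 269)) (.leaf (55, 3165))))) (.node (.node (.node (.leaf (76, 2003)) (.leaf (77, 2693))) (.node (.leaf (0, 0)) (.leaf (2, 4062)))) (.node (.node (.leaf (0, 0)) (.leaf (0, 0))) (.node (.leaf (4, 2004)) (.leaf (73, 3773))))))))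

def twoVia83 : Janko.Tree (ℕ × ℕ) :=
  (.node (.node (.node (.node (.node (.node (.leaf (0, 0)) (.leaf (4, 891))) (.node (.leaf (0, 0)) (.leaf (49, 3883)))) (.node (.node (.leaf (62, 1368)) (.leaf (67, 261))) (.node (.leaf (0, 0)) (.leaf (74, 1004))))) (.node (.node (.node (.leaf (0, 0)) (.leaf (77, 2146))) (.node (.leaf (47, 4023)) (.leaf (0, 0)))) (.node (.node (.leaf (26, 787)) (.leaf (49, 3341))) (.node (.leaf (0, 0)) (.leaf (66, 1522)))))) (.node (.node (.node (.node (.leaf (0, 0)) (.leaf (73, 904))) (.node (.leaf (0, 0)) (.leaf (66, 1064)))) (.node (.node (.leaf (0, 0)) (.leaf (75, 2651))) (.node (.leaf (74, 3792)) (.leaf (77, 1446))))) (.node (.node (.node (.leaf (76, 1531)) (.leaf (77, 3595))) (.node (.leaf (0, 0)) (.leaf (21, 804)))) (.node (.node (.leaf (0, 0)) (.leaf (59, 953))) (.node (.leaf (0, 0)) (.leaf (67, 2468))))))) (.node (.node (.node (.node (.node (.leaf (0, 0)) (.leaf (67, 597))) (.node (.leaf (0, 0)) (.leaf (77, 2743)))) (.node (.node (.leaf (0, 0)) (.leaf (66, 1830))) (.node (.leaf (0,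 0)) (.leaf (44, 454))))) (.node (.node (.node (.leaf (0, 0)) (.leaf (50, 3928))) (.node (.leaf (67, 16)) (.leaf (66, 3632)))) (.node (.node (.leaf (0, 0)) (.leaf (0, 0))) (.node (.leaf (0, 0)) (.leaf (48, 760)))))) (.node (.node (.node (.node (.leaf (0, 0)) (.leaf (67, 826))) (.node (.leaf (0, 0)) (.leaf (30, 2847)))) (.node (.node (.leaf (21, 428)) (.leaf (66, 2443))) (.node (.leaf (0, 0)) (.leaf (60, 1668))))) (.node (.node (.node (.leaf (0, 0)) (.leaf (0, 0))) (.node (.leaf (66, 2584)) (.leaf (76, 3662)))) (.node (.node (.leaf (54, 311)) (.leaf (4, 631))) (.node (.leaf (77, 4034)) (.leaf (73, 1798))))))))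

def twoVia84 : Janko.Tree (ℕ × ℕ) :=
  (.node (.node (.node (.node (.node (.node (.leaf (0, 21)) (.leaf (67, 2069))) (.node (.leaf (73, 1415)) (.leaf (71, 3093)))) (.node (.node (.leaf (67, 500)) (.leaf (73, 4004))) (.node (.leaf (62, 1668)) (.leaf (0, 3605))))) (.node (.node (.node (.leaf (0, 277)) (.leaf (0, 3622))) (.node (.leaf (0, 0)) (.leaf (41, 3349)))) (.node (.node (.leaf (0, 789)) (.leaf (22, 2837))) (.node (.leaf (9, 1780)) (.leaf (60, 1551)))))) (.node (.node (.node (.node (.leaf (0, 0)) (.leaf (15, 3485))) (.node (.leaf (0, 2156)) (.leaf (6, 3223)))) (.node (.node (.leaf (0, 0)) (.leaf (66, 2126))) (.node (.leaf (0, 1685)) (.leaf (77, 3733))))) (.node (.node (.node (.leaf (35, 139)) (.leaf (51, 1545))) (.node (.leaf (67, 3046)) (.leaf (0, 3477)))) (.node (.node (.leaf (76, 917)) (.leaf (10, 2869))) (.node (.leaf (0, 1941)) (.leaf (77, 3989))))))) (.node (.node (.node (.node (.node (.leaf (0, 0)) (.leaf (0, 0))) (.node (.leaf (0, 0)) (.leaf (76, 3157)))) (.node (.node (.leaf (0, 0)) (.leaf (70, 2278)))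 (.node (.leaf (73, 3086)) (.leaf (77, 3669))))) (.node (.node (.node (.leaf (0, 0)) (.leaf (77, 2389))) (.node (.leaf (0, 1365)) (.leaf (0, 4034)))) (.node (.node (.leaf (0, 853)) (.leaf (0, 0))) (.node (.leaf (16, 1967)) (.leaf (76, 3925)))))) (.node (.node (.node (.node (.leaf (0, 0)) (.leaf (0, 2261))) (.node (.leaf (67, 1237)) (.leaf (39, 3285)))) (.node (.node (.leaf (77, 3028)) (.leaf (0, 2773))) (.node (.leaf (0, 1749)) (.leaf (0, 3797))))) (.node (.node (.node (.leaf (0, 469)) (.leaf (0, 3266))) (.node (.leaf (0, 1493)) (.leaf (0, 3541)))) (.node (.node (.leaf (0, 981)) (.leaf (0, 3029))) (.node (.leaf (76, 2005)) (.leaf (0, 4053))))))))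

def twoVia85 : Janko.Tree (ℕ × ℕ) :=
  (.node (.node (.node (.node (.node (.node (.leaf (0, 0)) (.leaf (1, 2069))) (.node (.leaf (0, 0)) (.leaf (77, 3905)))) (.node (.node (.leaf (1, 533)) (.leaf (1, 2890))) (.node (.leaf (65, 852)) (.leaf (76, 3851))))) (.node (.node (.node (.leaf (0, 0)) (.leaf (40, 1032))) (.node (.leaf (1, 1301)) (.leaf (75, 4015)))) (.node (.node (.leaf (41, 262)) (.leaf (1, 2837))) (.node (.leaf (0, 0)) (.leaf (1, 3861)))))) (.node (.node (.node (.node (.leaf (0, 0)) (.leaf (66, 1030))) (.node (.leaf (76, 438)) (.leaf (76, 2636)))) (.node (.node (.leaf (0, 0)) (.leaf (76, 3273))) (.node (.leaf (0, 0)) (.leaf (77, 3998))))) (.node (.node (.node (.leaf (0, 0)) (.leaf (1, 2453))) (.node (.leaf (76, 1904)) (.leaf (5, 1963)))) (.node (.node (.leaf (1, 917)) (.leaf (41, 3862))) (.node (.leaf (57, 794)) (.leaf (76, 3393))))))) (.node (.node (.node (.node (.node (.leaf (0, 0)) (.leaf (41, 1024))) (.node (.leaf (0, 0)) (.leaf (1, 3157)))) (.node (.node (.leaf (0, 0)) (.leaf (1, 3618))) (.node (.leaf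 (0, 0)) (.leaf (73, 3934))))) (.node (.node (.node (.leaf (0, 0)) (.leaf (76, 3730))) (.node (.leaf (0, 0)) (.leaf (1, 3413)))) (.node (.node (.leaf (0, 0)) (.leaf (0, 0))) (.node (.leaf (65, 3082)) (.leaf (67, 2060)))))) (.node (.node (.node (.node (.leaf (0, 0)) (.leaf (27, 911))) (.node (.leaf (1, 1237)) (.leaf (76, 2569)))) (.node (.node (.leaf (0, 0)) (.leaf (76, 3645))) (.node (.leaf (76, 3469)) (.leaf (65, 2070))))) (.node (.node (.node (.leaf (76, 955)) (.leaf (0, 0))) (.node (.leaf (0, 0)) (.leaf (1, 4042)))) (.node (.node (.leaf (67, 352)) (.leaf (38, 1585))) (.node (.leaf (1, 2005)) (.leaf (50, 3318))))))))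

def twoVia86 : Janko.Tree (ℕ × ℕ) :=
  (.node (.node (.node (.node (.node (.node (.leaf (0, 0)) (.leaf (76, 2065))) (.node (.leaf (67, 1572)) (.leaf (77, 3694)))) (.node (.node (.leaf (67, 121)) (.leaf (76, 2406))) (.node (.leaf (54, 277)) (.leaf (62, 2032))))) (.node (.node (.node (.leaf (65, 31)) (.leaf (76, 2371))) (.node (.leaf (37, 3452)) (.leaf (62, 600)))) (.node (.node (.leaf (67, 20)) (.leaf (46, 926))) (.node (.leaf (2, 1813)) (.leaf (51, 3822)))))) (.node (.node (.node (.node (.leaf (2, 149)) (.leaf (2, 2197))) (.node (.leaf (62, 902)) (.leaf (2, 3221)))) (.node (.node (.leaf (0, 0)) (.leaf (4, 2709))) (.node (.leaf (6, 3040)) (.leaf (4, 3733))))) (.node (.node (.node (.leaf (2, 405)) (.leaf (51, 1516))) (.node (.leaf (2, 1429)) (.leaf (77, 2958)))) (.node (.node (.leaf (51, 441)) (.leaf (2, 2965))) (.node (.leaf (2, 1941)) (.leaf (2, 3989))))))) (.node (.node (.node (.node (.node (.leaf (2, 85)) (.leaf (73, 3083))) (.node (.leaf (0, 0)) (.leaf (0, 0)))) (.node (.node (.leaf (2, 597)) (.leaf (59,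 342))) (.node (.leaf (0, 0)) (.leaf (2, 3669))))) (.node (.node (.node (.leaf (0, 0)) (.leaf (62, 1146))) (.node (.leaf (2, 1783)) (.leaf (64, 3639)))) (.node (.node (.leaf (6, 1841)) (.leaf (0, 0))) (.node (.leaf (2, 1877)) (.leaf (2, 3925)))))) (.node (.node (.node (.node (.leaf (0, 0)) (.leaf (74, 1365))) (.node (.leaf (2, 2520)) (.leaf (43, 1809)))) (.node (.node (.leaf (2, 725)) (.leaf (2, 3584))) (.node (.leaf (7, 706)) (.leaf (2, 3797))))) (.node (.node (.node (.leaf (67, 1105)) (.leaf (65, 3942))) (.node (.leaf (0, 0)) (.leaf (76, 3693)))) (.node (.node (.leaf (67, 1665)) (.leaf (77, 2948))) (.node (.leaf (76, 2522)) (.leaf (76, 2355))))))))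

def twoVia87 : Janko.Tree (ℕ × ℕ) :=
  (.node (.node (.node (.node (.node (.node (.leaf (0, 0)) (.leaf (0, 0))) (.node (.leaf (48, 168)) (.leaf (45, 3200)))) (.node (.node (.leaf (0, 0)) (.leaf (69, 2812))) (.node (.leaf (58, 789)) (.leaf (42, 2242))))) (.node (.node (.node (.leaf (0, 0)) (.leaf (73, 932))) (.node (.leaf (0, 0)) (.leaf (25, 413)))) (.node (.node (.leaf (76, 650)) (.leaf (0, 0))) (.node (.leaf (74, 919)) (.leaf (73, 1488)))))) (.node (.node (.node (.node (.leaf (0, 0)) (.leaf (73, 900))) (.node (.leaf (0, 0)) (.leaf (69, 3783)))) (.node (.node (.leaf (0, 0)) (.leaf (77, 3640))) (.node (.leaf (0, 0)) (.leaf (76, 3509))))) (.node (.node (.node (.leaf (0, 0)) (.leaf (56, 609))) (.node (.leaf (0, 0)) (.leaf (74, 1675)))) (.node (.node (.leaf (0, 0)) (.leaf (22, 1938))) (.node (.leaf (65, 87)) (.leaf (71, 3695))))))) (.node (.node (.node (.node (.node (.leaf (0, 0)) (.leaf (73, 2346))) (.node (.leaf (64, 2912)) (.leaf (0, 0)))) (.node (.node (.leaf (0, 0)) (.leaf (77, 2492))) (.node (.leaf (0, 0))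 (.leaf (73, 1229))))) (.node (.node (.node (.leaf (0, 0)) (.leaf (67, 55))) (.node (.leaf (76, 3479)) (.leaf (60, 1620)))) (.node (.node (.leaf (0, 0)) (.leaf (76, 3048))) (.node (.leaf (67, 370)) (.leaf (60, 3072)))))) (.node (.node (.node (.node (.leaf (0, 0)) (.leaf (75, 3219))) (.node (.leaf (44, 938)) (.leaf (43, 2399)))) (.node (.node (.leaf (0, 0)) (.leaf (43, 1881))) (.node (.leaf (67, 341)) (.leaf (76, 3119))))) (.node (.node (.node (.leaf (0, 0)) (.leaf (76, 3942))) (.node (.leaf (0, 0)) (.leaf (41, 298)))) (.node (.node (.leaf (66, 3125)) (.leaf (77, 1672))) (.node (.leaf (0, 0)) (.leaf (65, 3567))))))))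

def twoVia88 : Janko.Tree (ℕ × ℕ) :=
  (.node (.node (.node (.node (.node (.node (.leaf (0, 0)) (.leaf (66, 1558))) (.node (.leaf (0, 2301)) (.leaf (0, 3094)))) (.node (.node (.leaf (0, 0)) (.leaf (9, 2539))) (.node (.leaf (67, 575)) (.leaf (22, 3606))))) (.node (.node (.node (.leaf (76, 2467)) (.leaf (0, 2326))) (.node (.leaf (9, 627)) (.leaf (0, 3350)))) (.node (.node (.leaf (0, 0)) (.leaf (73, 2838))) (.node (.leaf (0, 1814)) (.leaf (18, 1488)))))) (.node (.node (.node (.node (.leaf (0, 0)) (.leaf (0, 0))) (.node (.leaf (0, 0)) (.leaf (71, 4001)))) (.node (.node (.leaf (0, 662)) (.leaf (69, 2710))) (.node (.leaf (32, 1686)) (.leaf (70, 2232))))) (.node (.node (.node (.leaf (65, 406)) (.leaf (60, 2622))) (.node (.leaf (0, 0)) (.leaf (73, 3478)))) (.node (.node (.leaf (0, 0)) (.leaf (76, 2966))) (.node (.leaf (77, 1942)) (.leaf (69, 3426))))))) (.node (.node (.node (.node (.node (.leaf (0, 0)) (.leaf (0, 2134))) (.node (.leaf (76, 1110)) (.leaf (75, 3287)))) (.node (.node (.leaf (73, 692)) (.leaf (76, 2646)))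 (.node (.leaf (0, 1622)) (.leaf (0, 3670))))) (.node (.node (.node (.leaf (28, 212)) (.leaf (76, 2390))) (.node (.leaf (76, 1366)) (.leaf (76, 3414)))) (.node (.node (.leaf (24, 854)) (.leaf (0, 2902))) (.node (.leaf (57, 813)) (.leaf (66, 3926)))))) (.node (.node (.node (.node (.leaf (0, 214)) (.leaf (0, 0))) (.node (.leaf (0, 2553)) (.leaf (75, 3414)))) (.node (.node (.leaf (76, 886)) (.leaf (76, 2774))) (.node (.leaf (0, 0)) (.leaf (0, 3829))))) (.node (.node (.node (.leaf (0, 0)) (.leaf (0, 2518))) (.node (.leaf (0, 0)) (.leaf (76, 3542)))) (.node (.node (.leaf (67, 982)) (.leaf (72, 3383))) (.node (.leaf (65, 488)) (.leaf (75, 4054))))))))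

def twoVia89 : Janko.Tree (ℕ × ℕ) :=
  (.node (.node (.node (.node (.node (.node (.leaf (1, 22)) (.leaf (76, 1232))) (.node (.leaf (1, 1046)) (.leaf (0, 0)))) (.node (.node (.leaf (0, 0)) (.leaf (1, 2582))) (.node (.leaf (13, 2770)) (.leaf (65, 3121))))) (.node (.node (.node (.leaf (1, 278)) (.leaf (44, 1015))) (.node (.leaf (76, 2625)) (.leaf (76, 3858)))) (.node (.node (.leaf (0, 0)) (.leaf (67, 2071))) (.node (.leaf (0, 0)) (.leaf (0, 0)))))) (.node (.node (.node (.node (.leaf (0, 0)) (.leaf (76, 3293))) (.node (.leaf (76, 3853)) (.leaf (66, 1737)))) (.node (.node (.leaf (0, 0)) (.leaf (75, 3631))) (.node (.leaf (1, 1686)) (.leaf (77, 3999))))) (.node (.node (.node (.leaf (0, 0)) (.leaf (1, 2454))) (.node (.leaf (47, 2781)) (.leaf (75, 2214)))) (.node (.node (.leaf (0, 0)) (.leaf (1, 2966))) (.node (.leaf (1, 1942)) (.leaf (76, 3797))))))) (.node (.node (.node (.node (.node (.leaf (0, 0)) (.leaf (0, 0))) (.node (.leaf (1, 1110)) (.leaf (76, 1779)))) (.node (.node (.leaf (0, 0)) (.leaf (76, 1187))) (.node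 (.leaf (0, 0)) (.leaf (76, 2223))))) (.node (.node (.node (.leaf (1, 342)) (.leaf (64, 1320))) (.node (.leaf (1, 1366)) (.leaf (76, 1484)))) (.node (.node (.leaf (1, 854)) (.leaf (17, 3838))) (.node (.leaf (76, 1300)) (.leaf (73, 3203)))))) (.node (.node (.node (.node (.leaf (59, 66)) (.leaf (76, 1158))) (.node (.leaf (67, 704)) (.leaf (1, 3286)))) (.node (.node (.leaf (0, 0)) (.leaf (1, 2774))) (.node (.leaf (76, 3552)) (.leaf (76, 2796))))) (.node (.node (.node (.leaf (0, 0)) (.leaf (77, 667))) (.node (.leaf (0, 0)) (.leaf (1, 3842)))) (.node (.node (.leaf (1, 982)) (.leaf (76, 2282))) (.node (.leaf (66, 787)) (.leaf (41, 3042))))))))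

def twoVia90 : Janko.Tree (ℕ × ℕ) :=
  (.node (.node (.node (.node (.node (.node (.leaf (0, 0)) (.leaf (2, 2070))) (.node (.leaf (67, 684)) (.leaf (73, 2710)))) (.node (.node (.leaf (0, 0)) (.leaf (60, 1221))) (.node (.leaf (2, 1558)) (.leaf (77, 3254))))) (.node (.node (.node (.leaf (0, 0)) (.leaf (4, 3036))) (.node (.leaf (54, 588)) (.leaf (70, 2867)))) (.node (.node (.leaf (0, 0)) (.leaf (67, 2023))) (.node (.leaf (66, 1277)) (.leaf (2, 3862)))))) (.node (.node (.node (.node (.leaf (62, 939)) (.leaf (66, 1201))) (.node (.leaf (2, 2502)) (.leaf (76, 1272)))) (.node (.node (.leaf (7, 226)) (.leaf (73, 3094))) (.node (.leaf (8, 2830)) (.leaf (2, 3734))))) (.node (.node (.node (.leaf (59, 402)) (.leaf (73, 1190))) (.node (.leaf (67, 2425)) (.leaf (2, 3478)))) (.node (.node (.leaf (0, 0)) (.leaf (67, 3822))) (.node (.leaf (0, 0)) (.leaf (67, 3619))))))) (.node (.node (.node (.node (.node (.leaf (0, 0)) (.leaf (9, 949))) (.node (.leaf (67, 1538)) (.leaf (4, 3158)))) (.node (.node (.leaf (0, 0)) (.leaf (73, 3134)))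 (.node (.leaf (0, 0)) (.leaf (77, 1074))))) (.node (.node (.node (.leaf (0, 0)) (.leaf (2, 2390))) (.node (.leaf (67, 1646)) (.leaf (77, 3721)))) (.node (.node (.leaf (19, 989)) (.leaf (0, 0))) (.node (.leaf (67, 850)) (.leaf (2, 3926)))))) (.node (.node (.node (.node (.leaf (0, 0)) (.leaf (2, 2262))) (.node (.leaf (2, 1238)) (.leaf (2, 3286)))) (.node (.node (.leaf (0, 0)) (.leaf (73, 3812))) (.node (.leaf (0, 0)) (.leaf (2, 3798))))) (.node (.node (.node (.leaf (0, 0)) (.leaf (22, 1163))) (.node (.leaf (2, 1494)) (.leaf (22, 2387)))) (.node (.node (.leaf (67, 981)) (.leaf (2, 3030))) (.node (.leaf (26, 3303)) (.leaf (2, 4054))))))))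

def twoVia91 : Janko.Tree (ℕ × ℕ) :=
  (.node (.node (.node (.node (.node (.node (.leaf (0, 0)) (.leaf (0, 0))) (.node (.leaf (73, 1165)) (.leaf (74, 3429)))) (.node (.node (.leaf (67, 17)) (.leaf (69, 1562))) (.node (.leaf (0, 0)) (.leaf (45, 2852))))) (.node (.node (.node (.leaf (65, 675)) (.leaf (66, 1321))) (.node (.leaf (67, 577)) (.leaf (65, 2703)))) (.node (.node (.leaf (0, 0)) (.leaf (0, 0))) (.node (.leaf (67, 1513)) (.leaf (66, 3908)))))) (.node (.node (.node (.node (.leaf (0, 0)) (.leaf (0, 0))) (.node (.leaf (4, 144)) (.leaf (42, 3946)))) (.node (.node (.leaf (0, 0)) (.leaf (74, 2340))) (.node (.leaf (77, 3802)) (.leaf (77, 2558))))) (.node (.node (.node (.leaf (0, 0)) (.leaf (67, 4023))) (.node (.leaf (73, 3613)) (.leaf (77, 1013)))) (.node (.node (.leaf (0, 0)) (.leaf (77, 1825))) (.node (.leaf (3, 1957)) (.leaf (46, 2248))))))) (.node (.node (.node (.node (.node (.leaf (0, 0)) (.leaf (66, 1799))) (.node (.leaf (0, 0)) (.leaf (74, 3131)))) (.node (.node (.leaf (0, 0)) (.leaf (74, 567))) (.node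 (.leaf (0, 0)) (.leaf (73, 4000))))) (.node (.node (.node (.leaf (0, 0)) (.leaf (76, 3876))) (.node (.leaf (50, 1356)) (.leaf (74, 2808)))) (.node (.node (.leaf (73, 116)) (.leaf (61, 2215))) (.node (.leaf (0, 0)) (.leaf (26, 3931)))))) (.node (.node (.node (.node (.leaf (0, 0)) (.leaf (73, 1457))) (.node (.leaf (0, 0)) (.leaf (73, 3158)))) (.node (.node (.leaf (0, 0)) (.leaf (77, 3793))) (.node (.leaf (18, 401)) (.leaf (74, 4093))))) (.node (.node (.node (.leaf (0, 0)) (.leaf (77, 2570))) (.node (.leaf (0, 0)) (.leaf (67, 2932)))) (.node (.node (.leaf (67, 333)) (.leaf (74, 3511))) (.node (.leaf (26, 1604)) (.leaf (77, 3157))))))))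

def twoVia92 : Janko.Tree (ℕ × ℕ) :=
  (.node (.node (.node (.node (.node (.node (.leaf (0, 0)) (.leaf (71, 1240))) (.node (.leaf (12, 1047)) (.leaf (0, 3095)))) (.node (.node (.leaf (0, 535)) (.leaf (67, 1606))) (.node (.leaf (74, 1559)) (.leaf (31, 950))))) (.node (.node (.node (.leaf (64, 279)) (.leaf (0, 3708))) (.node (.leaf (73, 1303)) (.leaf (75, 3351)))) (.node (.node (.leaf (0, 791)) (.leaf (0, 0))) (.node (.leaf (34, 3679)) (.leaf (69, 2942)))))) (.node (.node (.node (.node (.leaf (0, 151)) (.leaf (0, 0))) (.node (.leaf (0, 1175)) (.leaf (0, 3223)))) (.node (.node (.leaf (69, 2405)) (.leaf (73, 3263))) (.node (.leaf (76, 2074)) (.leaf (0, 3735))))) (.node (.node (.node (.leaf (32, 1627)) (.leaf (0, 3067))) (.node (.leaf (76, 2991)) (.leaf (66, 3479)))) (.node (.node (.leaf (0, 919)) (.leaf (76, 2967))) (.node (.leaf (0, 1943)) (.leaf (45, 3895))))))) (.node (.node (.node (.node (.node (.leaf (0, 87)) (.leaf (0, 3559))) (.node (.leaf (47, 2624)) (.leaf (76, 3159)))) (.node (.node (.leaf (0, 599)) (.leaf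 (0, 2647))) (.node (.leaf (0, 0)) (.leaf (76, 3671))))) (.node (.node (.node (.leaf (0, 0)) (.leaf (23, 2391))) (.node (.leaf (77, 1411)) (.leaf (76, 3415)))) (.node (.node (.leaf (73, 311)) (.leaf (0, 2903))) (.node (.leaf (0, 1879)) (.leaf (67, 2585)))))) (.node (.node (.node (.node (.leaf (0, 0)) (.leaf (77, 2263))) (.node (.leaf (0, 0)) (.leaf (76, 3287)))) (.node (.node (.leaf (0, 0)) (.leaf (66, 2775))) (.node (.leaf (0, 1751)) (.leaf (71, 3799))))) (.node (.node (.node (.leaf (0, 471)) (.leaf (73, 2519))) (.node (.leaf (67, 391)) (.leaf (73, 2830)))) (.node (.node (.leaf (0, 0)) (.leaf (27, 3031))) (.node (.leaf (77, 2007)) (.leaf (22, 4055))))))))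

def twoVia93 : Janko.Tree (ℕ × ℕ) :=
  (.node (.node (.node (.node (.node (.node (.leaf (0, 0)) (.leaf (0, 0))) (.node (.leaf (1, 1047)) (.leaf (0, 0)))) (.node (.node (.leaf (67, 181)) (.leaf (1, 2583))) (.node (.leaf (0, 0)) (.leaf (1, 3607))))) (.node (.node (.node (.leaf (0, 0)) (.leaf (60, 2323))) (.node (.leaf (76, 455)) (.leaf (74, 2374)))) (.node (.node (.leaf (1, 1891)) (.leaf (1, 2839))) (.node (.leaf (1, 1815)) (.leaf (1, 3863)))))) (.node (.node (.node (.node (.leaf (0, 0)) (.leaf (66, 3540))) (.node (.leaf (62, 324)) (.leaf (76, 2259)))) (.node (.node (.leaf (1, 663)) (.leaf (1, 2711))) (.node (.leaf (1, 1687)) (.leaf (1, 3735))))) (.node (.node (.node (.leaf (0, 0)) (.leaf (67, 3067))) (.node (.leaf (1, 2082)) (.leaf (1, 3479)))) (.node (.node (.leaf (35, 324)) (.leaf (66, 2093))) (.node (.leaf (35, 1438)) (.leaf (1, 3991))))))) (.node (.node (.node (.node (.node (.leaf (0, 0)) (.leaf (1, 2135))) (.node (.leaf (76, 1752)) (.leaf (1, 3159)))) (.node (.node (.leaf (0, 0)) (.leaf (66, 2804))) (.node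 (.leaf (1, 1623)) (.leaf (31, 1781))))) (.node (.node (.node (.leaf (0, 0)) (.leaf (0, 0))) (.node (.leaf (0, 0)) (.leaf (1, 3878)))) (.node (.node (.leaf (0, 0)) (.leaf (77, 2419))) (.node (.leaf (1, 1879)) (.leaf (40, 3540)))))) (.node (.node (.node (.node (.leaf (1, 215)) (.leaf (1, 2263))) (.node (.leaf (1, 2528)) (.leaf (77, 3860)))) (.node (.node (.leaf (1, 727)) (.leaf (1, 3092))) (.node (.leaf (0, 0)) (.leaf (76, 3890))))) (.node (.node (.node (.leaf (0, 0)) (.leaf (1, 2519))) (.node (.leaf (46, 896)) (.leaf (1, 3543)))) (.node (.node (.leaf (1, 983)) (.leaf (1, 3031))) (.node (.leaf (1, 3407)) (.leaf (76, 3716))))))))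

def twoVia94 : Janko.Tree (ℕ × ℕ) :=
  (.node (.node (.node (.node (.node (.node (.leaf (0, 0)) (.leaf (9, 2134))) (.node (.leaf (0, 0)) (.leaf (2, 3095)))) (.node (.node (.leaf (64, 1703)) (.leaf (66, 1276))) (.node (.leaf (0, 0)) (.leaf (77, 3306))))) (.node (.node (.node (.leaf (2, 279)) (.leaf (2, 2327))) (.node (.leaf (77, 3497)) (.leaf (73, 2792)))) (.node (.node (.leaf (0, 0)) (.leaf (67, 1523))) (.node (.leaf (67, 984)) (.leaf (62, 1489)))))) (.node (.node (.node (.node (.leaf (6, 238)) (.leaf (67, 2824))) (.node (.leaf (11, 2526)) (.leaf (6, 1735)))) (.node (.node (.leaf (0, 0)) (.leaf (76, 3970))) (.node (.leaf (2, 3158)) (.leaf (18, 2376))))) (.node (.node (.node (.leaf (35, 211)) (.leaf (0, 0))) (.node (.leaf (74, 3216)) (.leaf (2, 3479)))) (.node (.node (.leaf (67, 1518)) (.leaf (0, 0))) (.node (.leaf (12, 27)) (.leaf (66, 1309))))))) (.node (.node (.node (.node (.node (.leaf (0, 0)) (.leaf (67, 2134))) (.node (.leaf (0, 0)) (.leaf (2, 3982)))) (.node (.node (.leaf (0, 0)) (.leaf (12, 2081))) (.node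 (.leaf (0, 0)) (.leaf (2, 3671))))) (.node (.node (.node (.leaf (0, 0)) (.leaf (0, 0))) (.node (.leaf (77, 3549)) (.leaf (22, 268)))) (.node (.node (.leaf (2, 2004)) (.leaf (77, 3219))) (.node (.leaf (76, 2160)) (.leaf (76, 2475)))))) (.node (.node (.node (.node (.leaf (0, 0)) (.leaf (2, 2876))) (.node (.leaf (0, 0)) (.leaf (77, 1024)))) (.node (.node (.leaf (51, 738)) (.leaf (0, 0))) (.node (.leaf (6, 1110)) (.leaf (67, 4034))))) (.node (.node (.node (.leaf (8, 192)) (.leaf (76, 3913))) (.node (.leaf (67, 421)) (.leaf (71, 1426)))) (.node (.node (.leaf (2, 1932)) (.leaf (74, 2148))) (.node (.leaf (2, 2007)) (.leaf (73, 3744))))))))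

def twoVia95 : Janko.Tree (ℕ × ℕ) :=
  (.node (.node (.node (.node (.node (.node (.leaf (0, 0)) (.leaf (8, 305))) (.node (.leaf (0, 0)) (.leaf (77, 3722)))) (.node (.node (.leaf (0, 0)) (.leaf (49, 4076))) (.node (.leaf (0, 0)) (.leaf (73, 2475))))) (.node (.node (.node (.leaf (0, 0)) (.leaf (66, 3819))) (.node (.leaf (24, 168)) (.leaf (44, 2459)))) (.node (.node (.leaf (0, 0)) (.leaf (74, 2635))) (.node (.leaf (0, 0)) (.leaf (76, 1489)))))) (.node (.node (.node (.node (.leaf (0, 0)) (.leaf (55, 2205))) (.node (.leaf (0, 0)) (.leaf (76, 2963)))) (.node (.node (.leaf (0, 0)) (.leaf (66, 1818))) (.node (.leaf (4, 230)) (.leaf (47, 2722))))) (.node (.node (.node (.leaf (67, 32)) (.leaf (46, 40))) (.node (.leaf (0, 0)) (.leaf (76, 806)))) (.node (.node (.leaf (0, 0)) (.leaf (4, 2719))) (.node (.leaf (67, 233)) (.leaf (4, 1625))))))) (.node (.node (.node (.node (.node (.leaf (0, 0)) (.leaf (0, 0))) (.node (.leaf (53, 731)) (.leaf (76, 1254)))) (.node (.node (.leaf (0, 0)) (.leaf (66, 312))) (.node (.leaf (43, 67))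 (.leaf (76, 3279))))) (.node (.node (.node (.leaf (67, 31)) (.leaf (25, 3025))) (.node (.leaf (8, 137)) (.leaf (75, 3308)))) (.node (.node (.leaf (4, 93)) (.leaf (69, 2967))) (.node (.leaf (0, 0)) (.leaf (69, 1580)))))) (.node (.node (.node (.node (.leaf (0, 0)) (.leaf (77, 2664))) (.node (.leaf (55, 58)) (.leaf (4, 1528)))) (.node (.node (.leaf (0, 0)) (.leaf (67, 2443))) (.node (.leaf (0, 0)) (.leaf (44, 2181))))) (.node (.node (.node (.leaf (0, 0)) (.leaf (75, 2544))) (.node (.leaf (0, 0)) (.leaf (21, 1759)))) (.node (.node (.leaf (0, 0)) (.leaf (0, 0))) (.node (.leaf (76, 2449)) (.leaf (66, 1869))))))))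

def twoVia96 : Janko.Tree (ℕ × ℕ) :=
  (.node (.node (.node (.node (.node (.node (.leaf (0, 24)) (.leaf (0, 2072))) (.node (.leaf (65, 1048)) (.leaf (0, 0)))) (.node (.node (.leaf (54, 536)) (.leaf (0, 2584))) (.node (.leaf (0, 1560)) (.leaf (0, 3608))))) (.node (.node (.node (.leaf (0, 0)) (.leaf (77, 2328))) (.node (.leaf (0, 1304)) (.leaf (76, 3352)))) (.node (.node (.leaf (0, 0)) (.leaf (0, 0))) (.node (.leaf (67, 1792)) (.leaf (67, 2009)))))) (.node (.node (.node (.node (.leaf (0, 0)) (.leaf (0, 0))) (.node (.leaf (65, 1440)) (.leaf (41, 3223)))) (.node (.node (.leaf (35, 1627)) (.leaf (71, 2862))) (.node (.leaf (0, 1688)) (.leaf (71, 1879))))) (.node (.node (.node (.leaf (0, 787)) (.leaf (20, 2456))) (.node (.leaf (0, 0)) (.leaf (71, 2718)))) (.node (.node (.leaf (0, 0)) (.leaf (66, 2869))) (.node (.leaf (47, 1944)) (.leaf (77, 3992))))))) (.node (.node (.node (.node (.node (.leaf (0, 0)) (.leaf (76, 2136))) (.node (.leaf (65, 1112)) (.leaf (47, 3028)))) (.node (.node (.leaf (0, 0)) (.leaf (58, 181)))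 (.node (.leaf (75, 3818)) (.leaf (71, 3825))))) (.node (.node (.node (.leaf (0, 344)) (.leaf (0, 2392))) (.node (.leaf (0, 1368)) (.leaf (0, 3416)))) (.node (.node (.leaf (0, 856)) (.leaf (69, 2904))) (.node (.leaf (67, 1639)) (.leaf (76, 3928)))))) (.node (.node (.node (.node (.leaf (0, 0)) (.leaf (73, 2264))) (.node (.leaf (67, 1411)) (.leaf (0, 3288)))) (.node (.node (.leaf (6, 730)) (.leaf (0, 2776))) (.node (.leaf (51, 1538)) (.leaf (0, 3800))))) (.node (.node (.node (.leaf (54, 469)) (.leaf (21, 145))) (.node (.leaf (0, 1496)) (.leaf (23, 3544)))) (.node (.node (.leaf (62, 984)) (.leaf (0, 3032))) (.node (.leaf (64, 3884)) (.leaf (67, 4056))))))))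

def twoVia97 : Janko.Tree (ℕ × ℕ) :=
  (.node (.node (.node (.node (.node (.node (.leaf (0, 0)) (.leaf (61, 744))) (.node (.leaf (0, 0)) (.leaf (1, 3096)))) (.node (.node (.leaf (1, 536)) (.leaf (76, 3784))) (.node (.leaf (5, 620)) (.leaf (76, 2655))))) (.node (.node (.node (.leaf (0, 0)) (.leaf (76, 3108))) (.node (.leaf (76, 2752)) (.leaf (1, 3352)))) (.node (.node (.leaf (1, 792)) (.leaf (0, 0))) (.node (.leaf (1, 1816)) (.leaf (71, 864)))))) (.node (.node (.node (.node (.leaf (1, 152)) (.leaf (1, 2200))) (.node (.leaf (1, 1176)) (.leaf (1, 3224)))) (.node (.node (.leaf (0, 0)) (.leaf (65, 2023))) (.node (.leaf (0, 0)) (.leaf (43, 1350))))) (.node (.node (.node (.leaf (1, 408)) (.leaf (1, 2456))) (.node (.leaf (76, 2172)) (.leaf (1, 3480)))) (.node (.node (.leaf (1, 920)) (.leaf (66, 1552))) (.node (.leaf (1, 3039)) (.leaf (43, 222))))))) (.node (.node (.node (.node (.node (.leaf (1, 88)) (.leaf (0, 0))) (.node (.leaf (1, 1112)) (.leaf (23, 3959)))) (.node (.node (.leaf (0, 0)) (.leaf (1, 2648))) (.node (.leaf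 (0, 0)) (.leaf (1, 3672))))) (.node (.node (.node (.leaf (0, 0)) (.leaf (59, 120))) (.node (.leaf (64, 537)) (.leaf (76, 1885)))) (.node (.node (.leaf (0, 0)) (.leaf (14, 3849))) (.node (.leaf (1, 1880)) (.leaf (52, 2990)))))) (.node (.node (.node (.node (.leaf (0, 0)) (.leaf (0, 0))) (.node (.leaf (1, 1240)) (.leaf (58, 1813)))) (.node (.node (.leaf (0, 0)) (.leaf (57, 3844))) (.node (.leaf (52, 608)) (.leaf (28, 478))))) (.node (.node (.node (.leaf (1, 472)) (.leaf (76, 1403))) (.node (.leaf (0, 0)) (.leaf (43, 3283)))) (.node (.node (.leaf (0, 0)) (.leaf (76, 2474))) (.node (.leaf (1, 2008)) (.leaf (71, 1424))))))))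

def twoVia98 : Janko.Tree (ℕ × ℕ) :=
  (.node (.node (.node (.node (.node (.node (.leaf (0, 0)) (.leaf (76, 2149))) (.node (.leaf (2, 1048)) (.leaf (77, 3772)))) (.node (.node (.leaf (0, 0)) (.leaf (66, 1445))) (.node (.leaf (0, 0)) (.leaf (71, 3605))))) (.node (.node (.node (.leaf (0, 0)) (.leaf (73, 2927))) (.node (.leaf (67, 528)) (.leaf (71, 3258)))) (.node (.node (.leaf (0, 0)) (.leaf (2, 2840))) (.node (.leaf (54, 256)) (.leaf (2, 3864)))))) (.node (.node (.node (.node (.leaf (0, 0)) (.leaf (0, 0))) (.node (.leaf (0, 0)) (.leaf (67, 3223)))) (.node (.node (.leaf (2, 664)) (.leaf (2, 2712))) (.node (.leaf (19, 677)) (.leaf (66, 3367))))) (.node (.node (.node (.leaf (26, 408)) (.leaf (73, 3747))) (.node (.leaf (77, 3084)) (.leaf (76, 1285)))) (.node (.node (.leaf (0, 0)) (.leaf (2, 3866))) (.node (.leaf (62, 1782)) (.leaf (62, 1441))))))) (.node (.node (.node (.node (.node (.leaf (0, 0)) (.leaf (0, 0))) (.node (.leaf (0, 0)) (.leaf (59, 3028)))) (.node (.node (.leaf (2, 600)) (.leaf (65, 1722))) (.node (.leaf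 (2, 1624)) (.leaf (67, 2529))))) (.node (.node (.node (.leaf (0, 0)) (.leaf (0, 0))) (.node (.leaf (18, 531)) (.leaf (77, 3338)))) (.node (.node (.leaf (0, 0)) (.leaf (2, 2904))) (.node (.leaf (67, 965)) (.leaf (2, 3928)))))) (.node (.node (.node (.node (.leaf (2, 216)) (.leaf (70, 385))) (.node (.leaf (55, 624)) (.leaf (2, 3288)))) (.node (.node (.leaf (2, 728)) (.leaf (2, 3081))) (.node (.leaf (2, 1752)) (.leaf (60, 219))))) (.node (.node (.node (.leaf (67, 189)) (.leaf (59, 377))) (.node (.leaf (6, 616)) (.leaf (62, 3434)))) (.node (.node (.leaf (4, 2411)) (.leaf (77, 3778))) (.node (.leaf (66, 2821)) (.leaf (2, 4056))))))))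

def twoVia99 : Janko.Tree (ℕ × ℕ) :=
  (.node (.node (.node (.node (.node (.node (.leaf (0, 0)) (.leaf (66, 2207))) (.node (.leaf (4, 3699)) (.leaf (77, 2610)))) (.node (.node (.leaf (0, 0)) (.leaf (67, 3249))) (.node (.leaf (0, 0)) (.leaf (74, 991))))) (.node (.node (.node (.leaf (0, 0)) (.leaf (0, 0))) (.node (.leaf (73, 2248)) (.leaf (20, 2304)))) (.node (.node (.leaf (0, 0)) (.leaf (76, 3309))) (.node (.leaf (0, 0)) (.leaf (73, 3217)))))) (.node (.node (.node (.node (.leaf (0, 0)) (.leaf (66, 332))) (.node (.leaf (0, 0)) (.leaf (76, 3223)))) (.node (.node (.leaf (0, 0)) (.leaf (62, 1339))) (.node (.leaf (65, 16)) (.leaf (40, 814))))) (.node (.node (.node (.leaf (0, 0)) (.leaf (49, 3467))) (.node (.leaf (0, 0)) (.leaf (67, 1136)))) (.node (.node (.leaf (0, 0)) (.leaf (54, 1485))) (.node (.leaf (59, 1553)) (.leaf (55, 285))))))) (.node (.node (.node (.node (.node (.leaf (0, 0)) (.leaf (64, 2065))) (.node (.leaf (76, 2847)) (.leaf (67, 3184)))) (.node (.node (.leaf (0, 0)) (.leaf (65, 178))) (.node (.leaf (0,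 0)) (.leaf (73, 3596))))) (.node (.node (.node (.leaf (0, 0)) (.leaf (66, 2107))) (.node (.leaf (0, 0)) (.leaf (31, 275)))) (.node (.node (.leaf (76, 3229)) (.leaf (74, 1159))) (.node (.leaf (76, 4025)) (.leaf (35, 2975)))))) (.node (.node (.node (.node (.leaf (0, 0)) (.leaf (0, 0))) (.node (.leaf (0, 0)) (.leaf (69, 1731)))) (.node (.node (.leaf (0, 0)) (.leaf (71, 2254))) (.node (.leaf (28, 231)) (.leaf (45, 4041))))) (.node (.node (.node (.leaf (76, 1566)) (.leaf (77, 1835))) (.node (.leaf (76, 2313)) (.leaf (74, 2242)))) (.node (.node (.leaf (4, 2266)) (.leaf (71, 3612))) (.node (.leaf (76, 1487)) (.leaf (60, 3340))))))))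

def twoVia100 : Janko.Tree (ℕ × ℕ) :=
  (.node (.node (.node (.node (.node (.node (.leaf (0, 0)) (.leaf (71, 1369))) (.node (.leaf (67, 1049)) (.leaf (71, 2655)))) (.node (.node (.leaf (0, 0)) (.leaf (59, 2585))) (.node (.leaf (0, 0)) (.leaf (61, 3195))))) (.node (.node (.node (.leaf (0, 0)) (.leaf (56, 1077))) (.node (.leaf (47, 1305)) (.leaf (77, 3353)))) (.node (.node (.leaf (0, 0)) (.leaf (71, 4028))) (.node (.leaf (50, 1817)) (.leaf (77, 3865)))))) (.node (.node (.node (.node (.leaf (0, 0)) (.leaf (65, 503))) (.node (.leaf (35, 1053)) (.leaf (22, 3225)))) (.node (.node (.leaf (0, 0)) (.leaf (0, 2713))) (.node (.leaf (58, 1689)) (.leaf (73, 3737))))) (.node (.node (.node (.leaf (0, 0)) (.leaf (73, 2457))) (.node (.leaf (0, 1433)) (.leaf (67, 3559)))) (.node (.node (.leaf (0, 0)) (.leaf (71, 2717))) (.node (.leaf (67, 2790)) (.leaf (0, 3993))))))) (.node (.node (.node (.node (.node (.leaf (0, 0)) (.leaf (0, 0))) (.node (.leaf (66, 77)) (.leaf (0, 3161)))) (.node (.node (.leaf (0, 0)) (.leaf (67, 2200))) (.node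 (.leaf (0, 0)) (.leaf (76, 3673))))) (.node (.node (.node (.leaf (0, 0)) (.leaf (0, 0))) (.node (.leaf (67, 1277)) (.leaf (76, 3417)))) (.node (.node (.leaf (62, 3243)) (.leaf (32, 597))) (.node (.leaf (55, 1977)) (.leaf (0, 3929)))))) (.node (.node (.node (.node (.leaf (0, 0)) (.leaf (0, 0))) (.node (.leaf (76, 3376)) (.leaf (76, 3289)))) (.node (.node (.leaf (0, 0)) (.leaf (7, 560))) (.node (.leaf (46, 2729)) (.leaf (0, 3801))))) (.node (.node (.node (.leaf (0, 0)) (.leaf (0, 2521))) (.node (.leaf (0, 0)) (.leaf (15, 1622)))) (.node (.node (.leaf (67, 839)) (.leaf (77, 3063))) (.node (.leaf (40, 2009)) (.leaf (0, 4057))))))))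

def twoVia101 : Janko.Tree (ℕ × ℕ) :=
  (.node (.node (.node (.node (.node (.node (.leaf (1, 25)) (.leaf (66, 3663))) (.node (.leaf (1, 1049)) (.leaf (76, 3988)))) (.node (.node (.leaf (0, 0)) (.leaf (76, 2953))) (.node (.leaf (1, 1561)) (.leaf (1, 3609))))) (.node (.node (.node (.leaf (1, 281)) (.leaf (1, 2329))) (.node (.leaf (76, 2028)) (.leaf (76, 1994)))) (.node (.node (.leaf (0, 0)) (.leaf (0, 0))) (.node (.leaf (0, 0)) (.leaf (76, 3353)))))) (.node (.node (.node (.node (.leaf (0, 0)) (.leaf (76, 1437))) (.node (.leaf (0, 0)) (.leaf (77, 2452)))) (.node (.node (.leaf (1, 1467)) (.leaf (73, 3602))) (.node (.leaf (1, 1689)) (.leaf (1, 3737))))) (.node (.node (.node (.leaf (1, 409)) (.leaf (77, 1194))) (.node (.leaf (76, 1951)) (.leaf (1, 3915)))) (.node (.node (.leaf (1, 921)) (.leaf (1, 2969))) (.node (.leaf (66, 3431)) (.leaf (65, 3105))))))) (.node (.node (.node (.node (.node (.leaf (0, 0)) (.leaf (64, 3559))) (.node (.leaf (53, 1772)) (.leaf (76, 2312)))) (.node (.node (.leaf (76, 439)) (.leaf (65, 3035)))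 (.node (.leaf (0, 0)) (.leaf (1, 3673))))) (.node (.node (.node (.leaf (1, 345)) (.leaf (1, 2393))) (.node (.leaf (76, 1964)) (.leaf (1, 3417)))) (.node (.node (.leaf (1, 857)) (.leaf (1, 2905))) (.node (.leaf (0, 0)) (.leaf (1, 3929)))))) (.node (.node (.node (.node (.leaf (0, 0)) (.leaf (1, 2265))) (.node (.leaf (25, 1241)) (.leaf (27, 3347)))) (.node (.node (.leaf (0, 0)) (.leaf (76, 3326))) (.node (.leaf (0, 0)) (.leaf (76, 4084))))) (.node (.node (.node (.leaf (0, 0)) (.leaf (76, 3619))) (.node (.leaf (1, 1497)) (.leaf (62, 2095)))) (.node (.node (.leaf (0, 0)) (.leaf (30, 1101))) (.node (.leaf (44, 27)) (.leaf (66, 955))))))))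

def twoVia102 : Janko.Tree (ℕ × ℕ) :=
  (.node (.node (.node (.node (.node (.node (.leaf (0, 0)) (.leaf (0, 0))) (.node (.leaf (76, 1132)) (.leaf (0, 0)))) (.node (.node (.leaf (0, 0)) (.leaf (67, 1239))) (.node (.leaf (76, 1485)) (.leaf (76, 3424))))) (.node (.node (.node (.leaf (0, 0)) (.leaf (65, 2301))) (.node (.leaf (2, 1305)) (.leaf (2, 3353)))) (.node (.node (.leaf (2, 793)) (.leaf (77, 3193))) (.node (.leaf (0, 0)) (.leaf (2, 3865)))))) (.node (.node (.node (.node (.leaf (2, 287)) (.leaf (2, 2201))) (.node (.leaf (0, 0)) (.leaf (2, 3225)))) (.node (.node (.leaf (4, 665)) (.leaf (77, 2466))) (.node (.leaf (65, 235)) (.leaf (66, 3567))))) (.node (.node (.node (.leaf (60, 40)) (.leaf (77, 3915))) (.node (.leaf (66, 471)) (.leaf (76, 3088)))) (.node (.node (.leaf (73, 1460)) (.leaf (16, 1474))) (.node (.leaf (2, 1945)) (.leaf (64, 2554))))))) (.node (.node (.node (.node (.node (.leaf (0, 0)) (.leaf (67, 862))) (.node (.leaf (54, 599)) (.leaf (2, 3161)))) (.node (.node (.leaf (67, 324)) (.leaf (2, 2649)))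 (.node (.leaf (0, 0)) (.leaf (62, 1003))))) (.node (.node (.node (.leaf (76, 299)) (.leaf (76, 3991))) (.node (.leaf (2, 1369)) (.leaf (76, 3297)))) (.node (.node (.leaf (2, 857)) (.leaf (41, 3837))) (.node (.leaf (66, 1048)) (.leaf (76, 2782)))))) (.node (.node (.node (.node (.leaf (0, 0)) (.leaf (71, 4048))) (.node (.leaf (77, 1394)) (.leaf (73, 2304)))) (.node (.node (.leaf (0, 0)) (.leaf (2, 2777))) (.node (.leaf (22, 624)) (.leaf (76, 3389))))) (.node (.node (.node (.leaf (2, 473)) (.leaf (19, 1164))) (.node (.leaf (0, 0)) (.leaf (2, 3545)))) (.node (.node (.leaf (2, 985)) (.leaf (2, 3033))) (.node (.leaf (55, 1497)) (.leaf (35, 250))))))))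

def twoVia103 : Janko.Tree (ℕ × ℕ) :=
  (.node (.node (.node (.node (.node (.node (.leaf (0, 0)) (.leaf (67, 375))) (.node (.leaf (0, 0)) (.leaf (14, 3988)))) (.node (.node (.leaf (0, 0)) (.leaf (64, 244))) (.node (.leaf (57, 2010)) (.leaf (73, 2493))))) (.node (.node (.node (.leaf (0, 0)) (.leaf (0, 0))) (.node (.leaf (0, 0)) (.leaf (69, 2079)))) (.node (.node (.leaf (0, 0)) (.leaf (66, 3261))) (.node (.leaf (76, 2717)) (.leaf (71, 3660)))))) (.node (.node (.node (.node (.leaf (0, 0)) (.leaf (74, 3141))) (.node (.leaf (58, 459)) (.leaf (73, 4065)))) (.node (.node (.leaf (0, 0)) (.leaf (75, 3808))) (.node (.leaf (65, 672)) (.leaf (57, 120))))) (.node (.node (.node (.leaf (0, 0)) (.leaf (64, 1845))) (.node (.leaf (43, 2425)) (.leaf (67, 1830)))) (.node (.node (.leaf (0, 0)) (.leaf (67, 3277))) (.node (.leaf (0, 0)) (.leaf (69, 1789))))))) (.node (.node (.node (.node (.node (.leaf (0, 0)) (.leaf (67, 4000))) (.node (.leaf (67, 1752)) (.leaf (71, 2350)))) (.node (.node (.leaf (0, 0)) (.leaf (0, 0))) (.node (.leaf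 (0, 0)) (.leaf (77, 2527))))) (.node (.node (.node (.leaf (76, 1480)) (.leaf (67, 576))) (.node (.leaf (76, 3002)) (.leaf (34, 2294)))) (.node (.node (.leaf (0, 0)) (.leaf (65, 2063))) (.node (.leaf (8, 282)) (.leaf (59, 2975)))))) (.node (.node (.node (.node (.leaf (0, 0)) (.leaf (73, 4048))) (.node (.leaf (67, 859)) (.leaf (55, 63)))) (.node (.node (.leaf (0, 0)) (.leaf (0, 0))) (.node (.leaf (57, 1691)) (.leaf (67, 4036))))) (.node (.node (.node (.leaf (4, 47)) (.leaf (77, 3619))) (.node (.leaf (0, 0)) (.leaf (76, 4089)))) (.node (.node (.leaf (0, 0)) (.leaf (73, 227))) (.node (.leaf (65, 615)) (.leaf (67, 3857))))))))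

def twoVia104 : Janko.Tree (ℕ × ℕ) :=
  (.node (.node (.node (.node (.node (.node (.leaf (0, 0)) (.leaf (52, 2074))) (.node (.leaf (76, 2985)) (.leaf (0, 3098)))) (.node (.node (.leaf (0, 538)) (.leaf (67, 2586))) (.node (.leaf (0, 0)) (.leaf (71, 2134))))) (.node (.node (.node (.leaf (35, 284)) (.leaf (7, 2330))) (.node (.leaf (73, 1412)) (.leaf (77, 3538)))) (.node (.node (.leaf (0, 0)) (.leaf (0, 2842))) (.node (.leaf (0, 1818)) (.leaf (48, 3199)))))) (.node (.node (.node (.node (.leaf (0, 154)) (.leaf (67, 2202))) (.node (.leaf (0, 1178)) (.leaf (71, 3846)))) (.node (.node (.leaf (0, 0)) (.leaf (0, 2921))) (.node (.leaf (67, 243)) (.leaf (69, 2502))))) (.node (.node (.node (.leaf (0, 410)) (.leaf (0, 2458))) (.node (.leaf (0, 0)) (.leaf (61, 951)))) (.node (.node (.leaf (8, 922)) (.leaf (0, 2970))) (.node (.leaf (69, 3162)) (.leaf (50, 3994))))))) (.node (.node (.node (.node (.node (.leaf (0, 90)) (.leaf (69, 596))) (.node (.leaf (0, 1114)) (.leaf (0, 3162)))) (.node (.node (.leaf (0, 602)) (.leaf (75, 3884)))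 (.node (.leaf (0, 0)) (.leaf (74, 564))))) (.node (.node (.node (.leaf (0, 0)) (.leaf (71, 2394))) (.node (.leaf (48, 1370)) (.leaf (0, 3418)))) (.node (.node (.leaf (0, 0)) (.leaf (73, 3231))) (.node (.leaf (77, 2634)) (.leaf (65, 3930)))))) (.node (.node (.node (.node (.leaf (0, 0)) (.leaf (70, 2266))) (.node (.leaf (0, 1242)) (.leaf (76, 3290)))) (.node (.node (.leaf (0, 730)) (.leaf (69, 2778))) (.node (.leaf (0, 0)) (.leaf (76, 3802))))) (.node (.node (.node (.leaf (0, 474)) (.leaf (66, 2522))) (.node (.leaf (0, 0)) (.leaf (0, 3546)))) (.node (.node (.leaf (0, 0)) (.leaf (65, 3034))) (.node (.leaf (0, 2010)) (.leaf (37, 4057))))))))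

def twoVia105 : Janko.Tree (ℕ × ℕ) :=
  (.node (.node (.node (.node (.node (.node (.leaf (0, 0)) (.leaf (71, 3413))) (.node (.leaf (64, 1951)) (.leaf (66, 534)))) (.node (.node (.leaf (0, 0)) (.leaf (1, 2586))) (.node (.leaf (0, 0)) (.leaf (74, 1640))))) (.node (.node (.node (.leaf (0, 0)) (.leaf (0, 0))) (.node (.leaf (0, 0)) (.leaf (65, 1314)))) (.node (.node (.leaf (76, 1726)) (.leaf (0, 0))) (.node (.leaf (52, 3263)) (.leaf (76, 3569)))))) (.node (.node (.node (.node (.leaf (0, 0)) (.leaf (66, 1239))) (.node (.leaf (58, 443)) (.leaf (1, 3226)))) (.node (.node (.leaf (1, 666)) (.leaf (76, 3427))) (.node (.leaf (67, 1456)) (.leaf (61, 511))))) (.node (.node (.node (.leaf (0, 0)) (.leaf (76, 3520))) (.node (.leaf (0, 0)) (.leaf (65, 4094)))) (.node (.node (.leaf (0, 0)) (.leaf (66, 1547))) (.node (.leaf (0, 0)) (.leaf (1, 3994))))))) (.node (.node (.node (.node (.node (.leaf (0, 0)) (.leaf (1, 2138))) (.node (.leaf (76, 518)) (.leaf (65, 1667)))) (.node (.node (.leaf (0, 0)) (.leaf (1, 2650))) (.node (.leaf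 (1, 1626)) (.leaf (1, 3674))))) (.node (.node (.node (.leaf (1, 838)) (.leaf (0, 0))) (.node (.leaf (76, 1652)) (.leaf (74, 1890)))) (.node (.node (.leaf (0, 0)) (.leaf (75, 4034))) (.node (.leaf (1, 1882)) (.leaf (40, 3530)))))) (.node (.node (.node (.node (.leaf (1, 218)) (.leaf (0, 0))) (.node (.leaf (59, 473)) (.leaf (1, 3290)))) (.node (.node (.leaf (0, 0)) (.leaf (76, 3103))) (.node (.leaf (1, 1754)) (.leaf (1, 3802))))) (.node (.node (.node (.leaf (0, 0)) (.leaf (62, 3062))) (.node (.leaf (0, 0)) (.leaf (73, 2048)))) (.node (.node (.leaf (46, 81)) (.leaf (65, 2201))) (.node (.leaf (54, 86)) (.leaf (1, 4058))))))))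

def twoVia106 : Janko.Tree (ℕ × ℕ) :=
  (.node (.node (.node (.node (.node (.node (.leaf (2, 26)) (.leaf (76, 2185))) (.node (.leaf (0, 0)) (.leaf (74, 380)))) (.node (.node (.leaf (37, 1226)) (.leaf (46, 421))) (.node (.leaf (2, 1562)) (.leaf (73, 3928))))) (.node (.node (.node (.leaf (2, 282)) (.leaf (59, 2286))) (.node (.leaf (12, 3776)) (.leaf (77, 3114)))) (.node (.node (.leaf (54, 696)) (.leaf (76, 3160))) (.node (.leaf (2, 1818)) (.leaf (4, 3866)))))) (.node (.node (.node (.node (.leaf (6, 471)) (.leaf (0, 0))) (.node (.leaf (2, 1705)) (.leaf (73, 2061)))) (.node (.node (.leaf (0, 0)) (.leaf (4, 2714))) (.node (.leaf (2, 1690)) (.leaf (2, 3738))))) (.node (.node (.node (.leaf (2, 730)) (.leaf (6, 3315))) (.node (.leaf (2, 1434)) (.leaf (76, 3621)))) (.node (.node (.leaf (2, 922)) (.leaf (35, 210))) (.node (.leaf (43, 3174)) (.leaf (43, 3396))))))) (.node (.node (.node (.node (.node (.leaf (6, 296)) (.leaf (67, 2904))) (.node (.leaf (7, 413)) (.leaf (61, 603)))) (.node (.node (.leaf (0, 0)) (.leaf (65,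 482))) (.node (.leaf (0, 0)) (.leaf (23, 2898))))) (.node (.node (.node (.leaf (2, 346)) (.leaf (2, 2394))) (.node (.leaf (2, 2625)) (.leaf (56, 1146)))) (.node (.node (.leaf (0, 0)) (.leaf (2, 2906))) (.node (.leaf (77, 2433)) (.leaf (2, 3930)))))) (.node (.node (.node (.node (.leaf (0, 0)) (.leaf (2, 2266))) (.node (.leaf (8, 473)) (.leaf (67, 1278)))) (.node (.node (.leaf (6, 411)) (.leaf (2, 2778))) (.node (.leaf (66, 405)) (.leaf (76, 3632))))) (.node (.node (.node (.leaf (2, 1231)) (.leaf (2, 2522))) (.node (.leaf (35, 1548)) (.leaf (2, 3546)))) (.node (.node (.leaf (0, 0)) (.leaf (15, 3949))) (.node (.leaf (56, 2126)) (.leaf (58, 4057))))))))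

def twoVia107 : Janko.Tree (ℕ × ℕ) :=
  (.node (.node (.node (.node (.node (.node (.leaf (0, 0)) (.leaf (66, 2072))) (.node (.leaf (65, 215)) (.leaf (0, 0)))) (.node (.node (.leaf (73, 54)) (.leaf (57, 237))) (.node (.leaf (74, 2764)) (.leaf (71, 426))))) (.node (.node (.node (.leaf (76, 2667)) (.leaf (4, 368))) (.node (.leaf (58, 2377)) (.leaf (77, 2635)))) (.node (.node (.leaf (0, 0)) (.leaf (60, 1906))) (.node (.leaf (0, 0)) (.leaf (74, 3703)))))) (.node (.node (.node (.node (.leaf (0, 0)) (.leaf (67, 1671))) (.node (.leaf (0, 0)) (.leaf (67, 4078)))) (.node (.node (.leaf (0, 0)) (.leaf (77, 2701))) (.node (.leaf (0, 0)) (.leaf (67, 2276))))) (.node (.node (.node (.leaf (0, 0)) (.leaf (74, 1676))) (.node (.leaf (64, 2425)) (.leaf (56, 1143)))) (.node (.node (.leaf (74, 3628)) (.leaf (67, 3862))) (.node (.leaf (76, 2586)) (.leaf (74, 1964))))))) (.node (.node (.node (.node (.node (.leaf (0, 0)) (.leaf (73, 317))) (.node (.leaf (65, 1546)) (.leaf (15, 937)))) (.node (.node (.leaf (0, 0)) (.leaf (76, 482)))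 (.node (.leaf (0, 0)) (.leaf (67, 3364))))) (.node (.node (.node (.leaf (0, 0)) (.leaf (0, 0))) (.node (.leaf (71, 2990)) (.leaf (74, 3685)))) (.node (.node (.leaf (46, 2803)) (.leaf (67, 2924))) (.node (.leaf (0, 0)) (.leaf (73, 2558)))))) (.node (.node (.node (.node (.leaf (0, 0)) (.leaf (67, 2279))) (.node (.leaf (0, 0)) (.leaf (31, 2836)))) (.node (.node (.leaf (0, 0)) (.leaf (18, 2566))) (.node (.leaf (47, 140)) (.leaf (65, 2435))))) (.node (.node (.node (.leaf (0, 0)) (.leaf (76, 2159))) (.node (.leaf (0, 0)) (.leaf (66, 3171)))) (.node (.node (.leaf (18, 771)) (.leaf (0, 0))) (.node (.leaf (0, 0)) (.leaf (67, 2174))))))))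

def twoVia108 : Janko.Tree (ℕ × ℕ) :=
  (.node (.node (.node (.node (.node (.node (.leaf (0, 0)) (.leaf (76, 2565))) (.node (.leaf (0, 1051)) (.leaf (64, 3099)))) (.node (.node (.leaf (73, 4057)) (.leaf (67, 526))) (.node (.leaf (44, 213)) (.leaf (77, 3611))))) (.node (.node (.node (.leaf (76, 2350)) (.leaf (76, 2331))) (.node (.leaf (0, 1307)) (.leaf (0, 3355)))) (.node (.node (.leaf (0, 0)) (.leaf (76, 2843))) (.node (.leaf (69, 765)) (.leaf (71, 3585)))))) (.node (.node (.node (.node (.leaf (0, 0)) (.leaf (54, 2203))) (.node (.leaf (77, 4095)) (.leaf (66, 3737)))) (.node (.node (.leaf (65, 3348)) (.leaf (0, 3369))) (.node (.leaf (0, 0)) (.leaf (76, 3739))))) (.node (.node (.node (.leaf (8, 411)) (.leaf (0, 0))) (.node (.leaf (0, 0)) (.leaf (0, 3483)))) (.node (.node (.leaf (69, 2186)) (.leaf (10, 2872))) (.node (.leaf (76, 1947)) (.leaf (0, 3995))))))) (.node (.node (.node (.node (.node (.leaf (0, 0)) (.leaf (0, 2139))) (.node (.leaf (67, 738)) (.leaf (66, 3163)))) (.node (.node (.leaf (0, 0)) (.leaf (76,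 2651))) (.node (.leaf (67, 1627)) (.leaf (0, 3843))))) (.node (.node (.node (.leaf (59, 347)) (.leaf (71, 981))) (.node (.leaf (0, 1607)) (.leaf (73, 190)))) (.node (.node (.leaf (67, 619)) (.leaf (73, 2971))) (.node (.leaf (75, 2732)) (.leaf (22, 383)))))) (.node (.node (.node (.node (.leaf (0, 0)) (.leaf (77, 4041))) (.node (.leaf (0, 0)) (.leaf (48, 3291)))) (.node (.node (.leaf (54, 77)) (.leaf (21, 2779))) (.node (.leaf (73, 3257)) (.leaf (73, 3531))))) (.node (.node (.node (.leaf (0, 0)) (.leaf (73, 328))) (.node (.leaf (0, 1499)) (.leaf (0, 3547)))) (.node (.node (.leaf (0, 987)) (.leaf (0, 3035))) (.node (.leaf (0, 2011)) (.leaf (77, 4059))))))))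

def twoVia109 : Janko.Tree (ℕ × ℕ) :=
  (.node (.node (.node (.node (.node (.node (.leaf (0, 0)) (.leaf (1, 2075))) (.node (.leaf (67, 383)) (.leaf (1, 3099)))) (.node (.node (.leaf (1, 539)) (.leaf (76, 3584))) (.node (.leaf (1, 1563)) (.leaf (1, 3611))))) (.node (.node (.node (.leaf (0, 0)) (.leaf (1, 2331))) (.node (.leaf (0, 0)) (.leaf (76, 1996)))) (.node (.node (.leaf (1, 795)) (.leaf (1, 2843))) (.node (.leaf (1, 1819)) (.leaf (76, 3602)))))) (.node (.node (.node (.node (.leaf (1, 155)) (.leaf (38, 3535))) (.node (.leaf (1, 1179)) (.leaf (1, 3227)))) (.node (.node (.leaf (0, 0)) (.leaf (73, 3369))) (.node (.leaf (0, 0)) (.leaf (76, 2632))))) (.node (.node (.node (.leaf (0, 0)) (.leaf (1, 2459))) (.node (.leaf (76, 2787)) (.leaf (58, 1973)))) (.node (.node (.leaf (0, 0)) (.leaf (1, 2971))) (.node (.leaf (1, 1947)) (.leaf (76, 3805))))))) (.node (.node (.node (.node (.node (.leaf (1, 91)) (.leaf (76, 1352))) (.node (.leaf (0, 0)) (.leaf (59, 1775)))) (.node (.node (.leaf (1, 603)) (.leaf (76, 3766))) (.node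 (.leaf (76, 1407)) (.leaf (1, 4054))))) (.node (.node (.node (.leaf (0, 0)) (.leaf (1, 2395))) (.node (.leaf (1, 1371)) (.leaf (1, 3419)))) (.node (.node (.leaf (1, 859)) (.leaf (0, 0))) (.node (.leaf (76, 2941)) (.leaf (1, 3931)))))) (.node (.node (.node (.node (.leaf (0, 0)) (.leaf (1, 3449))) (.node (.leaf (1, 1243)) (.leaf (77, 3938)))) (.node (.node (.leaf (1, 731)) (.leaf (64, 3370))) (.node (.leaf (76, 3133)) (.leaf (1, 3803))))) (.node (.node (.node (.leaf (1, 475)) (.leaf (76, 3225))) (.node (.leaf (0, 0)) (.leaf (56, 2530)))) (.node (.node (.leaf (0, 0)) (.leaf (0, 0))) (.node (.leaf (76, 3258)) (.leaf (76, 3425))))))))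

def twoVia110 : Janko.Tree (ℕ × ℕ) :=
  (.node (.node (.node (.node (.node (.node (.leaf (0, 0)) (.leaf (76, 2072))) (.node (.leaf (66, 685)) (.leaf (77, 3094)))) (.node (.node (.leaf (0, 0)) (.leaf (2, 2587))) (.node (.leaf (48, 191)) (.leaf (76, 3559))))) (.node (.node (.node (.leaf (0, 0)) (.leaf (76, 2641))) (.node (.leaf (0, 0)) (.leaf (77, 3531)))) (.node (.node (.leaf (4, 795)) (.leaf (67, 1503))) (.node (.leaf (0, 0)) (.leaf (76, 2582)))))) (.node (.node (.node (.node (.leaf (67, 1741)) (.leaf (67, 2297))) (.node (.leaf (66, 1860)) (.leaf (66, 2313)))) (.node (.node (.leaf (0, 0)) (.leaf (2, 2715))) (.node (.leaf (0, 0)) (.leaf (2, 3739))))) (.node (.node (.node (.leaf (2, 411)) (.leaf (11, 2458))) (.node (.leaf (0, 0)) (.leaf (62, 1546)))) (.node (.node (.leaf (67, 365)) (.leaf (57, 615))) (.node (.leaf (67, 828)) (.leaf (4, 3995))))))) (.node (.node (.node (.node (.node (.leaf (0, 0)) (.leaf (76, 2120))) (.node (.leaf (2, 1115)) (.leaf (2, 3163)))) (.node (.node (.leaf (0, 0)) (.leaf (71, 2740))) (.node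 (.leaf (2, 1627)) (.leaf (77, 3562))))) (.node (.node (.node (.leaf (0, 0)) (.leaf (54, 2801))) (.node (.leaf (76, 2938)) (.leaf (74, 888)))) (.node (.node (.leaf (65, 1240)) (.leaf (2, 2907))) (.node (.leaf (2, 1883)) (.leaf (58, 1536)))))) (.node (.node (.node (.node (.leaf (2, 219)) (.leaf (74, 2954))) (.node (.leaf (58, 361)) (.leaf (2, 3291)))) (.node (.node (.leaf (2, 1751)) (.leaf (67, 2953))) (.node (.leaf (0, 0)) (.leaf (61, 3455))))) (.node (.node (.node (.leaf (0, 0)) (.leaf (2, 2523))) (.node (.leaf (2, 1499)) (.leaf (2, 3547)))) (.node (.node (.leaf (7, 327)) (.leaf (6, 1679))) (.node (.leaf (35, 2624)) (.leaf (77, 3997))))))))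

def twoVia111 : Janko.Tree (ℕ × ℕ) :=
  (.node (.node (.node (.node (.node (.node (.leaf (0, 0)) (.leaf (21, 190))) (.node (.leaf (0, 0)) (.leaf (73, 1300)))) (.node (.node (.leaf (67, 2291)) (.leaf (35, 889))) (.node (.leaf (0, 0)) (.leaf (62, 1517))))) (.node (.node (.node (.leaf (26, 282)) (.leaf (65, 2016))) (.node (.leaf (0, 0)) (.leaf (69, 2467)))) (.node (.node (.leaf (0, 0)) (.leaf (0, 0))) (.node (.leaf (0, 0)) (.leaf (67, 2526)))))) (.node (.node (.node (.node (.leaf (0, 0)) (.leaf (0, 0))) (.node (.leaf (0, 0)) (.leaf (24, 1728)))) (.node (.node (.leaf (0, 0)) (.leaf (26, 2714))) (.node (.leaf (65, 1114)) (.leaf (69, 3686))))) (.node (.node (.node (.leaf (0, 0)) (.leaf (57, 256))) (.node (.leaf (25, 472)) (.leaf (66, 1150)))) (.node (.node (.leaf (26, 922)) (.leaf (77, 2783))) (.node (.leaf (25, 3171)) (.leaf (67, 2677))))))) (.node (.node (.node (.node (.node (.leaf (0, 0)) (.leaf (65, 862))) (.node (.leaf (0, 0)) (.leaf (26, 3661)))) (.node (.node (.leaf (0, 0)) (.leaf (0, 0))) (.node (.leaf (76,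 2399)) (.leaf (14, 3469))))) (.node (.node (.node (.leaf (8, 617)) (.leaf (0, 0))) (.node (.leaf (0, 0)) (.leaf (66, 3592)))) (.node (.node (.leaf (0, 0)) (.leaf (74, 3415))) (.node (.leaf (0, 0)) (.leaf (59, 1531)))))) (.node (.node (.node (.node (.leaf (0, 0)) (.leaf (25, 854))) (.node (.leaf (60, 1485)) (.leaf (67, 2498)))) (.node (.node (.leaf (0, 0)) (.leaf (67, 1375))) (.node (.leaf (0, 0)) (.leaf (59, 1366))))) (.node (.node (.node (.leaf (76, 474)) (.leaf (74, 2856))) (.node (.leaf (0, 0)) (.leaf (75, 1688)))) (.node (.node (.leaf (76, 3676)) (.leaf (0, 0))) (.node (.leaf (39, 4032)) (.leaf (69, 895))))))))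

def twoVia112 : Janko.Tree (ℕ × ℕ) :=
  (.node (.node (.node (.node (.node (.node (.leaf (0, 0)) (.leaf (76, 2076))) (.node (.leaf (0, 2311)) (.leaf (48, 3100)))) (.node (.node (.leaf (74, 540)) (.leaf (73, 2588))) (.node (.leaf (10, 1566)) (.leaf (77, 3612))))) (.node (.node (.node (.leaf (0, 284)) (.leaf (27, 2332))) (.node (.leaf (0, 0)) (.leaf (0, 0)))) (.node (.node (.leaf (75, 3536)) (.leaf (0, 2844))) (.node (.leaf (0, 0)) (.leaf (0, 3868)))))) (.node (.node (.node (.node (.leaf (0, 0)) (.leaf (0, 3334))) (.node (.leaf (77, 1180)) (.leaf (0, 3228)))) (.node (.node (.leaf (0, 668)) (.leaf (22, 2716))) (.node (.leaf (0, 1692)) (.leaf (0, 3740))))) (.node (.node (.node (.leaf (67, 412)) (.leaf (6, 2460))) (.node (.leaf (0, 1436)) (.leaf (73, 3484)))) (.node (.node (.leaf (0, 924)) (.leaf (0, 0))) (.node (.leaf (0, 0)) (.leaf (72, 4092))))))) (.node (.node (.node (.node (.node (.leaf (0, 0)) (.leaf (71, 3652))) (.node (.leaf (77, 1116)) (.leaf (67, 3164)))) (.node (.node (.leaf (0, 0)) (.leaf (0, 2652)))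 (.node (.leaf (66, 3895)) (.leaf (0, 3676))))) (.node (.node (.node (.leaf (19, 995)) (.leaf (75, 2215))) (.node (.leaf (65, 1372)) (.leaf (76, 3709)))) (.node (.node (.leaf (0, 0)) (.leaf (67, 3026))) (.node (.leaf (0, 1884)) (.leaf (73, 1636)))))) (.node (.node (.node (.node (.leaf (76, 2464)) (.leaf (69, 3094))) (.node (.leaf (0, 0)) (.leaf (67, 845)))) (.node (.node (.leaf (0, 0)) (.leaf (0, 3688))) (.node (.leaf (0, 1756)) (.leaf (76, 3804))))) (.node (.node (.node (.leaf (0, 0)) (.leaf (71, 2524))) (.node (.leaf (76, 1692)) (.leaf (0, 3548)))) (.node (.node (.leaf (0, 0)) (.leaf (0, 3036))) (.node (.leaf (76, 2012)) (.leaf (0, 4060))))))))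

def twoVia113 : Janko.Tree (ℕ × ℕ) :=
  (.node (.node (.node (.node (.node (.node (.leaf (1, 28)) (.leaf (65, 3226))) (.node (.leaf (1, 1052)) (.leaf (76, 3993)))) (.node (.node (.leaf (0, 0)) (.leaf (76, 3529))) (.node (.leaf (0, 0)) (.leaf (1, 3912))))) (.node (.node (.node (.leaf (0, 0)) (.leaf (1, 2332))) (.node (.leaf (1, 1308)) (.leaf (74, 2388)))) (.node (.node (.leaf (61, 154)) (.leaf (1, 2844))) (.node (.leaf (0, 0)) (.leaf (12, 611)))))) (.node (.node (.node (.node (.leaf (0, 0)) (.leaf (40, 3329))) (.node (.leaf (0, 0)) (.leaf (76, 1743)))) (.node (.node (.leaf (76, 1688)) (.leaf (39, 3095))) (.node (.leaf (5, 679)) (.leaf (65, 2881))))) (.node (.node (.node (.leaf (0, 0)) (.leaf (76, 3313))) (.node (.leaf (61, 1458)) (.leaf (1, 3484)))) (.node (.node (.leaf (43, 3198)) (.leaf (76, 2710))) (.node (.leaf (66, 619)) (.leaf (1, 3996))))))) (.node (.node (.node (.node (.node (.leaf (0, 0)) (.leaf (0, 0))) (.node (.leaf (76, 2765)) (.leaf (14, 4000)))) (.node (.node (.leaf (0, 0)) (.leaf (76, 3655))) (.node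 (.leaf (0, 0)) (.leaf (73, 2249))))) (.node (.node (.node (.leaf (0, 0)) (.leaf (1, 2396))) (.node (.leaf (65, 622)) (.leaf (45, 2285)))) (.node (.node (.leaf (76, 3924)) (.leaf (64, 1978))) (.node (.leaf (1, 2868)) (.leaf (76, 3742)))))) (.node (.node (.node (.node (.leaf (0, 0)) (.leaf (1, 2268))) (.node (.leaf (1, 1244)) (.leaf (1, 3292)))) (.node (.node (.leaf (0, 0)) (.leaf (40, 641))) (.node (.leaf (1, 1756)) (.leaf (14, 2796))))) (.node (.node (.node (.leaf (1, 703)) (.leaf (76, 3487))) (.node (.leaf (1, 1500)) (.leaf (58, 2050)))) (.node (.node (.leaf (1, 988)) (.leaf (48, 1589))) (.node (.leaf (76, 1406)) (.leaf (76, 3356))))))))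

def twoVia114 : Janko.Tree (ℕ × ℕ) :=
  (.node (.node (.node (.node (.node (.node (.leaf (0, 0)) (.leaf (2, 2076))) (.node (.leaf (0, 0)) (.leaf (2, 3100)))) (.node (.node (.leaf (2, 540)) (.leaf (73, 3686))) (.node (.leaf (2, 1564)) (.leaf (2, 3612))))) (.node (.node (.node (.leaf (67, 1601)) (.leaf (66, 3525))) (.node (.leaf (67, 2705)) (.leaf (77, 3775)))) (.node (.node (.leaf (0, 0)) (.leaf (0, 0))) (.node (.leaf (0, 0)) (.leaf (47, 2970)))))) (.node (.node (.node (.node (.leaf (2, 156)) (.leaf (67, 1974))) (.node (.leaf (2, 1180)) (.leaf (2, 3228)))) (.node (.node (.leaf (67, 991)) (.leaf (35, 2287))) (.node (.leaf (2, 1692)) (.leaf (67, 3897))))) (.node (.node (.node (.leaf (62, 1752)) (.leaf (2, 2460))) (.node (.leaf (67, 467)) (.leaf (76, 3459)))) (.node (.node (.leaf (76, 1112)) (.leaf (77, 3658))) (.node (.leaf (0, 0)) (.leaf (76, 2274))))))) (.node (.node (.node (.node (.node (.leaf (2, 92)) (.leaf (2, 2140))) (.node (.leaf (77, 3502)) (.leaf (67, 2415)))) (.node (.node (.leaf (0, 0)) (.leaf (77,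 4035))) (.node (.leaf (0, 0)) (.leaf (76, 1381))))) (.node (.node (.node (.leaf (2, 348)) (.leaf (67, 384))) (.node (.leaf (76, 3735)) (.leaf (59, 1232)))) (.node (.node (.leaf (73, 1919)) (.leaf (40, 2392))) (.node (.leaf (76, 2661)) (.leaf (77, 2488)))))) (.node (.node (.node (.node (.leaf (0, 0)) (.leaf (35, 1896))) (.node (.leaf (51, 702)) (.leaf (15, 1835)))) (.node (.node (.leaf (0, 0)) (.leaf (77, 4027))) (.node (.leaf (0, 0)) (.leaf (71, 584))))) (.node (.node (.node (.leaf (2, 476)) (.leaf (0, 0))) (.node (.leaf (67, 654)) (.leaf (76, 3761)))) (.node (.node (.leaf (0, 0)) (.leaf (2, 3945))) (.node (.leaf (2, 2012)) (.leaf (77, 2797))))))))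

def twoVia115 : Janko.Tree (ℕ × ℕ) :=
  (.node (.node (.node (.node (.node (.node (.leaf (0, 0)) (.leaf (76, 3844))) (.node (.leaf (0, 0)) (.leaf (0, 0)))) (.node (.node (.leaf (0, 0)) (.leaf (67, 307))) (.node (.leaf (0, 0)) (.leaf (77, 4021))))) (.node (.node (.node (.leaf (0, 0)) (.leaf (0, 0))) (.node (.leaf (43, 361)) (.leaf (20, 56)))) (.node (.node (.leaf (0, 0)) (.leaf (67, 584))) (.node (.leaf (65, 255)) (.leaf (0, 0)))))) (.node (.node (.node (.node (.leaf (0, 0)) (.leaf (67, 570))) (.node (.leaf (0, 0)) (.leaf (77, 3406)))) (.node (.node (.leaf (43, 2301)) (.leaf (66, 2413))) (.node (.leaf (76, 1830)) (.leaf (66, 1007))))) (.node (.node (.node (.leaf (0, 0)) (.leaf (66, 3864))) (.node (.leaf (0, 0)) (.leaf (66, 3188)))) (.node (.node (.leaf (0, 0)) (.leaf (67, 1551))) (.node (.leaf (59, 334)) (.leaf (67, 3068))))))) (.node (.node (.node (.node (.node (.leaf (0, 0)) (.leaf (0, 0))) (.node (.leaf (65, 3331)) (.leaf (66, 2587)))) (.node (.node (.leaf (4, 249)) (.leaf (77, 3132))) (.node (.leaf (26, 1627))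 (.leaf (69, 2509))))) (.node (.node (.node (.leaf (0, 0)) (.leaf (77, 3001))) (.node (.leaf (54, 2625)) (.leaf (53, 2492)))) (.node (.node (.leaf (0, 0)) (.leaf (66, 2941))) (.node (.leaf (57, 1457)) (.leaf (45, 2103)))))) (.node (.node (.node (.node (.leaf (0, 0)) (.leaf (43, 887))) (.node (.leaf (0, 0)) (.leaf (65, 4025)))) (.node (.node (.leaf (67, 77)) (.leaf (65, 1850))) (.node (.leaf (43, 710)) (.leaf (77, 1668))))) (.node (.node (.node (.leaf (0, 0)) (.leaf (73, 2376))) (.node (.leaf (0, 0)) (.leaf (43, 2720)))) (.node (.node (.leaf (0, 0)) (.leaf (42, 2617))) (.node (.leaf (0, 0)) (.leaf (77, 2418))))))))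

def twoVia116 : Janko.Tree (ℕ × ℕ) :=
  (.node (.node (.node (.node (.node (.node (.leaf (0, 0)) (.leaf (67, 415))) (.node (.leaf (0, 0)) (.leaf (71, 2198)))) (.node (.node (.leaf (0, 0)) (.leaf (67, 2582))) (.node (.leaf (76, 1898)) (.leaf (0, 3613))))) (.node (.node (.node (.leaf (0, 0)) (.leaf (22, 2333))) (.node (.leaf (0, 0)) (.leaf (77, 3753)))) (.node (.node (.leaf (67, 2865)) (.leaf (0, 2845))) (.node (.leaf (0, 1821)) (.leaf (75, 3869)))))) (.node (.node (.node (.node (.leaf (0, 0)) (.leaf (51, 1529))) (.node (.leaf (0, 1181)) (.leaf (62, 859)))) (.node (.node (.leaf (67, 124)) (.leaf (66, 1635))) (.node (.leaf (0, 0)) (.leaf (73, 2184))))) (.node (.node (.node (.leaf (0, 0)) (.leaf (75, 2461))) (.node (.leaf (67, 1232)) (.leaf (0, 3871)))) (.node (.node (.leaf (0, 0)) (.leaf (76, 2973))) (.node (.leaf (0, 1949)) (.leaf (0, 3997))))))) (.node (.node (.node (.node (.node (.leaf (0, 0)) (.leaf (77, 2159))) (.node (.leaf (76, 3746)) (.leaf (0, 3165)))) (.node (.node (.leaf (0, 605)) (.leaf (76, 2653)))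 (.node (.leaf (0, 1629)) (.leaf (44, 3455))))) (.node (.node (.node (.leaf (21, 349)) (.leaf (0, 2397))) (.node (.leaf (0, 1373)) (.leaf (73, 1139)))) (.node (.node (.leaf (0, 861)) (.leaf (71, 2909))) (.node (.leaf (0, 0)) (.leaf (76, 3933)))))) (.node (.node (.node (.node (.leaf (0, 221)) (.leaf (71, 3528))) (.node (.leaf (31, 1245)) (.leaf (66, 973)))) (.node (.node (.leaf (0, 733)) (.leaf (0, 2781))) (.node (.leaf (73, 1757)) (.leaf (52, 3805))))) (.node (.node (.node (.leaf (0, 0)) (.leaf (77, 2525))) (.node (.leaf (0, 0)) (.leaf (0, 0)))) (.node (.node (.leaf (0, 0)) (.leaf (66, 992))) (.node (.leaf (21, 80)) (.leaf (67, 2514))))))))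

def twoVia117 : Janko.Tree (ℕ × ℕ) :=
  (.node (.node (.node (.node (.node (.node (.leaf (0, 0)) (.leaf (1, 2077))) (.node (.leaf (0, 0)) (.leaf (76, 2523)))) (.node (.node (.leaf (0, 0)) (.leaf (1, 3772))) (.node (.leaf (57, 1242)) (.leaf (62, 2137))))) (.node (.node (.node (.leaf (0, 0)) (.leaf (76, 3769))) (.node (.leaf (0, 0)) (.leaf (1, 3357)))) (.node (.node (.leaf (0, 0)) (.leaf (62, 1504))) (.node (.leaf (0, 0)) (.leaf (74, 3039)))))) (.node (.node (.node (.node (.leaf (0, 0)) (.leaf (1, 2205))) (.node (.leaf (76, 1657)) (.leaf (58, 674)))) (.node (.node (.leaf (0, 0)) (.leaf (1, 2717))) (.node (.leaf (1, 1693)) (.leaf (1, 3741))))) (.node (.node (.node (.leaf (1, 413)) (.leaf (76, 3578))) (.node (.leaf (76, 2578)) (.leaf (76, 3871)))) (.node (.node (.leaf (0, 0)) (.leaf (1, 2973))) (.node (.leaf (67, 3858)) (.leaf (73, 1177))))))) (.node (.node (.node (.node (.node (.leaf (0, 0)) (.leaf (1, 3330))) (.node (.leaf (1, 1117)) (.leaf (0, 0)))) (.node (.node (.leaf (0, 0)) (.leaf (40, 3756))) (.node (.leaf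 (55, 650)) (.leaf (66, 2429))))) (.node (.node (.node (.leaf (0, 0)) (.leaf (76, 3503))) (.node (.leaf (65, 681)) (.leaf (66, 2113)))) (.node (.node (.leaf (0, 0)) (.leaf (1, 2909))) (.node (.leaf (1, 1885)) (.leaf (1, 3933)))))) (.node (.node (.node (.node (.leaf (0, 0)) (.leaf (40, 110))) (.node (.leaf (44, 1246)) (.leaf (1, 3899)))) (.node (.node (.leaf (0, 0)) (.leaf (1, 3665))) (.node (.leaf (28, 2618)) (.leaf (76, 2439))))) (.node (.node (.node (.leaf (1, 477)) (.leaf (1, 2525))) (.node (.leaf (67, 1531)) (.leaf (1, 3549)))) (.node (.node (.leaf (1, 2213)) (.leaf (65, 473))) (.node (.leaf (1, 3471)) (.leaf (1, 4061))))))))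

def twoVia118 : Janko.Tree (ℕ × ℕ) :=
  (.node (.node (.node (.node (.node (.node (.leaf (2, 29)) (.leaf (2, 2077))) (.node (.leaf (0, 0)) (.leaf (2, 3938)))) (.node (.node (.leaf (0, 0)) (.leaf (2, 2589))) (.node (.leaf (0, 0)) (.leaf (71, 3781))))) (.node (.node (.node (.leaf (2, 285)) (.leaf (76, 4068))) (.node (.leaf (2, 1309)) (.leaf (65, 2981)))) (.node (.node (.leaf (2, 797)) (.leaf (67, 2036))) (.node (.leaf (77, 1991)) (.leaf (73, 2910)))))) (.node (.node (.node (.node (.leaf (0, 0)) (.leaf (0, 0))) (.node (.leaf (0, 0)) (.leaf (43, 1601)))) (.node (.node (.leaf (2, 669)) (.leaf (67, 2934))) (.node (.leaf (0, 0)) (.leaf (76, 3800))))) (.node (.node (.node (.leaf (0, 0)) (.leaf (73, 1330))) (.node (.leaf (2, 1437)) (.leaf (2, 3485)))) (.node (.node (.leaf (2, 925)) (.leaf (67, 2881))) (.node (.leaf (22, 799)) (.leaf (74, 3772))))))) (.node (.node (.node (.node (.node (.leaf (0, 0)) (.leaf (73, 3475))) (.node (.leaf (38, 2619)) (.leaf (19, 1668)))) (.node (.node (.leaf (6, 1534)) (.leaf (8, 1382))) (.node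 (.leaf (67, 7)) (.leaf (67, 3455))))) (.node (.node (.node (.leaf (0, 0)) (.leaf (73, 3516))) (.node (.leaf (4, 1480)) (.leaf (56, 2830)))) (.node (.node (.leaf (67, 2074)) (.leaf (76, 3227))) (.node (.leaf (77, 2416)) (.leaf (76, 1761)))))) (.node (.node (.node (.node (.leaf (0, 0)) (.leaf (0, 0))) (.node (.leaf (76, 3202)) (.leaf (23, 3340)))) (.node (.node (.leaf (65, 136)) (.leaf (33, 1435))) (.node (.leaf (2, 1757)) (.leaf (2, 3805))))) (.node (.node (.node (.leaf (0, 0)) (.leaf (66, 3814))) (.node (.leaf (2, 1501)) (.leaf (2, 3549)))) (.node (.node (.leaf (4, 989)) (.leaf (2, 3037))) (.node (.leaf (67, 1954)) (.leaf (58, 620))))))))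

def twoVia119 : Janko.Tree (ℕ × ℕ) :=
  (.node (.node (.node (.node (.node (.node (.leaf (0, 0)) (.leaf (40, 2079))) (.node (.leaf (0, 0)) (.leaf (8, 649)))) (.node (.node (.leaf (0, 0)) (.leaf (48, 3363))) (.node (.leaf (57, 536)) (.leaf (76, 3150))))) (.node (.node (.node (.leaf (0, 0)) (.leaf (55, 2337))) (.node (.leaf (0, 0)) (.leaf (73, 2981)))) (.node (.node (.leaf (0, 0)) (.leaf (0, 0))) (.node (.leaf (77, 837)) (.leaf (76, 3912)))))) (.node (.node (.node (.node (.leaf (26, 73)) (.leaf (0, 0))) (.node (.leaf (77, 1127)) (.leaf (71, 786)))) (.node (.node (.leaf (0, 0)) (.leaf (67, 3534))) (.node (.leaf (35, 1066)) (.leaf (73, 1041))))) (.node (.node (.node (.leaf (0, 0)) (.leaf (66, 1945))) (.node (.leaf (59, 59)) (.leaf (74, 3702)))) (.node (.node (.leaf (0, 0)) (.leaf (76, 2881))) (.node (.leaf (15, 473)) (.leaf (77, 2045))))))) (.node (.node (.node (.node (.node (.leaf (26, 39)) (.leaf (67, 2502))) (.node (.leaf (34, 2244)) (.leaf (69, 3265)))) (.node (.node (.leaf (0, 0)) (.leaf (0, 0))) (.node (.leaf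 (76, 275)) (.leaf (75, 3455))))) (.node (.node (.node (.leaf (0, 0)) (.leaf (58, 2027))) (.node (.leaf (4, 2024)) (.leaf (0, 0)))) (.node (.node (.leaf (0, 0)) (.leaf (40, 599))) (.node (.leaf (74, 646)) (.leaf (44, 731)))))) (.node (.node (.node (.node (.leaf (0, 0)) (.leaf (67, 281))) (.node (.leaf (43, 276)) (.leaf (8, 132)))) (.node (.node (.leaf (0, 0)) (.leaf (65, 192))) (.node (.leaf (76, 3946)) (.leaf (26, 1382))))) (.node (.node (.node (.leaf (0, 0)) (.leaf (0, 0))) (.node (.leaf (26, 595)) (.leaf (67, 1841)))) (.node (.node (.leaf (21, 2115)) (.leaf (67, 1688))) (.node (.leaf (67, 1207)) (.leaf (65, 1348))))))))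

def twoVia120 : Janko.Tree (ℕ × ℕ) :=
  (.node (.node (.node (.node (.node (.node (.leaf (0, 0)) (.leaf (76, 2286))) (.node (.leaf (0, 1054)) (.leaf (0, 3102)))) (.node (.node (.leaf (0, 0)) (.leaf (65, 1876))) (.node (.leaf (0, 1566)) (.leaf (73, 1261))))) (.node (.node (.node (.leaf (0, 0)) (.leaf (0, 0))) (.node (.leaf (0, 0)) (.leaf (67, 3805)))) (.node (.node (.leaf (67, 834)) (.leaf (66, 3661))) (.node (.leaf (22, 1822)) (.leaf (0, 3870)))))) (.node (.node (.node (.node (.leaf (0, 158)) (.leaf (69, 2954))) (.node (.leaf (76, 1182)) (.leaf (71, 3230)))) (.node (.node (.leaf (0, 0)) (.leaf (0, 2718))) (.node (.leaf (11, 3195)) (.leaf (0, 3931))))) (.node (.node (.node (.leaf (20, 414)) (.leaf (0, 3322))) (.node (.leaf (48, 1438)) (.leaf (67, 3214)))) (.node (.node (.leaf (73, 325)) (.leaf (76, 2974))) (.node (.leaf (67, 2617)) (.leaf (75, 3831))))))) (.node (.node (.node (.node (.node (.leaf (0, 94)) (.leaf (0, 2142))) (.node (.leaf (16, 741)) (.leaf (67, 3166)))) (.node (.node (.leaf (0, 0)) (.leaf (21,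 2654))) (.node (.leaf (0, 0)) (.leaf (0, 3678))))) (.node (.node (.node (.leaf (0, 350)) (.leaf (65, 380))) (.node (.leaf (0, 0)) (.leaf (0, 0)))) (.node (.node (.leaf (0, 0)) (.leaf (65, 2902))) (.node (.leaf (67, 1886)) (.leaf (75, 3994)))))) (.node (.node (.node (.node (.leaf (0, 0)) (.leaf (0, 0))) (.node (.leaf (0, 1246)) (.leaf (67, 3294)))) (.node (.node (.leaf (67, 734)) (.leaf (73, 1547))) (.node (.leaf (66, 1758)) (.leaf (71, 4068))))) (.node (.node (.node (.leaf (0, 0)) (.leaf (0, 2526))) (.node (.leaf (0, 0)) (.leaf (0, 3550)))) (.node (.node (.leaf (0, 0)) (.leaf (5, 3038))) (.node (.leaf (0, 2014)) (.leaf (0, 4062))))))))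

def twoVia121 : Janko.Tree (ℕ × ℕ) :=
  (.node (.node (.node (.node (.node (.node (.leaf (0, 0)) (.leaf (44, 2079))) (.node (.leaf (0, 0)) (.leaf (67, 1626)))) (.node (.node (.leaf (1, 542)) (.leaf (57, 151))) (.node (.leaf (54, 622)) (.leaf (1, 3614))))) (.node (.node (.node (.leaf (0, 0)) (.leaf (1, 2334))) (.node (.leaf (67, 1085)) (.leaf (73, 2749)))) (.node (.node (.leaf (1, 798)) (.leaf (1, 2846))) (.node (.leaf (1, 1822)) (.leaf (73, 2880)))))) (.node (.node (.node (.node (.leaf (0, 0)) (.leaf (76, 2954))) (.node (.leaf (65, 2238)) (.leaf (76, 2735)))) (.node (.node (.leaf (0, 0)) (.leaf (76, 3636))) (.node (.leaf (65, 1143)) (.leaf (76, 3931))))) (.node (.node (.node (.leaf (0, 0)) (.leaf (62, 3322))) (.node (.leaf (76, 2415)) (.leaf (1, 3486)))) (.node (.node (.leaf (66, 1773)) (.leaf (21, 922))) (.node (.leaf (0, 0)) (.leaf (65, 3071))))))) (.node (.node (.node (.node (.node (.leaf (0, 0)) (.leaf (65, 899))) (.node (.leaf (0, 0)) (.leaf (67, 3288)))) (.node (.node (.leaf (1, 606)) (.leaf (77, 1412)))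 (.node (.leaf (0, 0)) (.leaf (76, 2344))))) (.node (.node (.node (.leaf (65, 111)) (.leaf (1, 3000))) (.node (.leaf (1, 1374)) (.leaf (1, 3422)))) (.node (.node (.leaf (1, 862)) (.leaf (58, 2941))) (.node (.leaf (1, 1886)) (.leaf (75, 3361)))))) (.node (.node (.node (.node (.leaf (0, 0)) (.leaf (0, 0))) (.node (.leaf (9, 1744)) (.leaf (1, 3294)))) (.node (.node (.leaf (1, 734)) (.leaf (40, 3712))) (.node (.leaf (0, 0)) (.leaf (40, 4018))))) (.node (.node (.node (.leaf (0, 0)) (.leaf (76, 3615))) (.node (.leaf (48, 2037)) (.leaf (54, 2051)))) (.node (.node (.leaf (1, 1834)) (.leaf (67, 2786))) (.node (.leaf (0, 0)) (.leaf (76, 3725))))))))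

def twoVia122 : Janko.Tree (ℕ × ℕ) :=
  (.node (.node (.node (.node (.node (.node (.leaf (0, 0)) (.leaf (44, 1527))) (.node (.leaf (77, 3696)) (.leaf (46, 1392)))) (.node (.node (.leaf (76, 2594)) (.leaf (76, 4057))) (.node (.leaf (0, 0)) (.leaf (66, 2503))))) (.node (.node (.node (.leaf (0, 0)) (.leaf (76, 2716))) (.node (.leaf (0, 0)) (.leaf (62, 1082)))) (.node (.node (.leaf (67, 193)) (.leaf (76, 3468))) (.node (.leaf (0, 0)) (.leaf (62, 1433)))))) (.node (.node (.node (.node (.leaf (51, 530)) (.leaf (7, 976))) (.node (.leaf (2, 1182)) (.leaf (77, 951)))) (.node (.node (.leaf (0, 0)) (.leaf (67, 3580))) (.node (.leaf (2, 1694)) (.leaf (76, 3363))))) (.node (.node (.node (.leaf (0, 0)) (.leaf (2, 2462))) (.node (.leaf (2, 2709)) (.leaf (62, 997)))) (.node (.node (.leaf (0, 0)) (.leaf (0, 0))) (.node (.leaf (2, 1950)) (.leaf (4, 3998))))))) (.node (.node (.node (.node (.node (.leaf (0, 0)) (.leaf (2, 2142))) (.node (.leaf (2, 1118)) (.leaf (2, 3166)))) (.node (.node (.leaf (0, 0)) (.leaf (67, 628))) (.node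 (.leaf (0, 0)) (.leaf (31, 346))))) (.node (.node (.node (.leaf (0, 0)) (.leaf (2, 2398))) (.node (.leaf (56, 101)) (.leaf (0, 0)))) (.node (.node (.leaf (0, 0)) (.leaf (74, 1603))) (.node (.leaf (67, 655)) (.leaf (2, 3934)))))) (.node (.node (.node (.node (.leaf (2, 222)) (.leaf (2, 2270))) (.node (.leaf (60, 3)) (.leaf (74, 1558)))) (.node (.node (.leaf (0, 0)) (.leaf (44, 4018))) (.node (.leaf (57, 2941)) (.leaf (44, 3712))))) (.node (.node (.node (.leaf (0, 0)) (.leaf (62, 71))) (.node (.leaf (0, 0)) (.leaf (71, 1306)))) (.node (.node (.leaf (0, 0)) (.leaf (66, 2185))) (.node (.leaf (0, 0)) (.leaf (8, 3371))))))))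

def twoVia123 : Janko.Tree (ℕ × ℕ) :=
  (.node (.node (.node (.node (.node (.node (.leaf (0, 0)) (.leaf (0, 0))) (.node (.leaf (68, 2202)) (.leaf (0, 0)))) (.node (.node (.leaf (0, 0)) (.leaf (4, 3245))) (.node (.leaf (65, 3706)) (.leaf (69, 766))))) (.node (.node (.node (.leaf (0, 0)) (.leaf (0, 0))) (.node (.leaf (54, 1977)) (.leaf (25, 1117)))) (.node (.node (.leaf (67, 1451)) (.leaf (66, 1184))) (.node (.leaf (65, 596)) (.leaf (42, 2991)))))) (.node (.node (.node (.node (.leaf (0, 0)) (.leaf (65, 1529))) (.node (.leaf (0, 0)) (.leaf (67, 3494)))) (.node (.node (.leaf (0, 0)) (.leaf (74, 1569))) (.node (.leaf (0, 0)) (.leaf (4, 2704))))) (.node (.node (.node (.leaf (26, 79)) (.leaf (77, 2575))) (.node (.leaf (65, 795)) (.leaf (57, 87)))) (.node (.node (.leaf (49, 1190)) (.leaf (67, 1200))) (.node (.leaf (67, 3178)) (.leaf (74, 141))))))) (.node (.node (.node (.node (.node (.leaf (0, 0)) (.leaf (0, 0))) (.node (.leaf (73, 537)) (.leaf (77, 2162)))) (.node (.node (.leaf (0, 0)) (.leaf (71, 256))) (.node (.leaf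 (0, 0)) (.leaf (76, 1149))))) (.node (.node (.node (.leaf (0, 0)) (.leaf (0, 0))) (.node (.leaf (43, 54)) (.leaf (61, 3980)))) (.node (.node (.leaf (67, 154)) (.leaf (0, 0))) (.node (.leaf (75, 2063)) (.leaf (75, 3729)))))) (.node (.node (.node (.node (.leaf (0, 0)) (.leaf (73, 2780))) (.node (.leaf (77, 2795)) (.leaf (76, 887)))) (.node (.node (.leaf (67, 2853)) (.leaf (73, 1954))) (.node (.leaf (77, 3839)) (.leaf (25, 1281))))) (.node (.node (.node (.leaf (0, 0)) (.leaf (0, 0))) (.node (.leaf (24, 201)) (.leaf (41, 301)))) (.node (.node (.leaf (0, 0)) (.leaf (67, 992))) (.node (.leaf (77, 3319)) (.leaf (77, 2370))))))))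

def twoVia124 : Janko.Tree (ℕ × ℕ) :=
  (.node (.node (.node (.node (.node (.node (.leaf (0, 31)) (.leaf (0, 2079))) (.node (.leaf (76, 2975)) (.leaf (73, 1096)))) (.node (.node (.leaf (73, 510)) (.leaf (0, 2591))) (.node (.leaf (0, 1567)) (.leaf (5, 3615))))) (.node (.node (.node (.leaf (0, 287)) (.leaf (0, 3562))) (.node (.leaf (73, 3254)) (.leaf (51, 3359)))) (.node (.node (.leaf (0, 0)) (.leaf (47, 1474))) (.node (.leaf (77, 1823)) (.leaf (22, 3871)))))) (.node (.node (.node (.node (.leaf (0, 0)) (.leaf (67, 2207))) (.node (.leaf (22, 1183)) (.leaf (0, 3231)))) (.node (.node (.leaf (0, 671)) (.leaf (76, 2719))) (.node (.leaf (0, 0)) (.leaf (76, 3743))))) (.node (.node (.node (.leaf (62, 415)) (.leaf (65, 2463))) (.node (.leaf (0, 0)) (.leaf (67, 3704)))) (.node (.node (.leaf (0, 927)) (.leaf (0, 2975))) (.node (.leaf (19, 1951)) (.leaf (73, 2562))))))) (.node (.node (.node (.node (.node (.leaf (0, 0)) (.leaf (38, 2143))) (.node (.leaf (0, 0)) (.leaf (65, 1233)))) (.node (.node (.leaf (0, 0)) (.leaf (67,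 503))) (.node (.leaf (0, 1631)) (.leaf (21, 3679))))) (.node (.node (.node (.leaf (0, 0)) (.leaf (73, 1406))) (.node (.leaf (46, 1077)) (.leaf (46, 3423)))) (.node (.node (.leaf (67, 863)) (.leaf (74, 2238))) (.node (.leaf (21, 147)) (.leaf (0, 3935)))))) (.node (.node (.node (.node (.leaf (0, 0)) (.leaf (73, 774))) (.node (.leaf (67, 1445)) (.leaf (75, 3015)))) (.node (.node (.leaf (0, 0)) (.leaf (0, 2783))) (.node (.leaf (62, 2465)) (.leaf (0, 3807))))) (.node (.node (.node (.leaf (0, 479)) (.leaf (62, 2527))) (.node (.leaf (0, 1503)) (.leaf (28, 311)))) (.node (.node (.leaf (0, 991)) (.leaf (74, 329))) (.node (.leaf (73, 2524)) (.leaf (22, 534))))))))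

def twoVia125 : Janko.Tree (ℕ × ℕ) :=
  (.node (.node (.node (.node (.node (.node (.leaf (0, 0)) (.leaf (76, 3779))) (.node (.leaf (1, 1055)) (.leaf (64, 3925)))) (.node (.node (.leaf (0, 0)) (.leaf (62, 1221))) (.node (.leaf (0, 0)) (.leaf (73, 3834))))) (.node (.node (.node (.leaf (0, 0)) (.leaf (75, 3562))) (.node (.leaf (1, 1311)) (.leaf (1, 3359)))) (.node (.node (.leaf (58, 2723)) (.leaf (62, 38))) (.node (.leaf (0, 0)) (.leaf (1, 3871)))))) (.node (.node (.node (.node (.leaf (12, 4)) (.leaf (65, 866))) (.node (.leaf (0, 0)) (.leaf (54, 4021)))) (.node (.node (.leaf (0, 0)) (.leaf (1, 2806))) (.node (.leaf (1, 1695)) (.leaf (76, 4008))))) (.node (.node (.node (.leaf (0, 0)) (.leaf (76, 2845))) (.node (.leaf (66, 1649)) (.leaf (76, 2611)))) (.node (.node (.leaf (0, 0)) (.leaf (76, 1960))) (.node (.leaf (60, 2723)) (.leaf (77, 3734))))))) (.node (.node (.node (.node (.node (.leaf (1, 231)) (.leaf (1, 2143))) (.node (.leaf (1, 1119)) (.leaf (1, 3167)))) (.node (.node (.leaf (0, 0)) (.leaf (1, 2655))) (.node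 (.leaf (41, 651)) (.leaf (77, 2434))))) (.node (.node (.node (.leaf (1, 850)) (.leaf (48, 2337))) (.node (.leaf (58, 668)) (.leaf (0, 0)))) (.node (.node (.leaf (0, 0)) (.leaf (1, 2911))) (.node (.leaf (76, 3221)) (.leaf (76, 3405)))))) (.node (.node (.node (.node (.leaf (0, 0)) (.leaf (66, 761))) (.node (.leaf (54, 474)) (.leaf (76, 4012)))) (.node (.node (.leaf (10, 1809)) (.leaf (76, 3657))) (.node (.leaf (1, 1759)) (.leaf (1, 3807))))) (.node (.node (.node (.leaf (62, 119)) (.leaf (73, 3717))) (.node (.leaf (0, 0)) (.leaf (1, 3974)))) (.node (.node (.leaf (65, 202)) (.leaf (46, 617))) (.node (.leaf (67, 2442)) (.leaf (76, 4093))))))))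

def twoVia126 : Janko.Tree (ℕ × ℕ) :=
  (.node (.node (.node (.node (.node (.node (.leaf (0, 0)) (.leaf (0, 0))) (.node (.leaf (71, 1237)) (.leaf (2, 3103)))) (.node (.node (.leaf (73, 1241)) (.leaf (65, 1896))) (.node (.leaf (6, 957)) (.leaf (66, 2679))))) (.node (.node (.node (.leaf (21, 89)) (.leaf (54, 415))) (.node (.leaf (0, 0)) (.leaf (65, 743)))) (.node (.node (.leaf (0, 0)) (.leaf (2, 2847))) (.node (.leaf (2, 1823)) (.leaf (77, 2505)))))) (.node (.node (.node (.node (.leaf (2, 159)) (.leaf (2, 2207))) (.node (.leaf (66, 1967)) (.leaf (67, 1956)))) (.node (.node (.leaf (6, 1590)) (.leaf (2, 2719))) (.node (.leaf (52, 443)) (.leaf (67, 511))))) (.node (.node (.node (.leaf (67, 868)) (.leaf (2, 2463))) (.node (.leaf (56, 3280)) (.leaf (2, 3487)))) (.node (.node (.leaf (7, 1887)) (.leaf (77, 3759))) (.node (.leaf (76, 1641)) (.leaf (2, 3999))))))) (.node (.node (.node (.node (.node (.leaf (2, 95)) (.leaf (67, 3057))) (.node (.leaf (47, 2079)) (.leaf (60, 1947)))) (.node (.node (.leaf (2, 607)) (.leaf (66,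 630))) (.node (.leaf (7, 651)) (.leaf (2, 3679))))) (.node (.node (.node (.leaf (2, 351)) (.leaf (73, 3635))) (.node (.leaf (2, 1375)) (.leaf (73, 3958)))) (.node (.node (.leaf (2, 863)) (.leaf (5, 3005))) (.node (.leaf (77, 2201)) (.leaf (73, 3716)))))) (.node (.node (.node (.node (.leaf (0, 0)) (.leaf (0, 0))) (.node (.leaf (2, 1247)) (.leaf (2, 3295)))) (.node (.node (.leaf (0, 0)) (.leaf (21, 1802))) (.node (.leaf (65, 246)) (.leaf (67, 3891))))) (.node (.node (.node (.leaf (0, 0)) (.leaf (69, 2683))) (.node (.leaf (32, 63)) (.leaf (73, 4080)))) (.node (.node (.leaf (8, 394)) (.leaf (76, 3149))) (.node (.leaf (2, 2015)) (.leaf (2, 4063))))))))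

def twoVia127 : Janko.Tree (ℕ × ℕ) :=
  (.node (.node (.node (.node (.node (.node (.leaf (0, 0)) (.leaf (75, 2329))) (.node (.leaf (65, 574)) (.leaf (74, 3725)))) (.node (.node (.leaf (0, 0)) (.leaf (19, 3792))) (.node (.leaf (0, 0)) (.leaf (67, 2849))))) (.node (.node (.node (.leaf (0, 0)) (.leaf (67, 1002))) (.node (.leaf (74, 3204)) (.leaf (73, 743)))) (.node (.node (.leaf (0, 0)) (.leaf (76, 3275))) (.node (.leaf (0, 0)) (.leaf (61, 449)))))) (.node (.node (.node (.node (.leaf (59, 4)) (.leaf (67, 935))) (.node (.leaf (67, 916)) (.leaf (21, 2686)))) (.node (.node (.leaf (57, 706)) (.leaf (59, 208))) (.node (.leaf (77, 1001)) (.leaf (16, 3740))))) (.node (.node (.node (.leaf (43, 1086)) (.leaf (67, 1137))) (.node (.leaf (4, 2622)) (.leaf (69, 3409)))) (.node (.node (.leaf (0, 0)) (.leaf (66, 607))) (.node (.leaf (67, 60)) (.leaf (77, 3895))))))) (.node (.node (.node (.node (.node (.leaf (0, 0)) (.leaf (76, 2142))) (.node (.leaf (76, 1087)) (.leaf (69, 846)))) (.node (.node (.leaf (0, 0)) (.leaf (69, 2956)))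 (.node (.leaf (0, 0)) (.leaf (14, 3047))))) (.node (.node (.node (.leaf (0, 0)) (.leaf (25, 1002))) (.node (.leaf (67, 559)) (.leaf (67, 3064)))) (.node (.node (.leaf (0, 0)) (.leaf (76, 1231))) (.node (.leaf (67, 2433)) (.leaf (68, 4095)))))) (.node (.node (.node (.node (.leaf (0, 0)) (.leaf (67, 266))) (.node (.leaf (59, 857)) (.leaf (22, 724)))) (.node (.node (.leaf (0, 0)) (.leaf (65, 1291))) (.node (.leaf (0, 0)) (.leaf (41, 2006))))) (.node (.node (.node (.leaf (0, 0)) (.leaf (67, 438))) (.node (.leaf (0, 0)) (.leaf (74, 3989)))) (.node (.node (.leaf (0, 0)) (.leaf (67, 901))) (.node (.leaf (69, 1722)) (.leaf (73, 3627))))))))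

def twoVia128 : Janko.Tree (ℕ × ℕ) :=
  (.node (.node (.node (.node (.node (.node (.leaf (0, 0)) (.leaf (0, 0))) (.node (.leaf (22, 3429)) (.leaf (69, 3104)))) (.node (.node (.leaf (0, 544)) (.leaf (76, 2592))) (.node (.leaf (0, 0)) (.leaf (75, 3424))))) (.node (.node (.node (.leaf (0, 0)) (.leaf (73, 159))) (.node (.leaf (0, 0)) (.leaf (41, 814)))) (.node (.node (.leaf (0, 800)) (.leaf (65, 2848))) (.node (.leaf (0, 0)) (.leaf (31, 1549)))))) (.node (.node (.node (.node (.leaf (0, 0)) (.leaf (77, 2285))) (.node (.leaf (0, 1583)) (.leaf (73, 3221)))) (.node (.node (.leaf (76, 3548)) (.leaf (65, 230))) (.node (.leaf (73, 1696)) (.leaf (69, 1652))))) (.node (.node (.node (.leaf (67, 202)) (.leaf (54, 2464))) (.node (.leaf (0, 1440)) (.leaf (71, 291)))) (.node (.node (.leaf (47, 928)) (.leaf (67, 2888))) (.node (.leaf (73, 1952)) (.leaf (0, 4000))))))) (.node (.node (.node (.node (.node (.leaf (0, 0)) (.leaf (62, 2144))) (.node (.leaf (0, 0)) (.leaf (71, 1874)))) (.node (.node (.leaf (0, 0)) (.leaf (67, 509)))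 (.node (.leaf (0, 0)) (.leaf (34, 3366))))) (.node (.node (.node (.leaf (0, 0)) (.leaf (76, 2400))) (.node (.leaf (73, 1703)) (.leaf (69, 2430)))) (.node (.node (.leaf (57, 864)) (.leaf (54, 2912))) (.node (.leaf (0, 1888)) (.leaf (76, 3936)))))) (.node (.node (.node (.node (.leaf (0, 224)) (.leaf (0, 2272))) (.node (.leaf (0, 1248)) (.leaf (0, 3296)))) (.node (.node (.leaf (0, 0)) (.leaf (19, 2784))) (.node (.leaf (0, 1760)) (.leaf (67, 3769))))) (.node (.node (.node (.leaf (0, 480)) (.leaf (19, 1954))) (.node (.leaf (0, 0)) (.leaf (0, 3552)))) (.node (.node (.leaf (0, 0)) (.leaf (0, 3040))) (.node (.leaf (65, 3882)) (.leaf (69, 3367))))))))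

def twoVia129 : Janko.Tree (ℕ × ℕ) :=
  (.node (.node (.node (.node (.node (.node (.leaf (1, 32)) (.leaf (1, 2080))) (.node (.leaf (73, 1766)) (.leaf (76, 2683)))) (.node (.node (.leaf (75, 3245)) (.leaf (1, 2592))) (.node (.leaf (77, 3662)) (.leaf (75, 2260))))) (.node (.node (.node (.leaf (1, 288)) (.leaf (1, 3181))) (.node (.leaf (0, 0)) (.leaf (43, 2544)))) (.node (.node (.leaf (9, 280)) (.leaf (65, 2279))) (.node (.leaf (0, 0)) (.leaf (1, 3872)))))) (.node (.node (.node (.node (.leaf (0, 0)) (.leaf (65, 2615))) (.node (.leaf (1, 1184)) (.leaf (0, 0)))) (.node (.node (.leaf (1, 672)) (.leaf (1, 2720))) (.node (.leaf (1, 3068)) (.leaf (76, 4009))))) (.node (.node (.node (.leaf (1, 416)) (.leaf (1, 2464))) (.node (.leaf (48, 568)) (.leaf (76, 2737)))) (.node (.node (.leaf (1, 928)) (.leaf (0, 0))) (.node (.leaf (43, 1729)) (.leaf (1, 4000))))))) (.node (.node (.node (.node (.node (.leaf (0, 0)) (.leaf (1, 2980))) (.node (.leaf (0, 0)) (.leaf (0, 0)))) (.node (.node (.leaf (0, 0)) (.leaf (1, 2656))) (.node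 (.leaf (1, 1632)) (.leaf (1, 3680))))) (.node (.node (.node (.leaf (0, 0)) (.leaf (1, 2400))) (.node (.leaf (0, 0)) (.leaf (1, 3424)))) (.node (.node (.leaf (0, 0)) (.leaf (1, 2912))) (.node (.leaf (0, 0)) (.leaf (31, 1182)))))) (.node (.node (.node (.node (.leaf (0, 0)) (.leaf (42, 3681))) (.node (.leaf (0, 0)) (.leaf (77, 1786)))) (.node (.node (.leaf (1, 736)) (.leaf (64, 3182))) (.node (.leaf (0, 0)) (.leaf (1, 3969))))) (.node (.node (.node (.leaf (0, 0)) (.leaf (65, 902))) (.node (.leaf (60, 38)) (.leaf (35, 2056)))) (.node (.node (.leaf (0, 0)) (.leaf (57, 1591))) (.node (.leaf (1, 2016)) (.leaf (76, 3808))))))))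

def twoVia130 : Janko.Tree (ℕ × ℕ) :=
  (.node (.node (.node (.node (.node (.node (.leaf (0, 0)) (.leaf (2, 2080))) (.node (.leaf (2, 1056)) (.leaf (55, 1308)))) (.node (.node (.leaf (0, 0)) (.leaf (0, 0))) (.node (.leaf (0, 0)) (.leaf (71, 3135))))) (.node (.node (.node (.leaf (0, 0)) (.leaf (22, 3129))) (.node (.leaf (2, 1312)) (.leaf (15, 1008)))) (.node (.node (.leaf (8, 280)) (.leaf (66, 2277))) (.node (.leaf (17, 2918)) (.leaf (77, 2557)))))) (.node (.node (.node (.node (.leaf (0, 0)) (.leaf (76, 2244))) (.node (.leaf (8, 1583)) (.leaf (0, 0)))) (.node (.node (.leaf (67, 1749)) (.leaf (2, 3753))) (.node (.leaf (67, 3681)) (.leaf (67, 504))))) (.node (.node (.node (.leaf (67, 609)) (.leaf (73, 3165))) (.node (.leaf (18, 2543)) (.leaf (2, 3488)))) (.node (.node (.leaf (0, 0)) (.leaf (2, 2976))) (.node (.leaf (70, 1832)) (.leaf (18, 3125))))))) (.node (.node (.node (.node (.node (.leaf (0, 0)) (.leaf (4, 2144))) (.node (.leaf (0, 0)) (.leaf (58, 338)))) (.node (.node (.leaf (8, 409)) (.leaf (67, 1304))) (.node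 (.leaf (76, 2437)) (.leaf (19, 2430))))) (.node (.node (.node (.leaf (35, 1842)) (.leaf (35, 3582))) (.node (.leaf (0, 0)) (.leaf (60, 1252)))) (.node (.node (.leaf (0, 0)) (.leaf (0, 0))) (.node (.leaf (76, 1860)) (.leaf (2, 3936)))))) (.node (.node (.node (.node (.leaf (0, 0)) (.leaf (0, 0))) (.node (.leaf (8, 476)) (.leaf (74, 1123)))) (.node (.node (.leaf (0, 0)) (.leaf (44, 1486))) (.node (.leaf (2, 1760)) (.leaf (2, 3808))))) (.node (.node (.node (.leaf (0, 0)) (.leaf (67, 3173))) (.node (.leaf (2, 1504)) (.leaf (65, 3583)))) (.node (.node (.leaf (2, 992)) (.leaf (8, 1591))) (.node (.leaf (71, 1690)) (.leaf (76, 4075))))))))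

def twoVia131 : Janko.Tree (ℕ × ℕ) :=
  (.node (.node (.node (.node (.node (.node (.leaf (0, 0)) (.leaf (0, 0))) (.node (.leaf (77, 1442)) (.leaf (67, 2826)))) (.node (.node (.leaf (0, 0)) (.leaf (65, 878))) (.node (.leaf (55, 379)) (.leaf (4, 2412))))) (.node (.node (.node (.leaf (0, 0)) (.leaf (24, 370))) (.node (.leaf (66, 3292)) (.leaf (46, 679)))) (.node (.node (.leaf (0, 0)) (.leaf (60, 1783))) (.node (.leaf (0, 0)) (.leaf (76, 2339)))))) (.node (.node (.node (.node (.leaf (0, 0)) (.leaf (0, 0))) (.node (.leaf (0, 0)) (.leaf (59, 357)))) (.node (.node (.leaf (0, 0)) (.leaf (66, 1468))) (.node (.leaf (0, 0)) (.leaf (4, 1057))))) (.node (.node (.node (.leaf (0, 0)) (.leaf (69, 1759))) (.node (.leaf (73, 1395)) (.leaf (71, 2669)))) (.node (.node (.leaf (0, 0)) (.leaf (67, 2166))) (.node (.leaf (50, 1685)) (.leaf (21, 971))))))) (.node (.node (.node (.node (.node (.leaf (0, 0)) (.leaf (21, 3297))) (.node (.leaf (44, 412)) (.leaf (24, 1590)))) (.node (.node (.leaf (26, 209)) (.leaf (76, 1666))) (.node (.leaf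 (66, 2248)) (.leaf (66, 1089))))) (.node (.node (.node (.leaf (64, 300)) (.leaf (76, 2164))) (.node (.leaf (67, 1087)) (.leaf (65, 353)))) (.node (.node (.leaf (0, 0)) (.leaf (73, 3085))) (.node (.leaf (73, 3290)) (.leaf (74, 2751)))))) (.node (.node (.node (.node (.leaf (0, 0)) (.leaf (77, 2535))) (.node (.leaf (0, 0)) (.leaf (73, 2187)))) (.node (.node (.leaf (0, 0)) (.leaf (7, 2375))) (.node (.leaf (0, 0)) (.leaf (59, 2006))))) (.node (.node (.node (.leaf (75, 2585)) (.leaf (66, 227))) (.node (.leaf (59, 63)) (.leaf (20, 2445)))) (.node (.node (.leaf (4, 113)) (.leaf (67, 265))) (.node (.leaf (74, 2608)) (.leaf (57, 2753))))))))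

def twoVia132 : Janko.Tree (ℕ × ℕ) :=
  (.node (.node (.node (.node (.node (.node (.leaf (0, 0)) (.leaf (0, 2081))) (.node (.leaf (0, 0)) (.leaf (0, 0)))) (.node (.node (.leaf (0, 0)) (.leaf (0, 0))) (.node (.leaf (48, 156)) (.leaf (60, 3617))))) (.node (.node (.node (.leaf (8, 289)) (.leaf (0, 2337))) (.node (.leaf (77, 3795)) (.leaf (74, 3361)))) (.node (.node (.leaf (54, 1090)) (.leaf (58, 2849))) (.node (.leaf (0, 0)) (.leaf (0, 3873)))))) (.node (.node (.node (.node (.leaf (0, 161)) (.leaf (0, 2209))) (.node (.leaf (73, 3289)) (.leaf (64, 3233)))) (.node (.node (.leaf (0, 0)) (.leaf (71, 1119))) (.node (.leaf (0, 1697)) (.leaf (73, 3745))))) (.node (.node (.node (.leaf (0, 0)) (.leaf (7, 2465))) (.node (.leaf (16, 1441)) (.leaf (0, 3489)))) (.node (.node (.leaf (0, 1887)) (.leaf (73, 2977))) (.node (.leaf (16, 1953)) (.leaf (71, 1280))))))) (.node (.node (.node (.node (.node (.leaf (0, 97)) (.leaf (9, 1501))) (.node (.leaf (0, 1121)) (.leaf (67, 3259)))) (.node (.node (.leaf (0, 609)) (.leaf (64, 3936)))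 (.node (.leaf (0, 0)) (.leaf (0, 3681))))) (.node (.node (.node (.leaf (0, 353)) (.leaf (0, 2401))) (.node (.leaf (73, 1377)) (.leaf (0, 3425)))) (.node (.node (.leaf (0, 0)) (.leaf (73, 2913))) (.node (.leaf (77, 1889)) (.leaf (71, 2936)))))) (.node (.node (.node (.node (.leaf (0, 0)) (.leaf (73, 2273))) (.node (.leaf (76, 3288)) (.leaf (0, 3297)))) (.node (.node (.leaf (67, 737)) (.leaf (0, 2785))) (.node (.leaf (0, 1761)) (.leaf (71, 1513))))) (.node (.node (.node (.leaf (0, 0)) (.leaf (0, 2529))) (.node (.leaf (0, 0)) (.leaf (77, 3553)))) (.node (.node (.leaf (0, 993)) (.leaf (77, 3167))) (.node (.leaf (76, 2017)) (.leaf (0, 4065))))))))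

def twoVia133 : Janko.Tree (ℕ × ℕ) :=
  (.node (.node (.node (.node (.node (.node (.leaf (0, 0)) (.leaf (0, 0))) (.node (.leaf (69, 2460)) (.leaf (1, 3105)))) (.node (.node (.leaf (76, 969)) (.leaf (0, 0))) (.node (.leaf (1, 1569)) (.leaf (1, 3617))))) (.node (.node (.node (.leaf (0, 0)) (.leaf (64, 2997))) (.node (.leaf (77, 519)) (.leaf (46, 3483)))) (.node (.node (.leaf (1, 801)) (.leaf (0, 0))) (.node (.leaf (1, 1825)) (.leaf (76, 3312)))))) (.node (.node (.node (.node (.leaf (0, 0)) (.leaf (0, 0))) (.node (.leaf (0, 0)) (.leaf (1, 3233)))) (.node (.node (.leaf (0, 0)) (.leaf (76, 3439))) (.node (.leaf (21, 434)) (.leaf (64, 4016))))) (.node (.node (.node (.leaf (0, 0)) (.leaf (76, 3601))) (.node (.leaf (76, 1744)) (.leaf (73, 541)))) (.node (.node (.leaf (76, 2147)) (.leaf (76, 1525))) (.node (.leaf (64, 3548)) (.leaf (65, 1086))))))) (.node (.node (.node (.node (.node (.leaf (1, 211)) (.leaf (1, 2145))) (.node (.leaf (0, 0)) (.leaf (43, 3599)))) (.node (.node (.leaf (54, 208)) (.leaf (66, 1279))) (.node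 (.leaf (0, 0)) (.leaf (76, 2127))))) (.node (.node (.node (.leaf (0, 0)) (.leaf (66, 718))) (.node (.leaf (64, 2350)) (.leaf (76, 4059)))) (.node (.node (.leaf (1, 865)) (.leaf (64, 3893))) (.node (.leaf (56, 147)) (.leaf (1, 3937)))))) (.node (.node (.node (.node (.leaf (1, 225)) (.leaf (1, 2273))) (.node (.leaf (76, 2129)) (.leaf (1, 3297)))) (.node (.node (.leaf (0, 0)) (.leaf (1, 3619))) (.node (.leaf (0, 0)) (.leaf (1, 3809))))) (.node (.node (.node (.leaf (1, 481)) (.leaf (0, 0))) (.node (.leaf (1, 1505)) (.leaf (1, 3553)))) (.node (.node (.leaf (0, 0)) (.leaf (1, 3041))) (.node (.leaf (0, 0)) (.leaf (60, 459))))))))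

def twoVia134 : Janko.Tree (ℕ × ℕ) :=
  (.node (.node (.node (.node (.node (.node (.leaf (0, 0)) (.leaf (2, 2081))) (.node (.leaf (0, 0)) (.leaf (67, 2746)))) (.node (.node (.leaf (2, 545)) (.leaf (2, 2593))) (.node (.leaf (56, 60)) (.leaf (76, 3354))))) (.node (.node (.node (.leaf (2, 289)) (.leaf (69, 2052))) (.node (.leaf (77, 3769)) (.leaf (36, 4026)))) (.node (.node (.leaf (0, 0)) (.leaf (2, 2849))) (.node (.leaf (73, 1409)) (.leaf (71, 3870)))))) (.node (.node (.node (.node (.leaf (59, 0)) (.leaf (62, 1527))) (.node (.leaf (63, 1111)) (.leaf (65, 697)))) (.node (.node (.leaf (2, 1588)) (.leaf (73, 3653))) (.node (.leaf (17, 681)) (.leaf (61, 1098))))) (.node (.node (.node (.leaf (0, 0)) (.leaf (0, 0))) (.node (.leaf (2, 1441)) (.leaf (0, 0)))) (.node (.node (.leaf (2, 929)) (.leaf (2, 2977))) (.node (.leaf (2, 1953)) (.leaf (66, 2618))))))) (.node (.node (.node (.node (.node (.leaf (51, 234)) (.leaf (34, 595))) (.node (.leaf (0, 0)) (.leaf (66, 3894)))) (.node (.node (.leaf (76, 751)) (.leaf (71, 1870)))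 (.node (.leaf (2, 1633)) (.leaf (77, 3239))))) (.node (.node (.node (.leaf (2, 854)) (.leaf (76, 1816))) (.node (.leaf (2, 1377)) (.leaf (76, 3347)))) (.node (.node (.leaf (67, 1558)) (.leaf (2, 2913))) (.node (.leaf (2, 1889)) (.leaf (73, 3278)))))) (.node (.node (.node (.node (.leaf (0, 0)) (.leaf (76, 2336))) (.node (.leaf (2, 1993)) (.leaf (76, 3259)))) (.node (.node (.leaf (59, 656)) (.leaf (2, 3735))) (.node (.leaf (11, 1098)) (.leaf (67, 3779))))) (.node (.node (.node (.leaf (0, 0)) (.leaf (67, 3672))) (.node (.leaf (76, 1847)) (.leaf (76, 3278)))) (.node (.node (.leaf (2, 2286)) (.leaf (55, 1089))) (.node (.leaf (71, 2494)) (.leaf (55, 2330))))))))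

def twoVia135 : Janko.Tree (ℕ × ℕ) :=
  (.node (.node (.node (.node (.node (.node (.leaf (0, 0)) (.leaf (67, 1086))) (.node (.leaf (0, 0)) (.leaf (43, 1629)))) (.node (.node (.leaf (0, 0)) (.leaf (22, 1316))) (.node (.leaf (67, 35)) (.leaf (58, 1771))))) (.node (.node (.node (.leaf (0, 0)) (.leaf (73, 2576))) (.node (.leaf (77, 3660)) (.leaf (65, 2791)))) (.node (.node (.leaf (0, 0)) (.leaf (0, 0))) (.node (.leaf (0, 0)) (.leaf (74, 1590)))))) (.node (.node (.node (.node (.leaf (0, 0)) (.leaf (0, 0))) (.node (.leaf (0, 0)) (.leaf (50, 3685)))) (.node (.node (.leaf (26, 217)) (.leaf (4, 3180))) (.node (.leaf (22, 3991)) (.leaf (74, 2964))))) (.node (.node (.node (.leaf (0, 0)) (.leaf (18, 1515))) (.node (.leaf (67, 2372)) (.leaf (76, 3729)))) (.node (.node (.leaf (77, 3409)) (.leaf (67, 2815))) (.node (.leaf (0, 0)) (.leaf (40, 537))))))) (.node (.node (.node (.node (.node (.leaf (0, 0)) (.leaf (0, 0))) (.node (.leaf (0, 0)) (.leaf (65, 3554)))) (.node (.node (.leaf (0, 0)) (.leaf (58, 3024))) (.node (.leaf (0,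 0)) (.leaf (22, 520))))) (.node (.node (.node (.leaf (0, 0)) (.leaf (0, 0))) (.node (.leaf (77, 1429)) (.leaf (73, 3685)))) (.node (.node (.leaf (0, 0)) (.leaf (0, 0))) (.node (.leaf (62, 147)) (.leaf (76, 3964)))))) (.node (.node (.node (.node (.leaf (0, 0)) (.leaf (50, 1962))) (.node (.leaf (4, 157)) (.leaf (67, 894)))) (.node (.node (.leaf (24, 250)) (.leaf (77, 3884))) (.node (.leaf (0, 0)) (.leaf (67, 2702))))) (.node (.node (.node (.leaf (0, 0)) (.leaf (20, 3269))) (.node (.leaf (0, 0)) (.leaf (67, 103)))) (.node (.node (.leaf (21, 1634)) (.leaf (66, 400))) (.node (.leaf (69, 1004)) (.leaf (41, 755))))))))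

def twoVia136 : Janko.Tree (ℕ × ℕ) :=
  (.node (.node (.node (.node (.node (.node (.leaf (0, 34)) (.leaf (77, 2734))) (.node (.leaf (76, 1058)) (.leaf (71, 3106)))) (.node (.node (.leaf (0, 0)) (.leaf (46, 463))) (.node (.leaf (43, 1704)) (.leaf (0, 3618))))) (.node (.node (.node (.leaf (0, 0)) (.leaf (66, 2338))) (.node (.leaf (0, 1314)) (.leaf (0, 3362)))) (.node (.node (.leaf (0, 0)) (.leaf (77, 2850))) (.node (.leaf (71, 87)) (.leaf (71, 2901)))))) (.node (.node (.node (.node (.leaf (0, 0)) (.leaf (71, 1162))) (.node (.leaf (0, 1186)) (.leaf (67, 3271)))) (.node (.node (.leaf (0, 674)) (.leaf (0, 2722))) (.node (.leaf (11, 680)) (.leaf (77, 3746))))) (.node (.node (.node (.leaf (0, 418)) (.leaf (76, 2466))) (.node (.leaf (0, 0)) (.leaf (41, 3490)))) (.node (.node (.leaf (51, 930)) (.leaf (8, 664))) (.node (.leaf (0, 0)) (.leaf (66, 4041))))))) (.node (.node (.node (.node (.node (.leaf (0, 0)) (.leaf (75, 2325))) (.node (.leaf (21, 1920)) (.leaf (0, 3170)))) (.node (.node (.leaf (67, 610)) (.leaf (0, 2658)))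 (.node (.leaf (66, 263)) (.leaf (71, 3682))))) (.node (.node (.node (.leaf (76, 2615)) (.leaf (76, 2402))) (.node (.leaf (55, 1297)) (.leaf (67, 3550)))) (.node (.node (.leaf (35, 71)) (.leaf (76, 2914))) (.node (.leaf (0, 0)) (.leaf (76, 3938)))))) (.node (.node (.node (.node (.leaf (0, 0)) (.leaf (0, 0))) (.node (.leaf (0, 1250)) (.leaf (73, 3298)))) (.node (.node (.leaf (0, 738)) (.leaf (41, 2785))) (.node (.leaf (0, 0)) (.leaf (73, 2131))))) (.node (.node (.node (.leaf (0, 0)) (.leaf (21, 2530))) (.node (.leaf (0, 1506)) (.leaf (76, 3554)))) (.node (.node (.leaf (0, 0)) (.leaf (0, 0))) (.node (.leaf (58, 991)) (.leaf (0, 4066))))))))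

def twoVia137 : Janko.Tree (ℕ × ℕ) :=
  (.node (.node (.node (.node (.node (.node (.leaf (0, 0)) (.leaf (40, 1064))) (.node (.leaf (1, 1058)) (.leaf (55, 2684)))) (.node (.node (.leaf (0, 0)) (.leaf (1, 2594))) (.node (.leaf (59, 1142)) (.leaf (65, 2147))))) (.node (.node (.node (.leaf (1, 290)) (.leaf (65, 2410))) (.node (.leaf (0, 0)) (.leaf (65, 1832)))) (.node (.node (.leaf (0, 0)) (.leaf (71, 1567))) (.node (.leaf (0, 0)) (.leaf (1, 3874)))))) (.node (.node (.node (.node (.leaf (1, 162)) (.leaf (0, 0))) (.node (.leaf (0, 0)) (.leaf (66, 1597)))) (.node (.node (.leaf (0, 0)) (.leaf (65, 1344))) (.node (.leaf (76, 1178)) (.leaf (73, 2470))))) (.node (.node (.node (.leaf (52, 992)) (.leaf (1, 2466))) (.node (.leaf (1, 2190)) (.leaf (76, 4072)))) (.node (.node (.leaf (1, 930)) (.leaf (0, 0))) (.node (.leaf (1, 3125)) (.leaf (1, 4002))))))) (.node (.node (.node (.node (.node (.leaf (1, 98)) (.leaf (65, 305))) (.node (.leaf (1, 1122)) (.leaf (1, 3170)))) (.node (.node (.leaf (53, 19)) (.leaf (5, 1274))) (.node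 (.leaf (73, 1326)) (.leaf (1, 3682))))) (.node (.node (.node (.leaf (1, 354)) (.leaf (77, 3530))) (.node (.leaf (0, 0)) (.leaf (1, 3426)))) (.node (.node (.leaf (64, 1670)) (.leaf (57, 1813))) (.node (.leaf (1, 1890)) (.leaf (1, 3938)))))) (.node (.node (.node (.node (.leaf (0, 0)) (.leaf (73, 3691))) (.node (.leaf (76, 1708)) (.leaf (1, 3298)))) (.node (.node (.leaf (0, 0)) (.leaf (1, 2786))) (.node (.leaf (0, 0)) (.leaf (76, 4034))))) (.node (.node (.node (.leaf (0, 0)) (.leaf (76, 3022))) (.node (.leaf (0, 0)) (.leaf (65, 556)))) (.node (.node (.leaf (1, 994)) (.leaf (1, 3042))) (.node (.leaf (1, 2018)) (.leaf (66, 3383))))))))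

def twoVia138 : Janko.Tree (ℕ × ℕ) :=
  (.node (.node (.node (.node (.node (.node (.leaf (0, 0)) (.leaf (73, 3624))) (.node (.leaf (76, 3200)) (.leaf (2, 3106)))) (.node (.node (.leaf (2, 1293)) (.leaf (77, 2477))) (.node (.leaf (2, 1570)) (.leaf (77, 3800))))) (.node (.node (.node (.leaf (26, 290)) (.leaf (66, 3544))) (.node (.leaf (62, 3349)) (.leaf (71, 3626)))) (.node (.node (.leaf (2, 802)) (.leaf (77, 2993))) (.node (.leaf (77, 2518)) (.leaf (67, 3502)))))) (.node (.node (.node (.node (.leaf (0, 0)) (.leaf (62, 2288))) (.node (.leaf (0, 0)) (.leaf (66, 3978)))) (.node (.node (.leaf (6, 1685)) (.leaf (41, 3277))) (.node (.leaf (2, 1698)) (.leaf (2, 3746))))) (.node (.node (.node (.leaf (0, 0)) (.leaf (35, 510))) (.node (.leaf (66, 3173)) (.leaf (2, 3490)))) (.node (.node (.leaf (59, 103)) (.leaf (2, 2978))) (.node (.leaf (2, 3173)) (.leaf (62, 3832))))))) (.node (.node (.node (.node (.node (.leaf (0, 0)) (.leaf (77, 2409))) (.node (.leaf (77, 3671)) (.leaf (0, 0)))) (.node (.node (.leaf (2, 610)) (.leaf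 (67, 1364))) (.node (.leaf (54, 295)) (.leaf (66, 2403))))) (.node (.node (.node (.leaf (0, 0)) (.leaf (77, 4086))) (.node (.leaf (0, 0)) (.leaf (59, 3451)))) (.node (.node (.leaf (2, 866)) (.leaf (76, 3594))) (.node (.leaf (76, 1888)) (.leaf (62, 1602)))))) (.node (.node (.node (.node (.leaf (0, 0)) (.leaf (2, 2274))) (.node (.leaf (71, 3662)) (.leaf (2, 3298)))) (.node (.node (.leaf (67, 1100)) (.leaf (2, 3466))) (.node (.leaf (8, 3267)) (.leaf (2, 3810))))) (.node (.node (.node (.leaf (2, 482)) (.leaf (76, 2364))) (.node (.leaf (59, 18)) (.leaf (66, 2145)))) (.node (.node (.leaf (0, 0)) (.leaf (67, 636))) (.node (.leaf (60, 3243)) (.leaf (76, 2640))))))))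

def twoVia139 : Janko.Tree (ℕ × ℕ) :=
  (.node (.node (.node (.node (.node (.node (.leaf (0, 0)) (.leaf (67, 2079))) (.node (.leaf (67, 3772)) (.leaf (64, 3993)))) (.node (.node (.leaf (0, 0)) (.leaf (73, 1381))) (.node (.leaf (67, 1348)) (.leaf (75, 3938))))) (.node (.node (.node (.leaf (0, 0)) (.leaf (65, 1356))) (.node (.leaf (74, 2361)) (.leaf (66, 466)))) (.node (.node (.leaf (0, 0)) (.leaf (0, 0))) (.node (.leaf (4, 1408)) (.leaf (69, 1494)))))) (.node (.node (.node (.node (.leaf (0, 0)) (.leaf (43, 307))) (.node (.leaf (77, 2266)) (.leaf (67, 780)))) (.node (.node (.leaf (0, 0)) (.leaf (55, 1374))) (.node (.leaf (67, 680)) (.leaf (77, 2194))))) (.node (.node (.node (.leaf (0, 0)) (.leaf (74, 1808))) (.node (.leaf (34, 2185)) (.leaf (76, 3422)))) (.node (.node (.leaf (0, 0)) (.leaf (74, 4095))) (.node (.leaf (0, 0)) (.leaf (65, 3075))))))) (.node (.node (.node (.node (.node (.leaf (0, 0)) (.leaf (65, 1771))) (.node (.leaf (48, 1771)) (.leaf (74, 3590)))) (.node (.node (.leaf (0, 0)) (.leaf (74, 1354)))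 (.node (.leaf (0, 0)) (.leaf (66, 918))))) (.node (.node (.node (.leaf (0, 0)) (.leaf (64, 2345))) (.node (.leaf (67, 1370)) (.leaf (77, 2855)))) (.node (.node (.leaf (0, 0)) (.leaf (8, 602))) (.node (.leaf (77, 2468)) (.leaf (74, 1817)))))) (.node (.node (.node (.node (.leaf (0, 0)) (.leaf (74, 690))) (.node (.leaf (0, 0)) (.leaf (35, 527)))) (.node (.node (.leaf (0, 0)) (.leaf (59, 4014))) (.node (.leaf (0, 0)) (.leaf (66, 1371))))) (.node (.node (.node (.leaf (0, 0)) (.leaf (26, 2526))) (.node (.leaf (0, 0)) (.leaf (67, 2781)))) (.node (.node (.leaf (67, 1674)) (.leaf (59, 124))) (.node (.leaf (69, 2148)) (.leaf (76, 2411))))))))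

def twoVia140 : Janko.Tree (ℕ × ℕ) :=
  (.node (.node (.node (.node (.node (.node (.leaf (0, 0)) (.leaf (0, 2083))) (.node (.leaf (76, 3695)) (.leaf (0, 3107)))) (.node (.node (.leaf (76, 3857)) (.leaf (77, 2595))) (.node (.leaf (0, 0)) (.leaf (48, 3619))))) (.node (.node (.node (.leaf (0, 0)) (.leaf (0, 0))) (.node (.leaf (35, 3805)) (.leaf (73, 1333)))) (.node (.node (.leaf (0, 0)) (.leaf (67, 2851))) (.node (.leaf (0, 1827)) (.leaf (71, 2883)))))) (.node (.node (.node (.node (.leaf (71, 556)) (.leaf (0, 2211))) (.node (.leaf (0, 0)) (.leaf (0, 3235)))) (.node (.node (.leaf (0, 0)) (.leaf (65, 2723))) (.node (.leaf (44, 1699)) (.leaf (0, 3747))))) (.node (.node (.node (.leaf (0, 0)) (.leaf (0, 2467))) (.node (.leaf (0, 0)) (.leaf (0, 3491)))) (.node (.node (.leaf (66, 1324)) (.leaf (71, 2509))) (.node (.leaf (0, 1955)) (.leaf (67, 4003))))))) (.node (.node (.node (.node (.node (.leaf (0, 0)) (.leaf (0, 0))) (.node (.leaf (0, 0)) (.leaf (71, 1544)))) (.node (.node (.leaf (0, 0)) (.leaf (77, 2659))) (.node (.leaf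 (0, 0)) (.leaf (20, 3681))))) (.node (.node (.node (.leaf (0, 0)) (.leaf (0, 2403))) (.node (.leaf (0, 1379)) (.leaf (71, 1747)))) (.node (.node (.leaf (65, 867)) (.leaf (0, 2915))) (.node (.leaf (0, 1891)) (.leaf (77, 3939)))))) (.node (.node (.node (.node (.leaf (0, 227)) (.leaf (0, 2275))) (.node (.leaf (76, 3371)) (.leaf (76, 3299)))) (.node (.node (.leaf (0, 0)) (.leaf (0, 2787))) (.node (.leaf (0, 0)) (.leaf (43, 3811))))) (.node (.node (.node (.leaf (7, 483)) (.leaf (76, 2531))) (.node (.leaf (61, 315)) (.leaf (62, 3555)))) (.node (.node (.leaf (0, 0)) (.leaf (0, 3043))) (.node (.leaf (65, 1947)) (.leaf (69, 3037))))))))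

def twoVia141 : Janko.Tree (ℕ × ℕ) :=
  (.node (.node (.node (.node (.node (.node (.leaf (1, 35)) (.leaf (0, 0))) (.node (.leaf (0, 0)) (.leaf (73, 2202)))) (.node (.node (.leaf (1, 547)) (.leaf (76, 1268))) (.node (.leaf (1, 1571)) (.leaf (64, 2785))))) (.node (.node (.node (.leaf (1, 291)) (.leaf (1, 2339))) (.node (.leaf (0, 0)) (.leaf (76, 3961)))) (.node (.node (.leaf (0, 0)) (.leaf (75, 2602))) (.node (.leaf (77, 965)) (.leaf (76, 3247)))))) (.node (.node (.node (.node (.leaf (0, 0)) (.leaf (64, 1094))) (.node (.leaf (1, 2250)) (.leaf (76, 1667)))) (.node (.node (.leaf (1, 675)) (.leaf (52, 636))) (.node (.leaf (1, 1699)) (.leaf (73, 2731))))) (.node (.node (.node (.leaf (1, 419)) (.leaf (60, 2330))) (.node (.leaf (1, 1443)) (.leaf (1, 3491)))) (.node (.node (.leaf (0, 0)) (.leaf (0, 0))) (.node (.leaf (0, 0)) (.leaf (61, 788))))))) (.node (.node (.node (.node (.node (.leaf (0, 0)) (.leaf (49, 889))) (.node (.leaf (0, 0)) (.leaf (1, 3171)))) (.node (.node (.leaf (0, 0)) (.leaf (1, 3010))) (.node (.leaf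 (1, 1635)) (.leaf (1, 3683))))) (.node (.node (.node (.leaf (0, 0)) (.leaf (76, 1061))) (.node (.leaf (59, 54)) (.leaf (76, 2714)))) (.node (.node (.leaf (0, 0)) (.leaf (0, 0))) (.node (.leaf (14, 1888)) (.leaf (1, 3939)))))) (.node (.node (.node (.node (.leaf (0, 0)) (.leaf (66, 983))) (.node (.leaf (1, 1251)) (.leaf (1, 3299)))) (.node (.node (.leaf (0, 0)) (.leaf (65, 1435))) (.node (.leaf (1, 1763)) (.leaf (67, 3792))))) (.node (.node (.node (.leaf (1, 1074)) (.leaf (1, 2531))) (.node (.leaf (1, 1507)) (.leaf (1, 3555)))) (.node (.node (.leaf (1, 2113)) (.leaf (67, 1593))) (.node (.leaf (76, 2958)) (.leaf (1, 4067))))))))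

def twoVia142 : Janko.Tree (ℕ × ℕ) :=
  (.node (.node (.node (.node (.node (.node (.leaf (0, 0)) (.leaf (62, 12))) (.node (.leaf (76, 3727)) (.leaf (76, 1034)))) (.node (.node (.leaf (0, 0)) (.leaf (2, 2595))) (.node (.leaf (0, 0)) (.leaf (67, 3930))))) (.node (.node (.node (.leaf (0, 0)) (.leaf (76, 2337))) (.node (.leaf (2, 1315)) (.leaf (2, 3363)))) (.node (.node (.leaf (0, 0)) (.leaf (2, 2851))) (.node (.leaf (0, 0)) (.leaf (73, 3390)))))) (.node (.node (.node (.node (.leaf (0, 0)) (.leaf (67, 2887))) (.node (.leaf (2, 1187)) (.leaf (2, 3235)))) (.node (.node (.leaf (0, 0)) (.leaf (67, 673))) (.node (.leaf (67, 1193)) (.leaf (40, 1527))))) (.node (.node (.node (.leaf (0, 0)) (.leaf (28, 3563))) (.node (.leaf (52, 1092)) (.leaf (22, 1989)))) (.node (.node (.leaf (0, 0)) (.leaf (76, 3618))) (.node (.leaf (23, 1611)) (.leaf (2, 4003))))))) (.node (.node (.node (.node (.node (.leaf (0, 0)) (.leaf (76, 1829))) (.node (.leaf (2, 1123)) (.leaf (0, 0)))) (.node (.node (.leaf (0, 0)) (.leaf (2, 2659))) (.node (.leaf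 (28, 637)) (.leaf (67, 2325))))) (.node (.node (.node (.leaf (8, 987)) (.leaf (76, 2264))) (.node (.leaf (0, 0)) (.leaf (77, 3121)))) (.node (.node (.leaf (0, 0)) (.leaf (19, 1512))) (.node (.leaf (77, 1948)) (.leaf (23, 2149)))))) (.node (.node (.node (.node (.leaf (6, 671)) (.leaf (65, 2623))) (.node (.leaf (2, 1251)) (.leaf (74, 1436)))) (.node (.node (.leaf (2, 739)) (.leaf (19, 2375))) (.node (.leaf (76, 3960)) (.leaf (2, 3811))))) (.node (.node (.node (.leaf (57, 677)) (.leaf (2, 2531))) (.node (.leaf (0, 0)) (.leaf (2, 3555)))) (.node (.node (.leaf (2, 995)) (.leaf (28, 3944))) (.node (.leaf (2, 2019)) (.leaf (76, 3897))))))))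

def twoVia143 : Janko.Tree (ℕ × ℕ) :=
  (.node (.node (.node (.node (.node (.node (.leaf (0, 0)) (.leaf (0, 0))) (.node (.leaf (74, 1263)) (.leaf (74, 1919)))) (.node (.node (.leaf (0, 0)) (.leaf (77, 2485))) (.node (.leaf (0, 0)) (.leaf (73, 2912))))) (.node (.node (.node (.leaf (0, 0)) (.leaf (25, 2356))) (.node (.leaf (0, 0)) (.leaf (77, 2345)))) (.node (.node (.leaf (25, 408)) (.leaf (77, 2496))) (.node (.leaf (0, 0)) (.leaf (71, 703)))))) (.node (.node (.node (.node (.leaf (0, 0)) (.leaf (20, 102))) (.node (.leaf (77, 3281)) (.leaf (77, 2908)))) (.node (.node (.leaf (76, 674)) (.leaf (76, 2799))) (.node (.leaf (71, 3972)) (.leaf (67, 3153))))) (.node (.node (.node (.leaf (76, 418)) (.leaf (74, 3866))) (.node (.leaf (0, 0)) (.leaf (22, 2609)))) (.node (.node (.leaf (46, 932)) (.leaf (67, 896))) (.node (.leaf (43, 1090)) (.leaf (67, 2395))))))) (.node (.node (.node (.node (.node (.leaf (0, 0)) (.leaf (0, 0))) (.node (.leaf (0, 0)) (.leaf (66, 3735)))) (.node (.node (.leaf (0, 0)) (.leaf (77, 993))) (.node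 (.leaf (0, 0)) (.leaf (77, 2371))))) (.node (.node (.node (.leaf (0, 0)) (.leaf (67, 4062))) (.node (.leaf (66, 687)) (.leaf (67, 779)))) (.node (.node (.leaf (26, 866)) (.leaf (0, 0))) (.node (.leaf (77, 2949)) (.leaf (66, 1666)))))) (.node (.node (.node (.node (.leaf (0, 0)) (.leaf (76, 2623))) (.node (.leaf (75, 2866)) (.leaf (40, 1289)))) (.node (.node (.leaf (0, 0)) (.leaf (40, 1680))) (.node (.leaf (67, 1967)) (.leaf (67, 2918))))) (.node (.node (.node (.leaf (0, 0)) (.leaf (77, 1669))) (.node (.leaf (0, 0)) (.leaf (3, 3558)))) (.node (.node (.leaf (73, 887)) (.leaf (71, 1935))) (.node (.leaf (0, 0)) (.leaf (65, 3184))))))))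

def twoVia144 : Janko.Tree (ℕ × ℕ) :=
  (.node (.node (.node (.node (.node (.node (.leaf (0, 0)) (.leaf (73, 2099))) (.node (.leaf (0, 0)) (.leaf (71, 2090)))) (.node (.node (.leaf (75, 2554)) (.leaf (77, 2596))) (.node (.leaf (62, 1572)) (.leaf (76, 3620))))) (.node (.node (.node (.leaf (38, 292)) (.leaf (69, 4094))) (.node (.leaf (0, 1316)) (.leaf (35, 1042)))) (.node (.node (.leaf (0, 804)) (.leaf (0, 0))) (.node (.leaf (0, 0)) (.leaf (77, 3876)))))) (.node (.node (.node (.node (.leaf (0, 0)) (.leaf (35, 2882))) (.node (.leaf (0, 0)) (.leaf (8, 3235)))) (.node (.node (.leaf (0, 0)) (.leaf (32, 525))) (.node (.leaf (0, 0)) (.leaf (69, 2333))))) (.node (.node (.node (.leaf (0, 0)) (.leaf (0, 2468))) (.node (.leaf (76, 1444)) (.leaf (67, 3492)))) (.node (.node (.leaf (0, 932)) (.leaf (0, 2980))) (.node (.leaf (31, 395)) (.leaf (73, 426))))))) (.node (.node (.node (.node (.node (.leaf (0, 100)) (.leaf (0, 2148))) (.node (.leaf (19, 1124)) (.leaf (76, 3172)))) (.node (.node (.leaf (11, 582)) (.leaf (76, 2660)))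 (.node (.leaf (77, 1636)) (.leaf (0, 3684))))) (.node (.node (.node (.leaf (0, 356)) (.leaf (32, 1310))) (.node (.leaf (0, 0)) (.leaf (64, 3428)))) (.node (.node (.leaf (0, 868)) (.leaf (76, 3152))) (.node (.leaf (0, 1892)) (.leaf (0, 3940)))))) (.node (.node (.node (.node (.leaf (0, 0)) (.leaf (76, 2276))) (.node (.leaf (59, 177)) (.leaf (0, 3300)))) (.node (.node (.leaf (0, 0)) (.leaf (74, 3154))) (.node (.leaf (69, 3386)) (.leaf (77, 3812))))) (.node (.node (.node (.leaf (66, 484)) (.leaf (65, 3983))) (.node (.leaf (73, 1508)) (.leaf (0, 3556)))) (.node (.node (.leaf (61, 996)) (.leaf (31, 2861))) (.node (.leaf (71, 1006)) (.leaf (67, 4058))))))))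

def twoVia145 : Janko.Tree (ℕ × ℕ) :=
  (.node (.node (.node (.node (.node (.node (.leaf (0, 0)) (.leaf (0, 0))) (.node (.leaf (76, 2401)) (.leaf (1, 3108)))) (.node (.node (.leaf (0, 0)) (.leaf (1, 2596))) (.node (.leaf (0, 0)) (.leaf (76, 2361))))) (.node (.node (.node (.leaf (0, 0)) (.leaf (67, 1908))) (.node (.leaf (0, 0)) (.leaf (43, 2991)))) (.node (.node (.leaf (54, 281)) (.leaf (1, 3817))) (.node (.leaf (76, 3246)) (.leaf (1, 3876)))))) (.node (.node (.node (.node (.leaf (1, 164)) (.leaf (1, 2212))) (.node (.leaf (1, 1188)) (.leaf (77, 2446)))) (.node (.node (.leaf (0, 0)) (.leaf (1, 2724))) (.node (.leaf (1, 3150)) (.leaf (1, 3748))))) (.node (.node (.node (.leaf (0, 0)) (.leaf (70, 3256))) (.node (.leaf (0, 0)) (.leaf (1, 3492)))) (.node (.node (.leaf (76, 1956)) (.leaf (5, 1553))) (.node (.leaf (1, 1956)) (.leaf (76, 3712))))))) (.node (.node (.node (.node (.node (.leaf (0, 0)) (.leaf (58, 902))) (.node (.leaf (65, 303)) (.leaf (65, 1668)))) (.node (.node (.leaf (1, 612)) (.leaf (1, 2660))) (.node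 (.leaf (1, 1636)) (.leaf (76, 4041))))) (.node (.node (.node (.leaf (76, 1145)) (.leaf (1, 2404))) (.node (.leaf (1, 1380)) (.leaf (1, 3428)))) (.node (.node (.leaf (5, 306)) (.leaf (0, 0))) (.node (.leaf (76, 3124)) (.leaf (23, 2251)))))) (.node (.node (.node (.node (.leaf (1, 228)) (.leaf (57, 853))) (.node (.leaf (0, 0)) (.leaf (14, 3297)))) (.node (.node (.leaf (0, 0)) (.leaf (76, 3043))) (.node (.leaf (65, 3234)) (.leaf (1, 3812))))) (.node (.node (.node (.leaf (1, 484)) (.leaf (76, 4094))) (.node (.leaf (0, 0)) (.leaf (77, 3897)))) (.node (.node (.leaf (1, 996)) (.leaf (1, 3856))) (.node (.leaf (0, 0)) (.leaf (49, 3105))))))))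

def twoVia146 : Janko.Tree (ℕ × ℕ) :=
  (.node (.node (.node (.node (.node (.node (.leaf (2, 36)) (.leaf (76, 2650))) (.node (.leaf (2, 1060)) (.leaf (73, 3933)))) (.node (.node (.leaf (76, 1633)) (.leaf (2, 3071))) (.node (.leaf (7, 765)) (.leaf (77, 3298))))) (.node (.node (.node (.leaf (0, 0)) (.leaf (2, 2340))) (.node (.leaf (67, 3440)) (.leaf (67, 1960)))) (.node (.node (.leaf (51, 266)) (.leaf (65, 2805))) (.node (.leaf (2, 1828)) (.leaf (31, 2181)))))) (.node (.node (.node (.node (.leaf (0, 0)) (.leaf (65, 336))) (.node (.leaf (0, 0)) (.leaf (2, 3236)))) (.node (.node (.leaf (2, 676)) (.leaf (73, 3659))) (.node (.leaf (0, 0)) (.leaf (62, 1069))))) (.node (.node (.node (.leaf (2, 420)) (.leaf (0, 0))) (.node (.leaf (70, 93)) (.leaf (0, 0)))) (.node (.node (.leaf (2, 932)) (.leaf (2, 2980))) (.node (.leaf (43, 3231)) (.leaf (2, 4004))))))) (.node (.node (.node (.node (.node (.leaf (0, 0)) (.leaf (8, 902))) (.node (.leaf (67, 3177)) (.leaf (2, 3172)))) (.node (.node (.leaf (35, 692)) (.leaf (60, 488))) (.node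 (.leaf (69, 1924)) (.leaf (4, 3684))))) (.node (.node (.node (.leaf (2, 356)) (.leaf (67, 3579))) (.node (.leaf (0, 0)) (.leaf (51, 2562)))) (.node (.node (.leaf (0, 0)) (.leaf (73, 3871))) (.node (.leaf (7, 3403)) (.leaf (77, 3827)))))) (.node (.node (.node (.node (.leaf (0, 0)) (.leaf (71, 494))) (.node (.leaf (67, 1652)) (.leaf (76, 2949)))) (.node (.node (.leaf (0, 0)) (.leaf (2, 2788))) (.node (.leaf (0, 0)) (.leaf (71, 3313))))) (.node (.node (.node (.leaf (67, 1018)) (.leaf (67, 3305))) (.node (.leaf (69, 494)) (.leaf (67, 3733)))) (.node (.node (.leaf (0, 0)) (.leaf (2, 3044))) (.node (.leaf (76, 3990)) (.leaf (60, 965))))))))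

def twoVia147 : Janko.Tree (ℕ × ℕ) :=
  (.node (.node (.node (.node (.node (.node (.leaf (0, 0)) (.leaf (4, 441))) (.node (.leaf (0, 0)) (.leaf (21, 1675)))) (.node (.node (.leaf (0, 0)) (.leaf (74, 1978))) (.node (.leaf (0, 0)) (.leaf (45, 2803))))) (.node (.node (.node (.leaf (0, 0)) (.leaf (0, 0))) (.node (.leaf (62, 2039)) (.leaf (67, 3917)))) (.node (.node (.leaf (0, 0)) (.leaf (8, 1010))) (.node (.leaf (0, 0)) (.leaf (38, 319)))))) (.node (.node (.node (.node (.leaf (0, 0)) (.leaf (28, 471))) (.node (.leaf (74, 3028)) (.leaf (73, 2632)))) (.node (.node (.leaf (0, 0)) (.leaf (73, 525))) (.node (.leaf (67, 1697)) (.leaf (77, 1069))))) (.node (.node (.node (.leaf (0, 0)) (.leaf (77, 3655))) (.node (.leaf (75, 2400)) (.leaf (73, 802)))) (.node (.node (.leaf (0, 0)) (.leaf (76, 3482))) (.node (.leaf (74, 1124)) (.leaf (66, 1744))))))) (.node (.node (.node (.node (.node (.leaf (0, 0)) (.leaf (0, 0))) (.node (.leaf (67, 303)) (.leaf (0, 0)))) (.node (.node (.leaf (0, 0)) (.leaf (76, 488))) (.node (.leaf (0, 0))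 (.leaf (4, 3066))))) (.node (.node (.node (.leaf (62, 1066)) (.leaf (47, 118))) (.node (.leaf (65, 2077)) (.leaf (65, 2006)))) (.node (.node (.leaf (0, 0)) (.leaf (64, 2905))) (.node (.leaf (66, 3100)) (.leaf (15, 750)))))) (.node (.node (.node (.node (.leaf (0, 0)) (.leaf (66, 275))) (.node (.leaf (57, 627)) (.leaf (76, 732)))) (.node (.node (.leaf (0, 0)) (.leaf (4, 1435))) (.node (.leaf (65, 2449)) (.leaf (77, 4053))))) (.node (.node (.node (.leaf (0, 0)) (.leaf (29, 3249))) (.node (.leaf (0, 0)) (.leaf (67, 3331)))) (.node (.node (.leaf (0, 0)) (.leaf (66, 1592))) (.node (.leaf (24, 748)) (.leaf (67, 2286))))))))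

def twoVia148 : Janko.Tree (ℕ × ℕ) :=
  (.node (.node (.node (.node (.node (.node (.leaf (0, 0)) (.leaf (0, 2085))) (.node (.leaf (0, 0)) (.leaf (73, 933)))) (.node (.node (.leaf (0, 549)) (.leaf (74, 3345))) (.node (.leaf (0, 0)) (.leaf (73, 507))))) (.node (.node (.node (.leaf (0, 293)) (.leaf (73, 3718))) (.node (.leaf (0, 0)) (.leaf (77, 3365)))) (.node (.node (.leaf (6, 805)) (.leaf (0, 0))) (.node (.leaf (73, 555)) (.leaf (74, 2955)))))) (.node (.node (.node (.node (.leaf (22, 3303)) (.leaf (0, 2213))) (.node (.leaf (75, 1189)) (.leaf (71, 1495)))) (.node (.node (.leaf (0, 0)) (.leaf (76, 2725))) (.node (.leaf (76, 1701)) (.leaf (71, 2698))))) (.node (.node (.node (.leaf (0, 0)) (.leaf (71, 3088))) (.node (.leaf (0, 1445)) (.leaf (22, 3493)))) (.node (.node (.leaf (76, 933)) (.leaf (71, 2388))) (.node (.leaf (77, 1957)) (.leaf (0, 4005))))))) (.node (.node (.node (.node (.node (.leaf (0, 0)) (.leaf (0, 2149))) (.node (.leaf (0, 1125)) (.leaf (76, 3173)))) (.node (.node (.leaf (8, 613)) (.leaf (71, 619)))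 (.node (.leaf (67, 1637)) (.leaf (0, 3685))))) (.node (.node (.node (.leaf (55, 228)) (.leaf (77, 3967))) (.node (.leaf (0, 0)) (.leaf (73, 1199)))) (.node (.node (.leaf (0, 0)) (.leaf (0, 2917))) (.node (.leaf (0, 3403)) (.leaf (0, 3941)))))) (.node (.node (.node (.node (.leaf (0, 0)) (.leaf (64, 2279))) (.node (.leaf (0, 1253)) (.leaf (0, 3301)))) (.node (.node (.leaf (0, 741)) (.leaf (0, 3763))) (.node (.leaf (67, 1816)) (.leaf (0, 3813))))) (.node (.node (.node (.leaf (64, 2703)) (.leaf (0, 3615))) (.node (.leaf (73, 1876)) (.leaf (48, 3557)))) (.node (.node (.leaf (54, 1453)) (.leaf (0, 3045))) (.node (.leaf (75, 2021)) (.leaf (76, 4069))))))))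

def twoVia149 : Janko.Tree (ℕ × ℕ) :=
  (.node (.node (.node (.node (.node (.node (.leaf (0, 0)) (.leaf (67, 1712))) (.node (.leaf (0, 0)) (.leaf (76, 2395)))) (.node (.node (.leaf (0, 0)) (.leaf (76, 3345))) (.node (.leaf (1, 1573)) (.leaf (1, 3621))))) (.node (.node (.node (.leaf (0, 0)) (.leaf (76, 3718))) (.node (.leaf (1, 1317)) (.leaf (0, 0)))) (.node (.node (.leaf (0, 0)) (.leaf (43, 2832))) (.node (.leaf (0, 0)) (.leaf (1, 3877)))))) (.node (.node (.node (.node (.leaf (0, 0)) (.leaf (5, 941))) (.node (.leaf (0, 0)) (.leaf (65, 104)))) (.node (.node (.leaf (0, 0)) (.leaf (1, 2725))) (.node (.leaf (1, 1701)) (.leaf (1, 3749))))) (.node (.node (.node (.leaf (65, 382)) (.leaf (1, 2469))) (.node (.leaf (1, 1745)) (.leaf (50, 3965)))) (.node (.node (.leaf (31, 441)) (.leaf (1, 2981))) (.node (.leaf (0, 0)) (.leaf (71, 3142))))))) (.node (.node (.node (.node (.node (.leaf (1, 101)) (.leaf (0, 0))) (.node (.leaf (0, 0)) (.leaf (65, 1557)))) (.node (.node (.leaf (0, 0)) (.leaf (18, 3651))) (.node (.leaf (76,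 981)) (.leaf (1, 3685))))) (.node (.node (.node (.leaf (1, 357)) (.leaf (1, 3723))) (.node (.leaf (0, 0)) (.leaf (1, 3429)))) (.node (.node (.leaf (1, 869)) (.leaf (58, 129))) (.node (.leaf (69, 997)) (.leaf (66, 2989)))))) (.node (.node (.node (.node (.leaf (0, 0)) (.leaf (1, 2277))) (.node (.leaf (0, 0)) (.leaf (43, 1145)))) (.node (.node (.leaf (0, 0)) (.leaf (44, 59))) (.node (.leaf (1, 2910)) (.leaf (76, 3976))))) (.node (.node (.node (.leaf (0, 0)) (.leaf (1, 2533))) (.node (.leaf (1, 1509)) (.leaf (76, 2528)))) (.node (.node (.leaf (0, 0)) (.leaf (0, 0))) (.node (.leaf (76, 2960)) (.leaf (59, 4089))))))))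

def twoVia150 : Janko.Tree (ℕ × ℕ) :=
  (.node (.node (.node (.node (.node (.node (.leaf (0, 0)) (.leaf (67, 946))) (.node (.leaf (2, 2326)) (.leaf (2, 3109)))) (.node (.node (.leaf (2, 549)) (.leaf (77, 2681))) (.node (.leaf (0, 0)) (.leaf (2, 3939))))) (.node (.node (.node (.leaf (62, 298)) (.leaf (76, 3943))) (.node (.leaf (76, 3126)) (.leaf (76, 3665)))) (.node (.node (.leaf (2, 805)) (.leaf (0, 0))) (.node (.leaf (66, 3301)) (.leaf (2, 3877)))))) (.node (.node (.node (.node (.leaf (2, 165)) (.leaf (2, 3593))) (.node (.leaf (77, 3427)) (.leaf (76, 970)))) (.node (.node (.leaf (7, 420)) (.leaf (71, 1880))) (.node (.leaf (56, 443)) (.leaf (76, 1159))))) (.node (.node (.node (.leaf (12, 37)) (.leaf (0, 0))) (.node (.leaf (60, 21)) (.leaf (76, 3649)))) (.node (.node (.leaf (2, 933)) (.leaf (77, 3211))) (.node (.leaf (2, 3463)) (.leaf (67, 3632))))))) (.node (.node (.node (.node (.node (.leaf (0, 0)) (.leaf (67, 3482))) (.node (.leaf (2, 1125)) (.leaf (4, 3173)))) (.node (.node (.leaf (8, 1521)) (.leaf (76, 2356)))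 (.node (.leaf (2, 1637)) (.leaf (16, 2430))))) (.node (.node (.node (.leaf (67, 356)) (.leaf (73, 3530))) (.node (.leaf (2, 1381)) (.leaf (62, 781)))) (.node (.node (.leaf (0, 0)) (.leaf (2, 2917))) (.node (.leaf (2, 1893)) (.leaf (76, 1980)))))) (.node (.node (.node (.node (.leaf (2, 229)) (.leaf (67, 3135))) (.node (.leaf (0, 0)) (.leaf (2, 3301)))) (.node (.node (.leaf (7, 56)) (.leaf (76, 2285))) (.node (.leaf (2, 1765)) (.leaf (43, 1589))))) (.node (.node (.node (.leaf (15, 741)) (.leaf (59, 2330))) (.node (.leaf (76, 2769)) (.leaf (76, 1036)))) (.node (.node (.leaf (0, 0)) (.leaf (8, 1594))) (.node (.leaf (2, 2852)) (.leaf (59, 2089))))))))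

def twoVia151 : Janko.Tree (ℕ × ℕ) :=
  (.node (.node (.node (.node (.node (.node (.leaf (0, 0)) (.leaf (77, 3496))) (.node (.leaf (0, 0)) (.leaf (67, 2017)))) (.node (.node (.leaf (0, 0)) (.leaf (75, 3916))) (.node (.leaf (66, 1486)) (.leaf (22, 1050))))) (.node (.node (.node (.leaf (0, 0)) (.leaf (67, 1928))) (.node (.leaf (73, 3472)) (.leaf (7, 296)))) (.node (.node (.leaf (0, 0)) (.leaf (46, 2580))) (.node (.leaf (0, 0)) (.leaf (74, 2746)))))) (.node (.node (.node (.node (.leaf (0, 0)) (.leaf (40, 1834))) (.node (.leaf (0, 0)) (.leaf (55, 70)))) (.node (.node (.leaf (76, 1357)) (.leaf (58, 631))) (.node (.leaf (65, 924)) (.leaf (44, 556))))) (.node (.node (.node (.leaf (58, 992)) (.leaf (65, 187))) (.node (.leaf (44, 569)) (.leaf (67, 3489)))) (.node (.node (.leaf (0, 0)) (.leaf (66, 1348))) (.node (.leaf (4, 280)) (.leaf (66, 1606))))))) (.node (.node (.node (.node (.node (.leaf (0, 0)) (.leaf (0, 0))) (.node (.leaf (0, 0)) (.leaf (21, 318)))) (.node (.node (.leaf (26, 1501)) (.leaf (67, 4087))) (.node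 (.leaf (0, 0)) (.leaf (66, 695))))) (.node (.node (.node (.leaf (0, 0)) (.leaf (25, 2309))) (.node (.leaf (0, 0)) (.leaf (67, 708)))) (.node (.node (.leaf (76, 868)) (.leaf (76, 2885))) (.node (.leaf (67, 2463)) (.leaf (64, 3960)))))) (.node (.node (.node (.node (.leaf (0, 0)) (.leaf (0, 0))) (.node (.leaf (67, 3198)) (.leaf (8, 1379)))) (.node (.node (.leaf (0, 0)) (.leaf (65, 3370))) (.node (.leaf (76, 4065)) (.leaf (65, 3950))))) (.node (.node (.node (.leaf (24, 49)) (.leaf (57, 459))) (.node (.leaf (57, 1774)) (.leaf (67, 797)))) (.node (.node (.leaf (58, 379)) (.leaf (64, 1366))) (.node (.leaf (67, 22)) (.leaf (73, 1240))))))))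

def twoVia152 : Janko.Tree (ℕ × ℕ) :=
  (.node (.node (.node (.node (.node (.node (.leaf (0, 0)) (.leaf (51, 2097))) (.node (.leaf (75, 3469)) (.leaf (71, 3110)))) (.node (.node (.leaf (73, 1898)) (.leaf (0, 2598))) (.node (.leaf (76, 1819)) (.leaf (62, 3622))))) (.node (.node (.node (.leaf (67, 1480)) (.leaf (75, 2216))) (.node (.leaf (73, 3652)) (.leaf (0, 3366)))) (.node (.node (.leaf (0, 0)) (.leaf (0, 2854))) (.node (.leaf (0, 1830)) (.leaf (0, 3878)))))) (.node (.node (.node (.node (.leaf (73, 804)) (.leaf (17, 2213))) (.node (.leaf (0, 0)) (.leaf (62, 3238)))) (.node (.node (.leaf (67, 678)) (.leaf (71, 3221))) (.node (.leaf (67, 1702)) (.leaf (67, 2886))))) (.node (.node (.node (.leaf (67, 208)) (.leaf (75, 2750))) (.node (.leaf (67, 1246)) (.leaf (0, 3494)))) (.node (.node (.leaf (65, 934)) (.leaf (35, 31))) (.node (.leaf (0, 1958)) (.leaf (73, 2933))))))) (.node (.node (.node (.node (.node (.leaf (0, 0)) (.leaf (73, 3972))) (.node (.leaf (76, 3580)) (.leaf (0, 3174)))) (.node (.node (.leaf (0, 614))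 (.leaf (73, 1744))) (.node (.leaf (0, 0)) (.leaf (73, 1789))))) (.node (.node (.node (.leaf (0, 0)) (.leaf (73, 1750))) (.node (.leaf (0, 0)) (.leaf (0, 3430)))) (.node (.node (.leaf (0, 0)) (.leaf (0, 0))) (.node (.leaf (77, 1894)) (.leaf (44, 2706)))))) (.node (.node (.node (.node (.leaf (0, 0)) (.leaf (60, 556))) (.node (.leaf (62, 1254)) (.leaf (11, 2496)))) (.node (.node (.leaf (0, 0)) (.leaf (0, 2790))) (.node (.leaf (0, 1766)) (.leaf (0, 4055))))) (.node (.node (.node (.leaf (0, 486)) (.leaf (56, 120))) (.node (.leaf (0, 1510)) (.leaf (77, 3558)))) (.node (.node (.leaf (0, 998)) (.leaf (67, 3326))) (.node (.leaf (0, 2022)) (.leaf (0, 4070))))))))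

def twoVia153 : Janko.Tree (ℕ × ℕ) :=
  (.node (.node (.node (.node (.node (.node (.leaf (1, 38)) (.leaf (1, 2086))) (.node (.leaf (1, 1062)) (.leaf (0, 0)))) (.node (.node (.leaf (1, 1126)) (.leaf (76, 1225))) (.node (.leaf (0, 0)) (.leaf (76, 4042))))) (.node (.node (.node (.leaf (0, 0)) (.leaf (1, 2342))) (.node (.leaf (76, 2696)) (.leaf (65, 1663)))) (.node (.node (.leaf (0, 0)) (.leaf (0, 0))) (.node (.leaf (0, 0)) (.leaf (62, 2886)))))) (.node (.node (.node (.node (.leaf (0, 0)) (.leaf (76, 3174))) (.node (.leaf (1, 1190)) (.leaf (1, 3238)))) (.node (.node (.leaf (1, 678)) (.leaf (1, 2726))) (.node (.leaf (0, 0)) (.leaf (76, 2751))))) (.node (.node (.node (.leaf (1, 422)) (.leaf (0, 0))) (.node (.leaf (60, 189)) (.leaf (33, 4068)))) (.node (.node (.leaf (67, 152)) (.leaf (41, 2242))) (.node (.leaf (67, 803)) (.leaf (1, 4006))))))) (.node (.node (.node (.node (.node (.leaf (0, 0)) (.leaf (1, 2150))) (.node (.leaf (65, 161)) (.leaf (1, 3174)))) (.node (.node (.leaf (0, 0)) (.leaf (46, 4018))) (.node (.leaf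 (1, 1638)) (.leaf (76, 3902))))) (.node (.node (.node (.leaf (76, 695)) (.leaf (48, 2504))) (.node (.leaf (67, 1128)) (.leaf (1, 3430)))) (.node (.node (.leaf (76, 2734)) (.leaf (1, 2918))) (.node (.leaf (0, 0)) (.leaf (66, 3178)))))) (.node (.node (.node (.node (.leaf (0, 0)) (.leaf (1, 2278))) (.node (.leaf (1, 1254)) (.leaf (1, 3302)))) (.node (.node (.leaf (1, 742)) (.leaf (76, 3257))) (.node (.leaf (76, 928)) (.leaf (76, 3952))))) (.node (.node (.node (.leaf (0, 0)) (.leaf (0, 0))) (.node (.leaf (0, 0)) (.leaf (48, 3617)))) (.node (.node (.leaf (62, 53)) (.leaf (1, 3046))) (.node (.leaf (57, 835)) (.leaf (76, 3188))))))))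

def twoVia154 : Janko.Tree (ℕ × ℕ) :=
  (.node (.node (.node (.node (.node (.node (.leaf (0, 0)) (.leaf (0, 0))) (.node (.leaf (0, 0)) (.leaf (2, 3830)))) (.node (.node (.leaf (0, 0)) (.leaf (2, 3636))) (.node (.leaf (2, 1574)) (.leaf (74, 1677))))) (.node (.node (.node (.leaf (2, 294)) (.leaf (0, 0))) (.node (.leaf (0, 0)) (.leaf (66, 344)))) (.node (.node (.leaf (66, 1572)) (.leaf (2, 3848))) (.node (.leaf (6, 846)) (.leaf (62, 2530)))))) (.node (.node (.node (.node (.leaf (0, 0)) (.leaf (2, 2214))) (.node (.leaf (60, 518)) (.leaf (0, 0)))) (.node (.node (.leaf (0, 0)) (.leaf (74, 2175))) (.node (.leaf (67, 96)) (.leaf (2, 3750))))) (.node (.node (.node (.leaf (67, 42)) (.leaf (2, 2470))) (.node (.leaf (2, 1446)) (.leaf (7, 1981)))) (.node (.node (.leaf (66, 450)) (.leaf (2, 2982))) (.node (.leaf (76, 2424)) (.leaf (66, 2532))))))) (.node (.node (.node (.node (.node (.leaf (2, 102)) (.leaf (2, 2150))) (.node (.leaf (0, 0)) (.leaf (66, 438)))) (.node (.node (.leaf (2, 1496)) (.leaf (76, 4067))) (.node (.leaf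 (0, 0)) (.leaf (2, 3686))))) (.node (.node (.node (.leaf (2, 358)) (.leaf (2, 2406))) (.node (.leaf (2, 2653)) (.leaf (2, 3430)))) (.node (.node (.leaf (2, 870)) (.leaf (73, 2065))) (.node (.leaf (76, 1981)) (.leaf (67, 2706)))))) (.node (.node (.node (.node (.leaf (0, 0)) (.leaf (2, 3055))) (.node (.leaf (0, 0)) (.leaf (21, 1837)))) (.node (.node (.leaf (0, 0)) (.leaf (69, 1741))) (.node (.leaf (0, 0)) (.leaf (2, 3814))))) (.node (.node (.node (.leaf (0, 0)) (.leaf (2, 2534))) (.node (.leaf (2, 1510)) (.leaf (2, 3558)))) (.node (.node (.leaf (0, 0)) (.leaf (2, 3046))) (.node (.leaf (0, 0)) (.leaf (2, 4070))))))))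

def twoVia155 : Janko.Tree (ℕ × ℕ) :=
  (.node (.node (.node (.node (.node (.node (.leaf (0, 0)) (.leaf (56, 1275))) (.node (.leaf (0, 0)) (.leaf (67, 1469)))) (.node (.node (.leaf (26, 473)) (.leaf (76, 2158))) (.node (.leaf (0, 0)) (.leaf (65, 3269))))) (.node (.node (.node (.leaf (0, 0)) (.leaf (74, 2858))) (.node (.leaf (14, 2696)) (.leaf (42, 2287)))) (.node (.node (.leaf (43, 696)) (.leaf (74, 2072))) (.node (.leaf (0, 0)) (.leaf (73, 1587)))))) (.node (.node (.node (.node (.leaf (0, 0)) (.leaf (77, 3344))) (.node (.leaf (76, 3675)) (.leaf (61, 2055)))) (.node (.node (.leaf (0, 0)) (.leaf (65, 1357))) (.node (.leaf (67, 401)) (.leaf (0, 0))))) (.node (.node (.node (.leaf (0, 0)) (.leaf (77, 3600))) (.node (.leaf (77, 1779)) (.leaf (74, 1905)))) (.node (.node (.leaf (0, 0)) (.leaf (15, 730))) (.node (.leaf (67, 2939)) (.leaf (73, 2532))))))) (.node (.node (.node (.node (.node (.leaf (0, 0)) (.leaf (75, 3868))) (.node (.leaf (0, 0)) (.leaf (57, 3483)))) (.node (.node (.leaf (74, 1665)) (.leaf (73, 1720)))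 (.node (.leaf (0, 0)) (.leaf (58, 3264))))) (.node (.node (.node (.leaf (0, 0)) (.leaf (62, 952))) (.node (.leaf (0, 0)) (.leaf (23, 1928)))) (.node (.node (.leaf (0, 0)) (.leaf (0, 0))) (.node (.leaf (0, 0)) (.leaf (74, 4033)))))) (.node (.node (.node (.node (.leaf (62, 692)) (.leaf (0, 0))) (.node (.leaf (65, 2482)) (.leaf (66, 1221)))) (.node (.node (.leaf (0, 0)) (.leaf (71, 546))) (.node (.leaf (0, 0)) (.leaf (75, 4013))))) (.node (.node (.node (.leaf (76, 2486)) (.leaf (22, 897))) (.node (.leaf (76, 2162)) (.leaf (4, 864)))) (.node (.node (.leaf (0, 0)) (.leaf (71, 1230))) (.node (.leaf (21, 753)) (.leaf (26, 1981))))))))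

def twoVia156 : Janko.Tree (ℕ × ℕ) :=
  (.node (.node (.node (.node (.node (.node (.leaf (0, 72)) (.leaf (65, 2087))) (.node (.leaf (37, 1133)) (.leaf (76, 3758)))) (.node (.node (.leaf (0, 551)) (.leaf (76, 2599))) (.node (.leaf (73, 2155)) (.leaf (0, 3623))))) (.node (.node (.node (.leaf (0, 0)) (.leaf (76, 2628))) (.node (.leaf (0, 1319)) (.leaf (67, 1350)))) (.node (.node (.leaf (34, 131)) (.leaf (0, 0))) (.node (.leaf (0, 1831)) (.leaf (67, 3879)))))) (.node (.node (.node (.node (.leaf (0, 0)) (.leaf (50, 2215))) (.node (.leaf (74, 1191)) (.leaf (16, 3217)))) (.node (.node (.leaf (0, 0)) (.leaf (75, 3975))) (.node (.leaf (32, 380)) (.leaf (69, 2746))))) (.node (.node (.node (.leaf (0, 0)) (.leaf (76, 2742))) (.node (.leaf (0, 1447)) (.leaf (71, 3495)))) (.node (.node (.leaf (0, 935)) (.leaf (73, 2983))) (.node (.leaf (44, 1958)) (.leaf (0, 4007))))))) (.node (.node (.node (.node (.node (.leaf (0, 0)) (.leaf (0, 0))) (.node (.leaf (0, 1127)) (.leaf (47, 3471)))) (.node (.node (.leaf (0, 0)) (.leaf (67, 1502)))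 (.node (.leaf (0, 2985)) (.leaf (0, 3687))))) (.node (.node (.node (.leaf (0, 0)) (.leaf (76, 2407))) (.node (.leaf (77, 3164)) (.leaf (69, 3901)))) (.node (.node (.leaf (62, 871)) (.leaf (0, 0))) (.node (.leaf (0, 1895)) (.leaf (0, 3943)))))) (.node (.node (.node (.node (.leaf (0, 231)) (.leaf (0, 0))) (.node (.leaf (0, 0)) (.leaf (67, 1297)))) (.node (.node (.leaf (0, 0)) (.leaf (0, 2791))) (.node (.leaf (0, 1767)) (.leaf (69, 3815))))) (.node (.node (.node (.leaf (0, 0)) (.leaf (62, 2535))) (.node (.leaf (76, 2019)) (.leaf (53, 3559)))) (.node (.node (.leaf (0, 999)) (.leaf (60, 3047))) (.node (.leaf (0, 0)) (.leaf (73, 3803))))))))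

def twoVia157 : Janko.Tree (ℕ × ℕ) :=
  (.node (.node (.node (.node (.node (.node (.leaf (0, 0)) (.leaf (65, 2936))) (.node (.leaf (0, 0)) (.leaf (77, 2341)))) (.node (.node (.leaf (0, 0)) (.leaf (1, 2599))) (.node (.leaf (0, 0)) (.leaf (73, 3907))))) (.node (.node (.node (.leaf (0, 0)) (.leaf (44, 403))) (.node (.leaf (76, 1973)) (.leaf (73, 2133)))) (.node (.node (.leaf (1, 807)) (.leaf (0, 0))) (.node (.leaf (64, 1071)) (.leaf (1, 3879)))))) (.node (.node (.node (.node (.leaf (1, 167)) (.leaf (1, 2215))) (.node (.leaf (0, 0)) (.leaf (77, 2507)))) (.node (.node (.leaf (0, 0)) (.leaf (76, 3228))) (.node (.leaf (1, 1703)) (.leaf (76, 4010))))) (.node (.node (.node (.leaf (0, 0)) (.leaf (1, 2471))) (.node (.leaf (57, 571)) (.leaf (1, 3495)))) (.node (.node (.leaf (0, 0)) (.leaf (57, 299))) (.node (.leaf (1, 1959)) (.leaf (76, 3666))))))) (.node (.node (.node (.node (.node (.leaf (0, 0)) (.leaf (1, 2151))) (.node (.leaf (54, 524)) (.leaf (58, 2528)))) (.node (.node (.leaf (1, 615)) (.leaf (56, 1277))) (.node (.leaf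 (1, 1639)) (.leaf (77, 2738))))) (.node (.node (.node (.leaf (0, 0)) (.leaf (76, 3492))) (.node (.leaf (1, 1383)) (.leaf (76, 2704)))) (.node (.node (.leaf (43, 1064)) (.leaf (20, 3455))) (.node (.leaf (1, 1895)) (.leaf (76, 3093)))))) (.node (.node (.node (.node (.leaf (54, 71)) (.leaf (60, 3694))) (.node (.leaf (0, 0)) (.leaf (57, 3718)))) (.node (.node (.leaf (1, 1692)) (.leaf (1, 3662))) (.node (.leaf (77, 3276)) (.leaf (76, 4056))))) (.node (.node (.node (.leaf (0, 0)) (.leaf (0, 0))) (.node (.leaf (0, 0)) (.leaf (1, 3559)))) (.node (.node (.leaf (0, 0)) (.leaf (0, 0))) (.node (.leaf (0, 0)) (.leaf (40, 3753))))))))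

def twoVia158 : Janko.Tree (ℕ × ℕ) :=
  (.node (.node (.node (.node (.node (.node (.leaf (2, 39)) (.leaf (64, 2383))) (.node (.leaf (77, 3578)) (.leaf (77, 3725)))) (.node (.node (.leaf (10, 1348)) (.leaf (67, 2598))) (.node (.leaf (0, 0)) (.leaf (47, 2765))))) (.node (.node (.node (.leaf (0, 0)) (.leaf (2, 2343))) (.node (.leaf (2, 2687)) (.leaf (2, 3367)))) (.node (.node (.leaf (67, 1629)) (.leaf (2, 2855))) (.node (.leaf (2, 3327)) (.leaf (73, 3252)))))) (.node (.node (.node (.node (.leaf (59, 629)) (.leaf (2, 3559))) (.node (.leaf (2, 1191)) (.leaf (2, 3239)))) (.node (.node (.leaf (0, 0)) (.leaf (2, 2911))) (.node (.leaf (67, 117)) (.leaf (2, 3751))))) (.node (.node (.node (.leaf (0, 0)) (.leaf (5, 417))) (.node (.leaf (76, 3740)) (.leaf (43, 2356)))) (.node (.node (.leaf (6, 2148)) (.leaf (76, 1290))) (.node (.leaf (65, 1958)) (.leaf (77, 3952))))))) (.node (.node (.node (.node (.node (.leaf (0, 0)) (.leaf (65, 319))) (.node (.leaf (17, 677)) (.leaf (2, 3175)))) (.node (.node (.leaf (0, 0)) (.leaf (60,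 3728))) (.node (.leaf (0, 0)) (.leaf (77, 3749))))) (.node (.node (.node (.leaf (0, 0)) (.leaf (77, 2683))) (.node (.leaf (77, 1273)) (.leaf (66, 2790)))) (.node (.node (.leaf (2, 871)) (.leaf (0, 0))) (.node (.leaf (67, 2985)) (.leaf (31, 623)))))) (.node (.node (.node (.node (.leaf (8, 71)) (.leaf (0, 0))) (.node (.leaf (2, 1255)) (.leaf (59, 826)))) (.node (.node (.leaf (26, 743)) (.leaf (7, 1442))) (.node (.leaf (7, 714)) (.leaf (69, 3601))))) (.node (.node (.node (.leaf (2, 487)) (.leaf (67, 3667))) (.node (.leaf (0, 0)) (.leaf (67, 314)))) (.node (.node (.leaf (2, 1753)) (.leaf (71, 3813))) (.node (.leaf (2, 2023)) (.leaf (44, 3977))))))))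

def twoVia159 : Janko.Tree (ℕ × ℕ) :=
  (.node (.node (.node (.node (.node (.node (.leaf (0, 0)) (.leaf (67, 3634))) (.node (.leaf (0, 0)) (.leaf (0, 0)))) (.node (.node (.leaf (0, 0)) (.leaf (0, 0))) (.node (.leaf (0, 0)) (.leaf (71, 3762))))) (.node (.node (.node (.leaf (0, 0)) (.leaf (21, 3618))) (.node (.leaf (0, 0)) (.leaf (77, 3618)))) (.node (.node (.leaf (0, 0)) (.leaf (57, 200))) (.node (.leaf (0, 0)) (.leaf (48, 2730)))))) (.node (.node (.node (.node (.leaf (0, 0)) (.leaf (59, 1552))) (.node (.leaf (0, 0)) (.leaf (77, 3934)))) (.node (.node (.leaf (16, 3195)) (.leaf (21, 527))) (.node (.leaf (76, 1532)) (.leaf (71, 3766))))) (.node (.node (.node (.leaf (67, 305)) (.leaf (77, 3260))) (.node (.leaf (0, 0)) (.leaf (67, 87)))) (.node (.node (.leaf (0, 0)) (.leaf (66, 3678))) (.node (.leaf (67, 125)) (.leaf (4, 3453))))))) (.node (.node (.node (.node (.node (.leaf (0, 0)) (.leaf (0, 0))) (.node (.leaf (0, 0)) (.leaf (67, 1590)))) (.node (.node (.leaf (60, 3859)) (.leaf (66, 2160))) (.node (.leaf (0, 0))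 (.leaf (22, 2394))))) (.node (.node (.node (.leaf (5, 887)) (.leaf (74, 2784))) (.node (.leaf (73, 182)) (.leaf (71, 4072)))) (.node (.node (.leaf (46, 1064)) (.leaf (59, 4041))) (.node (.leaf (0, 0)) (.leaf (65, 2234)))))) (.node (.node (.node (.node (.leaf (0, 0)) (.leaf (4, 780))) (.node (.leaf (22, 1030)) (.leaf (4, 726)))) (.node (.node (.leaf (67, 2044)) (.leaf (71, 3927))) (.node (.leaf (77, 3130)) (.leaf (73, 3601))))) (.node (.node (.node (.leaf (0, 0)) (.leaf (50, 2719))) (.node (.leaf (0, 0)) (.leaf (60, 334)))) (.node (.node (.leaf (69, 3081)) (.leaf (65, 3911))) (.node (.leaf (0, 0)) (.leaf (25, 1880))))))))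

def twoVia160 : Janko.Tree (ℕ × ℕ) :=
  (.node (.node (.node (.node (.node (.node (.leaf (0, 0)) (.leaf (22, 2088))) (.node (.leaf (0, 1064)) (.leaf (0, 3112)))) (.node (.node (.leaf (0, 0)) (.leaf (41, 2600))) (.node (.leaf (41, 1576)) (.leaf (0, 3624))))) (.node (.node (.node (.leaf (0, 296)) (.leaf (71, 2344))) (.node (.leaf (30, 1319)) (.leaf (73, 3368)))) (.node (.node (.leaf (0, 0)) (.leaf (0, 2856))) (.node (.leaf (0, 0)) (.leaf (5, 3880)))))) (.node (.node (.node (.node (.leaf (0, 0)) (.leaf (10, 2120))) (.node (.leaf (76, 3263)) (.leaf (76, 3488)))) (.node (.node (.leaf (0, 680)) (.leaf (0, 2728))) (.node (.leaf (65, 1704)) (.leaf (62, 3752))))) (.node (.node (.node (.leaf (18, 243)) (.leaf (6, 2474))) (.node (.leaf (70, 60)) (.leaf (55, 2873)))) (.node (.node (.leaf (47, 119)) (.leaf (11, 1554))) (.node (.leaf (66, 1960)) (.leaf (71, 848))))))) (.node (.node (.node (.node (.node (.leaf (0, 0)) (.leaf (0, 0))) (.node (.leaf (0, 0)) (.leaf (67, 3176)))) (.node (.node (.leaf (8, 616)) (.leaf (0, 3769)))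 (.node (.leaf (0, 0)) (.leaf (76, 3688))))) (.node (.node (.node (.leaf (0, 360)) (.leaf (76, 2408))) (.node (.leaf (0, 1822)) (.leaf (0, 3432)))) (.node (.node (.leaf (0, 0)) (.leaf (0, 2920))) (.node (.leaf (57, 1329)) (.leaf (21, 3944)))))) (.node (.node (.node (.node (.leaf (62, 96)) (.leaf (0, 2280))) (.node (.leaf (0, 0)) (.leaf (74, 3304)))) (.node (.node (.leaf (0, 0)) (.leaf (0, 2792))) (.node (.leaf (75, 2086)) (.leaf (0, 3816))))) (.node (.node (.node (.leaf (0, 0)) (.leaf (62, 202))) (.node (.leaf (0, 0)) (.leaf (76, 3560)))) (.node (.node (.leaf (0, 0)) (.leaf (67, 3807))) (.node (.leaf (58, 2024)) (.leaf (0, 4072))))))))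

def twoVia161 : Janko.Tree (ℕ × ℕ) :=
  (.node (.node (.node (.node (.node (.node (.leaf (0, 0)) (.leaf (1, 2088))) (.node (.leaf (0, 0)) (.leaf (62, 1632)))) (.node (.node (.leaf (60, 512)) (.leaf (76, 3441))) (.node (.leaf (0, 0)) (.leaf (76, 2673))))) (.node (.node (.node (.leaf (0, 0)) (.leaf (76, 3767))) (.node (.leaf (1, 1320)) (.leaf (77, 1970)))) (.node (.node (.leaf (1, 808)) (.leaf (76, 2375))) (.node (.leaf (76, 3362)) (.leaf (76, 3204)))))) (.node (.node (.node (.node (.leaf (0, 0)) (.leaf (23, 3603))) (.node (.leaf (0, 0)) (.leaf (1, 3240)))) (.node (.node (.leaf (0, 0)) (.leaf (5, 1364))) (.node (.leaf (1, 2865)) (.leaf (76, 4024))))) (.node (.node (.node (.leaf (0, 0)) (.leaf (76, 3385))) (.node (.leaf (1, 2438)) (.leaf (77, 2747)))) (.node (.node (.leaf (1, 936)) (.leaf (76, 1841))) (.node (.leaf (76, 1372)) (.leaf (62, 1406))))))) (.node (.node (.node (.node (.node (.leaf (1, 104)) (.leaf (0, 0))) (.node (.leaf (32, 126)) (.leaf (53, 2112)))) (.node (.node (.leaf (0, 0)) (.leaf (1, 2664))) (.node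 (.leaf (76, 967)) (.leaf (1, 3688))))) (.node (.node (.node (.leaf (0, 0)) (.leaf (1, 2408))) (.node (.leaf (75, 2104)) (.leaf (76, 2648)))) (.node (.node (.leaf (1, 872)) (.leaf (0, 0))) (.node (.leaf (0, 0)) (.leaf (76, 3770)))))) (.node (.node (.node (.node (.leaf (0, 0)) (.leaf (44, 986))) (.node (.leaf (60, 3757)) (.leaf (1, 3304)))) (.node (.node (.leaf (1, 744)) (.leaf (1, 3777))) (.node (.leaf (0, 0)) (.leaf (76, 3978))))) (.node (.node (.node (.leaf (0, 0)) (.leaf (62, 2968))) (.node (.leaf (1, 1512)) (.leaf (67, 3830)))) (.node (.node (.leaf (1, 1000)) (.leaf (1, 3048))) (.node (.leaf (65, 427)) (.leaf (1, 4072))))))))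

def twoVia162 : Janko.Tree (ℕ × ℕ) :=
  (.node (.node (.node (.node (.node (.node (.leaf (0, 0)) (.leaf (73, 1107))) (.node (.leaf (2, 1064)) (.leaf (71, 100)))) (.node (.node (.leaf (2, 552)) (.leaf (62, 323))) (.node (.leaf (2, 1576)) (.leaf (67, 3303))))) (.node (.node (.node (.leaf (8, 748)) (.leaf (77, 3959))) (.node (.leaf (61, 1319)) (.leaf (77, 3506)))) (.node (.node (.leaf (0, 0)) (.leaf (2, 2856))) (.node (.leaf (0, 0)) (.leaf (67, 3615)))))) (.node (.node (.node (.node (.leaf (2, 168)) (.leaf (2, 2216))) (.node (.leaf (76, 2968)) (.leaf (62, 700)))) (.node (.node (.leaf (19, 1170)) (.leaf (77, 2209))) (.node (.leaf (67, 173)) (.leaf (70, 585))))) (.node (.node (.node (.leaf (2, 424)) (.leaf (2, 2472))) (.node (.leaf (0, 0)) (.leaf (2, 3496)))) (.node (.node (.leaf (0, 0)) (.leaf (2, 2984))) (.node (.leaf (2, 1960)) (.leaf (67, 788))))))) (.node (.node (.node (.node (.node (.leaf (0, 0)) (.leaf (0, 0))) (.node (.leaf (2, 1128)) (.leaf (65, 109)))) (.node (.node (.leaf (2, 616)) (.leaf (64, 3904)))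 (.node (.leaf (2, 1640)) (.leaf (77, 3359))))) (.node (.node (.node (.leaf (35, 53)) (.leaf (0, 0))) (.node (.leaf (2, 1384)) (.leaf (76, 3775)))) (.node (.node (.leaf (4, 872)) (.leaf (35, 3036))) (.node (.leaf (59, 1830)) (.leaf (2, 3944)))))) (.node (.node (.node (.node (.leaf (2, 232)) (.leaf (71, 1697))) (.node (.leaf (0, 0)) (.leaf (74, 3867)))) (.node (.node (.leaf (67, 1476)) (.leaf (66, 3553))) (.node (.leaf (2, 1768)) (.leaf (51, 3856))))) (.node (.node (.node (.leaf (66, 984)) (.leaf (40, 1161))) (.node (.leaf (67, 603)) (.leaf (2, 3560)))) (.node (.node (.leaf (0, 0)) (.leaf (52, 1297))) (.node (.leaf (66, 1373)) (.leaf (61, 1764))))))))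

def twoVia163 : Janko.Tree (ℕ × ℕ) :=
  (.node (.node (.node (.node (.node (.node (.leaf (24, 132)) (.leaf (0, 0))) (.node (.leaf (0, 0)) (.leaf (74, 2275)))) (.node (.node (.leaf (59, 17)) (.leaf (25, 690))) (.node (.leaf (0, 0)) (.leaf (50, 3433))))) (.node (.node (.node (.leaf (0, 0)) (.leaf (45, 2451))) (.node (.leaf (77, 3402)) (.leaf (44, 4085)))) (.node (.node (.leaf (0, 0)) (.leaf (65, 52))) (.node (.leaf (0, 0)) (.leaf (66, 1496)))))) (.node (.node (.node (.node (.leaf (0, 0)) (.leaf (59, 565))) (.node (.leaf (24, 236)) (.leaf (71, 2827)))) (.node (.node (.leaf (0, 0)) (.leaf (77, 938))) (.node (.leaf (67, 1689)) (.leaf (59, 2424))))) (.node (.node (.node (.leaf (0, 0)) (.leaf (69, 4048))) (.node (.leaf (59, 279)) (.leaf (77, 1371)))) (.node (.node (.leaf (0, 0)) (.leaf (0, 0))) (.node (.leaf (66, 1042)) (.leaf (67, 224))))))) (.node (.node (.node (.node (.node (.leaf (0, 0)) (.leaf (69, 3866))) (.node (.leaf (0, 0)) (.leaf (55, 634)))) (.node (.node (.leaf (0, 0)) (.leaf (64, 2081))) (.node (.leaf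 (0, 0)) (.leaf (73, 3687))))) (.node (.node (.node (.leaf (0, 0)) (.leaf (0, 0))) (.node (.leaf (77, 1322)) (.leaf (55, 3712)))) (.node (.node (.leaf (0, 0)) (.leaf (0, 0))) (.node (.leaf (4, 270)) (.leaf (14, 2298)))))) (.node (.node (.node (.node (.leaf (0, 0)) (.leaf (77, 1073))) (.node (.leaf (67, 3757)) (.leaf (61, 1837)))) (.node (.node (.leaf (0, 0)) (.leaf (41, 194))) (.node (.leaf (77, 3598)) (.leaf (65, 549))))) (.node (.node (.node (.leaf (64, 2410)) (.leaf (77, 3755))) (.node (.leaf (0, 0)) (.leaf (77, 2781)))) (.node (.node (.leaf (0, 0)) (.leaf (57, 656))) (.node (.leaf (67, 298)) (.leaf (65, 3645))))))))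

def twoVia164 : Janko.Tree (ℕ × ℕ) :=
  (.node (.node (.node (.node (.node (.node (.leaf (0, 41)) (.leaf (73, 2089))) (.node (.leaf (73, 3633)) (.leaf (0, 3113)))) (.node (.node (.leaf (0, 0)) (.leaf (0, 2601))) (.node (.leaf (76, 2777)) (.leaf (0, 3625))))) (.node (.node (.node (.leaf (67, 53)) (.leaf (0, 2345))) (.node (.leaf (15, 1321)) (.leaf (22, 3369)))) (.node (.node (.leaf (69, 2629)) (.leaf (28, 201))) (.node (.leaf (24, 1833)) (.leaf (70, 1062)))))) (.node (.node (.node (.node (.leaf (0, 0)) (.leaf (76, 2217))) (.node (.leaf (0, 1193)) (.leaf (0, 3241)))) (.node (.node (.leaf (0, 0)) (.leaf (73, 2054))) (.node (.leaf (0, 1705)) (.leaf (0, 3753))))) (.node (.node (.node (.leaf (0, 0)) (.leaf (71, 3736))) (.node (.leaf (0, 0)) (.leaf (74, 3974)))) (.node (.node (.leaf (0, 0)) (.leaf (54, 2985))) (.node (.leaf (73, 1428)) (.leaf (69, 1053))))))) (.node (.node (.node (.node (.node (.leaf (62, 343)) (.leaf (0, 2153))) (.node (.leaf (0, 1129)) (.leaf (66, 1359)))) (.node (.node (.leaf (35, 64)) (.leaf (76,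 2665))) (.node (.leaf (59, 345)) (.leaf (67, 3689))))) (.node (.node (.node (.leaf (0, 0)) (.leaf (72, 2932))) (.node (.leaf (70, 3844)) (.leaf (0, 3433)))) (.node (.node (.leaf (0, 0)) (.leaf (22, 2921))) (.node (.leaf (77, 2072)) (.leaf (60, 1951)))))) (.node (.node (.node (.node (.leaf (0, 0)) (.leaf (73, 2281))) (.node (.leaf (8, 159)) (.leaf (71, 1665)))) (.node (.node (.leaf (70, 1831)) (.leaf (73, 1571))) (.node (.leaf (0, 0)) (.leaf (0, 3817))))) (.node (.node (.node (.leaf (0, 0)) (.leaf (77, 3880))) (.node (.leaf (0, 0)) (.leaf (73, 3561)))) (.node (.node (.leaf (75, 3587)) (.leaf (76, 3049))) (.node (.leaf (0, 0)) (.leaf (76, 4073))))))))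

def twoVia165 : Janko.Tree (ℕ × ℕ) :=
  (.node (.node (.node (.node (.node (.node (.leaf (0, 0)) (.leaf (73, 791))) (.node (.leaf (1, 2234)) (.leaf (0, 0)))) (.node (.node (.leaf (66, 3665)) (.leaf (77, 1226))) (.node (.leaf (65, 502)) (.leaf (76, 2222))))) (.node (.node (.node (.leaf (1, 297)) (.leaf (0, 0))) (.node (.leaf (14, 2385)) (.leaf (1, 3909)))) (.node (.node (.leaf (0, 0)) (.leaf (0, 0))) (.node (.leaf (64, 2821)) (.leaf (77, 1062)))))) (.node (.node (.node (.node (.leaf (0, 0)) (.leaf (1, 2217))) (.node (.leaf (12, 450)) (.leaf (77, 2372)))) (.node (.node (.leaf (1, 681)) (.leaf (75, 3540))) (.node (.leaf (0, 0)) (.leaf (58, 3231))))) (.node (.node (.node (.leaf (0, 0)) (.leaf (73, 1158))) (.node (.leaf (1, 1449)) (.leaf (77, 2788)))) (.node (.node (.leaf (76, 2209)) (.leaf (1, 2985))) (.node (.leaf (0, 0)) (.leaf (76, 3744))))))) (.node (.node (.node (.node (.node (.leaf (0, 0)) (.leaf (17, 3573))) (.node (.leaf (0, 0)) (.leaf (1, 3177)))) (.node (.node (.leaf (0, 0)) (.leaf (76, 885))) (.node (.leaf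 (0, 0)) (.leaf (76, 3908))))) (.node (.node (.node (.leaf (76, 998)) (.leaf (76, 3131))) (.node (.leaf (1, 1385)) (.leaf (59, 1908)))) (.node (.node (.leaf (0, 0)) (.leaf (1, 2921))) (.node (.leaf (1, 1897)) (.leaf (1, 3945)))))) (.node (.node (.node (.node (.leaf (0, 0)) (.leaf (76, 3031))) (.node (.leaf (0, 0)) (.leaf (0, 0)))) (.node (.node (.leaf (60, 828)) (.leaf (1, 3577))) (.node (.leaf (18, 2847)) (.leaf (35, 2805))))) (.node (.node (.node (.leaf (1, 489)) (.leaf (1, 2537))) (.node (.leaf (0, 0)) (.leaf (62, 3820)))) (.node (.node (.leaf (0, 0)) (.leaf (0, 0))) (.node (.leaf (1, 2025)) (.leaf (1, 4073))))))))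

def twoVia166 : Janko.Tree (ℕ × ℕ) :=
  (.node (.node (.node (.node (.node (.node (.leaf (0, 0)) (.leaf (67, 2875))) (.node (.leaf (0, 0)) (.leaf (74, 1400)))) (.node (.node (.leaf (0, 0)) (.leaf (77, 2653))) (.node (.leaf (0, 0)) (.leaf (34, 2242))))) (.node (.node (.node (.leaf (0, 0)) (.leaf (74, 2066))) (.node (.leaf (2, 1321)) (.leaf (76, 3608)))) (.node (.node (.leaf (2, 809)) (.leaf (2, 3835))) (.node (.leaf (67, 1071)) (.leaf (77, 2571)))))) (.node (.node (.node (.node (.leaf (0, 0)) (.leaf (43, 3605))) (.node (.leaf (67, 1699)) (.leaf (76, 3813)))) (.node (.node (.leaf (0, 0)) (.leaf (2, 2729))) (.node (.leaf (8, 686)) (.leaf (62, 228))))) (.node (.node (.node (.leaf (0, 0)) (.leaf (76, 1871))) (.node (.leaf (27, 1111)) (.leaf (2, 3497)))) (.node (.node (.leaf (2, 2144)) (.leaf (58, 965))) (.node (.leaf (76, 2472)) (.leaf (67, 781))))))) (.node (.node (.node (.node (.node (.leaf (2, 105)) (.leaf (0, 0))) (.node (.leaf (2, 1688)) (.leaf (2, 3177)))) (.node (.node (.leaf (2, 617)) (.leaf (74, 3275)))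 (.node (.leaf (0, 0)) (.leaf (2, 3689))))) (.node (.node (.node (.leaf (2, 361)) (.leaf (4, 2409))) (.node (.leaf (0, 0)) (.leaf (8, 1908)))) (.node (.node (.leaf (2, 873)) (.leaf (76, 3670))) (.node (.leaf (76, 2572)) (.leaf (66, 126)))))) (.node (.node (.node (.node (.leaf (0, 0)) (.leaf (2, 2281))) (.node (.leaf (2, 1257)) (.leaf (62, 3693)))) (.node (.node (.leaf (77, 1405)) (.leaf (22, 3136))) (.node (.leaf (35, 22)) (.leaf (67, 3848))))) (.node (.node (.node (.leaf (0, 0)) (.leaf (2, 2827))) (.node (.leaf (2, 1513)) (.leaf (40, 1576)))) (.node (.node (.leaf (2, 1001)) (.leaf (2, 3049))) (.node (.leaf (67, 1271)) (.leaf (2, 4073))))))))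

def twoVia167 : Janko.Tree (ℕ × ℕ) :=
  (.node (.node (.node (.node (.node (.node (.leaf (0, 0)) (.leaf (0, 0))) (.node (.leaf (24, 363)) (.leaf (8, 1631)))) (.node (.node (.leaf (0, 0)) (.leaf (65, 3452))) (.node (.leaf (58, 1287)) (.leaf (73, 3623))))) (.node (.node (.node (.leaf (0, 0)) (.leaf (74, 2680))) (.node (.leaf (0, 0)) (.leaf (4, 3855)))) (.node (.node (.leaf (62, 1967)) (.leaf (67, 1691))) (.node (.leaf (0, 0)) (.leaf (4, 3161)))))) (.node (.node (.node (.node (.leaf (0, 0)) (.leaf (74, 3123))) (.node (.leaf (0, 0)) (.leaf (75, 3981)))) (.node (.node (.leaf (64, 1359)) (.leaf (77, 1080))) (.node (.leaf (0, 0)) (.leaf (47, 1307))))) (.node (.node (.node (.leaf (0, 0)) (.leaf (67, 2115))) (.node (.leaf (57, 621)) (.leaf (77, 3996)))) (.node (.node (.leaf (4, 103)) (.leaf (70, 965))) (.node (.leaf (65, 1923)) (.leaf (4, 1656))))))) (.node (.node (.node (.node (.node (.leaf (0, 0)) (.leaf (66, 3751))) (.node (.leaf (0, 0)) (.leaf (76, 706)))) (.node (.node (.leaf (0, 0)) (.leaf (74, 2059))) (.node (.leaf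 (7, 1104)) (.leaf (76, 3087))))) (.node (.node (.node (.leaf (59, 10)) (.leaf (75, 3678))) (.node (.leaf (77, 2495)) (.leaf (43, 3911)))) (.node (.node (.leaf (0, 0)) (.leaf (44, 204))) (.node (.leaf (67, 1850)) (.leaf (66, 1688)))))) (.node (.node (.node (.node (.leaf (0, 0)) (.leaf (74, 688))) (.node (.leaf (0, 0)) (.leaf (40, 3541)))) (.node (.node (.leaf (0, 0)) (.leaf (7, 3585))) (.node (.leaf (73, 3398)) (.leaf (20, 3194))))) (.node (.node (.node (.leaf (0, 0)) (.leaf (71, 3603))) (.node (.leaf (0, 0)) (.leaf (0, 0)))) (.node (.node (.leaf (77, 3408)) (.leaf (22, 2242))) (.node (.leaf (53, 456)) (.leaf (59, 1407))))))))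

def twoVia168 : Janko.Tree (ℕ × ℕ) :=
  (.node (.node (.node (.node (.node (.node (.leaf (0, 0)) (.leaf (0, 0))) (.node (.leaf (0, 1066)) (.leaf (75, 3591)))) (.node (.node (.leaf (0, 0)) (.leaf (73, 2602))) (.node (.leaf (0, 1578)) (.leaf (62, 3000))))) (.node (.node (.node (.leaf (0, 0)) (.leaf (0, 3465))) (.node (.leaf (73, 2819)) (.leaf (0, 3370)))) (.node (.node (.leaf (67, 810)) (.leaf (0, 2858))) (.node (.leaf (0, 0)) (.leaf (41, 318)))))) (.node (.node (.node (.node (.leaf (0, 170)) (.leaf (71, 3324))) (.node (.leaf (71, 351)) (.leaf (34, 2621)))) (.node (.node (.leaf (10, 141)) (.leaf (76, 2730))) (.node (.leaf (73, 1706)) (.leaf (75, 3742))))) (.node (.node (.node (.leaf (0, 426)) (.leaf (0, 2474))) (.node (.leaf (77, 3718)) (.leaf (34, 1198)))) (.node (.node (.leaf (0, 938)) (.leaf (0, 2986))) (.node (.leaf (43, 1870)) (.leaf (73, 4010))))))) (.node (.node (.node (.node (.node (.leaf (0, 0)) (.leaf (0, 2154))) (.node (.leaf (12, 1130)) (.leaf (0, 3178)))) (.node (.node (.leaf (0, 0)) (.leaf (76, 2666)))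 (.node (.leaf (0, 1642)) (.leaf (76, 3690))))) (.node (.node (.node (.leaf (0, 0)) (.leaf (76, 2410))) (.node (.leaf (75, 1439)) (.leaf (44, 3434)))) (.node (.node (.leaf (76, 3672)) (.leaf (0, 0))) (.node (.leaf (50, 786)) (.leaf (0, 3946)))))) (.node (.node (.node (.node (.leaf (59, 234)) (.leaf (43, 355))) (.node (.leaf (0, 0)) (.leaf (0, 0)))) (.node (.node (.leaf (0, 746)) (.leaf (76, 2794))) (.node (.leaf (62, 2547)) (.leaf (77, 3818))))) (.node (.node (.node (.leaf (76, 1694)) (.leaf (76, 2538))) (.node (.leaf (0, 0)) (.leaf (17, 869)))) (.node (.node (.leaf (76, 1218)) (.leaf (51, 3050))) (.node (.leaf (0, 2026)) (.leaf (67, 3880))))))))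

def twoVia169 : Janko.Tree (ℕ × ℕ) :=
  (.node (.node (.node (.node (.node (.node (.leaf (0, 0)) (.leaf (1, 2090))) (.node (.leaf (76, 389)) (.leaf (1, 3114)))) (.node (.node (.leaf (1, 554)) (.leaf (76, 845))) (.node (.leaf (55, 1400)) (.leaf (1, 3626))))) (.node (.node (.node (.leaf (0, 0)) (.leaf (0, 0))) (.node (.leaf (77, 1715)) (.leaf (76, 2580)))) (.node (.node (.leaf (1, 810)) (.leaf (49, 1484))) (.node (.leaf (43, 1663)) (.leaf (1, 3882)))))) (.node (.node (.node (.node (.leaf (0, 0)) (.leaf (66, 2842))) (.node (.leaf (0, 0)) (.leaf (1, 3242)))) (.node (.node (.leaf (0, 0)) (.leaf (1, 2730))) (.node (.leaf (0, 0)) (.leaf (76, 3932))))) (.node (.node (.node (.leaf (59, 140)) (.leaf (76, 3757))) (.node (.leaf (65, 3037)) (.leaf (72, 2722)))) (.node (.node (.leaf (56, 331)) (.leaf (1, 2986))) (.node (.leaf (1, 1962)) (.leaf (61, 3751))))))) (.node (.node (.node (.node (.node (.leaf (0, 0)) (.leaf (77, 3168))) (.node (.leaf (1, 1130)) (.leaf (77, 2775)))) (.node (.node (.leaf (0, 0)) (.leaf (1, 3613)))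 (.node (.leaf (54, 656)) (.leaf (76, 4083))))) (.node (.node (.node (.leaf (0, 0)) (.leaf (1, 2410))) (.node (.leaf (76, 4048)) (.leaf (1, 3434)))) (.node (.node (.leaf (0, 0)) (.leaf (76, 2031))) (.node (.leaf (1, 1898)) (.leaf (77, 3011)))))) (.node (.node (.node (.node (.leaf (1, 234)) (.leaf (1, 2282))) (.node (.leaf (0, 0)) (.leaf (1, 3306)))) (.node (.node (.leaf (76, 1554)) (.leaf (1, 2794))) (.node (.leaf (66, 678)) (.leaf (1, 3818))))) (.node (.node (.node (.leaf (0, 0)) (.leaf (77, 3383))) (.node (.leaf (0, 0)) (.leaf (0, 0)))) (.node (.node (.leaf (1, 1002)) (.leaf (76, 1764))) (.node (.leaf (62, 748)) (.leaf (1, 4074))))))))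

def twoVia170 : Janko.Tree (ℕ × ℕ) :=
  (.node (.node (.node (.node (.node (.node (.leaf (2, 42)) (.leaf (60, 1253))) (.node (.leaf (67, 1580)) (.leaf (77, 3039)))) (.node (.node (.leaf (0, 0)) (.leaf (77, 4029))) (.node (.leaf (10, 2856)) (.leaf (60, 1582))))) (.node (.node (.node (.leaf (2, 743)) (.leaf (2, 2346))) (.node (.leaf (2, 2466)) (.leaf (67, 2698)))) (.node (.node (.leaf (67, 88)) (.leaf (71, 3332))) (.node (.leaf (0, 0)) (.leaf (76, 2605)))))) (.node (.node (.node (.node (.leaf (0, 0)) (.leaf (0, 0))) (.node (.leaf (73, 511)) (.leaf (66, 3221)))) (.node (.node (.leaf (2, 682)) (.leaf (2, 2998))) (.node (.leaf (74, 3479)) (.leaf (2, 3754))))) (.node (.node (.node (.leaf (0, 0)) (.leaf (6, 1136))) (.node (.leaf (0, 0)) (.leaf (4, 3498)))) (.node (.node (.leaf (19, 907)) (.leaf (74, 707))) (.node (.leaf (67, 813)) (.leaf (22, 3903))))))) (.node (.node (.node (.node (.node (.leaf (0, 0)) (.leaf (77, 2470))) (.node (.leaf (58, 1129)) (.leaf (7, 1678)))) (.node (.node (.leaf (0, 0)) (.leaf (22, 164)))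 (.node (.leaf (62, 1807)) (.leaf (2, 3690))))) (.node (.node (.node (.leaf (0, 0)) (.leaf (2, 3717))) (.node (.leaf (0, 0)) (.leaf (67, 3904)))) (.node (.node (.leaf (76, 759)) (.leaf (2, 2922))) (.node (.leaf (57, 271)) (.leaf (77, 2490)))))) (.node (.node (.node (.node (.leaf (28, 979)) (.leaf (77, 2182))) (.node (.leaf (0, 0)) (.leaf (67, 3999)))) (.node (.node (.leaf (67, 1704)) (.leaf (76, 2792))) (.node (.leaf (67, 3059)) (.leaf (76, 2529))))) (.node (.node (.node (.leaf (2, 490)) (.leaf (77, 1623))) (.node (.leaf (0, 0)) (.leaf (2, 3562)))) (.node (.node (.leaf (35, 1300)) (.leaf (2, 3050))) (.node (.leaf (0, 0)) (.leaf (69, 2181))))))))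

def twoVia171 : Janko.Tree (ℕ × ℕ) :=
  (.node (.node (.node (.node (.node (.node (.leaf (0, 0)) (.leaf (76, 1797))) (.node (.leaf (67, 752)) (.leaf (74, 2115)))) (.node (.node (.leaf (65, 138)) (.leaf (44, 3208))) (.node (.leaf (0, 0)) (.leaf (71, 3625))))) (.node (.node (.node (.leaf (26, 80)) (.leaf (74, 3980))) (.node (.leaf (8, 170)) (.leaf (66, 774)))) (.node (.node (.leaf (0, 0)) (.leaf (20, 1506))) (.node (.leaf (67, 750)) (.leaf (57, 3917)))))) (.node (.node (.node (.node (.leaf (0, 0)) (.leaf (4, 3468))) (.node (.leaf (14, 1445)) (.leaf (21, 1733)))) (.node (.node (.leaf (0, 0)) (.leaf (69, 2738))) (.node (.leaf (67, 2175)) (.leaf (74, 3849))))) (.node (.node (.node (.leaf (0, 0)) (.leaf (67, 1853))) (.node (.leaf (67, 2864)) (.leaf (71, 78)))) (.node (.node (.leaf (0, 0)) (.leaf (4, 618))) (.node (.leaf (0, 0)) (.leaf (73, 2961))))))) (.node (.node (.node (.node (.node (.leaf (26, 902)) (.leaf (73, 923))) (.node (.leaf (74, 3766)) (.leaf (55, 2723)))) (.node (.node (.leaf (0, 0)) (.leaf (73, 4090)))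 (.node (.leaf (75, 3694)) (.leaf (59, 389))))) (.node (.node (.node (.leaf (59, 107)) (.leaf (67, 2631))) (.node (.leaf (0, 0)) (.leaf (76, 3433)))) (.node (.node (.leaf (0, 0)) (.leaf (73, 4062))) (.node (.leaf (0, 0)) (.leaf (22, 797)))))) (.node (.node (.node (.node (.leaf (0, 0)) (.leaf (0, 0))) (.node (.leaf (40, 3456)) (.leaf (66, 3359)))) (.node (.node (.leaf (0, 0)) (.leaf (21, 1160))) (.node (.leaf (65, 859)) (.leaf (66, 1771))))) (.node (.node (.node (.leaf (57, 1297)) (.leaf (4, 929))) (.node (.leaf (67, 3901)) (.leaf (66, 121)))) (.node (.node (.leaf (0, 0)) (.leaf (0, 0))) (.node (.leaf (73, 1827)) (.leaf (67, 3451))))))))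

def twoVia172 : Janko.Tree (ℕ × ℕ) :=
  (.node (.node (.node (.node (.node (.node (.leaf (0, 0)) (.leaf (0, 0))) (.node (.leaf (67, 1067)) (.leaf (0, 0)))) (.node (.node (.leaf (65, 1620)) (.leaf (73, 2603))) (.node (.leaf (0, 0)) (.leaf (73, 3536))))) (.node (.node (.node (.leaf (0, 299)) (.leaf (0, 0))) (.node (.leaf (0, 1323)) (.leaf (0, 0)))) (.node (.node (.leaf (0, 0)) (.leaf (65, 2859))) (.node (.leaf (0, 1835)) (.leaf (0, 3883)))))) (.node (.node (.node (.node (.leaf (0, 0)) (.leaf (64, 2219))) (.node (.leaf (0, 0)) (.leaf (0, 3243)))) (.node (.node (.leaf (60, 655)) (.leaf (71, 3467))) (.node (.leaf (76, 1707)) (.leaf (76, 3755))))) (.node (.node (.node (.leaf (0, 0)) (.leaf (34, 3540))) (.node (.leaf (0, 0)) (.leaf (71, 1986)))) (.node (.node (.leaf (0, 939)) (.leaf (67, 2987))) (.node (.leaf (0, 0)) (.leaf (75, 3978))))))) (.node (.node (.node (.node (.node (.leaf (0, 107)) (.leaf (76, 2383))) (.node (.leaf (0, 0)) (.leaf (57, 577)))) (.node (.node (.leaf (34, 1486)) (.leaf (0, 2667))) (.node (.leaf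 (0, 3059)) (.leaf (0, 3691))))) (.node (.node (.node (.leaf (0, 363)) (.leaf (24, 3630))) (.node (.leaf (0, 1387)) (.leaf (18, 799)))) (.node (.node (.leaf (0, 875)) (.leaf (66, 2923))) (.node (.leaf (0, 1899)) (.leaf (73, 2679)))))) (.node (.node (.node (.node (.leaf (8, 235)) (.leaf (0, 2283))) (.node (.leaf (75, 3334)) (.leaf (0, 3307)))) (.node (.node (.leaf (0, 0)) (.leaf (44, 2685))) (.node (.leaf (67, 1701)) (.leaf (65, 3819))))) (.node (.node (.node (.leaf (71, 833)) (.leaf (0, 2539))) (.node (.leaf (0, 1515)) (.leaf (0, 3563)))) (.node (.node (.leaf (22, 1003)) (.leaf (21, 3051))) (.node (.leaf (37, 2025)) (.leaf (69, 2936))))))))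

def twoVia173 : Janko.Tree (ℕ × ℕ) :=
  (.node (.node (.node (.node (.node (.node (.leaf (0, 0)) (.leaf (0, 0))) (.node (.leaf (41, 360)) (.leaf (77, 2643)))) (.node (.node (.leaf (0, 0)) (.leaf (1, 2603))) (.node (.leaf (0, 0)) (.leaf (73, 2787))))) (.node (.node (.node (.leaf (0, 0)) (.leaf (1, 2347))) (.node (.leaf (61, 509)) (.leaf (1, 3917)))) (.node (.node (.leaf (0, 0)) (.leaf (1, 2859))) (.node (.leaf (48, 747)) (.leaf (65, 2896)))))) (.node (.node (.node (.node (.leaf (1, 171)) (.leaf (66, 953))) (.node (.leaf (1, 1195)) (.leaf (0, 0)))) (.node (.node (.leaf (0, 0)) (.leaf (1, 2731))) (.node (.leaf (1, 1707)) (.leaf (1, 3755))))) (.node (.node (.node (.leaf (1, 427)) (.leaf (1, 2475))) (.node (.leaf (65, 341)) (.leaf (76, 4049)))) (.node (.node (.leaf (1, 939)) (.leaf (40, 3921))) (.node (.leaf (77, 3477)) (.leaf (76, 3816))))))) (.node (.node (.node (.node (.node (.leaf (54, 1)) (.leaf (14, 3584))) (.node (.leaf (66, 509)) (.leaf (75, 3945)))) (.node (.node (.leaf (1, 619)) (.leaf (76, 1286))) (.node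 (.leaf (0, 0)) (.leaf (76, 2518))))) (.node (.node (.node (.leaf (0, 0)) (.leaf (18, 3694))) (.node (.leaf (76, 2463)) (.leaf (61, 3432)))) (.node (.node (.leaf (0, 0)) (.leaf (1, 2923))) (.node (.leaf (0, 0)) (.leaf (1, 3947)))))) (.node (.node (.node (.node (.leaf (0, 0)) (.leaf (73, 988))) (.node (.leaf (1, 1259)) (.leaf (76, 3869)))) (.node (.node (.leaf (0, 0)) (.leaf (43, 2534))) (.node (.leaf (60, 1533)) (.leaf (76, 3663))))) (.node (.node (.node (.leaf (0, 0)) (.leaf (58, 1214))) (.node (.leaf (0, 0)) (.leaf (57, 2080)))) (.node (.node (.leaf (0, 0)) (.leaf (0, 0))) (.node (.leaf (1, 2027)) (.leaf (71, 3810))))))))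

def twoVia174 : Janko.Tree (ℕ × ℕ) :=
  (.node (.node (.node (.node (.node (.node (.leaf (0, 0)) (.leaf (2, 2091))) (.node (.leaf (2, 1067)) (.leaf (77, 3665)))) (.node (.node (.leaf (2, 555)) (.leaf (74, 2509))) (.node (.leaf (0, 0)) (.leaf (2, 3627))))) (.node (.node (.node (.leaf (6, 853)) (.leaf (77, 4037))) (.node (.leaf (32, 487)) (.leaf (2, 3371)))) (.node (.node (.leaf (0, 0)) (.leaf (0, 0))) (.node (.leaf (48, 3333)) (.leaf (77, 4065)))))) (.node (.node (.node (.node (.leaf (10, 373)) (.leaf (2, 3601))) (.node (.leaf (0, 0)) (.leaf (73, 3943)))) (.node (.node (.leaf (2, 683)) (.leaf (76, 1884))) (.node (.leaf (2, 1707)) (.leaf (2, 3755))))) (.node (.node (.node (.leaf (0, 0)) (.leaf (71, 1853))) (.node (.leaf (0, 0)) (.leaf (77, 3090)))) (.node (.node (.leaf (67, 43)) (.leaf (67, 2947))) (.node (.leaf (0, 0)) (.leaf (2, 4011))))))) (.node (.node (.node (.node (.node (.leaf (0, 0)) (.leaf (2, 2155))) (.node (.leaf (0, 0)) (.leaf (2, 3179)))) (.node (.node (.leaf (0, 0)) (.leaf (68, 2768))) (.node (.leaf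 (2, 1643)) (.leaf (73, 4003))))) (.node (.node (.node (.leaf (51, 120)) (.leaf (59, 2279))) (.node (.leaf (2, 2745)) (.leaf (66, 1949)))) (.node (.node (.leaf (0, 0)) (.leaf (65, 600))) (.node (.leaf (69, 450)) (.leaf (77, 2511)))))) (.node (.node (.node (.node (.leaf (2, 235)) (.leaf (77, 4043))) (.node (.leaf (77, 998)) (.leaf (7, 1794)))) (.node (.node (.leaf (0, 0)) (.leaf (64, 2685))) (.node (.leaf (2, 1771)) (.leaf (67, 607))))) (.node (.node (.node (.leaf (71, 1823)) (.leaf (2, 2539))) (.node (.leaf (0, 0)) (.leaf (2, 3563)))) (.node (.node (.leaf (16, 385)) (.leaf (74, 1947))) (.node (.leaf (0, 0)) (.leaf (2, 4075))))))))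

def twoVia175 : Janko.Tree (ℕ × ℕ) :=
  (.node (.node (.node (.node (.node (.node (.leaf (0, 0)) (.leaf (76, 2560))) (.node (.leaf (59, 37)) (.leaf (0, 0)))) (.node (.node (.leaf (0, 0)) (.leaf (20, 3053))) (.node (.leaf (64, 214)) (.leaf (22, 4026))))) (.node (.node (.node (.leaf (0, 0)) (.leaf (73, 4032))) (.node (.leaf (0, 0)) (.leaf (71, 3643)))) (.node (.node (.leaf (67, 27)) (.leaf (65, 259))) (.node (.leaf (0, 0)) (.leaf (75, 3673)))))) (.node (.node (.node (.node (.leaf (0, 0)) (.leaf (54, 886))) (.node (.leaf (57, 1747)) (.leaf (40, 2894)))) (.node (.node (.leaf (0, 0)) (.leaf (67, 1735))) (.node (.leaf (0, 0)) (.leaf (73, 2887))))) (.node (.node (.node (.leaf (58, 3123)) (.leaf (77, 3008))) (.node (.leaf (59, 1589)) (.leaf (58, 1727)))) (.node (.node (.leaf (60, 401)) (.leaf (57, 3117))) (.node (.leaf (67, 26)) (.leaf (76, 2800))))))) (.node (.node (.node (.node (.node (.leaf (0, 0)) (.leaf (75, 4095))) (.node (.leaf (4, 137)) (.leaf (25, 2291)))) (.node (.node (.leaf (0, 0)) (.leaf (31, 171))) (.node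 (.leaf (0, 0)) (.leaf (8, 2272))))) (.node (.node (.node (.leaf (0, 0)) (.leaf (67, 2435))) (.node (.leaf (67, 3471)) (.leaf (21, 2919)))) (.node (.node (.leaf (0, 0)) (.leaf (0, 0))) (.node (.leaf (58, 3147)) (.leaf (66, 1517)))))) (.node (.node (.node (.node (.leaf (26, 156)) (.leaf (77, 3241))) (.node (.leaf (76, 3365)) (.leaf (77, 1833)))) (.node (.node (.leaf (0, 0)) (.leaf (77, 2685))) (.node (.leaf (0, 0)) (.leaf (76, 1723))))) (.node (.node (.node (.leaf (0, 0)) (.leaf (65, 2886))) (.node (.leaf (0, 0)) (.leaf (69, 3624)))) (.node (.node (.leaf (19, 399)) (.leaf (43, 110))) (.node (.leaf (0, 0)) (.leaf (76, 2664))))))))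

def twoVia176 : Janko.Tree (ℕ × ℕ) :=
  (.node (.node (.node (.node (.node (.node (.leaf (0, 44)) (.leaf (70, 4062))) (.node (.leaf (0, 0)) (.leaf (75, 3078)))) (.node (.node (.leaf (66, 556)) (.leaf (77, 2604))) (.node (.leaf (0, 1580)) (.leaf (67, 3628))))) (.node (.node (.node (.leaf (0, 0)) (.leaf (73, 3723))) (.node (.leaf (48, 1324)) (.leaf (66, 3217)))) (.node (.node (.leaf (0, 812)) (.leaf (76, 3062))) (.node (.leaf (65, 1836)) (.leaf (48, 3884)))))) (.node (.node (.node (.node (.leaf (0, 0)) (.leaf (71, 3466))) (.node (.leaf (0, 0)) (.leaf (0, 3244)))) (.node (.node (.leaf (32, 1028)) (.leaf (67, 3824))) (.node (.leaf (0, 0)) (.leaf (0, 3756))))) (.node (.node (.node (.leaf (0, 0)) (.leaf (22, 2476))) (.node (.leaf (0, 0)) (.leaf (67, 3728)))) (.node (.node (.leaf (0, 0)) (.leaf (65, 2988))) (.node (.leaf (0, 1964)) (.leaf (0, 4012))))))) (.node (.node (.node (.node (.node (.leaf (28, 108)) (.leaf (32, 320))) (.node (.leaf (0, 1132)) (.leaf (0, 0)))) (.node (.node (.leaf (0, 0)) (.leaf (73, 2668)))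 (.node (.leaf (73, 2014)) (.leaf (21, 3692))))) (.node (.node (.node (.leaf (0, 0)) (.leaf (0, 2837))) (.node (.leaf (53, 1128)) (.leaf (0, 3436)))) (.node (.node (.leaf (0, 0)) (.leaf (6, 2924))) (.node (.leaf (0, 0)) (.leaf (20, 3946)))))) (.node (.node (.node (.node (.leaf (0, 236)) (.leaf (77, 2314))) (.node (.leaf (75, 3549)) (.leaf (8, 3308)))) (.node (.node (.leaf (0, 748)) (.leaf (15, 1023))) (.node (.leaf (0, 2905)) (.leaf (71, 1380))))) (.node (.node (.node (.leaf (0, 492)) (.leaf (73, 1220))) (.node (.leaf (76, 1516)) (.leaf (0, 4063)))) (.node (.node (.leaf (0, 1004)) (.leaf (77, 3703))) (.node (.leaf (66, 2028)) (.leaf (30, 4076))))))))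

def twoVia177 : Janko.Tree (ℕ × ℕ) :=
  (.node (.node (.node (.node (.node (.node (.leaf (0, 0)) (.leaf (0, 0))) (.node (.leaf (25, 2038)) (.leaf (76, 4015)))) (.node (.node (.leaf (0, 0)) (.leaf (74, 3601))) (.node (.leaf (67, 629)) (.leaf (31, 2093))))) (.node (.node (.node (.leaf (1, 300)) (.leaf (74, 2990))) (.node (.leaf (59, 2033)) (.leaf (60, 3725)))) (.node (.node (.leaf (67, 285)) (.leaf (1, 2860))) (.node (.leaf (1, 1836)) (.leaf (64, 3534)))))) (.node (.node (.node (.node (.leaf (0, 0)) (.leaf (1, 2220))) (.node (.leaf (0, 0)) (.leaf (76, 2672)))) (.node (.node (.leaf (0, 0)) (.leaf (1, 3650))) (.node (.leaf (0, 0)) (.leaf (54, 2439))))) (.node (.node (.node (.leaf (0, 0)) (.leaf (76, 3272))) (.node (.leaf (1, 1452)) (.leaf (1, 3500)))) (.node (.node (.leaf (0, 0)) (.leaf (1, 2988))) (.node (.leaf (0, 0)) (.leaf (76, 3480))))))) (.node (.node (.node (.node (.node (.leaf (0, 0)) (.leaf (1, 2156))) (.node (.leaf (59, 524)) (.leaf (1, 3180)))) (.node (.node (.leaf (0, 0)) (.leaf (1, 2668))) (.node (.leaf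 (0, 0)) (.leaf (77, 2295))))) (.node (.node (.node (.leaf (1, 364)) (.leaf (66, 853))) (.node (.leaf (1, 1388)) (.leaf (1, 3973)))) (.node (.node (.leaf (0, 0)) (.leaf (54, 1546))) (.node (.leaf (1, 1900)) (.leaf (62, 3284)))))) (.node (.node (.node (.node (.leaf (0, 0)) (.leaf (1, 3201))) (.node (.leaf (0, 0)) (.leaf (76, 2554)))) (.node (.node (.leaf (0, 0)) (.leaf (62, 2844))) (.node (.leaf (76, 715)) (.leaf (1, 3820))))) (.node (.node (.node (.leaf (0, 0)) (.leaf (1, 2876))) (.node (.leaf (1, 1516)) (.leaf (66, 379)))) (.node (.node (.leaf (64, 2026)) (.leaf (1, 3052))) (.node (.leaf (76, 1305)) (.leaf (65, 3793))))))))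

def twoVia178 : Janko.Tree (ℕ × ℕ) :=
  (.node (.node (.node (.node (.node (.node (.leaf (0, 0)) (.leaf (77, 2444))) (.node (.leaf (0, 0)) (.leaf (0, 0)))) (.node (.node (.leaf (0, 0)) (.leaf (2, 2604))) (.node (.leaf (66, 3336)) (.leaf (2, 3628))))) (.node (.node (.node (.leaf (0, 0)) (.leaf (0, 0))) (.node (.leaf (2, 1324)) (.leaf (67, 1026)))) (.node (.node (.leaf (65, 1104)) (.leaf (2, 2860))) (.node (.leaf (2, 3269)) (.leaf (67, 2033)))))) (.node (.node (.node (.node (.leaf (0, 0)) (.leaf (10, 875))) (.node (.leaf (0, 0)) (.leaf (2, 3244)))) (.node (.node (.leaf (35, 107)) (.leaf (47, 2866))) (.node (.leaf (0, 0)) (.leaf (67, 2410))))) (.node (.node (.node (.leaf (2, 428)) (.leaf (2, 2476))) (.node (.leaf (73, 2011)) (.leaf (67, 1621)))) (.node (.node (.leaf (60, 2185)) (.leaf (2, 3931))) (.node (.leaf (35, 576)) (.leaf (40, 928))))))) (.node (.node (.node (.node (.node (.leaf (2, 108)) (.leaf (67, 924))) (.node (.leaf (65, 896)) (.leaf (2, 3180)))) (.node (.node (.leaf (0, 0)) (.leaf (76, 2548))) (.node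 (.leaf (67, 973)) (.leaf (2, 3692))))) (.node (.node (.node (.leaf (0, 0)) (.leaf (2, 2412))) (.node (.leaf (69, 3643)) (.leaf (7, 1909)))) (.node (.node (.leaf (2, 876)) (.leaf (2, 2924))) (.node (.leaf (76, 2689)) (.leaf (76, 1631)))))) (.node (.node (.node (.node (.leaf (8, 151)) (.leaf (2, 2284))) (.node (.leaf (2, 1260)) (.leaf (2, 3308)))) (.node (.node (.leaf (8, 296)) (.leaf (2, 2796))) (.node (.leaf (62, 1501)) (.leaf (2, 3820))))) (.node (.node (.node (.leaf (0, 0)) (.leaf (73, 1234))) (.node (.leaf (10, 2843)) (.leaf (76, 3051)))) (.node (.node (.leaf (0, 0)) (.leaf (56, 639))) (.node (.leaf (2, 2028)) (.leaf (2, 4076))))))))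

def twoVia179 : Janko.Tree (ℕ × ℕ) :=
  (.node (.node (.node (.node (.node (.node (.leaf (0, 0)) (.leaf (66, 2682))) (.node (.leaf (0, 0)) (.leaf (7, 1619)))) (.node (.node (.leaf (0, 0)) (.leaf (69, 2828))) (.node (.leaf (67, 2897)) (.leaf (73, 3751))))) (.node (.node (.node (.leaf (0, 0)) (.leaf (14, 3723))) (.node (.leaf (0, 0)) (.leaf (14, 3174)))) (.node (.node (.leaf (0, 0)) (.leaf (64, 2753))) (.node (.leaf (66, 1641)) (.leaf (76, 2413)))))) (.node (.node (.node (.node (.leaf (0, 0)) (.leaf (76, 2098))) (.node (.leaf (0, 0)) (.leaf (73, 1537)))) (.node (.node (.leaf (67, 65)) (.leaf (67, 1231))) (.node (.leaf (65, 2816)) (.leaf (41, 399))))) (.node (.node (.node (.leaf (0, 0)) (.leaf (73, 3800))) (.node (.leaf (0, 0)) (.leaf (4, 818)))) (.node (.node (.leaf (67, 2104)) (.leaf (59, 1536))) (.node (.leaf (67, 3898)) (.leaf (74, 3436))))))) (.node (.node (.node (.node (.node (.leaf (0, 0)) (.leaf (67, 1498))) (.node (.leaf (0, 0)) (.leaf (67, 523)))) (.node (.node (.leaf (67, 64)) (.leaf (34, 3043))) (.node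 (.leaf (48, 272)) (.leaf (44, 1820))))) (.node (.node (.node (.leaf (0, 0)) (.leaf (77, 3991))) (.node (.leaf (0, 0)) (.leaf (76, 3328)))) (.node (.node (.leaf (0, 0)) (.leaf (0, 0))) (.node (.leaf (0, 0)) (.leaf (77, 3120)))))) (.node (.node (.node (.node (.leaf (76, 2243)) (.leaf (73, 123))) (.node (.leaf (0, 0)) (.leaf (0, 0)))) (.node (.node (.leaf (0, 0)) (.leaf (74, 3162))) (.node (.leaf (0, 0)) (.leaf (3, 3823))))) (.node (.node (.node (.leaf (77, 3481)) (.leaf (64, 323))) (.node (.leaf (0, 0)) (.leaf (64, 868)))) (.node (.node (.leaf (73, 1892)) (.leaf (74, 2184))) (.node (.leaf (0, 0)) (.leaf (73, 1512))))))))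

def twoVia180 : Janko.Tree (ℕ × ℕ) :=
  (.node (.node (.node (.node (.node (.node (.leaf (0, 0)) (.leaf (0, 2093))) (.node (.leaf (0, 0)) (.leaf (0, 3117)))) (.node (.node (.leaf (67, 1470)) (.leaf (73, 1711))) (.node (.leaf (67, 1581)) (.leaf (55, 3629))))) (.node (.node (.node (.leaf (0, 0)) (.leaf (0, 2349))) (.node (.leaf (76, 1325)) (.leaf (59, 3373)))) (.node (.node (.leaf (54, 813)) (.leaf (0, 0))) (.node (.leaf (0, 3302)) (.leaf (76, 3885)))))) (.node (.node (.node (.node (.leaf (0, 173)) (.leaf (0, 2221))) (.node (.leaf (0, 1197)) (.leaf (0, 3245)))) (.node (.node (.leaf (0, 685)) (.leaf (71, 804))) (.node (.leaf (76, 1709)) (.leaf (13, 3757))))) (.node (.node (.node (.leaf (0, 0)) (.leaf (71, 3581))) (.node (.leaf (47, 3214)) (.leaf (0, 3501)))) (.node (.node (.leaf (0, 0)) (.leaf (0, 0))) (.node (.leaf (76, 1965)) (.leaf (76, 4013))))))) (.node (.node (.node (.node (.node (.leaf (0, 0)) (.leaf (73, 1173))) (.node (.leaf (77, 1133)) (.leaf (69, 4018)))) (.node (.node (.leaf (0, 621)) (.leaf (0, 2669)))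 (.node (.leaf (0, 3050)) (.leaf (73, 3273))))) (.node (.node (.node (.leaf (67, 1879)) (.leaf (0, 2413))) (.node (.leaf (58, 1389)) (.leaf (76, 3437)))) (.node (.node (.leaf (0, 0)) (.leaf (0, 0))) (.node (.leaf (47, 350)) (.leaf (0, 3949)))))) (.node (.node (.node (.node (.leaf (0, 0)) (.leaf (65, 2285))) (.node (.leaf (0, 1261)) (.leaf (0, 3309)))) (.node (.node (.leaf (0, 1480)) (.leaf (0, 2797))) (.node (.leaf (0, 0)) (.leaf (0, 3821))))) (.node (.node (.node (.leaf (0, 0)) (.leaf (76, 2541))) (.node (.leaf (0, 0)) (.leaf (21, 2203)))) (.node (.node (.leaf (76, 1005)) (.leaf (0, 3053))) (.node (.leaf (0, 0)) (.leaf (76, 4077))))))))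

def twoVia181 : Janko.Tree (ℕ × ℕ) :=
  (.node (.node (.node (.node (.node (.node (.leaf (1, 45)) (.leaf (0, 0))) (.node (.leaf (1, 1069)) (.leaf (58, 62)))) (.node (.node (.leaf (1, 557)) (.leaf (65, 1913))) (.node (.leaf (1, 1581)) (.leaf (1, 3629))))) (.node (.node (.node (.leaf (0, 0)) (.leaf (61, 3372))) (.node (.leaf (0, 0)) (.leaf (21, 646)))) (.node (.node (.leaf (1, 813)) (.leaf (76, 3856))) (.node (.leaf (76, 3195)) (.leaf (76, 3110)))))) (.node (.node (.node (.node (.leaf (0, 0)) (.leaf (76, 3132))) (.node (.leaf (76, 2639)) (.leaf (76, 1740)))) (.node (.node (.leaf (1, 685)) (.leaf (43, 2277))) (.node (.leaf (1, 1709)) (.leaf (1, 3757))))) (.node (.node (.node (.leaf (1, 919)) (.leaf (1, 2477))) (.node (.leaf (65, 168)) (.leaf (62, 1989)))) (.node (.node (.leaf (76, 2294)) (.leaf (76, 2376))) (.node (.leaf (1, 1965)) (.leaf (1, 4013))))))) (.node (.node (.node (.node (.node (.leaf (0, 0)) (.leaf (76, 1173))) (.node (.leaf (0, 0)) (.leaf (44, 3182)))) (.node (.node (.leaf (0, 0)) (.leaf (76, 3255)))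 (.node (.leaf (1, 1645)) (.leaf (57, 353))))) (.node (.node (.node (.leaf (0, 0)) (.leaf (64, 1190))) (.node (.leaf (43, 1357)) (.leaf (67, 3233)))) (.node (.node (.leaf (67, 2096)) (.leaf (1, 2925))) (.node (.leaf (14, 3374)) (.leaf (76, 3776)))))) (.node (.node (.node (.node (.leaf (1, 237)) (.leaf (65, 1122))) (.node (.leaf (76, 1685)) (.leaf (76, 1903)))) (.node (.node (.leaf (1, 749)) (.leaf (76, 3571))) (.node (.leaf (76, 3588)) (.leaf (76, 3566))))) (.node (.node (.node (.leaf (0, 0)) (.leaf (1, 2541))) (.node (.leaf (0, 0)) (.leaf (1, 3565)))) (.node (.node (.leaf (0, 0)) (.leaf (73, 1599))) (.node (.leaf (16, 2289)) (.leaf (1, 4077))))))))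

def twoVia182 : Janko.Tree (ℕ × ℕ) :=
  (.node (.node (.node (.node (.node (.node (.leaf (0, 0)) (.leaf (67, 3572))) (.node (.leaf (0, 0)) (.leaf (2, 3117)))) (.node (.node (.leaf (76, 1738)) (.leaf (77, 2365))) (.node (.leaf (76, 2207)) (.leaf (65, 2823))))) (.node (.node (.node (.leaf (2, 301)) (.leaf (73, 3111))) (.node (.leaf (55, 3774)) (.leaf (76, 3543)))) (.node (.node (.leaf (0, 0)) (.leaf (51, 1865))) (.node (.leaf (2, 1837)) (.leaf (66, 2945)))))) (.node (.node (.node (.node (.leaf (65, 64)) (.leaf (8, 948))) (.node (.leaf (0, 0)) (.leaf (6, 2445)))) (.node (.node (.leaf (26, 685)) (.leaf (48, 1236))) (.node (.leaf (51, 939)) (.leaf (60, 1578))))) (.node (.node (.node (.leaf (59, 43)) (.leaf (73, 2810))) (.node (.leaf (4, 1453)) (.leaf (64, 3208)))) (.node (.node (.leaf (0, 0)) (.leaf (2, 2989))) (.node (.leaf (76, 1782)) (.leaf (58, 1668))))))) (.node (.node (.node (.node (.node (.leaf (0, 0)) (.leaf (2, 2157))) (.node (.leaf (0, 0)) (.leaf (76, 980)))) (.node (.node (.leaf (0, 0)) (.leaf (73, 820)))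 (.node (.leaf (67, 407)) (.leaf (66, 2674))))) (.node (.node (.node (.leaf (0, 0)) (.leaf (67, 445))) (.node (.leaf (2, 1389)) (.leaf (2, 3437)))) (.node (.node (.leaf (67, 2578)) (.leaf (0, 0))) (.node (.leaf (54, 1842)) (.leaf (4, 3949)))))) (.node (.node (.node (.node (.leaf (0, 0)) (.leaf (15, 3684))) (.node (.leaf (18, 2456)) (.leaf (2, 3309)))) (.node (.node (.leaf (67, 293)) (.leaf (2, 3542))) (.node (.leaf (2, 3251)) (.leaf (39, 3452))))) (.node (.node (.node (.leaf (2, 493)) (.leaf (76, 529))) (.node (.leaf (0, 0)) (.leaf (54, 870)))) (.node (.node (.leaf (2, 1005)) (.leaf (71, 3679))) (.node (.leaf (67, 3174)) (.leaf (76, 4058))))))))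

def twoVia183 : Janko.Tree (ℕ × ℕ) :=
  (.node (.node (.node (.node (.node (.node (.leaf (0, 0)) (.leaf (67, 2357))) (.node (.leaf (43, 391)) (.leaf (65, 198)))) (.node (.node (.leaf (0, 0)) (.leaf (77, 3384))) (.node (.leaf (65, 107)) (.leaf (73, 724))))) (.node (.node (.node (.leaf (0, 0)) (.leaf (0, 0))) (.node (.leaf (26, 1324)) (.leaf (67, 640)))) (.node (.node (.leaf (0, 0)) (.leaf (66, 1038))) (.node (.leaf (0, 0)) (.leaf (44, 1091)))))) (.node (.node (.node (.node (.leaf (0, 0)) (.leaf (57, 2847))) (.node (.leaf (74, 2297)) (.leaf (73, 2989)))) (.node (.node (.leaf (0, 0)) (.leaf (46, 2277))) (.node (.leaf (0, 0)) (.leaf (31, 4018))))) (.node (.node (.node (.leaf (0, 0)) (.leaf (57, 3043))) (.node (.leaf (67, 3000)) (.leaf (74, 834)))) (.node (.node (.leaf (43, 2286)) (.leaf (77, 3034))) (.node (.leaf (50, 1955)) (.leaf (73, 2629))))))) (.node (.node (.node (.node (.node (.leaf (0, 0)) (.leaf (54, 939))) (.node (.leaf (44, 254)) (.leaf (75, 3449)))) (.node (.node (.leaf (0, 0)) (.leaf (73, 631))) (.node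 (.leaf (75, 2529)) (.leaf (77, 2652))))) (.node (.node (.node (.leaf (0, 0)) (.leaf (15, 1536))) (.node (.leaf (0, 0)) (.leaf (69, 3226)))) (.node (.node (.leaf (67, 3202)) (.leaf (69, 3615))) (.node (.leaf (66, 854)) (.leaf (4, 3034)))))) (.node (.node (.node (.node (.leaf (0, 0)) (.leaf (0, 0))) (.node (.leaf (0, 0)) (.leaf (73, 3307)))) (.node (.node (.leaf (25, 3125)) (.leaf (74, 3903))) (.node (.leaf (4, 248)) (.leaf (67, 2168))))) (.node (.node (.node (.leaf (73, 767)) (.leaf (57, 2099))) (.node (.leaf (0, 0)) (.leaf (76, 1275)))) (.node (.node (.leaf (0, 0)) (.leaf (70, 232))) (.node (.leaf (71, 2751)) (.leaf (77, 3788))))))))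

def twoVia184 : Janko.Tree (ℕ × ℕ) :=
  (.node (.node (.node (.node (.node (.node (.leaf (0, 0)) (.leaf (76, 2094))) (.node (.leaf (73, 1070)) (.leaf (67, 3118)))) (.node (.node (.leaf (0, 0)) (.leaf (0, 2606))) (.node (.leaf (0, 0)) (.leaf (55, 1253))))) (.node (.node (.node (.leaf (0, 0)) (.leaf (52, 574))) (.node (.leaf (76, 1326)) (.leaf (0, 3374)))) (.node (.node (.leaf (0, 0)) (.leaf (0, 2862))) (.node (.leaf (0, 0)) (.leaf (76, 3886)))))) (.node (.node (.node (.node (.leaf (76, 3216)) (.leaf (10, 2123))) (.node (.leaf (47, 1198)) (.leaf (73, 730)))) (.node (.node (.leaf (0, 0)) (.leaf (0, 2734))) (.node (.leaf (67, 1710)) (.leaf (62, 2997))))) (.node (.node (.node (.leaf (0, 0)) (.leaf (67, 2509))) (.node (.leaf (73, 1454)) (.leaf (0, 3502)))) (.node (.node (.leaf (0, 942)) (.leaf (58, 2990))) (.node (.leaf (68, 3879)) (.leaf (62, 4014))))))) (.node (.node (.node (.node (.node (.leaf (0, 110)) (.leaf (73, 2222))) (.node (.leaf (0, 1134)) (.leaf (0, 3182)))) (.node (.node (.leaf (0, 0)) (.leaf (68, 1382)))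 (.node (.leaf (51, 2259)) (.leaf (0, 3694))))) (.node (.node (.node (.leaf (0, 0)) (.leaf (76, 2414))) (.node (.leaf (0, 0)) (.leaf (71, 1998)))) (.node (.node (.leaf (0, 878)) (.leaf (0, 0))) (.node (.leaf (76, 1902)) (.leaf (44, 3950)))))) (.node (.node (.node (.node (.leaf (35, 1713)) (.leaf (0, 2286))) (.node (.leaf (16, 1262)) (.leaf (0, 0)))) (.node (.node (.leaf (0, 0)) (.leaf (0, 3279))) (.node (.leaf (0, 1774)) (.leaf (48, 3822))))) (.node (.node (.node (.leaf (57, 998)) (.leaf (48, 2542))) (.node (.leaf (0, 1518)) (.leaf (71, 2424)))) (.node (.node (.leaf (76, 1006)) (.leaf (75, 3503))) (.node (.leaf (73, 2030)) (.leaf (0, 4078))))))))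

def twoVia185 : Janko.Tree (ℕ × ℕ) :=
  (.node (.node (.node (.node (.node (.node (.leaf (0, 0)) (.leaf (1, 2094))) (.node (.leaf (0, 0)) (.leaf (1, 3118)))) (.node (.node (.leaf (43, 2526)) (.leaf (76, 1397))) (.node (.leaf (1, 1582)) (.leaf (55, 478))))) (.node (.node (.node (.leaf (1, 302)) (.leaf (1, 2350))) (.node (.leaf (0, 0)) (.leaf (9, 350)))) (.node (.node (.leaf (0, 0)) (.leaf (35, 1486))) (.node (.leaf (1, 3277)) (.leaf (1, 3886)))))) (.node (.node (.node (.node (.leaf (1, 174)) (.leaf (1, 2222))) (.node (.leaf (1, 1198)) (.leaf (76, 2081)))) (.node (.node (.leaf (1, 686)) (.leaf (58, 1374))) (.node (.leaf (76, 1153)) (.leaf (1, 4088))))) (.node (.node (.node (.leaf (1, 430)) (.leaf (1, 3025))) (.node (.leaf (1, 1454)) (.leaf (43, 89)))) (.node (.node (.leaf (0, 0)) (.leaf (76, 3819))) (.node (.leaf (0, 0)) (.leaf (1, 4014))))))) (.node (.node (.node (.node (.node (.leaf (59, 33)) (.leaf (0, 0))) (.node (.leaf (0, 0)) (.leaf (67, 1680)))) (.node (.node (.leaf (1, 622)) (.leaf (1, 2670))) (.node (.leaf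 (1, 1646)) (.leaf (25, 3694))))) (.node (.node (.node (.leaf (1, 366)) (.leaf (66, 1176))) (.node (.leaf (55, 505)) (.leaf (52, 4070)))) (.node (.node (.leaf (0, 0)) (.leaf (0, 0))) (.node (.leaf (76, 1382)) (.leaf (1, 3950)))))) (.node (.node (.node (.node (.leaf (0, 0)) (.leaf (0, 0))) (.node (.leaf (76, 2456)) (.leaf (1, 3310)))) (.node (.node (.leaf (0, 0)) (.leaf (1, 3671))) (.node (.leaf (62, 601)) (.leaf (76, 3277))))) (.node (.node (.node (.leaf (0, 0)) (.leaf (77, 3673))) (.node (.leaf (59, 1103)) (.leaf (1, 3566)))) (.node (.node (.leaf (0, 0)) (.leaf (35, 46))) (.node (.leaf (1, 2831)) (.leaf (77, 3716))))))))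

def twoVia186 : Janko.Tree (ℕ × ℕ) :=
  (.node (.node (.node (.node (.node (.node (.leaf (2, 46)) (.leaf (67, 904))) (.node (.leaf (2, 1070)) (.leaf (76, 2818)))) (.node (.node (.leaf (0, 0)) (.leaf (73, 1431))) (.node (.leaf (2, 1582)) (.leaf (76, 2964))))) (.node (.node (.node (.leaf (0, 0)) (.leaf (76, 2397))) (.node (.leaf (8, 2690)) (.leaf (67, 300)))) (.node (.node (.leaf (0, 0)) (.leaf (0, 0))) (.node (.leaf (0, 0)) (.leaf (2, 3886)))))) (.node (.node (.node (.node (.leaf (0, 0)) (.leaf (62, 338))) (.node (.leaf (0, 0)) (.leaf (77, 873)))) (.node (.node (.leaf (28, 305)) (.leaf (35, 1373))) (.node (.leaf (0, 0)) (.leaf (2, 3758))))) (.node (.node (.node (.leaf (0, 0)) (.leaf (76, 1605))) (.node (.leaf (76, 3406)) (.leaf (60, 457)))) (.node (.node (.leaf (17, 889)) (.leaf (2, 2990))) (.node (.leaf (77, 2800)) (.leaf (76, 1758))))))) (.node (.node (.node (.node (.node (.leaf (0, 0)) (.leaf (2, 2158))) (.node (.leaf (2, 2474)) (.leaf (28, 3957)))) (.node (.node (.leaf (76, 195)) (.leaf (76, 2793))) (.node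 (.leaf (0, 0)) (.leaf (76, 1388))))) (.node (.node (.node (.leaf (0, 0)) (.leaf (2, 2414))) (.node (.leaf (73, 1900)) (.leaf (2, 3438)))) (.node (.node (.leaf (0, 0)) (.leaf (77, 3352))) (.node (.leaf (76, 2748)) (.leaf (46, 388)))))) (.node (.node (.node (.node (.leaf (2, 238)) (.leaf (6, 1080))) (.node (.leaf (2, 1262)) (.leaf (73, 1907)))) (.node (.node (.leaf (2, 750)) (.leaf (2, 2798))) (.node (.leaf (11, 3275)) (.leaf (76, 1635))))) (.node (.node (.node (.leaf (67, 588)) (.leaf (2, 2542))) (.node (.leaf (67, 634)) (.leaf (73, 3851)))) (.node (.node (.leaf (59, 146)) (.leaf (2, 3054))) (.node (.leaf (70, 2765)) (.leaf (43, 990))))))))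

def twoVia187 : Janko.Tree (ℕ × ℕ) :=
  (.node (.node (.node (.node (.node (.node (.leaf (0, 0)) (.leaf (0, 0))) (.node (.leaf (22, 1884)) (.leaf (59, 694)))) (.node (.node (.leaf (0, 0)) (.leaf (69, 3216))) (.node (.leaf (0, 0)) (.leaf (3, 3632))))) (.node (.node (.node (.leaf (0, 0)) (.leaf (74, 569))) (.node (.leaf (8, 1310)) (.leaf (57, 854)))) (.node (.node (.leaf (0, 0)) (.leaf (15, 1262))) (.node (.leaf (65, 2934)) (.leaf (15, 784)))))) (.node (.node (.node (.node (.leaf (65, 398)) (.leaf (77, 3532))) (.node (.leaf (43, 44)) (.leaf (4, 702)))) (.node (.node (.leaf (0, 0)) (.leaf (66, 1749))) (.node (.leaf (53, 454)) (.leaf (22, 1491))))) (.node (.node (.node (.leaf (0, 0)) (.leaf (65, 2385))) (.node (.leaf (57, 1052)) (.leaf (73, 3349)))) (.node (.node (.leaf (76, 3481)) (.leaf (55, 614))) (.node (.leaf (8, 241)) (.leaf (67, 2785))))))) (.node (.node (.node (.node (.node (.leaf (0, 0)) (.leaf (74, 2018))) (.node (.leaf (73, 1126)) (.leaf (40, 2861)))) (.node (.node (.leaf (76, 881)) (.leaf (66, 3857)))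 (.node (.leaf (0, 0)) (.leaf (62, 478))))) (.node (.node (.node (.leaf (0, 0)) (.leaf (26, 3926))) (.node (.leaf (53, 161)) (.leaf (5, 1903)))) (.node (.node (.leaf (0, 0)) (.leaf (67, 134))) (.node (.leaf (24, 272)) (.leaf (66, 418)))))) (.node (.node (.node (.node (.leaf (0, 0)) (.leaf (0, 0))) (.node (.leaf (71, 3011)) (.leaf (21, 1524)))) (.node (.node (.leaf (4, 80)) (.leaf (77, 3877))) (.node (.leaf (0, 0)) (.leaf (67, 520))))) (.node (.node (.node (.leaf (0, 0)) (.leaf (67, 3247))) (.node (.leaf (0, 0)) (.leaf (76, 3282)))) (.node (.node (.leaf (57, 195)) (.leaf (74, 2191))) (.node (.leaf (0, 0)) (.leaf (65, 3685))))))))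

def twoVia188 : Janko.Tree (ℕ × ℕ) :=
  (.node (.node (.node (.node (.node (.node (.leaf (0, 0)) (.leaf (0, 3545))) (.node (.leaf (59, 3519)) (.leaf (49, 3119)))) (.node (.node (.leaf (34, 53)) (.leaf (0, 0))) (.node (.leaf (62, 1583)) (.leaf (46, 1214))))) (.node (.node (.node (.leaf (28, 303)) (.leaf (48, 2351))) (.node (.leaf (0, 1327)) (.leaf (0, 3375)))) (.node (.node (.leaf (0, 815)) (.leaf (77, 2863))) (.node (.leaf (67, 2010)) (.leaf (62, 3887)))))) (.node (.node (.node (.node (.leaf (64, 175)) (.leaf (0, 0))) (.node (.leaf (0, 0)) (.leaf (28, 3247)))) (.node (.node (.leaf (0, 687)) (.leaf (71, 3470))) (.node (.leaf (62, 3538)) (.leaf (0, 3759))))) (.node (.node (.node (.leaf (8, 43)) (.leaf (0, 2479))) (.node (.leaf (0, 1455)) (.leaf (0, 3503)))) (.node (.node (.leaf (70, 943)) (.leaf (0, 2991))) (.node (.leaf (0, 1967)) (.leaf (71, 3500))))))) (.node (.node (.node (.node (.node (.leaf (0, 0)) (.leaf (38, 531))) (.node (.leaf (0, 0)) (.leaf (31, 1451)))) (.node (.node (.leaf (0, 0)) (.leaf (71, 3419)))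 (.node (.leaf (65, 1647)) (.leaf (0, 0))))) (.node (.node (.node (.leaf (0, 893)) (.leaf (67, 1649))) (.node (.leaf (0, 1391)) (.leaf (0, 3439)))) (.node (.node (.leaf (76, 3652)) (.leaf (0, 2927))) (.node (.leaf (0, 1903)) (.leaf (76, 4037)))))) (.node (.node (.node (.node (.leaf (0, 580)) (.leaf (0, 2287))) (.node (.leaf (0, 0)) (.leaf (34, 3638)))) (.node (.node (.leaf (0, 751)) (.leaf (0, 2799))) (.node (.leaf (69, 3621)) (.leaf (77, 3823))))) (.node (.node (.node (.leaf (0, 0)) (.leaf (67, 568))) (.node (.leaf (0, 0)) (.leaf (15, 3567)))) (.node (.node (.leaf (65, 3422)) (.leaf (73, 3055))) (.node (.leaf (0, 0)) (.leaf (0, 4079))))))))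

def twoVia189 : Janko.Tree (ℕ × ℕ) :=
  (.node (.node (.node (.node (.node (.node (.leaf (0, 0)) (.leaf (1, 2095))) (.node (.leaf (76, 2416)) (.leaf (76, 3878)))) (.node (.node (.leaf (1, 559)) (.leaf (74, 3795))) (.node (.leaf (0, 0)) (.leaf (1, 3631))))) (.node (.node (.node (.leaf (0, 0)) (.leaf (43, 2625))) (.node (.leaf (0, 0)) (.leaf (76, 2357)))) (.node (.node (.leaf (0, 0)) (.leaf (1, 2863))) (.node (.leaf (1, 1839)) (.leaf (76, 3777)))))) (.node (.node (.node (.node (.leaf (0, 0)) (.leaf (76, 3721))) (.node (.leaf (0, 0)) (.leaf (13, 3319)))) (.node (.node (.leaf (0, 0)) (.leaf (1, 2735))) (.node (.leaf (1, 1711)) (.leaf (65, 485))))) (.node (.node (.node (.leaf (0, 0)) (.leaf (76, 3710))) (.node (.leaf (0, 0)) (.leaf (76, 1992)))) (.node (.node (.leaf (1, 943)) (.leaf (65, 1548))) (.node (.leaf (67, 808)) (.leaf (62, 2926))))))) (.node (.node (.node (.node (.node (.leaf (1, 111)) (.leaf (76, 1368))) (.node (.leaf (1, 1135)) (.leaf (1, 3183)))) (.node (.node (.leaf (1, 623)) (.leaf (1, 3034))) (.node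 (.leaf (0, 0)) (.leaf (57, 1368))))) (.node (.node (.node (.leaf (0, 0)) (.leaf (14, 3735))) (.node (.leaf (76, 2128)) (.leaf (76, 2460)))) (.node (.node (.leaf (1, 879)) (.leaf (43, 1517))) (.node (.leaf (76, 3501)) (.leaf (76, 3637)))))) (.node (.node (.node (.node (.leaf (1, 239)) (.leaf (48, 990))) (.node (.leaf (0, 0)) (.leaf (1, 3311)))) (.node (.node (.leaf (0, 0)) (.leaf (58, 1451))) (.node (.leaf (1, 1775)) (.leaf (48, 3882))))) (.node (.node (.node (.leaf (1, 495)) (.leaf (1, 2543))) (.node (.leaf (43, 1830)) (.leaf (44, 3960)))) (.node (.node (.leaf (1, 1007)) (.leaf (0, 0))) (.node (.leaf (76, 3532)) (.leaf (76, 3790))))))))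

def twoVia190 : Janko.Tree (ℕ × ℕ) :=
  (.node (.node (.node (.node (.node (.node (.leaf (0, 0)) (.leaf (0, 0))) (.node (.leaf (62, 3519)) (.leaf (44, 3530)))) (.node (.node (.leaf (2, 1344)) (.leaf (77, 4040))) (.node (.leaf (4, 3160)) (.leaf (2, 3631))))) (.node (.node (.node (.leaf (2, 303)) (.leaf (2, 2351))) (.node (.leaf (6, 2684)) (.leaf (74, 301)))) (.node (.node (.leaf (77, 3351)) (.leaf (76, 3182))) (.node (.leaf (55, 347)) (.leaf (66, 3010)))))) (.node (.node (.node (.node (.leaf (2, 175)) (.leaf (77, 3923))) (.node (.leaf (2, 1199)) (.leaf (2, 3247)))) (.node (.node (.leaf (2, 687)) (.leaf (66, 2579))) (.node (.leaf (0, 0)) (.leaf (51, 2703))))) (.node (.node (.node (.leaf (2, 431)) (.leaf (2, 2479))) (.node (.leaf (0, 0)) (.leaf (73, 2350)))) (.node (.node (.leaf (0, 0)) (.leaf (2, 2991))) (.node (.leaf (18, 808)) (.leaf (2, 4015))))))) (.node (.node (.node (.node (.node (.leaf (0, 0)) (.leaf (66, 3135))) (.node (.leaf (76, 976)) (.leaf (2, 3183)))) (.node (.node (.leaf (2, 623)) (.leaf (61, 525)))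 (.node (.leaf (2, 1647)) (.leaf (2, 3695))))) (.node (.node (.node (.leaf (2, 367)) (.leaf (66, 1132))) (.node (.leaf (76, 3514)) (.leaf (2, 3439)))) (.node (.node (.leaf (0, 0)) (.leaf (2, 2927))) (.node (.leaf (58, 3040)) (.leaf (2, 3951)))))) (.node (.node (.node (.node (.leaf (62, 203)) (.leaf (48, 3692))) (.node (.leaf (0, 0)) (.leaf (2, 3311)))) (.node (.node (.leaf (2, 1830)) (.leaf (76, 4026))) (.node (.leaf (0, 0)) (.leaf (2, 3823))))) (.node (.node (.node (.leaf (0, 0)) (.leaf (62, 1741))) (.node (.leaf (0, 0)) (.leaf (4, 3567)))) (.node (.node (.leaf (0, 0)) (.leaf (40, 272))) (.node (.leaf (77, 2335)) (.leaf (2, 4079))))))))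

def twoVia191 : Janko.Tree (ℕ × ℕ) :=
  (.node (.node (.node (.node (.node (.node (.leaf (0, 0)) (.leaf (64, 1697))) (.node (.leaf (0, 0)) (.leaf (73, 3426)))) (.node (.node (.leaf (0, 0)) (.leaf (20, 89))) (.node (.leaf (4, 3015)) (.leaf (71, 4094))))) (.node (.node (.node (.leaf (0, 0)) (.leaf (0, 0))) (.node (.leaf (76, 3429)) (.leaf (41, 261)))) (.node (.node (.leaf (74, 1409)) (.leaf (76, 2862))) (.node (.leaf (0, 0)) (.leaf (59, 3654)))))) (.node (.node (.node (.node (.leaf (0, 0)) (.leaf (67, 2063))) (.node (.leaf (73, 3752)) (.leaf (73, 256)))) (.node (.node (.leaf (0, 0)) (.leaf (65, 4027))) (.node (.leaf (67, 558)) (.leaf (73, 1390))))) (.node (.node (.node (.leaf (0, 0)) (.leaf (77, 2657))) (.node (.leaf (73, 2589)) (.leaf (76, 3117)))) (.node (.node (.leaf (76, 1240)) (.leaf (65, 2161))) (.node (.leaf (0, 0)) (.leaf (0, 0))))))) (.node (.node (.node (.node (.node (.leaf (0, 0)) (.leaf (66, 2192))) (.node (.leaf (76, 2894)) (.leaf (76, 1451)))) (.node (.node (.leaf (0, 0)) (.leaf (73, 1942))) (.node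 (.leaf (4, 3964)) (.leaf (66, 3728))))) (.node (.node (.node (.leaf (0, 0)) (.leaf (67, 3336))) (.node (.leaf (0, 0)) (.leaf (77, 3499)))) (.node (.node (.leaf (0, 0)) (.leaf (77, 2395))) (.node (.leaf (72, 2371)) (.leaf (69, 2532)))))) (.node (.node (.node (.node (.leaf (0, 0)) (.leaf (66, 230))) (.node (.leaf (76, 1389)) (.leaf (66, 1423)))) (.node (.node (.leaf (0, 0)) (.leaf (44, 3469))) (.node (.leaf (0, 0)) (.leaf (4, 1463))))) (.node (.node (.node (.leaf (76, 2733)) (.leaf (65, 3760))) (.node (.leaf (0, 0)) (.leaf (65, 916)))) (.node (.node (.leaf (0, 0)) (.leaf (74, 3147))) (.node (.leaf (0, 0)) (.leaf (74, 2738))))))))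

def twoVia192 : Janko.Tree (ℕ × ℕ) :=
  (.node (.node (.node (.node (.node (.node (.leaf (0, 0)) (.leaf (0, 2096))) (.node (.leaf (76, 1072)) (.leaf (67, 3120)))) (.node (.node (.leaf (0, 0)) (.leaf (71, 1058))) (.node (.leaf (67, 562)) (.leaf (32, 3632))))) (.node (.node (.node (.leaf (0, 0)) (.leaf (71, 2947))) (.node (.leaf (0, 0)) (.leaf (71, 535)))) (.node (.node (.leaf (67, 816)) (.leaf (0, 0))) (.node (.leaf (75, 2213)) (.leaf (0, 3888)))))) (.node (.node (.node (.node (.leaf (0, 0)) (.leaf (65, 343))) (.node (.leaf (76, 2934)) (.leaf (73, 2543)))) (.node (.node (.leaf (8, 688)) (.leaf (0, 3606))) (.node (.leaf (66, 44)) (.leaf (32, 1282))))) (.node (.node (.node (.leaf (71, 3295)) (.leaf (76, 2480))) (.node (.leaf (62, 2494)) (.leaf (76, 3504)))) (.node (.node (.leaf (6, 944)) (.leaf (73, 2992))) (.node (.leaf (67, 1876)) (.leaf (66, 4016))))))) (.node (.node (.node (.node (.node (.leaf (0, 0)) (.leaf (71, 2160))) (.node (.leaf (35, 303)) (.leaf (0, 3184)))) (.node (.node (.leaf (59, 624)) (.leaf (60,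 2672))) (.node (.leaf (67, 1648)) (.leaf (73, 1072))))) (.node (.node (.node (.leaf (67, 2201)) (.leaf (0, 2416))) (.node (.leaf (77, 1392)) (.leaf (71, 4060)))) (.node (.node (.leaf (73, 1712)) (.leaf (76, 3147))) (.node (.leaf (66, 353)) (.leaf (0, 3952)))))) (.node (.node (.node (.node (.leaf (67, 38)) (.leaf (66, 1591))) (.node (.leaf (0, 1264)) (.leaf (65, 3312)))) (.node (.node (.leaf (0, 0)) (.leaf (0, 0))) (.node (.leaf (35, 1652)) (.leaf (53, 3824))))) (.node (.node (.node (.leaf (73, 1289)) (.leaf (20, 2544))) (.node (.leaf (0, 0)) (.leaf (71, 2542)))) (.node (.node (.leaf (66, 1008)) (.leaf (76, 3679))) (.node (.leaf (0, 2032)) (.leaf (71, 1348))))))))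

def twoVia193 : Janko.Tree (ℕ × ℕ) :=
  (.node (.node (.node (.node (.node (.node (.leaf (1, 48)) (.leaf (67, 877))) (.node (.leaf (1, 1072)) (.leaf (44, 1102)))) (.node (.node (.leaf (0, 0)) (.leaf (1, 2608))) (.node (.leaf (0, 0)) (.leaf (76, 4066))))) (.node (.node (.node (.leaf (0, 0)) (.leaf (77, 2946))) (.node (.leaf (1, 1328)) (.leaf (76, 516)))) (.node (.node (.leaf (1, 816)) (.leaf (61, 2617))) (.node (.leaf (48, 240)) (.leaf (77, 2900)))))) (.node (.node (.node (.node (.leaf (0, 0)) (.leaf (1, 2224))) (.node (.leaf (54, 2186)) (.leaf (40, 475)))) (.node (.node (.leaf (0, 0)) (.leaf (76, 3456))) (.node (.leaf (1, 1712)) (.leaf (73, 2211))))) (.node (.node (.node (.leaf (0, 0)) (.leaf (58, 397))) (.node (.leaf (1, 1456)) (.leaf (1, 3504)))) (.node (.node (.leaf (0, 0)) (.leaf (76, 2663))) (.node (.leaf (76, 1365)) (.leaf (76, 3745))))))) (.node (.node (.node (.node (.node (.leaf (0, 0)) (.leaf (1, 2160))) (.node (.leaf (0, 0)) (.leaf (67, 1681)))) (.node (.node (.leaf (0, 0)) (.leaf (60, 1564))) (.node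 (.leaf (1, 1648)) (.leaf (76, 2614))))) (.node (.node (.node (.leaf (0, 0)) (.leaf (0, 0))) (.node (.leaf (76, 4005)) (.leaf (1, 3440)))) (.node (.node (.leaf (76, 2124)) (.leaf (1, 2928))) (.node (.leaf (76, 1429)) (.leaf (77, 3487)))))) (.node (.node (.node (.node (.leaf (0, 0)) (.leaf (1, 3536))) (.node (.leaf (0, 0)) (.leaf (76, 4051)))) (.node (.node (.leaf (1, 752)) (.leaf (1, 3036))) (.node (.leaf (0, 0)) (.leaf (1, 3824))))) (.node (.node (.node (.leaf (0, 0)) (.leaf (1, 3634))) (.node (.leaf (1, 1520)) (.leaf (1, 3568)))) (.node (.node (.leaf (0, 0)) (.leaf (1, 3056))) (.node (.leaf (58, 841)) (.leaf (76, 1221))))))))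

def twoVia194 : Janko.Tree (ℕ × ℕ) :=
  (.node (.node (.node (.node (.node (.node (.leaf (0, 0)) (.leaf (66, 3466))) (.node (.leaf (60, 382)) (.leaf (62, 2674)))) (.node (.node (.leaf (0, 0)) (.leaf (20, 1190))) (.node (.leaf (2, 1584)) (.leaf (62, 348))))) (.node (.node (.node (.leaf (0, 0)) (.leaf (2, 3673))) (.node (.leaf (67, 2569)) (.leaf (0, 0)))) (.node (.node (.leaf (0, 0)) (.leaf (2, 2864))) (.node (.leaf (77, 1993)) (.leaf (71, 2781)))))) (.node (.node (.node (.node (.leaf (0, 0)) (.leaf (67, 2132))) (.node (.leaf (54, 921)) (.leaf (76, 3095)))) (.node (.node (.leaf (2, 688)) (.leaf (2, 2736))) (.node (.leaf (67, 947)) (.leaf (2, 3760))))) (.node (.node (.node (.leaf (0, 0)) (.leaf (66, 1299))) (.node (.leaf (2, 1456)) (.leaf (77, 3652)))) (.node (.node (.leaf (2, 944)) (.leaf (76, 1065))) (.node (.leaf (2, 1968)) (.leaf (2, 4016))))))) (.node (.node (.node (.node (.node (.leaf (2, 112)) (.leaf (67, 1165))) (.node (.leaf (2, 1136)) (.leaf (67, 1726)))) (.node (.node (.leaf (0, 0)) (.leaf (66, 4068)))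 (.node (.leaf (76, 1731)) (.leaf (77, 3453))))) (.node (.node (.node (.leaf (0, 0)) (.leaf (67, 3213))) (.node (.leaf (77, 3544)) (.leaf (50, 2328)))) (.node (.node (.leaf (0, 0)) (.leaf (73, 2165))) (.node (.leaf (2, 1904)) (.leaf (77, 4014)))))) (.node (.node (.node (.node (.leaf (2, 240)) (.leaf (2, 2288))) (.node (.leaf (76, 3568)) (.leaf (69, 733)))) (.node (.node (.leaf (0, 0)) (.leaf (2, 2800))) (.node (.leaf (0, 0)) (.leaf (67, 591))))) (.node (.node (.node (.leaf (77, 3922)) (.leaf (23, 2591))) (.node (.leaf (66, 206)) (.leaf (76, 3298)))) (.node (.node (.leaf (2, 1008)) (.leaf (71, 775))) (.node (.leaf (66, 748)) (.leaf (67, 3627))))))))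

def twoVia195 : Janko.Tree (ℕ × ℕ) :=
  (.node (.node (.node (.node (.node (.node (.leaf (0, 0)) (.leaf (0, 0))) (.node (.leaf (0, 0)) (.leaf (64, 652)))) (.node (.node (.leaf (0, 0)) (.leaf (77, 2246))) (.node (.leaf (0, 0)) (.leaf (4, 912))))) (.node (.node (.node (.leaf (0, 0)) (.leaf (8, 372))) (.node (.leaf (43, 512)) (.leaf (4, 3193)))) (.node (.node (.leaf (67, 3040)) (.leaf (40, 3045))) (.node (.leaf (66, 2035)) (.leaf (73, 2058)))))) (.node (.node (.node (.node (.leaf (0, 0)) (.leaf (76, 2132))) (.node (.leaf (55, 461)) (.leaf (69, 2413)))) (.node (.node (.leaf (0, 0)) (.leaf (74, 3192))) (.node (.leaf (67, 1153)) (.leaf (76, 3793))))) (.node (.node (.node (.leaf (0, 0)) (.leaf (77, 3547))) (.node (.leaf (0, 0)) (.leaf (75, 4024)))) (.node (.node (.leaf (0, 0)) (.leaf (55, 73))) (.node (.leaf (66, 179)) (.leaf (74, 4051))))))) (.node (.node (.node (.node (.node (.leaf (0, 0)) (.leaf (40, 322))) (.node (.leaf (77, 2580)) (.leaf (31, 3159)))) (.node (.node (.leaf (53, 201)) (.leaf (0, 0))) (.node (.leaf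 (0, 0)) (.leaf (77, 3377))))) (.node (.node (.node (.leaf (0, 0)) (.leaf (73, 2516))) (.node (.leaf (7, 2690)) (.leaf (21, 273)))) (.node (.node (.leaf (0, 0)) (.leaf (65, 337))) (.node (.leaf (0, 0)) (.leaf (22, 3143)))))) (.node (.node (.node (.node (.leaf (0, 0)) (.leaf (67, 1089))) (.node (.leaf (22, 2241)) (.leaf (47, 1752)))) (.node (.node (.leaf (65, 425)) (.leaf (67, 1242))) (.node (.leaf (58, 736)) (.leaf (58, 210))))) (.node (.node (.node (.leaf (0, 0)) (.leaf (8, 236))) (.node (.leaf (0, 0)) (.leaf (40, 914)))) (.node (.node (.leaf (57, 1080)) (.leaf (74, 2288))) (.node (.leaf (64, 343)) (.leaf (71, 2023))))))))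

def twoVia196 : Janko.Tree (ℕ × ℕ) :=
  (.node (.node (.node (.node (.node (.node (.leaf (0, 0)) (.leaf (60, 3928))) (.node (.leaf (0, 0)) (.leaf (0, 3121)))) (.node (.node (.leaf (0, 561)) (.leaf (67, 4070))) (.node (.leaf (0, 0)) (.leaf (71, 1877))))) (.node (.node (.node (.leaf (0, 305)) (.leaf (0, 2353))) (.node (.leaf (6, 1329)) (.leaf (16, 1233)))) (.node (.node (.leaf (77, 3271)) (.leaf (76, 2865))) (.node (.leaf (0, 1841)) (.leaf (65, 2685)))))) (.node (.node (.node (.node (.leaf (0, 0)) (.leaf (76, 2225))) (.node (.leaf (56, 1201)) (.leaf (0, 3249)))) (.node (.node (.leaf (67, 689)) (.leaf (67, 2465))) (.node (.leaf (0, 1713)) (.leaf (18, 1120))))) (.node (.node (.node (.leaf (0, 433)) (.leaf (73, 2481))) (.node (.leaf (0, 0)) (.leaf (73, 3592)))) (.node (.node (.leaf (66, 945)) (.leaf (0, 2993))) (.node (.leaf (0, 1969)) (.leaf (35, 4017))))))) (.node (.node (.node (.node (.node (.leaf (0, 0)) (.leaf (71, 1071))) (.node (.leaf (66, 1137)) (.leaf (76, 3185)))) (.node (.node (.leaf (19, 1594)) (.leaf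 (0, 0))) (.node (.leaf (76, 2236)) (.leaf (77, 3709))))) (.node (.node (.node (.leaf (0, 0)) (.leaf (66, 2417))) (.node (.leaf (0, 0)) (.leaf (62, 3366)))) (.node (.node (.leaf (0, 881)) (.leaf (76, 2929))) (.node (.leaf (69, 779)) (.leaf (76, 3953)))))) (.node (.node (.node (.node (.leaf (0, 0)) (.leaf (65, 2289))) (.node (.leaf (76, 3045)) (.leaf (18, 729)))) (.node (.node (.leaf (0, 0)) (.leaf (0, 2801))) (.node (.leaf (0, 1777)) (.leaf (58, 3825))))) (.node (.node (.node (.leaf (0, 0)) (.leaf (73, 2112))) (.node (.leaf (0, 1521)) (.leaf (73, 3569)))) (.node (.node (.leaf (40, 1354)) (.leaf (0, 3057))) (.node (.leaf (0, 0)) (.leaf (0, 4081))))))))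

def twoVia197 : Janko.Tree (ℕ × ℕ) :=
  (.node (.node (.node (.node (.node (.node (.leaf (0, 0)) (.leaf (1, 2097))) (.node (.leaf (0, 0)) (.leaf (57, 1151)))) (.node (.node (.leaf (60, 191)) (.leaf (73, 3498))) (.node (.leaf (46, 48)) (.leaf (1, 3633))))) (.node (.node (.node (.leaf (0, 0)) (.leaf (67, 1027))) (.node (.leaf (0, 0)) (.leaf (1, 3377)))) (.node (.node (.leaf (0, 0)) (.leaf (43, 3045))) (.node (.leaf (59, 750)) (.leaf (64, 3645)))))) (.node (.node (.node (.node (.leaf (1, 177)) (.leaf (56, 3279))) (.node (.leaf (1, 1201)) (.leaf (77, 3950)))) (.node (.node (.leaf (0, 0)) (.leaf (1, 2737))) (.node (.leaf (76, 795)) (.leaf (76, 2490))))) (.node (.node (.node (.leaf (0, 0)) (.leaf (76, 3484))) (.node (.leaf (0, 0)) (.leaf (0, 0)))) (.node (.node (.leaf (1, 2010)) (.leaf (75, 2321))) (.node (.leaf (55, 851)) (.leaf (76, 3759))))))) (.node (.node (.node (.node (.node (.leaf (0, 0)) (.leaf (58, 2192))) (.node (.leaf (1, 1137)) (.leaf (1, 3185)))) (.node (.node (.leaf (0, 0)) (.leaf (1, 2673))) (.node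 (.leaf (64, 1352)) (.leaf (1, 3697))))) (.node (.node (.node (.leaf (1, 369)) (.leaf (67, 2539))) (.node (.leaf (1, 1393)) (.leaf (1, 3441)))) (.node (.node (.leaf (1, 881)) (.leaf (56, 426))) (.node (.leaf (0, 0)) (.leaf (1, 3953)))))) (.node (.node (.node (.node (.leaf (0, 0)) (.leaf (67, 3535))) (.node (.leaf (1, 1265)) (.leaf (1, 3313)))) (.node (.node (.leaf (1, 753)) (.leaf (54, 1452))) (.node (.leaf (47, 1761)) (.leaf (76, 3717))))) (.node (.node (.node (.leaf (1, 497)) (.leaf (1, 2545))) (.node (.leaf (0, 0)) (.leaf (76, 3866)))) (.node (.node (.leaf (0, 0)) (.leaf (77, 2523))) (.node (.leaf (0, 0)) (.leaf (76, 3549))))))))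

def twoVia198 : Janko.Tree (ℕ × ℕ) :=
  (.node (.node (.node (.node (.node (.node (.leaf (2, 49)) (.leaf (67, 2808))) (.node (.leaf (0, 0)) (.leaf (18, 1638)))) (.node (.node (.leaf (67, 1040)) (.leaf (62, 1681))) (.node (.leaf (0, 0)) (.leaf (2, 3633))))) (.node (.node (.node (.leaf (0, 0)) (.leaf (77, 2578))) (.node (.leaf (2, 1329)) (.leaf (73, 2246)))) (.node (.node (.leaf (2, 817)) (.leaf (4, 2865))) (.node (.leaf (8, 750)) (.leaf (67, 2554)))))) (.node (.node (.node (.node (.leaf (0, 0)) (.leaf (0, 0))) (.node (.leaf (67, 2558)) (.leaf (9, 2446)))) (.node (.node (.leaf (62, 1153)) (.leaf (62, 1596))) (.node (.leaf (7, 690)) (.leaf (2, 3761))))) (.node (.node (.node (.leaf (0, 0)) (.leaf (73, 3644))) (.node (.leaf (0, 0)) (.leaf (2, 3505)))) (.node (.node (.leaf (2, 2116)) (.leaf (77, 3392))) (.node (.leaf (66, 3374)) (.leaf (73, 3495))))))) (.node (.node (.node (.node (.node (.leaf (0, 0)) (.leaf (76, 2558))) (.node (.leaf (15, 2954)) (.leaf (0, 0)))) (.node (.node (.leaf (2, 625)) (.leaf (0, 0))) (.node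 (.leaf (0, 0)) (.leaf (73, 2024))))) (.node (.node (.node (.leaf (67, 180)) (.leaf (2, 2417))) (.node (.leaf (76, 1391)) (.leaf (77, 3218)))) (.node (.node (.leaf (46, 3277)) (.leaf (2, 2929))) (.node (.leaf (54, 2570)) (.leaf (73, 3788)))))) (.node (.node (.node (.node (.leaf (0, 0)) (.leaf (66, 2934))) (.node (.leaf (61, 1264)) (.leaf (2, 3313)))) (.node (.node (.leaf (2, 753)) (.leaf (65, 4032))) (.node (.leaf (2, 1777)) (.leaf (2, 3825))))) (.node (.node (.node (.leaf (0, 0)) (.leaf (77, 2665))) (.node (.leaf (2, 1521)) (.leaf (2, 3569)))) (.node (.node (.leaf (76, 3682)) (.leaf (73, 2143))) (.node (.leaf (2, 2033)) (.leaf (2, 4081))))))))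

def twoVia199 : Janko.Tree (ℕ × ℕ) :=
  (.node (.node (.node (.node (.node (.node (.leaf (0, 0)) (.leaf (69, 2440))) (.node (.leaf (0, 0)) (.leaf (44, 2039)))) (.node (.node (.leaf (0, 0)) (.leaf (25, 1716))) (.node (.leaf (18, 494)) (.leaf (76, 3341))))) (.node (.node (.node (.leaf (0, 0)) (.leaf (0, 0))) (.node (.leaf (0, 0)) (.leaf (0, 0)))) (.node (.node (.leaf (0, 0)) (.leaf (66, 1235))) (.node (.leaf (0, 0)) (.leaf (67, 3645)))))) (.node (.node (.node (.node (.leaf (0, 0)) (.leaf (67, 337))) (.node (.leaf (67, 1746)) (.leaf (62, 2553)))) (.node (.node (.leaf (0, 0)) (.leaf (57, 54))) (.node (.leaf (43, 1954)) (.leaf (48, 1608))))) (.node (.node (.node (.leaf (77, 3360)) (.leaf (67, 2745))) (.node (.leaf (67, 1500)) (.leaf (77, 3780)))) (.node (.node (.leaf (0, 0)) (.leaf (77, 2676))) (.node (.leaf (76, 2534)) (.leaf (67, 315))))))) (.node (.node (.node (.node (.node (.leaf (0, 0)) (.leaf (0, 0))) (.node (.leaf (0, 0)) (.leaf (59, 395)))) (.node (.node (.leaf (0, 0)) (.leaf (61, 3715))) (.node (.leaf (67,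 841)) (.leaf (55, 696))))) (.node (.node (.node (.leaf (0, 0)) (.leaf (73, 2727))) (.node (.leaf (66, 1274)) (.leaf (76, 869)))) (.node (.node (.leaf (0, 0)) (.leaf (0, 0))) (.node (.leaf (60, 3126)) (.leaf (74, 2590)))))) (.node (.node (.node (.node (.leaf (0, 0)) (.leaf (58, 1090))) (.node (.leaf (0, 0)) (.leaf (69, 2236)))) (.node (.node (.leaf (0, 0)) (.leaf (42, 3036))) (.node (.leaf (0, 0)) (.leaf (76, 2527))))) (.node (.node (.node (.leaf (0, 0)) (.leaf (76, 1486))) (.node (.leaf (77, 3413)) (.leaf (73, 3580)))) (.node (.node (.leaf (0, 0)) (.leaf (0, 0))) (.node (.leaf (64, 3174)) (.leaf (44, 990))))))))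

def twoVia200 : Janko.Tree (ℕ × ℕ) :=
  (.node (.node (.node (.node (.node (.node (.leaf (76, 2768)) (.leaf (47, 875))) (.node (.leaf (0, 1074)) (.leaf (51, 1148)))) (.node (.node (.leaf (66, 34)) (.leaf (67, 2037))) (.node (.leaf (0, 1586)) (.leaf (0, 3634))))) (.node (.node (.node (.leaf (0, 0)) (.leaf (67, 2337))) (.node (.leaf (0, 1330)) (.leaf (62, 1892)))) (.node (.node (.leaf (0, 0)) (.leaf (76, 4091))) (.node (.leaf (0, 0)) (.leaf (0, 3890)))))) (.node (.node (.node (.node (.leaf (35, 180)) (.leaf (0, 2226))) (.node (.leaf (0, 0)) (.leaf (0, 3250)))) (.node (.node (.leaf (0, 0)) (.leaf (76, 2738))) (.node (.leaf (67, 461)) (.leaf (73, 2173))))) (.node (.node (.node (.leaf (0, 0)) (.leaf (0, 2482))) (.node (.leaf (67, 342)) (.leaf (62, 2152)))) (.node (.node (.leaf (52, 946)) (.leaf (0, 2994))) (.node (.leaf (0, 1970)) (.leaf (0, 4018))))))) (.node (.node (.node (.node (.node (.leaf (0, 0)) (.leaf (75, 2233))) (.node (.leaf (66, 3229)) (.leaf (76, 3186)))) (.node (.node (.leaf (21, 626)) (.leaf (61, 2674)))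 (.node (.leaf (0, 1650)) (.leaf (9, 989))))) (.node (.node (.node (.leaf (0, 0)) (.leaf (55, 2416))) (.node (.leaf (76, 1394)) (.leaf (55, 782)))) (.node (.node (.leaf (0, 0)) (.leaf (0, 0))) (.node (.leaf (0, 1906)) (.leaf (73, 413)))))) (.node (.node (.node (.node (.leaf (0, 242)) (.leaf (73, 382))) (.node (.leaf (0, 0)) (.leaf (55, 1317)))) (.node (.node (.leaf (0, 0)) (.leaf (28, 588))) (.node (.leaf (76, 2526)) (.leaf (76, 3826))))) (.node (.node (.node (.leaf (77, 1543)) (.leaf (61, 2546))) (.node (.leaf (67, 1647)) (.leaf (73, 3570)))) (.node (.node (.leaf (0, 1010)) (.leaf (73, 653))) (.node (.leaf (0, 0)) (.leaf (62, 4082))))))))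

def twoVia201 : Janko.Tree (ℕ × ℕ) :=
  (.node (.node (.node (.node (.node (.node (.leaf (0, 0)) (.leaf (55, 3202))) (.node (.leaf (35, 393)) (.leaf (76, 2602)))) (.node (.node (.leaf (1, 562)) (.leaf (1, 2610))) (.node (.leaf (0, 0)) (.leaf (43, 101))))) (.node (.node (.node (.leaf (0, 0)) (.leaf (64, 3520))) (.node (.leaf (76, 2573)) (.leaf (66, 252)))) (.node (.node (.leaf (0, 0)) (.leaf (1, 2866))) (.node (.leaf (1, 1842)) (.leaf (76, 3810)))))) (.node (.node (.node (.node (.leaf (0, 0)) (.leaf (76, 1361))) (.node (.leaf (0, 0)) (.leaf (1, 3250)))) (.node (.node (.leaf (1, 690)) (.leaf (67, 3255))) (.node (.leaf (0, 0)) (.leaf (44, 3830))))) (.node (.node (.node (.leaf (76, 938)) (.leaf (54, 3756))) (.node (.leaf (1, 1458)) (.leaf (58, 3582)))) (.node (.node (.leaf (0, 0)) (.leaf (76, 1647))) (.node (.leaf (1, 1970)) (.leaf (58, 2482))))))) (.node (.node (.node (.node (.node (.leaf (1, 114)) (.leaf (1, 2162))) (.node (.leaf (66, 2096)) (.leaf (1, 3186)))) (.node (.node (.leaf (0, 0)) (.leaf (0, 0))) (.node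 (.leaf (67, 660)) (.leaf (1, 3698))))) (.node (.node (.node (.leaf (0, 0)) (.leaf (1, 2418))) (.node (.leaf (1, 2305)) (.leaf (1, 3442)))) (.node (.node (.leaf (64, 1773)) (.leaf (65, 261))) (.node (.leaf (0, 0)) (.leaf (73, 152)))))) (.node (.node (.node (.node (.leaf (0, 0)) (.leaf (46, 340))) (.node (.leaf (77, 4074)) (.leaf (67, 3349)))) (.node (.node (.leaf (1, 754)) (.leaf (1, 3709))) (.node (.leaf (1, 1778)) (.leaf (76, 3762))))) (.node (.node (.node (.leaf (0, 0)) (.leaf (76, 3747))) (.node (.leaf (0, 0)) (.leaf (76, 3863)))) (.node (.node (.leaf (76, 366)) (.leaf (1, 3058))) (.node (.leaf (76, 3536)) (.leaf (1, 4082))))))))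

def twoVia202 : Janko.Tree (ℕ × ℕ) :=
  (.node (.node (.node (.node (.node (.node (.leaf (0, 0)) (.leaf (2, 2098))) (.node (.leaf (67, 524)) (.leaf (2, 3122)))) (.node (.node (.leaf (2, 1035)) (.leaf (76, 2233))) (.node (.leaf (7, 604)) (.leaf (67, 3360))))) (.node (.node (.node (.leaf (0, 0)) (.leaf (2, 2354))) (.node (.leaf (71, 2980)) (.leaf (67, 1896)))) (.node (.node (.leaf (0, 0)) (.leaf (0, 0))) (.node (.leaf (58, 638)) (.leaf (67, 3709)))))) (.node (.node (.node (.node (.leaf (2, 178)) (.leaf (77, 4024))) (.node (.leaf (0, 0)) (.leaf (2, 3250)))) (.node (.node (.leaf (0, 0)) (.leaf (2, 2738))) (.node (.leaf (2, 1714)) (.leaf (2, 3762))))) (.node (.node (.node (.leaf (2, 434)) (.leaf (67, 1357))) (.node (.leaf (66, 852)) (.leaf (67, 925)))) (.node (.node (.leaf (7, 2098)) (.leaf (35, 62))) (.node (.leaf (76, 2189)) (.leaf (31, 673))))))) (.node (.node (.node (.node (.node (.leaf (0, 0)) (.leaf (5, 2256))) (.node (.leaf (73, 2480)) (.leaf (76, 3184)))) (.node (.node (.leaf (0, 0)) (.leaf (67, 3567))) (.node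 (.leaf (67, 408)) (.leaf (76, 3008))))) (.node (.node (.node (.leaf (2, 370)) (.leaf (62, 2161))) (.node (.leaf (4, 1394)) (.leaf (77, 3584)))) (.node (.node (.leaf (0, 0)) (.leaf (59, 601))) (.node (.leaf (0, 0)) (.leaf (2, 3954)))))) (.node (.node (.node (.node (.leaf (51, 127)) (.leaf (77, 1883))) (.node (.leaf (77, 3524)) (.leaf (2, 3314)))) (.node (.node (.leaf (0, 0)) (.leaf (73, 3815))) (.node (.leaf (66, 1261)) (.leaf (59, 2316))))) (.node (.node (.node (.leaf (2, 498)) (.leaf (2, 2546))) (.node (.leaf (67, 1371)) (.leaf (15, 2108)))) (.node (.node (.leaf (0, 0)) (.leaf (76, 1101))) (.node (.leaf (0, 0)) (.leaf (70, 2021))))))))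

def twoVia203 : Janko.Tree (ℕ × ℕ) :=
  (.node (.node (.node (.node (.node (.node (.leaf (0, 0)) (.leaf (73, 2078))) (.node (.leaf (57, 1357)) (.leaf (67, 2039)))) (.node (.node (.leaf (66, 502)) (.leaf (73, 4072))) (.node (.leaf (76, 3941)) (.leaf (67, 2170))))) (.node (.node (.node (.leaf (0, 0)) (.leaf (77, 3632))) (.node (.leaf (77, 2021)) (.leaf (65, 3541)))) (.node (.node (.leaf (0, 0)) (.leaf (14, 3883))) (.node (.leaf (60, 886)) (.leaf (73, 3888)))))) (.node (.node (.node (.node (.leaf (76, 3416)) (.leaf (66, 330))) (.node (.leaf (67, 3910)) (.leaf (66, 141)))) (.node (.node (.leaf (0, 0)) (.leaf (67, 3760))) (.node (.leaf (0, 0)) (.leaf (22, 2573))))) (.node (.node (.node (.leaf (0, 0)) (.leaf (21, 3435))) (.node (.leaf (0, 0)) (.leaf (76, 1390)))) (.node (.node (.leaf (67, 12)) (.leaf (73, 644))) (.node (.leaf (0, 0)) (.leaf (47, 1906))))))) (.node (.node (.node (.node (.node (.leaf (0, 0)) (.leaf (77, 3710))) (.node (.leaf (67, 138)) (.leaf (57, 1089)))) (.node (.node (.leaf (0, 0)) (.leaf (67, 2315)))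 (.node (.leaf (0, 0)) (.leaf (31, 3753))))) (.node (.node (.node (.leaf (0, 0)) (.leaf (40, 2038))) (.node (.leaf (77, 3893)) (.leaf (76, 1198)))) (.node (.node (.leaf (67, 71)) (.leaf (67, 204))) (.node (.leaf (0, 0)) (.leaf (76, 2338)))))) (.node (.node (.node (.node (.leaf (0, 0)) (.leaf (64, 1500))) (.node (.leaf (4, 2487)) (.leaf (67, 1796)))) (.node (.node (.leaf (0, 0)) (.leaf (77, 3974))) (.node (.leaf (0, 0)) (.leaf (0, 0))))) (.node (.node (.node (.leaf (0, 0)) (.leaf (22, 447))) (.node (.leaf (26, 1521)) (.leaf (73, 2942)))) (.node (.node (.leaf (77, 3448)) (.leaf (0, 0))) (.node (.leaf (25, 749)) (.leaf (25, 1087))))))))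

def twoVia204 : Janko.Tree (ℕ × ℕ) :=
  (.node (.node (.node (.node (.node (.node (.leaf (0, 51)) (.leaf (67, 2386))) (.node (.leaf (67, 1075)) (.leaf (76, 3123)))) (.node (.node (.leaf (0, 1296)) (.leaf (41, 537))) (.node (.leaf (0, 0)) (.leaf (77, 3635))))) (.node (.node (.node (.leaf (0, 307)) (.leaf (69, 118))) (.node (.leaf (75, 3783)) (.leaf (70, 2758)))) (.node (.node (.leaf (0, 0)) (.leaf (6, 2871))) (.node (.leaf (0, 0)) (.leaf (76, 3891)))))) (.node (.node (.node (.node (.leaf (71, 527)) (.leaf (67, 2139))) (.node (.leaf (18, 3051)) (.leaf (66, 1039)))) (.node (.node (.leaf (20, 691)) (.leaf (65, 2739))) (.node (.leaf (73, 47)) (.leaf (76, 3763))))) (.node (.node (.node (.leaf (0, 435)) (.leaf (76, 2483))) (.node (.leaf (0, 0)) (.leaf (0, 3507)))) (.node (.node (.leaf (0, 2175)) (.leaf (43, 2994))) (.node (.leaf (76, 1971)) (.leaf (77, 4019))))))) (.node (.node (.node (.node (.node (.leaf (0, 0)) (.leaf (50, 1214))) (.node (.leaf (0, 1139)) (.leaf (75, 3187)))) (.node (.node (.leaf (0, 627)) (.leaf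 (73, 3179))) (.node (.leaf (0, 3060)) (.leaf (20, 3699))))) (.node (.node (.node (.leaf (0, 0)) (.leaf (67, 2419))) (.node (.leaf (76, 1395)) (.leaf (73, 3443)))) (.node (.node (.leaf (0, 0)) (.leaf (73, 1749))) (.node (.leaf (0, 0)) (.leaf (75, 3839)))))) (.node (.node (.node (.node (.leaf (76, 2044)) (.leaf (0, 2291))) (.node (.leaf (62, 964)) (.leaf (0, 3315)))) (.node (.node (.leaf (0, 0)) (.leaf (67, 1234))) (.node (.leaf (75, 3943)) (.leaf (17, 1468))))) (.node (.node (.node (.leaf (76, 1626)) (.leaf (0, 2547))) (.node (.leaf (0, 1523)) (.leaf (77, 3638)))) (.node (.node (.leaf (22, 587)) (.leaf (10, 640))) (.node (.leaf (0, 2035)) (.leaf (73, 3779))))))))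

def twoVia205 : Janko.Tree (ℕ × ℕ) :=
  (.node (.node (.node (.node (.node (.node (.leaf (0, 0)) (.leaf (67, 2908))) (.node (.leaf (1, 1075)) (.leaf (76, 1972)))) (.node (.node (.leaf (67, 1482)) (.leaf (43, 3293))) (.node (.leaf (1, 1587)) (.leaf (1, 3635))))) (.node (.node (.node (.leaf (0, 0)) (.leaf (76, 3432))) (.node (.leaf (1, 1331)) (.leaf (65, 2985)))) (.node (.node (.leaf (1, 819)) (.leaf (0, 0))) (.node (.leaf (1, 1843)) (.leaf (1, 3891)))))) (.node (.node (.node (.node (.leaf (0, 0)) (.leaf (0, 0))) (.node (.leaf (0, 0)) (.leaf (76, 2109)))) (.node (.node (.leaf (0, 0)) (.leaf (76, 3486))) (.node (.leaf (76, 182)) (.leaf (1, 3763))))) (.node (.node (.node (.leaf (0, 0)) (.leaf (0, 0))) (.node (.leaf (76, 3659)) (.leaf (76, 1997)))) (.node (.node (.leaf (1, 947)) (.leaf (1, 2995))) (.node (.leaf (76, 1360)) (.leaf (76, 3667))))))) (.node (.node (.node (.node (.node (.leaf (0, 0)) (.leaf (1, 2163))) (.node (.leaf (12, 261)) (.leaf (44, 674)))) (.node (.node (.leaf (67, 215)) (.leaf (1, 2675))) (.node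 (.leaf (1, 1651)) (.leaf (1, 3699))))) (.node (.node (.node (.leaf (0, 0)) (.leaf (0, 0))) (.node (.leaf (1, 2124)) (.leaf (74, 4036)))) (.node (.node (.leaf (1, 883)) (.leaf (17, 2104))) (.node (.leaf (1, 1907)) (.leaf (77, 3648)))))) (.node (.node (.node (.node (.leaf (1, 243)) (.leaf (57, 992))) (.node (.leaf (77, 2581)) (.leaf (0, 0)))) (.node (.node (.leaf (0, 0)) (.leaf (1, 2803))) (.node (.leaf (0, 0)) (.leaf (0, 0))))) (.node (.node (.node (.leaf (0, 0)) (.leaf (76, 1261))) (.node (.leaf (60, 207)) (.leaf (76, 2797)))) (.node (.node (.leaf (0, 0)) (.leaf (76, 1643))) (.node (.leaf (67, 842)) (.leaf (1, 4083))))))))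

def twoVia206 : Janko.Tree (ℕ × ℕ) :=
  (.node (.node (.node (.node (.node (.node (.leaf (0, 0)) (.leaf (66, 3026))) (.node (.leaf (76, 1127)) (.leaf (67, 2380)))) (.node (.node (.leaf (2, 563)) (.leaf (15, 1607))) (.node (.leaf (0, 0)) (.leaf (66, 2399))))) (.node (.node (.node (.leaf (0, 0)) (.leaf (67, 3434))) (.node (.leaf (76, 849)) (.leaf (76, 3698)))) (.node (.node (.leaf (76, 3343)) (.leaf (2, 2867))) (.node (.leaf (52, 261)) (.leaf (73, 3807)))))) (.node (.node (.node (.node (.leaf (0, 0)) (.leaf (2, 2227))) (.node (.leaf (0, 0)) (.leaf (4, 3251)))) (.node (.node (.leaf (0, 0)) (.leaf (2, 2739))) (.node (.leaf (77, 2753)) (.leaf (62, 792))))) (.node (.node (.node (.leaf (10, 680)) (.leaf (0, 0))) (.node (.leaf (73, 1320)) (.leaf (77, 3727)))) (.node (.node (.leaf (8, 2168)) (.leaf (76, 1248))) (.node (.leaf (76, 4000)) (.leaf (2, 4019))))))) (.node (.node (.node (.node (.node (.leaf (2, 115)) (.leaf (0, 0))) (.node (.leaf (0, 0)) (.leaf (0, 0)))) (.node (.node (.leaf (0, 0)) (.leaf (60, 1851))) (.node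 (.leaf (0, 0)) (.leaf (59, 1053))))) (.node (.node (.node (.leaf (0, 0)) (.leaf (58, 615))) (.node (.leaf (2, 1395)) (.leaf (77, 3554)))) (.node (.node (.leaf (76, 3374)) (.leaf (67, 2183))) (.node (.leaf (67, 3454)) (.leaf (2, 3955)))))) (.node (.node (.node (.node (.leaf (0, 0)) (.leaf (8, 992))) (.node (.leaf (77, 851)) (.leaf (2, 3315)))) (.node (.node (.leaf (0, 0)) (.leaf (55, 579))) (.node (.leaf (2, 1779)) (.leaf (2, 3827))))) (.node (.node (.node (.leaf (73, 1192)) (.leaf (77, 2260))) (.node (.leaf (76, 1711)) (.leaf (77, 1345)))) (.node (.node (.leaf (2, 1011)) (.leaf (2, 3059))) (.node (.leaf (67, 744)) (.leaf (67, 1321))))))))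

def twoVia207 : Janko.Tree (ℕ × ℕ) :=
  (.node (.node (.node (.node (.node (.node (.leaf (0, 0)) (.leaf (61, 1184))) (.node (.leaf (67, 419)) (.leaf (67, 608)))) (.node (.node (.leaf (0, 0)) (.leaf (46, 402))) (.node (.leaf (0, 0)) (.leaf (4, 3249))))) (.node (.node (.node (.leaf (0, 0)) (.leaf (67, 2077))) (.node (.leaf (21, 563)) (.leaf (58, 3971)))) (.node (.node (.leaf (0, 0)) (.leaf (22, 2315))) (.node (.leaf (0, 0)) (.leaf (71, 3890)))))) (.node (.node (.node (.node (.leaf (26, 178)) (.leaf (71, 1518))) (.node (.leaf (48, 1181)) (.leaf (73, 3944)))) (.node (.node (.leaf (24, 146)) (.leaf (77, 3900))) (.node (.leaf (65, 2582)) (.leaf (75, 2466))))) (.node (.node (.node (.leaf (0, 0)) (.leaf (59, 634))) (.node (.leaf (0, 0)) (.leaf (75, 2578)))) (.node (.node (.leaf (65, 1518)) (.leaf (66, 3734))) (.node (.leaf (54, 3374)) (.leaf (74, 4041))))))) (.node (.node (.node (.node (.node (.leaf (0, 0)) (.leaf (70, 4094))) (.node (.leaf (74, 3333)) (.leaf (59, 2573)))) (.node (.node (.leaf (0, 0)) (.leaf (65, 630)))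 (.node (.leaf (0, 0)) (.leaf (14, 3977))))) (.node (.node (.node (.leaf (0, 0)) (.leaf (24, 991))) (.node (.leaf (66, 2840)) (.leaf (59, 1681)))) (.node (.node (.leaf (67, 635)) (.leaf (55, 716))) (.node (.leaf (43, 638)) (.leaf (59, 666)))))) (.node (.node (.node (.node (.leaf (0, 0)) (.leaf (67, 161))) (.node (.leaf (52, 530)) (.leaf (21, 1568)))) (.node (.node (.leaf (0, 0)) (.leaf (67, 2035))) (.node (.leaf (0, 0)) (.leaf (66, 225))))) (.node (.node (.node (.leaf (24, 178)) (.leaf (73, 2936))) (.node (.leaf (0, 0)) (.leaf (8, 878)))) (.node (.node (.leaf (77, 3054)) (.leaf (65, 560))) (.node (.leaf (0, 0)) (.leaf (66, 1310))))))))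

def twoVia208 : Janko.Tree (ℕ × ℕ) :=
  (.node (.node (.node (.node (.node (.node (.leaf (0, 0)) (.leaf (50, 2100))) (.node (.leaf (67, 1130)) (.leaf (67, 838)))) (.node (.node (.leaf (0, 0)) (.leaf (77, 2782))) (.node (.leaf (0, 0)) (.leaf (0, 3636))))) (.node (.node (.node (.leaf (0, 0)) (.leaf (0, 0))) (.node (.leaf (0, 1802)) (.leaf (66, 3008)))) (.node (.node (.leaf (76, 3342)) (.leaf (73, 2868))) (.node (.leaf (0, 1844)) (.leaf (73, 3153)))))) (.node (.node (.node (.node (.leaf (0, 180)) (.leaf (71, 1357))) (.node (.leaf (0, 1204)) (.leaf (0, 3252)))) (.node (.node (.leaf (33, 692)) (.leaf (0, 2740))) (.node (.leaf (76, 4011)) (.leaf (77, 3764))))) (.node (.node (.node (.leaf (0, 934)) (.leaf (64, 2484))) (.node (.leaf (0, 1460)) (.leaf (0, 3508)))) (.node (.node (.leaf (0, 0)) (.leaf (76, 2996))) (.node (.leaf (0, 1972)) (.leaf (77, 4020))))))) (.node (.node (.node (.node (.node (.leaf (76, 3213)) (.leaf (74, 2938))) (.node (.leaf (73, 2585)) (.leaf (0, 0)))) (.node (.node (.leaf (0, 0)) (.leaf (0, 2676)))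 (.node (.leaf (0, 0)) (.leaf (0, 3700))))) (.node (.node (.node (.leaf (0, 372)) (.leaf (67, 2510))) (.node (.leaf (76, 1396)) (.leaf (73, 3775)))) (.node (.node (.leaf (0, 2055)) (.leaf (0, 2932))) (.node (.leaf (0, 0)) (.leaf (0, 3956)))))) (.node (.node (.node (.node (.leaf (0, 0)) (.leaf (74, 844))) (.node (.leaf (71, 1268)) (.leaf (76, 3316)))) (.node (.node (.leaf (0, 756)) (.leaf (9, 2804))) (.node (.leaf (0, 1780)) (.leaf (0, 3828))))) (.node (.node (.node (.leaf (0, 500)) (.leaf (0, 2548))) (.node (.leaf (0, 0)) (.leaf (0, 3572)))) (.node (.node (.leaf (21, 1012)) (.leaf (53, 640))) (.node (.leaf (48, 92)) (.leaf (71, 669))))))))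

def twoVia209 : Janko.Tree (ℕ × ℕ) :=
  (.node (.node (.node (.node (.node (.node (.leaf (0, 0)) (.leaf (0, 0))) (.node (.leaf (76, 2116)) (.leaf (67, 111)))) (.node (.node (.leaf (58, 3038)) (.leaf (46, 2734))) (.node (.leaf (1, 2962)) (.leaf (67, 2968))))) (.node (.node (.node (.leaf (1, 308)) (.leaf (1, 2356))) (.node (.leaf (77, 2516)) (.leaf (1, 3380)))) (.node (.node (.leaf (0, 0)) (.leaf (66, 1457))) (.node (.leaf (66, 1114)) (.leaf (76, 3513)))))) (.node (.node (.node (.node (.leaf (0, 0)) (.leaf (76, 926))) (.node (.leaf (1, 2551)) (.leaf (0, 0)))) (.node (.node (.leaf (0, 0)) (.leaf (76, 3082))) (.node (.leaf (1, 1716)) (.leaf (1, 3764))))) (.node (.node (.node (.leaf (1, 436)) (.leaf (1, 2484))) (.node (.leaf (0, 0)) (.leaf (72, 2457)))) (.node (.node (.leaf (1, 948)) (.leaf (1, 2996))) (.node (.leaf (65, 404)) (.leaf (46, 3644))))))) (.node (.node (.node (.node (.node (.leaf (0, 0)) (.leaf (64, 3628))) (.node (.leaf (1, 1140)) (.leaf (1, 3188)))) (.node (.node (.leaf (54, 214)) (.leaf (71, 3188)))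 (.node (.leaf (0, 0)) (.leaf (76, 2681))))) (.node (.node (.node (.leaf (0, 0)) (.leaf (49, 595))) (.node (.leaf (0, 0)) (.leaf (1, 3444)))) (.node (.node (.leaf (1, 884)) (.leaf (77, 2107))) (.node (.leaf (0, 0)) (.leaf (76, 3267)))))) (.node (.node (.node (.node (.leaf (0, 0)) (.leaf (1, 2292))) (.node (.leaf (76, 463)) (.leaf (1, 3316)))) (.node (.node (.leaf (62, 223)) (.leaf (58, 2054))) (.node (.leaf (76, 3162)) (.leaf (48, 1724))))) (.node (.node (.node (.leaf (0, 0)) (.leaf (76, 1188))) (.node (.leaf (0, 0)) (.leaf (54, 2512)))) (.node (.node (.leaf (0, 0)) (.leaf (1, 3060))) (.node (.leaf (76, 3327)) (.leaf (66, 3588))))))))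

def twoVia210 : Janko.Tree (ℕ × ℕ) :=
  (.node (.node (.node (.node (.node (.node (.leaf (2, 52)) (.leaf (2, 2100))) (.node (.leaf (2, 1076)) (.leaf (2, 3124)))) (.node (.node (.leaf (0, 0)) (.leaf (73, 1341))) (.node (.leaf (4, 1588)) (.leaf (17, 2169))))) (.node (.node (.node (.leaf (0, 0)) (.leaf (67, 3495))) (.node (.leaf (2, 1332)) (.leaf (76, 3714)))) (.node (.node (.leaf (77, 3449)) (.leaf (74, 3659))) (.node (.leaf (76, 2453)) (.leaf (2, 3892)))))) (.node (.node (.node (.node (.leaf (67, 1703)) (.leaf (43, 632))) (.node (.leaf (0, 0)) (.leaf (71, 3384)))) (.node (.node (.leaf (67, 1467)) (.leaf (0, 0))) (.node (.leaf (73, 2850)) (.leaf (22, 1814))))) (.node (.node (.node (.leaf (0, 0)) (.leaf (65, 420))) (.node (.leaf (67, 2823)) (.leaf (22, 2000)))) (.node (.node (.leaf (59, 106)) (.leaf (71, 697))) (.node (.leaf (26, 3329)) (.leaf (2, 4020))))))) (.node (.node (.node (.node (.node (.leaf (0, 0)) (.leaf (2, 2164))) (.node (.leaf (55, 1139)) (.leaf (66, 3923)))) (.node (.node (.leaf (2, 628)) (.leaf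 (74, 3164))) (.node (.leaf (0, 0)) (.leaf (77, 3492))))) (.node (.node (.node (.leaf (0, 0)) (.leaf (65, 2009))) (.node (.leaf (0, 0)) (.leaf (73, 2630)))) (.node (.node (.leaf (76, 1175)) (.leaf (2, 3915))) (.node (.leaf (2, 1908)) (.leaf (73, 3738)))))) (.node (.node (.node (.node (.leaf (0, 0)) (.leaf (55, 1688))) (.node (.leaf (77, 3536)) (.leaf (76, 3719)))) (.node (.node (.leaf (0, 0)) (.leaf (2, 2804))) (.node (.leaf (0, 0)) (.leaf (2, 3828))))) (.node (.node (.node (.leaf (64, 2801)) (.leaf (76, 2510))) (.node (.leaf (2, 1524)) (.leaf (67, 2156)))) (.node (.node (.leaf (2, 1012)) (.leaf (66, 1919))) (.node (.leaf (2, 2036)) (.leaf (66, 2393))))))))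

def twoVia211 : Janko.Tree (ℕ × ℕ) :=
  (.node (.node (.node (.node (.node (.node (.leaf (0, 0)) (.leaf (0, 0))) (.node (.leaf (74, 3964)) (.leaf (75, 3036)))) (.node (.node (.leaf (0, 0)) (.leaf (65, 3540))) (.node (.leaf (21, 2864)) (.leaf (74, 3658))))) (.node (.node (.node (.leaf (0, 0)) (.leaf (43, 1030))) (.node (.leaf (74, 2240)) (.leaf (67, 3753)))) (.node (.node (.leaf (0, 0)) (.leaf (67, 3623))) (.node (.leaf (66, 2709)) (.leaf (22, 3761)))))) (.node (.node (.node (.node (.leaf (0, 0)) (.leaf (59, 1514))) (.node (.leaf (73, 2300)) (.leaf (20, 2373)))) (.node (.node (.leaf (43, 1685)) (.leaf (61, 3830))) (.node (.leaf (47, 2231)) (.leaf (64, 3220))))) (.node (.node (.node (.leaf (0, 0)) (.leaf (54, 1221))) (.node (.leaf (0, 0)) (.leaf (74, 795)))) (.node (.node (.leaf (73, 3132)) (.leaf (57, 1451))) (.node (.leaf (44, 3483)) (.leaf (73, 2138))))))) (.node (.node (.node (.node (.node (.leaf (0, 0)) (.leaf (0, 0))) (.node (.leaf (60, 293)) (.leaf (0, 0)))) (.node (.node (.leaf (0, 0)) (.leaf (77, 3918)))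 (.node (.leaf (0, 0)) (.leaf (41, 359))))) (.node (.node (.node (.leaf (0, 0)) (.leaf (61, 1833))) (.node (.leaf (74, 3516)) (.leaf (44, 1487)))) (.node (.node (.leaf (0, 0)) (.leaf (22, 2401))) (.node (.leaf (0, 0)) (.leaf (8, 3021)))))) (.node (.node (.node (.node (.leaf (0, 0)) (.leaf (65, 677))) (.node (.leaf (0, 0)) (.leaf (77, 4033)))) (.node (.node (.leaf (0, 0)) (.leaf (71, 1008))) (.node (.leaf (74, 4087)) (.leaf (73, 1614))))) (.node (.node (.node (.leaf (0, 0)) (.leaf (69, 616))) (.node (.leaf (0, 0)) (.leaf (0, 0)))) (.node (.node (.leaf (0, 0)) (.leaf (73, 3007))) (.node (.leaf (59, 92)) (.leaf (71, 392))))))))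

def twoVia212 : Janko.Tree (ℕ × ℕ) :=
  (.node (.node (.node (.node (.node (.node (.leaf (0, 0)) (.leaf (77, 2101))) (.node (.leaf (0, 0)) (.leaf (0, 0)))) (.node (.node (.leaf (0, 0)) (.leaf (0, 2613))) (.node (.leaf (0, 0)) (.leaf (73, 3658))))) (.node (.node (.node (.leaf (0, 0)) (.leaf (73, 2613))) (.node (.leaf (71, 1333)) (.leaf (0, 0)))) (.node (.node (.leaf (0, 821)) (.leaf (0, 2869))) (.node (.leaf (0, 1845)) (.leaf (10, 3893)))))) (.node (.node (.node (.node (.leaf (0, 0)) (.leaf (8, 387))) (.node (.leaf (77, 2919)) (.leaf (67, 3278)))) (.node (.node (.leaf (76, 1080)) (.leaf (69, 891))) (.node (.leaf (16, 464)) (.leaf (75, 3777))))) (.node (.node (.node (.leaf (0, 0)) (.leaf (67, 2522))) (.node (.leaf (0, 0)) (.leaf (73, 3662)))) (.node (.node (.leaf (0, 949)) (.leaf (53, 1279))) (.node (.leaf (0, 0)) (.leaf (0, 4021))))))) (.node (.node (.node (.node (.node (.leaf (0, 117)) (.leaf (76, 2165))) (.node (.leaf (0, 0)) (.leaf (65, 3189)))) (.node (.node (.leaf (0, 0)) (.leaf (73, 2677))) (.node (.leaf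 (0, 1653)) (.leaf (75, 3701))))) (.node (.node (.node (.leaf (0, 0)) (.leaf (0, 2421))) (.node (.leaf (0, 1397)) (.leaf (0, 3445)))) (.node (.node (.leaf (0, 0)) (.leaf (0, 0))) (.node (.leaf (0, 0)) (.leaf (21, 3957)))))) (.node (.node (.node (.node (.leaf (0, 245)) (.leaf (0, 0))) (.node (.leaf (73, 174)) (.leaf (0, 3317)))) (.node (.node (.leaf (0, 757)) (.leaf (0, 0))) (.node (.leaf (62, 3739)) (.leaf (22, 3829))))) (.node (.node (.node (.leaf (76, 1998)) (.leaf (77, 2549))) (.node (.leaf (73, 602)) (.leaf (0, 3573)))) (.node (.node (.leaf (0, 0)) (.leaf (73, 865))) (.node (.leaf (0, 2995)) (.leaf (65, 4085))))))))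

def twoVia213 : Janko.Tree (ℕ × ℕ) :=
  (.node (.node (.node (.node (.node (.node (.leaf (0, 0)) (.leaf (75, 3166))) (.node (.leaf (25, 2376)) (.leaf (43, 3117)))) (.node (.node (.leaf (1, 565)) (.leaf (48, 1233))) (.node (.leaf (1, 1589)) (.leaf (65, 2355))))) (.node (.node (.node (.leaf (0, 0)) (.leaf (55, 3433))) (.node (.leaf (0, 0)) (.leaf (1, 3381)))) (.node (.node (.leaf (76, 2122)) (.leaf (0, 0))) (.node (.leaf (9, 1145)) (.leaf (54, 2935)))))) (.node (.node (.node (.node (.leaf (0, 0)) (.leaf (0, 0))) (.node (.leaf (1, 1205)) (.leaf (36, 2773)))) (.node (.node (.leaf (1, 693)) (.leaf (76, 3807))) (.node (.leaf (0, 0)) (.leaf (76, 3887))))) (.node (.node (.node (.leaf (74, 1168)) (.leaf (66, 998))) (.node (.leaf (1, 1461)) (.leaf (56, 1681)))) (.node (.node (.leaf (0, 0)) (.leaf (1, 2997))) (.node (.leaf (1, 1973)) (.leaf (54, 3188))))))) (.node (.node (.node (.node (.node (.leaf (0, 0)) (.leaf (65, 2599))) (.node (.leaf (1, 2039)) (.leaf (65, 647)))) (.node (.node (.leaf (0, 0)) (.leaf (1, 3024))) (.node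 (.leaf (0, 0)) (.leaf (1, 3701))))) (.node (.node (.node (.leaf (1, 373)) (.leaf (49, 1461))) (.node (.leaf (1, 2218)) (.leaf (65, 3366)))) (.node (.node (.leaf (0, 0)) (.leaf (76, 2597))) (.node (.leaf (54, 3436)) (.leaf (76, 3703)))))) (.node (.node (.node (.node (.leaf (0, 0)) (.leaf (1, 2293))) (.node (.leaf (1, 1269)) (.leaf (76, 1906)))) (.node (.node (.leaf (0, 0)) (.leaf (0, 0))) (.node (.leaf (76, 3815)) (.leaf (66, 656))))) (.node (.node (.node (.leaf (0, 0)) (.leaf (1, 3416))) (.node (.leaf (66, 1174)) (.leaf (76, 2153)))) (.node (.node (.leaf (1, 1013)) (.leaf (76, 2234))) (.node (.leaf (76, 3164)) (.leaf (1, 4085))))))))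

def twoVia214 : Janko.Tree (ℕ × ℕ) :=
  (.node (.node (.node (.node (.node (.node (.leaf (0, 0)) (.leaf (58, 1982))) (.node (.leaf (0, 0)) (.leaf (67, 2289)))) (.node (.node (.leaf (0, 0)) (.leaf (67, 2242))) (.node (.leaf (0, 0)) (.leaf (67, 2338))))) (.node (.node (.node (.leaf (2, 309)) (.leaf (2, 2357))) (.node (.leaf (40, 3950)) (.leaf (2, 3959)))) (.node (.node (.leaf (0, 0)) (.leaf (0, 0))) (.node (.leaf (60, 6)) (.leaf (2, 3893)))))) (.node (.node (.node (.node (.leaf (2, 181)) (.leaf (2, 2229))) (.node (.leaf (50, 1204)) (.leaf (2, 3253)))) (.node (.node (.leaf (67, 332)) (.leaf (2, 2741))) (.node (.leaf (2, 1717)) (.leaf (2, 3765))))) (.node (.node (.node (.leaf (0, 0)) (.leaf (67, 1006))) (.node (.leaf (0, 0)) (.leaf (2, 3509)))) (.node (.node (.leaf (6, 2134)) (.leaf (76, 3760))) (.node (.leaf (56, 205)) (.leaf (66, 3762))))))) (.node (.node (.node (.node (.node (.leaf (0, 0)) (.leaf (73, 2928))) (.node (.leaf (2, 1141)) (.leaf (76, 1053)))) (.node (.node (.leaf (2, 1531)) (.leaf (59, 2702))) (.node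 (.leaf (66, 1768)) (.leaf (76, 3026))))) (.node (.node (.node (.leaf (67, 158)) (.leaf (0, 0))) (.node (.leaf (74, 2869)) (.leaf (73, 4059)))) (.node (.node (.leaf (0, 0)) (.leaf (2, 2933))) (.node (.leaf (0, 0)) (.leaf (2, 3957)))))) (.node (.node (.node (.node (.leaf (0, 0)) (.leaf (67, 359))) (.node (.leaf (76, 2986)) (.leaf (9, 2702)))) (.node (.node (.leaf (0, 0)) (.leaf (70, 3765))) (.node (.leaf (2, 1781)) (.leaf (76, 2302))))) (.node (.node (.node (.leaf (74, 1202)) (.leaf (2, 2549))) (.node (.leaf (0, 0)) (.leaf (10, 307)))) (.node (.node (.leaf (71, 2904)) (.leaf (73, 2644))) (.node (.leaf (2, 3458)) (.leaf (74, 872))))))))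

def twoVia215 : Janko.Tree (ℕ × ℕ) :=
  (.node (.node (.node (.node (.node (.node (.leaf (0, 0)) (.leaf (0, 0))) (.node (.leaf (0, 0)) (.leaf (67, 1973)))) (.node (.node (.leaf (0, 0)) (.leaf (60, 1391))) (.node (.leaf (0, 0)) (.leaf (67, 151))))) (.node (.node (.node (.leaf (0, 0)) (.leaf (59, 2351))) (.node (.leaf (73, 1871)) (.leaf (19, 3121)))) (.node (.node (.leaf (0, 0)) (.leaf (22, 1915))) (.node (.leaf (74, 3977)) (.leaf (73, 4016)))))) (.node (.node (.node (.node (.leaf (0, 0)) (.leaf (77, 1070))) (.node (.leaf (73, 1204)) (.leaf (67, 2446)))) (.node (.node (.leaf (0, 0)) (.leaf (29, 2159))) (.node (.leaf (73, 814)) (.leaf (77, 2755))))) (.node (.node (.node (.leaf (0, 0)) (.leaf (40, 500))) (.node (.leaf (65, 1069)) (.leaf (73, 3566)))) (.node (.node (.leaf (0, 0)) (.leaf (43, 2723))) (.node (.leaf (43, 87)) (.leaf (41, 676))))))) (.node (.node (.node (.node (.node (.leaf (0, 0)) (.leaf (8, 325))) (.node (.leaf (0, 0)) (.leaf (67, 3231)))) (.node (.node (.leaf (64, 196)) (.leaf (75, 2471))) (.node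 (.leaf (77, 1768)) (.leaf (21, 396))))) (.node (.node (.node (.leaf (0, 0)) (.leaf (77, 3274))) (.node (.leaf (0, 0)) (.leaf (75, 3508)))) (.node (.node (.leaf (76, 3502)) (.leaf (67, 2022))) (.node (.leaf (54, 1378)) (.leaf (44, 1221)))))) (.node (.node (.node (.node (.leaf (0, 0)) (.leaf (59, 228))) (.node (.leaf (0, 0)) (.leaf (69, 3397)))) (.node (.node (.leaf (77, 2164)) (.leaf (66, 991))) (.node (.leaf (0, 0)) (.leaf (64, 1467))))) (.node (.node (.node (.leaf (0, 0)) (.leaf (35, 804))) (.node (.leaf (65, 894)) (.leaf (67, 2098)))) (.node (.node (.leaf (76, 3736)) (.leaf (64, 2984))) (.node (.leaf (65, 518)) (.leaf (73, 2816))))))))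

def twoVia216 : Janko.Tree (ℕ × ℕ) :=
  (.node (.node (.node (.node (.node (.node (.leaf (0, 54)) (.leaf (77, 2102))) (.node (.leaf (51, 606)) (.leaf (0, 3126)))) (.node (.node (.leaf (38, 566)) (.leaf (73, 1932))) (.node (.leaf (0, 1590)) (.leaf (0, 3638))))) (.node (.node (.node (.leaf (76, 2753)) (.leaf (0, 2358))) (.node (.leaf (75, 3420)) (.leaf (73, 3469)))) (.node (.node (.leaf (0, 0)) (.leaf (77, 3599))) (.node (.leaf (51, 2044)) (.leaf (12, 3894)))))) (.node (.node (.node (.node (.leaf (0, 0)) (.leaf (76, 2230))) (.node (.leaf (0, 0)) (.leaf (73, 2680)))) (.node (.node (.leaf (0, 0)) (.leaf (0, 2742))) (.node (.leaf (0, 0)) (.leaf (0, 3766))))) (.node (.node (.node (.leaf (0, 438)) (.leaf (0, 2486))) (.node (.leaf (76, 2478)) (.leaf (53, 3510)))) (.node (.node (.leaf (6, 950)) (.leaf (67, 3409))) (.node (.leaf (56, 133)) (.leaf (60, 4022))))))) (.node (.node (.node (.node (.node (.leaf (0, 0)) (.leaf (0, 2166))) (.node (.leaf (67, 624)) (.leaf (67, 1084)))) (.node (.node (.leaf (0, 630)) (.leaf (77,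 2678))) (.node (.leaf (58, 1654)) (.leaf (67, 3341))))) (.node (.node (.node (.leaf (0, 0)) (.leaf (71, 945))) (.node (.leaf (0, 0)) (.leaf (77, 3762)))) (.node (.node (.leaf (53, 97)) (.leaf (0, 0))) (.node (.leaf (77, 1910)) (.leaf (22, 3958)))))) (.node (.node (.node (.node (.leaf (0, 0)) (.leaf (0, 2294))) (.node (.leaf (76, 1347)) (.leaf (0, 0)))) (.node (.node (.leaf (0, 0)) (.leaf (0, 2806))) (.node (.leaf (22, 1782)) (.leaf (56, 715))))) (.node (.node (.node (.leaf (0, 502)) (.leaf (76, 2550))) (.node (.leaf (0, 1526)) (.leaf (51, 3572)))) (.node (.node (.leaf (76, 1014)) (.leaf (0, 3062))) (.node (.leaf (0, 0)) (.leaf (75, 4086))))))))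

def twoVia217 : Janko.Tree (ℕ × ℕ) :=
  (.node (.node (.node (.node (.node (.node (.leaf (0, 0)) (.leaf (77, 3038))) (.node (.leaf (1, 1078)) (.leaf (76, 3919)))) (.node (.node (.leaf (44, 279)) (.leaf (76, 3696))) (.node (.leaf (76, 932)) (.leaf (23, 3983))))) (.node (.node (.node (.leaf (0, 0)) (.leaf (76, 3683))) (.node (.leaf (76, 2071)) (.leaf (67, 3143)))) (.node (.node (.leaf (76, 1568)) (.leaf (76, 2089))) (.node (.leaf (54, 751)) (.leaf (1, 3894)))))) (.node (.node (.node (.node (.leaf (0, 0)) (.leaf (0, 0))) (.node (.leaf (0, 0)) (.leaf (1, 3254)))) (.node (.node (.leaf (0, 0)) (.leaf (1, 3339))) (.node (.leaf (1, 1718)) (.leaf (77, 2740))))) (.node (.node (.node (.leaf (41, 1152)) (.leaf (76, 2977))) (.node (.leaf (0, 0)) (.leaf (1, 3510)))) (.node (.node (.leaf (0, 0)) (.leaf (76, 2253))) (.node (.leaf (58, 391)) (.leaf (1, 4022))))))) (.node (.node (.node (.node (.node (.leaf (0, 0)) (.leaf (0, 0))) (.node (.leaf (67, 3327)) (.leaf (1, 3190)))) (.node (.node (.leaf (0, 0)) (.leaf (76, 3463))) (.node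 (.leaf (1, 1654)) (.leaf (1, 3702))))) (.node (.node (.node (.leaf (0, 0)) (.leaf (1, 2422))) (.node (.leaf (77, 3927)) (.leaf (77, 2748)))) (.node (.node (.leaf (1, 886)) (.leaf (1, 2934))) (.node (.leaf (1, 1910)) (.leaf (57, 630)))))) (.node (.node (.node (.node (.leaf (1, 246)) (.leaf (67, 994))) (.node (.leaf (1, 1270)) (.leaf (1, 3318)))) (.node (.node (.leaf (1, 758)) (.leaf (65, 1457))) (.node (.leaf (0, 0)) (.leaf (1, 3830))))) (.node (.node (.node (.leaf (67, 512)) (.leaf (1, 2550))) (.node (.leaf (0, 0)) (.leaf (1, 3574)))) (.node (.node (.leaf (0, 0)) (.leaf (1, 3062))) (.node (.leaf (66, 1050)) (.leaf (76, 3597))))))))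

def twoVia218 : Janko.Tree (ℕ × ℕ) :=
  (.node (.node (.node (.node (.node (.node (.leaf (0, 0)) (.leaf (2, 2102))) (.node (.leaf (0, 0)) (.leaf (67, 353)))) (.node (.node (.leaf (76, 2603)) (.leaf (2, 2614))) (.node (.leaf (8, 671)) (.leaf (2, 3638))))) (.node (.node (.node (.leaf (76, 2443)) (.leaf (77, 1692))) (.node (.leaf (2, 1334)) (.leaf (2, 3382)))) (.node (.node (.leaf (2, 822)) (.leaf (2, 2870))) (.node (.leaf (2, 1846)) (.leaf (60, 98)))))) (.node (.node (.node (.node (.leaf (0, 0)) (.leaf (76, 3883))) (.node (.leaf (2, 1206)) (.leaf (73, 1922)))) (.node (.node (.leaf (0, 0)) (.leaf (76, 2629))) (.node (.leaf (47, 2828)) (.leaf (2, 3766))))) (.node (.node (.node (.leaf (2, 1150)) (.leaf (2, 2486))) (.node (.leaf (2, 1462)) (.leaf (73, 2802)))) (.node (.node (.leaf (2, 950)) (.leaf (67, 488))) (.node (.leaf (2, 1974)) (.leaf (2, 4095))))))) (.node (.node (.node (.node (.node (.leaf (2, 118)) (.leaf (19, 913))) (.node (.leaf (4, 1142)) (.leaf (2, 3190)))) (.node (.node (.leaf (10, 577)) (.leaf (74,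 2372))) (.node (.leaf (76, 2197)) (.leaf (76, 3214))))) (.node (.node (.node (.leaf (0, 0)) (.leaf (0, 0))) (.node (.leaf (73, 1754)) (.leaf (2, 3446)))) (.node (.node (.leaf (67, 1552)) (.leaf (51, 2289))) (.node (.leaf (0, 0)) (.leaf (65, 2560)))))) (.node (.node (.node (.node (.leaf (0, 0)) (.leaf (28, 3679))) (.node (.leaf (55, 162)) (.leaf (76, 2912)))) (.node (.node (.leaf (0, 0)) (.leaf (61, 3552))) (.node (.leaf (66, 1368)) (.leaf (51, 1469))))) (.node (.node (.node (.leaf (35, 1304)) (.leaf (74, 2035))) (.node (.leaf (7, 1288)) (.leaf (71, 3721)))) (.node (.node (.leaf (77, 3508)) (.leaf (76, 3025))) (.node (.leaf (67, 1313)) (.leaf (73, 3804))))))))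

def twoVia219 : Janko.Tree (ℕ × ℕ) :=
  (.node (.node (.node (.node (.node (.node (.leaf (0, 0)) (.leaf (77, 3245))) (.node (.leaf (67, 429)) (.leaf (43, 345)))) (.node (.node (.leaf (26, 471)) (.leaf (73, 3100))) (.node (.leaf (0, 0)) (.leaf (43, 261))))) (.node (.node (.node (.leaf (0, 0)) (.leaf (77, 3913))) (.node (.leaf (0, 0)) (.leaf (77, 3305)))) (.node (.node (.leaf (0, 0)) (.leaf (4, 3458))) (.node (.leaf (57, 2857)) (.leaf (77, 1187)))))) (.node (.node (.node (.node (.leaf (0, 0)) (.leaf (67, 611))) (.node (.leaf (73, 1979)) (.leaf (0, 0)))) (.node (.node (.leaf (0, 0)) (.leaf (22, 3358))) (.node (.leaf (76, 1686)) (.leaf (26, 3762))))) (.node (.node (.node (.leaf (0, 0)) (.leaf (74, 2532))) (.node (.leaf (0, 0)) (.leaf (56, 691)))) (.node (.node (.leaf (0, 0)) (.leaf (65, 529))) (.node (.leaf (57, 2791)) (.leaf (58, 3753))))))) (.node (.node (.node (.node (.node (.leaf (0, 0)) (.leaf (0, 0))) (.node (.leaf (65, 845)) (.leaf (66, 2291)))) (.node (.node (.leaf (0, 0)) (.leaf (67, 502))) (.node (.leaf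 (66, 300)) (.leaf (76, 3634))))) (.node (.node (.node (.leaf (0, 0)) (.leaf (15, 4000))) (.node (.leaf (64, 1314)) (.leaf (74, 3419)))) (.node (.node (.leaf (0, 0)) (.leaf (25, 1546))) (.node (.leaf (73, 404)) (.leaf (72, 3920)))))) (.node (.node (.node (.node (.leaf (62, 608)) (.leaf (77, 3455))) (.node (.leaf (74, 3299)) (.leaf (66, 2905)))) (.node (.node (.leaf (0, 0)) (.leaf (76, 3633))) (.node (.leaf (67, 1515)) (.leaf (67, 647))))) (.node (.node (.node (.leaf (0, 0)) (.leaf (40, 1888))) (.node (.leaf (0, 0)) (.leaf (65, 3910)))) (.node (.node (.leaf (0, 0)) (.leaf (65, 3692))) (.node (.leaf (4, 3371)) (.leaf (66, 2023))))))))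

def twoVia220 : Janko.Tree (ℕ × ℕ) :=
  (.node (.node (.node (.node (.node (.node (.leaf (0, 0)) (.leaf (0, 0))) (.node (.leaf (0, 0)) (.leaf (77, 3127)))) (.node (.node (.leaf (67, 469)) (.leaf (15, 795))) (.node (.leaf (0, 0)) (.leaf (62, 3639))))) (.node (.node (.node (.leaf (59, 311)) (.leaf (76, 2359))) (.node (.leaf (77, 3265)) (.leaf (0, 0)))) (.node (.node (.leaf (0, 0)) (.leaf (0, 2871))) (.node (.leaf (0, 1847)) (.leaf (55, 1852)))))) (.node (.node (.node (.node (.leaf (0, 183)) (.leaf (0, 2231))) (.node (.leaf (47, 150)) (.leaf (69, 2660)))) (.node (.node (.leaf (0, 695)) (.leaf (69, 802))) (.node (.leaf (0, 0)) (.leaf (71, 4008))))) (.node (.node (.node (.leaf (54, 439)) (.leaf (8, 2486))) (.node (.leaf (29, 4000)) (.leaf (77, 3511)))) (.node (.node (.leaf (0, 0)) (.leaf (75, 2823))) (.node (.leaf (73, 1104)) (.leaf (62, 2248))))))) (.node (.node (.node (.node (.node (.leaf (0, 0)) (.leaf (76, 2403))) (.node (.leaf (17, 1693)) (.leaf (67, 3191)))) (.node (.node (.leaf (76, 3364)) (.leaf (67, 2679)))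 (.node (.leaf (0, 1655)) (.leaf (0, 3703))))) (.node (.node (.node (.leaf (0, 375)) (.leaf (73, 337))) (.node (.leaf (0, 1399)) (.leaf (73, 3261)))) (.node (.node (.leaf (0, 0)) (.leaf (0, 2935))) (.node (.leaf (0, 0)) (.leaf (0, 3959)))))) (.node (.node (.node (.node (.leaf (0, 0)) (.leaf (31, 2112))) (.node (.leaf (0, 1271)) (.leaf (50, 4053)))) (.node (.node (.leaf (0, 0)) (.leaf (77, 2807))) (.node (.leaf (0, 1783)) (.leaf (57, 739))))) (.node (.node (.node (.leaf (0, 0)) (.leaf (0, 3373))) (.node (.leaf (67, 1527)) (.leaf (76, 3796)))) (.node (.node (.leaf (0, 0)) (.leaf (66, 3048))) (.node (.leaf (0, 2039)) (.leaf (0, 4087))))))))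

def twoVia221 : Janko.Tree (ℕ × ℕ) :=
  (.node (.node (.node (.node (.node (.node (.leaf (1, 55)) (.leaf (1, 3552))) (.node (.leaf (67, 2429)) (.leaf (76, 4052)))) (.node (.node (.leaf (67, 1943)) (.leaf (58, 551))) (.node (.leaf (0, 0)) (.leaf (1, 3942))))) (.node (.node (.node (.leaf (0, 0)) (.leaf (1, 2359))) (.node (.leaf (74, 2505)) (.leaf (21, 602)))) (.node (.node (.leaf (0, 0)) (.leaf (0, 0))) (.node (.leaf (0, 0)) (.leaf (55, 755)))))) (.node (.node (.node (.node (.leaf (0, 0)) (.leaf (5, 954))) (.node (.leaf (1, 1207)) (.leaf (0, 0)))) (.node (.node (.leaf (52, 1591)) (.leaf (1, 2743))) (.node (.leaf (0, 0)) (.leaf (1, 3767))))) (.node (.node (.node (.leaf (1, 439)) (.leaf (76, 3197))) (.node (.leaf (0, 0)) (.leaf (77, 2645)))) (.node (.node (.leaf (1, 951)) (.leaf (1, 2999))) (.node (.leaf (0, 0)) (.leaf (35, 3753))))))) (.node (.node (.node (.node (.node (.leaf (0, 0)) (.leaf (0, 0))) (.node (.leaf (76, 4004)) (.leaf (66, 2578)))) (.node (.node (.leaf (1, 631)) (.leaf (1, 2679))) (.node (.leaf (73,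 903)) (.leaf (1, 3703))))) (.node (.node (.node (.leaf (0, 0)) (.leaf (55, 2814))) (.node (.leaf (76, 546)) (.leaf (76, 1946)))) (.node (.node (.leaf (0, 0)) (.leaf (1, 2935))) (.node (.leaf (0, 0)) (.leaf (16, 3028)))))) (.node (.node (.node (.node (.leaf (0, 0)) (.leaf (1, 3591))) (.node (.leaf (0, 0)) (.leaf (67, 3638)))) (.node (.node (.leaf (0, 0)) (.leaf (1, 2807))) (.node (.leaf (1, 1783)) (.leaf (1, 3831))))) (.node (.node (.node (.leaf (1, 503)) (.leaf (14, 2548))) (.node (.leaf (1, 1527)) (.leaf (1, 3575)))) (.node (.node (.leaf (1, 1015)) (.leaf (76, 2583))) (.node (.leaf (48, 845)) (.leaf (15, 3695))))))))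

def twoVia222 : Janko.Tree (ℕ × ℕ) :=
  (.node (.node (.node (.node (.node (.node (.leaf (0, 0)) (.leaf (2, 2103))) (.node (.leaf (0, 0)) (.leaf (2, 3998)))) (.node (.node (.leaf (2, 567)) (.leaf (67, 1361))) (.node (.leaf (2, 1591)) (.leaf (2, 3639))))) (.node (.node (.node (.leaf (67, 110)) (.leaf (76, 2210))) (.node (.leaf (77, 3371)) (.leaf (2, 3383)))) (.node (.node (.leaf (2, 1892)) (.leaf (11, 2869))) (.node (.leaf (8, 753)) (.leaf (67, 4091)))))) (.node (.node (.node (.node (.leaf (21, 56)) (.leaf (6, 2994))) (.node (.leaf (62, 150)) (.leaf (67, 3513)))) (.node (.node (.leaf (0, 0)) (.leaf (0, 0))) (.node (.leaf (0, 0)) (.leaf (76, 3055))))) (.node (.node (.node (.leaf (0, 0)) (.leaf (2, 2487))) (.node (.leaf (0, 0)) (.leaf (2, 3511)))) (.node (.node (.leaf (0, 0)) (.leaf (2, 2999))) (.node (.leaf (0, 0)) (.leaf (2, 4023))))))) (.node (.node (.node (.node (.node (.leaf (0, 0)) (.leaf (71, 1789))) (.node (.leaf (2, 1143)) (.leaf (62, 2258)))) (.node (.node (.leaf (0, 0)) (.leaf (51, 3311))) (.node (.leaf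 (2, 1655)) (.leaf (67, 2629))))) (.node (.node (.node (.leaf (34, 3617)) (.leaf (2, 2423))) (.node (.leaf (76, 1189)) (.leaf (66, 2621)))) (.node (.node (.leaf (0, 0)) (.leaf (66, 2224))) (.node (.leaf (2, 1911)) (.leaf (76, 1987)))))) (.node (.node (.node (.node (.leaf (2, 247)) (.leaf (2, 2295))) (.node (.leaf (2, 1271)) (.leaf (2, 3319)))) (.node (.node (.leaf (2, 759)) (.leaf (77, 3765))) (.node (.leaf (6, 1365)) (.leaf (73, 3586))))) (.node (.node (.node (.leaf (0, 0)) (.leaf (76, 2200))) (.node (.leaf (0, 0)) (.leaf (2, 3995)))) (.node (.node (.leaf (0, 0)) (.leaf (2, 3063))) (.node (.leaf (18, 3292)) (.leaf (22, 1039))))))))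

def twoVia223 : Janko.Tree (ℕ × ℕ) :=
  (.node (.node (.node (.node (.node (.node (.leaf (0, 0)) (.leaf (67, 875))) (.node (.leaf (67, 230)) (.leaf (4, 655)))) (.node (.node (.leaf (0, 0)) (.leaf (67, 3652))) (.node (.leaf (4, 217)) (.leaf (22, 3950))))) (.node (.node (.node (.leaf (24, 29)) (.leaf (65, 1076))) (.node (.leaf (0, 0)) (.leaf (76, 3189)))) (.node (.node (.leaf (0, 0)) (.leaf (22, 2385))) (.node (.leaf (0, 0)) (.leaf (3, 3897)))))) (.node (.node (.node (.node (.leaf (0, 0)) (.leaf (74, 1759))) (.node (.leaf (0, 0)) (.leaf (73, 2980)))) (.node (.node (.leaf (0, 0)) (.leaf (67, 3486))) (.node (.leaf (44, 689)) (.leaf (76, 3177))))) (.node (.node (.node (.leaf (0, 0)) (.leaf (73, 3381))) (.node (.leaf (0, 0)) (.leaf (74, 2522)))) (.node (.node (.leaf (0, 0)) (.leaf (76, 3296))) (.node (.leaf (64, 1683)) (.leaf (22, 892))))))) (.node (.node (.node (.node (.node (.leaf (0, 0)) (.leaf (18, 2175))) (.node (.leaf (35, 1830)) (.leaf (4, 1806)))) (.node (.node (.leaf (0, 0)) (.leaf (65, 1407))) (.node (.leaf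 (77, 2041)) (.leaf (61, 2611))))) (.node (.node (.node (.leaf (0, 0)) (.leaf (0, 0))) (.node (.leaf (67, 3119)) (.leaf (65, 471)))) (.node (.node (.leaf (0, 0)) (.leaf (73, 3071))) (.node (.leaf (66, 2543)) (.leaf (62, 755)))))) (.node (.node (.node (.node (.leaf (0, 0)) (.leaf (67, 2828))) (.node (.leaf (59, 931)) (.leaf (26, 2773)))) (.node (.node (.leaf (0, 0)) (.leaf (0, 0))) (.node (.leaf (0, 0)) (.leaf (71, 3965))))) (.node (.node (.node (.leaf (0, 0)) (.leaf (77, 1349))) (.node (.leaf (0, 0)) (.leaf (40, 905)))) (.node (.node (.leaf (0, 0)) (.leaf (76, 3234))) (.node (.leaf (66, 3840)) (.leaf (67, 1742))))))))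

def twoVia224 : Janko.Tree (ℕ × ℕ) :=
  (.node (.node (.node (.node (.node (.node (.leaf (0, 0)) (.leaf (0, 0))) (.node (.leaf (0, 1080)) (.leaf (67, 3128)))) (.node (.node (.leaf (0, 0)) (.leaf (72, 1260))) (.node (.leaf (0, 1592)) (.leaf (69, 2713))))) (.node (.node (.node (.leaf (0, 312)) (.leaf (73, 1532))) (.node (.leaf (0, 1336)) (.leaf (0, 3384)))) (.node (.node (.leaf (77, 824)) (.leaf (0, 3822))) (.node (.leaf (73, 1967)) (.leaf (46, 1813)))))) (.node (.node (.node (.node (.leaf (0, 0)) (.leaf (65, 2232))) (.node (.leaf (67, 1208)) (.leaf (22, 3256)))) (.node (.node (.leaf (0, 0)) (.leaf (22, 2744))) (.node (.leaf (0, 1720)) (.leaf (76, 3768))))) (.node (.node (.node (.leaf (76, 2107)) (.leaf (49, 2488))) (.node (.leaf (0, 0)) (.leaf (77, 3512)))) (.node (.node (.leaf (0, 952)) (.leaf (17, 622))) (.node (.leaf (66, 1976)) (.leaf (0, 4024))))))) (.node (.node (.node (.node (.node (.leaf (0, 120)) (.leaf (0, 2168))) (.node (.leaf (21, 1144)) (.leaf (0, 3192)))) (.node (.node (.leaf (0, 0)) (.leaf (76,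 2680))) (.node (.leaf (0, 0)) (.leaf (62, 3704))))) (.node (.node (.node (.leaf (67, 376)) (.leaf (19, 2424))) (.node (.leaf (0, 2351)) (.leaf (42, 2925)))) (.node (.node (.leaf (0, 888)) (.leaf (67, 3008))) (.node (.leaf (77, 4060)) (.leaf (0, 0)))))) (.node (.node (.node (.node (.leaf (0, 0)) (.leaf (0, 2296))) (.node (.leaf (0, 1272)) (.leaf (77, 3320)))) (.node (.node (.leaf (7, 760)) (.leaf (57, 2808))) (.node (.leaf (75, 2517)) (.leaf (0, 3832))))) (.node (.node (.node (.leaf (0, 0)) (.leaf (0, 2552))) (.node (.leaf (0, 1528)) (.leaf (77, 3576)))) (.node (.node (.leaf (77, 3560)) (.leaf (57, 1651))) (.node (.leaf (62, 1142)) (.leaf (73, 4088))))))))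

def twoVia225 : Janko.Tree (ℕ × ℕ) :=
  (.node (.node (.node (.node (.node (.node (.leaf (0, 0)) (.leaf (1, 2931))) (.node (.leaf (0, 0)) (.leaf (1, 3128)))) (.node (.node (.leaf (43, 1705)) (.leaf (0, 0))) (.node (.leaf (0, 0)) (.leaf (1, 3640))))) (.node (.node (.node (.leaf (0, 0)) (.leaf (76, 3753))) (.node (.leaf (76, 1988)) (.leaf (1, 3384)))) (.node (.node (.leaf (1, 824)) (.leaf (1, 2872))) (.node (.leaf (75, 3013)) (.leaf (1, 3896)))))) (.node (.node (.node (.node (.leaf (1, 184)) (.leaf (1, 2232))) (.node (.leaf (46, 3662)) (.leaf (1, 3256)))) (.node (.node (.leaf (1, 696)) (.leaf (66, 3788))) (.node (.leaf (0, 0)) (.leaf (1, 3768))))) (.node (.node (.node (.leaf (51, 716)) (.leaf (76, 2806))) (.node (.leaf (1, 1464)) (.leaf (76, 2154)))) (.node (.node (.leaf (76, 2762)) (.leaf (53, 2801))) (.node (.leaf (65, 3159)) (.leaf (65, 762))))))) (.node (.node (.node (.node (.node (.leaf (0, 0)) (.leaf (58, 233))) (.node (.leaf (66, 1539)) (.leaf (56, 1691)))) (.node (.node (.leaf (0, 0)) (.leaf (1, 2680)))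 (.node (.leaf (76, 1413)) (.leaf (65, 1447))))) (.node (.node (.node (.leaf (1, 376)) (.leaf (65, 958))) (.node (.leaf (1, 1400)) (.leaf (1, 3448)))) (.node (.node (.leaf (0, 0)) (.leaf (76, 1876))) (.node (.leaf (77, 1311)) (.leaf (76, 3567)))))) (.node (.node (.node (.node (.leaf (0, 0)) (.leaf (0, 0))) (.node (.leaf (0, 0)) (.leaf (1, 3320)))) (.node (.node (.leaf (1, 1673)) (.leaf (58, 593))) (.node (.leaf (0, 0)) (.leaf (66, 710))))) (.node (.node (.node (.leaf (0, 0)) (.leaf (43, 1744))) (.node (.leaf (76, 1167)) (.leaf (1, 3576)))) (.node (.node (.leaf (0, 0)) (.leaf (76, 3899))) (.node (.leaf (53, 3292)) (.leaf (66, 592))))))))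

def twoVia226 : Janko.Tree (ℕ × ℕ) :=
  (.node (.node (.node (.node (.node (.node (.leaf (0, 0)) (.leaf (0, 0))) (.node (.leaf (6, 2296)) (.leaf (67, 1971)))) (.node (.node (.leaf (0, 0)) (.leaf (76, 3930))) (.node (.leaf (2, 3035)) (.leaf (60, 1625))))) (.node (.node (.node (.leaf (62, 941)) (.leaf (2, 2360))) (.node (.leaf (69, 3813)) (.leaf (34, 4022)))) (.node (.node (.leaf (0, 0)) (.leaf (0, 0))) (.node (.leaf (2, 1848)) (.leaf (2, 3896)))))) (.node (.node (.node (.node (.leaf (0, 0)) (.leaf (76, 575))) (.node (.leaf (0, 0)) (.leaf (35, 161)))) (.node (.node (.leaf (0, 0)) (.leaf (76, 3914))) (.node (.leaf (0, 0)) (.leaf (64, 1151))))) (.node (.node (.node (.leaf (2, 440)) (.leaf (76, 1569))) (.node (.leaf (67, 959)) (.leaf (74, 212)))) (.node (.node (.leaf (0, 0)) (.leaf (2, 3000))) (.node (.leaf (2, 1976)) (.leaf (51, 3452))))))) (.node (.node (.node (.node (.node (.leaf (0, 0)) (.leaf (6, 947))) (.node (.leaf (76, 3068)) (.leaf (8, 1691)))) (.node (.node (.leaf (8, 1586)) (.leaf (65, 504))) (.node (.leaf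 (0, 0)) (.leaf (66, 1782))))) (.node (.node (.node (.leaf (0, 0)) (.leaf (4, 2424))) (.node (.leaf (46, 3178)) (.leaf (67, 1820)))) (.node (.node (.leaf (0, 0)) (.leaf (67, 2316))) (.node (.leaf (67, 1439)) (.leaf (2, 3960)))))) (.node (.node (.node (.node (.leaf (0, 0)) (.leaf (8, 995))) (.node (.leaf (9, 527)) (.leaf (73, 2794)))) (.node (.node (.leaf (57, 400)) (.leaf (2, 2808))) (.node (.leaf (76, 2517)) (.leaf (4, 3832))))) (.node (.node (.node (.leaf (0, 0)) (.leaf (2, 2552))) (.node (.leaf (2, 1528)) (.leaf (2, 4010)))) (.node (.node (.leaf (2, 1016)) (.leaf (2, 3064))) (.node (.leaf (2, 2040)) (.leaf (22, 1073))))))))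

def twoVia227 : Janko.Tree (ℕ × ℕ) :=
  (.node (.node (.node (.node (.node (.node (.leaf (0, 0)) (.leaf (67, 157))) (.node (.leaf (0, 0)) (.leaf (67, 696)))) (.node (.node (.leaf (0, 0)) (.leaf (7, 192))) (.node (.leaf (21, 1035)) (.leaf (76, 3522))))) (.node (.node (.node (.leaf (0, 0)) (.leaf (66, 2127))) (.node (.leaf (74, 3825)) (.leaf (50, 3245)))) (.node (.node (.leaf (0, 0)) (.leaf (77, 547))) (.node (.leaf (4, 261)) (.leaf (76, 1813)))))) (.node (.node (.node (.node (.leaf (0, 0)) (.leaf (66, 1947))) (.node (.leaf (67, 748)) (.leaf (55, 1174)))) (.node (.node (.leaf (65, 357)) (.leaf (62, 3088))) (.node (.leaf (0, 0)) (.leaf (57, 1772))))) (.node (.node (.node (.leaf (0, 0)) (.leaf (55, 37))) (.node (.leaf (0, 0)) (.leaf (77, 906)))) (.node (.node (.leaf (59, 330)) (.leaf (0, 0))) (.node (.leaf (77, 2028)) (.leaf (76, 1989))))))) (.node (.node (.node (.node (.node (.leaf (0, 0)) (.leaf (74, 2318))) (.node (.leaf (40, 950)) (.leaf (40, 845)))) (.node (.node (.leaf (0, 0)) (.leaf (59, 1202))) (.node (.leaf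 (0, 0)) (.leaf (67, 168))))) (.node (.node (.node (.leaf (76, 577)) (.leaf (54, 2884))) (.node (.leaf (55, 383)) (.leaf (4, 785)))) (.node (.node (.leaf (0, 0)) (.leaf (21, 613))) (.node (.leaf (77, 1395)) (.leaf (66, 433)))))) (.node (.node (.node (.node (.leaf (0, 0)) (.leaf (66, 2330))) (.node (.leaf (76, 1324)) (.leaf (65, 1837)))) (.node (.node (.leaf (0, 0)) (.leaf (73, 899))) (.node (.leaf (0, 0)) (.leaf (65, 1515))))) (.node (.node (.node (.leaf (0, 0)) (.leaf (18, 2176))) (.node (.leaf (77, 1247)) (.leaf (76, 3788)))) (.node (.node (.leaf (0, 0)) (.leaf (0, 0))) (.node (.leaf (67, 3121)) (.leaf (74, 1769))))))))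

def twoVia228 : Janko.Tree (ℕ × ℕ) :=
  (.node (.node (.node (.node (.node (.node (.leaf (0, 57)) (.leaf (0, 2105))) (.node (.leaf (0, 0)) (.leaf (76, 3129)))) (.node (.node (.leaf (0, 569)) (.leaf (0, 2617))) (.node (.leaf (0, 0)) (.leaf (73, 3641))))) (.node (.node (.node (.leaf (67, 313)) (.leaf (69, 2361))) (.node (.leaf (75, 2907)) (.leaf (0, 4022)))) (.node (.node (.leaf (76, 3421)) (.leaf (71, 4020))) (.node (.leaf (0, 1849)) (.leaf (32, 3897)))))) (.node (.node (.node (.node (.leaf (8, 185)) (.leaf (6, 2233))) (.node (.leaf (65, 1419)) (.leaf (0, 3257)))) (.node (.node (.leaf (0, 0)) (.leaf (0, 2745))) (.node (.leaf (65, 1721)) (.leaf (34, 3769))))) (.node (.node (.node (.leaf (0, 0)) (.leaf (73, 1355))) (.node (.leaf (52, 1465)) (.leaf (69, 3993)))) (.node (.node (.leaf (41, 617)) (.leaf (0, 0))) (.node (.leaf (55, 1896)) (.leaf (32, 1881))))))) (.node (.node (.node (.node (.node (.leaf (0, 0)) (.leaf (0, 0))) (.node (.leaf (0, 1145)) (.leaf (66, 3641)))) (.node (.node (.leaf (0, 633)) (.leaf (0, 2681)))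 (.node (.leaf (54, 2282)) (.leaf (73, 3705))))) (.node (.node (.node (.leaf (62, 1030)) (.leaf (0, 2425))) (.node (.leaf (0, 0)) (.leaf (73, 3140)))) (.node (.node (.leaf (0, 0)) (.leaf (18, 2937))) (.node (.leaf (0, 1913)) (.leaf (73, 1671)))))) (.node (.node (.node (.node (.leaf (0, 0)) (.leaf (67, 2577))) (.node (.leaf (9, 1272)) (.leaf (8, 1332)))) (.node (.node (.leaf (76, 1042)) (.leaf (69, 479))) (.node (.leaf (0, 1785)) (.leaf (71, 3291))))) (.node (.node (.node (.leaf (0, 505)) (.leaf (67, 470))) (.node (.leaf (51, 1771)) (.leaf (73, 3577)))) (.node (.node (.leaf (67, 1017)) (.leaf (65, 3065))) (.node (.leaf (0, 0)) (.leaf (71, 307))))))))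

def twoVia229 : Janko.Tree (ℕ × ℕ) :=
  (.node (.node (.node (.node (.node (.node (.leaf (0, 0)) (.leaf (0, 0))) (.node (.leaf (1, 1081)) (.leaf (64, 1811)))) (.node (.node (.leaf (0, 0)) (.leaf (47, 3857))) (.node (.leaf (1, 1593)) (.leaf (77, 2342))))) (.node (.node (.node (.leaf (0, 0)) (.leaf (0, 0))) (.node (.leaf (77, 3874)) (.leaf (1, 3385)))) (.node (.node (.leaf (0, 0)) (.leaf (16, 822))) (.node (.leaf (77, 3284)) (.leaf (76, 3801)))))) (.node (.node (.node (.node (.leaf (0, 0)) (.leaf (1, 3362))) (.node (.leaf (0, 0)) (.leaf (71, 1754)))) (.node (.node (.leaf (0, 0)) (.leaf (67, 2647))) (.node (.leaf (1, 1721)) (.leaf (76, 2333))))) (.node (.node (.node (.leaf (65, 312)) (.leaf (1, 2489))) (.node (.leaf (76, 2884)) (.leaf (73, 2468)))) (.node (.node (.leaf (1, 953)) (.leaf (1, 3001))) (.node (.leaf (0, 0)) (.leaf (69, 1085))))))) (.node (.node (.node (.node (.node (.leaf (1, 121)) (.leaf (1, 2169))) (.node (.leaf (67, 427)) (.leaf (1, 3193)))) (.node (.node (.leaf (65, 217)) (.leaf (67, 1329))) (.node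 (.leaf (1, 1657)) (.leaf (1, 3705))))) (.node (.node (.node (.leaf (65, 475)) (.leaf (1, 2425))) (.node (.leaf (1, 2696)) (.leaf (43, 85)))) (.node (.node (.leaf (1, 889)) (.leaf (1, 2937))) (.node (.leaf (0, 0)) (.leaf (77, 3674)))))) (.node (.node (.node (.node (.leaf (1, 249)) (.leaf (1, 2297))) (.node (.leaf (1, 1273)) (.leaf (76, 2574)))) (.node (.node (.leaf (1, 761)) (.leaf (76, 368))) (.node (.leaf (0, 0)) (.leaf (1, 3833))))) (.node (.node (.node (.leaf (0, 0)) (.leaf (1, 2553))) (.node (.leaf (1, 1529)) (.leaf (40, 30)))) (.node (.node (.leaf (0, 0)) (.leaf (1, 3065))) (.node (.leaf (1, 2939)) (.leaf (1, 4089))))))))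

def twoVia230 : Janko.Tree (ℕ × ℕ) :=
  (.node (.node (.node (.node (.node (.node (.leaf (6, 192)) (.leaf (2, 3583))) (.node (.leaf (0, 0)) (.leaf (2, 3129)))) (.node (.node (.leaf (6, 1248)) (.leaf (66, 621))) (.node (.leaf (0, 0)) (.leaf (77, 3801))))) (.node (.node (.node (.leaf (2, 313)) (.leaf (58, 2724))) (.node (.leaf (2, 1337)) (.leaf (76, 3283)))) (.node (.node (.leaf (77, 1234)) (.leaf (0, 0))) (.node (.leaf (67, 2952)) (.leaf (62, 1800)))))) (.node (.node (.node (.node (.leaf (2, 185)) (.leaf (2, 2233))) (.node (.leaf (2, 1209)) (.leaf (65, 1439)))) (.node (.node (.leaf (2, 697)) (.leaf (7, 1382))) (.node (.leaf (76, 1613)) (.leaf (76, 3625))))) (.node (.node (.node (.leaf (54, 307)) (.leaf (0, 0))) (.node (.leaf (2, 1465)) (.leaf (66, 3627)))) (.node (.node (.leaf (67, 1485)) (.leaf (73, 2366))) (.node (.leaf (0, 0)) (.leaf (2, 4025))))))) (.node (.node (.node (.node (.node (.leaf (0, 0)) (.leaf (67, 3750))) (.node (.leaf (0, 0)) (.leaf (2, 3193)))) (.node (.node (.leaf (2, 633)) (.leaf (2, 2681)))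 (.node (.leaf (76, 2451)) (.leaf (76, 3373))))) (.node (.node (.node (.leaf (2, 377)) (.leaf (66, 715))) (.node (.leaf (0, 0)) (.leaf (70, 159)))) (.node (.node (.leaf (0, 0)) (.leaf (52, 718))) (.node (.leaf (62, 2600)) (.leaf (77, 2704)))))) (.node (.node (.node (.node (.leaf (0, 0)) (.leaf (2, 2297))) (.node (.leaf (67, 1272)) (.leaf (2, 3321)))) (.node (.node (.leaf (67, 1617)) (.leaf (67, 2527))) (.node (.leaf (0, 0)) (.leaf (76, 2549))))) (.node (.node (.node (.leaf (0, 0)) (.leaf (21, 1238))) (.node (.leaf (56, 207)) (.leaf (76, 1295)))) (.node (.node (.leaf (76, 3449)) (.leaf (64, 3807))) (.node (.leaf (53, 3917)) (.leaf (74, 565))))))))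

def twoVia231 : Janko.Tree (ℕ × ℕ) :=
  (.node (.node (.node (.node (.node (.node (.leaf (0, 0)) (.leaf (77, 2925))) (.node (.leaf (67, 91)) (.leaf (44, 1537)))) (.node (.node (.leaf (0, 0)) (.leaf (15, 60))) (.node (.leaf (76, 1592)) (.leaf (24, 3986))))) (.node (.node (.node (.leaf (0, 0)) (.leaf (67, 870))) (.node (.leaf (75, 2158)) (.leaf (69, 3432)))) (.node (.node (.leaf (0, 0)) (.leaf (0, 0))) (.node (.leaf (0, 0)) (.leaf (4, 1511)))))) (.node (.node (.node (.node (.leaf (0, 0)) (.leaf (69, 2582))) (.node (.leaf (67, 2055)) (.leaf (74, 687)))) (.node (.node (.leaf (0, 0)) (.leaf (73, 921))) (.node (.leaf (76, 2205)) (.leaf (65, 3903))))) (.node (.node (.node (.leaf (54, 678)) (.leaf (66, 1569))) (.node (.leaf (0, 0)) (.leaf (0, 0)))) (.node (.node (.leaf (0, 0)) (.leaf (60, 1607))) (.node (.leaf (67, 1969)) (.leaf (77, 3585))))))) (.node (.node (.node (.node (.node (.leaf (0, 0)) (.leaf (0, 0))) (.node (.leaf (0, 0)) (.leaf (65, 1480)))) (.node (.node (.leaf (62, 1665)) (.leaf (66, 1896))) (.node (.leaf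 (76, 1533)) (.leaf (57, 178))))) (.node (.node (.node (.leaf (0, 0)) (.leaf (65, 1036))) (.node (.leaf (25, 1269)) (.leaf (55, 660)))) (.node (.node (.leaf (76, 888)) (.leaf (73, 3227))) (.node (.leaf (74, 3110)) (.leaf (77, 2628)))))) (.node (.node (.node (.node (.leaf (0, 0)) (.leaf (71, 1829))) (.node (.leaf (0, 0)) (.leaf (73, 53)))) (.node (.node (.leaf (0, 0)) (.leaf (25, 1464))) (.node (.leaf (76, 2296)) (.leaf (40, 1513))))) (.node (.node (.node (.leaf (0, 0)) (.leaf (67, 3245))) (.node (.leaf (0, 0)) (.leaf (65, 1487)))) (.node (.node (.leaf (26, 380)) (.leaf (0, 0))) (.node (.leaf (52, 259)) (.leaf (25, 1686))))))))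

def twoVia232 : Janko.Tree (ℕ × ℕ) :=
  (.node (.node (.node (.node (.node (.node (.leaf (0, 0)) (.leaf (0, 0))) (.node (.leaf (0, 0)) (.leaf (76, 3694)))) (.node (.node (.leaf (0, 0)) (.leaf (67, 1949))) (.node (.leaf (0, 0)) (.leaf (0, 3642))))) (.node (.node (.node (.leaf (0, 0)) (.leaf (77, 4077))) (.node (.leaf (73, 514)) (.leaf (0, 3386)))) (.node (.node (.leaf (0, 826)) (.leaf (0, 2874))) (.node (.leaf (76, 2622)) (.leaf (69, 1278)))))) (.node (.node (.node (.node (.leaf (0, 0)) (.leaf (73, 2234))) (.node (.leaf (0, 1210)) (.leaf (66, 3258)))) (.node (.node (.leaf (0, 0)) (.leaf (73, 3878))) (.node (.leaf (0, 0)) (.leaf (67, 3047))))) (.node (.node (.node (.leaf (0, 442)) (.leaf (0, 3761))) (.node (.leaf (67, 2484)) (.leaf (65, 3514)))) (.node (.node (.leaf (0, 0)) (.leaf (67, 3479))) (.node (.leaf (0, 1978)) (.leaf (0, 4026))))))) (.node (.node (.node (.node (.node (.leaf (0, 0)) (.leaf (0, 0))) (.node (.leaf (0, 0)) (.leaf (51, 1139)))) (.node (.node (.leaf (54, 634)) (.leaf (69, 3636))) (.node (.leaf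 (75, 2652)) (.leaf (76, 3706))))) (.node (.node (.node (.leaf (65, 378)) (.leaf (51, 2722))) (.node (.leaf (77, 3234)) (.leaf (77, 3450)))) (.node (.node (.leaf (0, 0)) (.leaf (69, 2300))) (.node (.leaf (35, 4070)) (.leaf (74, 3446)))))) (.node (.node (.node (.node (.leaf (19, 753)) (.leaf (60, 2298))) (.node (.leaf (0, 0)) (.leaf (7, 732)))) (.node (.node (.leaf (64, 3452)) (.leaf (0, 2810))) (.node (.leaf (0, 0)) (.leaf (76, 3834))))) (.node (.node (.node (.leaf (0, 0)) (.leaf (15, 3258))) (.node (.leaf (66, 1923)) (.leaf (8, 3545)))) (.node (.node (.leaf (0, 1018)) (.leaf (67, 801))) (.node (.leaf (0, 0)) (.leaf (76, 4090))))))))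

def twoVia233 : Janko.Tree (ℕ × ℕ) :=
  (.node (.node (.node (.node (.node (.node (.leaf (1, 58)) (.leaf (0, 0))) (.node (.leaf (1, 1082)) (.leaf (1, 3130)))) (.node (.node (.leaf (1, 570)) (.leaf (76, 3156))) (.node (.leaf (1, 2862)) (.leaf (15, 2173))))) (.node (.node (.node (.leaf (0, 0)) (.leaf (75, 3180))) (.node (.leaf (62, 1466)) (.leaf (76, 3923)))) (.node (.node (.leaf (0, 0)) (.leaf (34, 1490))) (.node (.leaf (1, 1850)) (.leaf (1, 3898)))))) (.node (.node (.node (.node (.leaf (1, 214)) (.leaf (65, 363))) (.node (.leaf (67, 458)) (.leaf (61, 4072)))) (.node (.node (.leaf (65, 659)) (.leaf (61, 2439))) (.node (.leaf (0, 0)) (.leaf (1, 3770))))) (.node (.node (.node (.leaf (0, 0)) (.leaf (76, 1355))) (.node (.leaf (0, 0)) (.leaf (1, 3514)))) (.node (.node (.leaf (0, 0)) (.leaf (76, 2085))) (.node (.leaf (59, 87)) (.leaf (76, 3401))))))) (.node (.node (.node (.node (.node (.leaf (0, 0)) (.leaf (57, 3638))) (.node (.leaf (28, 2500)) (.leaf (1, 3194)))) (.node (.node (.leaf (1, 634)) (.leaf (76, 3453)))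 (.node (.leaf (0, 0)) (.leaf (1, 3706))))) (.node (.node (.node (.leaf (0, 0)) (.leaf (58, 3277))) (.node (.leaf (0, 0)) (.leaf (76, 2715)))) (.node (.node (.leaf (0, 0)) (.leaf (1, 2938))) (.node (.leaf (0, 0)) (.leaf (66, 2824)))))) (.node (.node (.node (.node (.leaf (0, 0)) (.leaf (0, 0))) (.node (.leaf (76, 1696)) (.leaf (76, 3843)))) (.node (.node (.leaf (0, 0)) (.leaf (77, 2589))) (.node (.leaf (62, 3296)) (.leaf (64, 3168))))) (.node (.node (.node (.leaf (1, 506)) (.leaf (57, 3983))) (.node (.leaf (0, 0)) (.leaf (76, 2626)))) (.node (.node (.leaf (0, 0)) (.leaf (1, 3066))) (.node (.leaf (1, 2042)) (.leaf (1, 4090))))))))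

def twoVia234 : Janko.Tree (ℕ × ℕ) :=
  (.node (.node (.node (.node (.node (.node (.leaf (0, 0)) (.leaf (2, 2106))) (.node (.leaf (51, 137)) (.leaf (66, 2076)))) (.node (.node (.leaf (0, 0)) (.leaf (2, 2618))) (.node (.leaf (2, 1594)) (.leaf (31, 848))))) (.node (.node (.node (.leaf (0, 0)) (.leaf (77, 3990))) (.node (.leaf (66, 2484)) (.leaf (71, 1254)))) (.node (.node (.leaf (2, 826)) (.leaf (66, 3585))) (.node (.leaf (2, 1850)) (.leaf (2, 3898)))))) (.node (.node (.node (.node (.leaf (26, 186)) (.leaf (76, 1889))) (.node (.leaf (10, 326)) (.leaf (2, 3258)))) (.node (.node (.leaf (12, 70)) (.leaf (76, 1628))) (.node (.leaf (2, 1722)) (.leaf (34, 451))))) (.node (.node (.node (.leaf (2, 938)) (.leaf (2, 2490))) (.node (.leaf (0, 0)) (.leaf (66, 3888)))) (.node (.node (.leaf (0, 0)) (.leaf (2, 3002))) (.node (.leaf (0, 0)) (.leaf (2, 4026))))))) (.node (.node (.node (.node (.node (.leaf (0, 0)) (.leaf (0, 0))) (.node (.leaf (2, 1146)) (.leaf (2, 3194)))) (.node (.node (.leaf (65, 0)) (.leaf (62, 3371))) (.node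 (.leaf (66, 3151)) (.leaf (67, 4032))))) (.node (.node (.node (.leaf (0, 0)) (.leaf (2, 2426))) (.node (.leaf (2, 1402)) (.leaf (77, 1148)))) (.node (.node (.leaf (2, 890)) (.leaf (67, 658))) (.node (.leaf (2, 1914)) (.leaf (73, 1425)))))) (.node (.node (.node (.node (.leaf (2, 250)) (.leaf (71, 4078))) (.node (.leaf (0, 0)) (.leaf (2, 3322)))) (.node (.node (.leaf (15, 464)) (.leaf (67, 2477))) (.node (.leaf (2, 1786)) (.leaf (2, 3834))))) (.node (.node (.node (.leaf (0, 0)) (.leaf (59, 549))) (.node (.leaf (0, 0)) (.leaf (2, 3578)))) (.node (.node (.leaf (67, 54)) (.leaf (67, 1673))) (.node (.leaf (59, 298)) (.leaf (67, 1920))))))))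

def twoVia235 : Janko.Tree (ℕ × ℕ) :=
  (.node (.node (.node (.node (.node (.node (.leaf (0, 0)) (.leaf (57, 96))) (.node (.leaf (0, 0)) (.leaf (58, 3386)))) (.node (.node (.leaf (76, 569)) (.leaf (74, 1453))) (.node (.leaf (75, 1788)) (.leaf (62, 2429))))) (.node (.node (.node (.leaf (55, 3603)) (.leaf (0, 0))) (.node (.leaf (47, 1679)) (.leaf (74, 3467)))) (.node (.node (.leaf (0, 0)) (.leaf (0, 0))) (.node (.leaf (77, 3272)) (.leaf (73, 4068)))))) (.node (.node (.node (.node (.leaf (0, 0)) (.leaf (65, 3525))) (.node (.leaf (77, 1877)) (.leaf (67, 3960)))) (.node (.node (.leaf (58, 1591)) (.leaf (38, 4057))) (.node (.leaf (0, 0)) (.leaf (21, 2792))))) (.node (.node (.node (.leaf (0, 0)) (.leaf (74, 2291))) (.node (.leaf (26, 1465)) (.leaf (66, 1433)))) (.node (.node (.leaf (4, 1570)) (.leaf (65, 1370))) (.node (.leaf (66, 410)) (.leaf (66, 2299))))))) (.node (.node (.node (.node (.node (.leaf (0, 0)) (.leaf (57, 1550))) (.node (.leaf (75, 1089)) (.leaf (77, 2255)))) (.node (.node (.leaf (0, 0)) (.leaf (76,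 1695))) (.node (.leaf (77, 1284)) (.leaf (57, 1035))))) (.node (.node (.node (.leaf (0, 0)) (.leaf (20, 2785))) (.node (.leaf (65, 414)) (.leaf (65, 85)))) (.node (.node (.leaf (0, 0)) (.leaf (40, 2924))) (.node (.leaf (0, 0)) (.leaf (55, 419)))))) (.node (.node (.node (.node (.leaf (0, 0)) (.leaf (66, 2079))) (.node (.leaf (26, 2291)) (.leaf (67, 3217)))) (.node (.node (.leaf (24, 82)) (.leaf (74, 1341))) (.node (.leaf (77, 2532)) (.leaf (63, 4095))))) (.node (.node (.node (.leaf (65, 1082)) (.leaf (4, 449))) (.node (.leaf (43, 243)) (.leaf (71, 170)))) (.node (.node (.leaf (0, 0)) (.leaf (76, 3737))) (.node (.leaf (0, 0)) (.leaf (66, 1909))))))))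

def twoVia236 : Janko.Tree (ℕ × ℕ) :=
  (.node (.node (.node (.node (.node (.node (.leaf (0, 0)) (.leaf (0, 2107))) (.node (.leaf (71, 2157)) (.leaf (71, 1898)))) (.node (.node (.leaf (0, 0)) (.leaf (73, 2619))) (.node (.leaf (61, 1595)) (.leaf (76, 3643))))) (.node (.node (.node (.leaf (0, 315)) (.leaf (0, 2363))) (.node (.leaf (0, 1339)) (.leaf (76, 3387)))) (.node (.node (.leaf (66, 827)) (.leaf (0, 0))) (.node (.leaf (59, 281)) (.leaf (0, 3899)))))) (.node (.node (.node (.node (.leaf (0, 0)) (.leaf (11, 1566))) (.node (.leaf (10, 879)) (.leaf (66, 3270)))) (.node (.node (.leaf (76, 993)) (.leaf (75, 2495))) (.node (.leaf (21, 1723)) (.leaf (76, 3771))))) (.node (.node (.node (.leaf (0, 0)) (.leaf (76, 2739))) (.node (.leaf (0, 1467)) (.leaf (73, 3743)))) (.node (.node (.leaf (0, 955)) (.leaf (0, 3003))) (.node (.leaf (0, 0)) (.leaf (76, 4027))))))) (.node (.node (.node (.node (.node (.leaf (0, 123)) (.leaf (0, 2171))) (.node (.leaf (0, 1147)) (.leaf (0, 3195)))) (.node (.node (.leaf (0, 0)) (.leaf (0, 2683)))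 (.node (.leaf (0, 0)) (.leaf (76, 3707))))) (.node (.node (.node (.leaf (0, 0)) (.leaf (71, 3432))) (.node (.leaf (74, 1403)) (.leaf (51, 3451)))) (.node (.node (.leaf (0, 0)) (.leaf (42, 3540))) (.node (.leaf (0, 1915)) (.leaf (12, 3963)))))) (.node (.node (.node (.node (.leaf (60, 494)) (.leaf (65, 2561))) (.node (.leaf (0, 1275)) (.leaf (0, 3323)))) (.node (.node (.leaf (0, 763)) (.leaf (65, 1137))) (.node (.leaf (0, 0)) (.leaf (73, 3826))))) (.node (.node (.node (.leaf (0, 0)) (.leaf (73, 2968))) (.node (.leaf (0, 1531)) (.leaf (59, 3579)))) (.node (.node (.leaf (76, 3656)) (.leaf (35, 4018))) (.node (.leaf (73, 2043)) (.leaf (73, 3588))))))))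

def twoVia237 : Janko.Tree (ℕ × ℕ) :=
  (.node (.node (.node (.node (.node (.node (.leaf (0, 0)) (.leaf (65, 883))) (.node (.leaf (0, 0)) (.leaf (74, 2382)))) (.node (.node (.leaf (1, 571)) (.leaf (76, 3244))) (.node (.leaf (1, 1595)) (.leaf (76, 2746))))) (.node (.node (.node (.leaf (0, 0)) (.leaf (62, 1033))) (.node (.leaf (0, 0)) (.leaf (67, 2073)))) (.node (.node (.leaf (1, 1725)) (.leaf (76, 3868))) (.node (.leaf (0, 0)) (.leaf (43, 205)))))) (.node (.node (.node (.node (.leaf (1, 187)) (.leaf (76, 1242))) (.node (.leaf (60, 103)) (.leaf (53, 3837)))) (.node (.node (.leaf (1, 699)) (.leaf (76, 3368))) (.node (.leaf (60, 3882)) (.leaf (62, 372))))) (.node (.node (.node (.leaf (65, 1173)) (.leaf (1, 2491))) (.node (.leaf (5, 583)) (.leaf (1, 3907)))) (.node (.node (.leaf (52, 473)) (.leaf (76, 1921))) (.node (.leaf (1, 1979)) (.leaf (76, 3561))))))) (.node (.node (.node (.node (.node (.leaf (0, 0)) (.leaf (0, 0))) (.node (.leaf (76, 2532)) (.leaf (61, 1693)))) (.node (.node (.leaf (65, 801)) (.leaf (1, 3104)))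 (.node (.leaf (73, 3150)) (.leaf (48, 3723))))) (.node (.node (.node (.leaf (1, 379)) (.leaf (52, 673))) (.node (.leaf (74, 2380)) (.leaf (1, 3451)))) (.node (.node (.leaf (1, 891)) (.leaf (41, 4062))) (.node (.leaf (0, 0)) (.leaf (1, 3963)))))) (.node (.node (.node (.node (.leaf (0, 0)) (.leaf (1, 2299))) (.node (.leaf (0, 0)) (.leaf (77, 1805)))) (.node (.node (.leaf (0, 0)) (.leaf (76, 2231))) (.node (.leaf (1, 1787)) (.leaf (75, 3598))))) (.node (.node (.node (.leaf (0, 0)) (.leaf (1, 2555))) (.node (.leaf (58, 1072)) (.leaf (1, 3579)))) (.node (.node (.leaf (0, 0)) (.leaf (76, 2279))) (.node (.leaf (0, 0)) (.leaf (65, 4084))))))))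

def twoVia238 : Janko.Tree (ℕ × ℕ) :=
  (.node (.node (.node (.node (.node (.node (.leaf (2, 59)) (.leaf (32, 854))) (.node (.leaf (76, 1243)) (.leaf (74, 846)))) (.node (.node (.leaf (52, 341)) (.leaf (77, 2757))) (.node (.leaf (0, 0)) (.leaf (67, 4041))))) (.node (.node (.node (.leaf (0, 0)) (.leaf (2, 3611))) (.node (.leaf (73, 4076)) (.leaf (2, 3387)))) (.node (.node (.leaf (0, 0)) (.leaf (2, 2875))) (.node (.leaf (73, 3281)) (.leaf (67, 3815)))))) (.node (.node (.node (.node (.leaf (0, 0)) (.leaf (2, 2235))) (.node (.leaf (2, 1211)) (.leaf (2, 3259)))) (.node (.node (.leaf (66, 75)) (.leaf (2, 2747))) (.node (.leaf (61, 2621)) (.leaf (41, 2635))))) (.node (.node (.node (.leaf (2, 443)) (.leaf (62, 423))) (.node (.leaf (0, 0)) (.leaf (76, 3697)))) (.node (.node (.leaf (19, 1046)) (.leaf (2, 3003))) (.node (.leaf (0, 0)) (.leaf (2, 4027))))))) (.node (.node (.node (.node (.node (.leaf (6, 394)) (.leaf (71, 2166))) (.node (.leaf (35, 6)) (.leaf (6, 2500)))) (.node (.node (.leaf (2, 635)) (.leaf (76, 4040)))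 (.node (.leaf (2, 1659)) (.leaf (44, 1447))))) (.node (.node (.node (.leaf (0, 0)) (.leaf (65, 213))) (.node (.leaf (67, 3886)) (.leaf (62, 3685)))) (.node (.node (.leaf (0, 0)) (.leaf (65, 1142))) (.node (.leaf (76, 4061)) (.leaf (62, 3483)))))) (.node (.node (.node (.node (.leaf (0, 0)) (.leaf (52, 1896))) (.node (.leaf (7, 488)) (.leaf (77, 3326)))) (.node (.node (.leaf (0, 0)) (.leaf (59, 581))) (.node (.leaf (0, 0)) (.leaf (15, 2857))))) (.node (.node (.node (.leaf (2, 507)) (.leaf (74, 3602))) (.node (.leaf (40, 605)) (.leaf (66, 500)))) (.node (.node (.leaf (77, 3533)) (.leaf (2, 3964))) (.node (.leaf (77, 1643)) (.leaf (66, 3142))))))))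

def twoVia239 : Janko.Tree (ℕ × ℕ) :=
  (.node (.node (.node (.node (.node (.node (.leaf (0, 0)) (.leaf (43, 854))) (.node (.leaf (57, 162)) (.leaf (65, 69)))) (.node (.node (.leaf (0, 0)) (.leaf (44, 4092))) (.node (.leaf (0, 0)) (.leaf (67, 146))))) (.node (.node (.node (.leaf (0, 0)) (.leaf (76, 3859))) (.node (.leaf (22, 2615)) (.leaf (77, 2305)))) (.node (.node (.leaf (26, 750)) (.leaf (59, 203))) (.node (.leaf (67, 1880)) (.leaf (38, 4039)))))) (.node (.node (.node (.node (.leaf (0, 0)) (.leaf (0, 0))) (.node (.leaf (0, 0)) (.leaf (0, 0)))) (.node (.node (.leaf (0, 0)) (.leaf (74, 3846))) (.node (.leaf (67, 580)) (.leaf (7, 435))))) (.node (.node (.node (.leaf (59, 13)) (.leaf (74, 1970))) (.node (.leaf (0, 0)) (.leaf (4, 4027)))) (.node (.node (.leaf (0, 0)) (.leaf (66, 3325))) (.node (.leaf (67, 1685)) (.leaf (8, 1803))))))) (.node (.node (.node (.node (.node (.leaf (0, 0)) (.leaf (0, 0))) (.node (.leaf (22, 2526)) (.leaf (40, 847)))) (.node (.node (.leaf (0, 0)) (.leaf (55, 3977))) (.node (.leaf (0,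 0)) (.leaf (77, 3987))))) (.node (.node (.node (.leaf (0, 0)) (.leaf (24, 668))) (.node (.leaf (59, 410)) (.leaf (65, 2051)))) (.node (.node (.leaf (0, 0)) (.leaf (44, 2897))) (.node (.leaf (62, 1440)) (.leaf (21, 636)))))) (.node (.node (.node (.node (.leaf (0, 0)) (.leaf (65, 3000))) (.node (.leaf (76, 3409)) (.leaf (22, 2013)))) (.node (.node (.leaf (76, 3235)) (.leaf (0, 0))) (.node (.leaf (74, 3523)) (.leaf (74, 3826))))) (.node (.node (.node (.leaf (0, 0)) (.leaf (67, 1460))) (.node (.leaf (0, 0)) (.leaf (66, 2819)))) (.node (.node (.leaf (0, 0)) (.leaf (3, 3079))) (.node (.leaf (67, 3798)) (.leaf (67, 3599))))))))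

def twoVia240 : Janko.Tree (ℕ × ℕ) :=
  (.node (.node (.node (.node (.node (.node (.leaf (0, 0)) (.leaf (62, 2108))) (.node (.leaf (0, 1084)) (.leaf (0, 3132)))) (.node (.node (.leaf (73, 572)) (.leaf (22, 2620))) (.node (.leaf (54, 2052)) (.leaf (71, 2429))))) (.node (.node (.node (.leaf (0, 0)) (.leaf (0, 2364))) (.node (.leaf (75, 2962)) (.leaf (66, 3388)))) (.node (.node (.leaf (0, 828)) (.leaf (75, 3638))) (.node (.leaf (0, 1852)) (.leaf (76, 3900)))))) (.node (.node (.node (.node (.leaf (44, 1415)) (.leaf (0, 2236))) (.node (.leaf (76, 1212)) (.leaf (76, 3260)))) (.node (.node (.leaf (0, 0)) (.leaf (73, 2748))) (.node (.leaf (0, 1724)) (.leaf (0, 3772))))) (.node (.node (.node (.leaf (58, 444)) (.leaf (0, 2492))) (.node (.leaf (0, 0)) (.leaf (76, 3516)))) (.node (.node (.leaf (70, 3439)) (.leaf (77, 3004))) (.node (.leaf (0, 0)) (.leaf (76, 4028))))))) (.node (.node (.node (.node (.node (.leaf (0, 0)) (.leaf (22, 2172))) (.node (.leaf (52, 1148)) (.leaf (6, 3196)))) (.node (.node (.leaf (0, 0)) (.leaf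 (0, 2684))) (.node (.leaf (0, 0)) (.leaf (21, 3708))))) (.node (.node (.node (.leaf (67, 380)) (.leaf (35, 429))) (.node (.leaf (76, 1404)) (.leaf (59, 3452)))) (.node (.node (.leaf (0, 892)) (.leaf (0, 2940))) (.node (.leaf (0, 0)) (.leaf (0, 3964)))))) (.node (.node (.node (.node (.leaf (0, 252)) (.leaf (76, 2300))) (.node (.leaf (76, 1276)) (.leaf (77, 3324)))) (.node (.node (.leaf (0, 0)) (.leaf (69, 1877))) (.node (.leaf (76, 1788)) (.leaf (77, 3903))))) (.node (.node (.node (.leaf (0, 0)) (.leaf (47, 2392))) (.node (.leaf (65, 1532)) (.leaf (69, 1968)))) (.node (.node (.leaf (0, 1020)) (.leaf (73, 2832))) (.node (.leaf (0, 2044)) (.leaf (20, 3569))))))))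

def twoVia241 : Janko.Tree (ℕ × ℕ) :=
  (.node (.node (.node (.node (.node (.node (.leaf (0, 0)) (.leaf (0, 0))) (.node (.leaf (54, 398)) (.leaf (1, 3132)))) (.node (.node (.leaf (0, 0)) (.leaf (1, 3644))) (.node (.leaf (0, 0)) (.leaf (66, 2110))))) (.node (.node (.node (.leaf (1, 316)) (.leaf (0, 0))) (.node (.leaf (1, 1340)) (.leaf (1, 3388)))) (.node (.node (.leaf (0, 0)) (.leaf (57, 2155))) (.node (.leaf (0, 0)) (.leaf (1, 3900)))))) (.node (.node (.node (.node (.leaf (0, 0)) (.leaf (1, 2236))) (.node (.leaf (76, 2387)) (.leaf (77, 1679)))) (.node (.node (.leaf (0, 0)) (.leaf (77, 3537))) (.node (.leaf (0, 0)) (.leaf (60, 2514))))) (.node (.node (.node (.leaf (0, 0)) (.leaf (75, 1287))) (.node (.leaf (1, 1468)) (.leaf (1, 3516)))) (.node (.node (.leaf (1, 956)) (.leaf (76, 2101))) (.node (.leaf (0, 0)) (.leaf (1, 4028))))))) (.node (.node (.node (.node (.node (.leaf (1, 124)) (.leaf (1, 2172))) (.node (.leaf (1, 1148)) (.leaf (53, 1692)))) (.node (.node (.leaf (0, 0)) (.leaf (67, 1309))) (.node (.leaf (0,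 0)) (.leaf (16, 1321))))) (.node (.node (.node (.leaf (0, 0)) (.leaf (1, 2428))) (.node (.leaf (1, 1404)) (.leaf (1, 3452)))) (.node (.node (.leaf (0, 0)) (.leaf (76, 2757))) (.node (.leaf (1, 1916)) (.leaf (1, 3964)))))) (.node (.node (.node (.node (.leaf (0, 0)) (.leaf (0, 0))) (.node (.leaf (1, 1276)) (.leaf (1, 3324)))) (.node (.node (.leaf (0, 0)) (.leaf (1, 2812))) (.node (.leaf (0, 0)) (.leaf (76, 3546))))) (.node (.node (.node (.leaf (0, 0)) (.leaf (0, 0))) (.node (.leaf (60, 1523)) (.leaf (1, 3580)))) (.node (.node (.leaf (76, 479)) (.leaf (30, 2156))) (.node (.leaf (54, 847)) (.leaf (1, 4092))))))))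

def twoVia242 : Janko.Tree (ℕ × ℕ) :=
  (.node (.node (.node (.node (.node (.node (.leaf (0, 0)) (.leaf (2, 3570))) (.node (.leaf (60, 2)) (.leaf (76, 3007)))) (.node (.node (.leaf (76, 2292)) (.leaf (60, 3613))) (.node (.leaf (0, 0)) (.leaf (76, 3485))))) (.node (.node (.node (.leaf (0, 0)) (.leaf (76, 4085))) (.node (.leaf (0, 0)) (.leaf (54, 807)))) (.node (.node (.leaf (10, 1947)) (.leaf (60, 238))) (.node (.leaf (0, 0)) (.leaf (66, 1618)))))) (.node (.node (.node (.node (.leaf (0, 0)) (.leaf (58, 1564))) (.node (.leaf (0, 0)) (.leaf (2, 3260)))) (.node (.node (.leaf (0, 0)) (.leaf (2, 2748))) (.node (.leaf (2, 1724)) (.leaf (74, 2655))))) (.node (.node (.node (.leaf (0, 0)) (.leaf (77, 1939))) (.node (.leaf (0, 0)) (.leaf (66, 2026)))) (.node (.node (.leaf (0, 0)) (.leaf (2, 3004))) (.node (.leaf (2, 1980)) (.leaf (68, 2070))))))) (.node (.node (.node (.node (.node (.leaf (0, 0)) (.leaf (22, 3463))) (.node (.leaf (0, 0)) (.leaf (2, 3196)))) (.node (.node (.leaf (0, 0)) (.leaf (8, 1309))) (.node (.leaf (2,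 3075)) (.leaf (67, 2080))))) (.node (.node (.node (.leaf (2, 380)) (.leaf (2, 2428))) (.node (.leaf (0, 0)) (.leaf (67, 1913)))) (.node (.node (.leaf (2, 892)) (.leaf (67, 1772))) (.node (.leaf (76, 2377)) (.leaf (59, 1652)))))) (.node (.node (.node (.node (.leaf (0, 0)) (.leaf (2, 2300))) (.node (.leaf (76, 1215)) (.leaf (0, 0)))) (.node (.node (.leaf (2, 764)) (.leaf (58, 581))) (.node (.leaf (74, 1257)) (.leaf (77, 1944))))) (.node (.node (.node (.leaf (0, 0)) (.leaf (76, 2675))) (.node (.leaf (2, 1532)) (.leaf (73, 2718)))) (.node (.node (.leaf (8, 1703)) (.leaf (2, 3068))) (.node (.leaf (60, 11)) (.leaf (30, 4043))))))))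

def twoVia243 : Janko.Tree (ℕ × ℕ) :=
  (.node (.node (.node (.node (.node (.node (.leaf (24, 72)) (.leaf (67, 1092))) (.node (.leaf (0, 0)) (.leaf (61, 1898)))) (.node (.node (.leaf (67, 36)) (.leaf (4, 3590))) (.node (.leaf (58, 656)) (.leaf (66, 2815))))) (.node (.node (.node (.leaf (0, 0)) (.leaf (8, 1032))) (.node (.leaf (76, 1339)) (.leaf (76, 3028)))) (.node (.node (.leaf (0, 0)) (.leaf (65, 2973))) (.node (.leaf (8, 3384)) (.leaf (4, 3280)))))) (.node (.node (.node (.node (.leaf (0, 0)) (.leaf (66, 2378))) (.node (.leaf (26, 237)) (.leaf (67, 1725)))) (.node (.node (.leaf (67, 582)) (.leaf (77, 3731))) (.node (.leaf (0, 0)) (.leaf (74, 3360))))) (.node (.node (.node (.leaf (24, 907)) (.leaf (77, 4031))) (.node (.leaf (76, 1467)) (.leaf (76, 1032)))) (.node (.node (.leaf (60, 469)) (.leaf (77, 2077))) (.node (.leaf (0, 0)) (.leaf (77, 4011))))))) (.node (.node (.node (.node (.node (.leaf (0, 0)) (.leaf (44, 100))) (.node (.leaf (77, 2281)) (.leaf (44, 1789)))) (.node (.node (.leaf (5, 1486)) (.leaf (23,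 1843))) (.node (.leaf (0, 0)) (.leaf (69, 3178))))) (.node (.node (.node (.leaf (76, 2540)) (.leaf (76, 429))) (.node (.leaf (0, 0)) (.leaf (25, 1925)))) (.node (.node (.leaf (69, 3142)) (.leaf (0, 0))) (.node (.leaf (77, 3719)) (.leaf (14, 3712)))))) (.node (.node (.node (.node (.leaf (0, 0)) (.leaf (22, 2991))) (.node (.leaf (67, 3035)) (.leaf (74, 2109)))) (.node (.node (.leaf (0, 0)) (.leaf (66, 3198))) (.node (.leaf (0, 0)) (.leaf (8, 1477))))) (.node (.node (.node (.leaf (0, 0)) (.leaf (40, 2792))) (.node (.leaf (0, 0)) (.leaf (60, 4076)))) (.node (.node (.leaf (0, 0)) (.leaf (22, 643))) (.node (.leaf (44, 846)) (.leaf (67, 3384))))))))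

def twoVia244 : Janko.Tree (ℕ × ℕ) :=
  (.node (.node (.node (.node (.node (.node (.leaf (0, 0)) (.leaf (0, 2109))) (.node (.leaf (0, 2385)) (.leaf (73, 3835)))) (.node (.node (.leaf (0, 573)) (.leaf (0, 2621))) (.node (.leaf (0, 1597)) (.leaf (0, 3645))))) (.node (.node (.node (.leaf (0, 0)) (.leaf (75, 2365))) (.node (.leaf (0, 0)) (.leaf (40, 3389)))) (.node (.node (.leaf (0, 0)) (.leaf (67, 940))) (.node (.leaf (76, 1853)) (.leaf (0, 3901)))))) (.node (.node (.node (.node (.leaf (0, 189)) (.leaf (0, 3343))) (.node (.leaf (0, 1213)) (.leaf (0, 3839)))) (.node (.node (.leaf (60, 679)) (.leaf (34, 1797))) (.node (.leaf (73, 200)) (.leaf (67, 3773))))) (.node (.node (.node (.leaf (0, 0)) (.leaf (23, 2493))) (.node (.leaf (0, 0)) (.leaf (67, 3517)))) (.node (.node (.leaf (10, 621)) (.leaf (0, 3005))) (.node (.leaf (0, 0)) (.leaf (75, 4029))))))) (.node (.node (.node (.node (.node (.leaf (0, 0)) (.leaf (0, 0))) (.node (.leaf (68, 1256)) (.leaf (0, 3197)))) (.node (.node (.leaf (0, 637)) (.leaf (18, 2685))) (.node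 (.leaf (77, 1661)) (.leaf (51, 3702))))) (.node (.node (.node (.leaf (67, 1970)) (.leaf (0, 2429))) (.node (.leaf (75, 3633)) (.leaf (69, 3453)))) (.node (.node (.leaf (22, 893)) (.leaf (55, 2941))) (.node (.leaf (73, 3445)) (.leaf (0, 3965)))))) (.node (.node (.node (.node (.leaf (0, 0)) (.leaf (47, 2301))) (.node (.leaf (0, 1277)) (.leaf (62, 3325)))) (.node (.node (.leaf (0, 0)) (.leaf (73, 2821))) (.node (.leaf (0, 0)) (.leaf (0, 3837))))) (.node (.node (.node (.leaf (0, 0)) (.leaf (0, 0))) (.node (.leaf (65, 1533)) (.leaf (76, 3581)))) (.node (.node (.leaf (0, 0)) (.leaf (77, 3069))) (.node (.leaf (67, 1845)) (.leaf (73, 744))))))))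

def twoVia245 : Janko.Tree (ℕ × ℕ) :=
  (.node (.node (.node (.node (.node (.node (.leaf (1, 61)) (.leaf (50, 885))) (.node (.leaf (55, 418)) (.leaf (76, 1755)))) (.node (.node (.leaf (1, 628)) (.leaf (30, 3175))) (.node (.leaf (62, 86)) (.leaf (54, 3993))))) (.node (.node (.node (.leaf (0, 0)) (.leaf (1, 2365))) (.node (.leaf (76, 2492)) (.leaf (0, 0)))) (.node (.node (.leaf (60, 789)) (.leaf (1, 2877))) (.node (.leaf (1, 1853)) (.leaf (76, 3467)))))) (.node (.node (.node (.node (.leaf (0, 0)) (.leaf (1, 2237))) (.node (.leaf (54, 459)) (.leaf (1, 3261)))) (.node (.node (.leaf (0, 0)) (.leaf (76, 3138))) (.node (.leaf (65, 265)) (.leaf (23, 4051))))) (.node (.node (.node (.leaf (1, 445)) (.leaf (1, 2493))) (.node (.leaf (76, 3483)) (.leaf (76, 1644)))) (.node (.node (.leaf (0, 0)) (.leaf (65, 2390))) (.node (.leaf (67, 1727)) (.leaf (1, 4029))))))) (.node (.node (.node (.node (.node (.leaf (0, 0)) (.leaf (76, 1432))) (.node (.leaf (1, 1525)) (.leaf (69, 2487)))) (.node (.node (.leaf (0, 0)) (.leaf (1, 2685)))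 (.node (.leaf (1, 1661)) (.leaf (50, 2802))))) (.node (.node (.node (.leaf (0, 0)) (.leaf (77, 3195))) (.node (.leaf (1, 2728)) (.leaf (1, 3453)))) (.node (.node (.leaf (0, 0)) (.leaf (1, 2941))) (.node (.leaf (76, 3445)) (.leaf (76, 3430)))))) (.node (.node (.node (.node (.leaf (0, 0)) (.leaf (76, 1165))) (.node (.leaf (65, 4087)) (.leaf (46, 865)))) (.node (.node (.leaf (0, 0)) (.leaf (66, 210))) (.node (.leaf (1, 1789)) (.leaf (57, 3645))))) (.node (.node (.node (.leaf (1, 509)) (.leaf (1, 2557))) (.node (.leaf (76, 1098)) (.leaf (60, 878)))) (.node (.node (.leaf (1, 1021)) (.leaf (1, 3069))) (.node (.leaf (55, 3192)) (.leaf (76, 4063))))))))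

def twoVia246 : Janko.Tree (ℕ × ℕ) :=
  (.node (.node (.node (.node (.node (.node (.leaf (0, 0)) (.leaf (71, 2583))) (.node (.leaf (2, 1085)) (.leaf (2, 3133)))) (.node (.node (.leaf (60, 0)) (.leaf (69, 1747))) (.node (.leaf (0, 0)) (.leaf (21, 3699))))) (.node (.node (.node (.leaf (2, 317)) (.leaf (77, 2290))) (.node (.leaf (77, 3540)) (.leaf (58, 3802)))) (.node (.node (.leaf (2, 829)) (.leaf (76, 4095))) (.node (.leaf (0, 0)) (.leaf (2, 3901)))))) (.node (.node (.node (.node (.leaf (62, 194)) (.leaf (74, 430))) (.node (.leaf (71, 3381)) (.leaf (60, 3946)))) (.node (.node (.leaf (2, 701)) (.leaf (4, 2749))) (.node (.leaf (0, 0)) (.leaf (66, 3993))))) (.node (.node (.node (.leaf (0, 0)) (.leaf (66, 3110))) (.node (.leaf (2, 1469)) (.leaf (2, 3517)))) (.node (.node (.leaf (2, 957)) (.leaf (69, 3626))) (.node (.leaf (2, 3402)) (.leaf (22, 1215))))))) (.node (.node (.node (.node (.node (.leaf (2, 125)) (.leaf (2, 2173))) (.node (.leaf (15, 165)) (.leaf (76, 2890)))) (.node (.node (.leaf (35, 86)) (.leaf (67,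 3639))) (.node (.leaf (0, 0)) (.leaf (76, 3799))))) (.node (.node (.node (.leaf (0, 0)) (.leaf (19, 1727))) (.node (.leaf (4, 1405)) (.leaf (60, 788)))) (.node (.node (.leaf (0, 0)) (.leaf (2, 2941))) (.node (.leaf (0, 0)) (.leaf (76, 2743)))))) (.node (.node (.node (.node (.leaf (2, 253)) (.leaf (2, 2301))) (.node (.leaf (18, 489)) (.leaf (61, 2949)))) (.node (.node (.leaf (67, 1583)) (.leaf (76, 1289))) (.node (.leaf (60, 795)) (.leaf (67, 2905))))) (.node (.node (.node (.leaf (0, 0)) (.leaf (76, 3998))) (.node (.leaf (66, 727)) (.leaf (65, 3378)))) (.node (.node (.leaf (77, 3630)) (.leaf (77, 3278))) (.node (.leaf (2, 2045)) (.leaf (73, 4069))))))))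

def twoVia247 : Janko.Tree (ℕ × ℕ) :=
  (.node (.node (.node (.node (.node (.node (.leaf (0, 0)) (.leaf (20, 907))) (.node (.leaf (74, 4057)) (.leaf (73, 2902)))) (.node (.node (.leaf (0, 0)) (.leaf (71, 2779))) (.node (.leaf (0, 0)) (.leaf (20, 3916))))) (.node (.node (.node (.leaf (0, 0)) (.leaf (77, 1093))) (.node (.leaf (0, 0)) (.leaf (58, 266)))) (.node (.node (.leaf (59, 27)) (.leaf (76, 2936))) (.node (.leaf (42, 3231)) (.leaf (74, 2592)))))) (.node (.node (.node (.node (.leaf (0, 0)) (.leaf (4, 341))) (.node (.leaf (0, 0)) (.leaf (75, 3237)))) (.node (.node (.leaf (0, 0)) (.leaf (66, 2051))) (.node (.leaf (0, 0)) (.leaf (18, 1162))))) (.node (.node (.node (.leaf (0, 0)) (.leaf (65, 2950))) (.node (.leaf (0, 0)) (.leaf (22, 831)))) (.node (.node (.leaf (0, 0)) (.leaf (74, 3626))) (.node (.leaf (0, 0)) (.leaf (66, 2472))))))) (.node (.node (.node (.node (.node (.leaf (0, 0)) (.leaf (73, 3797))) (.node (.leaf (0, 0)) (.leaf (4, 2504)))) (.node (.node (.leaf (0, 0)) (.leaf (76, 2684))) (.node (.leaf (0,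 0)) (.leaf (75, 3703))))) (.node (.node (.node (.leaf (24, 115)) (.leaf (8, 3680))) (.node (.leaf (75, 1364)) (.leaf (54, 2709)))) (.node (.node (.leaf (61, 1517)) (.leaf (67, 2449))) (.node (.leaf (14, 3445)) (.leaf (41, 636)))))) (.node (.node (.node (.node (.leaf (0, 0)) (.leaf (0, 0))) (.node (.leaf (0, 0)) (.leaf (67, 136)))) (.node (.node (.leaf (64, 3159)) (.leaf (58, 2718))) (.node (.leaf (76, 3940)) (.leaf (0, 0))))) (.node (.node (.node (.leaf (0, 0)) (.leaf (66, 2610))) (.node (.leaf (0, 0)) (.leaf (64, 1162)))) (.node (.node (.leaf (0, 0)) (.leaf (76, 1157))) (.node (.leaf (76, 2247)) (.leaf (44, 2086))))))))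

def twoVia248 : Janko.Tree (ℕ × ℕ) :=
  (.node (.node (.node (.node (.node (.node (.leaf (0, 0)) (.leaf (65, 2110))) (.node (.leaf (0, 1086)) (.leaf (65, 3134)))) (.node (.node (.leaf (67, 2625)) (.leaf (0, 0))) (.node (.leaf (0, 1598)) (.leaf (66, 3646))))) (.node (.node (.node (.leaf (0, 0)) (.leaf (0, 0))) (.node (.leaf (0, 1342)) (.leaf (0, 3390)))) (.node (.node (.leaf (0, 0)) (.leaf (66, 2878))) (.node (.leaf (0, 0)) (.leaf (69, 3902)))))) (.node (.node (.node (.node (.leaf (67, 881)) (.leaf (71, 1183))) (.node (.leaf (9, 1181)) (.leaf (71, 2550)))) (.node (.node (.leaf (0, 0)) (.leaf (77, 2750))) (.node (.leaf (0, 1726)) (.leaf (0, 3774))))) (.node (.node (.node (.leaf (71, 1181)) (.leaf (0, 2494))) (.node (.leaf (67, 310)) (.leaf (76, 3518)))) (.node (.node (.leaf (59, 1040)) (.leaf (61, 1171))) (.node (.leaf (75, 1695)) (.leaf (67, 4030))))))) (.node (.node (.node (.node (.node (.leaf (0, 0)) (.leaf (62, 2174))) (.node (.leaf (0, 1150)) (.leaf (0, 3198)))) (.node (.node (.leaf (0, 0)) (.leaf (18, 522)))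 (.node (.leaf (75, 1662)) (.leaf (62, 4089))))) (.node (.node (.node (.leaf (0, 382)) (.leaf (20, 1728))) (.node (.leaf (69, 4027)) (.leaf (0, 3454)))) (.node (.node (.leaf (0, 894)) (.leaf (73, 3894))) (.node (.leaf (0, 1918)) (.leaf (77, 3966)))))) (.node (.node (.node (.node (.leaf (0, 0)) (.leaf (21, 2302))) (.node (.leaf (16, 1368)) (.leaf (0, 3326)))) (.node (.node (.leaf (0, 0)) (.leaf (0, 2814))) (.node (.leaf (74, 1790)) (.leaf (0, 3838))))) (.node (.node (.node (.leaf (19, 1310)) (.leaf (0, 2558))) (.node (.leaf (0, 1534)) (.leaf (76, 3582)))) (.node (.node (.leaf (66, 1022)) (.leaf (76, 3535))) (.node (.leaf (0, 2046)) (.leaf (0, 4094))))))))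

def twoVia249 : Janko.Tree (ℕ × ℕ) :=
  (.node (.node (.node (.node (.node (.node (.leaf (0, 0)) (.leaf (1, 2110))) (.node (.leaf (0, 0)) (.leaf (67, 1684)))) (.node (.node (.leaf (65, 180)) (.leaf (1, 3652))) (.node (.leaf (0, 0)) (.leaf (1, 3646))))) (.node (.node (.node (.leaf (0, 0)) (.leaf (75, 3392))) (.node (.leaf (57, 517)) (.leaf (76, 3956)))) (.node (.node (.leaf (66, 3930)) (.leaf (1, 2878))) (.node (.leaf (0, 0)) (.leaf (76, 3500)))))) (.node (.node (.node (.node (.leaf (0, 0)) (.leaf (66, 652))) (.node (.leaf (0, 0)) (.leaf (76, 4055)))) (.node (.node (.leaf (0, 0)) (.leaf (77, 1387))) (.node (.leaf (54, 801)) (.leaf (1, 3774))))) (.node (.node (.node (.leaf (0, 0)) (.leaf (0, 0))) (.node (.leaf (1, 1470)) (.leaf (1, 3518)))) (.node (.node (.leaf (65, 575)) (.leaf (76, 2392))) (.node (.leaf (1, 1982)) (.leaf (74, 3569))))))) (.node (.node (.node (.node (.node (.leaf (0, 0)) (.leaf (1, 2174))) (.node (.leaf (76, 2720)) (.leaf (41, 1695)))) (.node (.node (.leaf (76, 1597)) (.leaf (27, 4072))) (.node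 (.leaf (0, 0)) (.leaf (66, 2591))))) (.node (.node (.node (.leaf (0, 0)) (.leaf (75, 3680))) (.node (.leaf (1, 1406)) (.leaf (60, 3456)))) (.node (.node (.leaf (0, 0)) (.leaf (0, 0))) (.node (.leaf (66, 2939)) (.leaf (1, 3966)))))) (.node (.node (.node (.node (.leaf (0, 0)) (.leaf (0, 0))) (.node (.leaf (76, 1874)) (.leaf (67, 3404)))) (.node (.node (.leaf (1, 766)) (.leaf (65, 1461))) (.node (.leaf (0, 0)) (.leaf (76, 2902))))) (.node (.node (.node (.leaf (76, 1177)) (.leaf (76, 3604))) (.node (.leaf (0, 0)) (.leaf (62, 4061)))) (.node (.node (.leaf (0, 0)) (.leaf (1, 3070))) (.node (.leaf (54, 848)) (.leaf (15, 3960))))))))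

def twoVia250 : Janko.Tree (ℕ × ℕ) :=
  (.node (.node (.node (.node (.node (.node (.leaf (2, 62)) (.leaf (0, 0))) (.node (.leaf (6, 2291)) (.leaf (77, 3789)))) (.node (.node (.leaf (2, 574)) (.leaf (2, 2622))) (.node (.leaf (22, 639)) (.leaf (2, 3646))))) (.node (.node (.node (.leaf (0, 0)) (.leaf (77, 3930))) (.node (.leaf (2, 1342)) (.leaf (7, 1857)))) (.node (.node (.leaf (0, 0)) (.leaf (76, 3222))) (.node (.leaf (2, 1854)) (.leaf (67, 3954)))))) (.node (.node (.node (.node (.leaf (2, 190)) (.leaf (66, 2198))) (.node (.leaf (2, 1214)) (.leaf (77, 3586)))) (.node (.node (.leaf (0, 0)) (.leaf (74, 1549))) (.node (.leaf (17, 696)) (.leaf (76, 3772))))) (.node (.node (.node (.leaf (26, 1006)) (.leaf (73, 3678))) (.node (.leaf (59, 200)) (.leaf (76, 3243)))) (.node (.node (.leaf (54, 173)) (.leaf (2, 3006))) (.node (.leaf (76, 1821)) (.leaf (2, 4030))))))) (.node (.node (.node (.node (.node (.leaf (0, 0)) (.leaf (65, 323))) (.node (.leaf (7, 429)) (.leaf (67, 1709)))) (.node (.node (.leaf (2, 638)) (.leaf (66,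 1350))) (.node (.leaf (77, 3843)) (.leaf (74, 420))))) (.node (.node (.node (.leaf (76, 559)) (.leaf (2, 2430))) (.node (.leaf (76, 3271)) (.leaf (76, 3773)))) (.node (.node (.leaf (0, 0)) (.leaf (0, 0))) (.node (.leaf (2, 3436)) (.leaf (76, 2277)))))) (.node (.node (.node (.node (.leaf (62, 1538)) (.leaf (74, 1348))) (.node (.leaf (2, 1278)) (.leaf (2, 3326)))) (.node (.node (.leaf (0, 0)) (.leaf (67, 323))) (.node (.leaf (2, 1790)) (.leaf (10, 584))))) (.node (.node (.node (.leaf (2, 510)) (.leaf (19, 1747))) (.node (.leaf (6, 2897)) (.leaf (4, 3582)))) (.node (.node (.leaf (0, 0)) (.leaf (65, 2826))) (.node (.leaf (74, 753)) (.leaf (62, 3389))))))))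

def twoVia251 : Janko.Tree (ℕ × ℕ) :=
  (.node (.node (.node (.node (.node (.node (.leaf (0, 0)) (.leaf (65, 155))) (.node (.leaf (0, 0)) (.leaf (65, 4078)))) (.node (.node (.leaf (76, 2088)) (.leaf (65, 1409))) (.node (.leaf (65, 373)) (.leaf (47, 2684))))) (.node (.node (.node (.leaf (0, 0)) (.leaf (0, 0))) (.node (.leaf (65, 54)) (.leaf (77, 3023)))) (.node (.node (.leaf (0, 0)) (.leaf (20, 1562))) (.node (.leaf (22, 1629)) (.leaf (67, 255)))))) (.node (.node (.node (.node (.leaf (0, 0)) (.leaf (57, 2368))) (.node (.leaf (77, 2320)) (.leaf (14, 2843)))) (.node (.node (.leaf (0, 0)) (.leaf (58, 1128))) (.node (.leaf (0, 0)) (.leaf (43, 443))))) (.node (.node (.node (.leaf (0, 0)) (.leaf (67, 1529))) (.node (.leaf (76, 2213)) (.leaf (57, 957)))) (.node (.node (.leaf (58, 512)) (.leaf (67, 494))) (.node (.leaf (74, 470)) (.leaf (77, 3504))))))) (.node (.node (.node (.node (.node (.leaf (67, 107)) (.leaf (0, 0))) (.node (.leaf (58, 125)) (.leaf (71, 2300)))) (.node (.node (.leaf (59, 20)) (.leaf (21, 2170)))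 (.node (.leaf (0, 0)) (.leaf (69, 1351))))) (.node (.node (.node (.leaf (0, 0)) (.leaf (25, 3040))) (.node (.leaf (0, 0)) (.leaf (65, 3456)))) (.node (.node (.leaf (0, 0)) (.leaf (73, 3629))) (.node (.leaf (0, 0)) (.leaf (58, 4018)))))) (.node (.node (.node (.node (.leaf (0, 0)) (.leaf (43, 214))) (.node (.leaf (22, 1277)) (.leaf (0, 0)))) (.node (.node (.leaf (0, 0)) (.leaf (0, 0))) (.node (.leaf (0, 0)) (.leaf (67, 2847))))) (.node (.node (.node (.leaf (0, 0)) (.leaf (75, 3856))) (.node (.leaf (0, 0)) (.leaf (74, 3665)))) (.node (.node (.leaf (0, 0)) (.leaf (74, 3927))) (.node (.leaf (0, 0)) (.leaf (64, 3895))))))))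

def twoVia252 : Janko.Tree (ℕ × ℕ) :=
  (.node (.node (.node (.node (.node (.node (.leaf (0, 0)) (.leaf (73, 2450))) (.node (.leaf (32, 1087)) (.leaf (61, 3135)))) (.node (.node (.leaf (60, 575)) (.leaf (67, 2005))) (.node (.leaf (0, 0)) (.leaf (0, 3647))))) (.node (.node (.node (.leaf (0, 0)) (.leaf (77, 2367))) (.node (.leaf (71, 3851)) (.leaf (73, 3565)))) (.node (.node (.leaf (0, 0)) (.leaf (73, 2879))) (.node (.leaf (0, 0)) (.leaf (0, 3903)))))) (.node (.node (.node (.node (.leaf (0, 0)) (.leaf (65, 2239))) (.node (.leaf (0, 1968)) (.leaf (0, 0)))) (.node (.node (.leaf (0, 703)) (.leaf (73, 2421))) (.node (.leaf (0, 0)) (.leaf (69, 3775))))) (.node (.node (.node (.leaf (0, 0)) (.leaf (0, 3194))) (.node (.leaf (0, 0)) (.leaf (52, 3519)))) (.node (.node (.leaf (67, 852)) (.leaf (69, 3007))) (.node (.leaf (15, 1983)) (.leaf (0, 4031))))))) (.node (.node (.node (.node (.node (.leaf (0, 127)) (.leaf (6, 2175))) (.node (.leaf (0, 0)) (.leaf (73, 3199)))) (.node (.node (.leaf (0, 0)) (.leaf (0, 2687))) (.node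 (.leaf (0, 1663)) (.leaf (0, 3711))))) (.node (.node (.node (.leaf (0, 0)) (.leaf (0, 0))) (.node (.leaf (65, 765)) (.leaf (9, 2919)))) (.node (.node (.leaf (0, 0)) (.leaf (77, 2943))) (.node (.leaf (54, 1684)) (.leaf (73, 2467)))))) (.node (.node (.node (.node (.leaf (0, 255)) (.leaf (77, 3968))) (.node (.leaf (48, 1279)) (.leaf (62, 1114)))) (.node (.node (.leaf (67, 767)) (.leaf (76, 3318))) (.node (.leaf (76, 2514)) (.leaf (55, 3839))))) (.node (.node (.node (.leaf (0, 0)) (.leaf (47, 2163))) (.node (.leaf (11, 2990)) (.leaf (0, 3583)))) (.node (.node (.leaf (0, 1023)) (.leaf (73, 3806))) (.node (.leaf (44, 2438)) (.leaf (39, 4095))))))))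

def twoVia253 : Janko.Tree (ℕ × ℕ) :=
  (.node (.node (.node (.node (.node (.node (.leaf (0, 0)) (.leaf (1, 2111))) (.node (.leaf (1, 1087)) (.leaf (1, 3135)))) (.node (.node (.leaf (55, 953)) (.leaf (57, 1903))) (.node (.leaf (1, 1599)) (.leaf (46, 3821))))) (.node (.node (.node (.leaf (1, 319)) (.leaf (77, 2985))) (.node (.leaf (1, 1577)) (.leaf (1, 3391)))) (.node (.node (.leaf (1, 831)) (.leaf (76, 2539))) (.node (.leaf (58, 281)) (.leaf (23, 3718)))))) (.node (.node (.node (.node (.leaf (0, 0)) (.leaf (1, 2239))) (.node (.leaf (0, 0)) (.leaf (1, 3263)))) (.node (.node (.leaf (59, 244)) (.leaf (1, 3018))) (.node (.leaf (32, 230)) (.leaf (76, 4053))))) (.node (.node (.node (.leaf (1, 447)) (.leaf (77, 3692))) (.node (.leaf (1, 1471)) (.leaf (76, 4060)))) (.node (.node (.leaf (52, 1833)) (.leaf (1, 3007))) (.node (.leaf (76, 3171)) (.leaf (73, 4093))))))) (.node (.node (.node (.node (.node (.leaf (54, 38)) (.leaf (54, 947))) (.node (.leaf (76, 3817)) (.leaf (73, 2483)))) (.node (.node (.leaf (0, 0)) (.leaf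 (1, 3708))) (.node (.leaf (0, 0)) (.leaf (76, 4039))))) (.node (.node (.node (.leaf (0, 0)) (.leaf (1, 2431))) (.node (.leaf (66, 510)) (.leaf (1, 3455)))) (.node (.node (.leaf (0, 0)) (.leaf (67, 952))) (.node (.leaf (1, 1919)) (.leaf (1, 3967)))))) (.node (.node (.node (.node (.leaf (0, 0)) (.leaf (1, 2303))) (.node (.leaf (76, 1899)) (.leaf (1, 3327)))) (.node (.node (.leaf (0, 0)) (.leaf (76, 2536))) (.node (.leaf (0, 0)) (.leaf (1, 3839))))) (.node (.node (.node (.leaf (0, 0)) (.leaf (76, 3303))) (.node (.leaf (1, 1535)) (.leaf (76, 2299)))) (.node (.node (.leaf (0, 0)) (.leaf (76, 2245))) (.node (.leaf (1, 3187)) (.leaf (66, 315))))))))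

def twoVia254 : Janko.Tree (ℕ × ℕ) :=
  (.node (.node (.node (.node (.node (.node (.leaf (0, 0)) (.leaf (2, 2111))) (.node (.leaf (8, 2081)) (.leaf (67, 2277)))) (.node (.node (.leaf (76, 2291)) (.leaf (66, 3550))) (.node (.leaf (0, 0)) (.leaf (2, 4029))))) (.node (.node (.node (.leaf (0, 0)) (.leaf (0, 0))) (.node (.leaf (0, 0)) (.leaf (76, 3284)))) (.node (.node (.leaf (0, 0)) (.leaf (2, 2879))) (.node (.leaf (0, 0)) (.leaf (2, 3903)))))) (.node (.node (.node (.node (.leaf (0, 0)) (.leaf (2, 3666))) (.node (.leaf (66, 1876)) (.leaf (2, 3847)))) (.node (.node (.leaf (0, 0)) (.leaf (57, 2269))) (.node (.leaf (2, 1727)) (.leaf (67, 2176))))) (.node (.node (.node (.leaf (0, 0)) (.leaf (2, 2495))) (.node (.leaf (62, 200)) (.leaf (73, 2149)))) (.node (.node (.leaf (2, 959)) (.leaf (76, 1320))) (.node (.leaf (2, 1983)) (.leaf (2, 4031))))))) (.node (.node (.node (.node (.node (.leaf (51, 22)) (.leaf (2, 2175))) (.node (.leaf (0, 0)) (.leaf (4, 3199)))) (.node (.node (.leaf (0, 0)) (.leaf (7, 1310))) (.node (.leaf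 (2, 1663)) (.leaf (73, 2492))))) (.node (.node (.node (.leaf (2, 383)) (.leaf (52, 396))) (.node (.leaf (26, 2554)) (.leaf (67, 3911)))) (.node (.node (.leaf (2, 895)) (.leaf (2, 2943))) (.node (.leaf (22, 3233)) (.leaf (76, 2465)))))) (.node (.node (.node (.node (.leaf (6, 134)) (.leaf (56, 362))) (.node (.leaf (67, 573)) (.leaf (67, 1831)))) (.node (.node (.leaf (2, 767)) (.leaf (2, 2815))) (.node (.leaf (76, 2219)) (.leaf (77, 3986))))) (.node (.node (.node (.leaf (0, 0)) (.leaf (2, 2559))) (.node (.leaf (0, 0)) (.leaf (19, 2103)))) (.node (.node (.leaf (0, 0)) (.leaf (43, 463))) (.node (.leaf (0, 0)) (.leaf (22, 1672))))))))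

def twoVia255 : Janko.Tree (ℕ × ℕ) :=
  (.node (.node (.node (.node (.node (.node (.leaf (0, 0)) (.leaf (64, 3502))) (.node (.leaf (77, 4067)) (.leaf (0, 0)))) (.node (.node (.leaf (0, 0)) (.leaf (14, 2425))) (.node (.leaf (0, 0)) (.leaf (74, 590))))) (.node (.node (.node (.leaf (0, 0)) (.leaf (3, 2378))) (.node (.leaf (3, 1358)) (.leaf (21, 1953)))) (.node (.node (.leaf (65, 242)) (.leaf (0, 0))) (.node (.leaf (67, 4022)) (.leaf (66, 3832)))))) (.node (.node (.node (.node (.leaf (0, 0)) (.leaf (59, 937))) (.node (.leaf (67, 914)) (.leaf (0, 0)))) (.node (.node (.leaf (0, 0)) (.leaf (4, 541))) (.node (.leaf (0, 0)) (.leaf (67, 878))))) (.node (.node (.node (.leaf (21, 705)) (.leaf (73, 938))) (.node (.leaf (0, 0)) (.leaf (4, 833)))) (.node (.node (.leaf (0, 0)) (.leaf (67, 170))) (.node (.leaf (73, 3488)) (.leaf (26, 4027))))))) (.node (.node (.node (.node (.node (.leaf (0, 0)) (.leaf (0, 0))) (.node (.leaf (59, 679)) (.leaf (71, 2641)))) (.node (.node (.leaf (59, 211)) (.leaf (74, 3715))) (.node (.leaf (0,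 0)) (.leaf (74, 1616))))) (.node (.node (.node (.leaf (0, 0)) (.leaf (67, 800))) (.node (.leaf (64, 1447)) (.leaf (58, 3454)))) (.node (.node (.leaf (0, 0)) (.leaf (73, 3753))) (.node (.leaf (73, 1479)) (.leaf (55, 1276)))))) (.node (.node (.node (.node (.leaf (0, 0)) (.leaf (69, 1415))) (.node (.leaf (0, 0)) (.leaf (66, 3436)))) (.node (.node (.leaf (57, 1896)) (.leaf (61, 1460))) (.node (.leaf (26, 250)) (.leaf (67, 2684))))) (.node (.node (.node (.leaf (26, 510)) (.leaf (0, 0))) (.node (.leaf (0, 0)) (.leaf (67, 1280)))) (.node (.node (.leaf (0, 0)) (.leaf (67, 993))) (.node (.leaf (15, 93)) (.leaf (73, 3523))))))))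

def twoVia : Janko.Tree (ℕ × ℕ) := (.node (.node (.node (.node (.node (.node (.node (.node twoVia0 twoVia128) (.node twoVia64 twoVia192)) (.node (.node twoVia32 twoVia160) (.node twoVia96 twoVia224))) (.node (.node (.node twoVia16 twoVia144) (.node twoVia80 twoVia208)) (.node (.node twoVia48 twoVia176) (.node twoVia112 twoVia240)))) (.node (.node (.node (.node twoVia8 twoVia136) (.node twoVia72 twoVia200)) (.node (.node twoVia40 twoVia168) (.node twoVia104 twoVia232))) (.node (.node (.node twoVia24 twoVia152) (.node twoVia88 twoVia216)) (.node (.node twoVia56 twoVia184) (.node twoVia120 twoVia248))))) (.node (.node (.node (.node (.node twoVia4 twoVia132) (.node twoVia68 twoVia196)) (.node (.node twoVia36 twoVia164) (.node twoVia100 twoVia228))) (.node (.node (.node twoVia20 twoVia148) (.node twoVia84 twoVia212)) (.node (.node twoVia52 twoVia180) (.node twoVia116 twoVia244)))) (.node (.node (.node (.node twoVia12 twoVia140) (.node twoVia76 twoVia204)) (.node (.node twoVia44 twoVia172) (.node twoVia108 twoVia236)))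 (.node (.node (.node twoVia28 twoVia156) (.node twoVia92 twoVia220)) (.node (.node twoVia60 twoVia188) (.node twoVia124 twoVia252)))))) (.node (.node (.node (.node (.node (.node twoVia2 twoVia130) (.node twoVia66 twoVia194)) (.node (.node twoVia34 twoVia162) (.node twoVia98 twoVia226))) (.node (.node (.node twoVia18 twoVia146) (.node twoVia82 twoVia210)) (.node (.node twoVia50 twoVia178) (.node twoVia114 twoVia242)))) (.node (.node (.node (.node twoVia10 twoVia138) (.node twoVia74 twoVia202)) (.node (.node twoVia42 twoVia170) (.node twoVia106 twoVia234))) (.node (.node (.node twoVia26 twoVia154) (.node twoVia90 twoVia218)) (.node (.node twoVia58 twoVia186) (.node twoVia122 twoVia250))))) (.node (.node (.node (.node (.node twoVia6 twoVia134) (.node twoVia70 twoVia198)) (.node (.node twoVia38 twoVia166) (.node twoVia102 twoVia230))) (.node (.node (.node twoVia22 twoVia150) (.node twoVia86 twoVia214)) (.node (.node twoVia54 twoVia182) (.node twoVia118 twoVia246)))) (.node (.node (.node (.node twoVia14 twoVia142)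 (.node twoVia78 twoVia206)) (.node (.node twoVia46 twoVia174) (.node twoVia110 twoVia238))) (.node (.node (.node twoVia30 twoVia158) (.node twoVia94 twoVia222)) (.node (.node twoVia62 twoVia190) (.node twoVia126 twoVia254))))))) (.node (.node (.node (.node (.node (.node (.node twoVia1 twoVia129) (.node twoVia65 twoVia193)) (.node (.node twoVia33 twoVia161) (.node twoVia97 twoVia225))) (.node (.node (.node twoVia17 twoVia145) (.node twoVia81 twoVia209)) (.node (.node twoVia49 twoVia177) (.node twoVia113 twoVia241)))) (.node (.node (.node (.node twoVia9 twoVia137) (.node twoVia73 twoVia201)) (.node (.node twoVia41 twoVia169) (.node twoVia105 twoVia233))) (.node (.node (.node twoVia25 twoVia153) (.node twoVia89 twoVia217)) (.node (.node twoVia57 twoVia185) (.node twoVia121 twoVia249))))) (.node (.node (.node (.node (.node twoVia5 twoVia133) (.node twoVia69 twoVia197)) (.node (.node twoVia37 twoVia165) (.node twoVia101 twoVia229))) (.node (.node (.node twoVia21 twoVia149) (.node twoVia85 twoVia213)) (.node (.node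 twoVia53 twoVia181) (.node twoVia117 twoVia245)))) (.node (.node (.node (.node twoVia13 twoVia141) (.node twoVia77 twoVia205)) (.node (.node twoVia45 twoVia173) (.node twoVia109 twoVia237))) (.node (.node (.node twoVia29 twoVia157) (.node twoVia93 twoVia221)) (.node (.node twoVia61 twoVia189) (.node twoVia125 twoVia253)))))) (.node (.node (.node (.node (.node (.node twoVia3 twoVia131) (.node twoVia67 twoVia195)) (.node (.node twoVia35 twoVia163) (.node twoVia99 twoVia227))) (.node (.node (.node twoVia19 twoVia147) (.node twoVia83 twoVia211)) (.node (.node twoVia51 twoVia179) (.node twoVia115 twoVia243)))) (.node (.node (.node (.node twoVia11 twoVia139) (.node twoVia75 twoVia203)) (.node (.node twoVia43 twoVia171) (.node twoVia107 twoVia235))) (.node (.node (.node twoVia27 twoVia155) (.node twoVia91 twoVia219)) (.node (.node twoVia59 twoVia187) (.node twoVia123 twoVia251))))) (.node (.node (.node (.node (.node twoVia7 twoVia135) (.node twoVia71 twoVia199)) (.node (.node twoVia39 twoVia167) (.node twoVia103 twoVia231)))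 (.node (.node (.node twoVia23 twoVia151) (.node twoVia87 twoVia215)) (.node (.node twoVia55 twoVia183) (.node twoVia119 twoVia247)))) (.node (.node (.node (.node twoVia15 twoVia143) (.node twoVia79 twoVia207)) (.node (.node twoVia47 twoVia175) (.node twoVia111 twoVia239))) (.node (.node (.node twoVia31 twoVia159) (.node twoVia95 twoVia223)) (.node (.node twoVia63 twoVia191) (.node twoVia127 twoVia255))))))))

def twoOrd0 : Janko.Tree (ℕ) :=
  (.node (.node (.node (.node (.node (.node (.node (.leaf 2746) (.leaf 2454)) (.node (.leaf 534) (.leaf 18))) (.node (.node (.leaf 222) (.leaf 3068)) (.node (.leaf 988) (.leaf 1392)))) (.node (.node (.node (.leaf 2846) (.leaf 2110)) (.node (.leaf 2589) (.leaf 601))) (.node (.node (.leaf 3654) (.leaf 3489)) (.node (.leaf 3102) (.leaf 3318))))) (.node (.node (.node (.node (.leaf 3043) (.leaf 837)) (.node (.leaf 63) (.leaf 3440))) (.node (.node (.leaf 330) (.leaf 889)) (.node (.leaf 1642) (.leaf 2501)))) (.node (.node (.node (.leaf 2958) (.leaf 2208)) (.node (.leaf 1254) (.leaf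 112))) (.node (.node (.leaf 3600) (.leaf 2673)) (.node (.leaf 2470) (.leaf 657)))))) (.node (.node (.node (.node (.node (.leaf 3908) (.leaf 3346)) (.node (.leaf 2021) (.leaf 2893))) (.node (.node (.leaf 3199) (.leaf 2600)) (.node (.leaf 2285) (.leaf 164)))) (.node (.node (.node (.leaf 2269) (.leaf 3758)) (.node (.leaf 651) (.leaf 1660))) (.node (.node (.leaf 2177) (.leaf 2987)) (.node (.leaf 3387) (.leaf 2791))))) (.node (.node (.node (.node (.leaf 3267) (.leaf 1171)) (.node (.leaf 836) (.leaf 358))) (.node (.node (.leaf 1029) (.leaf 1819)) (.node (.leaf 375) (.leaf 3064)))) (.node (.node (.node (.leaf 2923) (.leaf 1458)) (.node (.leaf 1771) (.leaf 3301))) (.node (.node (.leaf 3320) (.leaf 1854)) (.node (.leaf 1578) (.leaf 2091))))))) (.node (.node (.node (.node (.node (.node (.leaf 0) (.leaf 2895)) (.node (.leaf 2710) (.leaf 3126))) (.node (.node (.leaf 2991) (.leaf 1966)) (.node (.leaf 2580) (.leaf 606)))) (.node (.node (.node (.leaf 776) (.leaf 3397)) (.node (.leaf 3972) (.leaf 2706))) (.node (.node (.leaf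 2797) (.leaf 3175)) (.node (.leaf 809) (.leaf 232))))) (.node (.node (.node (.node (.leaf 1431) (.leaf 1790)) (.node (.leaf 3500) (.leaf 418))) (.node (.node (.leaf 960) (.leaf 1703)) (.node (.leaf 2010) (.leaf 3584)))) (.node (.node (.node (.leaf 90) (.leaf 1978)) (.node (.leaf 1700) (.leaf 226))) (.node (.node (.leaf 1681) (.leaf 1071)) (.node (.leaf 3363) (.leaf 1828)))))) (.node (.node (.node (.node (.node (.leaf 153) (.leaf 1658)) (.node (.leaf 3230) (.leaf 1877))) (.node (.node (.leaf 1774) (.leaf 894)) (.node (.leaf 288) (.leaf 4026)))) (.node (.node (.node (.leaf 3446) (.leaf 2690)) (.node (.leaf 383) (.leaf 430))) (.node (.node (.leaf 1799) (.leaf 1908)) (.node (.leaf 1571) (.leaf 69))))) (.node (.node (.node (.node (.leaf 3549) (.leaf 3893)) (.node (.leaf 2676) (.leaf 1917))) (.node (.node (.leaf 1721) (.leaf 3030)) (.node (.leaf 3282) (.leaf 3589)))) (.node (.node (.node (.leaf 1075) (.leaf 284)) (.node (.leaf 822) (.leaf 1308))) (.node (.node (.leaf 275) (.leaf 1384)) (.node (.leaf 1417) (.leaf 1622))))))))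

def twoOrd1 : Janko.Tree (ℕ) :=
  (.node (.node (.node (.node (.node (.node (.node (.leaf 3047) (.leaf 364)) (.node (.leaf 2579) (.leaf 1339))) (.node (.node (.leaf 3831) (.leaf 3671)) (.node (.leaf 1766) (.leaf 2806)))) (.node (.node (.node (.leaf 912) (.leaf 1870)) (.node (.leaf 1627) (.leaf 590))) (.node (.node (.leaf 740) (.leaf 1633)) (.node (.leaf 862) (.leaf 1006))))) (.node (.node (.node (.node (.leaf 404) (.leaf 3795)) (.node (.leaf 2196) (.leaf 2974))) (.node (.node (.leaf 3797) (.leaf 1893)) (.node (.leaf 4083) (.leaf 3621)))) (.node (.node (.node (.leaf 1955) (.leaf 3617)) (.node (.leaf 3339) (.leaf 1759))) (.node (.node (.leaf 3476) (.leaf 1510)) (.node (.leaf 1507) (.leaf 1566)))))) (.node (.node (.node (.node (.node (.leaf 1647) (.leaf 2654)) (.node (.leaf 322) (.leaf 794))) (.node (.node (.leaf 245) (.leaf 3932)) (.node (.leaf 1638) (.leaf 2548)))) (.node (.node (.node (.leaf 362) (.leaf 1008)) (.node (.leaf 3781) (.leaf 2310))) (.node (.node (.leaf 3315) (.leaf 872)) (.node (.leaf 1299) (.leaf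 3940))))) (.node (.node (.node (.node (.leaf 3967) (.leaf 1244)) (.node (.leaf 2499) (.leaf 297))) (.node (.node (.leaf 4052) (.leaf 1469)) (.node (.leaf 243) (.leaf 3576)))) (.node (.node (.node (.leaf 1014) (.leaf 3235)) (.node (.leaf 1023) (.leaf 1406))) (.node (.node (.leaf 3091) (.leaf 452)) (.node (.leaf 218) (.leaf 1920))))))) (.node (.node (.node (.node (.node (.node (.leaf 2939) (.leaf 106)) (.node (.leaf 1787) (.leaf 3044))) (.node (.node (.leaf 1760) (.leaf 1131)) (.node (.leaf 406) (.leaf 871)))) (.node (.node (.node (.leaf 3038) (.leaf 1416)) (.node (.leaf 2139) (.leaf 2817))) (.node (.node (.leaf 2241) (.leaf 1262)) (.node (.leaf 2277) (.leaf 1749))))) (.node (.node (.node (.node (.leaf 2485) (.leaf 3111)) (.node (.leaf 4048) (.leaf 3375))) (.node (.node (.leaf 1563) (.leaf 1539)) (.node (.leaf 732) (.leaf 2773)))) (.node (.node (.node (.leaf 4012) (.leaf 2509)) (.node (.leaf 3329) (.leaf 1938))) (.node (.node (.leaf 3866) (.leaf 3094)) (.node (.leaf 3361) (.leaf 1989)))))) (.node (.node (.node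 (.node (.node (.leaf 4002) (.leaf 1832)) (.node (.leaf 716) (.leaf 1852))) (.node (.node (.leaf 3275) (.leaf 905)) (.node (.leaf 1574) (.leaf 3971)))) (.node (.node (.node (.leaf 2910) (.leaf 488)) (.node (.leaf 323) (.leaf 2081))) (.node (.node (.leaf 2653) (.leaf 2330)) (.node (.leaf 2508) (.leaf 3620))))) (.node (.node (.node (.node (.leaf 646) (.leaf 3926)) (.node (.leaf 1253) (.leaf 100))) (.node (.node (.leaf 3036) (.leaf 1931)) (.node (.leaf 3890) (.leaf 2074)))) (.node (.node (.node (.leaf 66) (.leaf 869)) (.node (.leaf 1994) (.leaf 3141))) (.node (.node (.leaf 1127) (.leaf 2594)) (.node (.leaf 897) (.leaf 1172))))))))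

def twoOrd2 : Janko.Tree (ℕ) :=
  (.node (.node (.node (.node (.node (.node (.node (.leaf 2752) (.leaf 3188)) (.node (.leaf 852) (.leaf 5))) (.node (.node (.leaf 4007) (.leaf 4017)) (.node (.leaf 65) (.leaf 2753)))) (.node (.node (.node (.leaf 1016) (.leaf 931)) (.node (.leaf 621) (.leaf 3272))) (.node (.node (.leaf 349) (.leaf 4009)) (.node (.leaf 2066) (.leaf 2611))))) (.node (.node (.node (.node (.leaf 3778) (.leaf 2075)) (.node (.leaf 1542) (.leaf 762))) (.node (.node (.leaf 899) (.leaf 409)) (.node (.leaf 2935) (.leaf 832)))) (.node (.node (.node (.leaf 3070) (.leaf 2418)) (.node (.leaf 3133) (.leaf 52))) (.node (.node (.leaf 3946) (.leaf 3380)) (.node (.leaf 963) (.leaf 3604)))))) (.node (.node (.node (.node (.node (.leaf 3556) (.leaf 2613)) (.node (.leaf 2257) (.leaf 33))) (.node (.node (.leaf 2552) (.leaf 367)) (.node (.leaf 1079) (.leaf 394)))) (.node (.node (.node (.leaf 2544) (.leaf 2179)) (.node (.leaf 1851) (.leaf 1377))) (.node (.node (.leaf 2769) (.leaf 3560)) (.node (.leaf 2792) (.leaf 103)))))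 (.node (.node (.node (.node (.leaf 816) (.leaf 3386)) (.node (.leaf 401) (.leaf 493))) (.node (.node (.leaf 2249) (.leaf 914)) (.node (.leaf 2734) (.leaf 372)))) (.node (.node (.node (.leaf 462) (.leaf 291)) (.node (.leaf 2803) (.leaf 3531))) (.node (.node (.leaf 1419) (.leaf 2519)) (.node (.leaf 3194) (.leaf 892))))))) (.node (.node (.node (.node (.node (.node (.leaf 391) (.leaf 3520)) (.node (.leaf 1483) (.leaf 1761))) (.node (.node (.leaf 727) (.leaf 1930)) (.node (.leaf 1101) (.leaf 1465)))) (.node (.node (.node (.leaf 3962) (.leaf 2215)) (.node (.leaf 3923) (.leaf 4076))) (.node (.node (.leaf 3328) (.leaf 2438)) (.node (.leaf 2703) (.leaf 3534))))) (.node (.node (.node (.node (.leaf 1980) (.leaf 2184)) (.node (.leaf 1000) (.leaf 2236))) (.node (.node (.leaf 1807) (.leaf 1251)) (.node (.leaf 1768) (.leaf 2941)))) (.node (.node (.node (.leaf 3461) (.leaf 3764)) (.node (.leaf 2013) (.leaf 1884))) (.node (.node (.leaf 1562) (.leaf 1961)) (.node (.leaf 2984) (.leaf 3114)))))) (.node (.node (.node (.node (.node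 (.leaf 2384) (.leaf 486)) (.node (.leaf 1463) (.leaf 3912))) (.node (.node (.leaf 1214) (.leaf 1732)) (.node (.leaf 3022) (.leaf 1987)))) (.node (.node (.node (.leaf 1608) (.leaf 1329)) (.node (.leaf 3852) (.leaf 3914))) (.node (.node (.leaf 3252) (.leaf 4064)) (.node (.leaf 2724) (.leaf 2612))))) (.node (.node (.node (.node (.leaf 45) (.leaf 1354)) (.node (.leaf 1031) (.leaf 3607))) (.node (.node (.leaf 867) (.leaf 1531)) (.node (.leaf 880) (.leaf 3558)))) (.node (.node (.node (.leaf 517) (.leaf 4061)) (.node (.leaf 2841) (.leaf 974))) (.node (.node (.leaf 593) (.leaf 1032)) (.node (.leaf 1027) (.leaf 1802))))))))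

def twoOrd3 : Janko.Tree (ℕ) :=
  (.node (.node (.node (.node (.node (.node (.node (.leaf 2522) (.leaf 878)) (.node (.leaf 3798) (.leaf 259))) (.node (.node (.leaf 957) (.leaf 1984)) (.node (.leaf 1641) (.leaf 325)))) (.node (.node (.node (.leaf 1835) (.leaf 858)) (.node (.leaf 73) (.leaf 1337))) (.node (.node (.leaf 3887) (.leaf 1045)) (.node (.leaf 1063) (.leaf 3730))))) (.node (.node (.node (.node (.leaf 954) (.leaf 2829)) (.node (.leaf 3586) (.leaf 1509))) (.node (.node (.leaf 1437) (.leaf 848)) (.node (.leaf 4033) (.leaf 46)))) (.node (.node (.node (.leaf 854) (.leaf 1087)) (.node (.leaf 2258) (.leaf 673))) (.node (.node (.leaf 1163) (.leaf 2534)) (.node (.leaf 1193) (.leaf 1350)))))) (.node (.node (.node (.node (.node (.leaf 1222) (.leaf 1178)) (.node (.leaf 583) (.leaf 3835))) (.node (.node (.leaf 1724) (.leaf 984)) (.node (.leaf 2665) (.leaf 844)))) (.node (.node (.node (.leaf 163) (.leaf 4072)) (.node (.leaf 2911) (.leaf 194))) (.node (.node (.leaf 2356) (.leaf 2131)) (.node (.leaf 2005) (.leaf 1436)))))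 (.node (.node (.node (.node (.leaf 639) (.leaf 1170)) (.node (.leaf 3554) (.leaf 3464))) (.node (.node (.leaf 3255) (.leaf 2852)) (.node (.leaf 1207) (.leaf 3732)))) (.node (.node (.node (.leaf 1992) (.leaf 1375)) (.node (.leaf 3909) (.leaf 2638))) (.node (.node (.leaf 2148) (.leaf 3109)) (.node (.leaf 87) (.leaf 1997))))))) (.node (.node (.node (.node (.node (.node (.leaf 798) (.leaf 1934)) (.node (.leaf 1180) (.leaf 1462))) (.node (.node (.leaf 161) (.leaf 3735)) (.node (.leaf 2031) (.leaf 3986)))) (.node (.node (.node (.leaf 3836) (.leaf 1451)) (.node (.leaf 3561) (.leaf 4047))) (.node (.node (.leaf 3197) (.leaf 335)) (.node (.leaf 4084) (.leaf 254))))) (.node (.node (.node (.node (.leaf 1857) (.leaf 2398)) (.node (.leaf 3731) (.leaf 2966))) (.node (.node (.leaf 2335) (.leaf 270)) (.node (.leaf 717) (.leaf 1758)))) (.node (.node (.node (.leaf 896) (.leaf 1158)) (.node (.leaf 1187) (.leaf 1455))) (.node (.node (.leaf 2864) (.leaf 469)) (.node (.leaf 3039) (.leaf 2635)))))) (.node (.node (.node (.node (.node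 (.leaf 2919) (.leaf 1555)) (.node (.leaf 3324) (.leaf 1156))) (.node (.node (.leaf 2748) (.leaf 3400)) (.node (.leaf 765) (.leaf 904)))) (.node (.node (.node (.leaf 2617) (.leaf 3284)) (.node (.leaf 2373) (.leaf 3261))) (.node (.node (.leaf 285) (.leaf 598)) (.node (.leaf 197) (.leaf 206))))) (.node (.node (.node (.node (.leaf 428) (.leaf 3592)) (.node (.leaf 2053) (.leaf 1995))) (.node (.node (.leaf 2071) (.leaf 2701)) (.node (.leaf 3904) (.leaf 1217)))) (.node (.node (.node (.leaf 396) (.leaf 1136)) (.node (.leaf 1216) (.leaf 2193))) (.node (.node (.leaf 215) (.leaf 1652)) (.node (.leaf 2542) (.leaf 556))))))))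

def twoOrd4 : Janko.Tree (ℕ) :=
  (.node (.node (.node (.node (.node (.node (.node (.leaf 286) (.leaf 3596)) (.node (.leaf 2990) (.leaf 1284))) (.node (.node (.leaf 2477) (.leaf 3379)) (.node (.leaf 518) (.leaf 3597)))) (.node (.node (.node (.leaf 281) (.leaf 2870)) (.node (.leaf 2239) (.leaf 3129))) (.node (.node (.leaf 504) (.leaf 3438)) (.node (.leaf 2404) (.leaf 2657))))) (.node (.node (.node (.node (.leaf 1540) (.leaf 2800)) (.node (.leaf 126) (.leaf 2357))) (.node (.node (.leaf 3161) (.leaf 3458)) (.node (.leaf 3756) (.leaf 647)))) (.node (.node (.node (.leaf 3045) (.leaf 603)) (.node (.leaf 2831) (.leaf 1536))) (.node (.node (.leaf 1198) (.leaf 1926)) (.node (.leaf 1962) (.leaf 3359)))))) (.node (.node (.node (.node (.node (.leaf 1371) (.leaf 224)) (.node (.leaf 942) (.leaf 502))) (.node (.node (.leaf 2993) (.leaf 1326)) (.node (.leaf 3273) (.leaf 514)))) (.node (.node (.node (.leaf 3305) (.leaf 2659)) (.node (.leaf 1297) (.leaf 2947))) (.node (.node (.leaf 1782) (.leaf 3557)) (.node (.leaf 1403) (.leaf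 302))))) (.node (.node (.node (.node (.leaf 3759) (.leaf 1410)) (.node (.leaf 2406) (.leaf 1960))) (.node (.node (.leaf 464) (.leaf 3042)) (.node (.leaf 2624) (.leaf 3073)))) (.node (.node (.node (.leaf 2997) (.leaf 881)) (.node (.leaf 3173) (.leaf 2450))) (.node (.node (.leaf 1687) (.leaf 1967)) (.node (.leaf 1035) (.leaf 315))))))) (.node (.node (.node (.node (.node (.node (.leaf 2944) (.leaf 3099)) (.node (.leaf 1902) (.leaf 548))) (.node (.node (.leaf 3857) (.leaf 1581)) (.node (.leaf 160) (.leaf 228)))) (.node (.node (.node (.leaf 3884) (.leaf 913)) (.node (.leaf 474) (.leaf 56))) (.node (.node (.leaf 2785) (.leaf 2234)) (.node (.leaf 1600) (.leaf 2448))))) (.node (.node (.node (.node (.leaf 3993) (.leaf 2439)) (.node (.leaf 2001) (.leaf 445))) (.node (.node (.leaf 812) (.leaf 109)) (.node (.leaf 138) (.leaf 3354)))) (.node (.node (.node (.leaf 310) (.leaf 1196)) (.node (.leaf 2546) (.leaf 2897))) (.node (.node (.leaf 908) (.leaf 1295)) (.node (.leaf 2808) (.leaf 3309)))))) (.node (.node (.node (.node (.node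 (.leaf 2102) (.leaf 720)) (.node (.leaf 95) (.leaf 3350))) (.node (.node (.leaf 3864) (.leaf 2226)) (.node (.leaf 2318) (.leaf 1794)))) (.node (.node (.node (.leaf 2995) (.leaf 184)) (.node (.leaf 2275) (.leaf 2970))) (.node (.node (.leaf 1121) (.leaf 3808)) (.node (.leaf 780) (.leaf 399))))) (.node (.node (.node (.node (.leaf 831) (.leaf 265)) (.node (.leaf 3498) (.leaf 823))) (.node (.node (.leaf 1173) (.leaf 1286)) (.node (.leaf 2136) (.leaf 3708)))) (.node (.node (.node (.leaf 85) (.leaf 1429)) (.node (.leaf 2664) (.leaf 2986))) (.node (.node (.leaf 393) (.leaf 1453)) (.node (.leaf 3009) (.leaf 866))))))))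

def twoOrd5 : Janko.Tree (ℕ) :=
  (.node (.node (.node (.node (.node (.node (.node (.leaf 2850) (.leaf 3219)) (.node (.leaf 3790) (.leaf 2549))) (.node (.node (.leaf 3583) (.leaf 3627)) (.node (.leaf 3474) (.leaf 3462)))) (.node (.node (.node (.leaf 397) (.leaf 640)) (.node (.leaf 1840) (.leaf 3952))) (.node (.node (.leaf 1820) (.leaf 2727)) (.node (.leaf 3287) (.leaf 4022))))) (.node (.node (.node (.node (.leaf 1349) (.leaf 694)) (.node (.leaf 497) (.leaf 3714))) (.node (.node (.leaf 1946) (.leaf 667)) (.node (.leaf 3761) (.leaf 2106)))) (.node (.node (.node (.leaf 1225) (.leaf 2647)) (.node (.leaf 4087) (.leaf 685))) (.node (.node (.leaf 3385) (.leaf 644)) (.node (.leaf 1784) (.leaf 1009)))))) (.node (.node (.node (.node (.node (.leaf 2699) (.leaf 3302)) (.node (.leaf 750) (.leaf 280))) (.node (.node (.leaf 712) (.leaf 3056)) (.node (.leaf 3170) (.leaf 201)))) (.node (.node (.node (.leaf 2364) (.leaf 2338)) (.node (.leaf 3008) (.leaf 2202))) (.node (.node (.leaf 2460) (.leaf 441)) (.node (.leaf 2390) (.leaf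 565))))) (.node (.node (.node (.node (.leaf 3713) (.leaf 2060)) (.node (.leaf 572) (.leaf 1334))) (.node (.node (.leaf 3648) (.leaf 2122)) (.node (.leaf 661) (.leaf 2138)))) (.node (.node (.node (.leaf 2266) (.leaf 1731)) (.node (.leaf 2868) (.leaf 4071))) (.node (.node (.leaf 2621) (.leaf 3775)) (.node (.leaf 1082) (.leaf 1575))))))) (.node (.node (.node (.node (.node (.node (.leaf 3205) (.leaf 1446)) (.node (.leaf 229) (.leaf 3916))) (.node (.node (.leaf 1826) (.leaf 757)) (.node (.leaf 841) (.leaf 1179)))) (.node (.node (.node (.leaf 3417) (.leaf 1151)) (.node (.leaf 3076) (.leaf 1276))) (.node (.node (.leaf 294) (.leaf 1514)) (.node (.leaf 1328) (.leaf 3529))))) (.node (.node (.node (.node (.leaf 3279) (.leaf 1872)) (.node (.leaf 4029) (.leaf 2832))) (.node (.node (.leaf 3772) (.leaf 1589)) (.node (.leaf 2247) (.leaf 2744)))) (.node (.node (.node (.leaf 580) (.leaf 3207)) (.node (.leaf 2775) (.leaf 8))) (.node (.node (.leaf 1765) (.leaf 444)) (.node (.leaf 36) (.leaf 3228)))))) (.node (.node (.node (.node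 (.node (.leaf 3612) (.leaf 1441)) (.node (.leaf 1833) (.leaf 3140))) (.node (.node (.leaf 2872) (.leaf 3982)) (.node (.leaf 3048) (.leaf 3245)))) (.node (.node (.node (.leaf 1892) (.leaf 116)) (.node (.leaf 3331) (.leaf 3700))) (.node (.node (.leaf 3562) (.leaf 3368)) (.node (.leaf 2940) (.leaf 1070))))) (.node (.node (.node (.node (.leaf 560) (.leaf 1549)) (.node (.leaf 2702) (.leaf 3456))) (.node (.node (.leaf 3883) (.leaf 92)) (.node (.leaf 1047) (.leaf 2468)))) (.node (.node (.node (.leaf 594) (.leaf 196)) (.node (.leaf 1492) (.leaf 3951))) (.node (.node (.leaf 1497) (.leaf 3998)) (.node (.leaf 337) (.leaf 3673))))))))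

def twoOrd6 : Janko.Tree (ℕ) :=
  (.node (.node (.node (.node (.node (.node (.node (.leaf 3889) (.leaf 2134)) (.node (.leaf 3145) (.leaf 123))) (.node (.node (.leaf 1085) (.leaf 2925)) (.node (.leaf 654) (.leaf 162)))) (.node (.node (.node (.leaf 3377) (.leaf 1399)) (.node (.leaf 1672) (.leaf 147))) (.node (.node (.leaf 3637) (.leaf 3246)) (.node (.leaf 3579) (.leaf 1380))))) (.node (.node (.node (.node (.leaf 361) (.leaf 1712)) (.node (.leaf 2666) (.leaf 3479))) (.node (.node (.leaf 857) (.leaf 1272)) (.node (.leaf 3845) (.leaf 3213)))) (.node (.node (.node (.leaf 413) (.leaf 2407)) (.node (.leaf 257) (.leaf 2899))) (.node (.node (.leaf 2740) (.leaf 1632)) (.node (.leaf 3812) (.leaf 2697)))))) (.node (.node (.node (.node (.node (.leaf 2507) (.leaf 2161)) (.node (.leaf 1862) (.leaf 771))) (.node (.node (.leaf 1257) (.leaf 2465)) (.node (.leaf 1338) (.leaf 53)))) (.node (.node (.node (.leaf 3702) (.leaf 1921)) (.node (.leaf 3452) (.leaf 3276))) (.node (.node (.leaf 1226) (.leaf 4031)) (.node (.leaf 1412) (.leaf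 1664))))) (.node (.node (.node (.node (.leaf 2255) (.leaf 3218)) (.node (.leaf 3057) (.leaf 130))) (.node (.node (.leaf 3653) (.leaf 167)) (.node (.leaf 3900) (.leaf 2191)))) (.node (.node (.node (.leaf 1398) (.leaf 3988)) (.node (.leaf 663) (.leaf 1423))) (.node (.node (.leaf 2229) (.leaf 3082)) (.node (.leaf 1176) (.leaf 3015))))))) (.node (.node (.node (.node (.node (.node (.leaf 1066) (.leaf 796)) (.node (.leaf 1288) (.leaf 351))) (.node (.node (.leaf 360) (.leaf 2581)) (.node (.leaf 698) (.leaf 296)))) (.node (.node (.node (.leaf 3155) (.leaf 2230)) (.node (.leaf 1719) (.leaf 3470))) (.node (.node (.leaf 1859) (.leaf 666)) (.node (.leaf 1013) (.leaf 2387))))) (.node (.node (.node (.node (.leaf 3389) (.leaf 2490)) (.node (.leaf 1277) (.leaf 1296))) (.node (.node (.leaf 3118) (.leaf 675)) (.node (.leaf 3829) (.leaf 3565)))) (.node (.node (.node (.leaf 3137) (.leaf 2303)) (.node (.leaf 2574) (.leaf 2342))) (.node (.node (.leaf 979) (.leaf 1838)) (.node (.leaf 1950) (.leaf 3355)))))) (.node (.node (.node (.node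 (.node (.leaf 3955) (.leaf 799)) (.node (.leaf 2946) (.leaf 3425))) (.node (.node (.leaf 1386) (.leaf 307)) (.node (.leaf 3430) (.leaf 476)))) (.node (.node (.node (.leaf 320) (.leaf 3760)) (.node (.leaf 4018) (.leaf 2155))) (.node (.node (.leaf 2652) (.leaf 1868)) (.node (.leaf 1146) (.leaf 3168))))) (.node (.node (.node (.node (.leaf 2979) (.leaf 2834)) (.node (.leaf 1381) (.leaf 528))) (.node (.node (.leaf 4010) (.leaf 39)) (.node (.leaf 3445) (.leaf 3093)))) (.node (.node (.node (.leaf 989) (.leaf 2645)) (.node (.leaf 1906) (.leaf 1822))) (.node (.node (.leaf 261) (.leaf 532)) (.node (.leaf 3437) (.leaf 966))))))))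

def twoOrd7 : Janko.Tree (ℕ) :=
  (.node (.node (.node (.node (.node (.node (.node (.leaf 3875) (.leaf 2362)) (.node (.leaf 412) (.leaf 1951))) (.node (.node (.leaf 2288) (.leaf 691)) (.node (.leaf 3935) (.leaf 1615)))) (.node (.node (.node (.leaf 67) (.leaf 1506)) (.node (.leaf 1122) (.leaf 958))) (.node (.node (.leaf 3964) (.leaf 2929)) (.node (.leaf 937) (.leaf 2099))))) (.node (.node (.node (.node (.leaf 2182) (.leaf 402)) (.node (.leaf 390) (.leaf 2721))) (.node (.node (.leaf 2095) (.leaf 3538)) (.node (.leaf 1707) (.leaf 1513)))) (.node (.node (.node (.leaf 353) (.leaf 3868)) (.node (.leaf 3690) (.leaf 1114))) (.node (.node (.leaf 4053) (.leaf 1925)) (.node (.leaf 641) (.leaf 1705)))))) (.node (.node (.node (.node (.node (.leaf 3142) (.leaf 1318)) (.node (.leaf 23) (.leaf 1502))) (.node (.node (.leaf 1985) (.leaf 3422)) (.node (.leaf 2292) (.leaf 803)))) (.node (.node (.node (.leaf 3510) (.leaf 3441)) (.node (.leaf 446) (.leaf 3146))) (.node (.node (.leaf 3069) (.leaf 2073)) (.node (.leaf 3493) (.leaf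 122))))) (.node (.node (.node (.node (.leaf 3020) (.leaf 3550)) (.node (.leaf 3484) (.leaf 2157))) (.node (.node (.leaf 3737) (.leaf 2423)) (.node (.leaf 3083) (.leaf 2076)))) (.node (.node (.node (.leaf 3860) (.leaf 3322)) (.node (.leaf 2819) (.leaf 3259))) (.node (.node (.leaf 902) (.leaf 2604)) (.node (.leaf 2163) (.leaf 785))))))) (.node (.node (.node (.node (.node (.node (.leaf 1939) (.leaf 2494)) (.node (.leaf 526) (.leaf 3184))) (.node (.node (.leaf 3768) (.leaf 2783)) (.node (.leaf 41) (.leaf 2670)))) (.node (.node (.node (.leaf 347) (.leaf 1468)) (.node (.leaf 2025) (.leaf 3801))) (.node (.node (.leaf 2487) (.leaf 1332)) (.node (.leaf 1983) (.leaf 1897))))) (.node (.node (.node (.node (.leaf 1215) (.leaf 656)) (.node (.leaf 3634) (.leaf 3870))) (.node (.node (.leaf 2866) (.leaf 2156)) (.node (.leaf 4079) (.leaf 3139)))) (.node (.node (.node (.leaf 1259) (.leaf 4003)) (.node (.leaf 1168) (.leaf 1831))) (.node (.node (.leaf 3066) (.leaf 1361)) (.node (.leaf 249) (.leaf 2333)))))) (.node (.node (.node (.node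 (.node (.leaf 1157) (.leaf 102)) (.node (.leaf 1954) (.leaf 2802))) (.node (.node (.leaf 1129) (.leaf 1656)) (.node (.leaf 1874) (.leaf 1043)))) (.node (.node (.node (.leaf 3569) (.leaf 1990)) (.node (.leaf 1323) (.leaf 1524))) (.node (.node (.leaf 1143) (.leaf 1911)) (.node (.leaf 3839) (.leaf 2965))))) (.node (.node (.node (.node (.leaf 1512) (.leaf 3050)) (.node (.leaf 1117) (.leaf 2628))) (.node (.node (.leaf 1094) (.leaf 2726)) (.node (.leaf 3089) (.leaf 3906)))) (.node (.node (.node (.leaf 1346) (.leaf 140)) (.node (.leaf 1583) (.leaf 767))) (.node (.node (.leaf 200) (.leaf 3689)) (.node (.leaf 1909) (.leaf 154))))))))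

def twoOrd8 : Janko.Tree (ℕ) :=
  (.node (.node (.node (.node (.node (.node (.node (.leaf 1599) (.leaf 1614)) (.node (.leaf 1785) (.leaf 37))) (.node (.node (.leaf 3711) (.leaf 1993)) (.node (.leaf 2865) (.leaf 3362)))) (.node (.node (.node (.leaf 3874) (.leaf 571)) (.node (.leaf 1466) (.leaf 3716))) (.node (.node (.leaf 3821) (.leaf 3281)) (.node (.leaf 3503) (.leaf 3865))))) (.node (.node (.node (.node (.leaf 1460) (.leaf 3394)) (.node (.leaf 145) (.leaf 3969))) (.node (.node (.leaf 2346) (.leaf 470)) (.node (.leaf 1161) (.leaf 2315)))) (.node (.node (.node (.leaf 1679) (.leaf 2442)) (.node (.leaf 2170) (.leaf 2857))) (.node (.node (.leaf 1605) (.leaf 782)) (.node (.leaf 2395) (.leaf 2835)))))) (.node (.node (.node (.node (.node (.leaf 3919) (.leaf 2686)) (.node (.leaf 2723) (.leaf 15))) (.node (.node (.leaf 3813) (.leaf 1116)) (.node (.leaf 1345) (.leaf 1817)))) (.node (.node (.node (.leaf 3116) (.leaf 3016)) (.node (.leaf 1517) (.leaf 1738))) (.node (.node (.leaf 540) (.leaf 1739)) (.node (.leaf 736) (.leaf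 1442))))) (.node (.node (.node (.node (.leaf 2569) (.leaf 3288)) (.node (.leaf 693) (.leaf 2620))) (.node (.node (.leaf 1610) (.leaf 3963)) (.node (.leaf 457) (.leaf 948)))) (.node (.node (.node (.leaf 1626) (.leaf 480)) (.node (.leaf 3927) (.leaf 1898))) (.node (.node (.leaf 3905) (.leaf 2568)) (.node (.leaf 2115) (.leaf 2790))))))) (.node (.node (.node (.node (.node (.node (.leaf 3450) (.leaf 876)) (.node (.leaf 3371) (.leaf 1108))) (.node (.node (.leaf 1675) (.leaf 38)) (.node (.leaf 2462) (.leaf 1203)))) (.node (.node (.node (.leaf 3177) (.leaf 1095)) (.node (.leaf 3098) (.leaf 3979))) (.node (.node (.leaf 689) (.leaf 833)) (.node (.leaf 3754) (.leaf 886))))) (.node (.node (.node (.node (.leaf 4044) (.leaf 2982)) (.node (.leaf 2298) (.leaf 2002))) (.node (.node (.leaf 1266) (.leaf 3749)) (.node (.leaf 724) (.leaf 1452)))) (.node (.node (.node (.leaf 1929) (.leaf 2693)) (.node (.leaf 1558) (.leaf 1590))) (.node (.node (.leaf 711) (.leaf 207)) (.node (.leaf 568) (.leaf 1743)))))) (.node (.node (.node (.node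 (.node (.leaf 3381) (.leaf 2945)) (.node (.leaf 3334) (.leaf 2562))) (.node (.node (.leaf 1856) (.leaf 1037)) (.node (.leaf 3891) (.leaf 3163)))) (.node (.node (.node (.leaf 674) (.leaf 4041)) (.node (.leaf 3750) (.leaf 576))) (.node (.node (.leaf 2849) (.leaf 3439)) (.node (.leaf 3997) (.leaf 1837))))) (.node (.node (.node (.node (.leaf 423) (.leaf 2976)) (.node (.leaf 1764) (.leaf 1440))) (.node (.node (.leaf 1028) (.leaf 3419)) (.node (.leaf 910) (.leaf 3467)))) (.node (.node (.node (.leaf 1846) (.leaf 3251)) (.node (.leaf 3112) (.leaf 374))) (.node (.node (.leaf 1139) (.leaf 1314)) (.node (.leaf 3254) (.leaf 2920))))))))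

def twoOrd9 : Janko.Tree (ℕ) :=
  (.node (.node (.node (.node (.node (.node (.node (.leaf 3384) (.leaf 4001)) (.node (.leaf 1748) (.leaf 516))) (.node (.node (.leaf 498) (.leaf 4074)) (.node (.leaf 2934) (.leaf 1777)))) (.node (.node (.node (.leaf 442) (.leaf 1059)) (.node (.leaf 3121) (.leaf 223))) (.node (.node (.leaf 169) (.leaf 3310)) (.node (.leaf 2350) (.leaf 2518))))) (.node (.node (.node (.node (.leaf 1729) (.leaf 535)) (.node (.leaf 1834) (.leaf 3625))) (.node (.node (.leaf 2096) (.leaf 3851)) (.node (.leaf 3651) (.leaf 2871)))) (.node (.node (.node (.leaf 1115) (.leaf 1242)) (.node (.leaf 1306) (.leaf 2598))) (.node (.node (.leaf 2328) (.leaf 1572)) (.node (.leaf 434) (.leaf 2869)))))) (.node (.node (.node (.node (.node (.leaf 1715) (.leaf 602)) (.node (.leaf 2372) (.leaf 1588))) (.node (.node (.leaf 3522) (.leaf 545)) (.node (.leaf 236) (.leaf 1887)))) (.node (.node (.node (.leaf 2187) (.leaf 2393)) (.node (.leaf 2967) (.leaf 96))) (.node (.node (.leaf 1369) (.leaf 3120)) (.node (.leaf 2782) (.leaf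 2345))))) (.node (.node (.node (.node (.leaf 2532) (.leaf 1702)) (.node (.leaf 3619) (.leaf 209))) (.node (.node (.leaf 1385) (.leaf 972)) (.node (.leaf 3663) (.leaf 555)))) (.node (.node (.node (.leaf 3552) (.leaf 3295)) (.node (.leaf 3460) (.leaf 2772))) (.node (.node (.leaf 1003) (.leaf 2479)) (.node (.leaf 1847) (.leaf 1393))))))) (.node (.node (.node (.node (.node (.node (.leaf 3210) (.leaf 2220)) (.node (.leaf 1551) (.leaf 3780))) (.node (.node (.leaf 2186) (.leaf 74)) (.node (.leaf 1331) (.leaf 3277)))) (.node (.node (.node (.leaf 3928) (.leaf 1049)) (.node (.leaf 3896) (.leaf 366))) (.node (.node (.leaf 1449) (.leaf 47)) (.node (.leaf 3602) (.leaf 3546))))) (.node (.node (.node (.node (.leaf 1454) (.leaf 3682)) (.node (.leaf 2304) (.leaf 650))) (.node (.node (.leaf 3171) (.leaf 3034)) (.node (.leaf 1552) (.leaf 3418)))) (.node (.node (.node (.leaf 2425) (.leaf 2751)) (.node (.leaf 2069) (.leaf 3540))) (.node (.node (.leaf 3957) (.leaf 2714)) (.node (.leaf 3885) (.leaf 3501)))))) (.node (.node (.node (.node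 (.node (.leaf 3002) (.leaf 2859)) (.node (.leaf 17) (.leaf 465))) (.node (.node (.leaf 756) (.leaf 3152)) (.node (.leaf 1928) (.leaf 2332)))) (.node (.node (.node (.leaf 3505) (.leaf 2728)) (.node (.leaf 3994) (.leaf 3005))) (.node (.node (.leaf 2514) (.leaf 3433)) (.node (.leaf 2877) (.leaf 3367))))) (.node (.node (.node (.node (.leaf 3514) (.leaf 2496)) (.node (.leaf 1827) (.leaf 120))) (.node (.node (.leaf 2770) (.leaf 612)) (.node (.leaf 1378) (.leaf 468)))) (.node (.node (.node (.leaf 25) (.leaf 2015)) (.node (.leaf 273) (.leaf 3733))) (.node (.node (.leaf 2843) (.leaf 2683)) (.node (.leaf 1246) (.leaf 2528))))))))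

def twoOrd10 : Janko.Tree (ℕ) :=
  (.node (.node (.node (.node (.node (.node (.node (.leaf 808) (.leaf 1231)) (.node (.leaf 376) (.leaf 3463))) (.node (.node (.leaf 754) (.leaf 4094)) (.node (.leaf 1283) (.leaf 3040)))) (.node (.node (.node (.leaf 1293) (.leaf 1438)) (.node (.leaf 2952) (.leaf 2545))) (.node (.node (.leaf 1879) (.leaf 2087)) (.node (.leaf 2056) (.leaf 3011))))) (.node (.node (.node (.node (.leaf 496) (.leaf 964)) (.node (.leaf 956) (.leaf 3434))) (.node (.node (.leaf 387) (.leaf 676)) (.node (.leaf 2242) (.leaf 2265)))) (.node (.node (.node (.leaf 170) (.leaf 225)) (.node (.leaf 827) (.leaf 2815))) (.node (.node (.leaf 3743) (.leaf 1184)) (.node (.leaf 3710) (.leaf 1521)))))) (.node (.node (.node (.node (.node (.leaf 2692) (.leaf 2264)) (.node (.leaf 3674) (.leaf 3636))) (.node (.node (.leaf 1880) (.leaf 2631)) (.node (.leaf 591) (.leaf 3337)))) (.node (.node (.node (.leaf 3232) (.leaf 2092)) (.node (.leaf 1612) (.leaf 316))) (.node (.node (.leaf 3551) (.leaf 553)) (.node (.leaf 1781) (.leaf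 328))))) (.node (.node (.node (.node (.leaf 3378) (.leaf 4027)) (.node (.leaf 3393) (.leaf 1362))) (.node (.node (.leaf 3903) (.leaf 503)) (.node (.leaf 4093) (.leaf 2447)))) (.node (.node (.node (.leaf 1321) (.leaf 1038)) (.node (.leaf 4054) (.leaf 3229))) (.node (.node (.leaf 1239) (.leaf 3053)) (.node (.leaf 2329) (.leaf 3431))))))) (.node (.node (.node (.node (.node (.node (.leaf 1649) (.leaf 317)) (.node (.leaf 97) (.leaf 3858))) (.node (.node (.leaf 3231) (.leaf 1480)) (.node (.leaf 959) (.leaf 1971)))) (.node (.node (.node (.leaf 678) (.leaf 1842)) (.node (.leaf 1092) (.leaf 1405))) (.node (.node (.leaf 128) (.leaf 2811)) (.node (.leaf 1252) (.leaf 970))))) (.node (.node (.node (.node (.leaf 3770) (.leaf 1698)) (.node (.leaf 1796) (.leaf 3536))) (.node (.node (.leaf 237) (.leaf 2838)) (.node (.leaf 1055) (.leaf 141)))) (.node (.node (.node (.leaf 2228) (.leaf 3815)) (.node (.leaf 1637) (.leaf 3369))) (.node (.node (.leaf 54) (.leaf 70)) (.node (.leaf 665) (.leaf 1795)))))) (.node (.node (.node (.node (.node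 (.leaf 4059) (.leaf 2216)) (.node (.leaf 1659) (.leaf 3518))) (.node (.node (.leaf 1688) (.leaf 2576)) (.node (.leaf 3876) (.leaf 2140)))) (.node (.node (.node (.leaf 967) (.leaf 3897)) (.node (.leaf 944) (.leaf 2500))) (.node (.node (.leaf 3046) (.leaf 1177)) (.node (.leaf 1152) (.leaf 2235))))) (.node (.node (.node (.node (.leaf 574) (.leaf 1302)) (.node (.leaf 2640) (.leaf 2251))) (.node (.node (.leaf 344) (.leaf 668)) (.node (.leaf 2511) (.leaf 961)))) (.node (.node (.node (.leaf 203) (.leaf 1113)) (.node (.leaf 3699) (.leaf 3341))) (.node (.node (.leaf 2198) (.leaf 3135)) (.node (.leaf 3506) (.leaf 3187))))))))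

def twoOrd11 : Janko.Tree (ℕ) :=
  (.node (.node (.node (.node (.node (.node (.node (.leaf 3958) (.leaf 2445)) (.node (.leaf 1260) (.leaf 2172))) (.node (.node (.leaf 2417) (.leaf 2998)) (.node (.leaf 1192) (.leaf 2268)))) (.node (.node (.node (.leaf 204) (.leaf 2789)) (.node (.leaf 1487) (.leaf 2289))) (.node (.node (.leaf 1952) (.leaf 3934)) (.node (.leaf 1219) (.leaf 4008))))) (.node (.node (.node (.node (.leaf 696) (.leaf 3751)) (.node (.leaf 2614) (.leaf 643))) (.node (.node (.leaf 900) (.leaf 1530)) (.node (.leaf 813) (.leaf 1567)))) (.node (.node (.node (.leaf 3595) (.leaf 3195)) (.node (.leaf 501) (.leaf 311))) (.node (.node (.leaf 2908) (.leaf 1996)) (.node (.leaf 2410) (.leaf 3017)))))) (.node (.node (.node (.node (.node (.leaf 3667) (.leaf 3834)) (.node (.leaf 1073) (.leaf 636))) (.node (.node (.leaf 2022) (.leaf 1970)) (.node (.leaf 1869) (.leaf 1303)))) (.node (.node (.node (.leaf 3786) (.leaf 893)) (.node (.leaf 1907) (.leaf 3157))) (.node (.node (.leaf 4035) (.leaf 1413)) (.node (.leaf 2083) (.leaf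 721))))) (.node (.node (.node (.node (.leaf 2367) (.leaf 1780)) (.node (.leaf 1711) (.leaf 991))) (.node (.node (.leaf 4065) (.leaf 3886)) (.node (.leaf 3665) (.leaf 965)))) (.node (.node (.node (.leaf 2065) (.leaf 12)) (.node (.leaf 28) (.leaf 435))) (.node (.node (.leaf 467) (.leaf 815)) (.node (.leaf 2755) (.leaf 2252))))))) (.node (.node (.node (.node (.node (.node (.leaf 1657) (.leaf 3881)) (.node (.leaf 1358) (.leaf 3580))) (.node (.node (.leaf 1901) (.leaf 564)) (.node (.leaf 472) (.leaf 3938)))) (.node (.node (.node (.leaf 2650) (.leaf 78)) (.node (.leaf 949) (.leaf 3704))) (.node (.node (.leaf 240) (.leaf 3058)) (.node (.leaf 3734) (.leaf 1888))))) (.node (.node (.node (.node (.leaf 547) (.leaf 1166)) (.node (.leaf 489) (.leaf 1125))) (.node (.node (.leaf 1810) (.leaf 1538)) (.node (.leaf 1373) (.leaf 1651)))) (.node (.node (.node (.leaf 3029) (.leaf 2365)) (.node (.leaf 3211) (.leaf 2615))) (.node (.node (.leaf 4077) (.leaf 842)) (.node (.leaf 943) (.leaf 1255)))))) (.node (.node (.node (.node (.node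 (.leaf 3787) (.leaf 3299)) (.node (.leaf 2999) (.leaf 3107))) (.node (.node (.leaf 3541) (.leaf 3921)) (.node (.leaf 3204) (.leaf 2085)))) (.node (.node (.node (.leaf 380) (.leaf 3079)) (.node (.leaf 3742) (.leaf 1903))) (.node (.node (.leaf 687) (.leaf 2165)) (.node (.leaf 870) (.leaf 1294))))) (.node (.node (.node (.node (.leaf 1387) (.leaf 2377)) (.node (.leaf 2641) (.leaf 719))) (.node (.node (.leaf 2027) (.leaf 521)) (.node (.leaf 2691) (.leaf 4032)))) (.node (.node (.node (.leaf 752) (.leaf 2745)) (.node (.leaf 4023) (.leaf 1881))) (.node (.node (.leaf 1081) (.leaf 2942)) (.node (.leaf 1613) (.leaf 3528))))))))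

def twoOrd12 : Janko.Tree (ℕ) :=
  (.node (.node (.node (.node (.node (.node (.node (.leaf 1144) (.leaf 2912)) (.node (.leaf 829) (.leaf 327))) (.node (.node (.leaf 146) (.leaf 2314)) (.node (.leaf 448) (.leaf 1949)))) (.node (.node (.node (.leaf 1991) (.leaf 1351)) (.node (.leaf 3395) (.leaf 499))) (.node (.node (.leaf 3256) (.leaf 4024)) (.node (.leaf 1713) (.leaf 3077))))) (.node (.node (.node (.node (.leaf 1100) (.leaf 2504)) (.node (.leaf 1341) (.leaf 2747))) (.node (.node (.leaf 1779) (.leaf 336)) (.node (.leaf 825) (.leaf 3680)))) (.node (.node (.node (.leaf 510) (.leaf 940)) (.node (.leaf 3752) (.leaf 1594))) (.node (.node (.leaf 2556) (.leaf 1353)) (.node (.leaf 2181) (.leaf 2291)))))) (.node (.node (.node (.node (.node (.leaf 3104) (.leaf 764)) (.node (.leaf 1305) (.leaf 1818))) (.node (.node (.leaf 2192) (.leaf 3740)) (.node (.leaf 1189) (.leaf 64)))) (.node (.node (.node (.leaf 2595) (.leaf 3448)) (.node (.leaf 2237) (.leaf 3823))) (.node (.node (.leaf 2391) (.leaf 2381)) (.node (.leaf 1175) (.leaf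 1024))))) (.node (.node (.node (.node (.leaf 2436) (.leaf 2222)) (.node (.leaf 3571) (.leaf 175))) (.node (.node (.leaf 1418) (.leaf 79)) (.node (.leaf 3399) (.leaf 3527)))) (.node (.node (.node (.leaf 690) (.leaf 2627)) (.node (.leaf 1527) (.leaf 680))) (.node (.node (.leaf 1107) (.leaf 3899)) (.node (.leaf 1477) (.leaf 875))))))) (.node (.node (.node (.node (.node (.node (.leaf 1885) (.leaf 3436)) (.node (.leaf 2036) (.leaf 1953))) (.node (.node (.leaf 985) (.leaf 91)) (.node (.leaf 828) (.leaf 72)))) (.node (.node (.node (.leaf 3635) (.leaf 2422)) (.node (.leaf 2098) (.leaf 2457))) (.node (.node (.leaf 1434) (.leaf 648)) (.node (.leaf 969) (.leaf 3117))))) (.node (.node (.node (.node (.leaf 2749) (.leaf 1520)) (.node (.leaf 729) (.leaf 4078))) (.node (.node (.leaf 417) (.leaf 3167)) (.node (.leaf 2029) (.leaf 2011)))) (.node (.node (.node (.leaf 1580) (.leaf 1867)) (.node (.leaf 187) (.leaf 1088))) (.node (.node (.leaf 1046) (.leaf 2978)) (.node (.leaf 3855) (.leaf 3624)))))) (.node (.node (.node (.node (.node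 (.leaf 1621) (.leaf 10)) (.node (.leaf 352) (.leaf 3088))) (.node (.node (.leaf 2602) (.leaf 569)) (.node (.leaf 1915) (.leaf 3100)))) (.node (.node (.node (.leaf 2597) (.leaf 2273)) (.node (.leaf 250) (.leaf 3729))) (.node (.node (.leaf 1279) (.leaf 1964)) (.node (.leaf 2293) (.leaf 1233))))) (.node (.node (.node (.node (.leaf 1773) (.leaf 2482)) (.node (.leaf 3319) (.leaf 1663))) (.node (.node (.leaf 188) (.leaf 2119)) (.node (.leaf 2660) (.leaf 433)))) (.node (.node (.node (.leaf 519) (.leaf 149)) (.node (.leaf 3807) (.leaf 2259))) (.node (.node (.leaf 7) (.leaf 1154)) (.node (.leaf 2093) (.leaf 2070))))))))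

def twoOrd13 : Janko.Tree (ℕ) :=
  (.node (.node (.node (.node (.node (.node (.node (.leaf 1202) (.leaf 2188)) (.node (.leaf 42) (.leaf 927))) (.node (.node (.leaf 3269) (.leaf 3956)) (.node (.leaf 515) (.leaf 2913)))) (.node (.node (.node (.leaf 3366) (.leaf 388)) (.node (.leaf 2429) (.leaf 212))) (.node (.node (.leaf 973) (.leaf 906)) (.node (.leaf 2146) (.leaf 3739))))) (.node (.node (.node (.node (.leaf 350) (.leaf 3559)) (.node (.leaf 804) (.leaf 2533))) (.node (.node (.leaf 2055) (.leaf 363)) (.node (.leaf 3706) (.leaf 2778)))) (.node (.node (.node (.leaf 2174) (.leaf 4014)) (.node (.leaf 4068) (.leaf 2538))) (.node (.node (.leaf 3293) (.leaf 2928)) (.node (.leaf 3468) (.leaf 266)))))) (.node (.node (.node (.node (.node (.leaf 3408) (.leaf 3862)) (.node (.leaf 3224) (.leaf 738))) (.node (.node (.leaf 2985) (.leaf 3643)) (.node (.leaf 1104) (.leaf 987)))) (.node (.node (.node (.leaf 3978) (.leaf 1397)) (.node (.leaf 3453) (.leaf 2344))) (.node (.node (.leaf 3779) (.leaf 3238)) (.node (.leaf 3830) (.leaf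 385))))) (.node (.node (.node (.node (.leaf 2848) (.leaf 2623)) (.node (.leaf 2078) (.leaf 3336))) (.node (.node (.leaf 3290) (.leaf 3719)) (.node (.leaf 699) (.leaf 3945)))) (.node (.node (.node (.leaf 2209) (.leaf 2032)) (.node (.leaf 59) (.leaf 1256))) (.node (.node (.leaf 1670) (.leaf 3062)) (.node (.leaf 3679) (.leaf 1445))))))) (.node (.node (.node (.node (.node (.node (.leaf 198) (.leaf 3844)) (.node (.leaf 3543) (.leaf 2301))) (.node (.node (.leaf 3915) (.leaf 3485)) (.node (.leaf 1730) (.leaf 3427)))) (.node (.node (.node (.leaf 2523) (.leaf 1722)) (.node (.leaf 3202) (.leaf 980))) (.node (.node (.leaf 1975) (.leaf 1529)) (.node (.leaf 1896) (.leaf 2167))))) (.node (.node (.node (.node (.leaf 2320) (.leaf 3736)) (.node (.leaf 4038) (.leaf 1182))) (.node (.node (.leaf 2824) (.leaf 2446)) (.node (.leaf 1723) (.leaf 2244)))) (.node (.node (.node (.leaf 3154) (.leaf 1229)) (.node (.leaf 3723) (.leaf 3675))) (.node (.node (.leaf 1640) (.leaf 234)) (.node (.leaf 30) (.leaf 2383)))))) (.node (.node (.node (.node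 (.node (.leaf 2738) (.leaf 1591)) (.node (.leaf 2731) (.leaf 432))) (.node (.node (.leaf 1281) (.leaf 702)) (.node (.leaf 2879) (.leaf 4090)))) (.node (.node (.node (.leaf 177) (.leaf 923)) (.node (.leaf 853) (.leaf 660))) (.node (.node (.leaf 2003) (.leaf 1083)) (.node (.leaf 1650) (.leaf 443))))) (.node (.node (.node (.node (.leaf 3748) (.leaf 2295)) (.node (.leaf 3227) (.leaf 3013))) (.node (.node (.leaf 1683) (.leaf 1372)) (.node (.leaf 3021) (.leaf 1976)))) (.node (.node (.node (.leaf 585) (.leaf 3824)) (.node (.leaf 788) (.leaf 3765))) (.node (.node (.leaf 1068) (.leaf 2592)) (.node (.leaf 1912) (.leaf 1665))))))))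

def twoOrd14 : Janko.Tree (ℕ) :=
  (.node (.node (.node (.node (.node (.node (.node (.leaf 1450) (.leaf 1273)) (.node (.leaf 1803) (.leaf 746))) (.node (.node (.leaf 600) (.leaf 1628)) (.node (.leaf 202) (.leaf 34)))) (.node (.node (.node (.leaf 1396) (.leaf 2040)) (.node (.leaf 2924) (.leaf 1544))) (.node (.node (.leaf 3413) (.leaf 2629)) (.node (.leaf 2144) (.leaf 3004))))) (.node (.node (.node (.node (.leaf 14) (.leaf 253)) (.node (.leaf 747) (.leaf 1965))) (.node (.node (.leaf 3459) (.leaf 2618)) (.node (.leaf 2471) (.leaf 3348)))) (.node (.node (.node (.leaf 3853) (.leaf 3405)) (.node (.leaf 2642) (.leaf 802))) (.node (.node (.leaf 1982) (.leaf 3769)) (.node (.leaf 1400) (.leaf 2039)))))) (.node (.node (.node (.node (.node (.leaf 2325) (.leaf 3000)) (.node (.leaf 382) (.leaf 2805))) (.node (.node (.leaf 1089) (.leaf 3181)) (.node (.leaf 1546) (.leaf 1942)))) (.node (.node (.node (.leaf 1797) (.leaf 1783)) (.node (.leaf 1910) (.leaf 2153))) (.node (.node (.leaf 3718) (.leaf 1443)) (.node (.leaf 3605) (.leaf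 856))))) (.node (.node (.node (.node (.leaf 1505) (.leaf 2444)) (.node (.leaf 2207) (.leaf 1894))) (.node (.node (.leaf 3974) (.leaf 3398)) (.node (.leaf 1525) (.leaf 1751)))) (.node (.node (.node (.leaf 3482) (.leaf 2451)) (.node (.leaf 932) (.leaf 2677))) (.node (.node (.leaf 1232) (.leaf 1390)) (.node (.leaf 2883) (.leaf 2584))))))) (.node (.node (.node (.node (.node (.node (.leaf 2171) (.leaf 475)) (.node (.leaf 1105) (.leaf 16))) (.node (.node (.leaf 3183) (.leaf 1132)) (.node (.leaf 1889) (.leaf 3475)))) (.node (.node (.node (.leaf 734) (.leaf 4037)) (.node (.leaf 1005) (.leaf 3266))) (.node (.node (.leaf 1124) (.leaf 2779)) (.node (.leaf 3954) (.leaf 1264))))) (.node (.node (.node (.node (.leaf 3428) (.leaf 4092)) (.node (.leaf 3693) (.leaf 1516))) (.node (.node (.leaf 1694) (.leaf 1937)) (.node (.leaf 1376) (.leaf 431)))) (.node (.node (.node (.leaf 3922) (.leaf 3382)) (.node (.leaf 144) (.leaf 193))) (.node (.node (.leaf 2933) (.leaf 2571)) (.node (.leaf 1271) (.leaf 2643)))))) (.node (.node (.node (.node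 (.node (.leaf 3709) (.leaf 1457)) (.node (.leaf 2302) (.leaf 2566))) (.node (.node (.leaf 561) (.leaf 1044)) (.node (.leaf 784) (.leaf 3240)))) (.node (.node (.node (.leaf 1537) (.leaf 4073)) (.node (.leaf 3649) (.leaf 1155))) (.node (.node (.leaf 2661) (.leaf 806)) (.node (.leaf 1547) (.leaf 1871))))) (.node (.node (.node (.node (.leaf 2964) (.leaf 743)) (.node (.leaf 2739) (.leaf 2086))) (.node (.node (.leaf 731) (.leaf 3644)) (.node (.leaf 3959) (.leaf 2527)))) (.node (.node (.node (.leaf 1475) (.leaf 3888)) (.node (.leaf 2432) (.leaf 1753))) (.node (.node (.leaf 2213) (.leaf 4019)) (.node (.leaf 2354) (.leaf 2309))))))))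

def twoOrd15 : Janko.Tree (ℕ) :=
  (.node (.node (.node (.node (.node (.node (.node (.leaf 1197) (.leaf 3144)) (.node (.leaf 3530) (.leaf 3364))) (.node (.node (.leaf 1543) (.leaf 2590)) (.node (.leaf 395) (.leaf 2543)))) (.node (.node (.node (.leaf 2713) (.leaf 331)) (.node (.leaf 1422) (.leaf 2284))) (.node (.node (.leaf 1033) (.leaf 2636)) (.node (.leaf 2758) (.leaf 1914))))) (.node (.node (.node (.node (.leaf 839) (.leaf 554)) (.node (.leaf 20) (.leaf 2437))) (.node (.node (.leaf 3727) (.leaf 3415)) (.node (.leaf 2341) (.leaf 1320)))) (.node (.node (.node (.leaf 2663) (.leaf 1153)) (.node (.leaf 2319) (.leaf 1674))) (.node (.node (.leaf 2689) (.leaf 781)) (.node (.leaf 1015) (.leaf 3872)))))) (.node (.node (.node (.node (.node (.leaf 1221) (.leaf 1086)) (.node (.leaf 3338) (.leaf 1461))) (.node (.node (.leaf 373) (.leaf 511)) (.node (.leaf 213) (.leaf 113)))) (.node (.node (.node (.leaf 3681) (.leaf 1327)) (.node (.leaf 4075) (.leaf 951))) (.node (.node (.leaf 3547) (.leaf 1812)) (.node (.leaf 2123) (.leaf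 3578))))) (.node (.node (.node (.node (.leaf 283) (.leaf 2311)) (.node (.leaf 2786) (.leaf 1285))) (.node (.node (.leaf 3936) (.leaf 290)) (.node (.leaf 1864) (.leaf 3270)))) (.node (.node (.node (.leaf 2688) (.leaf 3532)) (.node (.leaf 1565) (.leaf 1829))) (.node (.node (.leaf 2047) (.leaf 3783)) (.node (.leaf 596) (.leaf 1021))))))) (.node (.node (.node (.node (.node (.node (.leaf 258) (.leaf 2353)) (.node (.leaf 607) (.leaf 2994))) (.node (.node (.leaf 3633) (.leaf 3542)) (.node (.leaf 3096) (.leaf 2667)))) (.node (.node (.node (.leaf 313) (.leaf 2028)) (.node (.leaf 3162) (.leaf 2189))) (.node (.node (.leaf 2996) (.leaf 2281)) (.node (.leaf 2336) (.leaf 3225))))) (.node (.node (.node (.node (.leaf 3209) (.leaf 3601)) (.node (.leaf 1268) (.leaf 262))) (.node (.node (.leaf 1750) (.leaf 2896)) (.node (.leaf 190) (.leaf 2361)))) (.node (.node (.node (.leaf 3) (.leaf 766)) (.node (.leaf 865) (.leaf 604))) (.node (.node (.leaf 1191) (.leaf 3298)) (.node (.leaf 1998) (.leaf 3258)))))) (.node (.node (.node (.node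 (.node (.leaf 2017) (.leaf 1940)) (.node (.leaf 2343) (.leaf 3488))) (.node (.node (.leaf 459) (.leaf 3280)) (.node (.leaf 821) (.leaf 950)))) (.node (.node (.node (.leaf 2553) (.leaf 3508)) (.node (.leaf 2826) (.leaf 3115))) (.node (.node (.leaf 2306) (.leaf 220)) (.node (.leaf 3701) (.leaf 2212))))) (.node (.node (.node (.node (.leaf 2080) (.leaf 1195)) (.node (.leaf 709) (.leaf 3869))) (.node (.node (.leaf 2960) (.leaf 2426)) (.node (.leaf 287) (.leaf 1421)))) (.node (.node (.node (.leaf 216) (.leaf 2050)) (.node (.leaf 626) (.leaf 506))) (.node (.node (.leaf 631) (.leaf 2261)) (.node (.leaf 2248) (.leaf 2456))))))))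

def twoOrd16 : Janko.Tree (ℕ) :=
  (.node (.node (.node (.node (.node (.node (.node (.leaf 1554) (.leaf 1747)) (.node (.leaf 1211) (.leaf 108))) (.node (.node (.leaf 1682) (.leaf 2359)) (.node (.leaf 686) (.leaf 874)))) (.node (.node (.node (.leaf 2715) (.leaf 1036)) (.node (.leaf 3365) (.leaf 2221))) (.node (.node (.leaf 2256) (.leaf 1213)) (.node (.leaf 2327) (.leaf 2573))))) (.node (.node (.node (.node (.leaf 2103) (.leaf 1019)) (.node (.leaf 3123) (.leaf 1010))) (.node (.node (.leaf 2049) (.leaf 3351)) (.node (.leaf 3721) (.leaf 2337)))) (.node (.node (.node (.leaf 2082) (.leaf 3676)) (.node (.leaf 3646) (.leaf 107))) (.node (.node (.leaf 3944) (.leaf 1508)) (.node (.leaf 2894) (.leaf 84)))))) (.node (.node (.node (.node (.node (.leaf 1737) (.leaf 3767)) (.node (.leaf 834) (.leaf 3143))) (.node (.node (.leaf 1767) (.leaf 1821)) (.node (.leaf 2105) (.leaf 2601)))) (.node (.node (.node (.leaf 2917) (.leaf 1467)) (.node (.leaf 282) (.leaf 2780))) (.node (.node (.leaf 2902) (.leaf 1533)) (.node (.leaf 1335)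 (.leaf 3512))))) (.node (.node (.node (.node (.leaf 3265) (.leaf 509)) (.node (.leaf 3234) (.leaf 1459))) (.node (.node (.leaf 577) (.leaf 1274)) (.node (.leaf 2788) (.leaf 1415)))) (.node (.node (.node (.leaf 1310) (.leaf 2128)) (.node (.leaf 708) (.leaf 2794))) (.node (.node (.leaf 3023) (.leaf 3983)) (.node (.leaf 1311) (.leaf 2875))))))) (.node (.node (.node (.node (.node (.node (.leaf 2219) (.leaf 986)) (.node (.leaf 2764) (.leaf 58))) (.node (.node (.leaf 3490) (.leaf 830)) (.node (.leaf 778) (.leaf 2880)))) (.node (.node (.node (.leaf 3292) (.leaf 1020)) (.node (.leaf 466) (.leaf 2413))) (.node (.node (.leaf 321) (.leaf 3687)) (.node (.leaf 400) (.leaf 1134))))) (.node (.node (.node (.node (.leaf 1077) (.leaf 1579)) (.node (.leaf 1340) (.leaf 2351))) (.node (.node (.leaf 1757) (.leaf 3027)) (.node (.leaf 3035) (.leaf 1448)))) (.node (.node (.node (.leaf 700) (.leaf 586)) (.node (.leaf 2185) (.leaf 2262))) (.node (.node (.leaf 1958) (.leaf 1018)) (.node (.leaf 1528) (.leaf 998)))))) (.node (.node (.node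 (.node (.node (.leaf 3762) (.leaf 2397)) (.node (.leaf 3660) (.leaf 2845))) (.node (.node (.leaf 1420) (.leaf 3947)) (.node (.leaf 1243) (.leaf 3568)))) (.node (.node (.node (.leaf 4005) (.leaf 447)) (.node (.leaf 1236) (.leaf 3715))) (.node (.node (.leaf 3819) (.leaf 3776)) (.node (.leaf 783) (.leaf 2828))))) (.node (.node (.node (.node (.leaf 449) (.leaf 1668)) (.node (.leaf 1336) (.leaf 1366))) (.node (.node (.leaf 2961) (.leaf 2431)) (.node (.leaf 3208) (.leaf 2206)))) (.node (.node (.node (.leaf 1142) (.leaf 3861)) (.node (.leaf 276) (.leaf 421))) (.node (.node (.leaf 326) (.leaf 3999)) (.node (.leaf 3722) (.leaf 471))))))))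

def twoOrd17 : Janko.Tree (ℕ) :=
  (.node (.node (.node (.node (.node (.node (.node (.leaf 2858) (.leaf 533)) (.node (.leaf 1735) (.leaf 2334))) (.node (.node (.leaf 1823) (.leaf 3487)) (.node (.leaf 3590) (.leaf 2382)))) (.node (.node (.node (.leaf 279) (.leaf 75)) (.node (.leaf 2493) (.leaf 3976))) (.node (.node (.leaf 2520) (.leaf 263)) (.node (.leaf 3325) (.leaf 2347))))) (.node (.node (.node (.node (.leaf 1220) (.leaf 2452)) (.node (.leaf 340) (.leaf 2938))) (.node (.node (.leaf 4040) (.leaf 3599)) (.node (.leaf 329) (.leaf 570)))) (.node (.node (.node (.leaf 3645) (.leaf 2467)) (.node (.leaf 2004) (.leaf 50))) (.node (.node (.leaf 2930) (.leaf 2795)) (.node (.leaf 3804) (.leaf 1313)))))) (.node (.node (.node (.node (.node (.leaf 2200) (.leaf 2443)) (.node (.leaf 260) (.leaf 2903))) (.node (.node (.leaf 3296) (.leaf 4034)) (.node (.leaf 611) (.leaf 2305)))) (.node (.node (.node (.leaf 3684) (.leaf 121)) (.node (.leaf 638) (.leaf 2396))) (.node (.node (.leaf 994) (.leaf 2536)) (.node (.leaf 210) (.leaf 3846)))))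 (.node (.node (.node (.node (.leaf 2768) (.leaf 2599)) (.node (.leaf 742) (.leaf 2137))) (.node (.node (.leaf 272) (.leaf 1616)) (.node (.leaf 129) (.leaf 2607)))) (.node (.node (.node (.leaf 2149) (.leaf 2090)) (.node (.leaf 1895) (.leaf 3158))) (.node (.node (.leaf 3960) (.leaf 1199)) (.node (.leaf 2124) (.leaf 1263))))))) (.node (.node (.node (.node (.node (.node (.leaf 2349) (.leaf 3755)) (.node (.leaf 2564) (.leaf 2818))) (.node (.node (.leaf 4088) (.leaf 2371)) (.node (.leaf 2567) (.leaf 1140)))) (.node (.node (.node (.leaf 2164) (.leaf 3249)) (.node (.leaf 2227) (.leaf 3656))) (.node (.node (.leaf 3799) (.leaf 2827)) (.node (.leaf 2023) (.leaf 3278))))) (.node (.node (.node (.node (.leaf 629) (.leaf 3012)) (.node (.leaf 3416) (.leaf 3650))) (.node (.node (.leaf 1379) (.leaf 426)) (.node (.leaf 2169) (.leaf 1065)))) (.node (.node (.node (.leaf 2502) (.leaf 753)) (.node (.leaf 1808) (.leaf 2483))) (.node (.node (.leaf 1704) (.leaf 1210)) (.node (.leaf 567) (.leaf 111)))))) (.node (.node (.node (.node (.node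 (.leaf 3585) (.leaf 2183)) (.node (.leaf 1164) (.leaf 31))) (.node (.node (.leaf 3092) (.leaf 3975)) (.node (.leaf 3253) (.leaf 2141)))) (.node (.node (.node (.leaf 1322) (.leaf 1811)) (.node (.leaf 3609) (.leaf 3106))) (.node (.node (.leaf 333) (.leaf 3683)) (.node (.leaf 2878) (.leaf 3223))))) (.node (.node (.node (.node (.leaf 1486) (.leaf 299)) (.node (.leaf 2537) (.leaf 997))) (.node (.node (.leaf 1238) (.leaf 3196)) (.node (.leaf 3757) (.leaf 3616)))) (.node (.node (.node (.leaf 1042) (.leaf 3203)) (.node (.leaf 86) (.leaf 749))) (.node (.node (.leaf 3149) (.leaf 3867)) (.node (.leaf 1245) (.leaf 1701))))))))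

def twoOrd18 : Janko.Tree (ℕ) :=
  (.node (.node (.node (.node (.node (.node (.node (.leaf 1110) (.leaf 3242)) (.node (.leaf 2765) (.leaf 416))) (.node (.node (.leaf 2299) (.leaf 2389)) (.node (.leaf 845) (.leaf 1655)))) (.node (.node (.node (.leaf 635) (.leaf 1863)) (.node (.leaf 810) (.leaf 707))) (.node (.node (.leaf 826) (.leaf 2042)) (.node (.leaf 1636) (.leaf 1240))))) (.node (.node (.node (.node (.leaf 2324) (.leaf 342)) (.node (.leaf 2428) (.leaf 3980))) (.node (.node (.leaf 3581) (.leaf 917)) (.node (.leaf 3789) (.leaf 3678)))) (.node (.node (.node (.leaf 3007) (.leaf 761)) (.node (.leaf 2331) (.leaf 2813))) (.node (.node (.leaf 3078) (.leaf 3477)) (.node (.leaf 1882) (.leaf 630)))))) (.node (.node (.node (.node (.node (.leaf 885) (.leaf 3308)) (.node (.leaf 2173) (.leaf 3788))) (.node (.node (.leaf 2766) (.leaf 1815)) (.node (.leaf 990) (.leaf 3567)))) (.node (.node (.node (.leaf 3190) (.leaf 77)) (.node (.leaf 2856) (.leaf 953))) (.node (.node (.leaf 1550) (.leaf 710)) (.node (.leaf 3838) (.leaf 3741)))))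 (.node (.node (.node (.node (.leaf 3526) (.leaf 301)) (.node (.leaf 2030) (.leaf 3939))) (.node (.node (.leaf 2044) (.leaf 4049)) (.node (.leaf 2853) (.leaf 1878)))) (.node (.node (.node (.leaf 3103) (.leaf 3574)) (.node (.leaf 479) (.leaf 3545))) (.node (.node (.leaf 3809) (.leaf 3451)) (.node (.leaf 2386) (.leaf 1333))))))) (.node (.node (.node (.node (.node (.node (.leaf 4043) (.leaf 481)) (.node (.leaf 3358) (.leaf 248))) (.node (.node (.leaf 1913) (.leaf 43)) (.node (.leaf 1924) (.leaf 2238)))) (.node (.node (.node (.leaf 597) (.leaf 775)) (.node (.leaf 3090) (.leaf 2453))) (.node (.node (.leaf 3677) (.leaf 3274)) (.node (.leaf 530) (.leaf 3563))))) (.node (.node (.node (.node (.leaf 1585) (.leaf 1875)) (.node (.leaf 80) (.leaf 3898))) (.node (.node (.leaf 3317) (.leaf 1382)) (.node (.leaf 1592) (.leaf 105)))) (.node (.node (.node (.leaf 1865) (.leaf 1503)) (.node (.leaf 1661) (.leaf 2561))) (.node (.node (.leaf 19) (.leaf 3941)) (.node (.leaf 1359) (.leaf 1726)))))) (.node (.node (.node (.node (.node (.leaf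 2012) (.leaf 566)) (.node (.leaf 2077) (.leaf 1137))) (.node (.node (.leaf 3747) (.leaf 3504)) (.node (.leaf 3859) (.leaf 3101)))) (.node (.node (.node (.leaf 3214) (.leaf 653)) (.node (.leaf 2097) (.leaf 3080))) (.node (.node (.leaf 3248) (.leaf 3792)) (.node (.leaf 3840) (.leaf 1742))))) (.node (.node (.node (.node (.leaf 1090) (.leaf 3191)) (.node (.leaf 3917) (.leaf 3383))) (.node (.node (.leaf 2419) (.leaf 3989)) (.node (.leaf 3303) (.leaf 2108)))) (.node (.node (.node (.leaf 609) (.leaf 1041)) (.node (.leaf 1347) (.leaf 1433))) (.node (.node (.leaf 2957) (.leaf 2323)) (.node (.leaf 3466) (.leaf 1234))))))))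

def twoOrd19 : Janko.Tree (ℕ) :=
  (.node (.node (.node (.node (.node (.node (.node (.leaf 2402) (.leaf 2886)) (.node (.leaf 180) (.leaf 3535))) (.node (.node (.leaf 3342) (.leaf 3691)) (.node (.leaf 522) (.leaf 701)))) (.node (.node (.node (.leaf 793) (.leaf 3564)) (.node (.leaf 306) (.leaf 768))) (.node (.node (.leaf 3777) (.leaf 2375)) (.node (.leaf 773) (.leaf 3200))))) (.node (.node (.node (.node (.leaf 649) (.leaf 706)) (.node (.leaf 2551) (.leaf 2517))) (.node (.node (.leaf 2763) (.leaf 722)) (.node (.leaf 2062) (.leaf 3507)))) (.node (.node (.node (.leaf 1011) (.leaf 2474)) (.node (.leaf 2596) (.leaf 978))) (.node (.node (.leaf 2719) (.leaf 2411)) (.node (.leaf 104) (.leaf 2682)))))) (.node (.node (.node (.node (.node (.leaf 3404) (.leaf 2020)) (.node (.leaf 6) (.leaf 2459))) (.node (.node (.leaf 3330) (.leaf 1395)) (.node (.leaf 3613) (.leaf 2339)))) (.node (.node (.node (.leaf 2582) (.leaf 2421)) (.node (.leaf 846) (.leaf 1204))) (.node (.node (.leaf 1545) (.leaf 1560)) (.node (.leaf 995) (.leaf 3392)))))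 (.node (.node (.node (.node (.leaf 850) (.leaf 3473)) (.node (.leaf 1301) (.leaf 1148))) (.node (.node (.leaf 1356) (.leaf 1365)) (.node (.leaf 3850) (.leaf 1720)))) (.node (.node (.node (.leaf 2016) (.leaf 3014)) (.node (.leaf 2669) (.leaf 318))) (.node (.node (.leaf 2253) (.leaf 755)) (.node (.leaf 737) (.leaf 473))))))) (.node (.node (.node (.node (.node (.node (.leaf 681) (.leaf 2401)) (.node (.leaf 2798) (.leaf 2736))) (.node (.node (.leaf 3010) (.leaf 962)) (.node (.leaf 2541) (.leaf 1103)))) (.node (.node (.node (.leaf 2246) (.leaf 1754)) (.node (.leaf 3244) (.leaf 378))) (.node (.node (.leaf 381) (.leaf 1804)) (.node (.leaf 3629) (.leaf 2732))))) (.node (.node (.node (.node (.leaf 2415) (.leaf 3409)) (.node (.leaf 2678) (.leaf 3746))) (.node (.node (.leaf 4070) (.leaf 3879)) (.node (.leaf 3817) (.leaf 1883)))) (.node (.node (.node (.leaf 411) (.leaf 2889)) (.node (.leaf 971) (.leaf 3344))) (.node (.node (.leaf 929) (.leaf 1969)) (.node (.leaf 664) (.leaf 3641)))))) (.node (.node (.node (.node (.node (.leaf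 233) (.leaf 2408)) (.node (.leaf 3977) (.leaf 769))) (.node (.node (.leaf 2204) (.leaf 319)) (.node (.leaf 2240) (.leaf 557)))) (.node (.node (.node (.leaf 1280) (.leaf 1710)) (.node (.leaf 1685) (.leaf 1609))) (.node (.node (.leaf 4086) (.leaf 3407)) (.node (.leaf 1282) (.leaf 484))))) (.node (.node (.node (.node (.leaf 178) (.leaf 1237)) (.node (.leaf 2283) (.leaf 2160))) (.node (.node (.leaf 345) (.leaf 1582)) (.node (.leaf 2180) (.leaf 461)))) (.node (.node (.node (.leaf 2892) (.leaf 1576)) (.node (.leaf 1498) (.leaf 1432))) (.node (.node (.leaf 1270) (.leaf 1899)) (.node (.leaf 1943) (.leaf 1025))))))))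

def twoOrd20 : Janko.Tree (ℕ) :=
  (.node (.node (.node (.node (.node (.node (.node (.leaf 1734) (.leaf 888)) (.node (.leaf 3494) (.leaf 3033))) (.node (.node (.leaf 507) (.leaf 3063)) (.node (.leaf 1488) (.leaf 1444)))) (.node (.node (.node (.leaf 1526) (.leaf 242)) (.node (.leaf 454) (.leaf 3226))) (.node (.node (.leaf 3166) (.leaf 2114)) (.node (.leaf 3707) (.leaf 438))))) (.node (.node (.node (.node (.leaf 3984) (.leaf 1947)) (.node (.leaf 624) (.leaf 1194))) (.node (.node (.leaf 1109) (.leaf 2480)) (.node (.leaf 1058) (.leaf 2754)))) (.node (.node (.node (.leaf 2583) (.leaf 1809)) (.node (.leaf 2909) (.leaf 1959))) (.node (.node (.leaf 1727) (.leaf 4025)) (.node (.leaf 3670) (.leaf 2842)))))) (.node (.node (.node (.node (.node (.leaf 2720) (.leaf 1667)) (.node (.leaf 3833) (.leaf 3127))) (.node (.node (.leaf 3606) (.leaf 505)) (.node (.leaf 398) (.leaf 2674)))) (.node (.node (.node (.leaf 2430) (.leaf 3469)) (.node (.leaf 887) (.leaf 3688))) (.node (.node (.leaf 615) (.leaf 1680)) (.node (.leaf 359) (.leaf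 2662))))) (.node (.node (.node (.node (.leaf 1404) (.leaf 1611)) (.node (.leaf 2679) (.leaf 1428))) (.node (.node (.leaf 2757) (.leaf 365)) (.node (.leaf 2488) (.leaf 181)))) (.node (.node (.node (.leaf 1620) (.leaf 891)) (.node (.leaf 695) (.leaf 2142))) (.node (.node (.leaf 1022) (.leaf 1825)) (.node (.leaf 3432) (.leaf 1709))))))) (.node (.node (.node (.node (.node (.node (.leaf 1426) (.leaf 1676)) (.node (.leaf 1696) (.leaf 1786))) (.node (.node (.leaf 3454) (.leaf 682)) (.node (.leaf 3638) (.leaf 1471)))) (.node (.node (.node (.leaf 219) (.leaf 346)) (.node (.leaf 1004) (.leaf 24))) (.node (.node (.leaf 3611) (.leaf 384)) (.node (.leaf 2863) (.leaf 541))))) (.node (.node (.node (.node (.leaf 3657) (.leaf 89)) (.node (.leaf 928) (.leaf 2326))) (.node (.node (.leaf 2101) (.leaf 3548)) (.node (.leaf 800) (.leaf 155)))) (.node (.node (.node (.leaf 458) (.leaf 2435)) (.node (.leaf 2954) (.leaf 3655))) (.node (.node (.leaf 173) (.leaf 818)) (.node (.leaf 2588) (.leaf 1816)))))) (.node (.node (.node (.node (.node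 (.leaf 3372) (.leaf 304)) (.node (.leaf 1922) (.leaf 1499))) (.node (.node (.leaf 2250) (.leaf 379)) (.node (.leaf 2708) (.leaf 1860)))) (.node (.node (.node (.leaf 2307) (.leaf 2476)) (.node (.leaf 1511) (.leaf 3911))) (.node (.node (.leaf 1374) (.leaf 2440)) (.node (.leaf 1568) (.leaf 252))))) (.node (.node (.node (.node (.leaf 2968) (.leaf 947)) (.node (.leaf 589) (.leaf 3345))) (.node (.node (.leaf 684) (.leaf 3698)) (.node (.leaf 2394) (.leaf 1319)))) (.node (.node (.node (.leaf 278) (.leaf 1645)) (.node (.leaf 2844) (.leaf 1072))) (.node (.node (.leaf 35) (.leaf 3449)) (.node (.leaf 3990) (.leaf 1330))))))))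

def twoOrd21 : Janko.Tree (ℕ) :=
  (.node (.node (.node (.node (.node (.node (.node (.leaf 2126) (.leaf 1481)) (.node (.leaf 1718) (.leaf 1265))) (.node (.node (.leaf 529) (.leaf 2743)) (.node (.leaf 613) (.leaf 3148)))) (.node (.node (.node (.leaf 3843) (.leaf 1618)) (.node (.leaf 3006) (.leaf 1556))) (.node (.node (.leaf 500) (.leaf 3193)) (.node (.leaf 1604) (.leaf 437))))) (.node (.node (.node (.node (.leaf 1564) (.leaf 1635)) (.node (.leaf 1054) (.leaf 2272))) (.node (.node (.leaf 538) (.leaf 1052)) (.node (.leaf 192) (.leaf 3573)))) (.node (.node (.node (.leaf 4067) (.leaf 3591)) (.node (.leaf 3206) (.leaf 1935))) (.node (.node (.leaf 1634) (.leaf 2759)) (.node (.leaf 377) (.leaf 2321)))))) (.node (.node (.node (.node (.node (.leaf 2058) (.leaf 2094)) (.node (.leaf 1067) (.leaf 2554))) (.node (.node (.leaf 1464) (.leaf 1048)) (.node (.leaf 2492) (.leaf 1278)))) (.node (.node (.node (.leaf 4015) (.leaf 2655)) (.node (.leaf 2531) (.leaf 1150))) (.node (.node (.leaf 2113) (.leaf 354)) (.node (.leaf 494) (.leaf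 1708))))) (.node (.node (.node (.node (.leaf 3216) (.leaf 2118)) (.node (.leaf 3771) (.leaf 13))) (.node (.node (.leaf 2505) (.leaf 2130)) (.node (.leaf 840) (.leaf 1093)))) (.node (.node (.node (.leaf 3412) (.leaf 1745)) (.node (.leaf 838) (.leaf 1736))) (.node (.node (.leaf 289) (.leaf 2672)) (.node (.leaf 3810) (.leaf 1693))))))) (.node (.node (.node (.node (.node (.node (.leaf 1643) (.leaf 1666)) (.node (.leaf 4036) (.leaf 231))) (.node (.node (.leaf 1053) (.leaf 2801)) (.node (.leaf 3695) (.leaf 1181)))) (.node (.node (.node (.leaf 938) (.leaf 477)) (.node (.leaf 2767) (.leaf 425))) (.node (.node (.leaf 1776) (.leaf 422)) (.node (.leaf 1030) (.leaf 1370))))) (.node (.node (.node (.node (.leaf 1858) (.leaf 3444)) (.node (.leaf 389) (.leaf 4045))) (.node (.node (.leaf 2313) (.leaf 3511)) (.node (.leaf 3598) (.leaf 1602)))) (.node (.node (.node (.leaf 2369) (.leaf 2434)) (.node (.leaf 3131) (.leaf 2836))) (.node (.node (.leaf 3128) (.leaf 2151)) (.node (.leaf 3297) (.leaf 2231)))))) (.node (.node (.node (.node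 (.node (.leaf 2981) (.leaf 1061)) (.node (.leaf 777) (.leaf 2698))) (.node (.node (.leaf 57) (.leaf 1363)) (.node (.leaf 735) (.leaf 2722)))) (.node (.node (.node (.leaf 3902) (.leaf 3814)) (.node (.leaf 4028) (.leaf 2225))) (.node (.node (.leaf 3294) (.leaf 542)) (.node (.leaf 460) (.leaf 3263))))) (.node (.node (.node (.node (.leaf 1673) (.leaf 2656)) (.node (.leaf 211) (.leaf 2263))) (.node (.node (.leaf 2950) (.leaf 2521)) (.node (.leaf 1979) (.leaf 3347)))) (.node (.node (.node (.leaf 1844) (.leaf 3692)) (.node (.leaf 2716) (.leaf 3970))) (.node (.node (.leaf 2061) (.leaf 1001)) (.node (.leaf 332) (.leaf 1409))))))))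

def twoOrd22 : Janko.Tree (ℕ) :=
  (.node (.node (.node (.node (.node (.node (.node (.leaf 2646) (.leaf 2175)) (.node (.leaf 133) (.leaf 849))) (.node (.node (.leaf 975) (.leaf 3794)) (.node (.leaf 2201) (.leaf 1209)))) (.node (.node (.node (.leaf 662) (.leaf 2781)) (.node (.leaf 427) (.leaf 2639))) (.node (.node (.leaf 1304) (.leaf 807)) (.node (.leaf 1699) (.leaf 859))))) (.node (.node (.node (.node (.leaf 1849) (.leaf 2033)) (.node (.leaf 610) (.leaf 3793))) (.node (.node (.leaf 3268) (.leaf 2217)) (.node (.leaf 1778) (.leaf 99)))) (.node (.node (.node (.leaf 185) (.leaf 3937)) (.node (.leaf 3668) (.leaf 1292))) (.node (.node (.leaf 2963) (.leaf 2466)) (.node (.leaf 3987) (.leaf 274)))))) (.node (.node (.node (.node (.node (.leaf 2147) (.leaf 1625)) (.node (.leaf 2977) (.leaf 179))) (.node (.node (.leaf 1414) (.leaf 3509)) (.node (.leaf 205) (.leaf 2530)))) (.node (.node (.node (.leaf 3587) (.leaf 1944)) (.node (.leaf 2294) (.leaf 811))) (.node (.node (.leaf 131) (.leaf 235)) (.node (.leaf 176) (.leaf 3773)))))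 (.node (.node (.node (.node (.leaf 55) (.leaf 2464)) (.node (.leaf 2742) (.leaf 221))) (.node (.node (.leaf 3539) (.leaf 3189)) (.node (.leaf 2812) (.leaf 879)))) (.node (.node (.node (.leaf 152) (.leaf 2449)) (.node (.leaf 1230) (.leaf 3465))) (.node (.node (.leaf 1394) (.leaf 2540)) (.node (.leaf 2006) (.leaf 3745))))))) (.node (.node (.node (.node (.node (.node (.leaf 726) (.leaf 2922)) (.node (.leaf 3054) (.leaf 2024))) (.node (.node (.leaf 2218) (.leaf 1890)) (.node (.leaf 2876) (.leaf 137)))) (.node (.node (.node (.leaf 1064) (.leaf 3949)) (.node (.leaf 1800) (.leaf 1074))) (.node (.node (.leaf 2000) (.leaf 324)) (.node (.leaf 760) (.leaf 148))))) (.node (.node (.node (.node (.leaf 11) (.leaf 2340)) (.node (.leaf 915) (.leaf 2491))) (.node (.node (.leaf 2360) (.leaf 453)) (.node (.leaf 2898) (.leaf 2921)))) (.node (.node (.node (.leaf 2989) (.leaf 1494)) (.node (.leaf 3725) (.leaf 1034))) (.node (.node (.leaf 356) (.leaf 3055)) (.node (.leaf 3327) (.leaf 745)))))) (.node (.node (.node (.node (.node (.leaf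 143) (.leaf 1697)) (.node (.leaf 3753) (.leaf 2513))) (.node (.node (.leaf 3471) (.leaf 3239)) (.node (.leaf 688) (.leaf 3577)))) (.node (.node (.node (.leaf 3424) (.leaf 552)) (.node (.leaf 645) (.leaf 3615))) (.node (.node (.leaf 1112) (.leaf 1522)) (.node (.leaf 2873) (.leaf 3481))))) (.node (.node (.node (.node (.leaf 2107) (.leaf 1686)) (.node (.leaf 2972) (.leaf 1408))) (.node (.node (.leaf 774) (.leaf 3198)) (.node (.leaf 2154) (.leaf 3901)))) (.node (.node (.node (.leaf 634) (.leaf 2937)) (.node (.leaf 1456) (.leaf 2833))) (.node (.node (.leaf 1752) (.leaf 1407)) (.node (.leaf 2143) (.leaf 933))))))))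

def twoOrd23 : Janko.Tree (ℕ) :=
  (.node (.node (.node (.node (.node (.node (.node (.leaf 924) (.leaf 692)) (.node (.leaf 2861) (.leaf 269))) (.node (.node (.leaf 2959) (.leaf 3802)) (.node (.leaf 2059) (.leaf 2133)))) (.node (.node (.node (.leaf 3640) (.leaf 4063)) (.node (.leaf 3618) (.leaf 2860))) (.node (.node (.leaf 255) (.leaf 2971)) (.node (.leaf 3717) (.leaf 1290))))) (.node (.node (.node (.node (.leaf 238) (.leaf 772)) (.node (.leaf 520) (.leaf 183))) (.node (.node (.leaf 3738) (.leaf 1813)) (.node (.leaf 3662) (.leaf 308)))) (.node (.node (.node (.leaf 3391) (.leaf 3312)) (.node (.leaf 3694) (.leaf 3032))) (.node (.node (.leaf 921) (.leaf 3774)) (.node (.leaf 2463) (.leaf 1080)))))) (.node (.node (.node (.node (.node (.leaf 868) (.leaf 338)) (.node (.leaf 3051) (.leaf 1762))) (.node (.node (.leaf 4000) (.leaf 2675)) (.node (.leaf 1850) (.leaf 3728)))) (.node (.node (.node (.leaf 491) (.leaf 1841)) (.node (.leaf 1689) (.leaf 495))) (.node (.node (.leaf 2559) (.leaf 2823)) (.node (.leaf 847) (.leaf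 1876))))) (.node (.node (.node (.node (.leaf 3410) (.leaf 134)) (.node (.leaf 1725) (.leaf 2416))) (.node (.node (.leaf 787) (.leaf 2914)) (.node (.leaf 405) (.leaf 2135)))) (.node (.node (.node (.leaf 3001) (.leaf 3950)) (.node (.leaf 1159) (.leaf 935))) (.node (.node (.leaf 3316) (.leaf 1630)) (.node (.leaf 2565) (.leaf 3097))))))) (.node (.node (.node (.node (.node (.node (.leaf 861) (.leaf 1624)) (.node (.leaf 1968) (.leaf 3705))) (.node (.node (.leaf 3003) (.leaf 3060)) (.node (.leaf 3803) (.leaf 3533)))) (.node (.node (.node (.leaf 805) (.leaf 2125)) (.node (.leaf 895) (.leaf 627))) (.node (.node (.leaf 544) (.leaf 945)) (.node (.leaf 835) (.leaf 4081))))) (.node (.node (.node (.node (.leaf 587) (.leaf 1596)) (.node (.leaf 1050) (.leaf 2245))) (.node (.node (.leaf 2633) (.leaf 2472)) (.node (.leaf 739) (.leaf 2587)))) (.node (.node (.node (.leaf 3084) (.leaf 2414)) (.node (.leaf 4089) (.leaf 3018))) (.node (.node (.leaf 1957) (.leaf 3847)) (.node (.leaf 29) (.leaf 3818)))))) (.node (.node (.node (.node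 (.node (.leaf 1789) (.leaf 2199)) (.node (.leaf 549) (.leaf 2412))) (.node (.node (.leaf 2352) (.leaf 1775)) (.node (.leaf 3326) (.leaf 3642)))) (.node (.node (.node (.leaf 2760) (.leaf 4055)) (.node (.leaf 922) (.leaf 3496))) (.node (.node (.leaf 3300) (.leaf 2535)) (.node (.leaf 3085) (.leaf 996))))) (.node (.node (.node (.node (.leaf 655) (.leaf 3929)) (.node (.leaf 672) (.leaf 3264))) (.node (.node (.leaf 608) (.leaf 271)) (.node (.leaf 3995) (.leaf 1160)))) (.node (.node (.node (.leaf 2717) (.leaf 82)) (.node (.leaf 632) (.leaf 293))) (.node (.node (.leaf 1744) (.leaf 4030)) (.node (.leaf 936) (.leaf 303))))))))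

def twoOrd24 : Janko.Tree (ℕ) :=
  (.node (.node (.node (.node (.node (.node (.node (.leaf 2616) (.leaf 40)) (.node (.leaf 705) (.leaf 1518))) (.node (.node (.leaf 4039) (.leaf 2632)) (.node (.leaf 3420) (.leaf 1741)))) (.node (.node (.node (.leaf 1501) (.leaf 1430)) (.node (.leaf 1772) (.leaf 2441))) (.node (.node (.leaf 3712) (.leaf 677)) (.node (.leaf 1948) (.leaf 551))))) (.node (.node (.node (.node (.leaf 2867) (.leaf 136)) (.node (.leaf 2270) (.leaf 2750))) (.node (.node (.leaf 4006) (.leaf 3110)) (.node (.leaf 386) (.leaf 2955)))) (.node (.node (.node (.leaf 578) (.leaf 2973)) (.node (.leaf 3260) (.leaf 1570))) (.node (.node (.leaf 114) (.leaf 1017)) (.node (.leaf 3061) (.leaf 1845)))))) (.node (.node (.node (.node (.node (.leaf 1601) (.leaf 3973)) (.node (.leaf 3785) (.leaf 3185))) (.node (.node (.leaf 2793) (.leaf 2363)) (.node (.leaf 341) (.leaf 824)))) (.node (.node (.node (.leaf 2484) (.leaf 1039)) (.node (.leaf 562) (.leaf 1972))) (.node (.node (.leaf 1482) (.leaf 843)) (.node (.leaf 2969) (.leaf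 1402))))) (.node (.node (.node (.node (.leaf 3856) (.leaf 3931)) (.node (.leaf 2358) (.leaf 1541))) (.node (.node (.leaf 625) (.leaf 2684)) (.node (.leaf 295) (.leaf 2026)))) (.node (.node (.node (.leaf 2918) (.leaf 3257)) (.node (.leaf 403) (.leaf 3447))) (.node (.node (.leaf 3049) (.leaf 1183)) (.node (.leaf 2927) (.leaf 2211))))))) (.node (.node (.node (.node (.node (.node (.leaf 1553) (.leaf 1102)) (.node (.leaf 1165) (.leaf 2821))) (.node (.node (.leaf 2316) (.leaf 3766)) (.node (.leaf 1853) (.leaf 1040)))) (.node (.node (.node (.leaf 1447) (.leaf 1684)) (.node (.leaf 3661) (.leaf 1493))) (.node (.node (.leaf 1312) (.leaf 2956)) (.node (.leaf 1639) (.leaf 2014))))) (.node (.node (.node (.node (.leaf 239) (.leaf 2885)) (.node (.leaf 1) (.leaf 1603))) (.node (.node (.leaf 3271) (.leaf 3582)) (.node (.leaf 110) (.leaf 2035)))) (.node (.node (.node (.leaf 3623) (.leaf 1201)) (.node (.leaf 2064) (.leaf 3360))) (.node (.node (.leaf 2555) (.leaf 2297)) (.node (.leaf 3720) (.leaf 2718)))))) (.node (.node (.node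 (.node (.node (.leaf 2822) (.leaf 3285)) (.node (.leaf 1695) (.leaf 2796))) (.node (.node (.leaf 3150) (.leaf 1999)) (.node (.leaf 4016) (.leaf 669)))) (.node (.node (.node (.leaf 2267) (.leaf 1186)) (.node (.leaf 2120) (.leaf 3991))) (.node (.node (.leaf 2644) (.leaf 3784)) (.node (.leaf 3429) (.leaf 1200))))) (.node (.node (.node (.node (.leaf 713) (.leaf 314)) (.node (.leaf 1360) (.leaf 3186))) (.node (.node (.leaf 230) (.leaf 1490)) (.node (.leaf 3669) (.leaf 2150)))) (.node (.node (.node (.leaf 792) (.leaf 2317)) (.node (.leaf 268) (.leaf 264))) (.node (.node (.leaf 1788) (.leaf 490)) (.node (.leaf 1062) (.leaf 2280))))))))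

def twoOrd25 : Janko.Tree (ℕ) :=
  (.node (.node (.node (.node (.node (.node (.node (.leaf 3178) (.leaf 1932)) (.node (.leaf 2117) (.leaf 3019))) (.node (.node (.leaf 909) (.leaf 1756)) (.node (.leaf 622) (.leaf 4069)))) (.node (.node (.node (.leaf 2) (.leaf 759)) (.node (.leaf 1904) (.leaf 2366))) (.node (.node (.leaf 3925) (.leaf 420)) (.node (.leaf 2651) (.leaf 2547))))) (.node (.node (.node (.node (.leaf 1515) (.leaf 2048)) (.node (.leaf 2668) (.leaf 2007))) (.node (.node (.leaf 4080) (.leaf 3806)) (.node (.leaf 2054) (.leaf 3153)))) (.node (.node (.node (.leaf 3138) (.leaf 1389)) (.node (.leaf 1977) (.leaf 174))) (.node (.node (.leaf 1792) (.leaf 2210)) (.node (.leaf 795) (.leaf 592)))))) (.node (.node (.node (.node (.node (.leaf 939) (.leaf 157)) (.node (.leaf 1355) (.leaf 3920))) (.node (.node (.leaf 189) (.leaf 1307)) (.node (.leaf 166) (.leaf 3968)))) (.node (.node (.node (.leaf 1489) (.leaf 3961)) (.node (.leaf 1504) (.leaf 1348))) (.node (.node (.leaf 1287) (.leaf 2862)) (.node (.leaf 525) (.leaf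 814))))) (.node (.node (.node (.node (.leaf 1981) (.leaf 2855)) (.node (.leaf 2609) (.leaf 599))) (.node (.node (.leaf 614) (.leaf 4057)) (.node (.leaf 2232) (.leaf 3672)))) (.node (.node (.node (.leaf 3588) (.leaf 3134)) (.node (.leaf 3497) (.leaf 2088))) (.node (.node (.leaf 3332) (.leaf 1900)) (.node (.leaf 3072) (.leaf 415))))))) (.node (.node (.node (.node (.node (.node (.leaf 2403) (.leaf 2992)) (.node (.leaf 1716) (.leaf 1866))) (.node (.node (.leaf 2704) (.leaf 3825)) (.node (.leaf 2300) (.leaf 483)))) (.node (.node (.node (.leaf 2707) (.leaf 3037)) (.node (.leaf 4011) (.leaf 2433))) (.node (.node (.leaf 2681) (.leaf 3483)) (.node (.leaf 2420) (.leaf 1427))))) (.node (.node (.node (.node (.leaf 3480) (.leaf 3880)) (.node (.leaf 61) (.leaf 1388))) (.node (.node (.leaf 3222) (.leaf 1478)) (.node (.leaf 51) (.leaf 1933)))) (.node (.node (.node (.leaf 3594) (.leaf 628)) (.node (.leaf 1167) (.leaf 2497))) (.node (.node (.leaf 3262) (.leaf 728)) (.node (.leaf 4062) (.leaf 581)))))) (.node (.node (.node (.node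 (.node (.leaf 3169) (.leaf 2776)) (.node (.leaf 2498) (.leaf 633))) (.node (.node (.leaf 305) (.leaf 1248)) (.node (.leaf 1123) (.leaf 3164)))) (.node (.node (.node (.leaf 1607) (.leaf 1485)) (.node (.leaf 115) (.leaf 2695))) (.node (.node (.leaf 119) (.leaf 1873)) (.node (.leaf 2178) (.leaf 3374))))) (.node (.node (.node (.node (.leaf 3523) (.leaf 132)) (.node (.leaf 725) (.leaf 4058))) (.node (.node (.leaf 2037) (.leaf 3841)) (.node (.leaf 4051) (.leaf 2687)))) (.node (.node (.node (.leaf 1587) (.leaf 1472)) (.node (.leaf 595) (.leaf 127))) (.node (.node (.leaf 618) (.leaf 1223)) (.node (.leaf 1091) (.leaf 2575))))))))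

def twoOrd26 : Janko.Tree (ℕ) :=
  (.node (.node (.node (.node (.node (.node (.node (.leaf 704) (.leaf 3165)) (.node (.leaf 1559) (.leaf 652))) (.node (.node (.leaf 3306) (.leaf 1325)) (.node (.leaf 763) (.leaf 2205)))) (.node (.node (.node (.leaf 770) (.leaf 1654)) (.node (.leaf 2109) (.leaf 3179))) (.node (.node (.leaf 3848) (.leaf 191)) (.node (.leaf 142) (.leaf 683))))) (.node (.node (.node (.node (.leaf 820) (.leaf 733)) (.node (.leaf 3697) (.leaf 3726))) (.node (.node (.leaf 2458) (.leaf 2605)) (.node (.leaf 94) (.leaf 1945)))) (.node (.node (.node (.leaf 3800) (.leaf 2625)) (.node (.leaf 3811) (.leaf 208))) (.node (.node (.leaf 1185) (.leaf 1401)) (.node (.leaf 424) (.leaf 1496)))))) (.node (.node (.node (.node (.node (.leaf 2089) (.leaf 3820)) (.node (.leaf 2197) (.leaf 2271))) (.node (.node (.leaf 2084) (.leaf 3340)) (.node (.leaf 2810) (.leaf 3513)))) (.node (.node (.node (.leaf 1619) (.leaf 3396)) (.node (.leaf 2975) (.leaf 575))) (.node (.node (.leaf 524) (.leaf 171)) (.node (.leaf 2045) (.leaf 3132)))))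 (.node (.node (.node (.node (.leaf 2100) (.leaf 983)) (.node (.leaf 1755) (.leaf 2287))) (.node (.node (.leaf 3291) (.leaf 3544)) (.node (.leaf 1291) (.leaf 2762)))) (.node (.node (.node (.leaf 508) (.leaf 370)) (.node (.leaf 3521) (.leaf 952))) (.node (.node (.leaf 3892) (.leaf 2478)) (.node (.leaf 2680) (.leaf 1923))))))) (.node (.node (.node (.node (.node (.node (.leaf 1057) (.leaf 513)) (.node (.leaf 817) (.leaf 3524))) (.node (.node (.leaf 723) (.leaf 2104)) (.node (.leaf 550) (.leaf 1843)))) (.node (.node (.node (.leaf 3763) (.leaf 3572)) (.node (.leaf 309) (.leaf 584))) (.node (.node (.leaf 3160) (.leaf 2374)) (.node (.leaf 1190) (.leaf 2067))))) (.node (.node (.node (.node (.leaf 2890) (.leaf 2901)) (.node (.leaf 2711) (.leaf 1162))) (.node (.node (.leaf 537) (.leaf 573)) (.node (.leaf 348) (.leaf 227)))) (.node (.node (.node (.leaf 3796) (.leaf 2495)) (.node (.leaf 2399) (.leaf 2378))) (.node (.node (.leaf 355) (.leaf 3614)) (.node (.leaf 671) (.leaf 801)))))) (.node (.node (.node (.node (.node (.leaf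 1770) (.leaf 2980)) (.node (.leaf 3443) (.leaf 1586))) (.node (.node (.leaf 4020) (.leaf 3147)) (.node (.leaf 2648) (.leaf 2572)))) (.node (.node (.node (.leaf 3622) (.leaf 1298)) (.node (.leaf 1106) (.leaf 1249))) (.node (.node (.leaf 3981) (.leaf 3942)) (.node (.leaf 3026) (.leaf 2503))))) (.node (.node (.node (.node (.leaf 512) (.leaf 3878)) (.node (.leaf 1344) (.leaf 2279))) (.node (.node (.leaf 527) (.leaf 1012)) (.node (.leaf 3744) (.leaf 3086)))) (.node (.node (.node (.leaf 1500) (.leaf 1830)) (.node (.leaf 2379) (.leaf 3376))) (.node (.node (.leaf 1678) (.leaf 3065)) (.node (.leaf 2145) (.leaf 1060))))))))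

def twoOrd27 : Janko.Tree (ℕ) :=
  (.node (.node (.node (.node (.node (.node (.node (.leaf 1241) (.leaf 2427)) (.node (.leaf 4013) (.leaf 797))) (.node (.node (.leaf 1309) (.leaf 855)) (.node (.leaf 2709) (.leaf 901)))) (.node (.node (.node (.leaf 1706) (.leaf 456)) (.node (.leaf 3151) (.leaf 118))) (.node (.node (.leaf 3566) (.leaf 3537)) (.node (.leaf 2931) (.leaf 1206))))) (.node (.node (.node (.node (.leaf 3685) (.leaf 3953)) (.node (.leaf 919) (.leaf 3782))) (.node (.node (.leaf 531) (.leaf 2526)) (.node (.leaf 2190) (.leaf 1918)))) (.node (.node (.node (.leaf 2274) (.leaf 3356)) (.node (.leaf 1606) (.leaf 357))) (.node (.node (.leaf 4085) (.leaf 1224)) (.node (.leaf 1891) (.leaf 1342)))))) (.node (.node (.node (.node (.node (.leaf 1145) (.leaf 898)) (.node (.leaf 2388) (.leaf 1383))) (.node (.node (.leaf 1839) (.leaf 3074)) (.node (.leaf 1836) (.leaf 1814)))) (.node (.node (.node (.leaf 3388) (.leaf 3414)) (.node (.leaf 1548) (.leaf 455))) (.node (.node (.leaf 298) (.leaf 3854)) (.node (.leaf 779) (.leaf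 2473))))) (.node (.node (.node (.node (.leaf 1746) (.leaf 3966)) (.node (.leaf 478) (.leaf 1135))) (.node (.node (.leaf 1491) (.leaf 1316)) (.node (.leaf 697) (.leaf 3402)))) (.node (.node (.node (.leaf 1714) (.leaf 1250)) (.node (.leaf 158) (.leaf 2622))) (.node (.node (.leaf 2127) (.leaf 3703)) (.node (.leaf 1631) (.leaf 659))))))) (.node (.node (.node (.node (.node (.node (.leaf 920) (.leaf 2953)) (.node (.leaf 3491) (.leaf 1367))) (.node (.node (.leaf 2700) (.leaf 2809)) (.node (.leaf 3108) (.leaf 2009)))) (.node (.node (.node (.leaf 2756) (.leaf 2512)) (.node (.leaf 3220) (.leaf 419))) (.node (.node (.leaf 3948) (.leaf 559)) (.node (.leaf 3124) (.leaf 2915))))) (.node (.node (.node (.node (.leaf 3842) (.leaf 1916)) (.node (.leaf 2195) (.leaf 3081))) (.node (.node (.leaf 1801) (.leaf 2884)) (.node (.leaf 2733) (.leaf 3370)))) (.node (.node (.node (.leaf 369) (.leaf 1584)) (.node (.leaf 98) (.leaf 267))) (.node (.node (.leaf 125) (.leaf 3401)) (.node (.leaf 3992) (.leaf 2962)))))) (.node (.node (.node (.node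 (.node (.leaf 2063) (.leaf 3059)) (.node (.leaf 3357) (.leaf 2891))) (.node (.node (.leaf 2405) (.leaf 1740)) (.node (.leaf 2112) (.leaf 4050)))) (.node (.node (.node (.leaf 3087) (.leaf 440)) (.node (.leaf 487) (.leaf 2730))) (.node (.node (.leaf 1653) (.leaf 3630)) (.node (.leaf 2741) (.leaf 1988))))) (.node (.node (.node (.node (.leaf 1519) (.leaf 2854)) (.node (.leaf 1535) (.leaf 1317))) (.node (.node (.leaf 2671) (.leaf 186)) (.node (.leaf 2936) (.leaf 903)))) (.node (.node (.node (.leaf 1473) (.leaf 2881)) (.node (.leaf 1476) (.leaf 2376))) (.node (.node (.leaf 3041) (.leaf 4091)) (.node (.leaf 3286) (.leaf 3174))))))))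

def twoOrd28 : Janko.Tree (ℕ) :=
  (.node (.node (.node (.node (.node (.node (.node (.leaf 117) (.leaf 3924)) (.node (.leaf 2577) (.leaf 1936))) (.node (.node (.leaf 3895) (.leaf 414)) (.node (.leaf 2290) (.leaf 2943)))) (.node (.node (.node (.leaf 744) (.leaf 1149)) (.node (.leaf 3472) (.leaf 2694))) (.node (.node (.leaf 2830) (.leaf 718)) (.node (.leaf 343) (.leaf 2072))))) (.node (.node (.node (.node (.leaf 3172) (.leaf 3236)) (.node (.leaf 1973) (.leaf 3639))) (.node (.node (.leaf 3052) (.leaf 2051)) (.node (.leaf 2983) (.leaf 1247)))) (.node (.node (.node (.leaf 2506) (.leaf 3517)) (.node (.leaf 4066) (.leaf 3335))) (.node (.node (.leaf 49) (.leaf 642)) (.node (.leaf 3031) (.leaf 2286)))))) (.node (.node (.node (.node (.node (.leaf 2905) (.leaf 3525)) (.node (.leaf 392) (.leaf 3791))) (.node (.node (.leaf 1671) (.leaf 2729)) (.node (.leaf 1069) (.leaf 3289)))) (.node (.node (.node (.leaf 3122) (.leaf 3882)) (.node (.leaf 2847) (.leaf 1289))) (.node (.node (.leaf 1357) (.leaf 1956)) (.node (.leaf 408) (.leaf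 3805))))) (.node (.node (.node (.node (.leaf 2816) (.leaf 3180)) (.node (.leaf 3311) (.leaf 882))) (.node (.node (.leaf 523) (.leaf 3215)) (.node (.leaf 1435) (.leaf 3828)))) (.node (.node (.node (.leaf 976) (.leaf 543)) (.node (.leaf 3849) (.leaf 3985))) (.node (.node (.leaf 2630) (.leaf 1228)) (.node (.leaf 3343) (.leaf 1523))))))) (.node (.node (.node (.node (.node (.node (.leaf 3826) (.leaf 2019)) (.node (.leaf 2570) (.leaf 1805))) (.node (.node (.leaf 2129) (.leaf 1424)) (.node (.leaf 3913) (.leaf 1629)))) (.node (.node (.node (.leaf 546) (.leaf 2608)) (.node (.leaf 536) (.leaf 941))) (.node (.node (.leaf 2737) (.leaf 2735)) (.node (.leaf 76) (.leaf 1147))))) (.node (.node (.node (.node (.leaf 1495) (.leaf 3455)) (.node (.leaf 1861) (.leaf 450))) (.node (.node (.leaf 3411) (.leaf 1595)) (.node (.leaf 168) (.leaf 1623)))) (.node (.node (.node (.leaf 1208) (.leaf 26)) (.node (.leaf 1690) (.leaf 1315))) (.node (.node (.leaf 172) (.leaf 2224)) (.node (.leaf 1534) (.leaf 4)))))) (.node (.node (.node (.node (.node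 (.leaf 558) (.leaf 3555)) (.node (.leaf 3837) (.leaf 3095))) (.node (.node (.leaf 981) (.leaf 3307)) (.node (.leaf 679) (.leaf 21)))) (.node (.node (.node (.leaf 3349) (.leaf 1411)) (.node (.leaf 2610) (.leaf 1717))) (.node (.node (.leaf 1557) (.leaf 1391)) (.node (.leaf 1573) (.leaf 2799))))) (.node (.node (.node (.node (.leaf 2158) (.leaf 2524)) (.node (.leaf 2116) (.leaf 485))) (.node (.node (.leaf 907) (.leaf 2839)) (.node (.leaf 3406) (.leaf 3943)))) (.node (.node (.node (.leaf 83) (.leaf 1141)) (.node (.leaf 9) (.leaf 3871))) (.node (.node (.leaf 2807) (.leaf 2254)) (.node (.leaf 2312) (.leaf 2585))))))))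

def twoOrd29 : Janko.Tree (ℕ) :=
  (.node (.node (.node (.node (.node (.node (.node (.leaf 2203) (.leaf 2988)) (.node (.leaf 300) (.leaf 2308))) (.node (.node (.leaf 2658) (.leaf 3071)) (.node (.leaf 407) (.leaf 312)))) (.node (.node (.node (.leaf 2041) (.leaf 2916)) (.node (.leaf 60) (.leaf 3247))) (.node (.node (.leaf 890) (.leaf 2539)) (.node (.leaf 2774) (.leaf 1974))))) (.node (.node (.node (.node (.leaf 2825) (.leaf 1111)) (.node (.leaf 2525) (.leaf 2068))) (.node (.node (.leaf 1368) (.leaf 3426)) (.node (.leaf 2461) (.leaf 1439)))) (.node (.node (.node (.leaf 3918) (.leaf 451)) (.node (.leaf 1118) (.leaf 1078))) (.node (.node (.leaf 977) (.leaf 1963)) (.node (.leaf 3119) (.leaf 3333)))))) (.node (.node (.node (.node (.node (.leaf 2400) (.leaf 946)) (.node (.leaf 758) (.leaf 1598))) (.node (.node (.leaf 3323) (.leaf 3283)) (.node (.leaf 44) (.leaf 3647)))) (.node (.node (.node (.leaf 151) (.leaf 1138)) (.node (.leaf 3631) (.leaf 1169))) (.node (.node (.leaf 1597) (.leaf 670)) (.node (.leaf 616) (.leaf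 2606))))) (.node (.node (.node (.node (.leaf 410) (.leaf 916)) (.node (.leaf 1097) (.leaf 1084))) (.node (.node (.leaf 993) (.leaf 2619)) (.node (.leaf 159) (.leaf 3816)))) (.node (.node (.node (.leaf 3863) (.leaf 1919)) (.node (.leaf 1728) (.leaf 2578))) (.node (.node (.leaf 2851) (.leaf 3832)) (.node (.leaf 1300) (.leaf 2475))))))) (.node (.node (.node (.node (.node (.node (.leaf 3658) (.leaf 156)) (.node (.leaf 3390) (.leaf 982))) (.node (.node (.leaf 918) (.leaf 3237)) (.node (.leaf 741) (.leaf 81)))) (.node (.node (.node (.leaf 3502) (.leaf 3233)) (.node (.leaf 3628) (.leaf 751))) (.node (.node (.leaf 1364) (.leaf 3373)) (.node (.leaf 247) (.leaf 2516))))) (.node (.node (.node (.node (.leaf 790) (.leaf 1479)) (.node (.leaf 2424) (.leaf 863))) (.node (.node (.leaf 3353) (.leaf 2900)) (.node (.leaf 2814) (.leaf 2906)))) (.node (.node (.node (.leaf 1986) (.leaf 1076)) (.node (.leaf 3608) (.leaf 999))) (.node (.node (.leaf 492) (.leaf 703)) (.node (.leaf 2409) (.leaf 1886)))))) (.node (.node (.node (.node (.node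 (.leaf 2489) (.leaf 934)) (.node (.leaf 2111) (.leaf 791))) (.node (.node (.leaf 3321) (.leaf 873)) (.node (.leaf 4060) (.leaf 582)))) (.node (.node (.node (.leaf 3478) (.leaf 619)) (.node (.leaf 3435) (.leaf 1007))) (.node (.node (.leaf 139) (.leaf 2557)) (.node (.leaf 2392) (.leaf 3352))))) (.node (.node (.node (.node (.leaf 246) (.leaf 3156)) (.node (.leaf 2043) (.leaf 3933))) (.node (.node (.leaf 1235) (.leaf 786)) (.node (.leaf 2761) (.leaf 2771)))) (.node (.node (.node (.leaf 1577) (.leaf 2558)) (.node (.leaf 217) (.leaf 22))) (.node (.node (.leaf 1484) (.leaf 2705)) (.node (.leaf 3212) (.leaf 2243))))))))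

def twoOrd30 : Janko.Tree (ℕ) :=
  (.node (.node (.node (.node (.node (.node (.node (.leaf 2348) (.leaf 93)) (.node (.leaf 1174) (.leaf 2380))) (.node (.node (.leaf 1269) (.leaf 2276)) (.node (.leaf 992) (.leaf 2370)))) (.node (.node (.node (.leaf 579) (.leaf 2368)) (.node (.leaf 2820) (.leaf 1763))) (.node (.node (.leaf 3965) (.leaf 1769)) (.node (.leaf 2907) (.leaf 1425))))) (.node (.node (.node (.node (.leaf 2385) (.leaf 482)) (.node (.leaf 165) (.leaf 1646))) (.node (.node (.leaf 182) (.leaf 2626)) (.node (.leaf 930) (.leaf 339)))) (.node (.node (.node (.leaf 3492) (.leaf 2777)) (.node (.leaf 2515) (.leaf 2282))) (.node (.node (.leaf 2233) (.leaf 3486)) (.node (.leaf 2194) (.leaf 1474)))))) (.node (.node (.node (.node (.node (.leaf 3664) (.leaf 2948)) (.node (.leaf 199) (.leaf 2159))) (.node (.node (.leaf 715) (.leaf 2355)) (.node (.leaf 3696) (.leaf 1798)))) (.node (.node (.node (.leaf 623) (.leaf 334)) (.node (.leaf 1691) (.leaf 429))) (.node (.node (.leaf 3192) (.leaf 2932)) (.node (.leaf 588) (.leaf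 2560))))) (.node (.node (.node (.node (.leaf 3221) (.leaf 1051)) (.node (.leaf 1258) (.leaf 292))) (.node (.node (.leaf 2296) (.leaf 2455)) (.node (.leaf 48) (.leaf 730)))) (.node (.node (.node (.leaf 2260) (.leaf 3724)) (.node (.leaf 2787) (.leaf 884))) (.node (.node (.leaf 3910) (.leaf 1126)) (.node (.leaf 4046) (.leaf 3519))))))) (.node (.node (.node (.node (.node (.node (.leaf 1133) (.leaf 135)) (.node (.leaf 3423) (.leaf 3125))) (.node (.node (.leaf 3575) (.leaf 3894)) (.node (.leaf 3025) (.leaf 2034)))) (.node (.node (.node (.leaf 368) (.leaf 1096)) (.node (.leaf 4021) (.leaf 789))) (.node (.node (.leaf 1275) (.leaf 617)) (.node (.leaf 1561) (.leaf 1617))))) (.node (.node (.node (.node (.leaf 2481) (.leaf 1848)) (.node (.leaf 124) (.leaf 1227))) (.node (.node (.leaf 3610) (.leaf 88)) (.node (.leaf 1941) (.leaf 605)))) (.node (.node (.node (.leaf 851) (.leaf 3593)) (.node (.leaf 1677) (.leaf 4056))) (.node (.node (.leaf 1188) (.leaf 1733)) (.node (.leaf 2804) (.leaf 1593)))))) (.node (.node (.node (.node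 (.node (.leaf 3130) (.leaf 3553)) (.node (.leaf 2874) (.leaf 1218))) (.node (.node (.leaf 864) (.leaf 2132)) (.node (.leaf 1119) (.leaf 748)))) (.node (.node (.node (.leaf 463) (.leaf 3136)) (.node (.leaf 3403) (.leaf 2152))) (.node (.node (.leaf 926) (.leaf 2593)) (.node (.leaf 4095) (.leaf 2278))))) (.node (.node (.node (.node (.leaf 3182) (.leaf 1002)) (.node (.leaf 1056) (.leaf 2685))) (.node (.node (.leaf 1669) (.leaf 2649)) (.node (.leaf 3113) (.leaf 3243)))) (.node (.node (.node (.leaf 2882) (.leaf 2214)) (.node (.leaf 2837) (.leaf 2486))) (.node (.node (.leaf 3241) (.leaf 3686)) (.node (.leaf 2223) (.leaf 1261))))))))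

def twoOrd31 : Janko.Tree (ℕ) :=
  (.node (.node (.node (.node (.node (.node (.node (.leaf 860) (.leaf 1324)) (.node (.leaf 3457) (.leaf 1806))) (.node (.node (.leaf 3067) (.leaf 2176)) (.node (.leaf 2550) (.leaf 3652)))) (.node (.node (.node (.leaf 1352) (.leaf 150)) (.node (.leaf 3659) (.leaf 925))) (.node (.node (.leaf 2168) (.leaf 3822)) (.node (.leaf 1120) (.leaf 3515))))) (.node (.node (.node (.node (.leaf 3666) (.leaf 1212)) (.node (.leaf 1205) (.leaf 2634))) (.node (.node (.leaf 3495) (.leaf 1855)) (.node (.leaf 371) (.leaf 1662)))) (.node (.node (.node (.leaf 1905) (.leaf 1692)) (.node (.leaf 2696) (.leaf 3873))) (.node (.node (.leaf 1099) (.leaf 3632)) (.node (.leaf 2586) (.leaf 214)))))) (.node (.node (.node (.node (.node (.leaf 195) (.leaf 3217)) (.node (.leaf 2712) (.leaf 539))) (.node (.node (.leaf 71) (.leaf 911)) (.node (.leaf 68) (.leaf 3313)))) (.node (.node (.node (.leaf 4042) (.leaf 101)) (.node (.leaf 1130) (.leaf 1569))) (.node (.node (.leaf 2951) (.leaf 883)) (.node (.leaf 2038) (.leaf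 3996))))) (.node (.node (.node (.node (.leaf 2529) (.leaf 3250)) (.node (.leaf 3421) (.leaf 955))) (.node (.node (.leaf 2840) (.leaf 3626)) (.node (.leaf 241) (.leaf 2563)))) (.node (.node (.node (.leaf 1824) (.leaf 968)) (.node (.leaf 2510) (.leaf 877))) (.node (.node (.leaf 3877) (.leaf 2926)) (.node (.leaf 2162) (.leaf 3176))))))) (.node (.node (.node (.node (.node (.node (.leaf 436) (.leaf 2008)) (.node (.leaf 3105) (.leaf 714))) (.node (.node (.leaf 2052) (.leaf 2469)) (.node (.leaf 2322) (.leaf 563)))) (.node (.node (.node (.leaf 2057) (.leaf 2904)) (.node (.leaf 3075) (.leaf 2888))) (.node (.node (.leaf 819) (.leaf 251)) (.node (.leaf 2784) (.leaf 2603))))) (.node (.node (.node (.node (.leaf 27) (.leaf 3028)) (.node (.leaf 1470) (.leaf 3516))) (.node (.node (.leaf 3442) (.leaf 2079)) (.node (.leaf 256) (.leaf 2018)))) (.node (.node (.node (.leaf 244) (.leaf 637)) (.node (.leaf 1791) (.leaf 4004))) (.node (.node (.leaf 62) (.leaf 3827)) (.node (.leaf 3304) (.leaf 1098)))))) (.node (.node (.node (.node (.node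 (.leaf 2637) (.leaf 1026)) (.node (.leaf 3024) (.leaf 277))) (.node (.node (.leaf 439) (.leaf 3159)) (.node (.leaf 1648) (.leaf 1532)))) (.node (.node (.node (.leaf 2591) (.leaf 3201)) (.node (.leaf 2046) (.leaf 3499))) (.node (.node (.leaf 3930) (.leaf 658)) (.node (.leaf 1927) (.leaf 2166))))) (.node (.node (.node (.node (.leaf 620) (.leaf 2949)) (.node (.leaf 2725) (.leaf 1793))) (.node (.node (.leaf 2121) (.leaf 2887)) (.node (.leaf 1644) (.leaf 3570)))) (.node (.node (.node (.leaf 32) (.leaf 1128)) (.node (.leaf 1343) (.leaf 1267))) (.node (.node (.leaf 3603) (.leaf 3314)) (.node (.leaf 4082) (.leaf 3907))))))))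

def twoOrd : Janko.Tree (ℕ) := (.node (.node (.node (.node (.node twoOrd0 twoOrd16) (.node twoOrd8 twoOrd24)) (.node (.node twoOrd4 twoOrd20) (.node twoOrd12 twoOrd28))) (.node (.node (.node twoOrd2 twoOrd18) (.node twoOrd10 twoOrd26)) (.node (.node twoOrd6 twoOrd22) (.node twoOrd14 twoOrd30)))) (.node (.node (.node (.node twoOrd1 twoOrd17) (.node twoOrd9 twoOrd25)) (.node (.node twoOrd5 twoOrd21) (.node twoOrd13 twoOrd29))) (.node (.node (.node twoOrd3 twoOrd19) (.node twoOrd11 twoOrd27)) (.node (.node twoOrd7 twoOrd23) (.node twoOrd15 twoOrd31)))))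

def twoRels : List (List ℕ) := [[0, 0],
  [1, 1],
  [2, 2],
  [3, 3, 3, 3, 3, 3, 3, 3],
  [2, 3, 3, 2, 3, 3],
  [0, 1, 2, 3, 0, 1, 2, 3],
  [0, 2, 0, 2, 0, 2, 0, 2],
  [0, 2, 0, 2, 3, 3, 3, 3],
  [0, 2, 0, 3, 3, 3, 3, 2],
  [0, 1, 0, 1, 2, 1, 0, 1, 0, 2],
  [0, 1, 0, 2, 0, 2, 1, 2, 0, 2],
  [0, 1, 2, 0, 2, 0, 1, 2, 0, 2],
  [0, 1, 2, 1, 2, 0, 2, 1, 2, 1],
  [0, 1, 2, 1, 3, 0, 1, 2, 1, 3],
  [0, 1, 3, 3, 1, 0, 1, 3, 3, 1],
  [0, 1, 3, 3, 2, 0, 3, 1, 3, 2],
  [0, 1, 3, 3, 3, 3, 1, 2, 0, 2],
  [0, 2, 0, 2, 1, 0, 2, 0, 2, 1],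
  [0, 2, 0, 2, 1, 3, 3, 3, 3, 1],
  [0, 2, 0, 3, 3, 0, 2, 0, 3, 3],
  [0, 2, 1, 2, 3, 3, 0, 3, 1, 3],
  [0, 2, 1, 3, 3, 0, 2, 3, 1, 3],
  [0, 2, 3, 2, 3, 2, 0, 3, 2, 3],
  [0, 3, 1, 2, 1, 0, 3, 1, 2, 1],
  [0, 3, 3, 3, 3, 0, 3, 3, 3, 3],
  [1, 3, 3, 3, 3, 1, 3, 3, 3, 3],
  [2, 3, 3, 3, 3, 2, 3, 3, 3, 3],
  [0, 1, 0, 1, 2, 3, 3, 3, 1, 3, 2, 1],
  [0, 1, 0, 1, 3, 0, 1, 2, 3, 1, 0, 2],
  [0, 1, 0, 1, 3, 3, 0, 1, 0, 1, 3, 3],
  [0, 1, 0, 1, 3, 3, 3, 1, 3, 2, 1, 2],
  [0, 1, 0, 2, 0, 1, 3, 1, 2, 1, 0, 3],
  [0, 1, 0, 2, 0, 2, 1, 0, 3, 3, 3, 3],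
  [0, 1, 0, 2, 0, 3, 0, 1, 0, 2, 0, 3],
  [0, 1, 0, 2, 0, 3, 1, 2, 1, 0, 1, 3],
  [0, 1, 0, 2, 0, 3, 2, 0, 2, 1, 2, 3],
  [0, 1, 0, 2, 1, 0, 2, 1, 0, 2, 1, 2],
  [0, 1, 0, 2, 1, 2, 0, 1, 2, 0, 1, 2],
  [0, 1, 0, 2, 1, 2, 3, 3, 3, 1, 3, 1],
  [0, 1, 0, 2, 3, 0, 3, 3, 0, 1, 3, 2],
  [0, 1, 0, 2, 3, 1, 3, 2, 1, 3, 3, 1],
  [0, 1, 0, 3, 0, 1, 2, 1, 3, 1, 0, 2],
  [0, 1, 0, 3, 1, 3, 0, 1, 0, 3, 1, 3],
  [0, 1, 0, 3, 1, 3, 1, 3, 3, 2, 1, 2],
  [0, 1, 0, 3, 1, 3, 2, 1, 3, 3, 2, 1],
  [0, 1, 0, 3, 3, 1, 0, 1, 0, 3, 3, 1],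
  [0, 1, 0, 3, 3, 1, 2, 1, 2, 3, 1, 3],
  [0, 1, 0, 3, 3, 3, 3, 0, 1, 2, 0, 2],
  [0, 1, 2, 0, 1, 2, 1, 3, 3, 3, 1, 3],
  [0, 1, 2, 0, 1, 2, 3, 1, 3, 1, 3, 3],
  [0, 1, 2, 0, 1, 3, 3, 2, 3, 1, 3, 1],
  [0, 1, 2, 1, 0, 1, 2, 1, 0, 2, 0, 2],
  [0, 1, 2, 1, 0, 1, 2, 1, 3, 3, 3, 3],
  [0, 1, 2, 1, 0, 1, 2, 3, 3, 3, 3, 1],
  [0, 1, 2, 1, 0, 1, 3, 3, 3, 3, 2, 1],
  [0, 1, 2, 1, 0, 3, 3, 3, 3, 1, 2, 1],
  [0, 1, 2, 1, 3, 1, 2, 1, 2, 0, 2, 3],
  [0, 1, 2, 1, 3, 1, 3, 0, 1, 3, 3, 2],
  [0, 1, 2, 1, 3, 3, 1, 2, 1, 0, 3, 3],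
  [0, 1, 2, 3, 0, 1, 3, 3, 2, 3, 3, 3],
  [0, 1, 2, 3, 1, 2, 1, 2, 0, 2, 1, 3],
  [0, 1, 2, 3, 1, 3, 2, 1, 0, 3, 3, 1],
  [0, 1, 2, 3, 2, 0, 2, 1, 0, 2, 0, 3],
  [0, 1, 2, 3, 2, 3, 0, 3, 2, 1, 3, 2],
  [0, 1, 2, 3, 3, 1, 0, 1, 2, 3, 3, 1],
  [0, 1, 2, 3, 3, 1, 2, 1, 0, 3, 1, 3],
  [0, 1, 2, 3, 3, 2, 0, 2, 3, 1, 3, 2],
  [0, 1, 2, 3, 3, 3, 3, 2, 1, 2, 0, 2],
  [0, 1, 3, 0, 2, 1, 0, 3, 0, 3, 2, 3],
  [0, 1, 3, 0, 2, 1, 2, 0, 3, 0, 3, 3],
  [0, 1, 3, 0, 2, 1, 2, 3, 0, 3, 0, 3],
  [0, 1, 3, 0, 2, 1, 3, 0, 3, 0, 2, 3],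
  [0, 1, 3, 0, 3, 1, 0, 1, 3, 0, 3, 1],
  [0, 1, 3, 0, 3, 2, 0, 3, 0, 1, 3, 2],
  [0, 1, 3, 0, 3, 2, 3, 3, 3, 1, 2, 3],
  [0, 1, 3, 1, 0, 3, 0, 1, 3, 1, 0, 3],
  [0, 1, 3, 1, 2, 1, 0, 1, 3, 1, 2, 1],
  [0, 1, 3, 1, 2, 3, 0, 1, 3, 1, 2, 3]]

/-- the certificate -/
def twoCert : CentralLocal.Cert :=
  { act := actB baseB twoGens, one := twoOne, N := 4096, k := 4, q := 0, rels := twoRels, P := 17,
    elt := twoElt, next := twoNext, word := twoWord, par := twoPar, L := twoL, kind := twoKind, rank := twoRank,
    via := twoVia, pv := [16384, 16385, 16386, 16387, 16388, 16389, 16390, 16391, 16393, 16394, 16397, 16398, 16399, 16406, 16411, 16423, 16447] }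

end Cfsg.Agent.Lie.GTwoFourMult
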