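import Cfsg.Agent.Lib.Lie.GTwoFourMult.TwoCert

/-!
Kernel checks of the second half of the variables of the table (generated).
-/

set_option autoImplicit false
set_option maxRecDepth 100000
set_option maxHeartbeats 0
set_option Elab.async false

namespace Cfsg.Agent.Lie.GTwoFourMult

open Cfsg.Agent.Lie PermCover
open Cfsg.Agent.Lie.GTwoFourHallJanko (baseP baseB)

theorem two_vars16 : ((List.range 512).all fun i => twoCert.varCheck (Nat.add 8192 i)) = true := by decide +kernel

theorem two_vars17 : ((List.range 512).all fun i => twoCert.varCheck (Nat.add 8704 i)) = true := by decide +kernel

theorem two_vars18 : ((List.range 512).all fun i => twoCert.varCheck (Nat.add 9216 i)) = true := by decide +kernel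

theorem two_vars19 : ((List.range 512).all fun i => twoCert.varCheck (Nat.add 9728 i)) = true := by decide +kernel

theorem two_vars20 : ((List.range 512).all fun i => twoCert.varCheck (Nat.add 10240 i)) = true := by decide +kernel

theorem two_vars21 : ((List.range 512).all fun i => twoCert.varCheck (Nat.add 10752 i)) = true := by decide +kernel

theorem two_vars22 : ((List.range 512).all fun i => twoCert.varCheck (Nat.add 11264 i)) = true := by decide +kernel

theorem two_vars23 : ((List.range 512).all fun i => twoCert.varCheck (Nat.add 11776 i)) = true := by decide +kernel

theorem two_vars24 : ((List.range 512).all fun i => twoCert.varCheck (Nat.add 12288 i)) = true := by decide +kernel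

theorem two_vars25 : ((List.range 512).all fun i => twoCert.varCheck (Nat.add 12800 i)) = true := by decide +kernel

theorem two_vars26 : ((List.range 512).all fun i => twoCert.varCheck (Nat.add 13312 i)) = true := by decide +kernel

theorem two_vars27 : ((List.range 512).all fun i => twoCert.varCheck (Nat.add 13824 i)) = true := by decide +kernel

theorem two_vars28 : ((List.range 512).all fun i => twoCert.varCheck (Nat.add 14336 i)) = true := by decide +kernel

theorem two_vars29 : ((List.range 512).all fun i => twoCert.varCheck (Nat.add 14848 i)) = true := by decide +kernel

theorem two_vars30 : ((List.range 512).all fun i => twoCert.varCheck (Nat.add 15360 i)) = true := by decide +kernel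

theorem two_vars31 : ((List.range 512).all fun i => twoCert.varCheck (Nat.add 15872 i)) = true := by decide +kernel

theorem two_vars32 : ((List.range 78).all fun i => twoCert.varCheck (Nat.add 16384 i)) = true := by decide +kernel

end Cfsg.Agent.Lie.GTwoFourMult
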